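import Mathlib.Algebra.Homology.DerivedCategory.KProjective
import Mathlib.Algebra.Homology.DerivedCategory.Basic
import Mathlib.Algebra.Homology.DerivedCategory.HomologySequence
import Mathlib.CategoryTheory.Abelian.Basic
import Mathlib.CategoryTheory.ObjectProperty.ClosedUnderIsomorphisms

/-!
Auxiliary lemmas on strictly perfect complexes relative to a class `P` of objects all of which are
"liftable" (epimorphisms onto them split), hence projective.
-/

open CategoryTheory CategoryTheory.Limits CategoryTheory.Pretriangulated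

namespace Groth.Agent.H3.PerfAux

universe w v u
variable {C : Type u} [Category.{v} C] [Abelian C]

lemma projective_of_hlift (P : ObjectProperty C)
    (hlift : ∀ (E F : C) (u : E ⟶ F), Epi u → P F → IsSplitEpi u) (X : C) (hX : P X) :
    Projective X := by
  constructor
  intro E F f e he
  have hs := hlift _ _ (pullback.snd e f) inferInstance hX
  refine ⟨section_ (pullback.snd e f) ≫ pullback.fst e f, ?_⟩
  rw [Category.assoc, pullback.condition, ← Category.assoc, IsSplitEpi.id, Category.id_comp]

lemma isKProjective_of_bounded (P : ObjectProperty C)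
    (hlift : ∀ (E F : C) (u : E ⟶ F), Epi u → P F → IsSplitEpi u)
    (K : CochainComplex C ℤ) (b : ℤ) (hb : ∀ i : ℤ, b < i → IsZero (K.X i)) (hP : ∀ i, P (K.X i)) :
    K.IsKProjective := by
  haveI : K.IsStrictlyLE b := by
    rw [CochainComplex.isStrictlyLE_iff]; exact hb
  haveI : ∀ n, Projective (K.X n) := fun n => projective_of_hlift P hlift _ (hP n)
  exact CochainComplex.isKProjective_of_projective K b

lemma exists_map_of_isKProjective [HasDerivedCategory.{w} C] (K L : CochainComplex C ℤ)
    [K.IsKProjective] (g : DerivedCategory.Q.obj K ⟶ DerivedCategory.Q.obj L) :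
    ∃ f : K ⟶ L, DerivedCategory.Q.map f = g := by
  obtain ⟨h, hh⟩ := (CochainComplex.IsKProjective.Qh_map_bijective K
    ((HomotopyCategory.quotient _ _).obj L)).surjective
    ((DerivedCategory.quotientCompQhIso C).hom.app K ≫ g ≫
      (DerivedCategory.quotientCompQhIso C).inv.app L)
  obtain ⟨f, rfl⟩ := (HomotopyCategory.quotient _ _).map_surjective h
  refine ⟨f, ?_⟩
  have := DerivedCategory.quotientCompQhIso_hom_naturality f
  rw [hh] at this
  simp only [Category.assoc, Iso.inv_hom_id_app, Category.comp_id] at this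
  have h2 := (cancel_epi ((DerivedCategory.quotientCompQhIso C).hom.app K)).1 this
  exact h2.symm

/-- terms of the mapping cone -/
lemma mappingCone_X_prop (P : ObjectProperty C) [P.IsClosedUnderIsomorphisms]
    (hsum : ∀ X Y : C, P X → P Y → P (X ⨯ Y)) {K L : CochainComplex C ℤ} (f : K ⟶ L)
    (i : ℤ) (h₁ : P (K.X (i + 1))) (h₂ : P (L.X i)) :
    P ((CochainComplex.mappingCone f).X i) := by
  have e : (CochainComplex.mappingCone f).X i ≅ K.X (i + 1) ⊞ L.X i :=
    HomologicalComplex.homotopyCofiber.XIsoBiprod f i (i + 1) rfl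
  exact P.prop_of_iso (e ≪≫ biprod.isoProd _ _).symm (hsum _ _ h₁ h₂)

lemma mappingCone_X_isZero {K L : CochainComplex C ℤ} (f : K ⟶ L)
    (i : ℤ) (h₁ : IsZero (K.X (i + 1))) (h₂ : IsZero (L.X i)) :
    IsZero ((CochainComplex.mappingCone f).X i) := by
  have e : (CochainComplex.mappingCone f).X i ≅ K.X (i + 1) ⊞ L.X i :=
    HomologicalComplex.homotopyCofiber.XIsoBiprod f i (i + 1) rfl
  refine IsZero.of_iso ?_ e
  rw [IsZero.iff_id_eq_zero]
  apply biprod.hom_ext
  · exact h₁.eq_of_tgt _ _
  · exact h₂.eq_of_tgt _ _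

end Groth.Agent.H3.PerfAux

namespace Groth.Agent.H3.PerfAux

universe v u
variable {C : Type u} [Category.{v} C] [Abelian C]

/-- `Zⁱ` is the kernel of `Xⁱ ⟶ Zⁱ⁺¹`. -/
noncomputable def kernelToCyclesIso (F : CochainComplex C ℤ) (i j : ℤ) (hij : i + 1 = j) :
    kernel (F.toCycles i j) ≅ F.cycles i where
  hom := F.liftCycles (kernel.ι _) j (by simp [← hij]) (by
    rw [← F.toCycles_i i j, kernel.condition_assoc, zero_comp])
  inv := kernel.lift _ (F.iCycles i) (by
    rw [← cancel_mono (F.iCycles j), Category.assoc, F.toCycles_i, F.iCycles_d, zero_comp])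
  hom_inv_id := by
    rw [← cancel_mono (kernel.ι _), Category.assoc, kernel.lift_ι, F.liftCycles_i, Category.id_comp]
  inv_hom_id := by
    rw [← cancel_mono (F.iCycles i), Category.assoc, F.liftCycles_i, kernel.lift_ι, Category.id_comp]

lemma epi_toCycles_of_isZero_homology (F : CochainComplex C ℤ) (i j : ℤ) (hij : i + 1 = j)
    (h : IsZero (F.homology j)) : Epi (F.toCycles i j) :=
  Preadditive.epi_of_isZero_cokernel' _ (F.homologyIsCokernel i j (by simp [← hij])) h

lemma isZero_cycles_of_isZero (F : CochainComplex C ℤ) (i : ℤ) (h : IsZero (F.X i)) :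
    IsZero (F.cycles i) := by
  rw [IsZero.iff_id_eq_zero, ← cancel_mono (F.iCycles i)]
  exact h.eq_of_tgt _ _

/-- Descending induction: cycles of a bounded above complex, acyclic above `b`, with terms in `P`
from degree `m` on, lie in `P` in degrees `≥ max m b`. -/
lemma cycles_prop (P : ObjectProperty C) [P.IsClosedUnderIsomorphisms] [P.ContainsZero]
    (hst : ∀ (E F : C) (u : E ⟶ F), Epi u → P E → P F → P (kernel u))
    (F : CochainComplex C ℤ) (c : ℤ) (hc : ∀ i : ℤ, c < i → IsZero (F.X i))
    (m : ℤ) (hP : ∀ i : ℤ, m ≤ i → P (F.X i))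
    (b : ℤ) (hb : ∀ i : ℤ, b < i → IsZero (F.homology i)) :
    ∀ i : ℤ, m ≤ i → b ≤ i → P (F.cycles i) := by
  suffices H : ∀ k : ℕ, ∀ i : ℤ, c - i < k → m ≤ i → b ≤ i → P (F.cycles i) by
    intro i hmi hbi
    exact H (c - i + 1).toNat i (by omega) hmi hbi
  intro k
  induction k with
  | zero =>
    intro i hi _ _
    exact P.prop_of_isZero (isZero_cycles_of_isZero F i (hc i (by simpa using hi)))
  | succ k ih =>
    intro i hi hmi hbi
    have h1 : P (F.cycles (i + 1)) := ih (i + 1) (by push_cast at hi; omega) (by omega) (by omega)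
    have hepi : Epi (F.toCycles i (i + 1)) :=
      epi_toCycles_of_isZero_homology F i (i + 1) rfl (hb _ (by omega))
    have h2 := hst _ _ (F.toCycles i (i + 1)) hepi (hP i hmi) h1
    exact P.prop_of_iso (kernelToCyclesIso F i (i + 1) rfl) h2

end Groth.Agent.H3.PerfAux

namespace Groth.Agent.H3.PerfAux

universe w v u
variable {C : Type u} [Category.{v} C] [Abelian C]

lemma prop_of_splitEpi (P : ObjectProperty C) [P.IsClosedUnderIsomorphisms]
    (hsum : ∀ X Y : C, P X → P Y → P (X ⨯ Y)) {X Y : C} (p : X ⟶ Y) [IsSplitEpi p]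
    (hK : P (kernel p)) (hY : P Y) : P X := by
  let S := ShortComplex.mk (kernel.ι p) p (kernel.condition p)
  have hS : S.Exact := ShortComplex.exact_of_f_is_kernel _ (kernelIsKernel p)
  have hm : Mono S.f := by dsimp [S]; infer_instance
  let spl := ShortComplex.Splitting.ofExactOfSection S hS (section_ p) (IsSplitEpi.id p) hm
  have e : X ≅ kernel p ⊞ Y := spl.isoBinaryBiproduct
  exact P.prop_of_iso (e ≪≫ biprod.isoProd _ _).symm (hsum _ _ hK hY)

lemma prop_snd_of_biprod (P : ObjectProperty C) [P.IsClosedUnderIsomorphisms]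
    (hst : ∀ (E F : C) (u : E ⟶ F), Epi u → P E → P F → P (kernel u))
    {X Y : C} (h : P (X ⊞ Y)) (hX : P X) : P Y := by
  have h1 := hst _ _ (biprod.fst : X ⊞ Y ⟶ X) inferInstance h hX
  exact P.prop_of_iso
    (IsLimit.conePointUniqueUpToIso (kernelIsKernel _) (biprod.isKernelFstKernelFork X Y)) h1

lemma mappingCone_acyclic_of_quasiIso [HasDerivedCategory.{w} C] {K L : CochainComplex C ℤ}
    (f : K ⟶ L) [QuasiIso f] (i : ℤ) : IsZero ((CochainComplex.mappingCone f).homology i) := by
  have hT' : DerivedCategory.Q.mapTriangle.obj (CochainComplex.mappingCone.triangle f) ∈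
      distinguishedTriangles := by
    rw [DerivedCategory.mem_distTriang_iff]
    exact ⟨_, _, f, ⟨Iso.refl _⟩⟩
  have hz : IsZero (DerivedCategory.Q.obj (CochainComplex.mappingCone f)) := by
    refine (Triangle.isZero₃_iff_isIso₁ _ hT').2 ?_
    change IsIso (DerivedCategory.Q.map f)
    infer_instance
  have hz2 : IsZero ((DerivedCategory.homologyFunctor C i).obj
      (DerivedCategory.Q.obj (CochainComplex.mappingCone f))) :=
    (DerivedCategory.homologyFunctor C i).map_isZero hz
  exact IsZero.of_iso hz2 ((DerivedCategory.homologyFunctorFactors C i).app _).symm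

end Groth.Agent.H3.PerfAux
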