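import Mathlib

/-!
# Flatness satisfies fpqc and fppf descent
-/

set_option autoImplicit false

open CategoryTheory Limits AlgebraicGeometry MorphismProperty

universe u

namespace Groth.Agent.H3.FlatDesc

lemma flat_codescendsAlong_faithfullyFlat :
    RingHom.CodescendsAlong RingHom.Flat RingHom.FaithfullyFlat := by
  refine .mk _ RingHom.Flat.respectsIso fun R S T _ _ _ _ _ h h' ↦ ?_
  rw [RingHom.flat_algebraMap_iff] at h' ⊢
  rw [RingHom.faithfullyFlat_algebraMap_iff] at h
  exact Module.Flat.of_flat_tensorProduct R T S

lemma flat_descendsAlong_fpqc :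
    DescendsAlong @Flat (@Surjective ⊓ @Flat ⊓ @QuasiCompact : MorphismProperty Scheme.{u}) :=
  HasRingHomProperty.descendsAlong_flat flat_codescendsAlong_faithfullyFlat

lemma flat_descendsAlong_fppf :
    DescendsAlong @Flat
      (@Surjective ⊓ @Flat ⊓ @LocallyOfFinitePresentation : MorphismProperty Scheme.{u}) := by
  haveI := flat_descendsAlong_fpqc.{u}
  infer_instance

lemma surjective_descendsAlong_fppf :
    DescendsAlong @Surjective
      (@Surjective ⊓ @Flat ⊓ @LocallyOfFinitePresentation : MorphismProperty Scheme.{u}) := by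
  infer_instance

lemma lfp_descendsAlong_fppf :
    DescendsAlong @LocallyOfFinitePresentation
      (@Surjective ⊓ @Flat ⊓ @LocallyOfFinitePresentation : MorphismProperty Scheme.{u}) := by
  infer_instance

end Groth.Agent.H3.FlatDesc
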