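import Groth.Agent.Lib.Helper3.FpqcLocal2
import Groth.Agent.Lib.Helper1.FpqcAffine
import Groth.Prelude.Def_NonAbH2
import Mathlib

/-!
# Torsors under affine flat group schemes are affine and flat (helper3)
-/

set_option autoImplicit false

universe u

open CategoryTheory CategoryTheory.Limits MonoidalCategory CartesianMonoidalCategory MonObj
  AlgebraicGeometry

namespace Groth.Agent.H3.TorsAff

variable {S : Scheme.{u}} {G X : Over S} [GrpObj G] (a : AlgGrp.Action G X)

/-- A pseudo-torsor with a section over `T` is trivial over `T`. -/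
theorem exists_iso_of_section (hpt : NonAbH1.IsPseudoTorsorSch a) (T : Over S) (σ : T ⟶ X) :
    ∃ e : G ⊗ T ≅ X ⊗ T, e.hom ≫ snd X T = snd G T := by
  have hΦ : IsIso (lift a.act (snd G X)) := hpt
  have hΦ1 : inv (lift a.act (snd G X)) ≫ a.act = fst X X := by
    rw [IsIso.inv_comp_eq, lift_fst]
  have hΦ2 : inv (lift a.act (snd G X)) ≫ snd G X = snd X X := by
    rw [IsIso.inv_comp_eq, lift_snd]
  let r : G ⊗ T ⟶ G ⊗ X := lift (fst G T) (snd G T ≫ σ)
  let r' : X ⊗ T ⟶ X ⊗ X := lift (fst X T) (snd X T ≫ σ)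
  let θ : G ⊗ T ⟶ X ⊗ T := lift (r ≫ a.act) (snd G T)
  let θ' : X ⊗ T ⟶ G ⊗ T := lift (r' ≫ inv (lift a.act (snd G X)) ≫ fst G X) (snd X T)
  have h1 : θ ≫ θ' = 𝟙 _ := by
    apply CartesianMonoidalCategory.hom_ext
    · have e1 : θ ≫ r' = r ≫ lift a.act (snd G X) := by
        apply CartesianMonoidalCategory.hom_ext
        · simp only [Category.assoc, lift_fst, θ, r']
        · simp only [Category.assoc, lift_snd, θ, r', r, lift_snd_assoc]
      rw [Category.assoc, lift_fst, ← Category.assoc, e1, Category.assoc, IsIso.hom_inv_id_assoc,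
        lift_fst, Category.id_comp]
    · rw [Category.assoc, lift_snd, lift_snd, Category.id_comp]
  have h2 : θ' ≫ θ = 𝟙 _ := by
    apply CartesianMonoidalCategory.hom_ext
    · have e1 : θ' ≫ r = r' ≫ inv (lift a.act (snd G X)) := by
        apply CartesianMonoidalCategory.hom_ext
        · simp only [Category.assoc, lift_fst, θ', r]
        · simp only [Category.assoc, lift_snd, θ', r, r', lift_snd_assoc, hΦ2]
      rw [Category.assoc, lift_fst, ← Category.assoc, e1, Category.assoc, hΦ1, lift_fst,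
        Category.id_comp]
    · rw [Category.assoc, lift_snd, lift_snd, Category.id_comp]
  exact ⟨⟨θ, θ', h1, h2⟩, lift_snd _ _⟩

/-- Scheme-level version. -/
theorem exists_iso_pullback_of_section (hpt : NonAbH1.IsPseudoTorsorSch a) {S' : Scheme.{u}}
    (f : S' ⟶ S) (σ : S' ⟶ X.left) (hσ : σ ≫ X.hom = f) :
    ∃ e : pullback G.hom f ≅ pullback X.hom f,
      e.hom ≫ pullback.snd X.hom f = pullback.snd G.hom f := by
  obtain ⟨e, he⟩ := exists_iso_of_section a hpt (Over.mk f) (Over.homMk σ hσ)
  exact ⟨(Over.forget S).mapIso e, congrArg (fun m => m.left) he⟩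

open Groth.Agent.H3.FpqcLocal in
instance isAffineHom_fpqc :
    MorphismProperty.IsLocalAtTarget @IsAffineHom.{u} Scheme.fpqcPrecoverage := by
  have := Groth.Agent.H1.FpqcAffine.descendsAlong_isAffineHom.{u}
  exact isLocalAtTarget_fpqc _

open Groth.Agent.H3.FpqcLocal in
/-- A property which is fpqc local on the target and stable under base change passes from an
`S`-group scheme to its fpqc torsors. -/
theorem prop_of_isTorsorFor_fpqc (P : MorphismProperty Scheme.{u}) [P.IsStableUnderBaseChange]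
    [P.IsLocalAtTarget Scheme.fpqcPrecoverage]
    (h : NonAbH1.IsTorsorFor Scheme.fpqcPrecoverage a) (hG : P G.hom) : P X.hom := by
  obtain ⟨hpt, R, hR, hsec⟩ := h
  refine MorphismProperty.IsLocalAtTarget.of_forall_pullbackSnd (P := P) hR ?_
  intro S' f _ hf
  obtain ⟨σ, hσ⟩ := hsec f hf
  obtain ⟨e, he⟩ := exists_iso_pullback_of_section a hpt f σ hσ
  rw [← P.cancel_left_of_respectsIso e.hom, he]
  exact P.pullback_snd _ _ hG

/-- **S6004.** -/
theorem isAffineHom_and_flat [IsAffineHom G.hom] [Flat G.hom]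
    (h : NonAbH1.IsTorsorFor Scheme.fpqcPrecoverage a) : IsAffineHom X.hom ∧ Flat X.hom :=
  ⟨prop_of_isTorsorFor_fpqc a @IsAffineHom h inferInstance,
    prop_of_isTorsorFor_fpqc a @Flat h inferInstance⟩

end Groth.Agent.H3.TorsAff
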