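import Mathlib

/-!
# Properties descending along fpqc morphisms are local on the target for the fpqc precoverage
-/

set_option autoImplicit false

open CategoryTheory Limits MorphismProperty AlgebraicGeometry

universe v u

namespace Groth.Agent.H3.FpqcLocal

section general

variable {C : Type u} [Category.{v} C] [HasPullbacks C]

/-- transfer of a base-change-stable property between two pullbacks refining a common one -/
lemma transfer (P : MorphismProperty C) [P.IsStableUnderBaseChange] {X Y A B W : C} (f : X ⟶ Y)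
    (a : A ⟶ Y) (b : B ⟶ Y) (p₁ : W ⟶ A) (p₂ : W ⟶ B) (h : p₁ ≫ a = p₂ ≫ b)
    (hb : P (pullback.snd f b)) : P (pullback.snd (pullback.snd f a) p₁) := by
  have sqA : IsPullback (pullback.fst f a) (pullback.snd f a) f a := IsPullback.of_hasPullback _ _
  have sqA' : IsPullback (pullback.fst (pullback.snd f a) p₁) (pullback.snd (pullback.snd f a) p₁)
      (pullback.snd f a) p₁ := IsPullback.of_hasPullback _ _
  have sqB : IsPullback (pullback.fst f b) (pullback.snd f b) f b := IsPullback.of_hasPullback _ _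
  have big := sqA'.paste_horiz sqA
  rw [h] at big
  have hw : (pullback.fst (pullback.snd f a) p₁ ≫ pullback.fst f a) ≫ f =
      (pullback.snd (pullback.snd f a) p₁ ≫ p₂) ≫ b := by
    simpa only [Category.assoc] using big.w
  have hl : pullback.lift _ _ hw ≫ pullback.fst f b =
      pullback.fst (pullback.snd f a) p₁ ≫ pullback.fst f a := pullback.lift_fst _ _ _
  rw [← hl] at big
  have sq := IsPullback.of_right big (pullback.lift_snd _ _ hw) sqB
  exact P.of_isPullback sq hb

end general

section schemes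

variable (P : MorphismProperty Scheme.{u}) [IsZariskiLocalAtTarget P] [P.IsStableUnderBaseChange]
  [P.DescendsAlong (@Surjective ⊓ @Flat ⊓ @QuasiCompact)]

include P in
lemma aux_affine {X Y : Scheme.{u}} [IsAffine Y] (f : X ⟶ Y)
    (𝒰 : Scheme.Cover.{u} Scheme.fpqcPrecoverage Y)
    (h : ∀ i, P (pullback.snd f (𝒰.f i))) : P f := by
  haveI : QuasiCompactCover (𝒰.weaken Scheme.propQCPrecoverage_le_precoverage).toPreZeroHypercover := by
    rw [← Scheme.presieve₀_mem_qcPrecoverage_iff]
    exact 𝒰.mem₀.1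
  obtain ⟨𝒱, φ, hfin, hopen⟩ := QuasiCompactCover.exists_hom.{u}
    (𝒰.weaken (Scheme.propQCPrecoverage_le_precoverage (P := @Flat)))
  let W : Scheme.{u} := ∐ fun j : 𝒱.I₀ => 𝒱.cover.X j
  let p : W ⟶ Y := Sigma.desc fun j => 𝒱.cover.f j
  have hιp : ∀ j, Sigma.ι (fun j : 𝒱.I₀ => 𝒱.cover.X j) j ≫ p = 𝒱.cover.f j :=
    fun j => Sigma.ι_desc _ _
  have hp : (@Surjective ⊓ @Flat ⊓ @QuasiCompact : MorphismProperty Scheme.{u}) p := by
    refine ⟨⟨⟨fun y => ?_⟩, ?_⟩, ?_⟩
    · obtain ⟨z, hz⟩ := 𝒱.covers y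
      refine ⟨Sigma.ι (fun j : 𝒱.I₀ => 𝒱.cover.X j) (𝒱.idx y) z, ?_⟩
      rw [← Scheme.Hom.comp_apply, hιp]
      exact hz
    · rw [IsZariskiLocalAtSource.iff_of_openCover (P := @Flat) (sigmaOpenCover _)]
      intro j
      exact Eq.mpr (congrArg (fun g => Flat g) (hιp j)) (𝒱.map_prop j)
    · haveI : IsAffine W := inferInstance
      infer_instance
  apply MorphismProperty.of_pullback_snd_of_descendsAlong (P := P)
    (Q := @Surjective ⊓ @Flat ⊓ @QuasiCompact) hp
  rw [IsZariskiLocalAtTarget.iff_of_openCover (P := P) (sigmaOpenCover _)]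
  intro j
  refine transfer P f p (𝒰.f (φ.s₀ j)) _ (φ.h₀ j) ?_ (h _)
  exact (hιp j).trans (φ.w₀ j).symm

include P in
lemma of_cover {X Y : Scheme.{u}} (f : X ⟶ Y) (𝒰 : Scheme.Cover.{u} Scheme.fpqcPrecoverage Y)
    (h : ∀ i, P (pullback.snd f (𝒰.f i))) : P f := by
  rw [IsZariskiLocalAtTarget.iff_of_openCover (P := P) Y.affineCover]
  intro i
  refine aux_affine P (pullback.snd f (Y.affineCover.f i)) (𝒰.pullback₁ (Y.affineCover.f i)) ?_
  intro j
  exact transfer P f (Y.affineCover.f i) (𝒰.f j) (pullback.fst _ _) (pullback.snd _ _)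
    pullback.condition (h j)

/-- a property of morphisms of schemes which is Zariski-local on the target, stable under base
change and descends along fpqc morphisms is local on the target for the fpqc precoverage -/
theorem isLocalAtTarget_fpqc : P.IsLocalAtTarget Scheme.fpqcPrecoverage := by
  haveI : Precoverage.Small.{u} Scheme.fpqcPrecoverage.{u} :=
    inferInstanceAs (Precoverage.Small.{u} (Scheme.propQCPrecoverage @Flat))
  exact IsLocalAtTarget.mk_of_small.{u} (fun _ hf _ => P.pullback_snd _ _ hf)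
    (fun 𝒰 h => of_cover P _ 𝒰 h)

end schemes

end Groth.Agent.H3.FpqcLocal
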