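import Mathlib
import Groth.Agent.Lib.Helper3.FpqcLocal
import Groth.Agent.Lib.Helper3.FlatDesc

/-!
# Concrete properties which are local on the target for the fpqc precoverage
-/

set_option autoImplicit false

open CategoryTheory Limits MorphismProperty AlgebraicGeometry

universe u

namespace Groth.Agent.H3.FpqcLocal

/-- quasi-compactness descends along surjective quasi-compact morphisms -/
lemma quasiCompact_descendsAlong_fpqc :
    MorphismProperty.DescendsAlong @QuasiCompact.{u} (@Surjective ⊓ @Flat ⊓ @QuasiCompact) := by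
  apply DescendsAlong.mk'
  intro X Y Z f g _ hf hfst
  obtain ⟨⟨hf1, _⟩, hf3⟩ := hf
  haveI : QuasiCompact f := hf3
  haveI : QuasiCompact (pullback.fst f g) := hfst
  haveI : Surjective f := hf1
  constructor
  intro U hU hUc
  have h1 : IsCompact (f ⁻¹' U) := QuasiCompact.isCompact_preimage U hU hUc
  have h2 : IsCompact ((pullback.fst f g) ⁻¹' (f ⁻¹' U)) :=
    QuasiCompact.isCompact_preimage _ (hU.preimage f.continuous) h1
  have h3 : (pullback.snd f g) '' ((pullback.fst f g) ⁻¹' (f ⁻¹' U)) = g ⁻¹' U := by
    ext y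
    constructor
    · rintro ⟨w, hw, rfl⟩
      have : g (pullback.snd f g w) = f (pullback.fst f g w) := by
        rw [← Scheme.Hom.comp_apply, ← Scheme.Hom.comp_apply, pullback.condition]
      simpa [this] using hw
    · intro hy
      obtain ⟨x, hx⟩ := f.surjective (g y)
      obtain ⟨w, hw1, hw2⟩ := Scheme.Pullback.exists_preimage_pullback x y hx
      refine ⟨w, ?_, hw2⟩
      simp only [Set.mem_preimage, hw1, hx]
      exact hy
  rw [← h3]
  exact h2.image (pullback.snd f g).continuous

attribute [local instance] quasiCompact_descendsAlong_fpqc FlatDesc.flat_descendsAlong_fpqc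

instance surjective_fpqc : MorphismProperty.IsLocalAtTarget @Surjective.{u} Scheme.fpqcPrecoverage :=
  isLocalAtTarget_fpqc _

instance flat_fpqc : MorphismProperty.IsLocalAtTarget @Flat.{u} Scheme.fpqcPrecoverage :=
  isLocalAtTarget_fpqc _

instance quasiCompact_fpqc :
    MorphismProperty.IsLocalAtTarget @QuasiCompact.{u} Scheme.fpqcPrecoverage :=
  isLocalAtTarget_fpqc _

instance lfp_fpqc :
    MorphismProperty.IsLocalAtTarget @LocallyOfFinitePresentation.{u} Scheme.fpqcPrecoverage :=
  isLocalAtTarget_fpqc _

instance lft_fpqc :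
    MorphismProperty.IsLocalAtTarget @LocallyOfFiniteType.{u} Scheme.fpqcPrecoverage :=
  isLocalAtTarget_fpqc _

instance smooth_fpqc : MorphismProperty.IsLocalAtTarget @Smooth.{u} Scheme.fpqcPrecoverage :=
  isLocalAtTarget_fpqc _

instance etale_fpqc : MorphismProperty.IsLocalAtTarget @Etale.{u} Scheme.fpqcPrecoverage :=
  isLocalAtTarget_fpqc _

instance universallyClosed_fpqc :
    MorphismProperty.IsLocalAtTarget @UniversallyClosed.{u} Scheme.fpqcPrecoverage :=
  isLocalAtTarget_fpqc _

instance universallyInjective_fpqc :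
    MorphismProperty.IsLocalAtTarget @UniversallyInjective.{u} Scheme.fpqcPrecoverage :=
  isLocalAtTarget_fpqc _

instance isOpenImmersion_fpqc :
    MorphismProperty.IsLocalAtTarget @IsOpenImmersion.{u} Scheme.fpqcPrecoverage :=
  isLocalAtTarget_fpqc _

end Groth.Agent.H3.FpqcLocal
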