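import Mathlib.CategoryTheory.EffectiveEpi.Comp
import Mathlib.CategoryTheory.MorphismProperty.Limits
import Mathlib.CategoryTheory.Limits.Shapes.Pullback.IsPullback.Basic

/-! Universal effective epimorphisms in a category with pullbacks (helper3). -/

universe v₁ u₁

namespace Groth.Agent.H3

open CategoryTheory CategoryTheory.Limits Category

variable {C : Type u₁} [Category.{v₁} C]

/-- The class of universal effective epimorphisms. -/
abbrev UEE (C : Type u₁) [Category.{v₁} C] : MorphismProperty C :=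
  MorphismProperty.universally (fun (A B : C) (p : A ⟶ B) => EffectiveEpi p)

theorem UEE.effectiveEpi {X Y : C} {f : X ⟶ Y} (h : UEE C f) : EffectiveEpi f :=
  h (𝟙 X) (𝟙 Y) f IsPullback.of_id_snd

theorem UEE.epi {X Y : C} {f : X ⟶ Y} (h : UEE C f) : Epi f :=
  have := h.effectiveEpi
  inferInstance

theorem UEE.of_isPullback {X Y X' Y' : C} {f : X ⟶ Y} {f' : X' ⟶ Y'} {i₁ : X' ⟶ X} {i₂ : Y' ⟶ Y}
    (h : UEE C f) (sq : IsPullback f' i₁ i₂ f) : UEE C f' := by
  intro X'' Y'' j₁ j₂ f'' sq'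
  exact h (j₁ ≫ i₁) (j₂ ≫ i₂) f'' (sq'.paste_vert sq)

theorem UEE.universally_epi {X Y : C} {f : X ⟶ Y} (h : UEE C f) :
    MorphismProperty.universally (MorphismProperty.epimorphisms C) f := by
  intro X' Y' i₁ i₂ f' sq
  exact (h.of_isPullback sq).epi

theorem UEE.of_isIso {X Y : C} (f : X ⟶ Y) [IsIso f] : UEE C f := by
  intro X' Y' i₁ i₂ f' sq
  have : IsIso f' := sq.isIso_fst_of_isIso
  infer_instance

variable [HasPullbacks C]

/-- If `u` and `v` are effective epimorphisms and `v` is a universal epimorphism,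
then `v ≫ u` is an effective epimorphism. -/
theorem effectiveEpi_comp_of_universally_epi {U T S : C} (v : U ⟶ T) (u : T ⟶ S)
    [EffectiveEpi u] [EffectiveEpi v]
    (hv : MorphismProperty.universally (MorphismProperty.epimorphisms C) v) :
    EffectiveEpi (v ≫ u) := by
  -- key: descent data for `v ≫ u` gives descent data for `u`
  have key : ∀ {W : C} (e : U ⟶ W)
      (_ : ∀ {Z : C} (g₁ g₂ : Z ⟶ U), g₁ ≫ v ≫ u = g₂ ≫ v ≫ u → g₁ ≫ e = g₂ ≫ e)
      (e' : T ⟶ W) (_ : v ≫ e' = e) {Z : C} (h₁ h₂ : Z ⟶ T), h₁ ≫ u = h₂ ≫ u →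
      h₁ ≫ e' = h₂ ≫ e' := by
    intro W e h e' he' Z h₁ h₂ h12
    have : Epi (pullback.fst h₁ v) := hv _ _ _ (IsPullback.of_hasPullback h₁ v)
    have : Epi (pullback.fst (pullback.fst h₁ v ≫ h₂) v) :=
      hv _ _ _ (IsPullback.of_hasPullback (pullback.fst h₁ v ≫ h₂) v)
    have hk : (pullback.fst (pullback.fst h₁ v ≫ h₂) v ≫ pullback.snd h₁ v) ≫ e =
        pullback.snd (pullback.fst h₁ v ≫ h₂) v ≫ e := by
      apply h
      have c1 : pullback.fst h₁ v ≫ h₁ = pullback.snd h₁ v ≫ v := pullback.condition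
      have c2 : pullback.fst (pullback.fst h₁ v ≫ h₂) v ≫ pullback.fst h₁ v ≫ h₂ =
          pullback.snd (pullback.fst h₁ v ≫ h₂) v ≫ v := pullback.condition
      calc (pullback.fst (pullback.fst h₁ v ≫ h₂) v ≫ pullback.snd h₁ v) ≫ v ≫ u
          = pullback.fst (pullback.fst h₁ v ≫ h₂) v ≫ (pullback.snd h₁ v ≫ v) ≫ u := by
            simp only [assoc]
        _ = pullback.fst (pullback.fst h₁ v ≫ h₂) v ≫ (pullback.fst h₁ v ≫ h₁) ≫ u := by rw [c1]
        _ = pullback.fst (pullback.fst h₁ v ≫ h₂) v ≫ pullback.fst h₁ v ≫ h₂ ≫ u := by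
            simp only [assoc, h12]
        _ = (pullback.fst (pullback.fst h₁ v ≫ h₂) v ≫ pullback.fst h₁ v ≫ h₂) ≫ u := by
            simp only [assoc]
        _ = pullback.snd (pullback.fst h₁ v ≫ h₂) v ≫ v ≫ u := by rw [c2, assoc]
    rw [← cancel_epi (pullback.fst h₁ v), ← cancel_epi (pullback.fst (pullback.fst h₁ v ≫ h₂) v)]
    have c1 : pullback.fst h₁ v ≫ h₁ = pullback.snd h₁ v ≫ v := pullback.condition
    have c2 : pullback.fst (pullback.fst h₁ v ≫ h₂) v ≫ pullback.fst h₁ v ≫ h₂ =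
        pullback.snd (pullback.fst h₁ v ≫ h₂) v ≫ v := pullback.condition
    calc pullback.fst (pullback.fst h₁ v ≫ h₂) v ≫ pullback.fst h₁ v ≫ h₁ ≫ e'
        = pullback.fst (pullback.fst h₁ v ≫ h₂) v ≫ (pullback.fst h₁ v ≫ h₁) ≫ e' := by
          simp only [assoc]
      _ = (pullback.fst (pullback.fst h₁ v ≫ h₂) v ≫ pullback.snd h₁ v) ≫ e := by
          rw [c1, ← he']; simp only [assoc]
      _ = pullback.snd (pullback.fst h₁ v ≫ h₂) v ≫ v ≫ e' := by rw [hk, ← he']
      _ = (pullback.fst (pullback.fst h₁ v ≫ h₂) v ≫ pullback.fst h₁ v ≫ h₂) ≫ e' := by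
          rw [c2, assoc]
      _ = pullback.fst (pullback.fst h₁ v ≫ h₂) v ≫ pullback.fst h₁ v ≫ h₂ ≫ e' := by
          simp only [assoc]
  have hv' : ∀ {W : C} (e : U ⟶ W)
      (_ : ∀ {Z : C} (g₁ g₂ : Z ⟶ U), g₁ ≫ v ≫ u = g₂ ≫ v ≫ u → g₁ ≫ e = g₂ ≫ e)
      {Z : C} (g₁ g₂ : Z ⟶ U), g₁ ≫ v = g₂ ≫ v → g₁ ≫ e = g₂ ≫ e := by
    intro W e h Z g₁ g₂ hg
    exact h g₁ g₂ (by rw [← assoc, hg, assoc])
  refine ⟨⟨⟨fun {W} e h => EffectiveEpi.desc u (EffectiveEpi.desc v e (hv' e h))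
        (key e h _ (EffectiveEpi.fac v e (hv' e h))), ?_, ?_⟩⟩⟩
  · intro W e h
    rw [assoc, EffectiveEpi.fac, EffectiveEpi.fac]
  · intro W e h m hm
    apply EffectiveEpi.uniq
    apply EffectiveEpi.uniq
    rw [← assoc]; exact hm

/-- Universal effective epimorphisms are stable under composition. -/
theorem UEE.comp {U T S : C} {v : U ⟶ T} {u : T ⟶ S} (hv : UEE C v) (hu : UEE C u) :
    UEE C (v ≫ u) := by
  intro X' Y' i₁ i₂ f' sq
  -- factor the pullback square through the pullback of `u` along `i₂`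
  let t : X' ⟶ pullback i₂ u := pullback.lift f' (i₁ ≫ v) (by rw [assoc]; exact sq.w)
  have ht1 : t ≫ pullback.fst i₂ u = f' := pullback.lift_fst _ _ _
  have ht2 : t ≫ pullback.snd i₂ u = i₁ ≫ v := pullback.lift_snd _ _ _
  have sq2 : IsPullback (pullback.fst i₂ u) (pullback.snd i₂ u) i₂ u := IsPullback.of_hasPullback i₂ u
  have sq1 : IsPullback t i₁ (pullback.snd i₂ u) v := by
    apply IsPullback.of_right (t := sq2) _ ht2
    rw [ht1]; exact sq
  have : EffectiveEpi (pullback.fst i₂ u) := hu _ _ _ sq2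
  have : EffectiveEpi t := hv _ _ _ sq1
  have := effectiveEpi_comp_of_universally_epi t (pullback.fst i₂ u)
    ((hv.of_isPullback sq1).universally_epi)
  rwa [ht1] at this

/-- If `v ≫ u` is a universal effective epimorphism then so is `u`. -/
theorem UEE.of_comp {U T S : C} (v : U ⟶ T) (u : T ⟶ S) (h : UEE C (v ≫ u)) : UEE C u := by
  -- first: `u` is an effective epimorphism whenever `v ≫ u` is a universal effective epi
  have main : ∀ {U T S : C} (v : U ⟶ T) (u : T ⟶ S), UEE C (v ≫ u) → EffectiveEpi u := by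
    intro U T S v u h
    have := h.effectiveEpi
    -- base change of `v ≫ u` along `u`
    have sqb : IsPullback (pullback.fst u (v ≫ u)) (pullback.snd u (v ≫ u)) u (v ≫ u) :=
      IsPullback.of_hasPullback u (v ≫ u)
    have : EffectiveEpi (pullback.fst u (v ≫ u)) := h _ _ _ sqb
    have hcoeq : ∀ {W : C} (e : T ⟶ W)
        (_ : ∀ {Z : C} (g₁ g₂ : Z ⟶ T), g₁ ≫ u = g₂ ≫ u → g₁ ≫ e = g₂ ≫ e)
        {Z : C} (g₁ g₂ : Z ⟶ U), g₁ ≫ v ≫ u = g₂ ≫ v ≫ u → g₁ ≫ v ≫ e = g₂ ≫ v ≫ e := by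
      intro W e he Z g₁ g₂ hg
      rw [← assoc, ← assoc]
      exact he _ _ (by simpa only [assoc] using hg)
    refine ⟨⟨⟨fun {W} e he => EffectiveEpi.desc (v ≫ u) (v ≫ e) (hcoeq e he), ?_, ?_⟩⟩⟩
    · intro W e he
      have h1 : (v ≫ u) ≫ EffectiveEpi.desc (v ≫ u) (v ≫ e) (hcoeq e he) = v ≫ e :=
        EffectiveEpi.fac _ _ _
      rw [← cancel_epi (pullback.fst u (v ≫ u))]
      have c : pullback.fst u (v ≫ u) ≫ u = pullback.snd u (v ≫ u) ≫ v ≫ u := pullback.condition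
      have h2 : pullback.fst u (v ≫ u) ≫ e = (pullback.snd u (v ≫ u) ≫ v) ≫ e :=
        he _ _ (by rw [c, assoc])
      rw [h2, ← assoc, c, assoc, assoc, assoc]
      rw [assoc] at h1
      rw [h1]
    · intro W e he m hm
      apply EffectiveEpi.uniq
      rw [assoc, hm]
  intro X' Y' i₁ i₂ f' sq
  -- base change of `v` along `i₁`
  have sqv : IsPullback (pullback.fst i₁ v) (pullback.snd i₁ v) i₁ v := IsPullback.of_hasPullback i₁ v
  have sqbig : IsPullback (pullback.fst i₁ v ≫ f') (pullback.snd i₁ v) i₂ (v ≫ u) :=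
    sqv.paste_horiz sq
  exact main (pullback.fst i₁ v) f' (h.of_isPullback sqbig)

omit [HasPullbacks C] in
/-- An effective epimorphism which is a monomorphism is an isomorphism. -/
theorem isIso_of_effectiveEpi_of_mono {X Y : C} (g : X ⟶ Y) [EffectiveEpi g] [Mono g] : IsIso g := by
  have hc : ∀ {Z : C} (g₁ g₂ : Z ⟶ X), g₁ ≫ g = g₂ ≫ g → g₁ ≫ 𝟙 X = g₂ ≫ 𝟙 X := by
    intro Z g₁ g₂ h
    rw [comp_id, comp_id]
    exact (cancel_mono g).mp h
  refine ⟨EffectiveEpi.desc g (𝟙 X) hc, EffectiveEpi.fac g (𝟙 X) hc, ?_⟩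
  rw [← cancel_epi g, ← assoc, EffectiveEpi.fac g (𝟙 X) hc, id_comp, comp_id]

/-- Monomorphisms descend along universal effective epimorphisms. -/
theorem mono_of_isPullback_of_UEE {X Y X' Y' : C} {g : X ⟶ Y} {g' : X' ⟶ Y'} {a : X' ⟶ X}
    {b : Y' ⟶ Y} (sq : IsPullback g' a b g) (hb : UEE C b) [Mono g'] : Mono g := by
  refine ⟨fun {Z} s t hst => ?_⟩
  have sqZ : IsPullback (pullback.fst (s ≫ g) b) (pullback.snd (s ≫ g) b) (s ≫ g) b :=
    IsPullback.of_hasPullback _ _
  have : Epi (pullback.fst (s ≫ g) b) := (hb.of_isPullback sqZ).epi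
  have c : pullback.fst (s ≫ g) b ≫ s ≫ g = pullback.snd (s ≫ g) b ≫ b := pullback.condition
  let s' : pullback (s ≫ g) b ⟶ X' :=
    sq.lift (pullback.snd (s ≫ g) b) (pullback.fst (s ≫ g) b ≫ s) (by rw [assoc, c])
  let t' : pullback (s ≫ g) b ⟶ X' :=
    sq.lift (pullback.snd (s ≫ g) b) (pullback.fst (s ≫ g) b ≫ t) (by rw [assoc, ← hst, c])
  have hs' : s' ≫ g' = t' ≫ g' := by
    rw [sq.lift_fst, sq.lift_fst]
  have h1 : s' = t' := (cancel_mono g').mp hs'
  have h2 : s' ≫ a = t' ≫ a := by rw [h1]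
  rw [sq.lift_snd, sq.lift_snd] at h2
  exact (cancel_epi _).mp h2

/-- Isomorphisms descend along universal effective epimorphisms. -/
theorem isIso_of_isPullback_of_UEE {X Y X' Y' : C} {g : X ⟶ Y} {g' : X' ⟶ Y'} {a : X' ⟶ X}
    {b : Y' ⟶ Y} (sq : IsPullback g' a b g) (hb : UEE C b) [IsIso g'] : IsIso g := by
  have : Mono g := mono_of_isPullback_of_UEE sq hb
  have h1 : UEE C (g' ≫ b) := (UEE.of_isIso g').comp hb
  rw [sq.w] at h1
  have h2 : UEE C g := UEE.of_comp a g h1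
  have := h2.effectiveEpi
  exact isIso_of_effectiveEpi_of_mono g

/-- The base change square of a morphism in `Over S` along `f : S' ⟶ S`. -/
theorem isPullback_overPullback_map {S' S : C} (f : S' ⟶ S) {X Y : Over S} (g : X ⟶ Y) :
    IsPullback ((Over.pullback f).map g).left (pullback.fst X.hom f) (pullback.fst Y.hom f) g.left := by
  have right : IsPullback (pullback.snd Y.hom f) (pullback.fst Y.hom f) f Y.hom :=
    (IsPullback.of_hasPullback Y.hom f).flip
  have hcomm : ((Over.pullback f).map g).left ≫ pullback.fst Y.hom f =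
      pullback.fst X.hom f ≫ g.left := pullback.lift_fst _ _ _
  have htop : ((Over.pullback f).map g).left ≫ pullback.snd Y.hom f = pullback.snd X.hom f :=
    pullback.lift_snd _ _ _
  refine IsPullback.of_right ?_ hcomm right
  rw [htop, Over.w g]
  exact (IsPullback.of_hasPullback X.hom f).flip

/-- If `π` is a universal epimorphism and `π ≫ g` "separates no more than `π`", then `g` is
a monomorphism. -/
theorem mono_of_universally_epi {X B Z : C} (π : X ⟶ B)
    (hπ : MorphismProperty.universally (MorphismProperty.epimorphisms C) π) (g : B ⟶ Z)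
    (h : ∀ {Q : C} (a b : Q ⟶ X), a ≫ π ≫ g = b ≫ π ≫ g → a ≫ π = b ≫ π) : Mono g := by
  refine ⟨fun {W} s t hst => ?_⟩
  have hE : ∀ {W : C} (r : W ⟶ B), Epi (pullback.fst r π) := fun r =>
    hπ _ _ _ (IsPullback.of_hasPullback r π)
  have := hE s
  have := hE (pullback.fst s π ≫ t)
  have c1 : pullback.fst s π ≫ s = pullback.snd s π ≫ π := pullback.condition
  have c2 : pullback.fst (pullback.fst s π ≫ t) π ≫ pullback.fst s π ≫ t =
      pullback.snd (pullback.fst s π ≫ t) π ≫ π := pullback.condition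
  have hab : (pullback.fst (pullback.fst s π ≫ t) π ≫ pullback.snd s π) ≫ π ≫ g =
      pullback.snd (pullback.fst s π ≫ t) π ≫ π ≫ g := by
    calc (pullback.fst (pullback.fst s π ≫ t) π ≫ pullback.snd s π) ≫ π ≫ g
        = pullback.fst (pullback.fst s π ≫ t) π ≫ (pullback.snd s π ≫ π) ≫ g := by
          simp only [assoc]
      _ = pullback.fst (pullback.fst s π ≫ t) π ≫ (pullback.fst s π ≫ s) ≫ g := by rw [c1]
      _ = (pullback.fst (pullback.fst s π ≫ t) π ≫ pullback.fst s π ≫ t) ≫ g := by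
          simp only [assoc, hst]
      _ = pullback.snd (pullback.fst s π ≫ t) π ≫ π ≫ g := by rw [c2, assoc]
  have hfin := h _ _ hab
  rw [← cancel_epi (pullback.fst s π), ← cancel_epi (pullback.fst (pullback.fst s π ≫ t) π)]
  rw [c2, ← hfin, assoc, c1]

end Groth.Agent.H3
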