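import Mathlib
import Groth.Agent.Lib.Helper3.UnivEffEpi

/-!
# Quotients of group objects by subgroup objects: abstract theory, part 1
-/

set_option autoImplicit false

open CategoryTheory Limits MonoidalCategory CartesianMonoidalCategory MonObj

universe v₁ u₁

namespace Groth.Agent.H3.GrpQuot

variable {𝒮 : Type u₁} [Category.{v₁} 𝒮] [CartesianMonoidalCategory 𝒮]

/-- whiskering on the left is a base change -/
lemma isPullback_whiskerLeft (Z : 𝒮) {A B : 𝒮} (f : A ⟶ B) :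
    IsPullback (Z ◁ f) (snd Z A) (snd Z B) f := by
  refine IsPullback.mk' ?_ ?_ ?_
  · simp
  · intro T φ φ' h1 h2
    apply CartesianMonoidalCategory.hom_ext
    · have := congrArg (fun g => g ≫ fst Z B) h1
      simpa using this
    · exact h2
  · intro T x y hxy
    refine ⟨lift (x ≫ fst Z B) y, ?_, ?_⟩
    · apply CartesianMonoidalCategory.hom_ext <;> simp [hxy]
    · simp

/-- whiskering on the right is a base change -/
lemma isPullback_whiskerRight (Z : 𝒮) {A B : 𝒮} (f : A ⟶ B) :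
    IsPullback (f ▷ Z) (fst A Z) (fst B Z) f := by
  refine IsPullback.mk' ?_ ?_ ?_
  · simp
  · intro T φ φ' h1 h2
    apply CartesianMonoidalCategory.hom_ext
    · exact h2
    · have := congrArg (fun g => g ≫ snd B Z) h1
      simpa using this
  · intro T x y hxy
    refine ⟨lift y (x ≫ snd B Z), ?_, ?_⟩
    · apply CartesianMonoidalCategory.hom_ext <;> simp [hxy]
    · simp

lemma UEE.whiskerLeft (Z : 𝒮) {A B : 𝒮} {f : A ⟶ B} (h : UEE 𝒮 f) : UEE 𝒮 (Z ◁ f) :=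
  h.of_isPullback (isPullback_whiskerLeft Z f)

lemma UEE.whiskerRight (Z : 𝒮) {A B : 𝒮} {f : A ⟶ B} (h : UEE 𝒮 f) : UEE 𝒮 (f ▷ Z) :=
  h.of_isPullback (isPullback_whiskerRight Z f)

lemma UEE.tensorHom [HasPullbacks 𝒮] {A B A' B' : 𝒮} {f : A ⟶ B} {g : A' ⟶ B'} (hf : UEE 𝒮 f)
    (hg : UEE 𝒮 g) : UEE 𝒮 (f ⊗ₘ g) := by
  rw [MonoidalCategory.tensorHom_def]
  exact (UEE.whiskerRight A' hf).comp (UEE.whiskerLeft B hg)

/-- refinement of a point along a universal effective epimorphism -/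
lemma UEE.exists_lift [HasPullbacks 𝒮] {A B : 𝒮} {p : A ⟶ B} (hp : UEE 𝒮 p) {T : 𝒮} (x : T ⟶ B) :
    ∃ (T' : 𝒮) (e : T' ⟶ T) (x' : T' ⟶ A), Epi e ∧ e ≫ x = x' ≫ p :=
  ⟨pullback x p, pullback.fst x p, pullback.snd x p,
    (hp.of_isPullback (IsPullback.of_hasPullback x p)).epi, pullback.condition⟩

section rel

variable {G H : 𝒮} [GrpObj G] [GrpObj H] (u : H ⟶ G) [IsMonHom u]

/-- the multiplication map `G ⊗ H ⟶ G` -/
abbrev mmul : G ⊗ H ⟶ G := (G ◁ u) ≫ μ[G]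

lemma mmul_eq : mmul u = fst G H * (snd G H ≫ u) := by
  rw [mmul, MonObj.mul_eq_mul, MonObj.comp_mul, whiskerLeft_fst, whiskerLeft_snd]

lemma comp_mmul {Y : 𝒮} (z : Y ⟶ G ⊗ H) : z ≫ mmul u = (z ≫ fst G H) * ((z ≫ snd G H) ≫ u) := by
  rw [mmul_eq, MonObj.comp_mul, Category.assoc]

lemma lift_mmul {Y : 𝒮} (a : Y ⟶ G) (b : Y ⟶ H) : lift a b ≫ mmul u = a * (b ≫ u) := by
  rw [comp_mmul, lift_fst, lift_snd]

lemma one_comp_hom {Y : 𝒮} : (1 : Y ⟶ H) ≫ u = 1 := by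
  rw [MonObj.one_comp]

variable [Mono u]

lemma jointlyMono : JointlyMono₂ (fst G H) (mmul u) where
  right_cancellation Y f g h1 h2 := by
    rw [comp_mmul, comp_mmul, h1] at h2
    have h3 := _root_.mul_left_cancel h2
    have h4 := (cancel_mono _).mp h3
    exact CartesianMonoidalCategory.hom_ext _ _ h1 h4

variable [HasPullbacks 𝒮]

/-- the relation `G ⊗ H ⇉ G` is an equivalence relation -/
noncomputable def equivRel : EquivalenceRelation (fst G H) (mmul u) where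
  toJointlyMono₂ := jointlyMono u
  r := lift (𝟙 G) 1
  reflexivity₁ := lift_fst _ _
  reflexivity₂ := by rw [lift_mmul, one_comp_hom, _root_.mul_one]
  s := lift (mmul u) (snd G H)⁻¹
  symmetry₁ := lift_fst _ _
  symmetry₂ := by
    rw [lift_mmul, mmul_eq, GrpObj.inv_comp, _root_.mul_inv_cancel_right]
  c := pullback.cone (mmul u) (fst G H)
  isLimit := pullback.isLimit _ _
  t := lift (pullback.fst (mmul u) (fst G H) ≫ fst G H)
    ((pullback.fst (mmul u) (fst G H) ≫ snd G H) * (pullback.snd (mmul u) (fst G H) ≫ snd G H))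
  transitivity₁ := lift_fst _ _
  transitivity₂ := by
    dsimp
    rw [lift_mmul, MonObj.mul_comp, ← _root_.mul_assoc, ← comp_mmul, pullback.condition,
      ← comp_mmul]

end rel

section transport

variable [HasPullbacks 𝒮] {R A : 𝒮} {p₁ p₂ : R ⟶ A}

/-- the coequalizer of a universally effective equivalence relation -/
lemma coequalizer_isKernelPair_and_UEE (e : UniversallyEffectiveEquivalenceRelation p₁ p₂)
    [HasCoequalizer p₁ p₂] :
    IsKernelPair (coequalizer.π p₁ p₂) p₁ p₂ ∧ UEE 𝒮 (coequalizer.π p₁ p₂) := by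
  have hc := EffectiveEquivalenceRelation.isCoequalizer p₁ p₂ e.toEffectiveEquivalenceRelation
  let φ : e.B ⟶ coequalizer p₁ p₂ :=
    Cofork.IsColimit.desc hc (coequalizer.π p₁ p₂) (coequalizer.condition _ _)
  have hφ : e.π ≫ φ = coequalizer.π p₁ p₂ := Cofork.IsColimit.π_desc hc
  let ψ : coequalizer p₁ p₂ ⟶ e.B := coequalizer.desc e.π e.isPushout.w
  have hψ : coequalizer.π p₁ p₂ ≫ ψ = e.π := coequalizer.π_desc _ _
  have h1 : φ ≫ ψ = 𝟙 _ := by
    apply Cofork.IsColimit.hom_ext hc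
    change e.π ≫ φ ≫ ψ = e.π ≫ 𝟙 _
    rw [← Category.assoc, hφ, hψ, Category.comp_id]
  have h2 : ψ ≫ φ = 𝟙 _ := by
    apply coequalizer.hom_ext
    rw [← Category.assoc, hψ, hφ, Category.comp_id]
  have hiso : IsIso φ := ⟨ψ, h1, h2⟩
  rw [← hφ]
  exact ⟨e.isKernelPair.comp_of_mono, UEE.comp e.universally_effectiveEpi_π (UEE.of_isIso _)⟩

end transport

section quot

variable {G H : 𝒮} [GrpObj G] [GrpObj H] (u : H ⟶ G) [IsMonHom u] [HasPullbacks 𝒮]
  {Q : 𝒮} (π : G ⟶ Q) (hkp : IsKernelPair π (fst G H) (mmul u)) (huee : UEE 𝒮 π)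

include hkp in
omit [HasPullbacks 𝒮] in
lemma comp_π_eq_iff {Y : 𝒮} (y₁ y₂ : Y ⟶ G) :
    y₁ ≫ π = y₂ ≫ π ↔ ∃ h : Y ⟶ H, y₂ = y₁ * (h ≫ u) := by
  constructor
  · intro h
    refine ⟨hkp.lift y₁ y₂ h ≫ snd G H, ?_⟩
    have h1 := hkp.lift_fst y₁ y₂ h
    have h2 := hkp.lift_snd y₁ y₂ h
    rw [comp_mmul, h1] at h2
    exact h2.symm
  · rintro ⟨h, rfl⟩
    have h1 : lift y₁ h ≫ fst G H ≫ π = lift y₁ h ≫ mmul u ≫ π := by rw [hkp.w]
    rw [← Category.assoc, ← Category.assoc, lift_fst, lift_mmul] at h1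
    exact h1

include hkp in
omit [HasPullbacks 𝒮] in
lemma act_compat {Z : 𝒮} (g₁ g₂ : Z ⟶ G ⊗ G) (h : g₁ ≫ (G ◁ π) = g₂ ≫ (G ◁ π)) :
    g₁ ≫ μ[G] ≫ π = g₂ ≫ μ[G] ≫ π := by
  have hf : g₁ ≫ fst G G = g₂ ≫ fst G G := by
    have := congrArg (fun f => f ≫ fst G Q) h
    simpa using this
  have hs : (g₁ ≫ snd G G) ≫ π = (g₂ ≫ snd G G) ≫ π := by
    have := congrArg (fun f => f ≫ snd G Q) h
    simpa using this
  obtain ⟨k, hk⟩ := (comp_π_eq_iff u π hkp _ _).1 hs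
  rw [← Category.assoc, ← Category.assoc, comp_π_eq_iff u π hkp]
  refine ⟨k, ?_⟩
  rw [MonObj.mul_eq_mul, MonObj.comp_mul, MonObj.comp_mul, hk, hf, _root_.mul_assoc]

include hkp huee in
/-- the action of `G` on the quotient `Q = G/H` -/
theorem existsUnique_act :
    ∃! act : G ⊗ Q ⟶ Q, (η[G] ▷ Q) ≫ act = (λ_ Q).hom ∧
      (μ[G] ▷ Q) ≫ act = (α_ G G Q).hom ≫ (G ◁ act) ≫ act ∧
      μ[G] ≫ π = (G ◁ π) ≫ act := by
  have hE : EffectiveEpi (G ◁ π) := (UEE.whiskerLeft G huee).effectiveEpi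
  have hfac : (G ◁ π) ≫ EffectiveEpi.desc (G ◁ π) (μ[G] ≫ π)
      (fun g₁ g₂ h => act_compat u π hkp g₁ g₂ h) = μ[G] ≫ π := EffectiveEpi.fac _ _ _
  have hE1 : Epi ((𝟙_ 𝒮) ◁ π) := (UEE.whiskerLeft _ huee).epi
  have hE2 : Epi ((G ⊗ G) ◁ π) := (UEE.whiskerLeft _ huee).epi
  have hE3 : Epi (G ◁ π) := (UEE.whiskerLeft _ huee).epi
  refine ⟨EffectiveEpi.desc (G ◁ π) (μ[G] ≫ π)
      (fun g₁ g₂ h => act_compat u π hkp g₁ g₂ h), ⟨?_, ?_, hfac.symm⟩, ?_⟩
  · rw [← cancel_epi ((𝟙_ 𝒮) ◁ π), ← Category.assoc, whisker_exchange, Category.assoc, hfac,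
      ← Category.assoc, MonObj.one_mul, leftUnitor_naturality]
  · rw [← cancel_epi ((G ⊗ G) ◁ π), ← Category.assoc, whisker_exchange, Category.assoc, hfac,
      ← Category.assoc ((G ⊗ G) ◁ π), associator_naturality_right, Category.assoc,
      ← Category.assoc (G ◁ G ◁ π), ← MonoidalCategory.whiskerLeft_comp, hfac,
      MonoidalCategory.whiskerLeft_comp, Category.assoc, hfac, ← Category.assoc (μ[G] ▷ G),
      MonObj.mul_assoc]
    simp only [Category.assoc]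
  · rintro act' ⟨-, -, h3⟩
    rw [← cancel_epi (G ◁ π), hfac, ← h3]

end quot

end Groth.Agent.H3.GrpQuot
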