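import Mathlib
import Groth.Agent.Lib.Helper3.UnivEffEpi

/-!
# Effective epimorphisms in `Over S`, and fppf covers of schemes
-/

set_option autoImplicit false

open CategoryTheory Limits

universe v u

namespace Groth.Agent.H3.OverUEE

section general

variable {C : Type u} [Category.{v} C] {S : C}

/-- a morphism of `Over S` whose underlying morphism is an effective epi is an effective epi -/
lemma effectiveEpi_of_left {A B : Over S} (f : A ⟶ B) [hf : EffectiveEpi f.left] :
    EffectiveEpi f := by
  haveI : Epi f.left := inferInstance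
  have key : ∀ {W : Over S} (e : A ⟶ W),
      (∀ {Z : Over S} (g₁ g₂ : Z ⟶ A), g₁ ≫ f = g₂ ≫ f → g₁ ≫ e = g₂ ≫ e) →
      ∀ {Z : C} (g₁ g₂ : Z ⟶ A.left), g₁ ≫ f.left = g₂ ≫ f.left → g₁ ≫ e.left = g₂ ≫ e.left := by
    intro W e h Z g₁ g₂ hg
    have hw : g₂ ≫ A.hom = g₁ ≫ A.hom := by
      rw [← Over.w f, ← Category.assoc, ← hg, Category.assoc]
    have := h (Z := Over.mk (g₁ ≫ A.hom)) (Over.homMk g₁ rfl) (Over.homMk g₂ hw)
      (by ext; simpa using hg)
    have := congrArg (fun t => t.left) this
    simpa using this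
  have hdesc : ∀ {W : Over S} (e : A ⟶ W)
      (h : ∀ {Z : Over S} (g₁ g₂ : Z ⟶ A), g₁ ≫ f = g₂ ≫ f → g₁ ≫ e = g₂ ≫ e),
      EffectiveEpi.desc f.left e.left (key e h) ≫ W.hom = B.hom := by
    intro W e h
    rw [← cancel_epi f.left, ← Category.assoc, EffectiveEpi.fac, Over.w e, Over.w f]
  refine ⟨⟨{ desc := fun e h => Over.homMk (EffectiveEpi.desc f.left e.left (key e h)) (hdesc e h)
             fac := ?_
             uniq := ?_ }⟩⟩
  · intro W e h
    ext
    simp [EffectiveEpi.fac]
  · intro W e h m hm
    ext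
    simp only [Over.homMk_left]
    apply EffectiveEpi.uniq
    rw [← hm]
    rfl

end general

section schemes

open AlgebraicGeometry

variable {S : Scheme.{u}}

/-- an fppf cover in `Over S` is a universal effective epimorphism -/
lemma uee_of_fppf {A B : Over S} (f : A ⟶ B) (h1 : Surjective f.left) (h2 : Flat f.left)
    (h3 : LocallyOfFinitePresentation f.left) : UEE (Over S) f := by
  intro A' B' i₁ i₂ f' sq
  have sq' : IsPullback f'.left i₁.left i₂.left f.left := sq.map (Over.forget S)
  haveI : Surjective f'.left := MorphismProperty.of_isPullback sq'.flip h1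
  haveI : Flat f'.left := MorphismProperty.of_isPullback sq'.flip h2
  haveI : LocallyOfFinitePresentation f'.left := MorphismProperty.of_isPullback sq'.flip h3
  exact effectiveEpi_of_left f'

end schemes

end Groth.Agent.H3.OverUEE
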