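import Mathlib
import Groth.Prelude.Def_ChGrp
import Groth.Prelude.Def_AGF
import Groth.Agent.Lib.Helper3.GrpQuot1
import Groth.Agent.Lib.Helper3.OverUEE

/-!
# Orbit maps, isotropy groups and quotients `G/H` of group schemes
-/

set_option autoImplicit false

open CategoryTheory Limits MonoidalCategory CartesianMonoidalCategory MonObj AlgebraicGeometry

universe u

namespace Groth.Agent.H3.OrbitQuot

open Groth.Agent.H3.GrpQuot

section fpqc

variable {S : Scheme.{u}}

/-- an fpqc cover (quasi-compact, flat, surjective) in `Over S` is a universal effective epi -/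
lemma uee_of_fpqc {A B : Over S} (f : A ⟶ B) (h1 : Surjective f.left) (h2 : Flat f.left)
    (h3 : QuasiCompact f.left) : UEE (Over S) f := by
  intro A' B' i₁ i₂ f' sq
  have sq' : IsPullback f'.left i₁.left i₂.left f.left := sq.map (Over.forget S)
  haveI : Surjective f'.left := MorphismProperty.of_isPullback sq'.flip h1
  haveI : Flat f'.left := MorphismProperty.of_isPullback sq'.flip h2
  haveI : QuasiCompact f'.left := MorphismProperty.of_isPullback sq'.flip h3
  exact OverUEE.effectiveEpi_of_left f'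

end fpqc

variable {S : Scheme.{u}} {G X : Over S} [GrpObj G] (a : AlgGrp.Action G X) (o : 𝟙_ (Over S) ⟶ X)

/-- the orbit map is equivariant -/
lemma whiskerLeft_orbitMap_act : (G ◁ a.orbitMap o) ≫ a.act = μ[G] ≫ a.orbitMap o := by
  apply AlgGrp.Action.hom_ext_lift₂
  intro T g g'
  rw [lift_whiskerLeft_assoc, AlgGrp.Action.comp_orbitMap, ← AlgGrp.Action.lift_mul_act,
    ← Category.assoc, ← Hom.mul_def, AlgGrp.Action.comp_orbitMap]

section isotropy

variable {Go : Over S} [GrpObj Go] (i : Go ⟶ G) [IsMonHom i]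
  (hGo : IsPullback i (toUnit Go) (a.orbitMap o) o)

include hGo in
/-- the kernel pair of the orbit map is `G × G_o` -/
theorem isPullback_of_isotropy :
    IsPullback (fst G Go) ((G ◁ i) ≫ μ[G]) (a.orbitMap o) (a.orbitMap o) := by
  haveI : Mono o := ⟨fun f g h => by
    have h1 : (f ≫ o) ≫ toUnit X = (g ≫ o) ≫ toUnit X := by rw [h]
    rw [Category.assoc, Category.assoc, toUnit_unique (o ≫ toUnit X) (𝟙 _), Category.comp_id,
      Category.comp_id] at h1
    exact h1⟩
  haveI : Mono i := hGo.mono_fst_of_mono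
  have hpt : ∀ {T : Over S} (h : T ⟶ Go), lift (h ≫ i) (toUnit T ≫ o) ≫ a.act = toUnit T ≫ o := by
    intro T h
    rw [← AlgGrp.Action.comp_orbitMap, Category.assoc, hGo.w, ← Category.assoc,
      toUnit_unique (h ≫ toUnit Go) (toUnit T)]
  refine IsPullback.mk' ?_ ?_ ?_
  · apply AlgGrp.Action.hom_ext_lift₂
    intro T g h
    rw [lift_fst_assoc, ← Category.assoc, lift_mmul, AlgGrp.Action.comp_orbitMap,
      AlgGrp.Action.comp_orbitMap, AlgGrp.Action.lift_mul_act, hpt]
  · intro T φ φ' h1 h2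
    exact (jointlyMono i).right_cancellation _ _ h1 h2
  · intro T x y hxy
    have h1 : (x⁻¹ * y) ≫ a.orbitMap o = toUnit T ≫ o := by
      rw [AlgGrp.Action.comp_orbitMap, AlgGrp.Action.lift_mul_act, ← AlgGrp.Action.comp_orbitMap,
        ← hxy, AlgGrp.Action.comp_orbitMap, ← AlgGrp.Action.lift_mul_act, inv_mul_cancel,
        AlgGrp.Action.lift_one_act]
    refine ⟨lift x (hGo.lift (x⁻¹ * y) (toUnit T) h1), lift_fst _ _, ?_⟩
    rw [lift_mmul, hGo.lift_fst, mul_inv_cancel_left]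

end isotropy

section desc

variable {H X' : Over S} [GrpObj H] (i : H ⟶ G) [IsMonHom i]
  (hkp : IsPullback (fst G H) ((G ◁ i) ≫ μ[G]) (a.orbitMap o) (a.orbitMap o))
  (huee : UEE (Over S) (a.orbitMap o))
  (a' : AlgGrp.Action G X') (o' : 𝟙_ (Over S) ⟶ X')
  (ho' : ∀ (T : Over S) (h : T ⟶ H), lift (h ≫ i) (toUnit T ≫ o') ≫ a'.act = toUnit T ≫ o')

include hkp huee ho' in
/-- the universal property of `G/H` for pointed `G`-schemes -/
theorem existsUnique_equivariant :
    ∃! f : X ⟶ X', (G ◁ f) ≫ a'.act = a.act ≫ f ∧ a.orbitMap o ≫ f = a'.orbitMap o' := by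
  haveI hE : EffectiveEpi (a.orbitMap o) := huee.effectiveEpi
  haveI hE2 : Epi (G ◁ a.orbitMap o) := (UEE.whiskerLeft G huee).epi
  have hcompat : ∀ {Z : Over S} (y₁ y₂ : Z ⟶ G), y₁ ≫ a.orbitMap o = y₂ ≫ a.orbitMap o →
      y₁ ≫ a'.orbitMap o' = y₂ ≫ a'.orbitMap o' := by
    intro Z y₁ y₂ h
    obtain ⟨k, rfl⟩ := (comp_π_eq_iff i (a.orbitMap o) hkp y₁ y₂).1 h
    rw [AlgGrp.Action.comp_orbitMap, AlgGrp.Action.comp_orbitMap, AlgGrp.Action.lift_mul_act, ho']
  have hf : a.orbitMap o ≫ EffectiveEpi.desc (a.orbitMap o) (a'.orbitMap o')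
      (fun y₁ y₂ h => hcompat y₁ y₂ h) = a'.orbitMap o' := EffectiveEpi.fac _ _ _
  refine ⟨EffectiveEpi.desc (a.orbitMap o) (a'.orbitMap o') (fun y₁ y₂ h => hcompat y₁ y₂ h),
    ⟨?_, hf⟩, ?_⟩
  · rw [← cancel_epi (G ◁ a.orbitMap o), ← Category.assoc, ← MonoidalCategory.whiskerLeft_comp, hf,
      whiskerLeft_orbitMap_act, ← Category.assoc, whiskerLeft_orbitMap_act, Category.assoc, hf]
  · rintro f' ⟨-, hf'⟩
    rw [← cancel_epi (a.orbitMap o), hf, hf']

end desc

end Groth.Agent.H3.OrbitQuot
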