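import Mathlib
import Groth.Agent.Lib.Helper3.OrbitQuot
import Groth.Agent.Lib.Helper3.FlatDesc
import Groth.Prelude.Def_RedSub

/-!
# Pseudo-torsors trivialised by a point over a cover
-/

set_option autoImplicit false

open CategoryTheory Limits MonoidalCategory CartesianMonoidalCategory MonObj AlgebraicGeometry

universe u

namespace Groth.Agent.H3.OrbitQuot

variable {S : Scheme.{u}} {G X : Over S} [GrpObj G] (a : AlgGrp.Action G X)

/-- a point `x : Y ⟶ X` of a pseudo-torsor trivialises it over `Y`: `(g, y) ↦ (g • x y, y)` is an iso -/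
lemma isIso_trivialisation (hX : IsIso (lift a.act (snd G X))) {Y : Over S} (x : Y ⟶ X) :
    IsIso (lift ((G ◁ x) ≫ a.act) (snd G Y)) := by
  obtain ⟨Θ, hΘ⟩ : ∃ Θ : X ⊗ Y ⟶ G ⊗ Y,
      Θ = lift ((X ◁ x) ≫ inv (lift a.act (snd G X)) ≫ fst G X) (snd X Y) := ⟨_, rfl⟩
  have hΦ' : ∀ {T : Over S} (t : T ⟶ G ⊗ X),
      lift (t ≫ a.act) (t ≫ snd G X) ≫ inv (lift a.act (snd G X)) = t := by
    intro T t
    rw [← comp_lift, Category.assoc, IsIso.hom_inv_id, Category.comp_id]
  have hΦ'2 : ∀ {T : Over S} (t : T ⟶ X ⊗ X),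
      (t ≫ inv (lift a.act (snd G X))) ≫ snd G X = t ≫ snd X X := by
    intro T t
    have h2 : t ≫ inv (lift a.act (snd G X)) ≫ lift a.act (snd G X) ≫ snd X X =
        t ≫ snd X X := by rw [IsIso.inv_hom_id_assoc]
    rw [lift_snd] at h2
    rw [Category.assoc]
    exact h2
  have hΦ'1 : ∀ {T : Over S} (t : T ⟶ X ⊗ X),
      (t ≫ inv (lift a.act (snd G X))) ≫ a.act = t ≫ fst X X := by
    intro T t
    have h2 : t ≫ inv (lift a.act (snd G X)) ≫ lift a.act (snd G X) ≫ fst X X =
        t ≫ fst X X := by rw [IsIso.inv_hom_id_assoc]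
    rw [lift_fst] at h2
    rw [Category.assoc]
    exact h2
  refine ⟨Θ, ?_, ?_⟩
  · rw [hΘ]
    apply CartesianMonoidalCategory.hom_ext
    · rw [Category.assoc, lift_fst, Category.id_comp, ← Category.assoc, ← Category.assoc]
      have : (lift ((G ◁ x) ≫ a.act) (snd G Y) ≫ X ◁ x) =
          lift ((G ◁ x) ≫ a.act) ((G ◁ x) ≫ snd G X) := by
        apply CartesianMonoidalCategory.hom_ext
        · rw [Category.assoc, whiskerLeft_fst, lift_fst, lift_fst]
        · rw [Category.assoc, whiskerLeft_snd, lift_snd_assoc, lift_snd, whiskerLeft_snd]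
      rw [this, hΦ', whiskerLeft_fst]
    · rw [Category.assoc, lift_snd, lift_snd, Category.id_comp]
  · rw [hΘ]
    apply CartesianMonoidalCategory.hom_ext
    · rw [Category.assoc, lift_fst, Category.id_comp]
      have : lift ((X ◁ x) ≫ inv (lift a.act (snd G X)) ≫ fst G X) (snd X Y) ≫ G ◁ x =
          (X ◁ x) ≫ inv (lift a.act (snd G X)) := by
        apply CartesianMonoidalCategory.hom_ext
        · rw [Category.assoc, whiskerLeft_fst, lift_fst, Category.assoc]
        · rw [Category.assoc, whiskerLeft_snd, lift_snd_assoc, hΦ'2, whiskerLeft_snd]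
      rw [← Category.assoc, this, hΦ'1, whiskerLeft_fst]
    · rw [Category.assoc, lift_snd, lift_snd, Category.id_comp]

/-- abstract form of S5234 -/
theorem isTorsor_iff_exists_point [Flat G.hom] [Surjective G.hom]
    [LocallyOfFinitePresentation G.hom] (hX : IsIso (lift a.act (snd G X))) :
    RedSub.IsTorsor a ↔
      ∃ S' : Over S, Surjective S'.hom ∧ Flat S'.hom ∧ LocallyOfFinitePresentation S'.hom ∧
        Nonempty (S' ⟶ X) := by
  constructor
  · rintro ⟨h1, h2, h3, -⟩
    exact ⟨X, h1, h2, h3, ⟨𝟙 X⟩⟩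
  · rintro ⟨S', h1, h2, h3, ⟨x⟩⟩
    obtain ⟨Ψi, hΨ1, hΨ2⟩ := (isIso_trivialisation a hX x).out
    have hs : snd X S' = Ψi ≫ snd G S' := by
      have : Ψi ≫ lift ((G ◁ x) ≫ a.act) (snd G S') ≫ snd X S' = Ψi ≫ snd G S' := by
        rw [lift_snd]
      rw [← Category.assoc, hΨ2, Category.id_comp] at this
      exact this
    haveI : IsIso Ψi.left := ⟨(lift ((G ◁ x) ≫ a.act) (snd G S')).left, by
      rw [← Over.comp_left, hΨ2]; rfl, by rw [← Over.comp_left, hΨ1]; rfl⟩
    have hs' : (snd X S').left = Ψi.left ≫ pullback.snd G.hom S'.hom := by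
      rw [hs]
      rfl
    have sq : IsPullback (pullback.snd X.hom S'.hom) (pullback.fst X.hom S'.hom) S'.hom X.hom :=
      (IsPullback.of_hasPullback X.hom S'.hom).flip
    have hQ : (@Surjective ⊓ @Flat ⊓ @LocallyOfFinitePresentation :
        MorphismProperty Scheme.{u}) S'.hom := ⟨⟨h1, h2⟩, h3⟩
    have e : pullback.snd X.hom S'.hom = (snd X S').left := rfl
    refine ⟨?_, ?_, ?_, hX⟩
    · haveI := FlatDesc.surjective_descendsAlong_fppf.{u}
      refine MorphismProperty.of_isPullback_of_descendsAlong (P := @Surjective)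
        (Q := (@Surjective ⊓ @Flat ⊓ @LocallyOfFinitePresentation : MorphismProperty Scheme.{u}))
        sq hQ ?_
      rw [e, hs']
      exact (MorphismProperty.cancel_left_of_respectsIso (P := @Surjective) _ _).mpr
        (inferInstance : Surjective (pullback.snd G.hom S'.hom))
    · haveI := FlatDesc.flat_descendsAlong_fppf.{u}
      refine MorphismProperty.of_isPullback_of_descendsAlong (P := @Flat)
        (Q := (@Surjective ⊓ @Flat ⊓ @LocallyOfFinitePresentation : MorphismProperty Scheme.{u}))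
        sq hQ ?_
      rw [e, hs']
      exact (MorphismProperty.cancel_left_of_respectsIso (P := @Flat) _ _).mpr
        (inferInstance : Flat (pullback.snd G.hom S'.hom))
    · haveI := FlatDesc.lfp_descendsAlong_fppf.{u}
      refine MorphismProperty.of_isPullback_of_descendsAlong (P := @LocallyOfFinitePresentation)
        (Q := (@Surjective ⊓ @Flat ⊓ @LocallyOfFinitePresentation : MorphismProperty Scheme.{u}))
        sq hQ ?_
      rw [e, hs']
      exact (MorphismProperty.cancel_left_of_respectsIso (P := @LocallyOfFinitePresentation) _ _).mpr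
        (inferInstance : LocallyOfFinitePresentation (pullback.snd G.hom S'.hom))

end Groth.Agent.H3.OrbitQuot
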