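import Mathlib
import Groth.Agent.Lib.Helper3.OrbitQuot5
import Groth.Agent.Lib.Helper3.FpqcLocal2

/-!
# Properties of the structure group pass to torsors
-/

set_option autoImplicit false

open CategoryTheory Limits MonoidalCategory CartesianMonoidalCategory MonObj AlgebraicGeometry

universe u

namespace Groth.Agent.H3.TorsorProp

open Groth.Agent.H3.OrbitQuot

variable {S : Scheme.{u}} {G X : Over S} [GrpObj G] (a : AlgGrp.Action G X)

/-- a property of morphisms, stable under base change and local on the target for `K`, passes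
from `G ⟶ S` to any `G`-torsor for `K` -/
theorem hom_of_isTorsorFor (P : MorphismProperty Scheme.{u}) [P.IsStableUnderBaseChange]
    (K : Precoverage Scheme.{u}) [P.IsLocalAtTarget K]
    (h : NonAbH1.IsTorsorFor K a) (hG : P G.hom) : P X.hom := by
  obtain ⟨hΨ, R, hR, hsec⟩ := h
  have hΨ' : IsIso (lift a.act (snd G X)) := hΨ
  refine MorphismProperty.IsLocalAtTarget.of_forall_pullbackSnd (K := K) hR ?_
  intro U g _ hg
  obtain ⟨s, hs⟩ := hsec g hg
  obtain ⟨x, hx⟩ : ∃ x : Over.mk g ⟶ X, x = Over.homMk s hs := ⟨_, rfl⟩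
  obtain ⟨Ψi, hΨ1, hΨ2⟩ := (isIso_trivialisation a hΨ' x).out
  have hsn : snd X (Over.mk g) = Ψi ≫ snd G (Over.mk g) := by
    have : Ψi ≫ lift ((G ◁ x) ≫ a.act) (snd G (Over.mk g)) ≫ snd X (Over.mk g) =
        Ψi ≫ snd G (Over.mk g) := by
      rw [lift_snd]
    rw [← Category.assoc, hΨ2, Category.id_comp] at this
    exact this
  haveI : IsIso Ψi.left := ⟨(lift ((G ◁ x) ≫ a.act) (snd G (Over.mk g))).left, by
    rw [← Over.comp_left, hΨ2]; rfl, by rw [← Over.comp_left, hΨ1]; rfl⟩
  have hs' : pullback.snd X.hom g = Ψi.left ≫ pullback.snd G.hom g := by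
    have := congrArg (fun t => t.left) hsn
    exact this
  rw [hs', P.cancel_left_of_respectsIso]
  exact P.pullback_snd _ _ hG

/-- the structure morphism of a group object is surjective -/
lemma surjective_hom : Surjective G.hom := by
  constructor
  intro x
  refine ⟨η[G].left x, ?_⟩
  rw [← Scheme.Hom.comp_apply, Over.w η[G]]
  rfl

/-- abstract form of S6003 -/
theorem isTorsorFor_fpqc_iff [Flat G.hom] [QuasiCompact G.hom] :
    NonAbH1.IsTorsorFor Scheme.fpqcPrecoverage a ↔
      (NonAbH1.IsPseudoTorsorSch a ∧ Surjective X.hom ∧ Flat X.hom ∧ QuasiCompact X.hom) := by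
  constructor
  · intro h
    exact ⟨h.1, hom_of_isTorsorFor a @Surjective Scheme.fpqcPrecoverage h surjective_hom,
      hom_of_isTorsorFor a @Flat Scheme.fpqcPrecoverage h inferInstance,
      hom_of_isTorsorFor a @QuasiCompact Scheme.fpqcPrecoverage h inferInstance⟩
  · rintro ⟨h1, h2, h3, h4⟩
    refine ⟨h1, Presieve.singleton X.hom, Scheme.Hom.singleton_mem_fpqcPrecoverage X.hom, ?_⟩
    rintro S' f ⟨⟩
    exact ⟨𝟙 _, Category.id_comp _⟩

/-- abstract form of S12837 -/
theorem isTorsorFor_fppf_of_fpqc [Flat G.hom] [LocallyOfFinitePresentation G.hom]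
    (h : NonAbH1.IsTorsorFor Scheme.fpqcPrecoverage a) :
    NonAbH1.IsTorsorFor Scheme.fppfPrecoverage a := by
  haveI : Surjective X.hom :=
    hom_of_isTorsorFor a @Surjective Scheme.fpqcPrecoverage h surjective_hom
  haveI : Flat X.hom := hom_of_isTorsorFor a @Flat Scheme.fpqcPrecoverage h inferInstance
  haveI : LocallyOfFinitePresentation X.hom :=
    hom_of_isTorsorFor a @LocallyOfFinitePresentation Scheme.fpqcPrecoverage h inferInstance
  refine ⟨h.1, Presieve.singleton X.hom, Scheme.Hom.singleton_mem_fppfPrecoverage X.hom, ?_⟩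
  rintro S' f ⟨⟩
  exact ⟨𝟙 _, Category.id_comp _⟩

end Groth.Agent.H3.TorsorProp
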