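import Mathlib

/-!
# fpqc coverings are topological quotient coverings
-/

set_option autoImplicit false

open CategoryTheory Limits MorphismProperty AlgebraicGeometry

universe v u

namespace Groth.Agent.H3.FpqcOpen

lemma isOpen_of_openCover {Y : Scheme.{u}} (𝒲 : Y.OpenCover) (s : Set Y)
    (h : ∀ j, IsOpen ((𝒲.f j) ⁻¹' s)) : IsOpen s := by
  rw [𝒲.isOpenCover_opensRange.isOpen_iff_inter]
  intro j
  have : s ∩ ((𝒲.f j).opensRange : Set Y) = (𝒲.f j) '' ((𝒲.f j) ⁻¹' s) := by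
    rw [Set.image_preimage_eq_inter_range]
    rfl
  rw [this]
  exact (𝒲.f j).isOpenEmbedding.isOpenMap _ (h j)

lemma isOpen_of_cover_affine {Y : Scheme.{u}} [IsAffine Y]
    (𝒰 : Scheme.Cover.{u} Scheme.fpqcPrecoverage Y) (W : Set Y)
    (h : ∀ i, IsOpen ((𝒰.f i) ⁻¹' W)) : IsOpen W := by
  haveI : QuasiCompactCover (𝒰.weaken Scheme.propQCPrecoverage_le_precoverage).toPreZeroHypercover := by
    rw [← Scheme.presieve₀_mem_qcPrecoverage_iff]
    exact 𝒰.mem₀.1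
  obtain ⟨𝒱, φ, hfin, hopen⟩ := QuasiCompactCover.exists_hom.{u}
    (𝒰.weaken (Scheme.propQCPrecoverage_le_precoverage (P := @Flat)))
  let T : Scheme.{u} := ∐ fun j : 𝒱.I₀ => 𝒱.cover.X j
  let p : T ⟶ Y := Sigma.desc fun j => 𝒱.cover.f j
  have hιp : ∀ j, Sigma.ι (fun j : 𝒱.I₀ => 𝒱.cover.X j) j ≫ p = 𝒱.cover.f j :=
    fun j => Sigma.ι_desc _ _
  haveI : Surjective p := ⟨fun y => by
    obtain ⟨z, hz⟩ := 𝒱.covers y
    refine ⟨Sigma.ι (fun j : 𝒱.I₀ => 𝒱.cover.X j) (𝒱.idx y) z, ?_⟩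
    rw [← Scheme.Hom.comp_apply, hιp]
    exact hz⟩
  haveI : Flat p := by
    rw [IsZariskiLocalAtSource.iff_of_openCover (P := @Flat) (sigmaOpenCover _)]
    intro j
    exact Eq.mpr (congrArg (fun g => Flat g) (hιp j)) (𝒱.map_prop j)
  haveI : QuasiCompact p := by
    haveI : IsAffine T := inferInstance
    infer_instance
  rw [← (Flat.isQuotientMap_of_surjective p).isOpen_preimage]
  apply isOpen_of_openCover (sigmaOpenCover _)
  intro j
  have e : (sigmaOpenCover fun j : 𝒱.I₀ => 𝒱.cover.X j).f j ≫ p =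
      φ.h₀ j ≫ 𝒰.f (φ.s₀ j) := (hιp j).trans (φ.w₀ j).symm
  have : ((sigmaOpenCover fun j : 𝒱.I₀ => 𝒱.cover.X j).f j) ⁻¹' (p ⁻¹' W) =
      (φ.h₀ j) ⁻¹' ((𝒰.f (φ.s₀ j)) ⁻¹' W) := by
    ext x
    have e' : p (((sigmaOpenCover fun j : 𝒱.I₀ => 𝒱.cover.X j).f j) x) =
        (𝒰.f (φ.s₀ j)) ((φ.h₀ j) x) := by
      have := congrArg (fun g : (sigmaOpenCover fun j : 𝒱.I₀ => 𝒱.cover.X j).X j ⟶ Y => g x) e
      exact ((Scheme.Hom.comp_apply _ _ _).symm.trans this).trans (Scheme.Hom.comp_apply _ _ _)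
    change p (((sigmaOpenCover fun j : 𝒱.I₀ => 𝒱.cover.X j).f j) x) ∈ W ↔
      (𝒰.f (φ.s₀ j)) ((φ.h₀ j) x) ∈ W
    rw [e']
  rw [this]
  exact (h _).preimage (φ.h₀ j).continuous


/-- An fpqc covering is a topological quotient covering: a subset of the base whose preimages in
all members are open is open. -/
theorem isOpen_of_cover {Y : Scheme.{u}} (𝒰 : Scheme.Cover.{u} Scheme.fpqcPrecoverage Y)
    (W : Set Y) (h : ∀ i, IsOpen ((𝒰.f i) ⁻¹' W)) : IsOpen W := by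
  apply isOpen_of_openCover Y.affineCover
  intro i
  apply isOpen_of_cover_affine (𝒰.pullback₁ (Y.affineCover.f i))
  intro j
  have : ((𝒰.pullback₁ (Y.affineCover.f i)).f j) ⁻¹' ((Y.affineCover.f i) ⁻¹' W) =
      (pullback.snd (Y.affineCover.f i) (𝒰.f j)) ⁻¹' ((𝒰.f j) ⁻¹' W) := by
    ext x
    have e' : (Y.affineCover.f i) ((pullback.fst (Y.affineCover.f i) (𝒰.f j)) x) =
        (𝒰.f j) ((pullback.snd (Y.affineCover.f i) (𝒰.f j)) x) := by
      have := congrArg (fun g : pullback (Y.affineCover.f i) (𝒰.f j) ⟶ Y => g x)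
        (pullback.condition (f := Y.affineCover.f i) (g := 𝒰.f j))
      exact ((Scheme.Hom.comp_apply _ _ _).symm.trans this).trans (Scheme.Hom.comp_apply _ _ _)
    change (Y.affineCover.f i) ((pullback.fst (Y.affineCover.f i) (𝒰.f j)) x) ∈ W ↔
      (𝒰.f j) ((pullback.snd (Y.affineCover.f i) (𝒰.f j)) x) ∈ W
    rw [e']
  rw [this]
  exact (h j).preimage (pullback.snd (Y.affineCover.f i) (𝒰.f j)).continuous

end Groth.Agent.H3.FpqcOpen
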