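import Mathlib
import Groth.Prelude.Def_DescFam
import Groth.Agent.Lib.Helper3.FpqcOpen

/-!
# Descent data of open immersions relative to an fpqc covering family are effective
-/

set_option autoImplicit false

open CategoryTheory Limits AlgebraicGeometry

universe u

namespace Groth.Agent.H3.DescOpen

open Desc

variable {S : Scheme.{u}} {ι : Type u} {X : ι → Scheme.{u}} {f : ∀ i, X i ⟶ S}

/-- a family of morphisms into a descent datum of monomorphisms is automatically compatible -/
def homOfMono (D D' : SchDDFam f) (hD' : ∀ i, Mono (D'.obj i).hom)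
    (a : ∀ i, D.obj i ⟶ D'.obj i) : D ⟶ D' :=
  ⟨a, fun T i j x₀ x₁ h v w hw => by
    haveI := hD' j
    rw [← cancel_mono (D'.obj j).hom, (D'.φ x₀ x₁ h w).2, Category.assoc, Over.w (a j),
      (D.φ x₀ x₁ h v).2]⟩

@[simp] lemma homOfMono_hom (D D' : SchDDFam f) (hD' : ∀ i, Mono (D'.obj i).hom)
    (a : ∀ i, D.obj i ⟶ D'.obj i) (i : ι) : (homOfMono D D' hD' a).hom i = a i := rfl

/-- isomorphism of descent data of monomorphisms from isomorphisms of the members -/
def isoOfMono (D D' : SchDDFam f) (hD : ∀ i, Mono (D.obj i).hom) (hD' : ∀ i, Mono (D'.obj i).hom)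
    (e : ∀ i, D.obj i ≅ D'.obj i) : D ≅ D' where
  hom := homOfMono D D' hD' (fun i => (e i).hom)
  inv := homOfMono D' D hD (fun i => (e i).inv)
  hom_inv_id := by
    apply SchDDFam.hom_ext
    funext i
    simp
  inv_hom_id := by
    apply SchDDFam.hom_ext
    funext i
    simp

/-- the members of a descent datum have the same image in the base -/
lemma mem_range_of_eq (D : SchDDFam f) (i j : ι) (x : X i) (y : (D.obj j).left)
    (hxy : f i x = f j ((D.obj j).hom y)) : x ∈ Set.range (D.obj i).hom := by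
  have hxy' : f i x = ((D.obj j).hom ≫ f j) y := by
    rw [Scheme.Hom.comp_apply]; exact hxy
  obtain ⟨t, ht1, ht2⟩ := Scheme.Pullback.exists_preimage_pullback (f := f i)
    (g := (D.obj j).hom ≫ f j) x y hxy'
  have hc : pullback.fst (f i) ((D.obj j).hom ≫ f j) ≫ f i =
      (pullback.snd (f i) ((D.obj j).hom ≫ f j) ≫ (D.obj j).hom) ≫ f j := by
    rw [Category.assoc]; exact pullback.condition
  let v : Lifts (D.obj j) (pullback.snd (f i) ((D.obj j).hom ≫ f j) ≫ (D.obj j).hom) :=
    ⟨pullback.snd (f i) ((D.obj j).hom ≫ f j), rfl⟩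
  obtain ⟨u, hu⟩ := D.φ _ _ hc.symm v
  refine ⟨u t, ?_⟩
  rw [← Scheme.Hom.comp_apply, hu]
  exact ht1


/-- **S6045**: descent data of open immersions relative to an fpqc covering family are
effective. -/
theorem isEffective_of_isOpenImmersion
    (hf : Presieve.ofArrows X f ∈ Scheme.fpqcPrecoverage S)
    (D : SchDDFam f) (hD : ∀ i, IsOpenImmersion (D.obj i).hom) : D.IsEffective := by
  let 𝒰 : Scheme.Cover.{u} Scheme.fpqcPrecoverage S :=
    { I₀ := ι, X := X, f := f, mem₀ := hf }
  obtain ⟨W, hWdef⟩ : ∃ W : Set S, W = ⋃ i, f i '' Set.range (D.obj i).hom := ⟨_, rfl⟩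
  have hpre : ∀ i, f i ⁻¹' W = Set.range (D.obj i).hom := by
    intro i
    apply subset_antisymm
    · intro x hx
      rw [Set.mem_preimage, hWdef, Set.mem_iUnion] at hx
      obtain ⟨j, z, ⟨y, rfl⟩, hz⟩ := hx
      exact mem_range_of_eq D i j x y hz.symm
    · rintro _ ⟨y, rfl⟩
      rw [Set.mem_preimage, hWdef, Set.mem_iUnion]
      exact ⟨i, _, ⟨y, rfl⟩, rfl⟩
  have hW : IsOpen W := FpqcOpen.isOpen_of_cover 𝒰 W (fun i => by
    change IsOpen (f i ⁻¹' W)
    rw [hpre]
    haveI := hD i
    exact (D.obj i).hom.isOpenEmbedding.isOpen_range)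
  obtain ⟨U, hU⟩ : ∃ U : S.Opens, (U : Set S) = W := ⟨⟨W, hW⟩, rfl⟩
  have hrange : ∀ i, Set.range (pullback.fst (f i) U.ι) = Set.range (D.obj i).hom := by
    intro i
    rw [Scheme.Pullback.range_fst, Scheme.Opens.range_ι, hU, hpre]
  have hmono : ∀ i, Mono (D.obj i).hom := fun i => by
    haveI := hD i
    infer_instance
  have hmono' : ∀ i, Mono ((canonicalDDFam f (Over.mk U.ι)).obj i).hom := fun i => by
    change Mono (pullback.fst (f i) U.ι)
    infer_instance
  refine ⟨Over.mk U.ι, ⟨isoOfMono _ _ hmono' hmono (fun i => ?_)⟩⟩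
  haveI := hD i
  haveI : IsOpenImmersion (pullback.fst (f i) U.ι) :=
    MorphismProperty.pullback_fst (P := @IsOpenImmersion) _ _ inferInstance
  refine Over.isoMk (show pullback (f i) U.ι ≅ (D.obj i).left from
    IsOpenImmersion.isoOfRangeEq (pullback.fst (f i) U.ι) (D.obj i).hom (hrange i)) ?_
  exact IsOpenImmersion.isoOfRangeEq_hom_fac (pullback.fst (f i) U.ι) (D.obj i).hom (hrange i)

end Groth.Agent.H3.DescOpen
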