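import Mathlib
import Groth.Prelude.Def_AffAlg

set_option autoImplicit false

universe u

open AlgebraicGeometry CategoryTheory CategoryTheory.Limits Opposite TopologicalSpace

namespace Groth.Agent.H3.AffAlgIso

variable {X Y S : Scheme.{u}}

lemma algHom_app (f : X ⟶ S) (h : Y ⟶ X) (U : S.Opens) :
    (AffAlg.algHom f (h ≫ f) h rfl).app (op U) = h.app (f ⁻¹ᵁ U) := by
  simp only [AffAlg.algHom]
  rfl

lemma iSup_preimage_affineOpens (f : X ⟶ S) :
    ⨆ U : S.affineOpens, (f ⁻¹ᵁ U.1) = ⊤ := by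
  rw [eq_top_iff]
  intro x _
  obtain ⟨U, hU, hx, -⟩ := exists_isAffineOpen_mem_and_subset (x := f x) (U := ⊤) trivial
  exact Opens.mem_iSup.2 ⟨⟨U, hU⟩, hx⟩

lemma restrict_appTop_congr (h : Y ⟶ X) (W : X.Opens)
    (P : ∀ {R S : CommRingCat.{u}} (_ : R ⟶ S), Prop) :
    P (h ∣_ W).appTop ↔ P (h.app W) := by
  have e1 : (h ∣_ W).appTop = (h ∣_ W).app ⊤ := rfl
  rw [e1, morphismRestrict_app', Scheme.Hom.app_eq_appLE (f := h)]
  refine Scheme.Hom.appLE_congr h _ W.ι_image_top ?_ (fun {R S} φ => P φ)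
  rw [Scheme.Hom.preimage_top, Scheme.Opens.ι_image_top]

lemma appTop_restrict_surjective_iff (h : Y ⟶ X) (W : X.Opens) :
    Function.Surjective (h ∣_ W).appTop ↔ Function.Surjective (h.app W) :=
  restrict_appTop_congr h W (fun φ => Function.Surjective φ)

lemma isIso_appTop_restrict_iff (h : Y ⟶ X) (W : X.Opens) :
    IsIso (h ∣_ W).appTop ↔ IsIso (h.app W) :=
  restrict_appTop_congr h W (fun φ => IsIso φ)

theorem closedImm (f : X ⟶ S) [IsAffineHom f] (f' : Y ⟶ S) [IsAffineHom f'] (h : Y ⟶ X)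
    (w : h ≫ f = f')
    (hsurj : ∀ U : S.affineOpens, Function.Surjective ((AffAlg.algHom f f' h w).app (op U.1)).hom) :
    IsClosedImmersion h := by
  subst w
  let 𝒰 : S.affineOpens → X.affineOpens := fun U => ⟨f ⁻¹ᵁ U.1, U.2.preimage f⟩
  rw [HasAffineProperty.iff_of_iSup_eq_top (P := @IsClosedImmersion) 𝒰 (iSup_preimage_affineOpens f)]
  intro U
  refine ⟨U.2.preimage (h ≫ f), ?_⟩
  rw [appTop_restrict_surjective_iff]
  have := hsurj U
  rw [algHom_app] at this
  exact this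

theorem isIso_iff (f : X ⟶ S) [IsAffineHom f] (g : Y ⟶ S) [IsAffineHom g] (h : Y ⟶ X)
    (w : h ≫ f = g) : IsIso h ↔ IsIso (AffAlg.algHom f g h w) := by
  subst w
  constructor
  · intro hi
    haveI : ∀ U : (Opens S)ᵒᵖ, IsIso ((AffAlg.algHom f (h ≫ f) h rfl).app U) := by
      intro U
      have e : (AffAlg.algHom f (h ≫ f) h rfl).app U = h.app (f ⁻¹ᵁ U.unop) :=
        algHom_app f h U.unop
      rw [e]
      exact (inferInstance : IsIso (h.app (f ⁻¹ᵁ U.unop)))
    exact NatIso.isIso_of_isIso_app _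
  · intro hi
    let 𝒰 : S.affineOpens → X.affineOpens := fun U => ⟨f ⁻¹ᵁ U.1, U.2.preimage f⟩
    change (MorphismProperty.isomorphisms Scheme.{u}) h
    rw [HasAffineProperty.iff_of_iSup_eq_top (P := MorphismProperty.isomorphisms Scheme.{u}) 𝒰
      (iSup_preimage_affineOpens f)]
    intro U
    refine ⟨U.2.preimage (h ≫ f), ?_⟩
    rw [isIso_appTop_restrict_iff]
    change IsIso (h.app (f ⁻¹ᵁ U.1))
    rw [← algHom_app]
    exact (inferInstance : IsIso ((AffAlg.algHom f (h ≫ f) h rfl).app (op U.1)))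

end Groth.Agent.H3.AffAlgIso
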