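import Mathlib
import Groth.Prelude.Def_DDual2
import Groth.Agent.Lib.Lead.QC.LocFree2

set_option autoImplicit false

universe u

open AlgebraicGeometry CategoryTheory CategoryTheory.Limits

namespace Groth.Agent.H3.SPerf

theorem pullback_perf {X Y : Scheme.{u}} (f : X ⟶ Y) (F : CochainComplex Y.Modules ℤ)
    (hF : DCoh.IsStrictlyPerfect F) :
    DCoh.IsStrictlyPerfect (((Scheme.Modules.pullback f).mapHomologicalComplex (ComplexShape.up ℤ)).obj F) := by
  obtain ⟨⟨a, b, hab⟩, hfree⟩ := hF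
  refine ⟨⟨a, b, fun i hi => ?_⟩, fun i => ?_⟩
  · exact (Scheme.Modules.pullback f).map_isZero (hab i hi)
  · exact Groth.Agent.LD.QC.isFinLocFree_pullback f (F.X i) (hfree i)

end Groth.Agent.H3.SPerf

namespace Groth.Agent.H3.SPerf

section Cat

variable {C : Type*} [Category C] [Preadditive C] [HasBinaryBiproducts C]
  [HasFiniteCoproducts C] (A : C)

/-- `A^n ⊞ A^m ≅ A^(n+m)` for copowers. -/
noncomputable def copowerBiprodIso (n m : ℕ) :
    ((∐ fun _ : Fin n => A) ⊞ (∐ fun _ : Fin m => A)) ≅ ∐ fun _ : Fin (n + m) => A where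
  hom := biprod.desc (Sigma.desc fun i => Sigma.ι (fun _ : Fin (n + m) => A) (Fin.castAdd m i))
    (Sigma.desc fun j => Sigma.ι (fun _ : Fin (n + m) => A) (Fin.natAdd n j))
  inv := Sigma.desc (fun k : Fin (n + m) =>
    Fin.addCases (motive := fun _ => A ⟶ ((∐ fun _ : Fin n => A) ⊞ (∐ fun _ : Fin m => A)))
      (fun i => Sigma.ι (fun _ : Fin n => A) i ≫ biprod.inl)
      (fun j => Sigma.ι (fun _ : Fin m => A) j ≫ biprod.inr) k)
  hom_inv_id := by
    apply biprod.hom_ext'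
    · apply Sigma.hom_ext
      intro i
      simp [Fin.addCases_left]
    · apply Sigma.hom_ext
      intro j
      simp [Fin.addCases_right]
  inv_hom_id := by
    apply Sigma.hom_ext
    intro k
    refine Fin.addCases (fun i => ?_) (fun j => ?_) k
    · simp [Fin.addCases_left]
    · simp [Fin.addCases_right]

end Cat

open Groth.Agent.LD.QC in
theorem isFinLocFree_biprod {X : Scheme.{u}} (M N : X.Modules) (hM : FlatMod.IsFinLocFree M)
    (hN : FlatMod.IsFinLocFree N) : FlatMod.IsFinLocFree (M ⊞ N) := by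
  intro x
  obtain ⟨U, n, hxU, ⟨e⟩⟩ := hM x
  obtain ⟨V, m, hxV, ⟨e'⟩⟩ := hN x
  obtain ⟨e1⟩ := freeMod_of_range_subset M U.ι (U ⊓ V).ι (by
    rw [Scheme.Opens.range_ι, Scheme.Opens.range_ι]; exact inf_le_left) n e
  obtain ⟨e2⟩ := freeMod_of_range_subset N V.ι (U ⊓ V).ι (by
    rw [Scheme.Opens.range_ι, Scheme.Opens.range_ι]; exact inf_le_right) m e'
  refine ⟨U ⊓ V, n + m, ⟨hxU, hxV⟩, ⟨?_⟩⟩
  haveI : PreservesBinaryBiproducts (Scheme.Modules.restrictFunctor (U ⊓ V).ι) :=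
    preservesBinaryBiproducts_of_preservesBiproducts _
  exact (Scheme.Modules.restrictFunctor (U ⊓ V).ι).mapBiprod M N ≪≫ biprod.mapIso e1 e2 ≪≫
    copowerBiprodIso _ n m


lemma isZero_biprod {C : Type*} [Category C] [Preadditive C] [HasBinaryBiproducts C] {A B : C}
    (hA : IsZero A) (hB : IsZero B) : IsZero (A ⊞ B) := by
  rw [IsZero.iff_id_eq_zero]
  apply biprod.hom_ext
  · exact hA.eq_of_tgt _ _
  · exact hB.eq_of_tgt _ _

theorem cone_perf {X : Scheme.{u}} {E F : CochainComplex X.Modules ℤ} (φ : E ⟶ F)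
    (hE : DCoh.IsStrictlyPerfect E) (hF : DCoh.IsStrictlyPerfect F) :
    DCoh.IsStrictlyPerfect (CochainComplex.mappingCone φ) := by
  obtain ⟨⟨a, b, hab⟩, hfE⟩ := hE
  obtain ⟨⟨a', b', hab'⟩, hfF⟩ := hF
  have iso : ∀ i : ℤ, (CochainComplex.mappingCone φ).X i ≅ E.X (i + 1) ⊞ F.X i := fun i =>
    HomologicalComplex.homotopyCofiber.XIsoBiprod φ i (i + 1) rfl
  refine ⟨⟨min (a - 1) a', max (b - 1) b', fun i hi => ?_⟩, fun i => ?_⟩
  · refine IsZero.of_iso ?_ (iso i)
    have h1 : IsZero (E.X (i + 1)) := hab (i + 1) (by omega)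
    have h2 : IsZero (F.X i) := hab' i (by omega)
    exact isZero_biprod h1 h2
  · exact Groth.Agent.LD.QC.isFinLocFree_of_iso (iso i).symm
      (isFinLocFree_biprod _ _ (hfE _) (hfF _))

end Groth.Agent.H3.SPerf
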