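import Mathlib.Topology.KrullDimension
import Mathlib.Topology.NoetherianSpace
import Mathlib.Topology.Separation.Basic
import Mathlib.Topology.Semicontinuity.Defs
import Mathlib.Data.ENat.Basic
import Groth.Prelude.Def_Flat

/-! Combinatorial (Krull) dimension of topological spaces and local dimension. -/
universe u

namespace Groth.Agent.H3.TopDim
open TopologicalSpace Order Topology

variable {X : Type*} [TopologicalSpace X]

/-- If an irreducible closed `V` meets an open set `U`, then `coheight V ≤ dim U`. -/
lemma coheight_le_dim_open (U : Opens X) (V : IrreducibleCloseds X)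
    (h : ((V : Set X) ∩ U).Nonempty) :
    (coheight V : WithBot ℕ∞) ≤ topologicalKrullDim (U : Set X) := by
  have hf : IsOpenEmbedding (Subtype.val : ↥(U : Set X) → X) := U.isOpen.isOpenEmbedding_subtypeVal
  let e := IrreducibleCloseds.orderIsoOfIsOpenEmbedding _ hf
  have hV : (Subtype.val ⁻¹' (V : Set X) : Set ↥(U : Set X)).Nonempty := by
    obtain ⟨x, hxV, hxU⟩ := h; exact ⟨⟨x, hxU⟩, hxV⟩
  let V' := e.symm ⟨V, hV⟩
  have h1 : IrreducibleCloseds.map _ hf.continuous V' = V := by
    have := e.apply_symm_apply ⟨V, hV⟩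
    exact congrArg Subtype.val this
  rw [← h1, hf.coheight_map]
  exact coheight_le_krullDim V'

lemma dim_opens_le (U : Opens X) : topologicalKrullDim (U : Set X) ≤ topologicalKrullDim X :=
  topologicalKrullDim_subspace_le X U

lemma localDim_le_dim_of_mem {x : X} (U : Opens X) (hx : x ∈ U) :
    FlatMor.localDim X x ≤ topologicalKrullDim (U : Set X) :=
  iInf_le (fun U : {U : Opens X // x ∈ U} => topologicalKrullDim (U.1 : Set X)) ⟨U, hx⟩

lemma localDim_le_dim (x : X) : FlatMor.localDim X x ≤ topologicalKrullDim X :=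
  (localDim_le_dim_of_mem ⊤ trivial).trans (dim_opens_le _)

lemma coheight_le_localDim (V : IrreducibleCloseds X) {x : X} (hx : x ∈ (V : Set X)) :
    (coheight V : WithBot ℕ∞) ≤ FlatMor.localDim X x := by
  apply le_iInf
  rintro ⟨U, hU⟩
  exact coheight_le_dim_open U V ⟨x, hx, hU⟩

theorem dim_eq_iSup_localDim : topologicalKrullDim X = ⨆ x : X, FlatMor.localDim X x := by
  apply le_antisymm
  · unfold topologicalKrullDim
    rw [krullDim_eq_iSup_coheight]
    apply iSup_le
    intro V
    obtain ⟨x, hx⟩ := V.isIrreducible.nonempty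
    exact (coheight_le_localDim V hx).trans (le_iSup (fun x => FlatMor.localDim X x) x)
  · exact iSup_le localDim_le_dim

theorem dim_eq_iSup_open_cover {ι : Type*} (U : ι → Opens X) (hcov : ⨆ i, U i = ⊤) :
    topologicalKrullDim X = ⨆ i, topologicalKrullDim (U i : Set X) := by
  apply le_antisymm
  · unfold topologicalKrullDim
    rw [krullDim_eq_iSup_coheight]
    apply iSup_le
    intro V
    obtain ⟨x, hx⟩ := V.isIrreducible.nonempty
    have : x ∈ ⨆ i, U i := by rw [hcov]; trivial
    obtain ⟨i, hi⟩ := Opens.mem_iSup.mp this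
    exact (coheight_le_dim_open (U i) V ⟨x, hx, hi⟩).trans
      (le_iSup (fun i => topologicalKrullDim (U i : Set X)) i)
  · exact iSup_le fun i => dim_opens_le _

theorem upperSemicontinuous_localDim : UpperSemicontinuous fun x : X => FlatMor.localDim X x := by
  intro x y hy
  have : ∃ U : {U : Opens X // x ∈ U}, topologicalKrullDim (U.1 : Set X) < y := by
    by_contra hcon
    push Not at hcon
    exact absurd (le_iInf hcon) (not_le.mpr hy)
  obtain ⟨⟨U, hxU⟩, hU⟩ := this
  filter_upwards [U.isOpen.mem_nhds hxU] with x' hx'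
  exact (localDim_le_dim_of_mem U hx').trans_lt hU



lemma dim_le_of_inducing_mapsTo {Y : Type*} [TopologicalSpace Y] {f : Y → X} (hf : IsInducing f)
    {S : Set Y} {T : Set X} (h : Set.MapsTo f S T) :
    topologicalKrullDim S ≤ topologicalKrullDim T := by
  have : IsInducing (h.restrict f S T) := by
    rw [← IsInducing.subtypeVal.of_comp_iff]
    exact hf.comp IsInducing.subtypeVal
  exact this.topologicalKrullDim_le

lemma dim_mono {S T : Set X} (h : S ⊆ T) : topologicalKrullDim S ≤ topologicalKrullDim T :=
  dim_le_of_inducing_mapsTo (f := id) IsInducing.id h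



lemma isPreirreducible_of_image {Y : Type*} [TopologicalSpace Y] {f : Y → X} (hf : IsInducing f)
    {s : Set Y} (hs : IsPreirreducible (f '' s)) : IsPreirreducible s := by
  intro u v hu hv hsu hsv
  rw [hf.isOpen_iff] at hu hv
  obtain ⟨u', hu', rfl⟩ := hu
  obtain ⟨v', hv', rfl⟩ := hv
  obtain ⟨y1, hy1s, hy1u⟩ := hsu
  obtain ⟨y2, hy2s, hy2v⟩ := hsv
  obtain ⟨x, ⟨y, hys, rfl⟩, hxu, hxv⟩ := hs u' v' hu' hv' ⟨f y1, ⟨y1, hy1s, rfl⟩, hy1u⟩
    ⟨f y2, ⟨y2, hy2s, rfl⟩, hy2v⟩
  exact ⟨y, hys, hxu, hxv⟩

/-- Restriction of an irreducible closed subset contained in `Y` to `Y`. -/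
def pre (Y : Set X) (V : IrreducibleCloseds X) (hV : (V : Set X) ⊆ Y) : IrreducibleCloseds Y where
  carrier := Subtype.val ⁻¹' (V : Set X)
  isIrreducible' := by
    have him : (Subtype.val '' (Subtype.val ⁻¹' (V : Set X) : Set Y)) = (V : Set X) := by
      rw [Subtype.image_preimage_coe]
      exact Set.inter_eq_right.mpr hV
    refine ⟨?_, isPreirreducible_of_image IsInducing.subtypeVal ?_⟩
    swap
    · rw [him]; exact V.isIrreducible.isPreirreducible
    obtain ⟨x, hx⟩ := V.isIrreducible.nonempty
    exact ⟨⟨x, hV hx⟩, hx⟩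
  isClosed' := V.isClosed.preimage continuous_subtype_val

lemma pre_lt (Y : Set X) {V W : IrreducibleCloseds X} (hV : (V : Set X) ⊆ Y) (hW : (W : Set X) ⊆ Y)
    (h : V < W) : pre Y V hV < pre Y W hW := by
  apply lt_of_le_of_ne
  · intro y hy
    exact h.le hy
  · intro heq
    apply h.ne
    apply IrreducibleCloseds.ext
    have h1 : (Subtype.val ⁻¹' (V : Set X) : Set Y) = Subtype.val ⁻¹' (W : Set X) :=
      congrArg (fun Z : IrreducibleCloseds Y => (Z : Set Y)) heq
    have := congrArg (Set.image Subtype.val) h1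
    rw [Subtype.image_preimage_coe, Subtype.image_preimage_coe, Set.inter_eq_right.mpr hV,
      Set.inter_eq_right.mpr hW] at this
    exact this

lemma length_le_dim_of_last_subset (Y : Set X) (l : LTSeries (IrreducibleCloseds X))
    (h : (l.last : Set X) ⊆ Y) : (l.length : WithBot ℕ∞) ≤ topologicalKrullDim Y := by
  have hi : ∀ i, ((l i : IrreducibleCloseds X) : Set X) ⊆ Y := fun i =>
    Set.Subset.trans (show ((l i : IrreducibleCloseds X) : Set X) ⊆ (l.last : Set X) from
      l.monotone (Fin.le_last i)) h
  let L : LTSeries (IrreducibleCloseds Y) :=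
    { length := l.length
      toFun := fun i => pre Y (l i) (hi i)
      step := fun i => pre_lt Y _ _ (l.step i) }
  exact Order.LTSeries.length_le_krullDim L

theorem dim_eq_iSup_finite_closed_cover {ι : Type*} [Finite ι] (Y : ι → Set X)
    (hY : ∀ i, IsClosed (Y i)) (hcov : ⋃ i, Y i = Set.univ) :
    topologicalKrullDim X = ⨆ i, topologicalKrullDim (Y i) := by
  classical
  apply le_antisymm
  · unfold topologicalKrullDim
    rw [Order.krullDim]
    apply iSup_le
    intro l
    have hfin : (Set.range Y).Finite := Set.finite_range Y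
    have hirr := (isIrreducible_iff_sUnion_isClosed.mp l.last.isIrreducible) hfin.toFinset
      (by
        intro z hz
        rw [Set.Finite.mem_toFinset] at hz
        obtain ⟨i, rfl⟩ := hz
        exact hY i)
      (by
        rw [Set.Finite.coe_toFinset, Set.sUnion_range, hcov]
        exact Set.subset_univ _)
    obtain ⟨z, hz, hlz⟩ := hirr
    rw [Set.Finite.mem_toFinset] at hz
    obtain ⟨i, rfl⟩ := hz
    exact (length_le_dim_of_last_subset (Y i) l hlz).trans
      (le_iSup (fun i => topologicalKrullDim (Y i)) i)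
  · exact iSup_le fun i => topologicalKrullDim_subspace_le X (Y i)



lemma dim_le_iSup_of_subset_iUnion_closed {ι : Type*} [Finite ι] (S : Set X) (Y : ι → Set X)
    (hY : ∀ i, IsClosed (Y i)) (hcov : S ⊆ ⋃ i, Y i) :
    topologicalKrullDim S ≤ ⨆ i, topologicalKrullDim ↥(S ∩ Y i) := by
  rw [dim_eq_iSup_finite_closed_cover (X := S) (fun i => Subtype.val ⁻¹' (Y i))
    (fun i => (hY i).preimage continuous_subtype_val)
    (by
      rw [← Set.preimage_iUnion]
      ext ⟨s, hs⟩
      simpa using Set.mem_iUnion.mp (hcov hs))]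
  apply iSup_mono
  intro i
  apply dim_le_of_inducing_mapsTo IsInducing.subtypeVal
  rintro ⟨s, hs⟩ hsY
  exact ⟨hs, hsY⟩

theorem dim_eq_iSup_locallyFinite_closed_cover {ι : Type*} (Y : ι → Set X)
    (hY : ∀ i, IsClosed (Y i)) (hlf : LocallyFinite Y) (hcov : ⋃ i, Y i = Set.univ) :
    topologicalKrullDim X = ⨆ i, topologicalKrullDim (Y i) := by
  apply le_antisymm
  · rw [dim_eq_iSup_localDim]
    apply iSup_le
    intro x
    obtain ⟨t, ht, hfin⟩ := hlf x
    let U : Opens X := ⟨interior t, isOpen_interior⟩
    have hxU : x ∈ U := mem_interior_iff_mem_nhds.mpr ht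
    refine (localDim_le_dim_of_mem U hxU).trans ?_
    have : Finite {i | (Y i ∩ t).Nonempty} := hfin
    have hcovU : (U : Set X) ⊆ ⋃ i : {i | (Y i ∩ t).Nonempty}, Y i.1 := by
      intro u hu
      have : u ∈ ⋃ i, Y i := by rw [hcov]; trivial
      obtain ⟨i, hi⟩ := Set.mem_iUnion.mp this
      exact Set.mem_iUnion.mpr ⟨⟨i, ⟨u, hi, interior_subset hu⟩⟩, hi⟩
    refine (dim_le_iSup_of_subset_iUnion_closed (U : Set X) (fun i : {i | (Y i ∩ t).Nonempty} => Y i.1)
      (fun i => hY i.1) hcovU).trans ?_
    apply iSup_le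
    intro i
    exact (dim_mono Set.inter_subset_right).trans (le_iSup (fun i => topologicalKrullDim (Y i)) i.1)
  · exact iSup_le fun i => topologicalKrullDim_subspace_le X (Y i)

theorem localDim_eq_iSup_finite_closed_cover (x : X) {ι : Type*} [Finite ι] (Y : ι → Set X)
    (hY : ∀ i, IsClosed (Y i)) (hx : ∀ i, x ∈ Y i) (hcov : ⋃ i, Y i = Set.univ) :
    FlatMor.localDim X x = ⨆ i, FlatMor.localDim (Y i) ⟨x, hx i⟩ := by
  apply le_antisymm
  · -- choose optimal neighbourhoods
    have hch : ∀ i, ∃ W : {W : Opens (Y i) // (⟨x, hx i⟩ : Y i) ∈ W},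
        FlatMor.localDim (Y i) ⟨x, hx i⟩ = topologicalKrullDim (W.1 : Set (Y i)) := by
      intro i
      have : Nonempty {W : Opens (Y i) // (⟨x, hx i⟩ : Y i) ∈ W} := ⟨⟨⊤, trivial⟩⟩
      obtain ⟨W, hW⟩ := ciInf_mem (fun W : {W : Opens (Y i) // (⟨x, hx i⟩ : Y i) ∈ W} =>
        topologicalKrullDim (W.1 : Set (Y i)))
      exact ⟨W, hW.symm⟩
    choose W hW using hch
    have hop : ∀ i, ∃ V : Set X, IsOpen V ∧ Subtype.val ⁻¹' V = ((W i).1 : Set (Y i)) := fun i =>
      isOpen_induced_iff.mp (W i).1.isOpen
    choose V hVo hVW using hop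
    let U : Opens X := ⟨⋂ i, V i, isOpen_iInter_of_finite hVo⟩
    have hxU : x ∈ U := by
      refine Set.mem_iInter.mpr fun i => ?_
      have : (⟨x, hx i⟩ : Y i) ∈ Subtype.val ⁻¹' (V i) := by rw [hVW]; exact (W i).2
      exact this
    refine (localDim_le_dim_of_mem U hxU).trans ?_
    refine (dim_le_iSup_of_subset_iUnion_closed (U : Set X) Y hY
      (by rw [hcov]; exact Set.subset_univ _)).trans ?_
    apply iSup_mono
    intro i
    rw [hW i]
    -- map (U ∩ Y i) → W i
    have hmem : ∀ z : ↥((U : Set X) ∩ Y i), (⟨z.1, z.2.2⟩ : Y i) ∈ ((W i).1 : Set (Y i)) := by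
      intro z
      rw [← hVW i]
      exact Set.mem_iInter.mp z.2.1 i
    let g : ↥((U : Set X) ∩ Y i) → ↥((W i).1 : Set (Y i)) := fun z => ⟨⟨z.1, z.2.2⟩, hmem z⟩
    have hg : Continuous g :=
      Continuous.subtype_mk (Continuous.subtype_mk continuous_subtype_val _) _
    have hind : IsInducing g := by
      apply IsInducing.of_comp hg (continuous_subtype_val.comp continuous_subtype_val)
        (g := Subtype.val ∘ Subtype.val)
      exact IsInducing.subtypeVal
    exact hind.topologicalKrullDim_le
  · apply iSup_le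
    intro i
    apply le_iInf
    rintro ⟨U, hU⟩
    let W : Opens (Y i) := ⟨Subtype.val ⁻¹' (U : Set X), U.isOpen.preimage continuous_subtype_val⟩
    have hxW : (⟨x, hx i⟩ : Y i) ∈ W := hU
    refine (localDim_le_dim_of_mem W hxW).trans ?_
    apply dim_le_of_inducing_mapsTo IsInducing.subtypeVal
    intro z hz
    exact hz



theorem dim_eq_iSup_localDim_closedPoints [NoetherianSpace X] [T0Space X] :
    topologicalKrullDim X = ⨆ x ∈ {x : X | IsClosed ({x} : Set X)}, FlatMor.localDim X x := by
  apply le_antisymm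
  · unfold topologicalKrullDim
    rw [krullDim_eq_iSup_coheight]
    apply iSup_le
    intro V
    obtain ⟨x, hxV, hx⟩ := IsClosed.exists_closed_singleton V.isClosed V.isIrreducible.nonempty
    exact (coheight_le_localDim V hxV).trans
      (le_iSup₂ (f := fun x (_ : x ∈ {x : X | IsClosed ({x} : Set X)}) => FlatMor.localDim X x) x hx)
  · exact iSup₂_le fun x _ => localDim_le_dim x

lemma dim_nonneg [Nonempty X] : 0 ≤ topologicalKrullDim X := by
  unfold topologicalKrullDim
  have : Nonempty (IrreducibleCloseds X) := by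
    obtain ⟨x⟩ := ‹Nonempty X›
    exact ⟨⟨closure {x}, isIrreducible_singleton.closure, isClosed_closure⟩⟩
  exact krullDim_nonneg

theorem dim_eq_zero_iff_finite_discrete [NoetherianSpace X] [T0Space X] [Nonempty X] :
    topologicalKrullDim X = 0 ↔ Finite X ∧ DiscreteTopology X := by
  constructor
  · intro h
    have hle : krullDim (IrreducibleCloseds X) ≤ 0 := h.le
    have hmax := krullDim_nonpos_iff_forall_isMax.mp hle
    have hmin := krullDim_nonpos_iff_forall_isMin.mp hle
    -- all points closed
    have hcl : ∀ x : X, IsClosed ({x} : Set X) := by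
      intro x
      let Z : IrreducibleCloseds X := ⟨closure {x}, isIrreducible_singleton.closure, isClosed_closure⟩
      obtain ⟨y, hyZ, hy⟩ := IsClosed.exists_closed_singleton Z.isClosed Z.isIrreducible.nonempty
      let P : IrreducibleCloseds X := ⟨{y}, isIrreducible_singleton, hy⟩
      have hPZ : P ≤ Z := by
        intro z hz
        rw [show z = y from hz]; exact hyZ
      have hZP : Z ≤ P := hmin Z hPZ
      have hx : x ∈ ({y} : Set X) := hZP (subset_closure rfl)
      rw [Set.mem_singleton_iff] at hx
      rw [hx]; exact hy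
    have hfin : Finite X := by
      have hf := NoetherianSpace.finite_irreducibleComponents (α := X)
      have : ∀ x : X, ({x} : Set X) ∈ irreducibleComponents X := by
        intro x
        obtain ⟨Z, hZ, hxZ⟩ := exists_mem_irreducibleComponents_subset_of_isIrreducible {x}
          isIrreducible_singleton
        let P : IrreducibleCloseds X := ⟨{x}, isIrreducible_singleton, hcl x⟩
        let Q : IrreducibleCloseds X := ⟨Z, hZ.1, isClosed_of_mem_irreducibleComponents Z hZ⟩
        have hPQ : P ≤ Q := hxZ
        have hQP : Q ≤ P := hmax P hPQ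
        have : Z = {x} := Set.Subset.antisymm hQP hxZ
        rw [← this]; exact hZ
      have hinj : Function.Injective (fun x : X => (⟨{x}, this x⟩ : irreducibleComponents X)) := by
        intro x y hxy
        have := congrArg Subtype.val hxy
        exact Set.singleton_injective this
      have : Finite (irreducibleComponents X) := hf
      exact Finite.of_injective _ hinj
    have : T1Space X := ⟨hcl⟩
    exact ⟨hfin, inferInstance⟩
  · rintro ⟨_, _⟩
    exact le_antisymm (topologicalKrullDim_zero_of_discreteTopology X) dim_nonneg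

theorem isOpen_singleton_iff_localDim_eq_zero [NoetherianSpace X] [T0Space X] (x : X) :
    IsOpen ({x} : Set X) ↔ FlatMor.localDim X x = 0 := by
  have hnonneg : 0 ≤ FlatMor.localDim X x := by
    apply le_iInf
    rintro ⟨U, hU⟩
    have : Nonempty ↥(U : Set X) := ⟨⟨x, hU⟩⟩
    exact dim_nonneg
  constructor
  · intro h
    apply le_antisymm _ hnonneg
    let U : Opens X := ⟨{x}, h⟩
    refine (localDim_le_dim_of_mem U rfl).trans ?_
    have : DiscreteTopology ↥(U : Set X) := by
      have : Subsingleton ↥(U : Set X) := by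
        constructor
        rintro ⟨a, ha⟩ ⟨b, hb⟩
        have ha' : a = x := ha
        have hb' : b = x := hb
        subst ha' hb'
        rfl
      infer_instance
    exact topologicalKrullDim_zero_of_discreteTopology _
  · intro h
    have : Nonempty {U : Opens X // x ∈ U} := ⟨⟨⊤, trivial⟩⟩
    obtain ⟨⟨W, hxW⟩, hW⟩ := ciInf_mem (fun U : {U : Opens X // x ∈ U} =>
      topologicalKrullDim (U.1 : Set X))
    have hW0 : topologicalKrullDim ↥(W : Set X) = 0 := hW.trans h
    have : Nonempty ↥(W : Set X) := ⟨⟨x, hxW⟩⟩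
    obtain ⟨_, hdisc⟩ := dim_eq_zero_iff_finite_discrete.mp hW0
    have hopen : IsOpen ({⟨x, hxW⟩} : Set ↥(W : Set X)) := isOpen_discrete _
    have := W.isOpen.isOpenEmbedding_subtypeVal.isOpenMap _ hopen
    simpa using this


theorem dim_eq_iSup_irreducibleComponents :
    topologicalKrullDim X = ⨆ Y ∈ irreducibleComponents X, topologicalKrullDim ↥Y := by
  apply le_antisymm
  · unfold topologicalKrullDim
    rw [Order.krullDim]
    apply iSup_le
    intro l
    obtain ⟨Z, hZ, hlZ⟩ := exists_mem_irreducibleComponents_subset_of_isIrreducible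
      (l.last : Set X) l.last.isIrreducible
    exact (length_le_dim_of_last_subset Z l hlZ).trans
      (le_iSup₂ (f := fun Y (_ : Y ∈ irreducibleComponents X) => topologicalKrullDim ↥Y) Z hZ)
  · exact iSup₂_le fun Y _ => topologicalKrullDim_subspace_le X Y

theorem dim_lt_of_isClosed_ne_univ [IrreducibleSpace X] (hfin : topologicalKrullDim X ≠ ⊤)
    (Y : Set X) (hY : IsClosed Y) (hYX : Y ≠ Set.univ) :
    topologicalKrullDim ↥Y < topologicalKrullDim X := by
  by_contra hcon
  rw [not_lt] at hcon
  have hle : topologicalKrullDim ↥Y ≤ topologicalKrullDim X := topologicalKrullDim_subspace_le X Y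
  have key : ∀ m : ℕ, (m : WithBot ℕ∞) ≤ topologicalKrullDim ↥Y := by
    intro m
    induction m with
    | zero =>
      have : Nonempty X := inferInstance
      exact (dim_nonneg (X := X)).trans hcon
    | succ m ih =>
      obtain ⟨L, hL⟩ := (Order.le_krullDim_iff (α := IrreducibleCloseds Y)).mp ih
      let L' : LTSeries (IrreducibleCloseds X) :=
        L.map (IrreducibleCloseds.map Subtype.val continuous_subtype_val)
          (IrreducibleCloseds.map_strictMono_of_isInducing IsInducing.subtypeVal)
      let T : IrreducibleCloseds X :=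
        ⟨Set.univ, IrreducibleSpace.isIrreducible_univ X, isClosed_univ⟩
      have hlast : L'.last < T := by
        apply lt_of_le_of_ne
        · intro x _; trivial
        · intro heq
          apply hYX
          have h1 : ((L'.last : IrreducibleCloseds X) : Set X) = Set.univ :=
            congrArg (fun Z : IrreducibleCloseds X => (Z : Set X)) heq
          have h2 : ((L'.last : IrreducibleCloseds X) : Set X) ⊆ Y := by
            show closure (Subtype.val '' ((L.last : IrreducibleCloseds Y) : Set Y)) ⊆ Y
            apply closure_minimal _ hY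
            rintro _ ⟨y, -, rfl⟩
            exact y.2
          rw [h1] at h2
          exact Set.eq_univ_of_univ_subset h2
      let L'' := L'.snoc T hlast
      have hlen : L''.length = m + 1 := by
        simp [L'', L', hL]
      refine le_trans ?_ hcon
      unfold topologicalKrullDim
      rw [Order.le_krullDim_iff]
      exact ⟨L'', hlen⟩
  have : topologicalKrullDim ↥Y = ⊤ := ENat.WithBot.eq_top_iff_forall_ge.mpr key
  rw [this, top_le_iff] at hle
  exact hfin hle


end Groth.Agent.H3.TopDim
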