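import Mathlib
import Groth.Prelude.Def_NonAbH2
import Groth.Agent.Lib.Helper3.OverUEE

/-!
# Morphisms with local sections are universal effective epimorphisms
-/

set_option autoImplicit false

open CategoryTheory Limits AlgebraicGeometry

universe v u

namespace Groth.Agent.H3.LocSec

section general

variable {C : Type u} [Category.{v} C] (J : GrothendieckTopology C)

/-- `f` is a covering morphism for `J`: the sieve it generates is covering. -/
def IsCov {X Y : C} (f : X ⟶ Y) : Prop := Sieve.generate (Presieve.singleton f) ∈ J Y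

variable {J}

lemma IsCov.of_isPullback {X Y X' Y' : C} {f : X ⟶ Y} {f' : X' ⟶ Y'} {i₁ : X' ⟶ X} {i₂ : Y' ⟶ Y}
    (h : IsCov J f) (sq : IsPullback f' i₁ i₂ f) : IsCov J f' := by
  refine J.superset_covering ?_ (J.pullback_stable i₂ h)
  intro Z g hg
  obtain ⟨W, a, b, hb, hab⟩ := hg
  obtain ⟨⟩ := hb
  exact ⟨X', sq.lift g a hab.symm, f', Presieve.singleton_self f', sq.lift_fst _ _ _⟩

lemma IsCov.effectiveEpi [J.Subcanonical] {X Y : C} {f : X ⟶ Y} (h : IsCov J f) :
    EffectiveEpi f := by
  rw [← Sieve.effectiveEpimorphic_singleton,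
    Presieve.EffectiveEpimorphic.iff_forall_isSheafFor_yoneda]
  intro Z
  exact (GrothendieckTopology.Subcanonical.isSheaf_of_isRepresentable _).isSheafFor _ h

lemma IsCov.uee [J.Subcanonical] {X Y : C} {f : X ⟶ Y} (h : IsCov J f) : UEE C f := by
  intro X' Y' i₁ i₂ f' sq
  exact (h.of_isPullback sq).effectiveEpi

lemma IsCov.uee_over [J.Subcanonical] [HasPullbacks C] {S : C} {A B : Over S} (f : A ⟶ B)
    (h : IsCov J f.left) : UEE (Over S) f := by
  intro A' B' i₁ i₂ f' sq
  have sq' : IsPullback f'.left i₁.left i₂.left f.left := sq.map (Over.forget S)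
  haveI : EffectiveEpi f'.left := (h.of_isPullback sq').effectiveEpi
  exact OverUEE.effectiveEpi_of_left f'

end general

section schemes



lemma isCov_of_isLocallyTrivialFor (K : Precoverage Scheme.{u}) {X Y : Scheme.{u}} (f : X ⟶ Y)
    (h : NonAbH1.IsLocallyTrivialFor K (Over.mk f : Over Y)) : IsCov K.toGrothendieck f := by
  obtain ⟨R, hR, hsec⟩ := h
  refine K.toGrothendieck.superset_covering ?_ (Precoverage.generate_mem_toGrothendieck hR)
  intro Z g hg
  obtain ⟨W, a, r, hr, har⟩ := hg
  obtain ⟨s, hs⟩ := hsec r hr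
  refine ⟨X, a ≫ s, f, Presieve.singleton_self f, ?_⟩
  rw [Category.assoc]
  have : s ≫ f = r := hs
  rw [this, har]

lemma isLocallyTrivialFor_mono {K K' : Precoverage Scheme.{u}} (h : K ≤ K') {S : Scheme.{u}}
    {X : Over S} (hX : NonAbH1.IsLocallyTrivialFor K X) : NonAbH1.IsLocallyTrivialFor K' X := by
  obtain ⟨R, hR, hs⟩ := hX
  exact ⟨R, h S hR, hs⟩

lemma etalePrecoverage_le_fpqcPrecoverage :
    Scheme.etalePrecoverage.{u} ≤ Scheme.fpqcPrecoverage :=
  le_trans Scheme.etalePrecoverage_le_proetalePrecoverage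
    Scheme.proetalePrecoverage_le_fpqcPrecoverage

lemma isLocallyTrivialFor_fpqc_of_etale {S : Scheme.{u}} {X : Over S}
    (hX : NonAbH1.IsLocallyTrivialFor Scheme.etalePrecoverage X) :
    NonAbH1.IsLocallyTrivialFor Scheme.fpqcPrecoverage X :=
  isLocallyTrivialFor_mono etalePrecoverage_le_fpqcPrecoverage hX

lemma isLocallyTrivialFor_fpqc_of_fppf {S : Scheme.{u}} {X : Over S}
    (hX : NonAbH1.IsLocallyTrivialFor Scheme.fppfPrecoverage X) :
    NonAbH1.IsLocallyTrivialFor Scheme.fpqcPrecoverage X :=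
  isLocallyTrivialFor_mono Scheme.fppfPrecoverage_le_fpqcPrecoverage hX

/-- a morphism of `S`-schemes with sections locally for the fppf topology is a universal
effective epimorphism of `Over S` -/
lemma uee_of_isLocallyTrivialFor_fppf {S : Scheme.{u}} {A B : Over S} (f : A ⟶ B)
    (h : NonAbH1.IsLocallyTrivialFor Scheme.fppfPrecoverage (Over.mk f.left : Over B.left)) :
    UEE (Over S) f :=
  IsCov.uee_over (J := Scheme.fppfTopology) f (isCov_of_isLocallyTrivialFor _ _ h)

/-- the same for the fpqc topology -/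
lemma uee_of_isLocallyTrivialFor_fpqc {S : Scheme.{u}} {A B : Over S} (f : A ⟶ B)
    (h : NonAbH1.IsLocallyTrivialFor Scheme.fpqcPrecoverage (Over.mk f.left : Over B.left)) :
    UEE (Over S) f :=
  IsCov.uee_over (J := Scheme.fpqcTopology) f (isCov_of_isLocallyTrivialFor _ _ h)

end schemes

end Groth.Agent.H3.LocSec
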