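import Mathlib
import Groth.Agent.Lib.Helper3.FpqcLocal2

/-!
# fpqc descent of monomorphisms, closed immersions, separated, proper and finite morphisms
-/

set_option autoImplicit false

open CategoryTheory Limits MorphismProperty AlgebraicGeometry

universe u

namespace Groth.Agent.H3.FpqcLocal

/-- the class of fpqc morphisms -/
abbrev Qfpqc : MorphismProperty Scheme.{u} := @Surjective ⊓ @Flat ⊓ @QuasiCompact

lemma mono_descendsAlong_fpqc :
    (MorphismProperty.monomorphisms Scheme.{u}).DescendsAlong Qfpqc := by
  rw [← MorphismProperty.diagonal_isomorphisms]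
  infer_instance

attribute [local instance] mono_descendsAlong_fpqc quasiCompact_descendsAlong_fpqc
  FlatDesc.flat_descendsAlong_fpqc

lemma isClosedImmersion_descendsAlong_fpqc :
    MorphismProperty.DescendsAlong @IsClosedImmersion.{u} Qfpqc := by
  constructor
  intro A X Y Z fst snd f g h hf hfst
  rw [IsClosedImmersion.eq_proper_inf_monomorphisms] at hfst ⊢
  obtain ⟨hp, hm⟩ := hfst
  have hm' : Mono g := MorphismProperty.of_isPullback_of_descendsAlong
    (P := MorphismProperty.monomorphisms Scheme.{u}) (Q := Qfpqc) h hf hm
  haveI : IsProper fst := hp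
  have h1 : UniversallyClosed g := MorphismProperty.of_isPullback_of_descendsAlong
    (P := @UniversallyClosed) (Q := Qfpqc) h hf inferInstance
  have h2 : LocallyOfFiniteType g := MorphismProperty.of_isPullback_of_descendsAlong
    (P := @LocallyOfFiniteType) (Q := Qfpqc) h hf inferInstance
  exact ⟨{ }, hm'⟩

attribute [local instance] isClosedImmersion_descendsAlong_fpqc

lemma isSeparated_descendsAlong_fpqc :
    MorphismProperty.DescendsAlong @IsSeparated.{u} Qfpqc := by
  rw [IsSeparated.isSeparated_eq_diagonal_isClosedImmersion]
  infer_instance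

attribute [local instance] isSeparated_descendsAlong_fpqc

lemma isProper_descendsAlong_fpqc :
    MorphismProperty.DescendsAlong @IsProper.{u} Qfpqc := by
  rw [isProper_eq]
  infer_instance

attribute [local instance] isProper_descendsAlong_fpqc

lemma isFinite_descendsAlong_fpqc :
    MorphismProperty.DescendsAlong @IsFinite.{u} Qfpqc := by
  constructor
  intro A X Y Z fst snd f g h hf hfst
  haveI : IsFinite fst := hfst
  haveI hp : IsProper g := MorphismProperty.of_isPullback_of_descendsAlong
    (P := @IsProper) (Q := Qfpqc) h hf inferInstance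
  haveI : Surjective f := hf.1.1
  haveI : LocallyQuasiFinite g := by
    rw [locallyQuasiFinite_iff_finite_preimage_singleton]
    intro z
    obtain ⟨x, hx⟩ := f.surjective z
    have hfin : (fst ⁻¹' {x}).Finite := fst.finite_preimage_singleton x
    refine (hfin.image snd).subset ?_
    intro y hy
    have hy' : g y = z := hy
    haveI := h.hasPullback
    obtain ⟨w, hw1, hw2⟩ := Scheme.Pullback.exists_preimage_pullback x y (hx.trans hy'.symm)
    refine ⟨h.isoPullback.inv w, ?_, ?_⟩
    · change fst (h.isoPullback.inv w) = x
      rw [← Scheme.Hom.comp_apply, h.isoPullback_inv_fst, hw1]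
    · rw [← Scheme.Hom.comp_apply, h.isoPullback_inv_snd, hw2]
  exact IsFinite.of_isProper_of_locallyQuasiFinite g


attribute [local instance] isFinite_descendsAlong_fpqc

instance isClosedImmersion_fpqc :
    MorphismProperty.IsLocalAtTarget @IsClosedImmersion.{u} Scheme.fpqcPrecoverage :=
  isLocalAtTarget_fpqc _

instance isSeparated_fpqc :
    MorphismProperty.IsLocalAtTarget @IsSeparated.{u} Scheme.fpqcPrecoverage :=
  isLocalAtTarget_fpqc _

instance isProper_fpqc :
    MorphismProperty.IsLocalAtTarget @IsProper.{u} Scheme.fpqcPrecoverage :=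
  isLocalAtTarget_fpqc _

instance isFinite_fpqc :
    MorphismProperty.IsLocalAtTarget @IsFinite.{u} Scheme.fpqcPrecoverage :=
  isLocalAtTarget_fpqc _

end Groth.Agent.H3.FpqcLocal
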