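import Mathlib
import Groth.Prelude.Def_Red2
import Groth.Prelude.Def_SekSuwa
import Groth.Agent.H4.GaGm

/-! Toolkit for diagonalisable group schemes `D_S(M)`: functoriality and points. -/

universe u

open CategoryTheory MonoidalCategory CartesianMonoidalCategory MonObj GrpObj AlgebraicGeometry Limits
open Groth.Agent.H4.GaGm

namespace Groth.Agent.H3.DSKit

variable {M N P : Type} [AddCommGroup M] [AddCommGroup N] [AddCommGroup P]

theorem diagMap_eq_specHom (R : Type u) [CommRing R] (φ : M →+ N) :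
    Red.diagMap R φ =
      SekSuwa.specHom (MonoidAlgebra.mapDomainBialgHom R (AddMonoidHom.toMultiplicative φ)) := by
  apply Over.OverMorphism.ext
  rfl

instance isMonHom_diagMap (R : Type u) [CommRing R] (φ : M →+ N) : IsMonHom (Red.diagMap R φ) := by
  rw [diagMap_eq_specHom]; infer_instance

open scoped CategoryTheory.Obj in
instance isMonHom_DSmap (S : Scheme.{u}) (φ : M →+ N) : IsMonHom (Red.DSmap S φ) := by
  unfold Red.DSmap; infer_instance

theorem diagMap_comp (R : Type u) [CommRing R] (φ : M →+ N) (ψ : N →+ P) :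
    Red.diagMap R (ψ.comp φ) = Red.diagMap R ψ ≫ Red.diagMap R φ := by
  rw [diagMap_eq_specHom, diagMap_eq_specHom, diagMap_eq_specHom, ← SekSuwa.specHom_comp,
    ← MonoidAlgebra.mapDomainBialgHom_comp]
  rfl

theorem DSmap_comp (S : Scheme.{u}) (φ : M →+ N) (ψ : N →+ P) :
    Red.DSmap S (ψ.comp φ) = Red.DSmap S ψ ≫ Red.DSmap S φ := by
  unfold Red.DSmap
  rw [diagMap_comp, Functor.map_comp]

theorem diagMap_zero (R : Type u) [CommRing R] :
    Red.diagMap R (0 : M →+ N) = 1 := by
  rw [diagMap_eq_specHom, ← SekSuwa.specHom_trivial]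
  congr 1
  apply BialgHom.coe_toAlgHom_injective
  refine MonoidAlgebra.algHom_ext (fun m => ?_) (Subsingleton.elim _ _)
  simp [MonoidAlgebra.one_def]

open scoped CategoryTheory.Obj in
theorem DSmap_zero (S : Scheme.{u}) : Red.DSmap S (0 : M →+ N) = 1 := by
  unfold Red.DSmap
  rw [diagMap_zero]
  exact Functor.map_one _

section Points

variable {S : Scheme.{u}} {X : Over S}

/-- The ring hom attached to a point of `D_S(M)`. -/
noncomputable def evX (z : X ⟶ Red.DS S M) :
    MonoidAlgebra (ULift.{u} ℤ) (Multiplicative M) →+* Γ(X.left, ⊤) :=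
  ev (tr (fZ S) (Red.diag (ULift.{u} ℤ) M) z)

/-- The character of `M` with values in global functions attached to a point of `D_S(M)`. -/
noncomputable def chr (z : X ⟶ Red.DS S M) : Multiplicative M →* Γ(X.left, ⊤) :=
  ((evX z : MonoidAlgebra (ULift.{u} ℤ) (Multiplicative M) →+* Γ(X.left, ⊤)) :
      MonoidAlgebra (ULift.{u} ℤ) (Multiplicative M) →* Γ(X.left, ⊤)).comp
    (MonoidAlgebra.of (ULift.{u} ℤ) (Multiplicative M))

theorem chr_apply (z : X ⟶ Red.DS S M) (m : Multiplicative M) :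
    chr z m = ev (tr (fZ S) (Red.diag (ULift.{u} ℤ) M) z) (MonoidAlgebra.single m 1) := rfl

theorem chr_mul (z w : X ⟶ Red.DS S M) (m : Multiplicative M) :
    chr (z * w) m = chr z m * chr w m := by
  rw [chr_apply, chr_apply, chr_apply, tr_mul, ev_mul, MonoidAlgebra.comul_single,
    CommSemiring.comul_apply]
  exact ev₂_tmul _ _ _ _

theorem chr_injective : Function.Injective (chr (S := S) (X := X) (M := M)) := by
  intro z w h
  apply tr_injective (fZ S) (Red.diag (ULift.{u} ℤ) M)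
  apply ev_injective
  apply MonoidAlgebra.ringHom_ext'
  · exact ringHom_ext_uliftZ _ _
  · exact h

theorem chr_surjective (φ : Multiplicative M →* Γ(X.left, ⊤)) :
    ∃ z : X ⟶ Red.DS S M, chr z = φ := by
  let f : ULift.{u} ℤ →+* Γ(X.left, ⊤) :=
    (Int.castRingHom _).comp (ULift.ringEquiv : ULift.{u} ℤ ≃+* ℤ).toRingHom
  let ψ : MonoidAlgebra (ULift.{u} ℤ) (Multiplicative M) →+* Γ(X.left, ⊤) :=
    MonoidAlgebra.liftNCRingHom f φ (fun x y => Commute.all _ _)
  refine ⟨(Over.mapPullbackAdj (fZ S)).homEquiv X (Red.diag (ULift.{u} ℤ) M) (pt ψ), ?_⟩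
  have h1 : tr (fZ S) (Red.diag (ULift.{u} ℤ) M)
      ((Over.mapPullbackAdj (fZ S)).homEquiv X (Red.diag (ULift.{u} ℤ) M) (pt ψ)) = pt ψ := by
    simp [tr]
  refine MonoidHom.ext fun m => ?_
  rw [chr_apply, h1, ev_pt]
  simp [ψ, f]

theorem tr_comp_map {Z : Scheme.{u}} (f : S ⟶ Z) {H H' : Over Z} [GrpObj H] [GrpObj H']
    (z : X ⟶ Red.bc f H) (g : H ⟶ H') :
    tr f H' (z ≫ (Over.pullback f).map g) = tr f H z ≫ g := by
  unfold tr
  exact (Over.mapPullbackAdj f).homEquiv_naturality_right_symm z g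

theorem tr_precomp {Z : Scheme.{u}} (f : S ⟶ Z) {H : Over Z} [GrpObj H] {X' : Over S}
    (g : X' ⟶ X) (z : X ⟶ Red.bc f H) :
    tr f H (g ≫ z) = (Over.map f).map g ≫ tr f H z := by
  unfold tr
  exact (Over.mapPullbackAdj f).homEquiv_naturality_left_symm g z

theorem chr_comp_DSmap (z : X ⟶ Red.DS S N) (φ : M →+ N) (m : Multiplicative M) :
    chr (z ≫ Red.DSmap S φ) m = chr z (AddMonoidHom.toMultiplicative φ m) := by
  rw [chr_apply, chr_apply]
  unfold Red.DSmap
  rw [tr_comp_map]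
  have h := ev_of_left_eq (tr (fZ S) (Red.diag (ULift.{u} ℤ) N) z ≫ Red.diagMap (ULift.{u} ℤ) φ)
    (tr (fZ S) (Red.diag (ULift.{u} ℤ) N) z).left
    (CommRingCat.ofHom (MonoidAlgebra.mapDomainAlgHom (ULift.{u} ℤ) (ULift.{u} ℤ)
      (AddMonoidHom.toMultiplicative φ)).toRingHom) rfl (MonoidAlgebra.single m 1)
  rw [h]
  simp [ev]
  rfl

theorem chr_precomp {X' : Over S} (g : X' ⟶ X) (z : X ⟶ Red.DS S M) (m : Multiplicative M) :
    chr (g ≫ z) m = g.left.appTop.hom (chr z m) := by
  rw [chr_apply, chr_apply, tr_precomp]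
  simp only [ev, RingHom.coe_comp, Function.comp_apply, Over.comp_left, Scheme.Hom.comp_appTop,
    CommRingCat.hom_comp]
  rfl

theorem chr_one : chr (1 : X ⟶ Red.DS S M) = 1 := by
  refine MonoidHom.ext fun m => ?_
  have h1 : chr (1 : X ⟶ Red.DS S M) m * chr (1 : X ⟶ Red.DS S M) m =
      chr (1 : X ⟶ Red.DS S M) m := by
    have e : (1 : X ⟶ Red.DS S M) * 1 = 1 := _root_.mul_one (1 : X ⟶ Red.DS S M)
    have h := chr_mul (1 : X ⟶ Red.DS S M) 1 m
    rw [e] at h
    exact h.symm
  have h2 : chr (1 : X ⟶ Red.DS S M) m * chr (1 : X ⟶ Red.DS S M) m⁻¹ = 1 := by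
    rw [← map_mul, mul_inv_cancel, map_one]
  have h3 : IsUnit (chr (1 : X ⟶ Red.DS S M) m) := IsUnit.of_mul_eq_one _ h2
  have := h3.mul_left_cancel (h1.trans (_root_.mul_one _).symm)
  simpa using this

end Points

section Kernel

variable (S : Scheme.{u})

/-- `D_S` turns a right exact sequence `M → N → P → 0` into a kernel `D(P) = ker (D(N) → D(M))`. -/
theorem isKernel_DSmap (φ : M →+ N) (ψ : N →+ P) (hψ : Function.Surjective ψ)
    (hex : ∀ n, ψ n = 0 → n ∈ φ.range) (hcomp : ψ.comp φ = 0) :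
    IsPullback (Red.DSmap S ψ) (toUnit (Red.DS S P)) (Red.DSmap S φ) η[Red.DS S M] := by
  have hw : Red.DSmap S ψ ≫ Red.DSmap S φ = toUnit (Red.DS S P) ≫ η[Red.DS S M] := by
    rw [← DSmap_comp, hcomp, DSmap_zero, Hom.one_def]
  have key : ∀ {X : Over S} (c : X ⟶ Red.DS S N), c ≫ Red.DSmap S φ = 1 →
      ∃ z : X ⟶ Red.DS S P, z ≫ Red.DSmap S ψ = c := by
    intro X c hc
    have hker : (AddMonoidHom.toMultiplicative ψ).ker ≤ ((chr c).toHomUnits).ker := by
      intro n hn
      rw [MonoidHom.mem_ker] at hn ⊢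
      obtain ⟨m, hm⟩ := hex (Multiplicative.toAdd n) (by simpa using congrArg Multiplicative.toAdd hn)
      have hn' : n = AddMonoidHom.toMultiplicative φ (Multiplicative.ofAdd m) := by
        simp [hm]
      apply Units.ext
      rw [MonoidHom.coe_toHomUnits, hn', ← chr_comp_DSmap, hc, chr_one]
      rfl
    let ζ' : Multiplicative P →* (Γ(X.left, ⊤))ˣ :=
      (AddMonoidHom.toMultiplicative ψ).liftOfRightInverse
        (Function.surjInv (f := AddMonoidHom.toMultiplicative ψ) hψ)
        (Function.rightInverse_surjInv _) ⟨(chr c).toHomUnits, hker⟩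
    obtain ⟨z, hz⟩ := chr_surjective (S := S) (X := X) ((Units.coeHom _).comp ζ')
    refine ⟨z, ?_⟩
    apply chr_injective
    refine MonoidHom.ext fun n => ?_
    rw [chr_comp_DSmap, hz]
    simp only [MonoidHom.coe_comp, Function.comp_apply, Units.coeHom_apply, ζ']
    rw [MonoidHom.liftOfRightInverse_comp_apply]
    exact MonoidHom.coe_toHomUnits _ _
  have hmono : ∀ {X : Over S} (z z' : X ⟶ Red.DS S P),
      z ≫ Red.DSmap S ψ = z' ≫ Red.DSmap S ψ → z = z' := by
    intro X z z' h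
    apply chr_injective
    refine MonoidHom.ext fun p => ?_
    obtain ⟨n, rfl⟩ := hψ (Multiplicative.toAdd p)
    have := congrArg (fun w => chr w (Multiplicative.ofAdd n)) h
    simp only [chr_comp_DSmap] at this
    exact this
  refine IsPullback.of_isLimit' ⟨hw⟩ (PullbackCone.IsLimit.mk _ ?_ ?_ ?_ ?_)
  · intro s
    exact (key s.fst (by rw [s.condition, Hom.one_def, toUnit_unique s.snd (toUnit _)])).choose
  · intro s
    exact (key s.fst (by rw [s.condition, Hom.one_def, toUnit_unique s.snd (toUnit _)])).choose_spec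
  · intro s
    exact toUnit_unique _ _
  · intro s m h1 _
    apply hmono
    rw [h1]
    exact (key s.fst (by rw [s.condition, Hom.one_def,
      toUnit_unique s.snd (toUnit _)])).choose_spec.symm

end Kernel

end Groth.Agent.H3.DSKit
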