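import Mathlib
import Groth.Prelude.Def_FibCat2
import Groth.Prelude.Def_W4stkcategoriessitesFib

set_option autoImplicit false

universe v₄ u₄ v₃ u₃ v₂ u₂ v u

open CategoryTheory CategoryTheory.Functor CategoryTheory.Limits

namespace Groth.Agent.H3.FibCatAux

section Basic

variable {C : Type u} [Category.{v} C] {𝒳 : Type u₂} [Category.{v₂} 𝒳] (p : 𝒳 ⥤ C)

/-- In a category fibred in groupoids every morphism lying over `f` is strongly cartesian over `f`. -/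
lemma isStronglyCartesian_of_isHomLift (h : FibCat.IsFibGrpd p) {R S : C} (f : R ⟶ S) {a b : 𝒳}
    (φ : a ⟶ b) [p.IsHomLift f φ] : p.IsStronglyCartesian f φ := by
  subst_hom_lift p f φ; exact h.isStronglyCartesian φ

lemma isFibered_of_isFibGrpd (h : FibCat.IsFibGrpd p) : p.IsFibered := by
  apply IsFibered.of_exists_isStronglyCartesian
  intro a R f
  obtain ⟨y, φ, hφ⟩ := h.exists_lift f
  exact ⟨y, φ, isStronglyCartesian_of_isHomLift p h f φ⟩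

lemma isIso_of_isHomLift_id (h : FibCat.IsFibGrpd p) {U : C} {a b : 𝒳} (φ : a ⟶ b)
    [p.IsHomLift (𝟙 U) φ] : IsIso φ := by
  have := isStronglyCartesian_of_isHomLift p h (𝟙 U) φ
  exact IsStronglyCartesian.isIso_of_base_isIso p (𝟙 U) φ

lemma isIso_of_isHomLift_iso (h : FibCat.IsFibGrpd p) {R S : C} (f : R ⟶ S) [IsIso f] {a b : 𝒳}
    (φ : a ⟶ b) [p.IsHomLift f φ] : IsIso φ := by
  have := isStronglyCartesian_of_isHomLift p h f φ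
  exact IsStronglyCartesian.isIso_of_base_isIso p f φ

lemma isGroupoid_fiber_of_isFibGrpd (h : FibCat.IsFibGrpd p) (U : C) : IsGroupoid (p.Fiber U) := by
  constructor
  intro X Y f
  have : p.IsHomLift (𝟙 U) f.1 := f.2
  have : IsIso f.1 := isIso_of_isHomLift_id p h (U := U) f.1
  refine ⟨⟨⟨inv f.1, inferInstance⟩, ?_, ?_⟩⟩
  · apply Fiber.hom_ext; exact IsIso.hom_inv_id f.1
  · apply Fiber.hom_ext; exact IsIso.inv_hom_id f.1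

lemma isFibGrpd_of_isFibered_of_isGroupoid [p.IsFibered] (hg : ∀ U : C, IsGroupoid (p.Fiber U)) :
    FibCat.IsFibGrpd p where
  exists_lift := by
    intro x V f
    obtain ⟨y, φ, hφ⟩ := IsPreFibered.exists_isCartesian' (p := p) f
    exact ⟨y, φ, inferInstance⟩
  isStronglyCartesian := by
    intro y x φ
    obtain ⟨y', ψ, hψ⟩ := IsPreFibered.exists_isCartesian' (p := p) (p.map φ)
    have : p.IsStronglyCartesian (p.map φ) ψ := inferInstance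
    let χ := IsCartesian.map p (p.map φ) ψ φ
    have hχ : χ ≫ ψ = φ := IsCartesian.fac p (p.map φ) ψ φ
    have := hg (p.obj y)
    have : IsIso χ := by
      have : IsIso (Fiber.homMk p (p.obj y) χ) := IsGroupoid.all_isIso _
      have h2 : IsIso (Fiber.fiberInclusion.map (Fiber.homMk p (p.obj y) χ)) := inferInstance
      exact h2
    have h3 : p.IsStronglyCartesian (𝟙 (p.obj y) ≫ p.map φ) (χ ≫ ψ) := inferInstance
    rw [Category.id_comp, hχ] at h3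
    exact h3

theorem X6393 : FibCat.IsFibGrpd p ↔ (p.IsFibered ∧ ∀ U : C, IsGroupoid (p.Fiber U)) :=
  ⟨fun h => ⟨isFibered_of_isFibGrpd p h, isGroupoid_fiber_of_isFibGrpd p h⟩,
   fun ⟨_, h2⟩ => isFibGrpd_of_isFibered_of_isGroupoid p h2⟩

end Basic

section Comp

variable {𝒜 : Type u} [Category.{v} 𝒜] {ℬ : Type u₂} [Category.{v₂} ℬ] {𝒞 : Type u₃} [Category.{v₃} 𝒞]

lemma isHomLift_comp_of (F : 𝒜 ⥤ ℬ) (G : ℬ ⥤ 𝒞) {R S : ℬ} (g : R ⟶ S) {a b : 𝒜} (φ : a ⟶ b)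
    [F.IsHomLift g φ] {R' S' : 𝒞} (f : R' ⟶ S') [G.IsHomLift f g] : (F ⋙ G).IsHomLift f φ := by
  subst_hom_lift F g φ
  subst_hom_lift G f (F.map φ)
  exact IsHomLift.map (F ⋙ G) φ

lemma isHomLift_comp_map (F : 𝒜 ⥤ ℬ) (G : ℬ ⥤ 𝒞) {R S : ℬ} (g : R ⟶ S) {a b : 𝒜} (φ : a ⟶ b)
    [F.IsHomLift g φ] : (F ⋙ G).IsHomLift (G.map g) φ :=
  isHomLift_comp_of F G g φ (G.map g)

lemma isHomLift_map_of_comp (F : 𝒜 ⥤ ℬ) (G : ℬ ⥤ 𝒞) {R' S' : 𝒞} (f : R' ⟶ S') {a b : 𝒜} (φ : a ⟶ b)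
    [(F ⋙ G).IsHomLift f φ] : G.IsHomLift f (F.map φ) := by
  subst_hom_lift (F ⋙ G) f φ
  exact IsHomLift.map G (F.map φ)

theorem X6416 (F : 𝒜 ⥤ ℬ) (G : ℬ ⥤ 𝒞) (hF : FibCat.IsFibGrpd F) (hG : FibCat.IsFibGrpd G) :
    FibCat.IsFibGrpd (F ⋙ G) where
  exists_lift := by
    intro x V f
    obtain ⟨y', g, hg⟩ := hG.exists_lift (x := F.obj x) f
    obtain ⟨y, φ, hφ⟩ := hF.exists_lift (x := x) g
    exact ⟨y, φ, isHomLift_comp_of F G g φ f⟩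
  isStronglyCartesian := by
    intro y x φ
    refine { toIsHomLift := IsHomLift.map _ φ, universal_property' := ?_ }
    intro a' g φ' hφ'
    have h1 : G.IsStronglyCartesian (G.map (F.map φ)) (F.map φ) := hG.isStronglyCartesian _
    have h2 : F.IsStronglyCartesian (F.map φ) φ := hF.isStronglyCartesian _
    have h3 : G.IsHomLift (g ≫ G.map (F.map φ)) (F.map φ') := by
      have : (F ⋙ G).IsHomLift (g ≫ G.map (F.map φ)) φ' := hφ'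
      exact isHomLift_map_of_comp F G _ φ'
    obtain ⟨χ', ⟨hχ'1, hχ'2⟩, hχ'u⟩ := h1.universal_property' (a' := F.obj a') g (F.map φ')
    have h4 : F.IsHomLift (χ' ≫ F.map φ) φ' := by rw [hχ'2]; exact IsHomLift.map F φ'
    obtain ⟨χ, ⟨hχ1, hχ2⟩, hχu⟩ := h2.universal_property' (a' := a') χ' φ'
    refine ⟨χ, ⟨isHomLift_comp_of F G χ' χ g, hχ2⟩, ?_⟩
    rintro χ₂ ⟨h5, h6⟩
    apply hχu
    refine ⟨?_, h6⟩
    have h7 : G.IsHomLift g (F.map χ₂) := isHomLift_map_of_comp F G _ χ₂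
    have h8 : F.map χ₂ = χ' := hχ'u _ ⟨h7, by rw [← F.map_comp, h6]⟩
    rw [← h8]
    exact IsHomLift.map F χ₂

end Comp

section OverForget

variable {𝒮 : Type u} [Category.{v} 𝒮] {C : Type u₂} [Category.{v₂} C] {U : C}

lemma isHomLift_over_of_left (p' : 𝒮 ⥤ Over U) {V W : Over U} (f : V ⟶ W) {a b : 𝒮} (φ : a ⟶ b)
    (hb : p'.obj b = W) [(p' ⋙ Over.forget U).IsHomLift f.left φ] : p'.IsHomLift f φ := by
  subst hb
  have h1 : (p'.obj a).left = V.left := IsHomLift.domain_eq (p' ⋙ Over.forget U) f.left φ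
  have hfac := IsHomLift.fac (p' ⋙ Over.forget U) f.left φ
  obtain ⟨W, ⟨⟨⟩⟩, v⟩ := V
  change (p'.obj a).left = W at h1
  subst h1
  have h2 : f.left = (p'.map φ).left := by
    rw [hfac]; simp
  have h3 : v = (p'.obj a).hom := by
    have := Over.w f
    change f.left ≫ (p'.obj b).hom = v at this
    rw [← this, h2]
    exact Over.w (p'.map φ)
  subst h3
  have h4 : f = p'.map φ := by
    apply Over.OverMorphism.ext
    exact h2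
  rw [h4]
  exact IsHomLift.map p' φ

theorem X6419 (p' : 𝒮 ⥤ Over U) (h : FibCat.IsFibGrpd (p' ⋙ Over.forget U)) : FibCat.IsFibGrpd p' where
  exists_lift := by
    intro x V f
    obtain ⟨y, φ, hφ⟩ := h.exists_lift (x := x) (V := V.left) f.left
    have : (p' ⋙ Over.forget U).IsHomLift f.left φ := hφ
    exact ⟨y, φ, isHomLift_over_of_left p' f φ rfl⟩
  isStronglyCartesian := by
    intro y x φ
    refine { toIsHomLift := IsHomLift.map _ φ, universal_property' := ?_ }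
    intro a' g φ' hφ'
    have h2 := h.isStronglyCartesian φ
    have h3 : (p' ⋙ Over.forget U).IsHomLift (g.left ≫ (p' ⋙ Over.forget U).map φ) φ' := by
      have h0 : p'.IsHomLift (g ≫ p'.map φ) φ' := hφ'
      have := isHomLift_comp_map p' (Over.forget U) (g ≫ p'.map φ) φ'
      simpa using this
    obtain ⟨χ, ⟨hχ1, hχ2⟩, hχu⟩ :=
      @IsStronglyCartesian.universal_property' _ _ _ _ _ _ _ _ _ _ _ h2 a' g.left φ' h3
    have : (p' ⋙ Over.forget U).IsHomLift g.left χ := hχ1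
    refine ⟨χ, ⟨isHomLift_over_of_left p' g χ rfl, hχ2⟩, ?_⟩
    rintro χ₂ ⟨h5, h6⟩
    apply hχu
    exact ⟨isHomLift_comp_map p' (Over.forget U) g χ₂, h6⟩

end OverForget

section CartSub

variable {C : Type u} [Category.{v} C] {𝒮 : Type u₂} [Category.{v₂} 𝒮] (p : 𝒮 ⥤ C)

lemma isStronglyCartesian_map_of (p : 𝒮 ⥤ C) {R S : C} (f : R ⟶ S) {a b : 𝒮} (φ : a ⟶ b)
    [p.IsStronglyCartesian f φ] : p.IsStronglyCartesian (p.map φ) φ := by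
  subst_hom_lift p f φ; infer_instance

lemma isStronglyCartesian_of_map (p : 𝒮 ⥤ C) {R S : C} (f : R ⟶ S) {a b : 𝒮} (φ : a ⟶ b)
    [p.IsHomLift f φ] (h : p.IsStronglyCartesian (p.map φ) φ) : p.IsStronglyCartesian f φ := by
  subst_hom_lift p f φ; exact h

lemma isHomLift_wide_iff {R S : C} (f : R ⟶ S) {a b : FibCat.cartSub p} (φ : a ⟶ b) :
    (FibCat.cartSubProj p).IsHomLift f φ ↔ p.IsHomLift f φ.1 := by
  constructor
  · intro h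
    subst_hom_lift (FibCat.cartSubProj p) f φ
    exact IsHomLift.map p φ.1
  · intro h
    subst_hom_lift p f φ.1
    exact IsHomLift.map (FibCat.cartSubProj p) φ

theorem X6430 [p.IsFibered] : FibCat.IsFibGrpd (FibCat.cartSubProj p) where
  exists_lift := by
    intro x V (f : V ⟶ p.obj x.obj)
    obtain ⟨y, φ, hφ⟩ := IsPreFibered.exists_isCartesian' (p := p) (a := x.obj) f
    have h1 : p.IsStronglyCartesian f φ := IsFibered.isStronglyCartesian_of_isCartesian p f φ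
    have h2 : p.IsStronglyCartesian (p.map φ) φ := isStronglyCartesian_map_of p f φ
    refine ⟨⟨y⟩, ⟨φ, h2⟩, ?_⟩
    rw [isHomLift_wide_iff]
    exact h1.toIsHomLift
  isStronglyCartesian := by
    intro y x φ
    refine { toIsHomLift := IsHomLift.map _ φ, universal_property' := ?_ }
    intro a' (g : p.obj a'.obj ⟶ p.obj y.obj) φ' hφ'
    have h2 : p.IsStronglyCartesian (p.map φ.1) φ.1 := φ.2
    have h3 : p.IsHomLift (g ≫ p.map φ.1) φ'.1 := (isHomLift_wide_iff p _ φ').1 hφ'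
    obtain ⟨χ, ⟨hχ1, hχ2⟩, hχu⟩ :=
      @IsStronglyCartesian.universal_property' _ _ _ _ _ _ _ _ _ _ _ h2 a'.obj g φ'.1 h3
    have h4 : p.IsStronglyCartesian (g ≫ p.map φ.1) (χ ≫ φ.1) := by
      rw [hχ2]
      exact isStronglyCartesian_of_map p _ φ'.1 φ'.2
    have h5 : p.IsStronglyCartesian g χ := IsStronglyCartesian.of_comp p (f := g) (g := p.map φ.1) (φ := χ) (ψ := φ.1)
    have h6 : p.IsStronglyCartesian (p.map χ) χ := isStronglyCartesian_map_of p g χ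
    refine ⟨⟨χ, h6⟩, ⟨(isHomLift_wide_iff p g _).2 hχ1, WideSubcategory.hom_ext _ hχ2⟩, ?_⟩
    rintro χ₂ ⟨h7, h8⟩
    apply WideSubcategory.hom_ext
    apply hχu
    exact ⟨(isHomLift_wide_iff p g χ₂).1 h7, congrArg (fun t => t.1) h8⟩

end CartSub

section EquivOver

variable {C : Type u} [Category.{v} C] {𝒳 : BasedCategory.{v₂, u₂} C} {𝒴 : BasedCategory.{v₃, u₃} C}

lemma isStronglyCartesian_iso_comp_iso {𝒮 : Type u₂} [Category.{v₂} 𝒮] (p : 𝒮 ⥤ C) {R S : C} (f : R ⟶ S)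
    {a' a b b' : 𝒮} (α : a' ⟶ a) [IsIso α] [p.IsHomLift (𝟙 R) α] (φ : a ⟶ b)
    [p.IsStronglyCartesian f φ] (β : b ⟶ b') [IsIso β] [p.IsHomLift (𝟙 S) β] :
    p.IsStronglyCartesian f (α ≫ φ ≫ β) := by
  have h1 : p.IsStronglyCartesian (𝟙 R) α := IsStronglyCartesian.of_isIso p (𝟙 R) α
  have h2 : p.IsStronglyCartesian (𝟙 S) β := IsStronglyCartesian.of_isIso p (𝟙 S) β
  have h3 : p.IsStronglyCartesian (𝟙 R ≫ f ≫ 𝟙 S) (α ≫ φ ≫ β) := inferInstance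
  simpa using h3

/-- A fully faithful functor over `C` reflects strongly cartesian morphisms. -/
lemma isStronglyCartesian_of_map_of_fullyFaithful (F : 𝒳 ⥤ᵇ 𝒴) [F.toFunctor.Full]
    [F.toFunctor.Faithful] {R S : C} (f : R ⟶ S) {a b : 𝒳.obj} (φ : a ⟶ b)
    [𝒴.p.IsStronglyCartesian f (F.map φ)] : 𝒳.p.IsStronglyCartesian f φ where
  toIsHomLift := BasedFunctor.isHomLift_map F f φ
  universal_property' := by
    intro a' g φ' hφ'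
    have h0 : 𝒴.p.IsHomLift (g ≫ f) (F.map φ') := inferInstance
    obtain ⟨χ', ⟨h1, h2⟩, hu⟩ :=
      IsStronglyCartesian.universal_property 𝒴.p f (F.map φ) g (g ≫ f) rfl (F.map φ')
    refine ⟨F.toFunctor.preimage χ', ⟨?_, ?_⟩, ?_⟩
    · have : 𝒴.p.IsHomLift g (F.map (F.toFunctor.preimage χ')) := by
        rw [F.toFunctor.map_preimage]; exact h1
      exact BasedFunctor.isHomLift_map F g _
    · apply F.toFunctor.map_injective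
      rw [Functor.map_comp, Functor.map_preimage]; exact h2
    · rintro χ₂ ⟨h3, h4⟩
      apply F.toFunctor.map_injective
      rw [Functor.map_preimage]
      apply hu
      exact ⟨inferInstance, by rw [← Functor.map_comp, h4]⟩

/-- The underlying equivalence of an equivalence over `C`. -/
def equivalenceOfIsos (F : 𝒳 ⥤ᵇ 𝒴) (G : 𝒴 ⥤ᵇ 𝒳)
    (e₁ : BasedFunctor.comp F G ≅ BasedFunctor.id 𝒳) (e₂ : BasedFunctor.comp G F ≅ BasedFunctor.id 𝒴) :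
    𝒳.obj ≌ 𝒴.obj :=
  CategoryTheory.Equivalence.mk F.toFunctor G.toFunctor ((BasedNatTrans.forgetful _ _).mapIso e₁).symm
    ((BasedNatTrans.forgetful _ _).mapIso e₂)

lemma isEquivalence_of_isos (F : 𝒳 ⥤ᵇ 𝒴) (G : 𝒴 ⥤ᵇ 𝒳)
    (e₁ : BasedFunctor.comp F G ≅ BasedFunctor.id 𝒳) (e₂ : BasedFunctor.comp G F ≅ BasedFunctor.id 𝒴) :
    F.toFunctor.IsEquivalence :=
  (equivalenceOfIsos F G e₁ e₂).isEquivalence_functor

lemma isEquivalence_of_isEquivOver (F : 𝒳 ⥤ᵇ 𝒴) (hF : FibCat.IsEquivOver F) :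
    F.toFunctor.IsEquivalence := by
  obtain ⟨G, ⟨e₁⟩, ⟨e₂⟩⟩ := hF
  exact isEquivalence_of_isos F G e₁ e₂

lemma isEquivOver_inverse (F : 𝒳 ⥤ᵇ 𝒴) (G : 𝒴 ⥤ᵇ 𝒳)
    (e₁ : BasedFunctor.comp F G ≅ BasedFunctor.id 𝒳) (e₂ : BasedFunctor.comp G F ≅ BasedFunctor.id 𝒴) :
    FibCat.IsEquivOver G := ⟨F, ⟨e₂⟩, ⟨e₁⟩⟩

/-- An equivalence over `C` preserves strongly cartesian morphisms. -/
theorem isStronglyCartesian_map_of_isEquivOver (F : 𝒳 ⥤ᵇ 𝒴) (hF : FibCat.IsEquivOver F)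
    {R S : C} (f : R ⟶ S) {a b : 𝒳.obj} (φ : a ⟶ b) [𝒳.p.IsStronglyCartesian f φ] :
    𝒴.p.IsStronglyCartesian f (F.map φ) := by
  obtain ⟨G, ⟨e₁⟩, ⟨e₂⟩⟩ := hF
  have hG : G.toFunctor.IsEquivalence := isEquivalence_of_isos G F e₂ e₁
  let E : F.toFunctor ⋙ G.toFunctor ≅ 𝟭 _ := (BasedNatTrans.forgetful _ _).mapIso e₁
  have hnat : G.map (F.map φ) = E.hom.app a ≫ φ ≫ E.inv.app b :=
    (NatIso.naturality_1 E.symm φ).symm
  have hα' : 𝒳.p.IsHomLift (𝟙 R) (E.hom.app a) :=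
    BasedNatTrans.isHomLift e₁.hom (IsHomLift.domain_eq 𝒳.p f φ)
  have hβ' : 𝒳.p.IsHomLift (𝟙 S) (E.inv.app b) :=
    BasedNatTrans.isHomLift e₁.inv (IsHomLift.codomain_eq 𝒳.p f φ)
  have h3 : 𝒳.p.IsStronglyCartesian f (G.map (F.map φ)) := by
    rw [hnat]
    exact isStronglyCartesian_iso_comp_iso 𝒳.p f _ φ _
  exact isStronglyCartesian_of_map_of_fullyFaithful G f (F.map φ)

/-- A fully faithful functor over `C` reflects cartesian morphisms. -/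
lemma isCartesian_of_map_of_fullyFaithful (F : 𝒳 ⥤ᵇ 𝒴) [F.toFunctor.Full]
    [F.toFunctor.Faithful] {R S : C} (f : R ⟶ S) {a b : 𝒳.obj} (φ : a ⟶ b)
    [𝒴.p.IsCartesian f (F.map φ)] : 𝒳.p.IsCartesian f φ where
  toIsHomLift := BasedFunctor.isHomLift_map F f φ
  universal_property := by
    intro a' φ' hφ'
    have h0 : 𝒴.p.IsHomLift f (F.map φ') := inferInstance
    obtain ⟨χ', ⟨h1, h2⟩, hu⟩ :=
      IsCartesian.universal_property (p := 𝒴.p) (f := f) (φ := F.map φ) (F.map φ')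
    refine ⟨F.toFunctor.preimage χ', ⟨?_, ?_⟩, ?_⟩
    · have : 𝒴.p.IsHomLift (𝟙 R) (F.map (F.toFunctor.preimage χ')) := by
        rw [F.toFunctor.map_preimage]; exact h1
      exact BasedFunctor.isHomLift_map F (𝟙 R) _
    · apply F.toFunctor.map_injective
      rw [Functor.map_comp, Functor.map_preimage]; exact h2
    · rintro χ₂ ⟨h3, h4⟩
      apply F.toFunctor.map_injective
      rw [Functor.map_preimage]
      apply hu
      exact ⟨inferInstance, by rw [← Functor.map_comp, h4]⟩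

/-- An equivalence over `C` preserves cartesian morphisms. -/
theorem isCartesian_map_of_isEquivOver (F : 𝒳 ⥤ᵇ 𝒴) (hF : FibCat.IsEquivOver F)
    {R S : C} (f : R ⟶ S) {a b : 𝒳.obj} (φ : a ⟶ b) [𝒳.p.IsCartesian f φ] :
    𝒴.p.IsCartesian f (F.map φ) := by
  obtain ⟨G, ⟨e₁⟩, ⟨e₂⟩⟩ := hF
  have hG : G.toFunctor.IsEquivalence := isEquivalence_of_isos G F e₂ e₁
  let E : F.toFunctor ⋙ G.toFunctor ≅ 𝟭 _ := (BasedNatTrans.forgetful _ _).mapIso e₁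
  have hnat : G.map (F.map φ) = (E.app a).hom ≫ φ ≫ (E.app b).symm.hom :=
    (NatIso.naturality_1 E.symm φ).symm
  have hα' : 𝒳.p.IsHomLift (𝟙 R) (E.app a).hom :=
    BasedNatTrans.isHomLift e₁.hom (IsHomLift.domain_eq 𝒳.p f φ)
  have hβ' : 𝒳.p.IsHomLift (𝟙 S) (E.app b).symm.hom :=
    BasedNatTrans.isHomLift e₁.inv (IsHomLift.codomain_eq 𝒳.p f φ)
  have h3 : 𝒳.p.IsCartesian f (G.map (F.map φ)) := by
    rw [hnat]
    have : 𝒳.p.IsCartesian f (φ ≫ (E.app b).symm.hom) := IsCartesian.of_comp_iso 𝒳.p f φ _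
    exact IsCartesian.of_iso_comp 𝒳.p f (φ ≫ (E.app b).symm.hom) (E.app a)
  exact isCartesian_of_map_of_fullyFaithful G f (F.map φ)

theorem X5141 (F : 𝒳 ⥤ᵇ 𝒴) (hF : FibCat.IsEquivOver F) {a b : 𝒳.obj} (φ : a ⟶ b) :
    𝒴.p.IsCartesian (𝒳.p.map φ) (F.toFunctor.map φ) ↔ 𝒳.p.IsCartesian (𝒳.p.map φ) φ := by
  have := isEquivalence_of_isEquivOver F hF
  constructor
  · intro h
    exact isCartesian_of_map_of_fullyFaithful F (𝒳.p.map φ) φ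
  · intro h
    exact isCartesian_map_of_isEquivOver F hF (𝒳.p.map φ) φ

lemma isStronglyCartesian_comp_iso_of_eq {𝒮 : Type u₂} [Category.{v₂} 𝒮] (p : 𝒮 ⥤ C) {R S S' : C}
    (f : R ⟶ S) {a b b' : 𝒮} (φ : a ⟶ b) [p.IsStronglyCartesian f φ] (β : b ⟶ b') [IsIso β]
    (g : S ⟶ S') [p.IsHomLift g β] (f' : R ⟶ S') (h : f ≫ g = f') :
    p.IsStronglyCartesian f' (φ ≫ β) := by
  subst h
  have : p.IsStronglyCartesian g β := IsStronglyCartesian.of_isIso p g β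
  infer_instance

lemma isFibered_of_isEquivOver (F : 𝒳 ⥤ᵇ 𝒴) (hF : FibCat.IsEquivOver F) [𝒳.p.IsFibered] :
    𝒴.p.IsFibered := by
  apply IsFibered.of_exists_isStronglyCartesian
  intro b R f
  obtain ⟨G, ⟨e₁⟩, ⟨e₂⟩⟩ := hF
  have hb : 𝒳.p.obj (G.obj b) = 𝒴.p.obj b := G.w_obj b
  obtain ⟨a, φ, hφ⟩ := IsPreFibered.exists_isCartesian' (p := 𝒳.p) (a := G.obj b)
    (f ≫ eqToHom hb.symm)
  have h0 : 𝒳.p.IsStronglyCartesian (f ≫ eqToHom hb.symm) φ := inferInstance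
  have h1 : 𝒴.p.IsStronglyCartesian (f ≫ eqToHom hb.symm) (F.map φ) :=
    isStronglyCartesian_map_of_isEquivOver F ⟨G, ⟨e₁⟩, ⟨e₂⟩⟩ _ φ
  let E₂ : G.toFunctor ⋙ F.toFunctor ≅ 𝟭 _ := (BasedNatTrans.forgetful _ _).mapIso e₂
  have hβ : 𝒴.p.IsHomLift (𝟙 (𝒴.p.obj b)) (E₂.hom.app b) := e₂.hom.isHomLift' b
  have hβ' : 𝒴.p.IsHomLift (eqToHom hb ≫ 𝟙 (𝒴.p.obj b)) (E₂.hom.app b) := inferInstance
  exact ⟨F.obj a, F.map φ ≫ E₂.hom.app b,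
    isStronglyCartesian_comp_iso_of_eq 𝒴.p (f ≫ eqToHom hb.symm) (F.map φ) (E₂.hom.app b)
      (eqToHom hb ≫ 𝟙 (𝒴.p.obj b)) f (by simp)⟩

theorem X6394 (F : 𝒳 ⥤ᵇ 𝒴) (hF : FibCat.IsEquivOver F) : 𝒳.p.IsFibered ↔ 𝒴.p.IsFibered := by
  constructor
  · intro h; exact isFibered_of_isEquivOver F hF
  · intro h
    obtain ⟨G, ⟨e₁⟩, ⟨e₂⟩⟩ := hF
    exact isFibered_of_isEquivOver G ⟨F, ⟨e₂⟩, ⟨e₁⟩⟩

end EquivOver

section FiberFunctor

variable {C : Type u} [Category.{v} C] {𝒳 : BasedCategory.{v₂, u₂} C} {𝒴 : BasedCategory.{v₃, u₃} C}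

lemma fiberFunctor_faithful_of_faithful (G : 𝒳 ⥤ᵇ 𝒴) [G.toFunctor.Faithful] (U : C) :
    (FibCat.fiberFunctor G U).Faithful where
  map_injective := by
    intro x y φ ψ h
    apply Fiber.hom_ext
    apply G.toFunctor.map_injective
    exact congrArg (fun t => t.1) h

lemma faithful_of_fiberFunctor_faithful (G : 𝒳 ⥤ᵇ 𝒴) (h𝒳 : FibCat.IsFibGrpd 𝒳.p)
    (h𝒴 : FibCat.IsFibGrpd 𝒴.p) (h : ∀ U : C, (FibCat.fiberFunctor G U).Faithful) :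
    G.toFunctor.Faithful where
  map_injective := by
    intro a b φ φ' hφ
    have h1 : 𝒴.p.IsHomLift (𝒳.p.map φ') (G.map φ) := by
      change G.map φ = G.map φ' at hφ
      rw [hφ]; infer_instance
    have h2 : 𝒳.p.IsHomLift (𝒳.p.map φ') φ := BasedFunctor.isHomLift_map G _ φ
    have h3 : 𝒳.p.IsStronglyCartesian (𝒳.p.map φ') φ' := h𝒳.isStronglyCartesian φ'
    have h4 : 𝒴.p.IsStronglyCartesian (𝒳.p.map φ') (G.map φ') :=
      isStronglyCartesian_of_isHomLift 𝒴.p h𝒴 _ _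
    let χ := IsCartesian.map 𝒳.p (𝒳.p.map φ') φ' φ
    have hχ : χ ≫ φ' = φ := IsCartesian.fac 𝒳.p (𝒳.p.map φ') φ' φ
    have h5 : G.map χ ≫ G.map φ' = 𝟙 _ ≫ G.map φ' := by
      rw [← G.toFunctor.map_comp, hχ, Category.id_comp]; exact hφ
    have h6 : 𝒴.p.IsHomLift (𝟙 (𝒳.p.obj a)) (𝟙 (G.obj a)) := inferInstance
    have h7 : G.map χ = 𝟙 _ := IsCartesian.ext 𝒴.p (𝒳.p.map φ') (G.map φ') _ _ h5
    have := h (𝒳.p.obj a)
    let χf : (Fiber.mk (p := 𝒳.p) (a := a) rfl) ⟶ (Fiber.mk (p := 𝒳.p) (a := a) rfl) :=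
      ⟨χ, IsCartesian.map_isHomLift 𝒳.p (𝒳.p.map φ') φ' φ⟩
    have h8 : χf = 𝟙 _ := by
      apply (FibCat.fiberFunctor G (𝒳.p.obj a)).map_injective
      apply Fiber.hom_ext
      change G.map χ = G.map (𝟙 a)
      rw [h7, G.toFunctor.map_id]
    have h9 : χ = 𝟙 a := congrArg (fun t => t.1) h8
    rw [← hχ, h9, Category.id_comp]

lemma fiberFunctor_full_of_full (G : 𝒳 ⥤ᵇ 𝒴) [G.toFunctor.Full] (U : C) :
    (FibCat.fiberFunctor G U).Full where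
  map_surjective := by
    intro x y ψ
    obtain ⟨φ, hφ⟩ := G.toFunctor.map_surjective ψ.1
    have h1 : 𝒴.p.IsHomLift (𝟙 U) (G.map φ) := by
      change G.map φ = ψ.1 at hφ
      rw [hφ]; exact ψ.2
    have h2 : 𝒳.p.IsHomLift (𝟙 U) φ := BasedFunctor.isHomLift_map G _ φ
    refine ⟨⟨φ, h2⟩, ?_⟩
    apply Fiber.hom_ext
    exact hφ

lemma fiberFunctor_full_of (G : 𝒳 ⥤ᵇ 𝒴) (U : C)
    (h : ∀ (x y : 𝒳.obj) (ψ : G.obj x ⟶ G.obj y), 𝒳.p.obj x = U → 𝒳.p.obj y = U →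
      𝒴.p.IsHomLift (𝟙 U) ψ → ∃ φ : x ⟶ y, G.map φ = ψ) : (FibCat.fiberFunctor G U).Full where
  map_surjective := by
    intro x y ψ
    obtain ⟨φ, hφ⟩ := h x.1 y.1 ψ.1 x.2 y.2 ψ.2
    have h1 : 𝒴.p.IsHomLift (𝟙 U) (G.map φ) := by
      rw [hφ]; exact ψ.2
    have h2 : 𝒳.p.IsHomLift (𝟙 U) φ := BasedFunctor.isHomLift_map G _ φ
    exact ⟨⟨φ, h2⟩, Fiber.hom_ext hφ⟩

lemma full_of_fiberFunctor_full (G : 𝒳 ⥤ᵇ 𝒴) (h𝒳 : FibCat.IsFibGrpd 𝒳.p)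
    (h𝒴 : FibCat.IsFibGrpd 𝒴.p) (h : ∀ U : C, (FibCat.fiberFunctor G U).Full) :
    G.toFunctor.Full where
  map_surjective := by
    intro a b ψ
    let f : 𝒳.p.obj a ⟶ 𝒳.p.obj b :=
      eqToHom (G.w_obj a).symm ≫ 𝒴.p.map ψ ≫ eqToHom (G.w_obj b)
    have h1 : 𝒴.p.IsHomLift f ψ := IsHomLift.of_fac 𝒴.p f ψ (G.w_obj a) (G.w_obj b) rfl
    obtain ⟨a', φ', hφ'⟩ := h𝒳.exists_lift (x := b) f
    have h2 : 𝒴.p.IsStronglyCartesian f (G.map φ') :=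
      isStronglyCartesian_of_isHomLift 𝒴.p h𝒴 _ _
    let χ := IsCartesian.map 𝒴.p f (G.map φ') ψ
    have hχ : χ ≫ G.map φ' = ψ := IsCartesian.fac 𝒴.p f (G.map φ') ψ
    have := h (𝒳.p.obj a)
    have ha' : 𝒳.p.obj a' = 𝒳.p.obj a := IsHomLift.domain_eq 𝒳.p f φ'
    let χf : (FibCat.fiberFunctor G (𝒳.p.obj a)).obj (Fiber.mk (p := 𝒳.p) (a := a) rfl) ⟶
        (FibCat.fiberFunctor G (𝒳.p.obj a)).obj (Fiber.mk (p := 𝒳.p) (a := a') ha') :=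
      ⟨χ, IsCartesian.map_isHomLift 𝒴.p f (G.map φ') ψ⟩
    obtain ⟨χ₀, hχ₀⟩ := (FibCat.fiberFunctor G (𝒳.p.obj a)).map_surjective χf
    refine ⟨χ₀.1 ≫ φ', ?_⟩
    have h3 : G.map χ₀.1 = χ := congrArg (fun t => t.1) hχ₀
    change G.map (χ₀.1 ≫ φ') = ψ
    rw [G.toFunctor.map_comp]
    exact (congrArg (fun t => t ≫ G.map φ') h3).trans hχ

lemma essSurj_of_fiberFunctor_essSurj (G : 𝒳 ⥤ᵇ 𝒴)
    (h : ∀ U : C, (FibCat.fiberFunctor G U).EssSurj) : G.toFunctor.EssSurj where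
  mem_essImage := by
    intro y
    have := h (𝒴.p.obj y)
    obtain ⟨x, ⟨i⟩⟩ := Functor.EssSurj.mem_essImage (F := FibCat.fiberFunctor G (𝒴.p.obj y)) (Fiber.mk (p := 𝒴.p) (a := y) rfl)
    exact ⟨x.1, ⟨Fiber.fiberInclusion.mapIso i⟩⟩

lemma fiberFunctor_essSurj_of_essSurj (G : 𝒳 ⥤ᵇ 𝒴) (h𝒳 : FibCat.IsFibGrpd 𝒳.p)
    (h𝒴 : FibCat.IsFibGrpd 𝒴.p) [G.toFunctor.EssSurj] (U : C) :
    (FibCat.fiberFunctor G U).EssSurj where
  mem_essImage := by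
    intro y
    obtain ⟨x, ⟨i⟩⟩ := Functor.EssSurj.mem_essImage (F := G.toFunctor) y.1
    let f : 𝒳.p.obj x ⟶ U := eqToHom (G.w_obj x).symm ≫ 𝒴.p.map i.hom ≫ eqToHom y.2
    have hf : 𝒴.p.IsHomLift f i.hom := IsHomLift.of_fac 𝒴.p f i.hom (G.w_obj x) y.2 rfl
    have hfi : IsIso f := by dsimp only [f]; infer_instance
    obtain ⟨x', φ, hφ⟩ := h𝒳.exists_lift (x := x) (inv f)
    have hx' : 𝒳.p.obj x' = U := IsHomLift.domain_eq 𝒳.p (inv f) φ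
    have h1 : 𝒴.p.IsHomLift (inv f ≫ f) (G.map φ ≫ i.hom) := inferInstance
    have h2 : 𝒴.p.IsHomLift (𝟙 U) (G.map φ ≫ i.hom) := by simpa using h1
    have hg := isGroupoid_fiber_of_isFibGrpd 𝒴.p h𝒴 U
    let ψ : (FibCat.fiberFunctor G U).obj (Fiber.mk (p := 𝒳.p) (a := x') hx') ⟶ y :=
      ⟨G.map φ ≫ i.hom, h2⟩
    have : IsIso ψ := IsGroupoid.all_isIso ψ
    exact ⟨Fiber.mk (p := 𝒳.p) (a := x') hx', ⟨asIso ψ⟩⟩

theorem X6396 (G : 𝒳 ⥤ᵇ 𝒴) (h𝒳 : FibCat.IsFibGrpd 𝒳.p) (h𝒴 : FibCat.IsFibGrpd 𝒴.p) :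
    G.toFunctor.Faithful ↔ ∀ U : C, (FibCat.fiberFunctor G U).Faithful :=
  ⟨fun _ U => fiberFunctor_faithful_of_faithful G U,
   fun h => faithful_of_fiberFunctor_faithful G h𝒳 h𝒴 h⟩

theorem X6397 (G : 𝒳 ⥤ᵇ 𝒴) (h𝒳 : FibCat.IsFibGrpd 𝒳.p) (h𝒴 : FibCat.IsFibGrpd 𝒴.p) :
    (G.toFunctor.Full ∧ G.toFunctor.Faithful) ↔
      ∀ U : C, (FibCat.fiberFunctor G U).Full ∧ (FibCat.fiberFunctor G U).Faithful :=
  ⟨fun ⟨_, _⟩ U => ⟨fiberFunctor_full_of_full G U, fiberFunctor_faithful_of_faithful G U⟩,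
   fun h => ⟨full_of_fiberFunctor_full G h𝒳 h𝒴 (fun U => (h U).1),
     faithful_of_fiberFunctor_faithful G h𝒳 h𝒴 (fun U => (h U).2)⟩⟩

theorem X6398 (G : 𝒳 ⥤ᵇ 𝒴) (h𝒳 : FibCat.IsFibGrpd 𝒳.p) (h𝒴 : FibCat.IsFibGrpd 𝒴.p) :
    G.toFunctor.IsEquivalence ↔ ∀ U : C, (FibCat.fiberFunctor G U).IsEquivalence := by
  constructor
  · intro h U
    exact { faithful := fiberFunctor_faithful_of_faithful G U
            full := fiberFunctor_full_of_full G U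
            essSurj := fiberFunctor_essSurj_of_essSurj G h𝒳 h𝒴 U }
  · intro h
    exact { faithful := faithful_of_fiberFunctor_faithful G h𝒳 h𝒴 (fun U => (h U).faithful)
            full := full_of_fiberFunctor_full G h𝒳 h𝒴 (fun U => (h U).full)
            essSurj := essSurj_of_fiberFunctor_essSurj G (fun U => (h U).essSurj) }

end FiberFunctor

section Inverse

variable {C : Type u} [Category.{v} C] {𝒳 : BasedCategory.{v₂, u₂} C} {𝒴 : BasedCategory.{v₃, u₃} C}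

/-- Isomorphisms of the base lift to isomorphisms with prescribed target. -/
def LiftsIsos (𝒳 : BasedCategory.{v₂, u₂} C) : Prop :=
  ∀ (x : 𝒳.obj) {V : C} (f : V ⟶ 𝒳.p.obj x), IsIso f →
    ∃ (y : 𝒳.obj) (φ : y ⟶ x), IsIso φ ∧ 𝒳.p.IsHomLift f φ

lemma liftsIsos_of_isFibGrpd (h : FibCat.IsFibGrpd 𝒳.p) : LiftsIsos 𝒳 := by
  intro x V f hf
  obtain ⟨y, φ, hφ⟩ := h.exists_lift f
  exact ⟨y, φ, isIso_of_isHomLift_iso 𝒳.p h f φ, hφ⟩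

lemma liftsIsos_of_isFibered [𝒳.p.IsFibered] : LiftsIsos 𝒳 := by
  intro x V f hf
  obtain ⟨y, φ, hφ⟩ := IsPreFibered.exists_isCartesian' (p := 𝒳.p) f
  have : 𝒳.p.IsStronglyCartesian f φ := inferInstance
  exact ⟨y, φ, IsStronglyCartesian.isIso_of_base_isIso 𝒳.p f φ, inferInstance⟩

/-- every object of the target is, over an identity, isomorphic to an image -/
def HasPre (F : 𝒳 ⥤ᵇ 𝒴) : Prop :=
  ∀ y : 𝒴.obj, ∃ (x : 𝒳.obj) (i : F.obj x ≅ y), 𝒴.p.IsHomLift (𝟙 (𝒴.p.obj y)) i.hom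

lemma hasPre_of_liftsIsos (F : 𝒳 ⥤ᵇ 𝒴) [F.toFunctor.IsEquivalence] (hl : LiftsIsos 𝒳) :
    HasPre F := by
  intro y
  obtain ⟨x, ⟨j⟩⟩ := Functor.EssSurj.mem_essImage (F := F.toFunctor) y
  let f : 𝒳.p.obj x ⟶ 𝒴.p.obj y := eqToHom (F.w_obj x).symm ≫ 𝒴.p.map j.hom
  have hf : 𝒴.p.IsHomLift f j.hom :=
    IsHomLift.of_fac 𝒴.p f j.hom (F.w_obj x) rfl (by simp [f])
  have hfi : IsIso f := by dsimp only [f]; infer_instance
  obtain ⟨x', φ, hφi, hφ⟩ := hl x (inv f) inferInstance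
  have h1 : 𝒴.p.IsHomLift (inv f ≫ f) (F.map φ ≫ j.hom) := inferInstance
  have h2 : 𝒴.p.IsHomLift (𝟙 (𝒴.p.obj y)) (F.map φ ≫ j.hom) := by simpa using h1
  exact ⟨x', (F.toFunctor.mapIso (asIso φ)) ≪≫ j, h2⟩

variable (F : 𝒳 ⥤ᵇ 𝒴) [F.toFunctor.Full] [F.toFunctor.Faithful] (hl : HasPre F)

include hl in
lemma exists_preimage_over (y : 𝒴.obj) :
    ∃ (x : 𝒳.obj) (i : F.obj x ≅ y), 𝒴.p.IsHomLift (𝟙 (𝒴.p.obj y)) i.hom := hl y

/-- chosen preimage object -/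
noncomputable def invObj (y : 𝒴.obj) : 𝒳.obj := (exists_preimage_over F hl y).choose

/-- chosen iso -/
noncomputable def invIso (y : 𝒴.obj) : F.obj (invObj F hl y) ≅ y :=
  (exists_preimage_over F hl y).choose_spec.choose

instance invIso_isHomLift (y : 𝒴.obj) : 𝒴.p.IsHomLift (𝟙 (𝒴.p.obj y)) (invIso F hl y).hom :=
  (exists_preimage_over F hl y).choose_spec.choose_spec

instance invIso_inv_isHomLift (y : 𝒴.obj) : 𝒴.p.IsHomLift (𝟙 (𝒴.p.obj y)) (invIso F hl y).inv :=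
  IsHomLift.lift_id_inv 𝒴.p _ (invIso F hl y)

lemma invObj_proj (y : 𝒴.obj) : 𝒳.p.obj (invObj F hl y) = 𝒴.p.obj y :=
  (F.w_obj _).symm.trans (IsHomLift.domain_eq 𝒴.p (𝟙 _) (invIso F hl y).hom)

/-- The inverse functor, on underlying categories. -/
noncomputable abbrev invFunctor : 𝒴.obj ⥤ 𝒳.obj where
  obj y := invObj F hl y
  map {y y'} ψ := F.toFunctor.preimage ((invIso F hl y).hom ≫ ψ ≫ (invIso F hl y').inv)
  map_id y := by apply F.toFunctor.map_injective; simp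
  map_comp ψ ψ' := by apply F.toFunctor.map_injective; simp

lemma map_invFunctor_map {y y' : 𝒴.obj} (ψ : y ⟶ y') :
    F.map ((invFunctor F hl).map ψ) = (invIso F hl y).hom ≫ ψ ≫ (invIso F hl y').inv :=
  F.toFunctor.map_preimage _

instance invFunctor_map_isHomLift {y y' : 𝒴.obj} (ψ : y ⟶ y') :
    𝒳.p.IsHomLift (𝒴.p.map ψ) ((invFunctor F hl).map ψ) := by
  have : 𝒴.p.IsHomLift (𝒴.p.map ψ) (F.map ((invFunctor F hl).map ψ)) := by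
    rw [map_invFunctor_map]
    have : 𝒴.p.IsHomLift (𝒴.p.map ψ) (ψ ≫ (invIso F hl y').inv) := inferInstance
    infer_instance
  exact BasedFunctor.isHomLift_map F _ _

/-- The inverse functor over `C`. -/
noncomputable def invBased : 𝒴 ⥤ᵇ 𝒳 where
  toFunctor := invFunctor F hl
  w := CategoryTheory.Functor.ext (fun y => invObj_proj F hl y) (fun _ _ ψ =>
    IsHomLift.fac' 𝒳.p (𝒴.p.map ψ) ((invFunctor F hl).map ψ))

/-- counit -/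
noncomputable def invCounit : BasedFunctor.comp (invBased F hl) F ≅ BasedFunctor.id 𝒴 :=
  BasedNatIso.mkNatIso
    (NatIso.ofComponents (fun y => invIso F hl y) (fun {y y'} ψ => by
      change F.map ((invFunctor F hl).map ψ) ≫ (invIso F hl y').hom = (invIso F hl y).hom ≫ ψ
      rw [map_invFunctor_map]; simp))
    (fun y => invIso_isHomLift F hl y)

/-- unit -/
noncomputable def invUnit : BasedFunctor.comp F (invBased F hl) ≅ BasedFunctor.id 𝒳 :=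
  BasedNatIso.mkNatIso
    (NatIso.ofComponents (fun x => F.toFunctor.preimageIso (invIso F hl (F.obj x))) (fun {x x'} φ => by
      apply F.toFunctor.map_injective
      change F.map ((invFunctor F hl).map (F.map φ) ≫ _) = F.map (_ ≫ φ)
      rw [F.toFunctor.map_comp, F.toFunctor.map_comp, map_invFunctor_map]
      erw [F.toFunctor.map_preimage, F.toFunctor.map_preimage]
      simp))
    (fun x => by
      have : 𝒴.p.IsHomLift (𝟙 (𝒳.p.obj x))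
          (F.map (F.toFunctor.preimageIso (invIso F hl (F.obj x))).hom) := by
        have h1 : F.map (F.toFunctor.preimageIso (invIso F hl (F.obj x))).hom =
            (invIso F hl (F.obj x)).hom := by simp
        rw [h1]
        have h2 := invIso_isHomLift F hl (F.obj x)
        have h3 : 𝒴.p.obj (F.obj x) = 𝒳.p.obj x := F.w_obj x
        rw [← h3]
        exact h2
      have h4 := BasedFunctor.isHomLift_map F (𝟙 (𝒳.p.obj x))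
        (F.toFunctor.preimageIso (invIso F hl (F.obj x))).hom
      exact h4)

include hl in
theorem isEquivOver_of_hasPre : FibCat.IsEquivOver F :=
  ⟨invBased F hl, ⟨invUnit F hl⟩, ⟨invCounit F hl⟩⟩

theorem isEquivOver_of_isEquivalence (F : 𝒳 ⥤ᵇ 𝒴) [F.toFunctor.IsEquivalence] (hl : LiftsIsos 𝒳) :
    FibCat.IsEquivOver F :=
  isEquivOver_of_hasPre F (hasPre_of_liftsIsos F hl)

lemma hasPre_of_isEquivOver (F : 𝒳 ⥤ᵇ 𝒴) (hF : FibCat.IsEquivOver F) : HasPre F := by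
  obtain ⟨G, ⟨e₁⟩, ⟨e₂⟩⟩ := hF
  intro y
  let E₂ : G.toFunctor ⋙ F.toFunctor ≅ 𝟭 _ := (BasedNatTrans.forgetful _ _).mapIso e₂
  exact ⟨G.obj y, E₂.app y, e₂.hom.isHomLift' y⟩

theorem X5139 (F : 𝒳 ⥤ᵇ 𝒴) :
    FibCat.IsEquivOver F ↔
      (F.toFunctor.Full ∧ F.toFunctor.Faithful) ∧
        ∀ η : 𝒴.obj, ∃ (ξ : 𝒳.obj) (e : F.toFunctor.obj ξ ≅ η),
          𝒴.p.IsHomLift (𝟙 (𝒴.p.obj η)) e.hom := by
  constructor
  · intro hF
    have := isEquivalence_of_isEquivOver F hF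
    exact ⟨⟨inferInstance, inferInstance⟩, hasPre_of_isEquivOver F hF⟩
  · rintro ⟨⟨h1, h2⟩, h3⟩
    exact isEquivOver_of_hasPre F h3

theorem X5140 (h𝒳 : ∀ ⦃T S : C⦄ (α : T ≅ S) (ξ : 𝒳.obj), 𝒳.p.obj ξ = T →
      ∃ (ξ' : 𝒳.obj) (e : ξ ≅ ξ'), 𝒳.p.IsHomLift α.hom e.hom)
    (F : 𝒳 ⥤ᵇ 𝒴) [F.toFunctor.IsEquivalence] : FibCat.IsEquivOver F := by
  apply isEquivOver_of_isEquivalence
  intro x V f hf
  obtain ⟨ξ', e, he⟩ := h𝒳 (asIso f).symm x rfl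
  have : 𝒳.p.IsHomLift (asIso f).symm.inv e.inv := IsHomLift.inv_lift_inv 𝒳.p (asIso f).symm e
  exact ⟨ξ', e.inv, inferInstance, this⟩

end Inverse

section FP

variable {C : Type u} [Category.{v} C] {𝒳 : BasedCategory.{v₂, u₂} C} {𝒴 : BasedCategory.{v₃, u₃} C}
  {𝒮 : BasedCategory.{v₄, u₄} C}

/-- object constructor for the 2-fibre product -/
def fpMk (F : 𝒳 ⥤ᵇ 𝒮) (G : 𝒴 ⥤ᵇ 𝒮) (x : 𝒳.obj) (y : 𝒴.obj) (i : F.obj x ≅ G.obj y)
    (h : 𝒮.p.IsHomLift (𝟙 (𝒳.p.obj x)) i.hom) : (FibCat.fp F G).obj := ⟨⟨x, y, i⟩, h⟩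

/-- hom constructor for the 2-fibre product -/
def fpHomMk {F : 𝒳 ⥤ᵇ 𝒮} {G : 𝒴 ⥤ᵇ 𝒮} {X Y : (FibCat.fp F G).obj} (a : X.obj.fst ⟶ Y.obj.fst)
    (b : X.obj.snd ⟶ Y.obj.snd) (w : F.map a ≫ Y.obj.iso.hom = X.obj.iso.hom ≫ G.map b) : X ⟶ Y :=
  ObjectProperty.homMk ⟨a, b, w⟩

lemma fp_hom_ext {F : 𝒳 ⥤ᵇ 𝒮} {G : 𝒴 ⥤ᵇ 𝒮} {X Y : (FibCat.fp F G).obj} {f g : X ⟶ Y}
    (h1 : f.hom.fst = g.hom.fst) (h2 : f.hom.snd = g.hom.snd) : f = g := by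
  apply ObjectProperty.hom_ext
  exact CategoricalPullback.hom_ext h1 h2

/-- iso constructor for the 2-fibre product -/
def fpIsoMk {F : 𝒳 ⥤ᵇ 𝒮} {G : 𝒴 ⥤ᵇ 𝒮} {X Y : (FibCat.fp F G).obj} (a : X.obj.fst ≅ Y.obj.fst)
    (b : X.obj.snd ≅ Y.obj.snd) (w : F.map a.hom ≫ Y.obj.iso.hom = X.obj.iso.hom ≫ G.map b.hom) :
    X ≅ Y :=
  ObjectProperty.isoMk _ (CategoricalPullback.mkIso a b w)

@[simp] lemma diag_obj_iso_hom (G : 𝒳 ⥤ᵇ 𝒴) (x : 𝒳.obj) :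
    ((FibCat.diag G).obj x).obj.iso.hom = 𝟙 (G.obj x) := rfl

@[simp] lemma diag_obj_fst (G : 𝒳 ⥤ᵇ 𝒴) (x : 𝒳.obj) : ((FibCat.diag G).obj x).obj.fst = x := rfl

@[simp] lemma diag_obj_snd (G : 𝒳 ⥤ᵇ 𝒴) (x : 𝒳.obj) : ((FibCat.diag G).obj x).obj.snd = x := rfl

@[simp] lemma diag_map_fst (G : 𝒳 ⥤ᵇ 𝒴) {x x' : 𝒳.obj} (φ : x ⟶ x') :
    ((FibCat.diag G).map φ).hom.fst = φ := rfl

@[simp] lemma diag_map_snd (G : 𝒳 ⥤ᵇ 𝒴) {x x' : 𝒳.obj} (φ : x ⟶ x') :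
    ((FibCat.diag G).map φ).hom.snd = φ := rfl

lemma diag_faithful (G : 𝒳 ⥤ᵇ 𝒴) : (FibCat.diag G).toFunctor.Faithful where
  map_injective := by
    intro x x' φ ψ h
    exact congrArg (fun t => t.hom.fst) h

lemma diag_full (G : 𝒳 ⥤ᵇ 𝒴) [G.toFunctor.Faithful] : (FibCat.diag G).toFunctor.Full where
  map_surjective := by
    intro x x' f
    refine ⟨f.hom.fst, ?_⟩
    apply fp_hom_ext
    · rfl
    · change f.hom.fst = f.hom.snd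
      apply G.toFunctor.map_injective
      have := f.hom.w
      simpa using this

lemma diag_essSurj (G : 𝒳 ⥤ᵇ 𝒴) [G.toFunctor.Full] [G.toFunctor.Faithful] :
    (FibCat.diag G).toFunctor.EssSurj where
  mem_essImage := by
    intro X
    let φ : X.obj.fst ≅ X.obj.snd := G.toFunctor.preimageIso X.obj.iso
    refine ⟨X.obj.fst, ⟨fpIsoMk (Iso.refl _) φ ?_⟩⟩
    simp [φ]

theorem X6399 (G : 𝒳 ⥤ᵇ 𝒴) (h𝒳 : FibCat.IsFibGrpd 𝒳.p) (h𝒴 : FibCat.IsFibGrpd 𝒴.p) :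
    (G.toFunctor.Full ∧ G.toFunctor.Faithful) ↔ FibCat.IsEquivOver (FibCat.diag G) := by
  constructor
  · rintro ⟨h1, h2⟩
    have : (FibCat.diag G).toFunctor.IsEquivalence :=
      { faithful := diag_faithful G, full := diag_full G, essSurj := diag_essSurj G }
    exact isEquivOver_of_isEquivalence (FibCat.diag G) (liftsIsos_of_isFibGrpd h𝒳)
  · intro hD
    have hE := isEquivalence_of_isEquivOver _ hD
    have hfaith : G.toFunctor.Faithful := by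
      constructor
      intro x x' a b hab
      have w : G.map a ≫ ((FibCat.diag G).obj x').obj.iso.hom =
          ((FibCat.diag G).obj x).obj.iso.hom ≫ G.map b :=
        (Category.comp_id _).trans (hab.trans (Category.id_comp _).symm)
      let f : (FibCat.diag G).obj x ⟶ (FibCat.diag G).obj x' := fpHomMk a b w
      obtain ⟨c, hc⟩ := (FibCat.diag G).toFunctor.map_surjective f
      have h1 : c = a := congrArg (fun t => t.hom.fst) hc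
      have h2 : c = b := congrArg (fun t => t.hom.snd) hc
      rw [← h1, h2]
    refine ⟨?_, hfaith⟩
    apply full_of_fiberFunctor_full G h𝒳 h𝒴
    intro U
    apply fiberFunctor_full_of
    intro x y ψ hx hy hψ
    have hψi : IsIso ψ := isIso_of_isHomLift_id 𝒴.p h𝒴 (U := U) ψ
    have hψ' : 𝒴.p.IsHomLift (𝟙 (𝒳.p.obj x)) (asIso ψ).hom := by
      rw [hx]; exact hψ
    obtain ⟨z, ⟨i⟩⟩ := Functor.EssSurj.mem_essImage (F := (FibCat.diag G).toFunctor)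
      (fpMk G G x y (asIso ψ) hψ')
    let j : ((FibCat.diag G).obj z).obj ≅ (fpMk G G x y (asIso ψ) hψ').obj :=
      (ObjectProperty.ι _).mapIso i
    let a : z ⟶ x := j.hom.fst
    let b : z ⟶ y := j.hom.snd
    have ha : IsIso a := inferInstanceAs (IsIso j.hom.fst)
    have hw : G.map a ≫ ψ = G.map b := by
      have := j.hom.w
      change G.map a ≫ ψ = 𝟙 _ ≫ G.map b at this
      rw [this, Category.id_comp]
    refine ⟨inv a ≫ b, ?_⟩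
    change G.map (inv a ≫ b) = ψ
    rw [G.toFunctor.map_comp, ← hw, ← Category.assoc, ← G.toFunctor.map_comp, IsIso.inv_hom_id,
      G.toFunctor.map_id, Category.id_comp]

lemma fp_isHomLift_iff (F : 𝒳 ⥤ᵇ 𝒮) (G : 𝒴 ⥤ᵇ 𝒮) {R S : C} (f : R ⟶ S) {X Y : (FibCat.fp F G).obj}
    (φ : X ⟶ Y) : (FibCat.fp F G).p.IsHomLift f φ ↔ 𝒳.p.IsHomLift f φ.hom.fst := by
  constructor
  · intro h
    subst_hom_lift (FibCat.fp F G).p f φ
    exact IsHomLift.map 𝒳.p φ.hom.fst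
  · intro h
    subst_hom_lift 𝒳.p f φ.hom.fst
    exact IsHomLift.map (FibCat.fp F G).p φ

lemma isHomLift_unique {𝒵 : Type u₂} [Category.{v₂} 𝒵] (p : 𝒵 ⥤ C) {R S : C} (f₁ f₂ : R ⟶ S)
    {a b : 𝒵} (φ : a ⟶ b) [p.IsHomLift f₁ φ] [p.IsHomLift f₂ φ] : f₁ = f₂ := by
  rw [IsHomLift.fac p f₁ φ, IsHomLift.fac p f₂ φ]

lemma fp_isHomLift_snd' {F : 𝒳 ⥤ᵇ 𝒮} {G : 𝒴 ⥤ᵇ 𝒮} {X Y : (FibCat.fp F G).obj} (φ : X ⟶ Y) :
    𝒴.p.IsHomLift (𝒳.p.map φ.hom.fst) φ.hom.snd := FibCat.fp_isHomLift_snd F G φ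

lemma fp_exists_unique_lift_fst {F : 𝒳 ⥤ᵇ 𝒮} {G : 𝒴 ⥤ᵇ 𝒮} {X' X X'' : (FibCat.fp F G).obj}
    (φ : X' ⟶ X) (φ'' : X'' ⟶ X)
    (f : 𝒳.p.obj X'.obj.fst ⟶ 𝒳.p.obj X.obj.fst) (hf : f = 𝒳.p.map φ.hom.fst)
    [hb : 𝒴.p.IsStronglyCartesian f φ.hom.snd]
    [hGb : 𝒮.p.IsStronglyCartesian f (G.map φ.hom.snd)]
    (χa : X''.obj.fst ⟶ X'.obj.fst) (hχa : χa ≫ φ.hom.fst = φ''.hom.fst) :
    ∃! χ : X'' ⟶ X', χ.hom.fst = χa ∧ χ ≫ φ = φ'' := by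
  obtain ⟨g, hg⟩ : ∃ g : 𝒳.p.obj X''.obj.fst ⟶ 𝒳.p.obj X'.obj.fst, g = 𝒳.p.map χa := ⟨_, rfl⟩
  have hgf : 𝒳.p.map φ''.hom.fst = g ≫ f := by
    rw [hf, hg, ← hχa, 𝒳.p.map_comp]
  have h1 : 𝒴.p.IsHomLift (g ≫ f) φ''.hom.snd := by
    rw [← hgf]; exact fp_isHomLift_snd' φ''
  let χb : X''.obj.snd ⟶ X'.obj.snd :=
    IsStronglyCartesian.map 𝒴.p f φ.hom.snd (f' := g ≫ f) rfl φ''.hom.snd
  have hχb1 : 𝒴.p.IsHomLift g χb :=
    IsStronglyCartesian.map_isHomLift 𝒴.p f φ.hom.snd rfl φ''.hom.snd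
  have hχb2 : χb ≫ φ.hom.snd = φ''.hom.snd :=
    IsStronglyCartesian.fac 𝒴.p f φ.hom.snd rfl φ''.hom.snd
  have hX' : 𝒮.p.IsHomLift (𝟙 (𝒳.p.obj X'.obj.fst)) X'.obj.iso.hom := X'.property
  have hX'' : 𝒮.p.IsHomLift (𝟙 (𝒳.p.obj X''.obj.fst)) X''.obj.iso.hom := X''.property
  have hFχa : 𝒮.p.IsHomLift g (F.map χa) := by rw [hg]; infer_instance
  have hGχb : 𝒮.p.IsHomLift g (G.map χb) := inferInstance
  have h2 : 𝒮.p.IsHomLift g (F.map χa ≫ X'.obj.iso.hom) := inferInstance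
  have h3 : 𝒮.p.IsHomLift g (X''.obj.iso.hom ≫ G.map χb) := inferInstance
  have w : F.map χa ≫ X'.obj.iso.hom = X''.obj.iso.hom ≫ G.map χb := by
    apply IsStronglyCartesian.ext 𝒮.p f (G.map φ.hom.snd) g
    have e1 := φ.hom.w
    have e2 := φ''.hom.w
    rw [Category.assoc, ← e1, ← Category.assoc, ← F.toFunctor.map_comp, hχa, e2, Category.assoc,
      ← G.toFunctor.map_comp, hχb2]
  refine ⟨fpHomMk χa χb w, ⟨rfl, fp_hom_ext hχa hχb2⟩, ?_⟩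
  rintro χ' ⟨h4, h5⟩
  apply fp_hom_ext
  · exact h4
  · have h6 : 𝒴.p.IsHomLift g χ'.hom.snd := by
      have : 𝒳.p.map χ'.hom.fst = g := by rw [hg, h4]
      rw [← this]; exact fp_isHomLift_snd' χ'
    have h7 : χ'.hom.snd ≫ φ.hom.snd = φ''.hom.snd := congrArg (fun t => t.hom.snd) h5
    exact IsStronglyCartesian.map_uniq 𝒴.p f φ.hom.snd rfl φ''.hom.snd χ'.hom.snd h7

lemma fp_exists_unique_lift_snd {F : 𝒳 ⥤ᵇ 𝒮} {G : 𝒴 ⥤ᵇ 𝒮} {X' X X'' : (FibCat.fp F G).obj}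
    (φ : X' ⟶ X) (φ'' : X'' ⟶ X)
    (f : 𝒳.p.obj X'.obj.fst ⟶ 𝒳.p.obj X.obj.fst) (hf : f = 𝒳.p.map φ.hom.fst)
    [ha : 𝒳.p.IsStronglyCartesian f φ.hom.fst]
    [hFa : 𝒮.p.IsStronglyCartesian f (F.map φ.hom.fst)]
    (χb : X''.obj.snd ⟶ X'.obj.snd) (hχb : χb ≫ φ.hom.snd = φ''.hom.snd) :
    ∃! χ : X'' ⟶ X', χ.hom.snd = χb ∧ χ ≫ φ = φ'' := by
  have hφb : 𝒴.p.IsHomLift f φ.hom.snd := by rw [hf]; exact fp_isHomLift_snd' φ
  have hy'' : 𝒴.p.obj X''.obj.snd = 𝒳.p.obj X''.obj.fst := (FibCat.fpSnd F G).w_obj X''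
  have hy' : 𝒴.p.obj X'.obj.snd = 𝒳.p.obj X'.obj.fst := (FibCat.fpSnd F G).w_obj X'
  obtain ⟨g, hg⟩ : ∃ g : 𝒳.p.obj X''.obj.fst ⟶ 𝒳.p.obj X'.obj.fst,
      g = eqToHom hy''.symm ≫ 𝒴.p.map χb ≫ eqToHom hy' := ⟨_, rfl⟩
  have hgl : 𝒴.p.IsHomLift g χb := IsHomLift.of_fac 𝒴.p g χb hy'' hy' hg
  have hgf : 𝒳.p.map φ''.hom.fst = g ≫ f := by
    have h1 : 𝒴.p.IsHomLift (g ≫ f) φ''.hom.snd := by
      rw [← hχb]; infer_instance
    have h2 : 𝒴.p.IsHomLift (𝒳.p.map φ''.hom.fst) φ''.hom.snd := fp_isHomLift_snd' φ''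
    exact isHomLift_unique 𝒴.p _ _ φ''.hom.snd
  have h1 : 𝒳.p.IsHomLift (g ≫ f) φ''.hom.fst := by
    rw [← hgf]; exact IsHomLift.map 𝒳.p φ''.hom.fst
  let χa : X''.obj.fst ⟶ X'.obj.fst :=
    IsStronglyCartesian.map 𝒳.p f φ.hom.fst (f' := g ≫ f) rfl φ''.hom.fst
  have hχa1 : 𝒳.p.IsHomLift g χa :=
    IsStronglyCartesian.map_isHomLift 𝒳.p f φ.hom.fst rfl φ''.hom.fst
  have hχa2 : χa ≫ φ.hom.fst = φ''.hom.fst :=
    IsStronglyCartesian.fac 𝒳.p f φ.hom.fst rfl φ''.hom.fst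
  have hX' : 𝒮.p.IsHomLift (𝟙 (𝒳.p.obj X'.obj.fst)) X'.obj.iso.hom := X'.property
  have hX'' : 𝒮.p.IsHomLift (𝟙 (𝒳.p.obj X''.obj.fst)) X''.obj.iso.hom := X''.property
  have hX'i : 𝒮.p.IsHomLift (𝟙 (𝒳.p.obj X'.obj.fst)) X'.obj.iso.inv :=
    IsHomLift.lift_id_inv 𝒮.p _ _
  have hX''i : 𝒮.p.IsHomLift (𝟙 (𝒳.p.obj X''.obj.fst)) X''.obj.iso.inv :=
    IsHomLift.lift_id_inv 𝒮.p _ _
  have hFχa : 𝒮.p.IsHomLift g (F.map χa) := inferInstance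
  have hGχb : 𝒮.p.IsHomLift g (G.map χb) := inferInstance
  have h2 : 𝒮.p.IsHomLift g (X''.obj.iso.inv ≫ F.map χa) := inferInstance
  have h3 : 𝒮.p.IsHomLift g (G.map χb ≫ X'.obj.iso.inv) := inferInstance
  have w' : X''.obj.iso.inv ≫ F.map χa = G.map χb ≫ X'.obj.iso.inv := by
    apply IsStronglyCartesian.ext 𝒮.p f (F.map φ.hom.fst) g
    have e1 := φ.hom.w'
    have e2 := φ''.hom.w'
    rw [Category.assoc, ← F.toFunctor.map_comp, hχa2, ← e2, Category.assoc, ← e1, ← Category.assoc,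
      ← G.toFunctor.map_comp, hχb]
  have w : F.map χa ≫ X'.obj.iso.hom = X''.obj.iso.hom ≫ G.map χb := by
    rw [← Iso.inv_comp_eq, ← Category.assoc, w', Category.assoc, Iso.inv_hom_id, Category.comp_id]
  refine ⟨fpHomMk χa χb w, ⟨rfl, fp_hom_ext hχa2 hχb⟩, ?_⟩
  rintro χ' ⟨h4, h5⟩
  apply fp_hom_ext
  · have h6 : 𝒳.p.IsHomLift g χ'.hom.fst := by
      have h7 : 𝒴.p.IsHomLift (𝒳.p.map χ'.hom.fst) χ'.hom.snd := fp_isHomLift_snd' χ'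
      have h8 : 𝒴.p.IsHomLift g χ'.hom.snd := by rw [h4]; exact hgl
      have : 𝒳.p.map χ'.hom.fst = g := isHomLift_unique 𝒴.p _ _ χ'.hom.snd
      rw [← this]; exact IsHomLift.map 𝒳.p χ'.hom.fst
    have h7 : χ'.hom.fst ≫ φ.hom.fst = φ''.hom.fst := congrArg (fun t => t.hom.fst) h5
    exact IsStronglyCartesian.map_uniq 𝒳.p f φ.hom.fst rfl φ''.hom.fst χ'.hom.fst h7
  · exact h4

lemma fp_exists_iso_of_isFibGrpd {F : 𝒳 ⥤ᵇ 𝒮} {G : 𝒴 ⥤ᵇ 𝒮} (h𝒮 : FibCat.IsFibGrpd 𝒮.p)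
    (X : (FibCat.fp F G).obj) {x' : 𝒳.obj} {y' : 𝒴.obj} (a : x' ⟶ X.obj.fst) (b : y' ⟶ X.obj.snd)
    [hb : 𝒴.p.IsHomLift (𝒳.p.map a) b] :
    ∃ (i' : F.obj x' ≅ G.obj y'), 𝒮.p.IsHomLift (𝟙 (𝒳.p.obj x')) i'.hom ∧
      F.map a ≫ X.obj.iso.hom = i'.hom ≫ G.map b := by
  have hGb : 𝒮.p.IsStronglyCartesian (𝒳.p.map a) (G.map b) :=
    isStronglyCartesian_of_isHomLift 𝒮.p h𝒮 _ _
  have hX : 𝒮.p.IsHomLift (𝟙 (𝒳.p.obj X.obj.fst)) X.obj.iso.hom := X.property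
  have h1 : 𝒮.p.IsHomLift (𝒳.p.map a) (F.map a ≫ X.obj.iso.hom) := inferInstance
  have h2 : 𝒮.p.IsHomLift (𝟙 (𝒳.p.obj x'))
      (IsCartesian.map 𝒮.p (𝒳.p.map a) (G.map b) (F.map a ≫ X.obj.iso.hom)) :=
    IsCartesian.map_isHomLift 𝒮.p (𝒳.p.map a) (G.map b) (F.map a ≫ X.obj.iso.hom)
  have h3 : IsIso (IsCartesian.map 𝒮.p (𝒳.p.map a) (G.map b) (F.map a ≫ X.obj.iso.hom)) :=
    isIso_of_isHomLift_id 𝒮.p h𝒮 (U := 𝒳.p.obj x') _
  exact ⟨asIso (IsCartesian.map 𝒮.p (𝒳.p.map a) (G.map b) (F.map a ≫ X.obj.iso.hom)), h2,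
    (IsCartesian.fac 𝒮.p (𝒳.p.map a) (G.map b) (F.map a ≫ X.obj.iso.hom)).symm⟩

lemma fp_isStronglyCartesian {F : 𝒳 ⥤ᵇ 𝒮} {G : 𝒴 ⥤ᵇ 𝒮} {X' X : (FibCat.fp F G).obj} (φ : X' ⟶ X)
    (f : 𝒳.p.obj X'.obj.fst ⟶ 𝒳.p.obj X.obj.fst) (hf : f = 𝒳.p.map φ.hom.fst)
    [ha : 𝒳.p.IsStronglyCartesian f φ.hom.fst]
    [hb : 𝒴.p.IsStronglyCartesian f φ.hom.snd]
    [hGb : 𝒮.p.IsStronglyCartesian f (G.map φ.hom.snd)] :
    (FibCat.fp F G).p.IsStronglyCartesian ((FibCat.fp F G).p.map φ) φ := by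
  refine { toIsHomLift := IsHomLift.map _ φ, universal_property' := ?_ }
  intro X'' (g : 𝒳.p.obj X''.obj.fst ⟶ 𝒳.p.obj X'.obj.fst) φ'' hφ''
  have h0 : (FibCat.fp F G).p.IsHomLift (g ≫ f) φ'' := by rw [hf]; exact hφ''
  have h1 : 𝒳.p.IsHomLift (g ≫ f) φ''.hom.fst := (fp_isHomLift_iff F G _ φ'').1 h0
  let χa : X''.obj.fst ⟶ X'.obj.fst :=
    IsStronglyCartesian.map 𝒳.p f φ.hom.fst (f' := g ≫ f) rfl φ''.hom.fst
  have hχa1 : 𝒳.p.IsHomLift g χa :=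
    IsStronglyCartesian.map_isHomLift 𝒳.p f φ.hom.fst rfl φ''.hom.fst
  have hχa2 : χa ≫ φ.hom.fst = φ''.hom.fst :=
    IsStronglyCartesian.fac 𝒳.p f φ.hom.fst rfl φ''.hom.fst
  obtain ⟨χ, ⟨h2, h3⟩, hu⟩ := fp_exists_unique_lift_fst φ φ'' f hf χa hχa2
  refine ⟨χ, ⟨(fp_isHomLift_iff F G g χ).2 (by rw [h2]; exact hχa1), h3⟩, ?_⟩
  rintro χ' ⟨h4, h5⟩
  apply hu
  refine ⟨?_, h5⟩
  have h6 : 𝒳.p.IsHomLift g χ'.hom.fst := (fp_isHomLift_iff F G g χ').1 h4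
  have h7 : χ'.hom.fst ≫ φ.hom.fst = φ''.hom.fst := congrArg (fun t => t.hom.fst) h5
  exact IsStronglyCartesian.map_uniq 𝒳.p f φ.hom.fst rfl φ''.hom.fst χ'.hom.fst h7

theorem X6401 (F : 𝒳 ⥤ᵇ 𝒮) (G : 𝒴 ⥤ᵇ 𝒮) (h𝒳 : FibCat.IsFibGrpd 𝒳.p) (h𝒴 : FibCat.IsFibGrpd 𝒴.p)
    (h𝒮 : FibCat.IsFibGrpd 𝒮.p) : FibCat.IsFibGrpd (FibCat.fp F G).p where
  exists_lift := by
    intro X V (f : V ⟶ 𝒳.p.obj X.obj.fst)
    have hy : 𝒴.p.obj X.obj.snd = 𝒳.p.obj X.obj.fst := (FibCat.fpSnd F G).w_obj X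
    obtain ⟨y', b, hb⟩ := h𝒴.exists_lift (x := X.obj.snd) (f ≫ eqToHom hy.symm)
    have hb' : 𝒴.p.IsHomLift f b := (IsHomLift.lift_comp_eqToHom_iff 𝒴.p f b _).1 hb
    obtain ⟨x', a, ha⟩ := h𝒳.exists_lift (x := X.obj.fst) f
    have hb'' : 𝒴.p.IsHomLift (𝒳.p.map a) b := by
      rw [IsHomLift.fac' 𝒳.p f a]; infer_instance
    obtain ⟨i', hi1, hi2⟩ := fp_exists_iso_of_isFibGrpd (F := F) (G := G) h𝒮 X a b
    refine ⟨fpMk F G x' y' i' hi1, fpHomMk a b hi2, ?_⟩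
    exact (fp_isHomLift_iff F G f _).2 ha
  isStronglyCartesian := by
    intro X' X φ
    have ha : 𝒳.p.IsStronglyCartesian (𝒳.p.map φ.hom.fst) φ.hom.fst := h𝒳.isStronglyCartesian _
    have hb0 : 𝒴.p.IsHomLift (𝒳.p.map φ.hom.fst) φ.hom.snd := fp_isHomLift_snd' φ
    have hb : 𝒴.p.IsStronglyCartesian (𝒳.p.map φ.hom.fst) φ.hom.snd :=
      isStronglyCartesian_of_isHomLift 𝒴.p h𝒴 _ _
    have hGb : 𝒮.p.IsStronglyCartesian (𝒳.p.map φ.hom.fst) (G.map φ.hom.snd) :=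
      isStronglyCartesian_of_isHomLift 𝒮.p h𝒮 _ _
    exact fp_isStronglyCartesian φ _ rfl

theorem isFibGrpd_fpFst (F : 𝒳 ⥤ᵇ 𝒮) (G : 𝒴 ⥤ᵇ 𝒮) (h𝒴 : FibCat.IsFibGrpd 𝒴.p)
    (h𝒮 : FibCat.IsFibGrpd 𝒮.p) : FibCat.IsFibGrpd (FibCat.fpFst F G).toFunctor where
  exists_lift := by
    intro X x' (a : x' ⟶ X.obj.fst)
    have hy : 𝒴.p.obj X.obj.snd = 𝒳.p.obj X.obj.fst := (FibCat.fpSnd F G).w_obj X
    obtain ⟨y', b, hb⟩ := h𝒴.exists_lift (x := X.obj.snd) (𝒳.p.map a ≫ eqToHom hy.symm)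
    have hb' : 𝒴.p.IsHomLift (𝒳.p.map a) b := (IsHomLift.lift_comp_eqToHom_iff 𝒴.p _ b _).1 hb
    obtain ⟨i', hi1, hi2⟩ := fp_exists_iso_of_isFibGrpd (F := F) (G := G) h𝒮 X a b
    refine ⟨fpMk F G x' y' i' hi1, fpHomMk a b hi2, ?_⟩
    exact IsHomLift.map (FibCat.fpFst F G).toFunctor (fpHomMk (X := fpMk F G x' y' i' hi1) a b hi2)
  isStronglyCartesian := by
    intro X' X φ
    refine { toIsHomLift := IsHomLift.map _ φ, universal_property' := ?_ }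
    intro X'' (g : X''.obj.fst ⟶ X'.obj.fst) φ'' hφ''
    have hb0 : 𝒴.p.IsHomLift (𝒳.p.map φ.hom.fst) φ.hom.snd := fp_isHomLift_snd' φ
    have hb : 𝒴.p.IsStronglyCartesian (𝒳.p.map φ.hom.fst) φ.hom.snd :=
      isStronglyCartesian_of_isHomLift 𝒴.p h𝒴 _ _
    have hGb : 𝒮.p.IsStronglyCartesian (𝒳.p.map φ.hom.fst) (G.map φ.hom.snd) :=
      isStronglyCartesian_of_isHomLift 𝒮.p h𝒮 _ _
    have hg : g ≫ φ.hom.fst = φ''.hom.fst :=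
      @IsHomLift.eq_of_isHomLift _ _ _ _ (FibCat.fpFst F G).toFunctor X'' X _ φ'' hφ''
    obtain ⟨χ, ⟨h2, h3⟩, hu⟩ := fp_exists_unique_lift_fst φ φ'' _ rfl g hg
    refine ⟨χ, ⟨?_, h3⟩, ?_⟩
    · rw [← h2]; exact IsHomLift.map (FibCat.fpFst F G).toFunctor χ
    · rintro χ' ⟨h4, h5⟩
      apply hu
      refine ⟨?_, h5⟩
      exact (@IsHomLift.eq_of_isHomLift _ _ _ _ (FibCat.fpFst F G).toFunctor X'' X' g χ' h4).symm

theorem isFibGrpd_fpSnd (F : 𝒳 ⥤ᵇ 𝒮) (G : 𝒴 ⥤ᵇ 𝒮) (h𝒳 : FibCat.IsFibGrpd 𝒳.p)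
    (h𝒮 : FibCat.IsFibGrpd 𝒮.p) : FibCat.IsFibGrpd (FibCat.fpSnd F G).toFunctor where
  exists_lift := by
    intro X y' (b : y' ⟶ X.obj.snd)
    have hy : 𝒴.p.obj X.obj.snd = 𝒳.p.obj X.obj.fst := (FibCat.fpSnd F G).w_obj X
    obtain ⟨f, hf⟩ : ∃ f : 𝒴.p.obj y' ⟶ 𝒳.p.obj X.obj.fst, f = 𝒴.p.map b ≫ eqToHom hy := ⟨_, rfl⟩
    have hb : 𝒴.p.IsHomLift f b := by rw [hf]; infer_instance
    clear hf
    obtain ⟨x', a, ha⟩ := h𝒳.exists_lift (x := X.obj.fst) f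
    have hb'' : 𝒴.p.IsHomLift (𝒳.p.map a) b := by
      rw [IsHomLift.fac' 𝒳.p f a]; infer_instance
    obtain ⟨i', hi1, hi2⟩ := fp_exists_iso_of_isFibGrpd (F := F) (G := G) h𝒮 X a b
    refine ⟨fpMk F G x' y' i' hi1, fpHomMk a b hi2, ?_⟩
    exact IsHomLift.map (FibCat.fpSnd F G).toFunctor (fpHomMk (X := fpMk F G x' y' i' hi1) a b hi2)
  isStronglyCartesian := by
    intro X' X φ
    refine { toIsHomLift := IsHomLift.map _ φ, universal_property' := ?_ }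
    intro X'' (g : X''.obj.snd ⟶ X'.obj.snd) φ'' hφ''
    have ha : 𝒳.p.IsStronglyCartesian (𝒳.p.map φ.hom.fst) φ.hom.fst := h𝒳.isStronglyCartesian _
    have hFa : 𝒮.p.IsStronglyCartesian (𝒳.p.map φ.hom.fst) (F.map φ.hom.fst) :=
      isStronglyCartesian_of_isHomLift 𝒮.p h𝒮 _ _
    have hg : g ≫ φ.hom.snd = φ''.hom.snd :=
      @IsHomLift.eq_of_isHomLift _ _ _ _ (FibCat.fpSnd F G).toFunctor X'' X _ φ'' hφ''
    obtain ⟨χ, ⟨h2, h3⟩, hu⟩ := fp_exists_unique_lift_snd φ φ'' _ rfl g hg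
    refine ⟨χ, ⟨?_, h3⟩, ?_⟩
    · rw [← h2]; exact IsHomLift.map (FibCat.fpSnd F G).toFunctor χ
    · rintro χ' ⟨h4, h5⟩
      apply hu
      refine ⟨?_, h5⟩
      exact (@IsHomLift.eq_of_isHomLift _ _ _ _ (FibCat.fpSnd F G).toFunctor X'' X' g χ' h4).symm

lemma isStronglyCartesian_of_isHomLift_of {𝒵 : Type u₂} [Category.{v₂} 𝒵] (p : 𝒵 ⥤ C) {R S R' S' : C}
    (f : R ⟶ S) (f' : R' ⟶ S') {a b : 𝒵} (φ : a ⟶ b) [p.IsStronglyCartesian f φ] [p.IsHomLift f' φ] :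
    p.IsStronglyCartesian f' φ :=
  isStronglyCartesian_of_map p f' φ (isStronglyCartesian_map_of p f φ)

theorem X6400 (F : 𝒳 ⥤ᵇ 𝒮) (G : 𝒴 ⥤ᵇ 𝒮) [𝒳.p.IsFibered] [𝒴.p.IsFibered] [𝒮.p.IsFibered]
    (hF : ∀ {R S : C} (f : R ⟶ S) {a b : 𝒳.obj} (φ : a ⟶ b), 𝒳.p.IsStronglyCartesian f φ →
      𝒮.p.IsStronglyCartesian f (F.map φ))
    (hG : ∀ {R S : C} (f : R ⟶ S) {a b : 𝒴.obj} (φ : a ⟶ b), 𝒴.p.IsStronglyCartesian f φ →
      𝒮.p.IsStronglyCartesian f (G.map φ)) :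
    (FibCat.fp F G).p.IsFibered := by
  apply IsFibered.of_exists_isStronglyCartesian
  intro X R (f : R ⟶ 𝒳.p.obj X.obj.fst)
  have hy : 𝒴.p.obj X.obj.snd = 𝒳.p.obj X.obj.fst := (FibCat.fpSnd F G).w_obj X
  obtain ⟨y', b, hb⟩ := IsPreFibered.exists_isCartesian' (p := 𝒴.p) (a := X.obj.snd)
    (f ≫ eqToHom hy.symm)
  obtain ⟨x', a, ha⟩ := IsPreFibered.exists_isCartesian' (p := 𝒳.p) (a := X.obj.fst) f
  have ha' : 𝒳.p.IsStronglyCartesian f a := inferInstance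
  have ha'' : 𝒳.p.IsStronglyCartesian (𝒳.p.map a) a := isStronglyCartesian_map_of 𝒳.p f a
  have hb' : 𝒴.p.IsStronglyCartesian (f ≫ eqToHom hy.symm) b := inferInstance
  have hb0 : 𝒴.p.IsHomLift f b :=
    (IsHomLift.lift_comp_eqToHom_iff 𝒴.p f b hy.symm).1 hb'.toIsHomLift
  have hb1 : 𝒴.p.IsHomLift (𝒳.p.map a) b := by
    rw [IsHomLift.fac' 𝒳.p f a]; infer_instance
  have hb'' : 𝒴.p.IsStronglyCartesian (𝒳.p.map a) b :=
    isStronglyCartesian_of_isHomLift_of 𝒴.p (f ≫ eqToHom hy.symm) _ b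
  have hGb : 𝒮.p.IsStronglyCartesian (𝒳.p.map a) (G.map b) := hG _ b hb''
  have hFa : 𝒮.p.IsStronglyCartesian (𝒳.p.map a) (F.map a) := hF _ a ha''
  have hX : 𝒮.p.IsHomLift (𝟙 (𝒳.p.obj X.obj.fst)) X.obj.iso.hom := X.property
  have hc : 𝒮.p.IsCartesian (𝒳.p.map a) (F.map a ≫ X.obj.iso.hom) :=
    IsCartesian.of_comp_iso 𝒮.p (𝒳.p.map a) (F.map a) X.obj.iso
  let i' : F.obj x' ≅ G.obj y' :=
    IsCartesian.domainUniqueUpToIso 𝒮.p (𝒳.p.map a) (G.map b) (F.map a ≫ X.obj.iso.hom)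
  have hi1 : 𝒮.p.IsHomLift (𝟙 (𝒳.p.obj x')) i'.hom :=
    IsCartesian.map_isHomLift 𝒮.p (𝒳.p.map a) (G.map b) (F.map a ≫ X.obj.iso.hom)
  have hi2 : F.map a ≫ X.obj.iso.hom = i'.hom ≫ G.map b :=
    (IsCartesian.fac 𝒮.p (𝒳.p.map a) (G.map b) (F.map a ≫ X.obj.iso.hom)).symm
  let φ : fpMk F G x' y' i' hi1 ⟶ X := fpHomMk a b hi2
  have h1 : (FibCat.fp F G).p.IsStronglyCartesian ((FibCat.fp F G).p.map φ) φ :=
    fp_isStronglyCartesian φ _ rfl (ha := ha'') (hb := hb'') (hGb := hGb)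
  have h2 : (FibCat.fp F G).p.IsHomLift f φ := (fp_isHomLift_iff F G f φ).2 ha'.toIsHomLift
  exact ⟨fpMk F G x' y' i' hi1, φ, isStronglyCartesian_of_map _ f φ h1⟩

end FP

section Inertia

variable {C : Type u} [Category.{v} C] {𝒳 : BasedCategory.{v₂, u₂} C} {𝒴 : BasedCategory.{v₃, u₃} C}

lemma isFibGrpd_id : FibCat.IsFibGrpd (𝟭 C) where
  exists_lift := by
    intro x V f
    exact ⟨V, f, IsHomLift.map (𝟭 C) f⟩
  isStronglyCartesian := by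
    intro y x φ
    refine { toIsHomLift := IsHomLift.map _ φ, universal_property' := ?_ }
    intro a' g φ' hφ'
    refine ⟨g, ⟨IsHomLift.map (𝟭 C) g, ?_⟩, ?_⟩
    · exact @IsHomLift.eq_of_isHomLift _ _ _ _ (𝟭 C) a' x _ φ' hφ'
    · rintro χ ⟨h1, h2⟩
      exact (@IsHomLift.eq_of_isHomLift _ _ _ _ (𝟭 C) a' y g χ h1).symm

lemma inertia_aut_isHomLift (F : 𝒳 ⥤ᵇ 𝒴) (X : (FibCat.inertia F).obj) :
    𝒳.p.IsHomLift (𝟙 (𝒳.p.obj X.pt)) X.aut.hom := by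
  have h1 : 𝒴.p.IsHomLift (𝟙 (𝒳.p.obj X.pt)) (F.map X.aut.hom) := by
    rw [X.map_aut]; infer_instance
  exact BasedFunctor.isHomLift_map F _ _

lemma inertia_isHomLift_iff (F : 𝒳 ⥤ᵇ 𝒴) {R S : C} (f : R ⟶ S) {X Y : (FibCat.inertia F).obj}
    (φ : X ⟶ Y) : (FibCat.inertia F).p.IsHomLift f φ ↔ 𝒳.p.IsHomLift f φ.hom := by
  constructor
  · intro h
    subst_hom_lift (FibCat.inertia F).p f φ
    exact IsHomLift.map 𝒳.p φ.hom
  · intro h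
    subst_hom_lift 𝒳.p f φ.hom
    exact IsHomLift.map (FibCat.inertia F).p φ

/-- Lifting an automorphism along a strongly cartesian morphism. -/
lemma inertia_exists_lift (F : 𝒳 ⥤ᵇ 𝒴) (X : (FibCat.inertia F).obj) {R : C} (f : R ⟶ 𝒳.p.obj X.pt)
    {y : 𝒳.obj} (φ : y ⟶ X.pt) [𝒳.p.IsStronglyCartesian f φ] [𝒴.p.IsStronglyCartesian f (F.map φ)] :
    ∃ (β : y ≅ y), F.map β.hom = 𝟙 (F.obj y) ∧ β.hom ≫ φ = φ ≫ X.aut.hom := by
  have hα := inertia_aut_isHomLift F X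
  have hαi : 𝒳.p.IsHomLift (𝟙 (𝒳.p.obj X.pt)) X.aut.inv := IsHomLift.lift_id_inv 𝒳.p _ _
  have h1 : 𝒳.p.IsHomLift f (φ ≫ X.aut.hom) := inferInstance
  have h2 : 𝒳.p.IsHomLift f (φ ≫ X.aut.inv) := inferInstance
  let β : y ⟶ y := IsCartesian.map 𝒳.p f φ (φ ≫ X.aut.hom)
  let β' : y ⟶ y := IsCartesian.map 𝒳.p f φ (φ ≫ X.aut.inv)
  have hβ : β ≫ φ = φ ≫ X.aut.hom := IsCartesian.fac 𝒳.p f φ _
  have hβ' : β' ≫ φ = φ ≫ X.aut.inv := IsCartesian.fac 𝒳.p f φ _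
  have hβl : 𝒳.p.IsHomLift (𝟙 R) β := IsCartesian.map_isHomLift 𝒳.p f φ _
  have hβ'l : 𝒳.p.IsHomLift (𝟙 R) β' := IsCartesian.map_isHomLift 𝒳.p f φ _
  have hy : 𝒳.p.IsHomLift (𝟙 R) (𝟙 y) := IsHomLift.id (IsHomLift.domain_eq 𝒳.p f φ)
  have e1 : β ≫ β' = 𝟙 y := by
    apply IsCartesian.ext 𝒳.p f φ
    rw [Category.assoc, hβ', ← Category.assoc, hβ, Category.assoc, Iso.hom_inv_id, Category.comp_id,
      Category.id_comp]
  have e2 : β' ≫ β = 𝟙 y := by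
    apply IsCartesian.ext 𝒳.p f φ
    rw [Category.assoc, hβ, ← Category.assoc, hβ', Category.assoc, Iso.inv_hom_id, Category.comp_id,
      Category.id_comp]
  refine ⟨⟨β, β', e1, e2⟩, ?_, hβ⟩
  have hFy : 𝒴.p.IsHomLift (𝟙 R) (𝟙 (F.obj y)) := by
    have := F.toFunctor.map_id y
    rw [← this]; infer_instance
  apply IsCartesian.ext 𝒴.p f (F.map φ)
  rw [← F.toFunctor.map_comp, hβ, F.toFunctor.map_comp, X.map_aut, Category.comp_id,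
    Category.id_comp]

/-- A morphism of the inertia whose underlying morphism is strongly cartesian is strongly
cartesian. -/
lemma inertia_isStronglyCartesian (F : 𝒳 ⥤ᵇ 𝒴) {X Y : (FibCat.inertia F).obj} (φ : X ⟶ Y) {R S : C}
    (f : R ⟶ S) [𝒳.p.IsStronglyCartesian f φ.hom] : (FibCat.inertia F).p.IsStronglyCartesian f φ := by
  refine { toIsHomLift := (inertia_isHomLift_iff F f φ).2 inferInstance, universal_property' := ?_ }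
  intro Z (g : 𝒳.p.obj Z.pt ⟶ R) ψ hψ
  have h1 : 𝒳.p.IsHomLift (g ≫ f) ψ.hom := (inertia_isHomLift_iff F _ ψ).1 hψ
  let χ : Z.pt ⟶ X.pt := IsStronglyCartesian.map 𝒳.p f φ.hom (f' := g ≫ f) rfl ψ.hom
  have hχ1 : 𝒳.p.IsHomLift g χ := IsStronglyCartesian.map_isHomLift 𝒳.p f φ.hom rfl ψ.hom
  have hχ2 : χ ≫ φ.hom = ψ.hom := IsStronglyCartesian.fac 𝒳.p f φ.hom rfl ψ.hom
  have hZ := inertia_aut_isHomLift F Z
  have hX := inertia_aut_isHomLift F X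
  have hX' : 𝒳.p.IsHomLift (𝟙 R) X.aut.hom := by
    have : 𝒳.p.obj X.pt = R := IsHomLift.domain_eq 𝒳.p f φ.hom
    rw [← this]; exact hX
  have h2 : 𝒳.p.IsHomLift g (Z.aut.hom ≫ χ) := inferInstance
  have h3 : 𝒳.p.IsHomLift g (χ ≫ X.aut.hom) := inferInstance
  have hcomm : Z.aut.hom ≫ χ = χ ≫ X.aut.hom := by
    apply IsStronglyCartesian.ext 𝒳.p f φ.hom g
    rw [Category.assoc, hχ2, ψ.comm, Category.assoc, φ.comm, ← Category.assoc, hχ2]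
  refine ⟨⟨χ, hcomm⟩, ⟨(inertia_isHomLift_iff F g _).2 hχ1, FibCat.InertiaObj.hom_ext hχ2⟩, ?_⟩
  rintro χ' ⟨h4, h5⟩
  apply FibCat.InertiaObj.hom_ext
  have h6 : 𝒳.p.IsHomLift g χ'.hom := (inertia_isHomLift_iff F g χ').1 h4
  have h7 : χ'.hom ≫ φ.hom = ψ.hom := congrArg (fun t => t.hom) h5
  exact IsStronglyCartesian.map_uniq 𝒳.p f φ.hom rfl ψ.hom χ'.hom h7

theorem X6403 [𝒳.p.IsFibered] (F : 𝒳 ⥤ᵇ 𝒴) (hF : FibCat.PreservesStronglyCartesian F) :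
    (FibCat.inertia F).p.IsFibered := by
  apply IsFibered.of_exists_isStronglyCartesian
  intro X R (f : R ⟶ 𝒳.p.obj X.pt)
  obtain ⟨y, φ, hφ⟩ := IsPreFibered.exists_isCartesian' (p := 𝒳.p) (a := X.pt) f
  have h1 : 𝒳.p.IsStronglyCartesian f φ := inferInstance
  have h2 : 𝒴.p.IsStronglyCartesian f (F.map φ) := hF f φ h1
  obtain ⟨β, hβ1, hβ2⟩ := inertia_exists_lift F X f φ
  let Y : (FibCat.inertia F).obj := ⟨y, β, hβ1⟩
  let Φ : Y ⟶ X := ⟨φ, hβ2⟩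
  exact ⟨Y, Φ, inertia_isStronglyCartesian F Φ f⟩

theorem X6404 (h𝒳 : FibCat.IsFibGrpd 𝒳.p) :
    FibCat.IsFibGrpd (FibCat.inertia (FibCat.toSelf 𝒳)).p where
  exists_lift := by
    intro X V (f : V ⟶ 𝒳.p.obj X.pt)
    obtain ⟨y, φ, hφ⟩ := h𝒳.exists_lift (x := X.pt) f
    have h1 : 𝒳.p.IsStronglyCartesian f φ := isStronglyCartesian_of_isHomLift 𝒳.p h𝒳 f φ
    have h0 : (FibCat.selfOver C).p.IsHomLift f ((FibCat.toSelf 𝒳).map φ) := inferInstance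
    have h2 : (FibCat.selfOver C).p.IsStronglyCartesian f ((FibCat.toSelf 𝒳).map φ) :=
      isStronglyCartesian_of_isHomLift (FibCat.selfOver C).p isFibGrpd_id f _
    obtain ⟨β, hβ1, hβ2⟩ := inertia_exists_lift (FibCat.toSelf 𝒳) X f φ
    let Y : (FibCat.inertia (FibCat.toSelf 𝒳)).obj := ⟨y, β, hβ1⟩
    let Φ : Y ⟶ X := ⟨φ, hβ2⟩
    exact ⟨Y, Φ, (inertia_isHomLift_iff _ f Φ).2 hφ⟩
  isStronglyCartesian := by
    intro Y X φ
    have h1 : 𝒳.p.IsStronglyCartesian (𝒳.p.map φ.hom) φ.hom := h𝒳.isStronglyCartesian _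
    exact inertia_isStronglyCartesian (FibCat.toSelf 𝒳) φ (𝒳.p.map φ.hom)

theorem X6405 (h𝒳 : FibCat.IsFibGrpd 𝒳.p)
    (h : FibCat.IsEquivOver (FibCat.inertiaToBase (FibCat.toSelf 𝒳))) : FibCat.IsFibSetoid 𝒳.p := by
  refine ⟨h𝒳, ?_⟩
  intro U a b
  constructor
  intro φ ψ
  have hE := isEquivalence_of_isEquivOver _ h
  have hφ : 𝒳.p.IsHomLift (𝟙 U) φ.1 := φ.2
  have hψ : 𝒳.p.IsHomLift (𝟙 U) ψ.1 := ψ.2
  have hψi : IsIso ψ.1 := isIso_of_isHomLift_id 𝒳.p h𝒳 (U := U) ψ.1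
  have hφi : IsIso φ.1 := isIso_of_isHomLift_id 𝒳.p h𝒳 (U := U) φ.1
  let α : b.1 ≅ b.1 := (asIso ψ.1).symm ≪≫ asIso φ.1
  have hα : 𝒳.p.IsHomLift (𝟙 U) α.hom := by
    change 𝒳.p.IsHomLift (𝟙 U) (inv ψ.1 ≫ φ.1)
    infer_instance
  have hα' : (FibCat.toSelf 𝒳).map α.hom = 𝟙 _ := by
    change 𝒳.p.map α.hom = 𝟙 _
    rw [IsHomLift.fac' 𝒳.p (𝟙 U) α.hom]
    simp
  let X₁ : (FibCat.inertia (FibCat.toSelf 𝒳)).obj := ⟨b.1, α, hα'⟩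
  let X₂ : (FibCat.inertia (FibCat.toSelf 𝒳)).obj := ⟨b.1, Iso.refl _, (FibCat.toSelf 𝒳).map_id _⟩
  obtain ⟨θ, hθ⟩ := (FibCat.inertiaToBase (FibCat.toSelf 𝒳)).toFunctor.map_surjective
    (X := X₁) (Y := X₂) (𝟙 b.1)
  have hθ' : θ.hom = 𝟙 b.1 := hθ
  have h1 : α.hom ≫ θ.hom = θ.hom ≫ 𝟙 b.1 := θ.comm
  rw [hθ', Category.comp_id, Category.comp_id] at h1
  have h2 : inv ψ.1 ≫ φ.1 = 𝟙 b.1 := h1
  apply Fiber.hom_ext
  change φ.1 = ψ.1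
  have h3 : φ.1 = ψ.1 ≫ inv ψ.1 ≫ φ.1 := by rw [IsIso.hom_inv_id_assoc]
  rw [h3, h2, Category.comp_id]

end Inertia

section Setoid

variable {C : Type u} [Category.{v} C] {𝒳 : BasedCategory.{v₂, u₂} C} {𝒴 : BasedCategory.{v₃, u₃} C}

lemma basedFunctor_ext {F G : 𝒳 ⥤ᵇ 𝒴} (h : F.toFunctor = G.toFunctor) : F = G := by
  cases F; cases G; simp only at h; subst h; rfl

/-- In a category fibred in setoids, two morphisms with the same source and target lying over the same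
morphism of the base are equal. -/
lemma hom_eq_of_isFibSetoid {𝒵 : Type u₂} [Category.{v₂} 𝒵] (p : 𝒵 ⥤ C) (hp : FibCat.IsFibSetoid p)
    {R S : C} (f : R ⟶ S) {a b : 𝒵} (ψ₁ ψ₂ : a ⟶ b) [p.IsHomLift f ψ₁] [p.IsHomLift f ψ₂] :
    ψ₁ = ψ₂ := by
  have h2 : p.IsStronglyCartesian f ψ₂ := isStronglyCartesian_of_isHomLift p hp.1 f ψ₂
  obtain ⟨χ, hχd⟩ : ∃ χ : a ⟶ a, χ = IsCartesian.map p f ψ₂ ψ₁ := ⟨_, rfl⟩
  have hχ : χ ≫ ψ₂ = ψ₁ := by rw [hχd]; exact IsCartesian.fac p f ψ₂ ψ₁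
  have hχl : p.IsHomLift (𝟙 R) χ := by rw [hχd]; exact IsCartesian.map_isHomLift p f ψ₂ ψ₁
  have ha : p.obj a = R := IsHomLift.domain_eq p f ψ₁
  have hid : p.IsHomLift (𝟙 R) (𝟙 a) := IsHomLift.id ha
  have hthin := hp.2 R
  let m₁ : Fiber.mk (p := p) ha ⟶ Fiber.mk (p := p) ha := ⟨χ, hχl⟩
  let m₂ : Fiber.mk (p := p) ha ⟶ Fiber.mk (p := p) ha := ⟨𝟙 a, hid⟩
  have h3 : m₁ = m₂ := (hthin _ _).elim _ _
  have h4 : χ = 𝟙 a := congrArg (fun t => t.1) h3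
  rw [← hχ, h4, Category.id_comp]

theorem X6408 (h𝒴 : FibCat.IsFibSet 𝒴.p) {F G : 𝒳 ⥤ᵇ 𝒴} (α : F ⟶ G) :
    ∃ h : F = G, α = eqToHom h := by
  have hobj : ∀ x : 𝒳.obj, F.obj x = G.obj x := by
    intro x
    have hd := h𝒴.2 (𝒳.p.obj x)
    have hl : 𝒴.p.IsHomLift (𝟙 (𝒳.p.obj x)) (α.toNatTrans.app x) := α.isHomLift' x
    let m : Fiber.mk (p := 𝒴.p) (F.w_obj x) ⟶ Fiber.mk (p := 𝒴.p) (G.w_obj x) :=
      ⟨α.toNatTrans.app x, hl⟩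
    have := IsDiscrete.eq_of_hom m
    exact congrArg (fun t => t.1) this
  have happ : ∀ x : 𝒳.obj, α.toNatTrans.app x = eqToHom (hobj x) := by
    intro x
    have hd := h𝒴.2 (𝒳.p.obj x)
    have hl : 𝒴.p.IsHomLift (𝟙 (𝒳.p.obj x)) (α.toNatTrans.app x) := α.isHomLift' x
    have hl' : 𝒴.p.IsHomLift (𝟙 (𝒳.p.obj x)) (eqToHom (hobj x)) :=
      IsHomLift.eqToHom_domain_lift_id (hobj x) (F.w_obj x)
    let m₁ : Fiber.mk (p := 𝒴.p) (F.w_obj x) ⟶ Fiber.mk (p := 𝒴.p) (G.w_obj x) :=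
      ⟨α.toNatTrans.app x, hl⟩
    let m₂ : Fiber.mk (p := 𝒴.p) (F.w_obj x) ⟶ Fiber.mk (p := 𝒴.p) (G.w_obj x) :=
      ⟨eqToHom (hobj x), hl'⟩
    have h3 : m₁ = m₂ := (hd.subsingleton _ _).elim _ _
    exact congrArg (fun t => t.1) h3
  have hFG : F = G := by
    apply basedFunctor_ext
    refine CategoryTheory.Functor.ext hobj ?_
    intro x y φ
    have := α.toNatTrans.naturality φ
    rw [happ x, happ y] at this
    rw [← Category.assoc, ← this, Category.assoc, eqToHom_trans, eqToHom_refl, Category.comp_id]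
  refine ⟨hFG, ?_⟩
  subst hFG
  apply BasedNatTrans.ext
  ext x
  rw [happ x]
  simp

/-- A 2-isomorphism from fibrewise isomorphisms, for a target fibred in setoids. -/
lemma iso_of_fiberwise_iso (h𝒴 : FibCat.IsFibSetoid 𝒴.p) (f g : 𝒳 ⥤ᵇ 𝒴)
    (hfg : ∀ x : 𝒳.obj, ∃ i : f.obj x ≅ g.obj x, 𝒴.p.IsHomLift (𝟙 (𝒳.p.obj x)) i.hom) :
    Nonempty (f ≅ g) := by
  choose i hi using hfg
  refine ⟨BasedNatIso.mkNatIso (NatIso.ofComponents i ?_) hi⟩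
  intro x y φ
  have h1 := hi x
  have h2 := hi y
  have h3 : 𝒴.p.IsHomLift (𝒳.p.map φ) (f.map φ ≫ (i y).hom) := inferInstance
  have h4 : 𝒴.p.IsHomLift (𝒳.p.map φ) ((i x).hom ≫ g.map φ) := inferInstance
  exact hom_eq_of_isFibSetoid 𝒴.p h𝒴 (𝒳.p.map φ) _ _

lemma basedIso_unique (h𝒴 : FibCat.IsFibSetoid 𝒴.p) (f g : 𝒳 ⥤ᵇ 𝒴) (e₁ e₂ : f ≅ g) : e₁ = e₂ := by
  apply Iso.ext
  apply BasedNatTrans.ext
  ext x
  have h1 : 𝒴.p.IsHomLift (𝟙 (𝒳.p.obj x)) (e₁.hom.toNatTrans.app x) := e₁.hom.isHomLift' x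
  have h2 : 𝒴.p.IsHomLift (𝟙 (𝒳.p.obj x)) (e₂.hom.toNatTrans.app x) := e₂.hom.isHomLift' x
  exact hom_eq_of_isFibSetoid 𝒴.p h𝒴 (𝟙 (𝒳.p.obj x)) _ _

theorem X6407 (h𝒴 : FibCat.IsFibSetoid 𝒴.p) (f g : 𝒳 ⥤ᵇ 𝒴)
    (hfg : ∀ (U : C) (x : 𝒳.p.Fiber U),
      Nonempty ((FibCat.fiberFunctor f U).obj x ≅ (FibCat.fiberFunctor g U).obj x)) :
    Nonempty (Unique (f ≅ g)) := by
  have h1 : ∀ x : 𝒳.obj, ∃ i : f.obj x ≅ g.obj x, 𝒴.p.IsHomLift (𝟙 (𝒳.p.obj x)) i.hom := by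
    intro x
    obtain ⟨j⟩ := hfg (𝒳.p.obj x) (Fiber.mk (p := 𝒳.p) (a := x) rfl)
    exact ⟨Fiber.fiberInclusion.mapIso j, j.hom.2⟩
  obtain ⟨e⟩ := iso_of_fiberwise_iso h𝒴 f g h1
  exact ⟨⟨⟨e⟩, fun e' => basedIso_unique h𝒴 f g e' e⟩⟩

end Setoid

section Slice

variable {C : Type u} [Category.{v} C]

lemma isFibGrpd_overForget (X : C) : FibCat.IsFibGrpd (Over.forget X) where
  exists_lift := by
    intro A V (f : V ⟶ A.left)
    refine ⟨Over.mk (f ≫ A.hom), Over.homMk f rfl, ?_⟩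
    exact IsHomLift.map (Over.forget X) (Over.homMk (U := Over.mk (f ≫ A.hom)) f rfl)
  isStronglyCartesian := by
    intro B A φ
    refine { toIsHomLift := IsHomLift.map _ φ, universal_property' := ?_ }
    intro D (g : D.left ⟶ B.left) φ' hφ'
    have h1 : g ≫ φ.left = φ'.left :=
      @IsHomLift.eq_of_isHomLift _ _ _ _ (Over.forget X) D A _ φ' hφ'
    have w : g ≫ B.hom = D.hom := by
      rw [← Over.w φ, ← Category.assoc, h1, Over.w φ']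
    refine ⟨Over.homMk g w, ⟨IsHomLift.map (Over.forget X) (Over.homMk g w), ?_⟩, ?_⟩
    · apply Over.OverMorphism.ext
      exact h1
    · rintro χ ⟨h2, h3⟩
      apply Over.OverMorphism.ext
      exact (@IsHomLift.eq_of_isHomLift _ _ _ _ (Over.forget X) D B g χ h2).symm

lemma isFibSetoid_overForget (X : C) : FibCat.IsFibSetoid (Over.forget X) := by
  refine ⟨isFibGrpd_overForget X, ?_⟩
  intro U a b
  constructor
  intro φ ψ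
  apply Fiber.hom_ext
  apply Over.OverMorphism.ext
  have h1 : (Over.forget X).IsHomLift (𝟙 U) φ.1 := φ.2
  have h2 : (Over.forget X).IsHomLift (𝟙 U) ψ.1 := ψ.2
  have e1 := IsHomLift.fac' (Over.forget X) (𝟙 U) φ.1
  have e2 := IsHomLift.fac' (Over.forget X) (𝟙 U) ψ.1
  exact e1.trans e2.symm

variable {𝒮 : BasedCategory.{v₂, u₂} C} {X : C}

lemma left_eq (J : 𝒮.obj ⥤ Over X) (hw : J ⋙ Over.forget X = 𝒮.p) (s : 𝒮.obj) :
    (J.obj s).left = 𝒮.p.obj s := Functor.congr_obj hw s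

/-- The structure map of `J s`, as a morphism from `p s`. -/
def strJ (J : 𝒮.obj ⥤ Over X) (hw : J ⋙ Over.forget X = 𝒮.p) (s : 𝒮.obj) : 𝒮.p.obj s ⟶ X :=
  eqToHom (left_eq J hw s).symm ≫ (J.obj s).hom

lemma map_left_eq (J : 𝒮.obj ⥤ Over X) (hw : J ⋙ Over.forget X = 𝒮.p) {s s' : 𝒮.obj} (φ : s ⟶ s') :
    (J.map φ).left = eqToHom (left_eq J hw s) ≫ 𝒮.p.map φ ≫ eqToHom (left_eq J hw s').symm :=
  Functor.congr_hom hw φ

lemma strJ_naturality (J : 𝒮.obj ⥤ Over X) (hw : J ⋙ Over.forget X = 𝒮.p) {s s' : 𝒮.obj}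
    (φ : s ⟶ s') : 𝒮.p.map φ ≫ strJ J hw s' = strJ J hw s := by
  have h1 := map_left_eq J hw φ
  have h2 := Over.w (J.map φ)
  unfold strJ
  rw [← h2, h1]
  simp

lemma exists_hom_of_strJ (J : 𝒮.obj ⥤ Over X) (hw : J ⋙ Over.forget X = 𝒮.p) [J.Full]
    (s t' : 𝒮.obj) (v : 𝒮.p.obj s ⟶ 𝒮.p.obj t') (hv : v ≫ strJ J hw t' = strJ J hw s) :
    ∃ φ : s ⟶ t', 𝒮.p.map φ = v := by
  have w : (eqToHom (left_eq J hw s) ≫ v ≫ eqToHom (left_eq J hw t').symm) ≫ (J.obj t').hom =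
      (J.obj s).hom := by
    unfold strJ at hv
    rw [Category.assoc, Category.assoc, hv]
    simp
  let m : J.obj s ⟶ J.obj t' :=
    Over.homMk (eqToHom (left_eq J hw s) ≫ v ≫ eqToHom (left_eq J hw t').symm) w
  refine ⟨J.preimage m, ?_⟩
  have h1 := map_left_eq J hw (J.preimage m)
  rw [J.map_preimage m] at h1
  have h3 : m.left = eqToHom (left_eq J hw s) ≫ v ≫ eqToHom (left_eq J hw t').symm := rfl
  rw [h3] at h1
  have h4 := congrArg (fun t => eqToHom (left_eq J hw s).symm ≫ t ≫ eqToHom (left_eq J hw t')) h1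
  simpa using h4.symm

lemma exists_strJ_eq_id (j : 𝒮 ⥤ᵇ FibCat.overCat X) (hj : FibCat.IsEquivOver j) :
    ∃ (t : 𝒮.obj) (h : 𝒮.p.obj t = X), strJ (j.toFunctor : 𝒮.obj ⥤ Over X) j.w t = eqToHom h := by
  obtain ⟨G, ⟨e₁⟩, ⟨e₂⟩⟩ := hj
  let t := G.obj (Over.mk (𝟙 X))
  have h : 𝒮.p.obj t = X := G.w_obj (Over.mk (𝟙 X))
  refine ⟨t, h, ?_⟩
  let J : 𝒮.obj ⥤ Over X := j.toFunctor
  let i : J.obj t ⟶ Over.mk (𝟙 X) := e₂.hom.toNatTrans.app (Over.mk (𝟙 X))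
  have hi : (Over.forget X).IsHomLift (𝟙 X) i := e₂.hom.isHomLift' (Over.mk (𝟙 X))
  have e1 : i.left = eqToHom _ ≫ 𝟙 X ≫ eqToHom _ := IsHomLift.fac' (Over.forget X) (𝟙 X) i
  have e2 : i.left ≫ 𝟙 X = (J.obj t).hom := Over.w i
  change eqToHom _ ≫ (J.obj t).hom = _
  rw [← e2, e1]
  simp

theorem X6443 {X X' : C} (j : 𝒮 ⥤ᵇ FibCat.overCat X) (j' : 𝒮 ⥤ᵇ FibCat.overCat X')
    (hj : FibCat.IsEquivOver j) (hj' : FibCat.IsEquivOver j') :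
    ∃ e : X' ≅ X, Nonempty (BasedFunctor.comp j'
      (⟨Over.map e.hom, Over.mapForget_eq e.hom⟩ : FibCat.overCat X' ⥤ᵇ FibCat.overCat X) ≅ j) := by
  have hE := isEquivalence_of_isEquivOver j hj
  have hE' := isEquivalence_of_isEquivOver j' hj'
  obtain ⟨t, h, ht⟩ := exists_strJ_eq_id j hj
  obtain ⟨t', h', ht'⟩ := exists_strJ_eq_id j' hj'
  subst h h'
  rw [eqToHom_refl] at ht ht'
  let J : 𝒮.obj ⥤ Over (𝒮.p.obj t) := j.toFunctor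
  let J' : 𝒮.obj ⥤ Over (𝒮.p.obj t') := j'.toFunctor
  have hw : J ⋙ Over.forget _ = 𝒮.p := j.w
  have hw' : J' ⋙ Over.forget _ = 𝒮.p := j'.w
  have hJ : J.Full := inferInstanceAs (j.toFunctor.Full)
  have hJ' : J'.Full := inferInstanceAs (j'.toFunctor.Full)
  change strJ J hw t = 𝟙 _ at ht
  change strJ J' hw' t' = 𝟙 _ at ht'
  have K : ∀ s : 𝒮.obj, strJ J' hw' s ≫ strJ J hw t' = strJ J hw s := by
    intro s
    obtain ⟨φ, hφ⟩ := exists_hom_of_strJ J' hw' s t' (strJ J' hw' s) (by rw [ht', Category.comp_id])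
    rw [← hφ]
    exact strJ_naturality J hw φ
  have K' : ∀ s : 𝒮.obj, strJ J hw s ≫ strJ J' hw' t = strJ J' hw' s := by
    intro s
    obtain ⟨φ, hφ⟩ := exists_hom_of_strJ J hw s t (strJ J hw s) (by rw [ht, Category.comp_id])
    rw [← hφ]
    exact strJ_naturality J' hw' φ
  let e : 𝒮.p.obj t' ≅ 𝒮.p.obj t :=
    ⟨strJ J hw t', strJ J' hw' t, by rw [K' t', ht'], by rw [K t, ht]⟩
  refine ⟨e, ?_⟩
  apply iso_of_fiberwise_iso (isFibSetoid_overForget _)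
  intro s
  have hl : ((Over.map e.hom).obj (J'.obj s)).left = (J.obj s).left :=
    (left_eq J' hw' s).trans (left_eq J hw s).symm
  have w : (eqToIso hl).hom ≫ (J.obj s).hom = (J'.obj s).hom ≫ strJ J hw t' := by
    have h1 := K s
    have h2 : strJ J' hw' s = eqToHom (left_eq J' hw' s).symm ≫ (J'.obj s).hom := rfl
    have h3 : strJ J hw s = eqToHom (left_eq J hw s).symm ≫ (J.obj s).hom := rfl
    rw [h2, h3] at h1
    have h4 := congrArg (fun m => eqToHom (left_eq J' hw' s) ≫ m) h1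
    simp only [Category.assoc, eqToHom_trans_assoc, eqToHom_refl, Category.id_comp] at h4
    rw [h4]
    rfl
  refine ⟨Over.isoMk (f := (Over.map e.hom).obj (J'.obj s)) (g := J.obj s) (eqToIso hl) w, ?_⟩
  apply IsHomLift.of_fac (p := Over.forget (𝒮.p.obj t)) (a := (Over.map e.hom).obj (J'.obj s))
    (b := J.obj s) (𝟙 (𝒮.p.obj s)) _ (left_eq J' hw' s) (left_eq J hw s)
  change _ = _ ≫ eqToHom hl ≫ _
  simp

end Slice

section InertiaDiag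

variable {C : Type u} [Category.{v} C] {𝒳 : BasedCategory.{v₂, u₂} C} {𝒴 : BasedCategory.{v₃, u₃} C}

/-- the automorphism `(α, 𝟙)` of `Δ x` -/
def inertiaDiagIso (F : 𝒳 ⥤ᵇ 𝒴) (X : (FibCat.inertia F).obj) :
    (FibCat.diag F).obj X.pt ≅ (FibCat.diag F).obj X.pt :=
  fpIsoMk (F := F) (G := F) (X := (FibCat.diag F).obj X.pt) (Y := (FibCat.diag F).obj X.pt)
    X.aut (Iso.refl X.pt) (by
      change F.map X.aut.hom ≫ 𝟙 _ = 𝟙 _ ≫ F.map (𝟙 X.pt)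
      rw [X.map_aut, F.toFunctor.map_id])

@[simp] lemma inertiaDiagIso_hom_fst (F : 𝒳 ⥤ᵇ 𝒴) (X : (FibCat.inertia F).obj) :
    (inertiaDiagIso F X).hom.hom.fst = X.aut.hom := rfl

@[simp] lemma inertiaDiagIso_hom_snd (F : 𝒳 ⥤ᵇ 𝒴) (X : (FibCat.inertia F).obj) :
    (inertiaDiagIso F X).hom.hom.snd = 𝟙 X.pt := rfl

/-- object part of the comparison functor -/
def inertiaDiagObj (F : 𝒳 ⥤ᵇ 𝒴) (X : (FibCat.inertia F).obj) :
    (FibCat.fp (FibCat.diag F) (FibCat.diag F)).obj :=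
  fpMk (FibCat.diag F) (FibCat.diag F) X.pt X.pt (inertiaDiagIso F X)
    ((fp_isHomLift_iff F F _ _).2 (inertia_aut_isHomLift F X))

/-- The comparison functor from the inertia to `𝒳 ×_{Δ,Δ} 𝒳`. -/
def inertiaDiagFunctor (F : 𝒳 ⥤ᵇ 𝒴) :
    (FibCat.inertia F).obj ⥤ (FibCat.fp (FibCat.diag F) (FibCat.diag F)).obj where
  obj X := inertiaDiagObj F X
  map {X Y} φ := fpHomMk (F := FibCat.diag F) (G := FibCat.diag F) (X := inertiaDiagObj F X)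
    (Y := inertiaDiagObj F Y) φ.hom φ.hom (by
      apply fp_hom_ext
      · exact φ.comm.symm
      · change φ.hom ≫ 𝟙 _ = 𝟙 _ ≫ φ.hom
        rw [Category.comp_id, Category.id_comp])
  map_id X := by apply fp_hom_ext <;> rfl
  map_comp φ ψ := by apply fp_hom_ext <;> rfl

/-- The comparison functor over `C`. -/
def inertiaDiag (F : 𝒳 ⥤ᵇ 𝒴) : FibCat.inertia F ⥤ᵇ FibCat.fp (FibCat.diag F) (FibCat.diag F) where
  toFunctor := inertiaDiagFunctor F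
  w := rfl

lemma inertiaDiag_faithful (F : 𝒳 ⥤ᵇ 𝒴) : (inertiaDiag F).toFunctor.Faithful where
  map_injective := by
    intro X Y φ ψ h
    apply FibCat.InertiaObj.hom_ext
    exact congrArg (fun t => t.hom.fst) h

lemma inertiaDiag_full (F : 𝒳 ⥤ᵇ 𝒴) : (inertiaDiag F).toFunctor.Full where
  map_surjective := by
    intro X Y f
    have h1 : f.hom.fst ≫ Y.aut.hom = X.aut.hom ≫ f.hom.snd :=
      congrArg (fun t => t.hom.fst) f.hom.w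
    have h2 : f.hom.fst ≫ 𝟙 _ = 𝟙 _ ≫ f.hom.snd := congrArg (fun t => t.hom.snd) f.hom.w
    rw [Category.comp_id, Category.id_comp] at h2
    refine ⟨⟨f.hom.fst, (congrArg (fun m => X.aut.hom ≫ m) h2).trans h1.symm⟩, ?_⟩
    apply fp_hom_ext
    · rfl
    · exact h2

lemma inertiaDiag_essSurj (F : 𝒳 ⥤ᵇ 𝒴) : (inertiaDiag F).toFunctor.EssSurj where
  mem_essImage := by
    intro Z
    let j : ((FibCat.diag F).obj Z.obj.fst).obj ≅ ((FibCat.diag F).obj Z.obj.snd).obj :=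
      (ObjectProperty.ι _).mapIso Z.obj.iso
    obtain ⟨i₁, hd₁⟩ : ∃ i₁ : Z.obj.fst ⟶ Z.obj.snd, i₁ = j.hom.fst := ⟨_, rfl⟩
    obtain ⟨i₂, hd₂⟩ : ∃ i₂ : Z.obj.fst ⟶ Z.obj.snd, i₂ = j.hom.snd := ⟨_, rfl⟩
    have hi₁ : IsIso i₁ := by rw [hd₁]; exact inferInstanceAs (IsIso j.hom.fst)
    have hi₂ : IsIso i₂ := by rw [hd₂]; exact inferInstanceAs (IsIso j.hom.snd)
    have hw : F.map i₁ ≫ 𝟙 _ = 𝟙 _ ≫ F.map i₂ := by rw [hd₁, hd₂]; exact j.hom.w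
    rw [Category.comp_id, Category.id_comp] at hw
    let α : Z.obj.fst ≅ Z.obj.fst := asIso i₁ ≪≫ (asIso i₂).symm
    have hα : F.map α.hom = 𝟙 _ := by
      change F.map (i₁ ≫ inv i₂) = 𝟙 _
      rw [F.toFunctor.map_comp, hw, ← F.toFunctor.map_comp, IsIso.hom_inv_id, F.toFunctor.map_id]
    let X : (FibCat.inertia F).obj := ⟨Z.obj.fst, α, hα⟩
    refine ⟨X, ⟨fpIsoMk (F := FibCat.diag F) (G := FibCat.diag F) (X := inertiaDiagObj F X) (Y := Z)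
      (Iso.refl _) (show Z.obj.fst ≅ Z.obj.snd from asIso i₂) ?_⟩⟩
    apply fp_hom_ext
    · change 𝟙 _ ≫ j.hom.fst = (i₁ ≫ inv i₂) ≫ i₂
      rw [Category.id_comp, Category.assoc, IsIso.inv_hom_id, Category.comp_id, hd₁]
    · change 𝟙 _ ≫ j.hom.snd = 𝟙 _ ≫ i₂
      rw [hd₂]
      rfl

theorem X6402 [𝒳.p.IsFibered] (F : 𝒳 ⥤ᵇ 𝒴) (hF : FibCat.PreservesStronglyCartesian F) :
    ∃ E : FibCat.inertia F ⥤ᵇ FibCat.fp (FibCat.diag F) (FibCat.diag F),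
      FibCat.IsEquivOver E ∧ BasedFunctor.comp E (FibCat.fpFst _ _) = FibCat.inertiaToBase F ∧
        BasedFunctor.comp E (FibCat.fpSnd _ _) = FibCat.inertiaToBase F := by
  have h1 : (FibCat.inertia F).p.IsFibered := X6403 F hF
  have h2 : (inertiaDiag F).toFunctor.IsEquivalence :=
    { faithful := inertiaDiag_faithful F, full := inertiaDiag_full F,
      essSurj := inertiaDiag_essSurj F }
  refine ⟨inertiaDiag F, isEquivOver_of_isEquivalence (inertiaDiag F) liftsIsos_of_isFibered, ?_, ?_⟩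
  · apply basedFunctor_ext; rfl
  · apply basedFunctor_ext; rfl

end InertiaDiag

section PrePost

open Bicategory

variable {B : Type u} [Bicategory.{v₂, v} B]

lemma precomp_isEquivalence {a b : B} (c : B) (f : a ⟶ b) (g : b ⟶ a) (e₁ : f ≫ g ≅ 𝟙 a)
    (e₂ : g ≫ f ≅ 𝟙 b) : (Bicategory.precomp c f).IsEquivalence :=
  (CategoryTheory.Equivalence.mk (Bicategory.precomp c f) (Bicategory.precomp c g)
    ((leftUnitorNatIso b c).symm ≪≫ (precomposing b b c).mapIso e₂.symm ≪≫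
      associatorNatIsoRight g f c)
    ((associatorNatIsoRight f g c).symm ≪≫ (precomposing a a c).mapIso e₁ ≪≫
      leftUnitorNatIso a c)).isEquivalence_functor

lemma postcomp_isEquivalence {a b : B} (c : B) (f : a ⟶ b) (g : b ⟶ a) (e₁ : f ≫ g ≅ 𝟙 a)
    (e₂ : g ≫ f ≅ 𝟙 b) : (Bicategory.postcomp c f).IsEquivalence :=
  (CategoryTheory.Equivalence.mk (Bicategory.postcomp c f) (Bicategory.postcomp c g)
    ((rightUnitorNatIso c a).symm ≪≫ (postcomposing c a a).mapIso e₁.symm ≪≫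
      (associatorNatIsoLeft c f g).symm)
    (associatorNatIsoLeft c g f ≪≫ (postcomposing c b b).mapIso e₂ ≪≫
      rightUnitorNatIso c b)).isEquivalence_functor

end PrePost

section PrePost2

variable {C : Type u} [Category.{v} C] {𝒮₁ 𝒮₂ 𝒮₃ 𝒮₄ : BasedCategory.{v₂, u₂} C}

theorem X6439 (φ : 𝒮₁ ⟶ 𝒮₂) (ψ : 𝒮₃ ⟶ 𝒮₄) (hφ : FibCat.IsEquivOver φ) (hψ : FibCat.IsEquivOver ψ) :
    (Bicategory.precomp 𝒮₃ φ ⋙ Bicategory.postcomp 𝒮₁ ψ).IsEquivalence := by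
  obtain ⟨G, ⟨e₁⟩, ⟨e₂⟩⟩ := hφ
  obtain ⟨H, ⟨e₃⟩, ⟨e₄⟩⟩ := hψ
  have h1 : (Bicategory.precomp 𝒮₃ φ).IsEquivalence := precomp_isEquivalence 𝒮₃ φ G e₁ e₂
  have h2 : (Bicategory.postcomp 𝒮₁ ψ).IsEquivalence := postcomp_isEquivalence 𝒮₁ ψ H e₃ e₄
  infer_instance

end PrePost2

end Groth.Agent.H3.FibCatAux
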