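import Mathlib
import Groth.Agent.Lib.Helper3.FibCatAux

set_option autoImplicit false

universe v₄ u₄ v₃ u₃ v₂ u₂ v u

open CategoryTheory CategoryTheory.Functor CategoryTheory.Limits

namespace Groth.Agent.H3.FibCatYoneda

open Groth.Agent.H3.FibCatAux

variable {C : Type u} [Category.{v} C] {𝒳 : BasedCategory.{v₂, u₂} C} {U : C}

/-- the canonical morphism `A ⟶ 𝟙_U` of the slice -/
def toId (A : Over U) : A ⟶ Over.mk (𝟙 U) := Over.homMk A.hom (by simp)

lemma toId_comp {A B : Over U} (w : A ⟶ B) : w ≫ toId B = toId A := by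
  apply Over.OverMorphism.ext
  exact Over.w w

lemma toId_id : toId (Over.mk (𝟙 U)) = 𝟙 (Over.mk (𝟙 U)) := by
  apply Over.OverMorphism.ext
  rfl

instance toId_isHomLift (A : Over U) : (Over.forget U).IsHomLift A.hom (toId A) :=
  IsHomLift.map (Over.forget U) (toId A)

lemma map_toId_isHomLift (G : FibCat.overCat U ⥤ᵇ 𝒳) (A : Over U) :
    𝒳.p.IsHomLift A.hom (G.map (toId A)) :=
  @BasedFunctor.preserves_isHomLift _ _ (FibCat.overCat U) 𝒳 G _ _ _ _ A.hom (toId A)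
    (toId_isHomLift A)

lemma map_toId_isStronglyCartesian (G : FibCat.overCat U ⥤ᵇ 𝒳)
    (hG : FibCat.PreservesStronglyCartesian G) (A : Over U) :
    𝒳.p.IsStronglyCartesian A.hom (G.map (toId A)) := by
  apply hG
  exact isStronglyCartesian_of_isHomLift (Over.forget U) (isFibGrpd_overForget U) A.hom (toId A)

lemma map_isHomLift (G : FibCat.overCat U ⥤ᵇ 𝒳) {A B : Over U} (w : A ⟶ B) :
    𝒳.p.IsHomLift w.left (G.map w) :=
  @BasedFunctor.preserves_isHomLift _ _ (FibCat.overCat U) 𝒳 G _ _ _ _ w.left w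
    (IsHomLift.map (Over.forget U) w)

lemma app_isHomLift {G H : FibCat.overCat U ⥤ᵇ 𝒳} (α : G ⟶ H) (A : Over U) :
    𝒳.p.IsHomLift (𝟙 A.left) (α.toNatTrans.app A) := α.isHomLift' A

/-- 2-morphisms are determined by their value at the identity. -/
lemma natTrans_ext_of_app_id {G H : FibCat.overCat U ⥤ᵇ 𝒳} (hH : FibCat.PreservesStronglyCartesian H)
    (α β : G ⟶ H)
    (h : α.toNatTrans.app (Over.mk (𝟙 U)) = β.toNatTrans.app (Over.mk (𝟙 U))) : α = β := by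
  apply BasedNatTrans.ext
  ext A
  have h1 := map_toId_isStronglyCartesian H hH A
  have h2 := app_isHomLift α A
  have h3 := app_isHomLift β A
  apply IsStronglyCartesian.ext 𝒳.p A.hom (H.map (toId A)) (𝟙 A.left)
  have e1 := α.toNatTrans.naturality (toId A)
  have e2 := β.toNatTrans.naturality (toId A)
  rw [← e1, ← e2, h]

section Full

lemma comp_xi_isHomLift (G H : FibCat.overCat U ⥤ᵇ 𝒳)
    (ξ : G.obj (Over.mk (𝟙 U)) ⟶ H.obj (Over.mk (𝟙 U))) [hξ : 𝒳.p.IsHomLift (𝟙 U) ξ] (A : Over U) :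
    𝒳.p.IsHomLift (𝟙 A.left ≫ A.hom) (G.map (toId A) ≫ ξ) := by
  have h1 := map_toId_isHomLift G A
  have h2 : 𝒳.p.IsHomLift A.hom (G.map (toId A) ≫ ξ) := inferInstance
  infer_instance

/-- component of the extension of `ξ` -/
noncomputable def extApp (G H : FibCat.overCat U ⥤ᵇ 𝒳) (hH : FibCat.PreservesStronglyCartesian H)
    (ξ : G.obj (Over.mk (𝟙 U)) ⟶ H.obj (Over.mk (𝟙 U))) [hξ : 𝒳.p.IsHomLift (𝟙 U) ξ] (A : Over U) :
    G.obj A ⟶ H.obj A :=
  haveI := map_toId_isStronglyCartesian H hH A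
  haveI := comp_xi_isHomLift G H ξ A
  IsStronglyCartesian.map 𝒳.p A.hom (H.map (toId A)) (f' := 𝟙 A.left ≫ A.hom) rfl
    (G.map (toId A) ≫ ξ)

variable (G H : FibCat.overCat U ⥤ᵇ 𝒳) (hH : FibCat.PreservesStronglyCartesian H)
  (ξ : G.obj (Over.mk (𝟙 U)) ⟶ H.obj (Over.mk (𝟙 U))) [hξ : 𝒳.p.IsHomLift (𝟙 U) ξ]

lemma extApp_isHomLift (A : Over U) : 𝒳.p.IsHomLift (𝟙 A.left) (extApp G H hH ξ A) := by
  have := map_toId_isStronglyCartesian H hH A
  have := comp_xi_isHomLift G H ξ A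
  exact IsStronglyCartesian.map_isHomLift 𝒳.p A.hom (H.map (toId A)) rfl (G.map (toId A) ≫ ξ)

lemma extApp_fac (A : Over U) : extApp G H hH ξ A ≫ H.map (toId A) = G.map (toId A) ≫ ξ := by
  have := map_toId_isStronglyCartesian H hH A
  have := comp_xi_isHomLift G H ξ A
  exact IsStronglyCartesian.fac 𝒳.p A.hom (H.map (toId A)) rfl (G.map (toId A) ≫ ξ)

lemma extApp_naturality {A B : Over U} (w : A ⟶ B) :
    G.map w ≫ extApp G H hH ξ B = extApp G H hH ξ A ≫ H.map w := by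
  have h1 := map_toId_isStronglyCartesian H hH B
  have h2 := extApp_isHomLift G H hH ξ A
  have h3 := extApp_isHomLift G H hH ξ B
  have h4 := map_isHomLift G w
  have h5 := map_isHomLift H w
  have h6 : 𝒳.p.IsHomLift w.left (G.map w ≫ extApp G H hH ξ B) := inferInstance
  have h7 : 𝒳.p.IsHomLift w.left (extApp G H hH ξ A ≫ H.map w) := inferInstance
  apply IsStronglyCartesian.ext 𝒳.p B.hom (H.map (toId B)) w.left
  have e := toId_comp w
  have eG : G.map w ≫ G.map (toId B) = G.map (toId A) :=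
    (G.toFunctor.map_comp w (toId B)).symm.trans (congrArg (fun t => G.map t) e)
  have eH : H.map w ≫ H.map (toId B) = H.map (toId A) :=
    (H.toFunctor.map_comp w (toId B)).symm.trans (congrArg (fun t => H.map t) e)
  rw [Category.assoc, extApp_fac, ← Category.assoc, eG, Category.assoc, eH, extApp_fac]

/-- the extension of `ξ` to a 2-morphism -/
noncomputable def ext : G ⟶ H where
  toNatTrans :=
    { app := fun A => extApp G H hH ξ A
      naturality := fun _ _ w => extApp_naturality G H hH ξ w }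
  isHomLift' := fun A => extApp_isHomLift G H hH ξ A

lemma ext_app_id : (ext G H hH ξ).toNatTrans.app (Over.mk (𝟙 U)) = ξ := by
  change extApp G H hH ξ (Over.mk (𝟙 U)) = ξ
  have h1 := map_toId_isStronglyCartesian H hH (Over.mk (𝟙 U))
  have h2 := comp_xi_isHomLift G H ξ (Over.mk (𝟙 U))
  symm
  have h3 : 𝒳.p.IsHomLift (𝟙 (Over.mk (𝟙 U)).left) ξ := hξ
  apply IsStronglyCartesian.map_uniq 𝒳.p (Over.mk (𝟙 U)).hom (H.map (toId (Over.mk (𝟙 U)))) rfl
  rw [toId_id]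
  change ξ ≫ H.map (𝟙 _) = G.map (𝟙 _) ≫ ξ
  rw [H.toFunctor.map_id, G.toFunctor.map_id, Category.comp_id, Category.id_comp]

end Full

section EssSurj

variable [𝒳.p.IsFibered] (x : 𝒳.obj) (hx : 𝒳.p.obj x = U)

/-- chosen pullback object -/
noncomputable def pbObj (A : Over U) : 𝒳.obj := IsPreFibered.pullbackObj hx A.hom

/-- chosen cartesian arrow -/
noncomputable def pbMap (A : Over U) : pbObj x hx A ⟶ x := IsPreFibered.pullbackMap hx A.hom

instance pbMap_isStronglyCartesian (A : Over U) :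
    𝒳.p.IsStronglyCartesian A.hom (pbMap x hx A) := by
  have : 𝒳.p.IsCartesian A.hom (pbMap x hx A) := IsPreFibered.pullbackMap.IsCartesian hx A.hom
  infer_instance

lemma pbObj_proj (A : Over U) : 𝒳.p.obj (pbObj x hx A) = A.left :=
  IsPreFibered.pullbackObj_proj hx A.hom

instance pbMap_isHomLift' {A B : Over U} (w : A ⟶ B) :
    𝒳.p.IsHomLift (w.left ≫ B.hom) (pbMap x hx A) := by
  rw [Over.w w]; infer_instance

/-- action on morphisms -/
noncomputable def pbHom {A B : Over U} (w : A ⟶ B) : pbObj x hx A ⟶ pbObj x hx B :=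
  IsStronglyCartesian.map 𝒳.p B.hom (pbMap x hx B) (f' := w.left ≫ B.hom) rfl (pbMap x hx A)

instance pbHom_isHomLift {A B : Over U} (w : A ⟶ B) : 𝒳.p.IsHomLift w.left (pbHom x hx w) :=
  IsStronglyCartesian.map_isHomLift 𝒳.p B.hom (pbMap x hx B) rfl (pbMap x hx A)

@[simp] lemma pbHom_fac {A B : Over U} (w : A ⟶ B) : pbHom x hx w ≫ pbMap x hx B = pbMap x hx A :=
  IsStronglyCartesian.fac 𝒳.p B.hom (pbMap x hx B) rfl (pbMap x hx A)

lemma pbHom_uniq {A B : Over U} (w : A ⟶ B) (ψ : pbObj x hx A ⟶ pbObj x hx B)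
    [𝒳.p.IsHomLift w.left ψ] (h : ψ ≫ pbMap x hx B = pbMap x hx A) : ψ = pbHom x hx w :=
  IsStronglyCartesian.map_uniq 𝒳.p B.hom (pbMap x hx B) rfl (pbMap x hx A) ψ h

/-- the functor `C/U ⥤ 𝒳` of chosen pullbacks of `x` -/
noncomputable def pbFunctor : Over U ⥤ 𝒳.obj where
  obj A := pbObj x hx A
  map w := pbHom x hx w
  map_id A := by
    symm
    have : 𝒳.p.IsHomLift (𝟙 A : A ⟶ A).left (𝟙 (pbObj x hx A)) :=
      IsHomLift.id (pbObj_proj x hx A)
    exact pbHom_uniq x hx (𝟙 A) (𝟙 _) (Category.id_comp _)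
  map_comp {A B D} w w' := by
    symm
    have : 𝒳.p.IsHomLift (w ≫ w').left (pbHom x hx w ≫ pbHom x hx w') := by
      change 𝒳.p.IsHomLift (w.left ≫ w'.left) _
      infer_instance
    apply pbHom_uniq x hx (w ≫ w')
    rw [Category.assoc, pbHom_fac, pbHom_fac]

/-- the based functor of chosen pullbacks -/
noncomputable def pbBased : FibCat.overCat U ⥤ᵇ 𝒳 where
  toFunctor := pbFunctor x hx
  w := CategoryTheory.Functor.ext (fun A => pbObj_proj x hx A) (fun _ _ w =>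
    IsHomLift.fac' 𝒳.p w.left (pbHom x hx w))

lemma pbBased_preserves : FibCat.PreservesStronglyCartesian (pbBased x hx) := by
  intro R S f A B φ hφ
  have h1 : 𝒳.p.IsStronglyCartesian (φ.left ≫ B.hom) (pbHom x hx φ ≫ pbMap x hx B) := by
    rw [pbHom_fac, Over.w φ]; infer_instance
  have h2 : 𝒳.p.IsStronglyCartesian φ.left (pbHom x hx φ) :=
    IsStronglyCartesian.of_comp 𝒳.p (f := φ.left) (g := B.hom) (φ := pbHom x hx φ)
      (ψ := pbMap x hx B)
  have h3 : (FibCat.overCat U).p.IsHomLift f φ := hφ.toIsHomLift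
  have h4 : 𝒳.p.IsHomLift f (pbHom x hx φ) :=
    @BasedFunctor.preserves_isHomLift _ _ (FibCat.overCat U) 𝒳 (pbBased x hx) _ _ _ _ f φ h3
  exact isStronglyCartesian_of_isHomLift_of 𝒳.p φ.left f (pbHom x hx φ)

end EssSurj

section Main

variable [𝒳.p.IsFibered]

theorem X6410 (U : C) :
    ((ObjectProperty.ι (FibCat.PreservesStronglyCartesian (𝒳 := FibCat.overCat U) (𝒴 := 𝒳))) ⋙
      FibCat.evalAtId 𝒳 U).IsEquivalence where
  faithful := by
    constructor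
    intro G H α β h
    apply ObjectProperty.hom_ext
    apply natTrans_ext_of_app_id H.property
    exact congrArg (fun t => t.1) h
  full := by
    constructor
    intro G H ξ
    obtain ⟨ξ₀, hξ₀⟩ : ∃ ξ₀ : G.obj.obj (Over.mk (𝟙 U)) ⟶ H.obj.obj (Over.mk (𝟙 U)), ξ₀ = ξ.1 :=
      ⟨ξ.1, rfl⟩
    have hξ : 𝒳.p.IsHomLift (𝟙 U) ξ₀ := by rw [hξ₀]; exact ξ.2
    refine ⟨ObjectProperty.homMk (ext G.obj H.obj H.property ξ₀), ?_⟩
    apply Fiber.hom_ext
    exact (ext_app_id G.obj H.obj H.property ξ₀).trans hξ₀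
  essSurj := by
    constructor
    intro x
    let G : ObjectProperty.FullSubcategory
        (FibCat.PreservesStronglyCartesian (𝒳 := FibCat.overCat U) (𝒴 := 𝒳)) :=
      ⟨pbBased x.1 x.2, pbBased_preserves x.1 x.2⟩
    refine ⟨G, ?_⟩
    obtain ⟨φ, hφ⟩ : ∃ φ : pbObj x.1 x.2 (Over.mk (𝟙 U)) ⟶ x.1, φ = pbMap x.1 x.2 (Over.mk (𝟙 U)) :=
      ⟨_, rfl⟩
    have h1 : 𝒳.p.IsStronglyCartesian (𝟙 U) φ := by
      rw [hφ]; exact pbMap_isStronglyCartesian x.1 x.2 (Over.mk (𝟙 U))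
    have h2 : IsIso φ := IsStronglyCartesian.isIso_of_base_isIso 𝒳.p (𝟙 U) φ
    obtain ⟨ψ, hψ0, hψ1, hψ2⟩ : ∃ ψ : x.1 ⟶ pbObj x.1 x.2 (Over.mk (𝟙 U)),
        𝒳.p.IsHomLift (𝟙 U) ψ ∧ φ ≫ ψ = 𝟙 _ ∧ ψ ≫ φ = 𝟙 _ :=
      ⟨CategoryTheory.inv φ, inferInstance, IsIso.hom_inv_id φ, IsIso.inv_hom_id φ⟩
    let m : ((ObjectProperty.ι _) ⋙ FibCat.evalAtId 𝒳 U).obj G ⟶ x := ⟨φ, h1.toIsHomLift⟩
    let m' : x ⟶ ((ObjectProperty.ι _) ⋙ FibCat.evalAtId 𝒳 U).obj G := ⟨ψ, hψ0⟩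
    exact ⟨⟨m, m', Fiber.hom_ext hψ1, Fiber.hom_ext hψ2⟩⟩

end Main

theorem X6409 (h𝒳 : FibCat.IsFibGrpd 𝒳.p) (U : C) : (FibCat.evalAtId 𝒳 U).IsEquivalence := by
  have hfib : 𝒳.p.IsFibered := isFibered_of_isFibGrpd 𝒳.p h𝒳
  have hall : ∀ G : FibCat.overCat U ⥤ᵇ 𝒳, FibCat.PreservesStronglyCartesian G := by
    intro G R S f A B φ hφ
    have : 𝒳.p.IsHomLift f (G.map φ) := inferInstance
    exact isStronglyCartesian_of_isHomLift 𝒳.p h𝒳 f _
  have h1 := X6410 (𝒳 := 𝒳) U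
  have h2 : (ObjectProperty.ι
      (FibCat.PreservesStronglyCartesian (𝒳 := FibCat.overCat U) (𝒴 := 𝒳))).IsEquivalence :=
    { faithful := inferInstance
      full := inferInstance
      essSurj := ⟨fun G => ⟨⟨G, hall G⟩, ⟨Iso.refl _⟩⟩⟩ }
  exact Functor.isEquivalence_of_comp_left (ObjectProperty.ι
    (FibCat.PreservesStronglyCartesian (𝒳 := FibCat.overCat U) (𝒴 := 𝒳))) (FibCat.evalAtId 𝒳 U)

end Groth.Agent.H3.FibCatYoneda
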