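import Mathlib
import Groth.Prelude.Def_AlgSt
import Groth.Agent.Lib.Helper3.FibCatAux
import Groth.Agent.Lib.Helper3.FibCatYoneda

set_option autoImplicit false

universe v₄ u₄ v₃ u₃ v₂ u₂ v u

open CategoryTheory CategoryTheory.Functor CategoryTheory.Limits

namespace Groth.Agent.H3.StackDescent

open Groth.Agent.H3.FibCatAux Groth.Agent.H3.FibCatYoneda

variable {C : Type u} [Category.{v} C] {𝒳 : BasedCategory.{v₂, u₂} C} {U : C} {R : Sieve U}

/-- A cocone over a descent datum `D` on the sieve `R`: an object over `U` with compatible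
morphisms from the `D a` lying over the arrows of `R`. -/
structure Cocone (D : Stk.sieveCat R ⥤ᵇ 𝒳) where
  pt : 𝒳.obj
  pt_proj : 𝒳.p.obj pt = U
  ι : ∀ a : R.arrows.category, D.obj a ⟶ pt
  ι_lift : ∀ a : R.arrows.category, 𝒳.p.IsHomLift a.obj.hom (ι a)
  w : ∀ ⦃a b : R.arrows.category⦄ (f : a ⟶ b), D.map f ≫ ι b = ι a

/-- objects of the sieve category -/
abbrev mkObj (R : Sieve U) {V : C} (f : V ⟶ U) (hf : R f) : R.arrows.category := ⟨Over.mk f, hf⟩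

lemma sieve_map_isHomLift (D : Stk.sieveCat R ⥤ᵇ 𝒳) {a b : R.arrows.category} (w : a ⟶ b) :
    𝒳.p.IsHomLift w.hom.left (D.map w) :=
  @BasedFunctor.preserves_isHomLift _ _ (Stk.sieveCat R) 𝒳 D _ _ _ _ w.hom.left w
    (IsHomLift.map R.arrows.diagram w)

lemma sieve_obj_proj (D : Stk.sieveCat R ⥤ᵇ 𝒳) (a : R.arrows.category) :
    𝒳.p.obj (D.obj a) = a.obj.left := D.w_obj a

/-- The cocone given by a functor on the whole slice. -/
def coconeOf (G : FibCat.overCat U ⥤ᵇ 𝒳) :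
    Cocone (R := R) ((Stk.resSieve R 𝒳).obj G) where
  pt := G.obj (Over.mk (𝟙 U))
  pt_proj := G.w_obj (Over.mk (𝟙 U))
  ι a := G.map (toId a.obj)
  ι_lift a := map_toId_isHomLift G a.obj
  w a b f := by
    exact (G.toFunctor.map_comp f.hom (toId b.obj)).symm.trans
      (congrArg (fun t => G.map t) (toId_comp f.hom))

/-- transport a cocone along a morphism of descent data -/
def Cocone.precomp {D D' : Stk.sieveCat R ⥤ᵇ 𝒳} (s : Cocone D) (i : D' ⟶ D) : Cocone D' where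
  pt := s.pt
  pt_proj := s.pt_proj
  ι a := i.toNatTrans.app a ≫ s.ι a
  ι_lift a := by
    have h1 := s.ι_lift a
    have h2 : 𝒳.p.IsHomLift (𝟙 a.obj.left) (i.toNatTrans.app a) := i.isHomLift' a
    infer_instance
  w a b f := by
    have := i.toNatTrans.naturality f
    rw [← Category.assoc]
    erw [this]
    rw [Category.assoc, s.w f]

section Compare

variable (h𝒳 : FibCat.IsFibGrpd 𝒳.p) {D : Stk.sieveCat R ⥤ᵇ 𝒳} (s : Cocone D)
  (G : FibCat.overCat U ⥤ᵇ 𝒳) (e : G.obj (Over.mk (𝟙 U)) ⟶ s.pt) [he : 𝒳.p.IsHomLift (𝟙 U) e]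

/-- the leg `G A ⟶ s.pt` -/
def legOf (A : Over U) : G.obj A ⟶ s.pt := G.map (toId A) ≫ e

include he in
lemma legOf_isHomLift (A : Over U) : 𝒳.p.IsHomLift A.hom (legOf s G e A) := by
  have h1 := map_toId_isHomLift G A
  unfold legOf
  infer_instance

include he h𝒳 in
lemma legOf_isStronglyCartesian (A : Over U) : 𝒳.p.IsStronglyCartesian A.hom (legOf s G e A) := by
  have := legOf_isHomLift s G e A
  exact isStronglyCartesian_of_isHomLift 𝒳.p h𝒳 A.hom _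

omit he in
lemma legOf_map {A B : Over U} (w : A ⟶ B) : G.map w ≫ legOf s G e B = legOf s G e A := by
  unfold legOf
  rw [← Category.assoc]
  congr 1
  exact (G.toFunctor.map_comp w (toId B)).symm.trans (congrArg (fun t => G.map t) (toId_comp w))

lemma ι_isHomLift' (a : R.arrows.category) : 𝒳.p.IsHomLift (𝟙 a.obj.left ≫ a.obj.hom) (s.ι a) := by
  rw [Category.id_comp]; exact s.ι_lift a

/-- component of the comparison `D ⟶ G|_R` -/
noncomputable def compApp (a : R.arrows.category) : D.obj a ⟶ G.obj a.obj :=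
  haveI := legOf_isStronglyCartesian h𝒳 s G e a.obj
  haveI := ι_isHomLift' s a
  IsStronglyCartesian.map 𝒳.p a.obj.hom (legOf s G e a.obj) (f' := 𝟙 a.obj.left ≫ a.obj.hom) rfl
    (s.ι a)

lemma compApp_isHomLift (a : R.arrows.category) :
    𝒳.p.IsHomLift (𝟙 a.obj.left) (compApp h𝒳 s G e a) := by
  have := legOf_isStronglyCartesian h𝒳 s G e a.obj
  have := ι_isHomLift' s a
  exact IsStronglyCartesian.map_isHomLift 𝒳.p a.obj.hom (legOf s G e a.obj) rfl (s.ι a)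

lemma compApp_fac (a : R.arrows.category) :
    compApp h𝒳 s G e a ≫ legOf s G e a.obj = s.ι a := by
  have := legOf_isStronglyCartesian h𝒳 s G e a.obj
  have := ι_isHomLift' s a
  exact IsStronglyCartesian.fac 𝒳.p a.obj.hom (legOf s G e a.obj) rfl (s.ι a)

lemma compApp_naturality {a b : R.arrows.category} (w : a ⟶ b) :
    D.map w ≫ compApp h𝒳 s G e b = compApp h𝒳 s G e a ≫ G.map w.hom := by
  have h1 := legOf_isStronglyCartesian h𝒳 s G e b.obj
  have h2 := compApp_isHomLift h𝒳 s G e a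
  have h3 := compApp_isHomLift h𝒳 s G e b
  have h4 := sieve_map_isHomLift D w
  have h5 := map_isHomLift G w.hom
  have h6 : 𝒳.p.IsHomLift w.hom.left (D.map w ≫ compApp h𝒳 s G e b) := inferInstance
  have h7 : 𝒳.p.IsHomLift w.hom.left (compApp h𝒳 s G e a ≫ G.map w.hom) := inferInstance
  apply IsStronglyCartesian.ext 𝒳.p b.obj.hom (legOf s G e b.obj) w.hom.left
  rw [Category.assoc, compApp_fac, s.w, Category.assoc, legOf_map, compApp_fac]

lemma compApp_isIso (a : R.arrows.category) : IsIso (compApp h𝒳 s G e a) := by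
  have := compApp_isHomLift h𝒳 s G e a
  exact isIso_of_isHomLift_id 𝒳.p h𝒳 (U := a.obj.left) _

/-- the comparison isomorphism `D ≅ G|_R` attached to a cocone with vertex `G(id)` -/
noncomputable def compIso : D ≅ (Stk.resSieve R 𝒳).obj G :=
  BasedNatIso.mkNatIso
    (NatIso.ofComponents
      (fun a => @asIso _ _ _ _ (compApp h𝒳 s G e a) (compApp_isIso h𝒳 s G e a))
      (fun w => compApp_naturality h𝒳 s G e w))
    (fun a => compApp_isHomLift h𝒳 s G e a)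

lemma compIso_hom_app (a : R.arrows.category) :
    (compIso h𝒳 s G e).hom.toNatTrans.app a = compApp h𝒳 s G e a := rfl

end Compare

section Leg

variable {x : 𝒳.obj} (G : FibCat.overCat U ⥤ᵇ 𝒳) (e : G.obj (Over.mk (𝟙 U)) ⟶ x)

/-- the leg `G A ⟶ x` -/
def legOf' (A : Over U) : G.obj A ⟶ x := G.map (toId A) ≫ e

lemma legOf'_isHomLift [he : 𝒳.p.IsHomLift (𝟙 U) e] (A : Over U) :
    𝒳.p.IsHomLift A.hom (legOf' G e A) := by
  have h1 := map_toId_isHomLift G A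
  unfold legOf'
  infer_instance

lemma legOf'_map {A B : Over U} (w : A ⟶ B) : G.map w ≫ legOf' G e B = legOf' G e A := by
  unfold legOf'
  rw [← Category.assoc]
  congr 1
  exact (G.toFunctor.map_comp w (toId B)).symm.trans (congrArg (fun t => G.map t) (toId_comp w))

end Leg

/-- the cocone with vertex `x` attached to `G` and a morphism `G(id) ⟶ x` over the identity -/
def coconeOfLeg {x : 𝒳.obj} (hx : 𝒳.p.obj x = U) (G : FibCat.overCat U ⥤ᵇ 𝒳)
    (e : G.obj (Over.mk (𝟙 U)) ⟶ x) [he : 𝒳.p.IsHomLift (𝟙 U) e] :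
    Cocone (R := R) ((Stk.resSieve R 𝒳).obj G) where
  pt := x
  pt_proj := hx
  ι a := legOf' G e a.obj
  ι_lift a := legOf'_isHomLift G e a.obj
  w _ _ f := legOf'_map G e f.hom

/-- constructor for descent data -/
def mkDatum (obj : R.arrows.category → 𝒳.obj) (hobj : ∀ a, 𝒳.p.obj (obj a) = a.obj.left)
    (map : ∀ ⦃a b : R.arrows.category⦄, (a ⟶ b) → (obj a ⟶ obj b))
    (hmap : ∀ ⦃a b : R.arrows.category⦄ (w : a ⟶ b), 𝒳.p.IsHomLift w.hom.left (map w))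
    (map_id : ∀ a, map (𝟙 a) = 𝟙 (obj a))
    (map_comp : ∀ ⦃a b c : R.arrows.category⦄ (w : a ⟶ b) (w' : b ⟶ c),
      map (w ≫ w') = map w ≫ map w') : Stk.sieveCat R ⥤ᵇ 𝒳 where
  toFunctor :=
    { obj := obj
      map := fun w => map w
      map_id := map_id
      map_comp := fun w w' => map_comp w w' }
  w := CategoryTheory.Functor.ext hobj (fun a b w => by
    have := hmap w
    exact IsHomLift.fac' 𝒳.p w.hom.left (map w))

section Main

lemma exists_pb_leg [𝒳.p.IsFibered] (x : 𝒳.obj) (hx : 𝒳.p.obj x = U) :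
    ∃ (G : FibCat.overCat U ⥤ᵇ 𝒳) (e : G.obj (Over.mk (𝟙 U)) ⟶ x), 𝒳.p.IsHomLift (𝟙 U) e :=
  ⟨pbBased x hx, pbMap x hx (Over.mk (𝟙 U)),
    (pbMap_isStronglyCartesian x hx (Over.mk (𝟙 U))).toIsHomLift⟩

variable (h𝒳 : FibCat.IsFibGrpd 𝒳.p)

include h𝒳 in
/-- Objects glue along `R` iff every descent datum has a cocone. -/
theorem essSurj_iff :
    (Stk.resSieve R 𝒳).EssSurj ↔ ∀ D : Stk.sieveCat R ⥤ᵇ 𝒳, Nonempty (Cocone D) := by
  have hfib : 𝒳.p.IsFibered := isFibered_of_isFibGrpd 𝒳.p h𝒳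
  constructor
  · intro h D
    obtain ⟨G, ⟨i⟩⟩ := h.mem_essImage D
    exact ⟨(coconeOf G).precomp i.inv⟩
  · intro h
    constructor
    intro D
    obtain ⟨s⟩ := h D
    obtain ⟨G, e, he⟩ := exists_pb_leg s.pt s.pt_proj
    exact ⟨G, ⟨(compIso h𝒳 s G e).symm⟩⟩

include h𝒳 in
/-- Existence part of gluing of morphisms along `R`, in cocone form. -/
theorem full_iff :
    (Stk.resSieve R 𝒳).Full ↔ ∀ (D : Stk.sieveCat R ⥤ᵇ 𝒳) (s t : Cocone D),
      ∃ φ : s.pt ⟶ t.pt, 𝒳.p.IsHomLift (𝟙 U) φ ∧ ∀ a, s.ι a ≫ φ = t.ι a := by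
  have hfib : 𝒳.p.IsFibered := isFibered_of_isFibGrpd 𝒳.p h𝒳
  constructor
  · intro h D s t
    obtain ⟨G, es, hes⟩ := exists_pb_leg s.pt s.pt_proj
    obtain ⟨H, et, het⟩ := exists_pb_leg t.pt t.pt_proj
    have hies : IsIso es := isIso_of_isHomLift_id 𝒳.p h𝒳 (U := U) es
    obtain ⟨α, hα⟩ := h.map_surjective ((compIso h𝒳 s G es).inv ≫ (compIso h𝒳 t H et).hom)
    have hαid : 𝒳.p.IsHomLift (𝟙 U) (α.toNatTrans.app (Over.mk (𝟙 U))) :=
      app_isHomLift α (Over.mk (𝟙 U))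
    refine ⟨inv es ≫ α.toNatTrans.app (Over.mk (𝟙 U)) ≫ et, inferInstance, ?_⟩
    intro a
    have e1 := compApp_fac h𝒳 s G es a
    have e2 := compApp_fac h𝒳 t H et a
    have h5 : (compIso h𝒳 s G es).hom ≫ (Stk.resSieve R 𝒳).map α = (compIso h𝒳 t H et).hom := by
      rw [hα, Iso.hom_inv_id_assoc]
    have e3 : compApp h𝒳 s G es a ≫ α.toNatTrans.app a.obj = compApp h𝒳 t H et a :=
      congrArg (fun β => β.toNatTrans.app a) h5
    have e4 := α.toNatTrans.naturality (toId a.obj)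
    unfold legOf at e1 e2
    rw [← e1, ← e2, ← e3]
    simp only [Category.assoc, IsIso.hom_inv_id_assoc]
    congr 1
    rw [← Category.assoc, ← Category.assoc]
    congr 1
  · intro h
    constructor
    intro G H β
    have hH : FibCat.PreservesStronglyCartesian H := by
      intro R' S' f A B φ hφ
      have : 𝒳.p.IsHomLift f (H.map φ) := inferInstance
      exact isStronglyCartesian_of_isHomLift 𝒳.p h𝒳 f _
    let t : Cocone (R := R) ((Stk.resSieve R 𝒳).obj G) := ((coconeOf H).precomp β)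
    obtain ⟨φ, hφ, hφ'⟩ := h _ (coconeOf G) t
    obtain ⟨φ', hφ'eq⟩ : ∃ φ' : G.obj (Over.mk (𝟙 U)) ⟶ H.obj (Over.mk (𝟙 U)), φ' = φ := ⟨φ, rfl⟩
    have hφ'' : 𝒳.p.IsHomLift (𝟙 U) φ' := by rw [hφ'eq]; exact hφ
    refine ⟨ext G H hH φ', ?_⟩
    apply BasedNatTrans.homCategory.ext
    ext a
    obtain ⟨b, hb⟩ : ∃ b : G.obj a.obj ⟶ H.obj a.obj, b = β.toNatTrans.app a := ⟨_, rfl⟩
    change extApp G H hH φ' a.obj = β.toNatTrans.app a
    rw [← hb]
    have h1 := map_toId_isStronglyCartesian H hH a.obj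
    have h2 := extApp_isHomLift G H hH φ' a.obj
    have h3 : 𝒳.p.IsHomLift (𝟙 a.obj.left) b := by rw [hb]; exact β.isHomLift' a
    apply IsStronglyCartesian.ext 𝒳.p a.obj.hom (H.map (toId a.obj)) (𝟙 a.obj.left)
    rw [extApp_fac, hφ'eq, hb]
    exact hφ' a

include h𝒳 in
/-- Uniqueness part of gluing of morphisms along `R`, elementwise. -/
theorem faithful_iff :
    (Stk.resSieve R 𝒳).Faithful ↔ ∀ (x y : 𝒳.obj) (φ ψ : x ⟶ y),
      𝒳.p.IsHomLift (𝟙 U) φ → 𝒳.p.IsHomLift (𝟙 U) ψ →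
      (∀ ⦃V : C⦄ (f : V ⟶ U), R f → ∀ (x' : 𝒳.obj) (c : x' ⟶ x), 𝒳.p.IsHomLift f c →
        c ≫ φ = c ≫ ψ) → φ = ψ := by
  have hfib : 𝒳.p.IsFibered := isFibered_of_isFibGrpd 𝒳.p h𝒳
  have hall : ∀ G : FibCat.overCat U ⥤ᵇ 𝒳, FibCat.PreservesStronglyCartesian G := by
    intro G R' S' f A B φ hφ
    have : 𝒳.p.IsHomLift f (G.map φ) := inferInstance
    exact isStronglyCartesian_of_isHomLift 𝒳.p h𝒳 f _
  constructor
  · intro h x y φ ψ hφ hψ hc
    have hx : 𝒳.p.obj x = U := IsHomLift.domain_eq 𝒳.p (𝟙 U) φ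
    have hy : 𝒳.p.obj y = U := IsHomLift.codomain_eq 𝒳.p (𝟙 U) φ
    obtain ⟨G, ex, hex⟩ := exists_pb_leg x hx
    obtain ⟨H, ey, hey⟩ := exists_pb_leg y hy
    have hiex : IsIso ex := isIso_of_isHomLift_id 𝒳.p h𝒳 (U := U) ex
    have hiey : IsIso ey := isIso_of_isHomLift_id 𝒳.p h𝒳 (U := U) ey
    obtain ⟨ey', h1, h2, h3⟩ : ∃ ey' : y ⟶ H.obj (Over.mk (𝟙 U)),
        𝒳.p.IsHomLift (𝟙 U) ey' ∧ ey ≫ ey' = 𝟙 _ ∧ ey' ≫ ey = 𝟙 _ :=
      ⟨inv ey, inferInstance, IsIso.hom_inv_id ey, IsIso.inv_hom_id ey⟩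
    have hξφ : 𝒳.p.IsHomLift (𝟙 U) (ex ≫ φ ≫ ey') := inferInstance
    have hξψ : 𝒳.p.IsHomLift (𝟙 U) (ex ≫ ψ ≫ ey') := inferInstance
    have key : (Stk.resSieve R 𝒳).map (ext G H (hall H) (ex ≫ φ ≫ ey')) =
        (Stk.resSieve R 𝒳).map (ext G H (hall H) (ex ≫ ψ ≫ ey')) := by
      apply BasedNatTrans.homCategory.ext
      ext a
      change extApp G H (hall H) (ex ≫ φ ≫ ey') a.obj = extApp G H (hall H) (ex ≫ ψ ≫ ey') a.obj
      have i1 := map_toId_isStronglyCartesian H (hall H) a.obj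
      have i2 := extApp_isHomLift G H (hall H) (ex ≫ φ ≫ ey') a.obj
      have i3 := extApp_isHomLift G H (hall H) (ex ≫ ψ ≫ ey') a.obj
      apply IsStronglyCartesian.ext 𝒳.p a.obj.hom (H.map (toId a.obj)) (𝟙 a.obj.left)
      rw [extApp_fac, extApp_fac]
      have i4 := map_toId_isHomLift G a.obj
      have i5 : 𝒳.p.IsHomLift a.obj.hom (G.map (toId a.obj) ≫ ex) := inferInstance
      have := hc a.obj.hom a.property _ (G.map (toId a.obj) ≫ ex) i5
      simp only [Category.assoc] at this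
      rw [reassoc_of% this]
    have key2 := h.map_injective key
    have key3 := congrArg (fun γ => γ.toNatTrans.app (Over.mk (𝟙 U))) key2
    rw [ext_app_id, ext_app_id] at key3
    have key4 : φ ≫ ey' = ψ ≫ ey' := (cancel_epi ex).mp key3
    have key5 := congrArg (fun t => t ≫ ey) key4
    simpa only [Category.assoc, h3, Category.comp_id] using key5
  · intro h
    constructor
    intro G H α β hαβ
    apply natTrans_ext_of_app_id (hall H)
    have i1 := app_isHomLift α (Over.mk (𝟙 U))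
    have i2 := app_isHomLift β (Over.mk (𝟙 U))
    apply h _ _ _ _ i1 i2
    intro V f hf x' c hc
    have i3 := map_toId_isStronglyCartesian G (hall G) (Over.mk f)
    have i4 : 𝒳.p.IsHomLift (𝟙 V ≫ (Over.mk f).hom) c := by
      rw [Category.id_comp]; exact hc
    have e1 := IsStronglyCartesian.fac 𝒳.p (Over.mk f).hom (G.map (toId (Over.mk f)))
      (f' := 𝟙 V ≫ (Over.mk f).hom) rfl c
    have e2 : α.toNatTrans.app (Over.mk f) = β.toNatTrans.app (Over.mk f) :=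
      congrArg (fun γ => γ.toNatTrans.app (mkObj R f hf)) hαβ
    have e3 := α.toNatTrans.naturality (toId (Over.mk f))
    have e4 := β.toNatTrans.naturality (toId (Over.mk f))
    rw [← e1, Category.assoc, Category.assoc]
    congr 1
    exact e3.trans ((congrArg (fun t => t ≫ H.map (toId (Over.mk f))) e2).trans e4.symm)

include h𝒳 in
/-- Uniqueness of morphisms lying over an arbitrary `u`, given faithfulness of restriction. -/
theorem hom_ext_of_faithful (h : (Stk.resSieve R 𝒳).Faithful) {U' : C} (u : U ⟶ U')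
    {x y : 𝒳.obj} (φ ψ : x ⟶ y) [hφ : 𝒳.p.IsHomLift u φ] [hψ : 𝒳.p.IsHomLift u ψ]
    (hc : ∀ ⦃V : C⦄ (f : V ⟶ U), R f → ∀ (x' : 𝒳.obj) (c : x' ⟶ x), 𝒳.p.IsHomLift f c →
      c ≫ φ = c ≫ ψ) : φ = ψ := by
  have hy : 𝒳.p.obj y = U' := IsHomLift.codomain_eq 𝒳.p u φ
  subst hy
  obtain ⟨yu, κ, hκ⟩ := h𝒳.exists_lift (x := y) u
  have hκ' := isStronglyCartesian_of_isHomLift 𝒳.p h𝒳 u κ
  have i1 : 𝒳.p.IsHomLift (𝟙 U ≫ u) φ := by rw [Category.id_comp]; exact hφ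
  have i2 : 𝒳.p.IsHomLift (𝟙 U ≫ u) ψ := by rw [Category.id_comp]; exact hψ
  have e1 := IsStronglyCartesian.fac 𝒳.p u κ (f' := 𝟙 U ≫ u) rfl φ
  have e2 := IsStronglyCartesian.fac 𝒳.p u κ (f' := 𝟙 U ≫ u) rfl ψ
  have l1 := IsStronglyCartesian.map_isHomLift 𝒳.p u κ (f' := 𝟙 U ≫ u) rfl φ
  have l2 := IsStronglyCartesian.map_isHomLift 𝒳.p u κ (f' := 𝟙 U ≫ u) rfl ψ
  rw [← e1, ← e2]
  congr 1
  apply (faithful_iff h𝒳).mp h _ _ _ _ l1 l2
  intro V f hf x' c hcl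
  have := hc f hf x' c hcl
  rw [← e1, ← e2, ← Category.assoc, ← Category.assoc] at this
  have j1 : 𝒳.p.IsHomLift f (c ≫ IsStronglyCartesian.map 𝒳.p u κ (f' := 𝟙 U ≫ u) rfl φ) :=
    inferInstance
  have j2 : 𝒳.p.IsHomLift f (c ≫ IsStronglyCartesian.map 𝒳.p u κ (f' := 𝟙 U ≫ u) rfl ψ) :=
    inferInstance
  exact IsStronglyCartesian.ext 𝒳.p u κ f this

include h𝒳 in
/-- every lift of an arrow of `R` to the vertex of a cocone factors through the cocone -/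
lemma Cocone.exists_fac {D : Stk.sieveCat R ⥤ᵇ 𝒳} (s : Cocone D) {V : C} (f : V ⟶ U) (hf : R f)
    {x' : 𝒳.obj} (c : x' ⟶ s.pt) [hc : 𝒳.p.IsHomLift f c] :
    ∃ c' : x' ⟶ D.obj (mkObj R f hf), 𝒳.p.IsHomLift (𝟙 V) c' ∧ c' ≫ s.ι (mkObj R f hf) = c := by
  have i1 : 𝒳.p.IsHomLift f (s.ι (mkObj R f hf)) := s.ι_lift (mkObj R f hf)
  have i2 := isStronglyCartesian_of_isHomLift 𝒳.p h𝒳 f (s.ι (mkObj R f hf))
  have i3 : 𝒳.p.IsHomLift (𝟙 V ≫ f) c := by rw [Category.id_comp]; exact hc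
  exact ⟨IsStronglyCartesian.map 𝒳.p f (s.ι (mkObj R f hf)) (f' := 𝟙 V ≫ f) rfl c,
    IsStronglyCartesian.map_isHomLift 𝒳.p f (s.ι (mkObj R f hf)) rfl c,
    IsStronglyCartesian.fac 𝒳.p f (s.ι (mkObj R f hf)) rfl c⟩

include h𝒳 in
/-- morphisms out of the vertex of a cocone are determined on the cocone -/
theorem Cocone.hom_ext (h : (Stk.resSieve R 𝒳).Faithful) {D : Stk.sieveCat R ⥤ᵇ 𝒳} (s : Cocone D)
    {U' : C} (u : U ⟶ U') {y : 𝒳.obj} (φ ψ : s.pt ⟶ y) [hφ : 𝒳.p.IsHomLift u φ]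
    [hψ : 𝒳.p.IsHomLift u ψ] (hc : ∀ a, s.ι a ≫ φ = s.ι a ≫ ψ) : φ = ψ := by
  apply hom_ext_of_faithful h𝒳 h u
  intro V f hf x' c hcl
  obtain ⟨c', -, hc'⟩ := s.exists_fac h𝒳 f hf c
  rw [← hc', Category.assoc, Category.assoc, hc]

include h𝒳 in
theorem isPrestackFor_iff :
    Stk.IsPrestackFor R 𝒳 ↔ ∀ (D : Stk.sieveCat R ⥤ᵇ 𝒳) (s t : Cocone D),
      ∃! φ : s.pt ⟶ t.pt, 𝒳.p.IsHomLift (𝟙 U) φ ∧ ∀ a, s.ι a ≫ φ = t.ι a := by
  constructor
  · rintro ⟨h1, h2⟩ D s t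
    obtain ⟨φ, hφ, hφ'⟩ := (full_iff h𝒳).mp h1 D s t
    refine ⟨φ, ⟨hφ, hφ'⟩, ?_⟩
    rintro ψ ⟨hψ, hψ'⟩
    apply Cocone.hom_ext h𝒳 h2 s (𝟙 U)
    intro a
    rw [hφ', hψ']
  · intro h
    refine ⟨(full_iff h𝒳).mpr ?_, (faithful_iff h𝒳).mpr ?_⟩
    · intro D s t
      obtain ⟨φ, ⟨hφ, hφ'⟩, -⟩ := h D s t
      exact ⟨φ, hφ, hφ'⟩
    · intro x y φ ψ hφ hψ hc
      have hfib : 𝒳.p.IsFibered := isFibered_of_isFibGrpd 𝒳.p h𝒳
      have hx : 𝒳.p.obj x = U := IsHomLift.domain_eq 𝒳.p (𝟙 U) φ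
      have hy : 𝒳.p.obj y = U := IsHomLift.codomain_eq 𝒳.p (𝟙 U) φ
      obtain ⟨G, ex, hex⟩ := exists_pb_leg x hx
      let s : Cocone (R := R) ((Stk.resSieve R 𝒳).obj G) :=
        { pt := x
          pt_proj := hx
          ι := fun a => legOf' G ex a.obj
          ι_lift := fun a => legOf'_isHomLift G ex a.obj
          w := fun a b f => legOf'_map G ex f.hom }
      let t : Cocone (R := R) ((Stk.resSieve R 𝒳).obj G) :=
        { pt := y
          pt_proj := hy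
          ι := fun a => legOf' G ex a.obj ≫ φ
          ι_lift := fun a => by
            have i1 := legOf'_isHomLift G ex a.obj
            exact IsHomLift.comp_lift_id_right' 𝒳.p a.obj.hom (legOf' G ex a.obj) U φ
          w := fun a b f => by
            rw [← Category.assoc]
            congr 1
            exact legOf'_map G ex f.hom }
      obtain ⟨χ, -, hχ⟩ := h _ s t
      have e1 : φ = χ := hχ φ ⟨hφ, fun a => rfl⟩
      have e2 : ψ = χ := hχ ψ ⟨hψ, fun a => by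
        have := legOf'_isHomLift G ex a.obj
        exact (hc a.obj.hom a.property _ (legOf' G ex a.obj) this).symm⟩
      rw [e1, e2]

include h𝒳 in
theorem isStackFor_iff :
    Stk.IsStackFor R 𝒳 ↔ (∀ D : Stk.sieveCat R ⥤ᵇ 𝒳, Nonempty (Cocone D)) ∧
      ∀ (D : Stk.sieveCat R ⥤ᵇ 𝒳) (s t : Cocone D),
      ∃! φ : s.pt ⟶ t.pt, 𝒳.p.IsHomLift (𝟙 U) φ ∧ ∀ a, s.ι a ≫ φ = t.ι a := by
  rw [← isPrestackFor_iff h𝒳, ← essSurj_iff h𝒳]
  constructor
  · intro h
    have : (Stk.resSieve R 𝒳).IsEquivalence := h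
    exact ⟨inferInstance, inferInstance, inferInstance⟩
  · rintro ⟨h1, h2, h3⟩
    exact { faithful := h3, full := h2, essSurj := h1 }

lemma isPrestackFor_of_isStackFor (h : Stk.IsStackFor R 𝒳) : Stk.IsPrestackFor R 𝒳 := by
  have : (Stk.resSieve R 𝒳).IsEquivalence := h
  exact ⟨inferInstance, inferInstance⟩

end Main


end Groth.Agent.H3.StackDescent
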