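import Mathlib
import Groth.Prelude.Def_AlgSt
import Groth.Agent.Lib.Helper3.StackDescent

set_option autoImplicit false

universe w v₄ u₄ v₃ u₃ v₂ u₂ v u

open CategoryTheory CategoryTheory.Functor CategoryTheory.Limits Opposite

namespace Groth.Agent.H3.StackMore

open Groth.Agent.H3.FibCatAux Groth.Agent.H3.FibCatYoneda Groth.Agent.H3.StackDescent

variable {C : Type u} [Category.{v} C]

section Map

variable {𝒳 : BasedCategory.{v₂, u₂} C} {𝒴 : BasedCategory.{v₃, u₃} C} {U : C} {R : Sieve U}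

/-- image of a cocone under a functor over `C` -/
def mapCocone (F : 𝒳 ⥤ᵇ 𝒴) {D : Stk.sieveCat R ⥤ᵇ 𝒳} (s : Cocone D) :
    Cocone (BasedFunctor.comp D F) where
  pt := F.obj s.pt
  pt_proj := (F.w_obj s.pt).trans s.pt_proj
  ι a := F.map (s.ι a)
  ι_lift a := by
    have := s.ι_lift a
    exact BasedFunctor.preserves_isHomLift F a.obj.hom (s.ι a)
  w a b f := by
    change F.map (D.map f) ≫ F.map (s.ι b) = F.map (s.ι a)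
    rw [← F.toFunctor.map_comp, s.w]

end Map

section S12794

variable (J : GrothendieckTopology C) {𝒳 : BasedCategory.{v₂, u₂} C} {𝒴 : BasedCategory.{v₃, u₃} C}

/-- local essential surjectivity -/
def LocEssSurj (F : 𝒳 ⥤ᵇ 𝒴) : Prop :=
  ∀ y : 𝒴.obj, ∃ R ∈ J (𝒴.p.obj y), ∀ ⦃V : C⦄ (f : V ⟶ 𝒴.p.obj y), R f →
    ∃ (x : 𝒳.obj) (φ : F.obj x ⟶ y), 𝒴.p.IsHomLift f φ

lemma locEssSurj_of_isEquivOver (h𝒴 : FibCat.IsFibGrpd 𝒴.p) (F : 𝒳 ⥤ᵇ 𝒴)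
    (hF : FibCat.IsEquivOver F) : LocEssSurj J F := by
  rw [X5139] at hF
  obtain ⟨-, hpre⟩ := hF
  intro y
  refine ⟨⊤, J.top_mem _, ?_⟩
  intro V f _
  obtain ⟨y', κ, hκ⟩ := h𝒴.exists_lift (x := y) f
  obtain ⟨x, e, he⟩ := hpre y'
  have hy' : 𝒴.p.obj y' = V := IsHomLift.domain_eq 𝒴.p f κ
  subst hy'
  exact ⟨x, e.hom ≫ κ, inferInstance⟩

section Glue

variable (h𝒴 : FibCat.IsFibGrpd 𝒴.p) (F : 𝒳 ⥤ᵇ 𝒴) [F.toFunctor.Full] [F.toFunctor.Faithful]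
  {U : C} {R : Sieve U} (y : 𝒴.obj) (x : R.arrows.category → 𝒳.obj)
  (φ : ∀ a, F.obj (x a) ⟶ y) (hφ : ∀ a : R.arrows.category, 𝒴.p.IsHomLift a.obj.hom (φ a))

omit [F.toFunctor.Full] [F.toFunctor.Faithful] in
include hφ in
lemma phi_lift' {a b : R.arrows.category} (w : a ⟶ b) :
    𝒴.p.IsHomLift (w.hom.left ≫ b.obj.hom) (φ a) := by
  rw [Over.w w.hom]; exact hφ a

omit [F.toFunctor.Full] [F.toFunctor.Faithful] in
include hφ h𝒴 in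
lemma phi_cart (b : R.arrows.category) : 𝒴.p.IsStronglyCartesian b.obj.hom (φ b) := by
  have := hφ b
  exact isStronglyCartesian_of_isHomLift 𝒴.p h𝒴 b.obj.hom (φ b)

/-- transition maps between the local preimages, in `𝒴` -/
noncomputable def psi {a b : R.arrows.category} (w : a ⟶ b) : F.obj (x a) ⟶ F.obj (x b) :=
  haveI := phi_cart h𝒴 F y x φ hφ b
  haveI := phi_lift' F y x φ hφ w
  IsStronglyCartesian.map 𝒴.p b.obj.hom (φ b) (f' := w.hom.left ≫ b.obj.hom) rfl (φ a)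

lemma psi_isHomLift {a b : R.arrows.category} (w : a ⟶ b) :
    𝒴.p.IsHomLift w.hom.left (psi h𝒴 F y x φ hφ w) := by
  have := phi_cart h𝒴 F y x φ hφ b
  have := phi_lift' F y x φ hφ w
  exact IsStronglyCartesian.map_isHomLift 𝒴.p b.obj.hom (φ b) rfl (φ a)

lemma psi_fac {a b : R.arrows.category} (w : a ⟶ b) :
    psi h𝒴 F y x φ hφ w ≫ φ b = φ a := by
  have := phi_cart h𝒴 F y x φ hφ b
  have := phi_lift' F y x φ hφ w
  exact IsStronglyCartesian.fac 𝒴.p b.obj.hom (φ b) rfl (φ a)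

lemma psi_uniq {a b : R.arrows.category} (w : a ⟶ b) (χ : F.obj (x a) ⟶ F.obj (x b))
    [hχ : 𝒴.p.IsHomLift w.hom.left χ] (h : χ ≫ φ b = φ a) : χ = psi h𝒴 F y x φ hφ w := by
  have := phi_cart h𝒴 F y x φ hφ b
  have := phi_lift' F y x φ hφ w
  exact IsStronglyCartesian.map_uniq 𝒴.p b.obj.hom (φ b) rfl (φ a) χ h

/-- the descent datum of local preimages -/
noncomputable def preDatum : Stk.sieveCat R ⥤ᵇ 𝒳 :=
  mkDatum x
    (fun a => by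
      have := hφ a
      rw [← F.w_obj (x a)]
      exact IsHomLift.domain_eq 𝒴.p a.obj.hom (φ a))
    (fun _ _ w => F.toFunctor.preimage (psi h𝒴 F y x φ hφ w))
    (fun a b w => by
      have : 𝒴.p.IsHomLift w.hom.left (F.map (F.toFunctor.preimage (psi h𝒴 F y x φ hφ w))) := by
        have := psi_isHomLift h𝒴 F y x φ hφ w
        erw [F.toFunctor.map_preimage]
        exact this
      exact BasedFunctor.isHomLift_map F w.hom.left _)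
    (fun a => by
      apply F.toFunctor.map_injective
      rw [F.toFunctor.map_preimage, F.toFunctor.map_id]
      symm
      have : 𝒴.p.IsHomLift (𝟙 a : a ⟶ a).hom.left (𝟙 (F.obj (x a))) := by
        have := hφ a
        exact IsHomLift.id (IsHomLift.domain_eq 𝒴.p a.obj.hom (φ a))
      exact psi_uniq h𝒴 F y x φ hφ (𝟙 a) (𝟙 _) (Category.id_comp _))
    (fun a b c w w' => by
      apply F.toFunctor.map_injective
      rw [F.toFunctor.map_preimage, F.toFunctor.map_comp, F.toFunctor.map_preimage,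
        F.toFunctor.map_preimage]
      symm
      have h1 := psi_isHomLift h𝒴 F y x φ hφ w
      have h2 := psi_isHomLift h𝒴 F y x φ hφ w'
      have : 𝒴.p.IsHomLift (w ≫ w').hom.left
          (psi h𝒴 F y x φ hφ w ≫ psi h𝒴 F y x φ hφ w') := by
        change 𝒴.p.IsHomLift (w.hom.left ≫ w'.hom.left) _
        infer_instance
      apply psi_uniq h𝒴 F y x φ hφ (w ≫ w')
      rw [Category.assoc, psi_fac, psi_fac])

/-- the cocone `(y, φ)` on the image datum -/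
noncomputable def targetCocone (hy : 𝒴.p.obj y = U) :
    Cocone (BasedFunctor.comp (preDatum h𝒴 F y x φ hφ) F) where
  pt := y
  pt_proj := hy
  ι a := φ a
  ι_lift a := hφ a
  w a b f := by
    change F.map (F.toFunctor.preimage (psi h𝒴 F y x φ hφ f)) ≫ φ b = φ a
    erw [F.toFunctor.map_preimage]
    exact psi_fac h𝒴 F y x φ hφ f

end Glue

theorem hasPre_of_locEssSurj (h𝒳 : Stk.IsStack J 𝒳) (h𝒴 : Stk.IsPrestack J 𝒴) (F : 𝒳 ⥤ᵇ 𝒴)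
    [F.toFunctor.Full] [F.toFunctor.Faithful] (hF : LocEssSurj J F) (y : 𝒴.obj) :
    ∃ (x : 𝒳.obj) (e : F.obj x ≅ y), 𝒴.p.IsHomLift (𝟙 (𝒴.p.obj y)) e.hom := by
  obtain ⟨R, hR, hR'⟩ := hF y
  choose x φ hφ using hR'
  let D := preDatum h𝒴.1 F y (fun a => x a.obj.hom a.property) (fun a => φ a.obj.hom a.property)
    (fun a => hφ a.obj.hom a.property)
  obtain ⟨s⟩ := ((isStackFor_iff h𝒳.1).mp (h𝒳.2 R hR)).1 D
  obtain ⟨χ, ⟨hχ, -⟩, -⟩ := (isPrestackFor_iff h𝒴.1).mp (h𝒴.2 R hR) _ (mapCocone F s)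
    (targetCocone h𝒴.1 F y (fun a => x a.obj.hom a.property) (fun a => φ a.obj.hom a.property)
    (fun a => hφ a.obj.hom a.property) rfl)
  obtain ⟨χ', hχ'⟩ : ∃ χ' : F.obj s.pt ⟶ y, χ' = χ := ⟨χ, rfl⟩
  have hχ'' : 𝒴.p.IsHomLift (𝟙 (𝒴.p.obj y)) χ' := by rw [hχ']; exact hχ
  have : IsIso χ' := isIso_of_isHomLift_id 𝒴.p h𝒴.1 (U := 𝒴.p.obj y) χ'
  exact ⟨s.pt, asIso χ', hχ''⟩

lemma isPrestack_of_isStack {𝒵 : BasedCategory.{v₂, u₂} C} (h : Stk.IsStack J 𝒵) :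
    Stk.IsPrestack J 𝒵 :=
  ⟨h.1, fun _ R hR => isPrestackFor_of_isStackFor (h.2 R hR)⟩

theorem isEquivOver_iff_locEssSurj (h𝒳 : Stk.IsStack J 𝒳) (h𝒴 : Stk.IsPrestack J 𝒴) (F : 𝒳 ⥤ᵇ 𝒴)
    [F.toFunctor.Full] [F.toFunctor.Faithful] :
    FibCat.IsEquivOver F ↔ LocEssSurj J F := by
  constructor
  · exact locEssSurj_of_isEquivOver J h𝒴.1 F
  · intro hF
    rw [X5139]
    exact ⟨⟨inferInstance, inferInstance⟩, hasPre_of_locEssSurj J h𝒳 h𝒴 F hF⟩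

end S12794

section S12798

variable (J : GrothendieckTopology C) {𝒮₁ : BasedCategory.{v₂, u₂} C} {𝒮₂ : BasedCategory.{v₃, u₃} C}
  {𝒯₁ : BasedCategory.{v₄, u₄} C}

lemma locEssSurj_at {F : 𝒮₂ ⥤ᵇ 𝒮₁} (hF : LocEssSurj J F) (y : 𝒮₁.obj) {U : C}
    (hy : 𝒮₁.p.obj y = U) : ∃ R ∈ J U, ∀ ⦃V : C⦄ (f : V ⟶ U), R f →
      ∃ (x : 𝒮₂.obj) (φ : F.obj x ⟶ y), 𝒮₁.p.IsHomLift f φ := by
  subst hy; exact hF y

/-- a fibre automorphism killed by `G` is trivial, if this holds locally on the 2-fibre product -/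
lemma aut_eq_id_of_fpFst_faithful (h₁ : FibCat.IsFibGrpd 𝒮₁.p) (h₃ : Stk.IsPrestack J 𝒯₁)
    (F : 𝒮₂ ⥤ᵇ 𝒮₁) (G : 𝒯₁ ⥤ᵇ 𝒮₁) (hF : LocEssSurj J F)
    (hG' : (FibCat.fpFst F G).toFunctor.Faithful) {u : 𝒯₁.obj} (τ : u ⟶ u)
    [hτ : 𝒯₁.p.IsHomLift (𝟙 (𝒯₁.p.obj u)) τ] (hGτ : G.map τ = 𝟙 (G.obj u)) : τ = 𝟙 u := by
  obtain ⟨R, hR, hR'⟩ := locEssSurj_at J hF (G.obj u) (G.w_obj u)
  have hfaith := (h₃.2 R hR).2
  have hid : 𝒯₁.p.IsHomLift (𝟙 (𝒯₁.p.obj u)) (𝟙 u) := IsHomLift.id rfl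
  apply (faithful_iff h₃.1).mp hfaith u u τ (𝟙 u) hτ hid
  intro V g hg u'' c hc
  obtain ⟨x, φ, hφ⟩ := hR' g hg
  have hV : 𝒮₂.p.obj x = V := by
    rw [← F.w_obj x]; exact IsHomLift.domain_eq 𝒮₁.p g φ
  subst hV
  -- G c is cartesian
  have hGc : 𝒮₁.p.IsHomLift g (G.map c) := inferInstance
  have hGc' := isStronglyCartesian_of_isHomLift 𝒮₁.p h₁ g (G.map c)
  have hφ' : 𝒮₁.p.IsHomLift (𝟙 (𝒮₂.p.obj x) ≫ g) φ := by rw [Category.id_comp]; exact hφ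
  obtain ⟨θ, hθ, hθ'⟩ : ∃ θ : F.obj x ⟶ G.obj u'', 𝒮₁.p.IsHomLift (𝟙 (𝒮₂.p.obj x)) θ ∧
      θ ≫ G.map c = φ :=
    ⟨IsStronglyCartesian.map 𝒮₁.p g (G.map c) (f' := 𝟙 _ ≫ g) rfl φ,
      IsStronglyCartesian.map_isHomLift 𝒮₁.p g (G.map c) rfl φ,
      IsStronglyCartesian.fac 𝒮₁.p g (G.map c) rfl φ⟩
  have hθi : IsIso θ := isIso_of_isHomLift_id 𝒮₁.p h₁ (U := 𝒮₂.p.obj x) θ
  -- the lifted automorphism
  have hc' := isStronglyCartesian_of_isHomLift 𝒯₁.p h₃.1 g c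
  have hcτ : 𝒯₁.p.IsHomLift (𝟙 (𝒮₂.p.obj x) ≫ g) (c ≫ τ) := by
    rw [Category.id_comp]; infer_instance
  obtain ⟨τ'', hτ'', hτ''c⟩ : ∃ τ'' : u'' ⟶ u'', 𝒯₁.p.IsHomLift (𝟙 (𝒮₂.p.obj x)) τ'' ∧
      τ'' ≫ c = c ≫ τ :=
    ⟨IsStronglyCartesian.map 𝒯₁.p g c (f' := 𝟙 _ ≫ g) rfl (c ≫ τ),
      IsStronglyCartesian.map_isHomLift 𝒯₁.p g c rfl (c ≫ τ),
      IsStronglyCartesian.fac 𝒯₁.p g c rfl (c ≫ τ)⟩
  have hGτ'' : G.map τ'' = 𝟙 (G.obj u'') := by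
    have i1 : 𝒮₁.p.IsHomLift (𝟙 (𝒮₂.p.obj x)) (G.map τ'') := inferInstance
    have i2 : 𝒮₁.p.IsHomLift (𝟙 (𝒮₂.p.obj x)) (𝟙 (G.obj u'')) :=
      IsHomLift.id (IsHomLift.domain_eq 𝒮₁.p g (G.map c))
    apply IsStronglyCartesian.ext 𝒮₁.p g (G.map c) (𝟙 (𝒮₂.p.obj x))
    rw [← G.toFunctor.map_comp, hτ''c, G.toFunctor.map_comp, hGτ, Category.comp_id,
      Category.id_comp]
  let X : (FibCat.fp F G).obj := fpMk F G x u'' (asIso θ) hθ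
  let e₁ : X ⟶ X := fpHomMk (𝟙 x) τ'' (by
    change F.map (𝟙 x) ≫ θ = θ ≫ G.map τ''
    rw [hGτ'', F.toFunctor.map_id, Category.id_comp, Category.comp_id])
  have he : e₁ = 𝟙 X := hG'.map_injective (by rfl)
  have hτ1 : τ'' = 𝟙 u'' := congrArg (fun e => e.hom.snd) he
  rw [Category.comp_id, ← hτ''c, hτ1, Category.id_comp]

theorem faithful_of_fpFst_faithful (h₁ : FibCat.IsFibGrpd 𝒮₁.p) (h₃ : Stk.IsPrestack J 𝒯₁)
    (F : 𝒮₂ ⥤ᵇ 𝒮₁) (G : 𝒯₁ ⥤ᵇ 𝒮₁) (hF : LocEssSurj J F)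
    (hG' : (FibCat.fpFst F G).toFunctor.Faithful) : G.toFunctor.Faithful := by
  constructor
  intro u u' t₁ t₂ hG
  have i2 : 𝒯₁.p.IsHomLift (𝒯₁.p.map t₂) t₂ := IsHomLift.map 𝒯₁.p t₂
  have i1 : 𝒯₁.p.IsHomLift (𝒯₁.p.map t₂) t₁ := by
    have : 𝒮₁.p.IsHomLift (𝒯₁.p.map t₂) (G.map t₁) := by
      change 𝒮₁.p.IsHomLift (𝒯₁.p.map t₂) (G.toFunctor.map t₁)
      rw [hG]; infer_instance
    exact BasedFunctor.isHomLift_map G (𝒯₁.p.map t₂) t₁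
  have c2 := isStronglyCartesian_of_isHomLift 𝒯₁.p h₃.1 (𝒯₁.p.map t₂) t₂
  have i1' : 𝒯₁.p.IsHomLift (𝟙 (𝒯₁.p.obj u) ≫ 𝒯₁.p.map t₂) t₁ := by
    rw [Category.id_comp]; exact i1
  obtain ⟨τ, hτ, hτ'⟩ : ∃ τ : u ⟶ u, 𝒯₁.p.IsHomLift (𝟙 (𝒯₁.p.obj u)) τ ∧ τ ≫ t₂ = t₁ :=
    ⟨IsStronglyCartesian.map 𝒯₁.p (𝒯₁.p.map t₂) t₂ (f' := 𝟙 _ ≫ 𝒯₁.p.map t₂) rfl t₁,
      IsStronglyCartesian.map_isHomLift 𝒯₁.p (𝒯₁.p.map t₂) t₂ rfl t₁,
      IsStronglyCartesian.fac 𝒯₁.p (𝒯₁.p.map t₂) t₂ rfl t₁⟩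
  have hGτ : G.map τ = 𝟙 (G.obj u) := by
    have j0 : 𝒮₁.p.IsHomLift (𝒯₁.p.map t₂) (G.map t₂) := inferInstance
    have j1 := isStronglyCartesian_of_isHomLift 𝒮₁.p h₁ (𝒯₁.p.map t₂) (G.map t₂)
    have j2 : 𝒮₁.p.IsHomLift (𝟙 (𝒯₁.p.obj u)) (G.map τ) := inferInstance
    have j3 : 𝒮₁.p.IsHomLift (𝟙 (𝒯₁.p.obj u)) (𝟙 (G.obj u)) := IsHomLift.id (G.w_obj u)
    apply IsStronglyCartesian.ext 𝒮₁.p (𝒯₁.p.map t₂) (G.map t₂) (𝟙 (𝒯₁.p.obj u))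
    rw [← G.toFunctor.map_comp, hτ', Category.id_comp]
    exact hG
  have := aut_eq_id_of_fpFst_faithful J h₁ h₃ F G hF hG' τ hGτ
  rw [← hτ', this, Category.id_comp]

lemma isFibSetoid_of_aut_trivial {𝒵 : Type u₂} [Category.{v₂} 𝒵] (p : 𝒵 ⥤ C)
    (h : FibCat.IsFibGrpd p)
    (h' : ∀ (u : 𝒵) (τ : u ⟶ u), p.IsHomLift (𝟙 (p.obj u)) τ → τ = 𝟙 u) :
    FibCat.IsFibSetoid p := by
  refine ⟨h, fun U a b => ⟨fun φ ψ => ?_⟩⟩
  have hφ : p.IsHomLift (𝟙 U) φ.1 := φ.2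
  have hψ : p.IsHomLift (𝟙 U) ψ.1 := ψ.2
  have hi : IsIso ψ.1 := isIso_of_isHomLift_id p h (U := U) ψ.1
  have ha : p.obj a.1 = U := a.2
  have hl : p.IsHomLift (𝟙 (p.obj a.1)) (φ.1 ≫ inv ψ.1) := by
    rw [ha]; infer_instance
  have := h' a.1 (φ.1 ≫ inv ψ.1) hl
  apply Fiber.hom_ext
  have h2 := congrArg (fun t => t ≫ ψ.1) this
  have h3 : φ.1 = ψ.1 := by simpa using h2
  exact h3

theorem isFibSetoid_of_fp (h₁ : FibCat.IsFibGrpd 𝒮₁.p) (h₃ : Stk.IsPrestack J 𝒯₁)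
    (F : 𝒮₂ ⥤ᵇ 𝒮₁) [F.toFunctor.Full] (G : 𝒯₁ ⥤ᵇ 𝒮₁) (hF : LocEssSurj J F)
    (h : FibCat.IsFibSetoid (FibCat.fp F G).p) : FibCat.IsFibSetoid 𝒯₁.p := by
  apply isFibSetoid_of_aut_trivial 𝒯₁.p h₃.1
  intro u τ hτ
  obtain ⟨R, hR, hR'⟩ := locEssSurj_at J hF (G.obj u) (G.w_obj u)
  have hfaith := (h₃.2 R hR).2
  have hid : 𝒯₁.p.IsHomLift (𝟙 (𝒯₁.p.obj u)) (𝟙 u) := IsHomLift.id rfl
  apply (faithful_iff h₃.1).mp hfaith u u τ (𝟙 u) hτ hid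
  intro V g hg u'' c hc
  obtain ⟨x, φ, hφ⟩ := hR' g hg
  have hV : 𝒮₂.p.obj x = V := by
    rw [← F.w_obj x]; exact IsHomLift.domain_eq 𝒮₁.p g φ
  subst hV
  have hGc : 𝒮₁.p.IsHomLift g (G.map c) := inferInstance
  have hGc' := isStronglyCartesian_of_isHomLift 𝒮₁.p h₁ g (G.map c)
  have hφ' : 𝒮₁.p.IsHomLift (𝟙 (𝒮₂.p.obj x) ≫ g) φ := by rw [Category.id_comp]; exact hφ
  obtain ⟨θ, hθ, hθ'⟩ : ∃ θ : F.obj x ⟶ G.obj u'', 𝒮₁.p.IsHomLift (𝟙 (𝒮₂.p.obj x)) θ ∧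
      θ ≫ G.map c = φ :=
    ⟨IsStronglyCartesian.map 𝒮₁.p g (G.map c) (f' := 𝟙 _ ≫ g) rfl φ,
      IsStronglyCartesian.map_isHomLift 𝒮₁.p g (G.map c) rfl φ,
      IsStronglyCartesian.fac 𝒮₁.p g (G.map c) rfl φ⟩
  have hθi : IsIso θ := isIso_of_isHomLift_id 𝒮₁.p h₁ (U := 𝒮₂.p.obj x) θ
  have hc' := isStronglyCartesian_of_isHomLift 𝒯₁.p h₃.1 g c
  have hcτ : 𝒯₁.p.IsHomLift (𝟙 (𝒮₂.p.obj x) ≫ g) (c ≫ τ) := by
    rw [Category.id_comp]; infer_instance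
  obtain ⟨τ'', hτ'', hτ''c⟩ : ∃ τ'' : u'' ⟶ u'', 𝒯₁.p.IsHomLift (𝟙 (𝒮₂.p.obj x)) τ'' ∧
      τ'' ≫ c = c ≫ τ :=
    ⟨IsStronglyCartesian.map 𝒯₁.p g c (f' := 𝟙 _ ≫ g) rfl (c ≫ τ),
      IsStronglyCartesian.map_isHomLift 𝒯₁.p g c rfl (c ≫ τ),
      IsStronglyCartesian.fac 𝒯₁.p g c rfl (c ≫ τ)⟩
  have hGτ'' : 𝒮₁.p.IsHomLift (𝟙 (𝒮₂.p.obj x)) (G.map τ'') := inferInstance
  obtain ⟨a, ha⟩ := F.toFunctor.map_surjective (θ ≫ G.map τ'' ≫ inv θ)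
  have hal : 𝒮₂.p.IsHomLift (𝟙 (𝒮₂.p.obj x)) a := by
    have : 𝒮₁.p.IsHomLift (𝟙 (𝒮₂.p.obj x)) (F.map a) := by
      change 𝒮₁.p.IsHomLift (𝟙 (𝒮₂.p.obj x)) (F.toFunctor.map a)
      rw [ha]; infer_instance
    exact BasedFunctor.isHomLift_map F _ a
  let X : (FibCat.fp F G).obj := fpMk F G x u'' (asIso θ) hθ
  let e₁ : X ⟶ X := fpHomMk a τ'' (by
    change F.toFunctor.map a ≫ θ = θ ≫ G.map τ''
    rw [ha]; simp)
  have l1 : (FibCat.fp F G).p.IsHomLift (𝟙 (𝒮₂.p.obj x)) e₁ :=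
    (fp_isHomLift_iff F G _ e₁).mpr hal
  have l2 : (FibCat.fp F G).p.IsHomLift (𝟙 (𝒮₂.p.obj x)) (𝟙 X) := IsHomLift.id rfl
  have he : e₁ = 𝟙 X := hom_eq_of_isFibSetoid (FibCat.fp F G).p h (𝟙 (𝒮₂.p.obj x)) e₁ (𝟙 X)
  have hτ1 : τ'' = 𝟙 u'' := congrArg (fun e => e.hom.snd) he
  rw [Category.comp_id, ← hτ''c, hτ1, Category.id_comp]

end S12798

section S12795

variable (J : GrothendieckTopology C) {𝒳 : BasedCategory.{v₂, u₂} C} (Q : ObjectProperty 𝒳.obj)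

/-- the full subcategory on `Q` as a category over `C` -/
abbrev subCat : BasedCategory.{v₂, u₂} C := BasedCategory.ofFunctor (Q.ι ⋙ 𝒳.p)

/-- the inclusion, over `C` -/
def subIncl : subCat Q ⥤ᵇ 𝒳 where
  toFunctor := Q.ι
  w := rfl

instance : (subIncl Q).toFunctor.Full := inferInstanceAs Q.ι.Full
instance : (subIncl Q).toFunctor.Faithful := inferInstanceAs Q.ι.Faithful

lemma sub_isHomLift_iff {R S : C} (f : R ⟶ S) {a b : Q.FullSubcategory} (m : a ⟶ b) :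
    (Q.ι ⋙ 𝒳.p).IsHomLift f m ↔ 𝒳.p.IsHomLift f m.hom :=
  (BasedFunctor.isHomLift_iff (subIncl Q) f m).symm

variable {Q}

theorem isFibGrpd_sub (h𝒳 : FibCat.IsFibGrpd 𝒳.p)
    (h1 : ∀ ⦃y x : 𝒳.obj⦄ (φ : y ⟶ x), Q x → ∃ (y' : 𝒳.obj) (e : y ≅ y'), Q y' ∧
      𝒳.p.IsHomLift (𝟙 (𝒳.p.obj y)) e.hom) : FibCat.IsFibGrpd (Q.ι ⋙ 𝒳.p) where
  exists_lift := by
    intro x V f
    obtain ⟨y, φ, hφ⟩ := h𝒳.exists_lift (x := x.obj) f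
    obtain ⟨y', e, hy', he⟩ := h1 φ x.property
    have hy : 𝒳.p.obj y = V := IsHomLift.domain_eq 𝒳.p f φ
    subst hy
    refine ⟨⟨y', hy'⟩, ObjectProperty.homMk (e.inv ≫ φ), ?_⟩
    rw [sub_isHomLift_iff]
    change 𝒳.p.IsHomLift f (e.inv ≫ φ)
    infer_instance
  isStronglyCartesian := by
    intro y x φ
    have h0 : 𝒳.p.IsHomLift ((Q.ι ⋙ 𝒳.p).map φ) ((subIncl Q).map φ) :=
      IsHomLift.map 𝒳.p φ.hom
    have := isStronglyCartesian_of_isHomLift 𝒳.p h𝒳 ((Q.ι ⋙ 𝒳.p).map φ) ((subIncl Q).map φ)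
    exact isStronglyCartesian_of_map_of_fullyFaithful (subIncl Q) ((Q.ι ⋙ 𝒳.p).map φ) φ

theorem isStackFor_sub (h𝒳 : FibCat.IsFibGrpd 𝒳.p)
    (h1 : ∀ ⦃y x : 𝒳.obj⦄ (φ : y ⟶ x), Q x → ∃ (y' : 𝒳.obj) (e : y ≅ y'), Q y' ∧
      𝒳.p.IsHomLift (𝟙 (𝒳.p.obj y)) e.hom) {U : C} (R : Sieve U) (hR : Stk.IsStackFor R 𝒳)
    (h3 : ∀ (x : 𝒳.obj), 𝒳.p.obj x = U →
      (∀ ⦃V : C⦄ (f : V ⟶ U), R f → ∀ (y : 𝒳.obj) (φ : y ⟶ x), 𝒳.p.IsHomLift f φ →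
        ∃ (y' : 𝒳.obj) (e : y ≅ y'), Q y' ∧ 𝒳.p.IsHomLift (𝟙 V) e.hom) →
      ∃ (x' : 𝒳.obj) (e : x ≅ x'), Q x' ∧ 𝒳.p.IsHomLift (𝟙 U) e.hom) :
    Stk.IsStackFor R (subCat Q) := by
  rw [isStackFor_iff (isFibGrpd_sub h𝒳 h1)]
  rw [isStackFor_iff h𝒳] at hR
  obtain ⟨hR1, hR2⟩ := hR
  constructor
  · intro D
    obtain ⟨s'⟩ := hR1 (BasedFunctor.comp D (subIncl Q))
    obtain ⟨x', e, hx', he⟩ := h3 s'.pt s'.pt_proj (by
      intro V f hf y φ hφ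
      obtain ⟨c', hc', -⟩ := s'.exists_fac h𝒳 f hf φ
      obtain ⟨c'', hc''⟩ : ∃ c'' : y ⟶ (D.obj (mkObj R f hf)).obj, c'' = c' := ⟨c', rfl⟩
      have hl : 𝒳.p.IsHomLift (𝟙 V) c'' := by rw [hc'']; exact hc'
      have : IsIso c'' := isIso_of_isHomLift_id 𝒳.p h𝒳 (U := V) c''
      exact ⟨(D.obj (mkObj R f hf)).obj, asIso c'', (D.obj (mkObj R f hf)).property, hl⟩)
    refine ⟨{ pt := ⟨x', hx'⟩
              pt_proj := ?_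
              ι := fun a => ObjectProperty.homMk (s'.ι a ≫ e.hom)
              ι_lift := ?_
              w := ?_ }⟩
    · exact (IsHomLift.codomain_eq 𝒳.p (𝟙 U) e.hom)
    · intro a
      refine (sub_isHomLift_iff Q a.obj.hom
        (ObjectProperty.homMk (s'.ι a ≫ e.hom) : D.obj a ⟶ ⟨x', hx'⟩)).mpr ?_
      have := s'.ι_lift a
      change 𝒳.p.IsHomLift a.obj.hom (s'.ι a ≫ e.hom)
      infer_instance
    · intro a b f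
      apply ObjectProperty.hom_ext
      change (D.map f).hom ≫ s'.ι b ≫ e.hom = s'.ι a ≫ e.hom
      rw [← Category.assoc]
      congr 1
      exact s'.w f
  · intro D s t
    obtain ⟨φ', ⟨hφ', hφ''⟩, huniq⟩ := hR2 _ (mapCocone (subIncl Q) s) (mapCocone (subIncl Q) t)
    refine ⟨ObjectProperty.homMk φ', ⟨?_, ?_⟩, ?_⟩
    · exact (sub_isHomLift_iff Q (𝟙 U) (ObjectProperty.homMk φ' : s.pt ⟶ t.pt)).mpr hφ'
    · intro a
      apply ObjectProperty.hom_ext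
      exact hφ'' a
    · rintro ψ ⟨hψ, hψ'⟩
      apply ObjectProperty.hom_ext
      apply huniq
      refine ⟨(sub_isHomLift_iff Q _ ψ).mp hψ, ?_⟩
      intro a
      exact congrArg (fun m => m.hom) (hψ' a)

theorem isStack_sub (h𝒳 : Stk.IsStack J 𝒳)
    (h1 : ∀ ⦃y x : 𝒳.obj⦄ (φ : y ⟶ x), Q x → ∃ (y' : 𝒳.obj) (e : y ≅ y'), Q y' ∧
      𝒳.p.IsHomLift (𝟙 (𝒳.p.obj y)) e.hom)
    (h3 : ∀ ⦃U : C⦄ (R : Sieve U), R ∈ J U → ∀ (x : 𝒳.obj), 𝒳.p.obj x = U →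
      (∀ ⦃V : C⦄ (f : V ⟶ U), R f → ∀ (y : 𝒳.obj) (φ : y ⟶ x), 𝒳.p.IsHomLift f φ →
        ∃ (y' : 𝒳.obj) (e : y ≅ y'), Q y' ∧ 𝒳.p.IsHomLift (𝟙 V) e.hom) →
      ∃ (x' : 𝒳.obj) (e : x ≅ x'), Q x' ∧ 𝒳.p.IsHomLift (𝟙 U) e.hom) :
    Stk.IsStack J (BasedCategory.ofFunctor (Q.ι ⋙ 𝒳.p)) :=
  ⟨isFibGrpd_sub h𝒳.1 h1, fun _ R hR => isStackFor_sub h𝒳.1 h1 R (h𝒳.2 R hR) (h3 R hR)⟩

end S12795

section S12815

variable {𝒳 : BasedCategory.{v₂, u₂} C} {U : C} {S R : Sieve U} (hSR : S ≤ R)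

/-- inclusion of a smaller sieve -/
def inclSR : Stk.sieveCat S ⥤ᵇ Stk.sieveCat R where
  toFunctor := ObjectProperty.ιOfLE (fun f hf => hSR _ hf)
  w := rfl

/-- object of `R` attached to an arrow of the pulled-back sieve -/
abbrev pbObjR (b : R.arrows.category) (c : (S.pullback b.obj.hom).arrows.category) :
    R.arrows.category := mkObj R (c.obj.hom ≫ b.obj.hom) (hSR _ c.property)

/-- object of `S` attached to an arrow of the pulled-back sieve -/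
abbrev pbObjS (b : R.arrows.category) (c : (S.pullback b.obj.hom).arrows.category) :
    S.arrows.category := mkObj S (c.obj.hom ≫ b.obj.hom) c.property

/-- the functor `f^*S ⟶ R`, `g ↦ g ≫ f` -/
def pbInclR (b : R.arrows.category) :
    Stk.sieveCat (S.pullback b.obj.hom) ⥤ᵇ Stk.sieveCat R where
  toFunctor :=
    { obj := fun c => pbObjR hSR b c
      map := fun {c c'} u => ObjectProperty.homMk (Over.homMk u.hom.left (by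
        change u.hom.left ≫ c'.obj.hom ≫ b.obj.hom = c.obj.hom ≫ b.obj.hom
        rw [← Category.assoc, Over.w u.hom]))
      map_id := fun c => rfl
      map_comp := fun u u' => rfl }
  w := rfl

/-- the structure morphism `g ≫ f ⟶ f` -/
def wOf (b : R.arrows.category) (c : (S.pullback b.obj.hom).arrows.category) :
    (pbInclR hSR b).obj c ⟶ b := ObjectProperty.homMk (Over.homMk c.obj.hom rfl)

lemma pbInclR_map_wOf (b : R.arrows.category) {c c' : (S.pullback b.obj.hom).arrows.category}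
    (u : c ⟶ c') : (pbInclR hSR b).map u ≫ wOf hSR b c' = wOf hSR b c := by
  apply ObjectProperty.hom_ext
  apply Over.OverMorphism.ext
  exact Over.w u.hom

variable (D : Stk.sieveCat R ⥤ᵇ 𝒳)

/-- first cocone: vertex `D b` -/
def cocone1 (b : R.arrows.category) : Cocone (BasedFunctor.comp (pbInclR hSR b) D) where
  pt := D.obj b
  pt_proj := sieve_obj_proj D b
  ι c := D.map (wOf hSR b c)
  ι_lift c := sieve_map_isHomLift D (wOf hSR b c)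
  w c c' u := by
    change D.map ((pbInclR hSR b).map u) ≫ D.map (wOf hSR b c') = D.map (wOf hSR b c)
    rw [← D.toFunctor.map_comp]
    exact congrArg (fun t => D.map t) (pbInclR_map_wOf hSR b u)

section Second

variable (h𝒳 : FibCat.IsFibGrpd 𝒳.p) (s₀ : Cocone (BasedFunctor.comp (inclSR hSR) D))
  (b : R.arrows.category) {xb : 𝒳.obj} (κ : xb ⟶ s₀.pt) [hκ : 𝒳.p.IsHomLift b.obj.hom κ]

/-- the legs of `s₀`, retyped -/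
def ι₀ (a : S.arrows.category) : D.obj ((inclSR hSR).obj a) ⟶ s₀.pt := s₀.ι a

/-- the legs of `s₀` at the objects `g ≫ f`, retyped -/
def ι₀c (c : (S.pullback b.obj.hom).arrows.category) :
    D.obj ((pbInclR hSR b).obj c) ⟶ s₀.pt :=
  s₀.ι (pbObjS b c)

omit hκ in
lemma ι₀_lift' (c : (S.pullback b.obj.hom).arrows.category) :
    𝒳.p.IsHomLift (c.obj.hom ≫ b.obj.hom) (ι₀c hSR D s₀ b c) :=
  s₀.ι_lift (pbObjS b c)

omit hκ in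
lemma ι₀_w {a a' : S.arrows.category} (u : a ⟶ a') :
    D.map ((inclSR hSR).map u) ≫ ι₀ hSR D s₀ a' = ι₀ hSR D s₀ a := s₀.w u

include h𝒳 hκ in
lemma κ_cart : 𝒳.p.IsStronglyCartesian b.obj.hom κ :=
  isStronglyCartesian_of_isHomLift 𝒳.p h𝒳 b.obj.hom κ

/-- leg of the second cocone -/
noncomputable def leg2 (c : (S.pullback b.obj.hom).arrows.category) :
    D.obj ((pbInclR hSR b).obj c) ⟶ xb :=
  haveI := κ_cart hSR D h𝒳 s₀ b κ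
  haveI := ι₀_lift' hSR D s₀ b c
  IsStronglyCartesian.map 𝒳.p b.obj.hom κ (f' := c.obj.hom ≫ b.obj.hom) rfl (ι₀c hSR D s₀ b c)

lemma leg2_isHomLift (c : (S.pullback b.obj.hom).arrows.category) :
    𝒳.p.IsHomLift c.obj.hom (leg2 hSR D h𝒳 s₀ b κ c) := by
  have := κ_cart hSR D h𝒳 s₀ b κ
  have := ι₀_lift' hSR D s₀ b c
  exact IsStronglyCartesian.map_isHomLift 𝒳.p b.obj.hom κ rfl (ι₀c hSR D s₀ b c)

lemma leg2_fac (c : (S.pullback b.obj.hom).arrows.category) :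
    leg2 hSR D h𝒳 s₀ b κ c ≫ κ = ι₀c hSR D s₀ b c := by
  have := κ_cart hSR D h𝒳 s₀ b κ
  have := ι₀_lift' hSR D s₀ b c
  exact IsStronglyCartesian.fac 𝒳.p b.obj.hom κ rfl (ι₀c hSR D s₀ b c)

lemma leg2_w {c c' : (S.pullback b.obj.hom).arrows.category} (u : c ⟶ c') :
    D.map ((pbInclR hSR b).map u) ≫ leg2 hSR D h𝒳 s₀ b κ c' = leg2 hSR D h𝒳 s₀ b κ c := by
  have h1 := κ_cart hSR D h𝒳 s₀ b κ
  have h2 := leg2_isHomLift hSR D h𝒳 s₀ b κ c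
  have h3 := leg2_isHomLift hSR D h𝒳 s₀ b κ c'
  have h4 : 𝒳.p.IsHomLift u.hom.left (D.map ((pbInclR hSR b).map u)) :=
    sieve_map_isHomLift D ((pbInclR hSR b).map u)
  have h5 : 𝒳.p.IsHomLift (u.hom.left ≫ c'.obj.hom)
      (D.map ((pbInclR hSR b).map u) ≫ leg2 hSR D h𝒳 s₀ b κ c') := inferInstance
  have h6 : 𝒳.p.IsHomLift (u.hom.left ≫ c'.obj.hom) (leg2 hSR D h𝒳 s₀ b κ c) := by
    rw [Over.w u.hom]; exact h2
  apply IsStronglyCartesian.ext 𝒳.p b.obj.hom κ (u.hom.left ≫ c'.obj.hom)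
  rw [Category.assoc, leg2_fac, leg2_fac]
  let u' : pbObjS b c ⟶ pbObjS b c' := ObjectProperty.homMk ((pbInclR hSR b).map u).hom
  exact s₀.w u'

/-- second cocone: vertex the pullback of the glued object -/
noncomputable def cocone2 : Cocone (BasedFunctor.comp (pbInclR hSR b) D) where
  pt := xb
  pt_proj := IsHomLift.domain_eq 𝒳.p b.obj.hom κ
  ι c := leg2 hSR D h𝒳 s₀ b κ c
  ι_lift c := leg2_isHomLift hSR D h𝒳 s₀ b κ c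
  w c c' u := leg2_w hSR D h𝒳 s₀ b κ u

end Second

section Good

variable (h𝒳 : FibCat.IsFibGrpd 𝒳.p) (s₀ : Cocone (BasedFunctor.comp (inclSR hSR) D))

/-- compatibility of a leg at `b` with the legs of `s₀` -/
def Good (b : R.arrows.category) (ιb : D.obj b ⟶ s₀.pt) : Prop :=
  ∀ (d : S.arrows.category) (v : (inclSR hSR).obj d ⟶ b), D.map v ≫ ιb = ι₀ hSR D s₀ d

lemma good_transport (b : R.arrows.category) {W : C} (f f' : W ⟶ U) (e : f = f') (hf : S f)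
    (hf' : S f') (v : (inclSR hSR).obj (mkObj S f hf) ⟶ b)
    (v' : (inclSR hSR).obj (mkObj S f' hf') ⟶ b) (hv : v.hom.left = v'.hom.left)
    (ιb : D.obj b ⟶ s₀.pt) (h : D.map v ≫ ιb = ι₀ hSR D s₀ (mkObj S f hf)) :
    D.map v' ≫ ιb = ι₀ hSR D s₀ (mkObj S f' hf') := by
  subst e
  have : v = v' := by
    apply ObjectProperty.hom_ext
    apply Over.OverMorphism.ext
    exact hv
  subst this
  exact h

include h𝒳 in
lemma good_unique (b : R.arrows.category)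
    (hf : (Stk.resSieve (S.pullback b.obj.hom) 𝒳).Faithful) (φ ψ : D.obj b ⟶ s₀.pt)
    [hφ : 𝒳.p.IsHomLift b.obj.hom φ] [hψ : 𝒳.p.IsHomLift b.obj.hom ψ]
    (gφ : Good hSR D s₀ b φ) (gψ : Good hSR D s₀ b ψ) : φ = ψ := by
  apply Cocone.hom_ext h𝒳 hf (cocone1 hSR D b) b.obj.hom φ ψ (hφ := hφ) (hψ := hψ)
  intro c
  exact (gφ (pbObjS b c) (wOf hSR b c)).trans (gψ (pbObjS b c) (wOf hSR b c)).symm

include h𝒳 in
omit hSR in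
lemma exists_lift_of_eq (x : 𝒳.obj) {U' : C} (hx : 𝒳.p.obj x = U') {V : C} (f : V ⟶ U') :
    ∃ (y : 𝒳.obj) (κ : y ⟶ x), 𝒳.p.IsHomLift f κ := by
  subst hx; exact h𝒳.exists_lift f

include h𝒳 in
lemma good_exists (b : R.arrows.category)
    (hpre : Stk.IsPrestackFor (S.pullback b.obj.hom) 𝒳) :
    ∃ ιb : D.obj b ⟶ s₀.pt, 𝒳.p.IsHomLift b.obj.hom ιb ∧ Good hSR D s₀ b ιb := by
  obtain ⟨xb, κ, hκ⟩ := exists_lift_of_eq h𝒳 s₀.pt s₀.pt_proj b.obj.hom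
  obtain ⟨θ, ⟨hθ, hθ'⟩, -⟩ := (isPrestackFor_iff h𝒳).mp hpre _ (cocone1 hSR D b)
    (cocone2 hSR D h𝒳 s₀ b κ)
  obtain ⟨θ', hθeq⟩ : ∃ θ' : D.obj b ⟶ xb, θ' = θ := ⟨θ, rfl⟩
  have hθl : 𝒳.p.IsHomLift (𝟙 b.obj.left) θ' := by rw [hθeq]; exact hθ
  refine ⟨θ' ≫ κ, inferInstance, ?_⟩
  intro d v
  have hc : (S.pullback b.obj.hom) v.hom.left := by
    change S (v.hom.left ≫ b.obj.hom)
    have := Over.w v.hom
    rw [this]
    exact d.property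
  let c : (S.pullback b.obj.hom).arrows.category := mkObj _ v.hom.left hc
  have h1 : D.map (wOf hSR b c) ≫ θ' = leg2 hSR D h𝒳 s₀ b κ c := by
    rw [hθeq]; exact hθ' c
  have h2 : D.map (wOf hSR b c) ≫ θ' ≫ κ = ι₀ hSR D s₀ (pbObjS b c) := by
    rw [← Category.assoc, h1]
    exact leg2_fac hSR D h𝒳 s₀ b κ c
  exact good_transport hSR D s₀ b (v.hom.left ≫ b.obj.hom) d.obj.hom (Over.w v.hom) c.property
    d.property (wOf hSR b c) v rfl (θ' ≫ κ) h2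

end Good

/-- restriction of a cocone to a smaller sieve -/
def restrictCocone (s : Cocone D) : Cocone (BasedFunctor.comp (inclSR hSR) D) where
  pt := s.pt
  pt_proj := s.pt_proj
  ι d := s.ι ((inclSR hSR).obj d)
  ι_lift d := s.ι_lift ((inclSR hSR).obj d)
  w _ _ u := s.w ((inclSR hSR).map u)

include hSR in
theorem isStackFor_of_refinement (h𝒳 : FibCat.IsFibGrpd 𝒳.p) (hS : Stk.IsStackFor S 𝒳)
    (hR : ∀ ⦃V : C⦄ (f : V ⟶ U), R f → Stk.IsPrestackFor (S.pullback f) 𝒳) :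
    Stk.IsStackFor R 𝒳 := by
  rw [isStackFor_iff h𝒳]
  rw [isStackFor_iff h𝒳] at hS
  obtain ⟨hS1, hS2⟩ := hS
  constructor
  · intro D
    obtain ⟨s₀⟩ := hS1 (BasedFunctor.comp (inclSR hSR) D)
    have hex := fun b : R.arrows.category =>
      good_exists hSR D h𝒳 s₀ b (hR b.obj.hom b.property)
    choose ι hι hιg using hex
    refine ⟨{ pt := s₀.pt
              pt_proj := s₀.pt_proj
              ι := ι
              ι_lift := hι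
              w := ?_ }⟩
    intro a b w
    have i1 := hι a
    have i2 := hι b
    have i3 := sieve_map_isHomLift D w
    have i4 : 𝒳.p.IsHomLift a.obj.hom (D.map w ≫ ι b) := by
      rw [← Over.w w.hom]; infer_instance
    apply good_unique hSR D h𝒳 s₀ a (hR a.obj.hom a.property).2 _ _ ?_ (hιg a)
    intro d v
    rw [← Category.assoc, ← D.toFunctor.map_comp]
    exact hιg b d (v ≫ w)
  · intro D s t
    obtain ⟨φ, ⟨hφ, hφ'⟩, huniq⟩ := hS2 _ (restrictCocone hSR D s) (restrictCocone hSR D t)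
    obtain ⟨φ', hφeq⟩ : ∃ φ' : s.pt ⟶ t.pt, φ' = φ := ⟨φ, rfl⟩
    have hφl : 𝒳.p.IsHomLift (𝟙 U) φ' := by rw [hφeq]; exact hφ
    refine ⟨φ', ⟨hφl, ?_⟩, ?_⟩
    · intro a
      have i1 := s.ι_lift a
      have i2 := t.ι_lift a
      have i3 : 𝒳.p.IsHomLift a.obj.hom (s.ι a ≫ φ') := inferInstance
      apply Cocone.hom_ext h𝒳 (hR a.obj.hom a.property).2 (cocone1 hSR D a) a.obj.hom
        (s.ι a ≫ φ') (t.ι a) (hφ := i3) (hψ := i2)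
      intro c
      change D.map (wOf hSR a c) ≫ s.ι a ≫ φ' = D.map (wOf hSR a c) ≫ t.ι a
      rw [← Category.assoc, s.w, t.w, hφeq]
      exact hφ' (pbObjS a c)
    · rintro ψ ⟨hψ, hψ'⟩
      rw [hφeq]
      apply huniq
      exact ⟨hψ, fun d => hψ' ((inclSR hSR).obj d)⟩

end S12815

section S12792

variable {𝒳 : BasedCategory.{v₂, u₂} C} {𝒴 : BasedCategory.{v₃, u₃} C} {𝒮 : BasedCategory.{v₄, u₄} C}
  (F : 𝒳 ⥤ᵇ 𝒮) (G : 𝒴 ⥤ᵇ 𝒮) {U : C} {R : Sieve U}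

lemma fp_isHomLift_snd_of' {V W : C} (f : V ⟶ W) {X Y : (FibCat.fp F G).obj}
    (φ : X ⟶ Y) [h : (FibCat.fp F G).p.IsHomLift f φ] : 𝒴.p.IsHomLift f φ.hom.snd := by
  subst_hom_lift (FibCat.fp F G).p f φ
  exact FibCat.fp_isHomLift_snd F G φ

section Exist

variable (D : Stk.sieveCat R ⥤ᵇ FibCat.fp F G)
  (s₁ : Cocone (BasedFunctor.comp D (FibCat.fpFst F G)))
  (s₂ : Cocone (BasedFunctor.comp D (FibCat.fpSnd F G)))

/-- legs of `s₁`, retyped -/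
def c1 (a : R.arrows.category) : (D.obj a).obj.fst ⟶ s₁.pt := s₁.ι a

/-- legs of `s₂`, retyped -/
def c2 (a : R.arrows.category) : (D.obj a).obj.snd ⟶ s₂.pt := s₂.ι a

lemma c1_lift (a : R.arrows.category) : 𝒳.p.IsHomLift a.obj.hom (c1 F G D s₁ a) := s₁.ι_lift a

lemma c2_lift (a : R.arrows.category) : 𝒴.p.IsHomLift a.obj.hom (c2 F G D s₂ a) := s₂.ι_lift a

lemma c1_w {a b : R.arrows.category} (u : a ⟶ b) :
    (D.map u).hom.fst ≫ c1 F G D s₁ b = c1 F G D s₁ a := s₁.w u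

lemma c2_w {a b : R.arrows.category} (u : a ⟶ b) :
    (D.map u).hom.snd ≫ c2 F G D s₂ b = c2 F G D s₂ a := s₂.w u

lemma iso_lift (a : R.arrows.category) :
    𝒮.p.IsHomLift (𝟙 a.obj.left) (D.obj a).obj.iso.hom := by
  have h1 : 𝒮.p.IsHomLift (𝟙 (𝒳.p.obj (D.obj a).obj.fst)) (D.obj a).obj.iso.hom :=
    (D.obj a).property
  have h2 : 𝒳.p.obj (D.obj a).obj.fst = a.obj.left := sieve_obj_proj D a
  rw [h2] at h1
  exact h1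

/-- the image under `F` of `s₁` -/
def coconeF : Cocone (BasedFunctor.comp (BasedFunctor.comp D (FibCat.fpFst F G)) F) :=
  mapCocone F s₁

/-- the image under `G` of `s₂`, transported along the structure isomorphisms -/
def coconeG : Cocone (BasedFunctor.comp (BasedFunctor.comp D (FibCat.fpFst F G)) F) where
  pt := G.obj s₂.pt
  pt_proj := (G.w_obj s₂.pt).trans s₂.pt_proj
  ι a := (D.obj a).obj.iso.hom ≫ G.map (c2 F G D s₂ a)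
  ι_lift a := by
    have h1 := iso_lift F G D a
    have h2 := c2_lift F G D s₂ a
    have h3 : 𝒮.p.IsHomLift a.obj.hom (G.map (c2 F G D s₂ a)) := inferInstance
    exact IsHomLift.comp_lift_id_left' 𝒮.p a.obj.left (D.obj a).obj.iso.hom a.obj.hom
      (G.map (c2 F G D s₂ a))
  w a b u := by
    change F.map (D.map u).hom.fst ≫ (D.obj b).obj.iso.hom ≫ G.map (c2 F G D s₂ b) =
      (D.obj a).obj.iso.hom ≫ G.map (c2 F G D s₂ a)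
    have h1 := (D.map u).hom.w
    rw [← c2_w F G D s₂ u, G.toFunctor.map_comp]
    rw [← Category.assoc, ← Category.assoc]
    congr 1

include s₁ s₂ in
theorem exists_cocone_fp (h𝒮 : FibCat.IsFibGrpd 𝒮.p) (hpre : Stk.IsPrestackFor R 𝒮) :
    Nonempty (Cocone D) := by
  obtain ⟨φ, ⟨hφ, hφ'⟩, -⟩ := (isPrestackFor_iff h𝒮).mp hpre _ (coconeF F G D s₁)
    (coconeG F G D s₂)
  obtain ⟨φ', hφeq⟩ : ∃ φ' : F.obj s₁.pt ⟶ G.obj s₂.pt, φ' = φ := ⟨φ, rfl⟩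
  have hφl : 𝒮.p.IsHomLift (𝟙 U) φ' := by rw [hφeq]; exact hφ
  have hφi : IsIso φ' := isIso_of_isHomLift_id 𝒮.p h𝒮 (U := U) φ'
  have hφl' : 𝒮.p.IsHomLift (𝟙 (𝒳.p.obj s₁.pt)) φ' := by rw [s₁.pt_proj]; exact hφl
  have hw : ∀ a : R.arrows.category,
      F.map (c1 F G D s₁ a) ≫ φ' = (D.obj a).obj.iso.hom ≫ G.map (c2 F G D s₂ a) := by
    intro a; rw [hφeq]; exact hφ' a
  let z : (FibCat.fp F G).obj := fpMk F G s₁.pt s₂.pt (asIso φ') hφl'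
  refine ⟨{ pt := z
            pt_proj := s₁.pt_proj
            ι := fun a => fpHomMk (c1 F G D s₁ a) (c2 F G D s₂ a) (hw a)
            ι_lift := fun a => ?_
            w := fun a b u => ?_ }⟩
  · exact (fp_isHomLift_iff F G a.obj.hom _).mpr (c1_lift F G D s₁ a)
  · apply fp_hom_ext
    · exact c1_w F G D s₁ u
    · exact c2_w F G D s₂ u

end Exist

section Unique

variable (D : Stk.sieveCat R ⥤ᵇ FibCat.fp F G) (s t : Cocone D)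

/-- first components of legs -/
def l1 (s : Cocone D) (a : R.arrows.category) : (D.obj a).obj.fst ⟶ s.pt.obj.fst := (s.ι a).hom.fst

/-- second components of legs -/
def l2 (s : Cocone D) (a : R.arrows.category) : (D.obj a).obj.snd ⟶ s.pt.obj.snd := (s.ι a).hom.snd

lemma l_w (s : Cocone D) (a : R.arrows.category) :
    F.map (l1 F G D s a) ≫ s.pt.obj.iso.hom = (D.obj a).obj.iso.hom ≫ G.map (l2 F G D s a) :=
  (s.ι a).hom.w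

lemma l1_lift (s : Cocone D) (a : R.arrows.category) :
    𝒳.p.IsHomLift a.obj.hom (l1 F G D s a) := by
  have := s.ι_lift a
  exact (fp_isHomLift_iff F G a.obj.hom (s.ι a)).mp this

lemma pt_iso_lift (s : Cocone D) : 𝒮.p.IsHomLift (𝟙 U) s.pt.obj.iso.hom := by
  have h1 : 𝒮.p.IsHomLift (𝟙 (𝒳.p.obj s.pt.obj.fst)) s.pt.obj.iso.hom := s.pt.property
  have h2 : 𝒳.p.obj s.pt.obj.fst = U := s.pt_proj
  rw [h2] at h1
  exact h1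

theorem unique_hom_fp (h𝒳 : FibCat.IsFibGrpd 𝒳.p) (h𝒴 : FibCat.IsFibGrpd 𝒴.p)
    (h𝒮 : FibCat.IsFibGrpd 𝒮.p) (hX : Stk.IsPrestackFor R 𝒳) (hY : Stk.IsPrestackFor R 𝒴)
    (hS : (Stk.resSieve R 𝒮).Faithful) :
    ∃! φ : s.pt ⟶ t.pt, (FibCat.fp F G).p.IsHomLift (𝟙 U) φ ∧ ∀ a, s.ι a ≫ φ = t.ι a := by
  obtain ⟨φ₁, ⟨hφ₁, hφ₁'⟩, hu₁⟩ := (isPrestackFor_iff h𝒳).mp hX _
    (mapCocone (FibCat.fpFst F G) s) (mapCocone (FibCat.fpFst F G) t)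
  obtain ⟨φ₂, ⟨hφ₂, hφ₂'⟩, hu₂⟩ := (isPrestackFor_iff h𝒴).mp hY _
    (mapCocone (FibCat.fpSnd F G) s) (mapCocone (FibCat.fpSnd F G) t)
  obtain ⟨ψ₁, hψ₁⟩ : ∃ ψ₁ : s.pt.obj.fst ⟶ t.pt.obj.fst, ψ₁ = φ₁ := ⟨φ₁, rfl⟩
  obtain ⟨ψ₂, hψ₂⟩ : ∃ ψ₂ : s.pt.obj.snd ⟶ t.pt.obj.snd, ψ₂ = φ₂ := ⟨φ₂, rfl⟩
  have lψ₁ : 𝒳.p.IsHomLift (𝟙 U) ψ₁ := by rw [hψ₁]; exact hφ₁
  have lψ₂ : 𝒴.p.IsHomLift (𝟙 U) ψ₂ := by rw [hψ₂]; exact hφ₂
  have e₁ : ∀ a, l1 F G D s a ≫ ψ₁ = l1 F G D t a := by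
    intro a; rw [hψ₁]; exact hφ₁' a
  have e₂ : ∀ a, l2 F G D s a ≫ ψ₂ = l2 F G D t a := by
    intro a; rw [hψ₂]; exact hφ₂' a
  have hw : F.map ψ₁ ≫ t.pt.obj.iso.hom = s.pt.obj.iso.hom ≫ G.map ψ₂ := by
    have j1 := pt_iso_lift F G D s
    have j2 := pt_iso_lift F G D t
    have j3 : 𝒮.p.IsHomLift (𝟙 U) (F.map ψ₁) := inferInstance
    have j4 : 𝒮.p.IsHomLift (𝟙 U) (G.map ψ₂) := inferInstance
    have j5 : 𝒮.p.IsHomLift (𝟙 U) (F.map ψ₁ ≫ t.pt.obj.iso.hom) :=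
      IsHomLift.comp_lift_id_left' 𝒮.p U (F.map ψ₁) (𝟙 U) t.pt.obj.iso.hom
    have j6 : 𝒮.p.IsHomLift (𝟙 U) (s.pt.obj.iso.hom ≫ G.map ψ₂) :=
      IsHomLift.comp_lift_id_left' 𝒮.p U s.pt.obj.iso.hom (𝟙 U) (G.map ψ₂)
    apply Cocone.hom_ext h𝒮 hS (mapCocone F (mapCocone (FibCat.fpFst F G) s)) (𝟙 U) _ _
      (hφ := j5) (hψ := j6)
    intro a
    change F.map (l1 F G D s a) ≫ F.map ψ₁ ≫ t.pt.obj.iso.hom =
      F.map (l1 F G D s a) ≫ s.pt.obj.iso.hom ≫ G.map ψ₂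
    rw [← Category.assoc, ← F.toFunctor.map_comp, e₁, l_w, ← Category.assoc, l_w, Category.assoc,
      ← G.toFunctor.map_comp, e₂]
  refine ⟨fpHomMk ψ₁ ψ₂ hw, ⟨?_, ?_⟩, ?_⟩
  · exact (fp_isHomLift_iff F G (𝟙 U) _).mpr lψ₁
  · intro a
    apply fp_hom_ext
    · exact e₁ a
    · exact e₂ a
  · rintro χ ⟨hχ, hχ'⟩
    apply fp_hom_ext
    · change χ.hom.fst = ψ₁
      rw [hψ₁]
      apply hu₁
      refine ⟨(fp_isHomLift_iff F G (𝟙 U) χ).mp hχ, fun a => ?_⟩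
      exact congrArg (fun m => m.hom.fst) (hχ' a)
    · change χ.hom.snd = ψ₂
      rw [hψ₂]
      apply hu₂
      refine ⟨fp_isHomLift_snd_of' F G (𝟙 U) χ, fun a => ?_⟩
      exact congrArg (fun m => m.hom.snd) (hχ' a)

end Unique

theorem isStackFor_fp (h𝒳 : FibCat.IsFibGrpd 𝒳.p) (h𝒴 : FibCat.IsFibGrpd 𝒴.p)
    (h𝒮 : FibCat.IsFibGrpd 𝒮.p) (hX : Stk.IsStackFor R 𝒳) (hY : Stk.IsStackFor R 𝒴)
    (hS : Stk.IsPrestackFor R 𝒮) : Stk.IsStackFor R (FibCat.fp F G) := by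
  rw [isStackFor_iff (X6401 F G h𝒳 h𝒴 h𝒮)]
  constructor
  · intro D
    obtain ⟨s₁⟩ := ((isStackFor_iff h𝒳).mp hX).1 (BasedFunctor.comp D (FibCat.fpFst F G))
    obtain ⟨s₂⟩ := ((isStackFor_iff h𝒴).mp hY).1 (BasedFunctor.comp D (FibCat.fpSnd F G))
    exact exists_cocone_fp F G D s₁ s₂ h𝒮 hS
  · intro D s t
    exact unique_hom_fp F G D s t h𝒳 h𝒴 h𝒮 (isPrestackFor_of_isStackFor hX)
      (isPrestackFor_of_isStackFor hY) hS.2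

theorem isStack_fp (J : GrothendieckTopology C) (h𝒳 : Stk.IsStack J 𝒳) (h𝒴 : Stk.IsStack J 𝒴)
    (h𝒮 : Stk.IsPrestack J 𝒮) : Stk.IsStack J (FibCat.fp F G) :=
  ⟨X6401 F G h𝒳.1 h𝒴.1 h𝒮.1, fun _ R hR =>
    isStackFor_fp F G h𝒳.1 h𝒴.1 h𝒮.1 (h𝒳.2 R hR) (h𝒴.2 R hR) (h𝒮.2 R hR)⟩

theorem isFibSetoid_fp (h𝒳 : FibCat.IsFibSetoid 𝒳.p) (h𝒴 : FibCat.IsFibSetoid 𝒴.p)
    (h𝒮 : FibCat.IsFibGrpd 𝒮.p) : FibCat.IsFibSetoid (FibCat.fp F G).p := by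
  refine ⟨X6401 F G h𝒳.1 h𝒴.1 h𝒮, fun U X Y => ⟨fun φ ψ => ?_⟩⟩
  have hφ : (FibCat.fp F G).p.IsHomLift (𝟙 U) φ.1 := φ.2
  have hψ : (FibCat.fp F G).p.IsHomLift (𝟙 U) ψ.1 := ψ.2
  apply Fiber.hom_ext
  change φ.1 = ψ.1
  apply fp_hom_ext
  · have i1 := (fp_isHomLift_iff F G (𝟙 U) φ.1).mp hφ
    have i2 := (fp_isHomLift_iff F G (𝟙 U) ψ.1).mp hψ
    exact hom_eq_of_isFibSetoid 𝒳.p h𝒳 (𝟙 U) _ _
  · have i1 := fp_isHomLift_snd_of' F G (𝟙 U) φ.1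
    have i2 := fp_isHomLift_snd_of' F G (𝟙 U) ψ.1
    exact hom_eq_of_isFibSetoid 𝒴.p h𝒴 (𝟙 U) _ _

end S12792

end Groth.Agent.H3.StackMore
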