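import Mathlib
import Groth.Prelude.Def_AlgSt
import Groth.Agent.Lib.Helper3.StackMore

/-!
# A category over a stack whose fibres over all charts are stacks is a stack (helper3)
-/

set_option autoImplicit false

universe w v₄ u₄ v₃ u₃ v₂ u₂ v u

open CategoryTheory CategoryTheory.Functor CategoryTheory.Limits Opposite

namespace Groth.Agent.H3.StackFibrewise

open Groth.Agent.H3.FibCatAux Groth.Agent.H3.FibCatYoneda Groth.Agent.H3.StackDescent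
  Groth.Agent.H3.StackMore

variable {C : Type u} [Category.{v} C] {𝒳 : BasedCategory.{v₂, u₂} C} {𝒴 : BasedCategory.{v₃, u₃} C}
  (j : 𝒳 ⥤ᵇ 𝒴) {U : C} {R : Sieve U}

section Datum

variable (h𝒴 : FibCat.IsFibGrpd 𝒴.p) (D : Stk.sieveCat R ⥤ᵇ 𝒳)
  (t : Cocone (BasedFunctor.comp D j))
  (y : FibCat.overCat U ⥤ᵇ 𝒴) (e : y.obj (Over.mk (𝟙 U)) ⟶ t.pt) [he : 𝒴.p.IsHomLift (𝟙 U) e]

/-- the descent datum in the fibre over the chart `y` attached to a descent datum `D` of `𝒳` and a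
cocone on its image in `𝒴` -/
noncomputable def datum : Stk.sieveCat R ⥤ᵇ FibCat.fp y j :=
  FibCat.fpLift (Stk.sieveIncl R) D (compIso h𝒴 t y e).symm

lemma datum_obj_iso_inv (a : R.arrows.category) :
    ((datum j h𝒴 D t y e).obj a).obj.iso.inv = compApp h𝒴 t y e a := rfl

lemma datum_obj_snd (a : R.arrows.category) : ((datum j h𝒴 D t y e).obj a).obj.snd = D.obj a := rfl

lemma datum_obj_fst (a : R.arrows.category) : ((datum j h𝒴 D t y e).obj a).obj.fst = a.obj := rfl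

lemma datum_iso_fac (a : R.arrows.category) :
    ((datum j h𝒴 D t y e).obj a).obj.iso.hom ≫ t.ι a = y.map (toId a.obj) ≫ e := by
  have h := compApp_fac h𝒴 t y e a
  rw [← datum_obj_iso_inv j] at h
  rw [← h]
  exact Iso.hom_inv_id_assoc _ _

/-- a cocone on the datum in the fibre gives a cocone on the original datum -/
noncomputable def coconeOfFibre (s' : Cocone (datum j h𝒴 D t y e)) : Cocone D where
  pt := s'.pt.obj.snd
  pt_proj := ((FibCat.fpSnd y j).w_obj s'.pt).trans s'.pt_proj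
  ι a := (s'.ι a).hom.snd
  ι_lift a := by
    have := s'.ι_lift a
    exact fp_isHomLift_snd_of' y j a.obj.hom (s'.ι a)
  w a b f := congrArg (fun m => m.hom.snd) (s'.w f)

end Datum

section Unique

variable (h𝒴 : FibCat.IsFibGrpd 𝒴.p) (D : Stk.sieveCat R ⥤ᵇ 𝒳) (s t : Cocone D)
  (y : FibCat.overCat U ⥤ᵇ 𝒴) (e : y.obj (Over.mk (𝟙 U)) ⟶ (mapCocone j t).pt)
  [he : 𝒴.p.IsHomLift (𝟙 U) e]

omit he in
lemma inv_lift {𝒵 : BasedCategory.{v₄, u₄} C} {A B : 𝒵.obj} (i : A ≅ B) {V : C}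
    (h : 𝒵.p.IsHomLift (𝟙 V) i.hom) : 𝒵.p.IsHomLift (𝟙 V) i.inv := by
  have h1 := IsHomLift.inv 𝒵.p (𝟙 V) i.hom
  rw [IsIso.inv_id] at h1
  have h2 : CategoryTheory.inv i.hom = i.inv := IsIso.Iso.inv_hom i
  rw [h2] at h1
  exact h1

/-- `e` as an isomorphism -/
noncomputable def eIso : y.obj (Over.mk (𝟙 U)) ≅ j.obj t.pt :=
  @asIso _ _ _ _ e (isIso_of_isHomLift_id 𝒴.p h𝒴 (U := U) e)

lemma eIso_hom : (eIso j h𝒴 D t y e).hom = e := rfl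

/-- the cocone over the datum in the fibre with vertex `(id, t.pt, e)` -/
noncomputable def coconeT : Cocone (datum j h𝒴 D (mapCocone j t) y e) where
  pt := fpMk y j (Over.mk (𝟙 U)) t.pt (eIso j h𝒴 D t y e) he
  pt_proj := rfl
  ι a := fpHomMk (X := (datum j h𝒴 D (mapCocone j t) y e).obj a)
    (Y := fpMk y j (Over.mk (𝟙 U)) t.pt (eIso j h𝒴 D t y e) he) (toId a.obj) (t.ι a)
    (datum_iso_fac j h𝒴 D (mapCocone j t) y e a).symm
  ι_lift a := by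
    rw [fp_isHomLift_iff]
    exact toId_isHomLift a.obj
  w a b f := by
    apply fp_hom_ext
    · exact toId_comp f.hom
    · exact t.w f

variable (ψ : j.obj s.pt ⟶ j.obj t.pt) [hψ : 𝒴.p.IsHomLift (𝟙 U) ψ]
  (hψ' : ∀ a, j.map (s.ι a) ≫ ψ = j.map (t.ι a))

/-- `ψ` as an isomorphism -/
noncomputable def ψIso : j.obj s.pt ≅ j.obj t.pt :=
  @asIso _ _ _ _ ψ (isIso_of_isHomLift_id 𝒴.p h𝒴 (U := U) ψ)

lemma sIso_lift : 𝒴.p.IsHomLift (𝟙 U) (eIso j h𝒴 D t y e ≪≫ (ψIso j h𝒴 D s t ψ).symm).hom := by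
  have h1 : 𝒴.p.IsHomLift (𝟙 U) (ψIso j h𝒴 D s t ψ).symm.hom :=
    inv_lift (ψIso j h𝒴 D s t ψ) hψ
  show 𝒴.p.IsHomLift (𝟙 U) (e ≫ (ψIso j h𝒴 D s t ψ).symm.hom)
  exact @IsHomLift.comp_of_lift_id _ _ _ _ 𝒴.p U _ _ _ e _ he h1

omit he hψ in
lemma cat_aux2 {E : Type u₄} [Category.{v₄} E] {A B T S' X : E} (m : A ⟶ B) (e : B ⟶ T) (i : A ⟶ X)
    (pt : X ⟶ T) (ps : X ⟶ S') (ψ : S' ≅ T) (h2 : i ≫ pt = m ≫ e) (hψ : ps ≫ ψ.hom = pt) :
    m ≫ (e ≫ ψ.inv) = i ≫ ps := by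
  subst hψ
  rw [← Category.assoc, ← h2]
  simp

include hψ' in
lemma coconeS_w (a : R.arrows.category) :
    y.map (toId a.obj) ≫ (eIso j h𝒴 D t y e ≪≫ (ψIso j h𝒴 D s t ψ).symm).hom =
      ((datum j h𝒴 D (mapCocone j t) y e).obj a).obj.iso.hom ≫ j.map (s.ι a) :=
  cat_aux2 _ _ _ _ _ (ψIso j h𝒴 D s t ψ) (datum_iso_fac j h𝒴 D (mapCocone j t) y e a) (hψ' a)

/-- the cocone over the datum in the fibre with vertex `(id, s.pt, ψ⁻¹ ∘ e)` -/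
noncomputable def coconeS : Cocone (datum j h𝒴 D (mapCocone j t) y e) where
  pt := fpMk y j (Over.mk (𝟙 U)) s.pt (eIso j h𝒴 D t y e ≪≫ (ψIso j h𝒴 D s t ψ).symm)
    (sIso_lift j h𝒴 D s t y e ψ)
  pt_proj := rfl
  ι a := fpHomMk (X := (datum j h𝒴 D (mapCocone j t) y e).obj a)
    (Y := fpMk y j (Over.mk (𝟙 U)) s.pt (eIso j h𝒴 D t y e ≪≫ (ψIso j h𝒴 D s t ψ).symm)
      (sIso_lift j h𝒴 D s t y e ψ)) (toId a.obj) (s.ι a)
    (coconeS_w j h𝒴 D s t y e ψ hψ' a)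
  ι_lift a := by
    rw [fp_isHomLift_iff]
    exact toId_isHomLift a.obj
  w a b f := by
    apply fp_hom_ext
    · exact toId_comp f.hom
    · exact s.w f

end Unique

section Main

omit j in
lemma cat_aux3 {E : Type u₄} [Category.{v₄} E] {B T S' : E} (e : B ⟶ T) (ψ : S' ≅ T) (m : B ⟶ B)
    (q : S' ⟶ T) (hm : m = 𝟙 B) (hq : q = ψ.hom) : m ≫ e = (e ≫ ψ.inv) ≫ q := by
  subst hm hq; simp

/-- **Fibrewise criterion**: if `𝒴` satisfies descent for the sieve `R` and so do all the fibres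
`(C/U) ×_𝒴 𝒳` of `j : 𝒳 ⟶ 𝒴` over charts `y : C/U ⟶ 𝒴`, then so does `𝒳`. -/
theorem isStackFor_of_fibrewise (h𝒳 : FibCat.IsFibGrpd 𝒳.p) (h𝒴 : FibCat.IsFibGrpd 𝒴.p)
    (hY : Stk.IsStackFor R 𝒴)
    (hfib : ∀ y : FibCat.overCat U ⥤ᵇ 𝒴, Stk.IsStackFor R (FibCat.fp y j)) :
    Stk.IsStackFor R 𝒳 := by
  have hfibY : 𝒴.p.IsFibered := isFibered_of_isFibGrpd 𝒴.p h𝒴
  have hfp : ∀ y : FibCat.overCat U ⥤ᵇ 𝒴, FibCat.IsFibGrpd (FibCat.fp y j).p :=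
    fun y => X6401 y j (isFibGrpd_overForget U) h𝒳 h𝒴
  rw [isStackFor_iff h𝒳]
  constructor
  · intro D
    obtain ⟨t⟩ := ((isStackFor_iff h𝒴).mp hY).1 (BasedFunctor.comp D j)
    obtain ⟨y, e, he⟩ := exists_pb_leg t.pt t.pt_proj
    obtain ⟨s'⟩ := ((isStackFor_iff (hfp y)).mp (hfib y)).1 (datum j h𝒴 D t y e)
    exact ⟨coconeOfFibre j h𝒴 D t y e s'⟩
  · intro D s t
    obtain ⟨ψ₀, ⟨hψ₀, hψ₀'⟩, hψu⟩ := ((isStackFor_iff h𝒴).mp hY).2 (BasedFunctor.comp D j)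
      (mapCocone j s) (mapCocone j t)
    obtain ⟨ψ, hψeq⟩ : ∃ ψ : j.obj s.pt ⟶ j.obj t.pt, ψ = ψ₀ := ⟨ψ₀, rfl⟩
    have hψ : 𝒴.p.IsHomLift (𝟙 U) ψ := by rw [hψeq]; exact hψ₀
    have hψ' : ∀ a, j.map (s.ι a) ≫ ψ = j.map (t.ι a) := by
      intro a; rw [hψeq]; exact hψ₀' a
    obtain ⟨y, e, he⟩ := exists_pb_leg (mapCocone j t).pt (mapCocone j t).pt_proj
    obtain ⟨Φ, ⟨hΦ, hΦ'⟩, hΦu⟩ := ((isStackFor_iff (hfp y)).mp (hfib y)).2 _
      (coconeS j h𝒴 D s t y e ψ hψ') (coconeT j h𝒴 D t y e)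
    obtain ⟨φ, hφeq⟩ : ∃ φ : s.pt ⟶ t.pt, φ = Φ.hom.snd := ⟨Φ.hom.snd, rfl⟩
    refine ⟨φ, ⟨?_, ?_⟩, ?_⟩
    · rw [hφeq]; exact fp_isHomLift_snd_of' y j (𝟙 U) Φ
    · intro a
      rw [hφeq]
      exact congrArg (fun m => m.hom.snd) (hΦ' a)
    · rintro φ' ⟨hφ', hφ''⟩
      have hjφ : j.map φ' = ψ := by
        rw [hψeq]
        apply hψu
        refine ⟨BasedFunctor.preserves_isHomLift j (𝟙 U) φ', fun a => ?_⟩
        show j.map (s.ι a) ≫ j.map φ' = j.map (t.ι a)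
        rw [← j.toFunctor.map_comp, hφ'' a]
      have hw : y.map (𝟙 (Over.mk (𝟙 U))) ≫ (coconeT j h𝒴 D t y e).pt.obj.iso.hom =
          (coconeS j h𝒴 D s t y e ψ hψ').pt.obj.iso.hom ≫ j.map φ' :=
        cat_aux3 e (ψIso j h𝒴 D s t ψ) _ _ (y.toFunctor.map_id _) hjφ
      let Φ' : (coconeS j h𝒴 D s t y e ψ hψ').pt ⟶ (coconeT j h𝒴 D t y e).pt :=
        fpHomMk (𝟙 (Over.mk (𝟙 U))) φ' hw
      have hΦ'eq : Φ' = Φ := by
        apply hΦu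
        refine ⟨?_, fun a => ?_⟩
        · rw [fp_isHomLift_iff]
          show (Over.forget U).IsHomLift (𝟙 U) (𝟙 (Over.mk (𝟙 U)))
          exact IsHomLift.id rfl
        · apply fp_hom_ext
          · exact Category.comp_id _
          · exact hφ'' a
      rw [hφeq, ← hΦ'eq]
      rfl

/-- a category fibred in groupoids over a stack, all of whose fibres over charts are stacks, is a
stack -/
theorem isStack_of_fibrewise (J : GrothendieckTopology C) (h𝒳 : FibCat.IsFibGrpd 𝒳.p)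
    (h𝒴 : Stk.IsStack J 𝒴)
    (hfib : ∀ (U : C) (y : FibCat.overCat U ⥤ᵇ 𝒴), Stk.IsStack J (FibCat.fp y j)) :
    Stk.IsStack J 𝒳 :=
  ⟨h𝒳, fun U R hR => isStackFor_of_fibrewise j h𝒳 h𝒴.1 (h𝒴.2 R hR)
    (fun y => (hfib U y).2 R hR)⟩

end Main

end Groth.Agent.H3.StackFibrewise
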