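import Mathlib
import Groth.Prelude.Def_StGerb
import Groth.Agent.Lib.Helper3.FibCatAux

set_option autoImplicit false

universe v₅ u₅ v₄ u₄ v₃ u₃ v₂ u₂ v u

open CategoryTheory CategoryTheory.Functor CategoryTheory.Limits

namespace Groth.Agent.H3.GerbAux

open Groth.Agent.H3.FibCatAux

section FibGrpdEquiv

variable {C : Type u} [Category.{v} C] {𝒳 : BasedCategory.{v₂, u₂} C} {𝒴 : BasedCategory.{v₃, u₃} C}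

lemma isFibGrpd_of_isEquivOver (F : 𝒳 ⥤ᵇ 𝒴) (hF : FibCat.IsEquivOver F) (h : FibCat.IsFibGrpd 𝒳.p) :
    FibCat.IsFibGrpd 𝒴.p := by
  have hfib : 𝒳.p.IsFibered := isFibered_of_isFibGrpd _ h
  have hfib' : 𝒴.p.IsFibered := isFibered_of_isEquivOver F hF
  obtain ⟨G, ⟨e₁⟩, ⟨e₂⟩⟩ := hF
  have hG : G.toFunctor.IsEquivalence := isEquivalence_of_isos G F e₂ e₁
  refine ⟨?_, ?_⟩
  · intro x V f
    obtain ⟨y, φ, hφ⟩ := IsPreFibered.exists_isCartesian' (p := 𝒴.p) f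
    exact ⟨y, φ, inferInstance⟩
  · intro y x φ
    have h1 : 𝒳.p.IsStronglyCartesian (𝒴.p.map φ) (G.map φ) :=
      isStronglyCartesian_of_isHomLift 𝒳.p h _ _
    exact isStronglyCartesian_of_map_of_fullyFaithful G (𝒴.p.map φ) φ

lemma isFibGrpd_iff_of_isEquivOver (F : 𝒳 ⥤ᵇ 𝒴) (hF : FibCat.IsEquivOver F) :
    FibCat.IsFibGrpd 𝒳.p ↔ FibCat.IsFibGrpd 𝒴.p := by
  constructor
  · exact isFibGrpd_of_isEquivOver F hF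
  · obtain ⟨G, ⟨e₁⟩, ⟨e₂⟩⟩ := hF
    exact isFibGrpd_of_isEquivOver G ⟨F, ⟨e₂⟩, ⟨e₁⟩⟩

end FibGrpdEquiv

section StackEquiv

variable {C : Type u} [Category.{v} C] {𝒳 𝒴 : BasedCategory.{v₂, u₂} C}

open Bicategory

lemma isStackFor_of_isEquivOver {𝒜 ℬ : BasedCategory.{v₂, u₂} C} (ι : 𝒜 ⥤ᵇ ℬ) (F : 𝒳 ⥤ᵇ 𝒴) (hF : FibCat.IsEquivOver F)
    (h : (Stk.restr ι 𝒳).IsEquivalence) : (Stk.restr ι 𝒴).IsEquivalence := by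
  obtain ⟨G, ⟨e₁⟩, ⟨e₂⟩⟩ := hF
  have h1 : (Bicategory.postcomp ℬ (show 𝒳 ⟶ 𝒴 from F)).IsEquivalence :=
    postcomp_isEquivalence ℬ (show 𝒳 ⟶ 𝒴 from F) (show 𝒴 ⟶ 𝒳 from G) e₁ e₂
  have h2 : (Bicategory.postcomp 𝒜 (show 𝒳 ⟶ 𝒴 from F)).IsEquivalence :=
    postcomp_isEquivalence 𝒜 (show 𝒳 ⟶ 𝒴 from F) (show 𝒴 ⟶ 𝒳 from G) e₁ e₂
  have e : Bicategory.postcomp ℬ (show 𝒳 ⟶ 𝒴 from F) ⋙ Stk.restr ι 𝒴 ≅
      Stk.restr ι 𝒳 ⋙ Bicategory.postcomp 𝒜 (show 𝒳 ⟶ 𝒴 from F) :=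
    NatIso.ofComponents (fun H => Iso.refl _) (by
      intro H H' α
      apply BasedNatTrans.homCategory.ext
      ext x
      erw [Category.comp_id, Category.id_comp]
      rfl)
  have h3 : (Bicategory.postcomp ℬ (show 𝒳 ⟶ 𝒴 from F) ⋙ Stk.restr ι 𝒴).IsEquivalence :=
    Functor.isEquivalence_of_iso e.symm
  exact Functor.isEquivalence_of_comp_left (Bicategory.postcomp ℬ (show 𝒳 ⟶ 𝒴 from F)) _

theorem isStack_of_isEquivOver (J : GrothendieckTopology C) {𝒳 𝒴 : BasedCategory.{v, max u v} C}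
    (F : 𝒳 ⥤ᵇ 𝒴) (hF : FibCat.IsEquivOver F) (h : Stk.IsStack J 𝒳) : Stk.IsStack J 𝒴 :=
  ⟨isFibGrpd_of_isEquivOver F hF h.1, fun _ R hR =>
    isStackFor_of_isEquivOver (Stk.sieveIncl R) F hF (h.2 R hR)⟩

theorem isStack_iff_of_isEquivOver (J : GrothendieckTopology C) {𝒳 𝒴 : BasedCategory.{v, max u v} C}
    (F : 𝒳 ⥤ᵇ 𝒴) (hF : FibCat.IsEquivOver F) : Stk.IsStack J 𝒳 ↔ Stk.IsStack J 𝒴 := by
  constructor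
  · exact isStack_of_isEquivOver J F hF
  · obtain ⟨G, ⟨e₁⟩, ⟨e₂⟩⟩ := hF
    exact isStack_of_isEquivOver J G ⟨F, ⟨e₂⟩, ⟨e₁⟩⟩

end StackEquiv

section SetoidEquiv

variable {C : Type u} [Category.{v} C] {𝒳 : BasedCategory.{v₂, u₂} C} {𝒴 : BasedCategory.{v₃, u₃} C}

lemma isFibSetoid_of_isEquivOver (F : 𝒳 ⥤ᵇ 𝒴) (hF : FibCat.IsEquivOver F) (h : FibCat.IsFibSetoid 𝒳.p) :
    FibCat.IsFibSetoid 𝒴.p := by
  refine ⟨isFibGrpd_of_isEquivOver F hF h.1, ?_⟩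
  obtain ⟨G, ⟨e₁⟩, ⟨e₂⟩⟩ := hF
  have hG : G.toFunctor.IsEquivalence := isEquivalence_of_isos G F e₂ e₁
  intro U a b
  constructor
  intro f g
  have hf : 𝒴.p.IsHomLift (𝟙 U) f.1 := f.2
  have hg : 𝒴.p.IsHomLift (𝟙 U) g.1 := g.2
  have h1 : G.map f.1 = G.map g.1 := hom_eq_of_isFibSetoid 𝒳.p h (𝟙 U) _ _
  apply Fiber.hom_ext
  exact G.toFunctor.map_injective h1

lemma isFibSetoid_iff_of_isEquivOver (F : 𝒳 ⥤ᵇ 𝒴) (hF : FibCat.IsEquivOver F) :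
    FibCat.IsFibSetoid 𝒳.p ↔ FibCat.IsFibSetoid 𝒴.p := by
  constructor
  · exact isFibSetoid_of_isEquivOver F hF
  · obtain ⟨G, ⟨e₁⟩, ⟨e₂⟩⟩ := hF
    exact isFibSetoid_of_isEquivOver G ⟨F, ⟨e₂⟩, ⟨e₁⟩⟩

end SetoidEquiv

section Gerbe

variable {C : Type u} [Category.{v} C] (J : GrothendieckTopology C)
  {𝒳 : BasedCategory.{v₂, u₂} C} {𝒴 : BasedCategory.{v₃, u₃} C} {𝒵 : BasedCategory.{v₄, u₄} C}

lemma locSurjObj_iff (F : 𝒳 ⥤ᵇ 𝒴) : Gerb.LocSurjObj J F ↔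
    ∀ (U : C) (y : 𝒴.obj), 𝒴.p.obj y = U → ∃ R ∈ J U, ∀ ⦃V : C⦄ (f : V ⟶ U), R f →
      ∃ (x : 𝒳.obj) (g : F.obj x ⟶ y), 𝒴.p.IsHomLift f g := by
  constructor
  · intro h U y hy
    subst hy
    exact h y
  · intro h y
    exact h _ y rfl

lemma locSurjHom_iff (F : 𝒳 ⥤ᵇ 𝒴) : Gerb.LocSurjHom J F ↔
    ∀ (U : C) (x x' : 𝒳.obj) (b : F.obj x ⟶ F.obj x'), 𝒴.p.IsHomLift (𝟙 U) b →
      ∃ R ∈ J U, ∀ ⦃V : C⦄ (f : V ⟶ U), R f →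
        ∃ (x₀ : 𝒳.obj) (φ : x₀ ⟶ x) (ψ : x₀ ⟶ x'),
          𝒳.p.IsHomLift f φ ∧ 𝒳.p.IsHomLift f ψ ∧ F.map φ ≫ b = F.map ψ := by
  constructor
  · intro h U x x' b hb
    have hx : 𝒳.p.obj x = U := (F.w_obj x).symm.trans (IsHomLift.domain_eq 𝒴.p (𝟙 U) b)
    subst hx
    exact h x x' b hb
  · intro h x x' b hb
    exact h _ x x' b hb

lemma exists_lift' {𝒮 : Type u₂} [Category.{v₂} 𝒮] {p : 𝒮 ⥤ C} (h : FibCat.IsFibGrpd p) {U V : C} (f : V ⟶ U)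
    (x : 𝒮) (hx : p.obj x = U) : ∃ (y : 𝒮) (φ : y ⟶ x), p.IsHomLift f φ := by
  subst hx
  exact h.exists_lift f

lemma locSurjObj_comp (F : 𝒳 ⥤ᵇ 𝒴) (G : 𝒴 ⥤ᵇ 𝒵) (hF : Gerb.LocSurjObj J F) (hG : Gerb.LocSurjObj J G) :
    Gerb.LocSurjObj J (BasedFunctor.comp F G) := by
  rw [locSurjObj_iff] at hF hG ⊢
  intro U z hz
  obtain ⟨R, hR, h1⟩ := hG U z hz
  have h2 : ∀ ⦃V : C⦄ (f : V ⟶ U), R f → ∃ R' ∈ J V, ∀ ⦃W : C⦄ (h : W ⟶ V), R' h →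
      ∃ (x : 𝒳.obj) (g : G.obj (F.obj x) ⟶ z), 𝒵.p.IsHomLift (h ≫ f) g := by
    intro V f hf
    obtain ⟨y, g, hg⟩ := h1 f hf
    have hy : 𝒴.p.obj y = V := (G.w_obj y).symm.trans (IsHomLift.domain_eq 𝒵.p f g)
    obtain ⟨R', hR', h3⟩ := hF V y hy
    refine ⟨R', hR', fun W h hh => ?_⟩
    obtain ⟨x, g', hg'⟩ := h3 h hh
    exact ⟨x, G.map g' ≫ g, inferInstance⟩
  choose S hS hS' using h2
  refine ⟨Sieve.bind R (fun V f hf => S f hf), J.bind_covering hR (fun V f hf => hS f hf), ?_⟩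
  rintro W k ⟨V, h, f, hf, hh, rfl⟩
  exact hS' f hf h hh

lemma locSurjHom_comp_aux (h𝒳 : FibCat.IsFibGrpd 𝒳.p) (h𝒴 : FibCat.IsFibGrpd 𝒴.p)
    (F : 𝒳 ⥤ᵇ 𝒴) (G : 𝒴 ⥤ᵇ 𝒵) (hF : Gerb.LocSurjHom J F) (hG : Gerb.LocSurjHom J G) :
    ∀ (U : C) (x x' : 𝒳.obj) (b : G.obj (F.obj x) ⟶ G.obj (F.obj x')), 𝒵.p.IsHomLift (𝟙 U) b →
      ∃ R ∈ J U, ∀ ⦃V : C⦄ (f : V ⟶ U), R f →
        ∃ (x₀ : 𝒳.obj) (φ : x₀ ⟶ x) (ψ : x₀ ⟶ x'),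
          𝒳.p.IsHomLift f φ ∧ 𝒳.p.IsHomLift f ψ ∧ G.map (F.map φ) ≫ b = G.map (F.map ψ) := by
  rw [locSurjHom_iff] at hF hG
  intro U x x' b hb
  have hx : 𝒳.p.obj x = U :=
    (F.w_obj x).symm.trans ((G.w_obj _).symm.trans (IsHomLift.domain_eq 𝒵.p (𝟙 U) b))
  have hx' : 𝒳.p.obj x' = U :=
    (F.w_obj x').symm.trans ((G.w_obj _).symm.trans (IsHomLift.codomain_eq 𝒵.p (𝟙 U) b))
  obtain ⟨R, hR, h1⟩ := hG U (F.obj x) (F.obj x') b hb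
  have h2 : ∀ ⦃V : C⦄ (f : V ⟶ U), R f → ∃ R' ∈ J V, ∀ ⦃W : C⦄ (h : W ⟶ V), R' h →
      ∃ (x₀ : 𝒳.obj) (φ : x₀ ⟶ x) (ψ : x₀ ⟶ x'),
        𝒳.p.IsHomLift (h ≫ f) φ ∧ 𝒳.p.IsHomLift (h ≫ f) ψ ∧
          G.map (F.map φ) ≫ b = G.map (F.map ψ) := by
    intro V f hf
    obtain ⟨y₀, φ', ψ', hφ', hψ', hcomm⟩ := h1 f hf
    obtain ⟨xV, c, hc⟩ := exists_lift' h𝒳 f x hx
    obtain ⟨xV', c', hc'⟩ := exists_lift' h𝒳 f x' hx'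
    have hFc : 𝒴.p.IsStronglyCartesian f (F.map c) := isStronglyCartesian_of_isHomLift 𝒴.p h𝒴 f _
    have hFc' : 𝒴.p.IsStronglyCartesian f (F.map c') := isStronglyCartesian_of_isHomLift 𝒴.p h𝒴 f _
    obtain ⟨t, htd⟩ : ∃ t : y₀ ⟶ F.obj xV, t = IsCartesian.map 𝒴.p f (F.map c) φ' := ⟨_, rfl⟩
    obtain ⟨t', htd'⟩ : ∃ t' : y₀ ⟶ F.obj xV', t' = IsCartesian.map 𝒴.p f (F.map c') ψ' := ⟨_, rfl⟩
    have ht : t ≫ F.map c = φ' := by rw [htd]; exact IsCartesian.fac 𝒴.p f (F.map c) φ'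
    have ht' : t' ≫ F.map c' = ψ' := by rw [htd']; exact IsCartesian.fac 𝒴.p f (F.map c') ψ'
    have htl : 𝒴.p.IsHomLift (𝟙 V) t := by rw [htd]; exact IsCartesian.map_isHomLift 𝒴.p f (F.map c) φ'
    have htl' : 𝒴.p.IsHomLift (𝟙 V) t' := by
      rw [htd']; exact IsCartesian.map_isHomLift 𝒴.p f (F.map c') ψ'
    have hti : IsIso t := isIso_of_isHomLift_id 𝒴.p h𝒴 (U := V) t
    have hbV : 𝒴.p.IsHomLift (𝟙 V) (inv t ≫ t') := inferInstance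
    obtain ⟨R', hR', h3⟩ := hF V xV xV' (inv t ≫ t') hbV
    refine ⟨R', hR', fun W h hh => ?_⟩
    obtain ⟨x₀, α, β, hα, hβ, hαβ⟩ := h3 h hh
    refine ⟨x₀, α ≫ c, β ≫ c', inferInstance, inferInstance, ?_⟩
    have e1 : F.map c = inv t ≫ φ' := by rw [← ht, IsIso.inv_hom_id_assoc]
    have e2 : G.map (F.map c) ≫ b = G.map (inv t ≫ t') ≫ G.map (F.map c') := by
      rw [e1, G.map_comp, Category.assoc, hcomm, ← ht', G.map_comp, G.map_comp,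
        Category.assoc]
    rw [F.map_comp, G.map_comp, Category.assoc, e2, ← Category.assoc, ← G.map_comp, hαβ,
      ← G.map_comp, ← F.map_comp]
  choose S hS hS' using h2
  refine ⟨Sieve.bind R (fun V f hf => S f hf), J.bind_covering hR (fun V f hf => hS f hf), ?_⟩
  rintro W k ⟨V, h, f, hf, hh, rfl⟩
  exact hS' f hf h hh

lemma locSurjHom_comp (h𝒳 : FibCat.IsFibGrpd 𝒳.p) (h𝒴 : FibCat.IsFibGrpd 𝒴.p)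
    (F : 𝒳 ⥤ᵇ 𝒴) (G : 𝒴 ⥤ᵇ 𝒵) (hF : Gerb.LocSurjHom J F) (hG : Gerb.LocSurjHom J G) :
    Gerb.LocSurjHom J (BasedFunctor.comp F G) := by
  rw [locSurjHom_iff]
  exact locSurjHom_comp_aux J h𝒳 h𝒴 F G hF hG

theorem isGerbeOver_comp (h𝒳 : FibCat.IsFibGrpd 𝒳.p) (h𝒴 : FibCat.IsFibGrpd 𝒴.p)
    (F : 𝒳 ⥤ᵇ 𝒴) (G : 𝒴 ⥤ᵇ 𝒵) (hF : Gerb.IsGerbeOver J F) (hG : Gerb.IsGerbeOver J G) :
    Gerb.IsGerbeOver J (BasedFunctor.comp F G) :=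
  ⟨locSurjObj_comp J F G hF.1 hG.1, locSurjHom_comp J h𝒳 h𝒴 F G hF.2 hG.2⟩


/-- invariance of gerbes under 2-isomorphism -/
theorem isGerbeOver_of_iso {F F' : 𝒳 ⥤ᵇ 𝒴} (e : F ≅ F') (hF : Gerb.IsGerbeOver J F) :
    Gerb.IsGerbeOver J F' := by
  obtain ⟨h1, h2⟩ := hF
  rw [locSurjObj_iff] at h1
  rw [locSurjHom_iff] at h2
  refine ⟨?_, ?_⟩
  · rw [locSurjObj_iff]
    intro U y hy
    obtain ⟨R, hR, h3⟩ := h1 U y hy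
    refine ⟨R, hR, fun V f hf => ?_⟩
    obtain ⟨x, g, hg⟩ := h3 f hf
    have hx : 𝒳.p.obj x = V := (F.w_obj x).symm.trans (IsHomLift.domain_eq 𝒴.p f g)
    have : 𝒴.p.IsHomLift (𝟙 V) (e.inv.toNatTrans.app x) := BasedNatTrans.isHomLift e.inv hx
    exact ⟨x, e.inv.toNatTrans.app x ≫ g, inferInstance⟩
  · rw [locSurjHom_iff]
    intro U x x' b hb
    have hx : 𝒳.p.obj x = U := (F'.w_obj x).symm.trans (IsHomLift.domain_eq 𝒴.p (𝟙 U) b)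
    have hx' : 𝒳.p.obj x' = U := (F'.w_obj x').symm.trans (IsHomLift.codomain_eq 𝒴.p (𝟙 U) b)
    have l1 : 𝒴.p.IsHomLift (𝟙 U) (e.hom.toNatTrans.app x) := BasedNatTrans.isHomLift e.hom hx
    have l2 : 𝒴.p.IsHomLift (𝟙 U) (e.inv.toNatTrans.app x') := BasedNatTrans.isHomLift e.inv hx'
    have hb₀ : 𝒴.p.IsHomLift (𝟙 U) (e.hom.toNatTrans.app x ≫ b ≫ e.inv.toNatTrans.app x') :=
      inferInstance
    obtain ⟨R, hR, h3⟩ := h2 U x x' _ hb₀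
    refine ⟨R, hR, fun V f hf => ?_⟩
    obtain ⟨x₀, φ, ψ, hφ, hψ, hc⟩ := h3 f hf
    refine ⟨x₀, φ, ψ, hφ, hψ, ?_⟩
    have n1 : F.map φ ≫ e.hom.toNatTrans.app x = e.hom.toNatTrans.app x₀ ≫ F'.map φ :=
      e.hom.toNatTrans.naturality φ
    have n2 : F.map ψ ≫ e.hom.toNatTrans.app x' = e.hom.toNatTrans.app x₀ ≫ F'.map ψ :=
      e.hom.toNatTrans.naturality ψ
    have i1 : e.inv.toNatTrans.app x' ≫ e.hom.toNatTrans.app x' = 𝟙 _ := by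
      have := congrArg (fun t => t.toNatTrans.app x') e.inv_hom_id
      exact this
    have i0 : IsIso (e.hom.toNatTrans.app x₀) := by
      refine ⟨e.inv.toNatTrans.app x₀, ?_, ?_⟩
      · exact congrArg (fun t => t.toNatTrans.app x₀) e.hom_inv_id
      · exact congrArg (fun t => t.toNatTrans.app x₀) e.inv_hom_id
    rw [← cancel_epi (e.hom.toNatTrans.app x₀), ← n2, ← hc, ← reassoc_of% n1]
    simp only [Category.assoc]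
    rw [i1, Category.comp_id]

/-- an equivalence over `C` is a gerbe -/
theorem isGerbeOver_of_isEquivOver (h𝒳 : FibCat.IsFibGrpd 𝒳.p) (E : 𝒳 ⥤ᵇ 𝒴) (hE : FibCat.IsEquivOver E) :
    Gerb.IsGerbeOver J E := by
  have hEq : E.toFunctor.IsEquivalence := isEquivalence_of_isEquivOver E hE
  obtain ⟨G, ⟨e₁⟩, ⟨e₂⟩⟩ := hE
  refine ⟨?_, ?_⟩
  · rw [locSurjObj_iff]
    intro U y hy
    refine ⟨⊤, J.top_mem U, fun V f _ => ?_⟩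
    have hGy : 𝒳.p.obj (G.obj y) = U := (G.w_obj y).trans hy
    obtain ⟨x, c, hc⟩ := exists_lift' h𝒳 f (G.obj y) hGy
    obtain ⟨ε, hε⟩ : ∃ ε : E.obj (G.obj y) ⟶ y, 𝒴.p.IsHomLift (𝟙 U) ε :=
      ⟨e₂.hom.toNatTrans.app y, BasedNatTrans.isHomLift e₂.hom hy⟩
    exact ⟨x, E.map c ≫ ε, inferInstance⟩
  · rw [locSurjHom_iff]
    intro U x x' b hb
    have hx : 𝒳.p.obj x = U := (E.w_obj x).symm.trans (IsHomLift.domain_eq 𝒴.p (𝟙 U) b)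
    refine ⟨⊤, J.top_mem U, fun V f _ => ?_⟩
    obtain ⟨x₀, c, hc⟩ := exists_lift' h𝒳 f x hx
    have hβ : 𝒴.p.IsHomLift (𝟙 U) (E.map (E.toFunctor.preimage b)) := by
      rw [E.toFunctor.map_preimage]; exact hb
    have hβ' : 𝒳.p.IsHomLift (𝟙 U) (E.toFunctor.preimage b) := BasedFunctor.isHomLift_map E (𝟙 U) _
    refine ⟨x₀, c, c ≫ E.toFunctor.preimage b, hc, inferInstance, ?_⟩
    rw [E.map_comp, E.toFunctor.map_preimage]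


section FP

variable {𝒜 : BasedCategory.{v₂, u₂} C} {ℬ : BasedCategory.{v₃, u₃} C} {𝒮 : BasedCategory.{v₄, u₄} C}

lemma fp_isHomLift_snd_of {P : 𝒜 ⥤ᵇ 𝒮} {Q : ℬ ⥤ᵇ 𝒮} {R S : C} (f : R ⟶ S) {X Y : (FibCat.fp P Q).obj}
    (φ : X ⟶ Y) [h : (FibCat.fp P Q).p.IsHomLift f φ] : ℬ.p.IsHomLift f φ.hom.snd := by
  subst_hom_lift (FibCat.fp P Q).p f φ
  exact FibCat.fp_isHomLift_snd P Q φ

lemma fp_isHomLift_fst_of {P : 𝒜 ⥤ᵇ 𝒮} {Q : ℬ ⥤ᵇ 𝒮} {R S : C} (f : R ⟶ S) {X Y : (FibCat.fp P Q).obj}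
    (φ : X ⟶ Y) [h : (FibCat.fp P Q).p.IsHomLift f φ] : 𝒜.p.IsHomLift f φ.hom.fst :=
  (fp_isHomLift_iff P Q f φ).1 h

/-- base change of a gerbe along any functor is a gerbe (first projection of the 2-fibre product) -/
theorem isGerbeOver_fpFst (h𝒜 : FibCat.IsFibGrpd 𝒜.p) (h𝒮 : FibCat.IsFibGrpd 𝒮.p)
    (P : 𝒜 ⥤ᵇ 𝒮) (Q : ℬ ⥤ᵇ 𝒮) (hQ : Gerb.IsGerbeOver J Q) :
    Gerb.IsGerbeOver J (FibCat.fpFst P Q) := by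
  obtain ⟨h1, h2⟩ := hQ
  rw [locSurjObj_iff] at h1
  rw [locSurjHom_iff] at h2
  refine ⟨?_, ?_⟩
  · rw [locSurjObj_iff]
    intro U a ha
    have hPa : 𝒮.p.obj (P.obj a) = U := (P.w_obj a).trans ha
    obtain ⟨R, hR, h3⟩ := h1 U (P.obj a) hPa
    refine ⟨R, hR, fun V f hf => ?_⟩
    obtain ⟨b, g, hg⟩ := h3 f hf
    obtain ⟨aV, c, hc⟩ := exists_lift' h𝒜 f a ha
    have haV : 𝒜.p.obj aV = V := IsHomLift.domain_eq 𝒜.p f c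
    have hPc : 𝒮.p.IsStronglyCartesian f (P.map c) := isStronglyCartesian_of_isHomLift 𝒮.p h𝒮 f _
    obtain ⟨t, htd⟩ : ∃ t : Q.obj b ⟶ P.obj aV, t = IsCartesian.map 𝒮.p f (P.map c) g := ⟨_, rfl⟩
    have htl : 𝒮.p.IsHomLift (𝟙 V) t := by rw [htd]; exact IsCartesian.map_isHomLift 𝒮.p f (P.map c) g
    have hti : IsIso t := isIso_of_isHomLift_id 𝒮.p h𝒮 (U := V) t
    have hl : 𝒮.p.IsHomLift (𝟙 (𝒜.p.obj aV)) (asIso t).symm.hom := by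
      rw [haV]; show 𝒮.p.IsHomLift (𝟙 V) (inv t); infer_instance
    exact ⟨fpMk P Q aV b (asIso t).symm hl, c, hc⟩
  · rw [locSurjHom_iff]
    intro U X X' b hb
    obtain ⟨b, rfl⟩ : ∃ b' : X.obj.fst ⟶ X'.obj.fst, b' = b := ⟨b, rfl⟩
    have hb' : 𝒜.p.IsHomLift (𝟙 U) b := hb
    have ha₁ : 𝒜.p.obj X.obj.fst = U := IsHomLift.domain_eq 𝒜.p (𝟙 U) b
    have ha₂ : 𝒜.p.obj X'.obj.fst = U := IsHomLift.codomain_eq 𝒜.p (𝟙 U) b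
    have hi₁ : 𝒮.p.IsHomLift (𝟙 U) X.obj.iso.hom := by
      have := X.property
      change 𝒮.p.IsHomLift (𝟙 (𝒜.p.obj X.obj.fst)) X.obj.iso.hom at this
      rw [ha₁] at this; exact this
    have hi₂ : 𝒮.p.IsHomLift (𝟙 U) X'.obj.iso.hom := by
      have := X'.property
      change 𝒮.p.IsHomLift (𝟙 (𝒜.p.obj X'.obj.fst)) X'.obj.iso.hom at this
      rw [ha₂] at this; exact this
    have hi₁' : 𝒮.p.IsHomLift (𝟙 U) X.obj.iso.inv := inferInstance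
    have hβ : 𝒮.p.IsHomLift (𝟙 U) (X.obj.iso.inv ≫ P.map b ≫ X'.obj.iso.hom) := inferInstance
    obtain ⟨R, hR, h3⟩ := h2 U X.obj.snd X'.obj.snd _ hβ
    refine ⟨R, hR, fun V f hf => ?_⟩
    obtain ⟨b₀, α₁, α₂, hα₁, hα₂, hc⟩ := h3 f hf
    obtain ⟨a₀, c, hcl⟩ := exists_lift' h𝒜 f X.obj.fst ha₁
    have ha₀ : 𝒜.p.obj a₀ = V := IsHomLift.domain_eq 𝒜.p f c
    have hQα : 𝒮.p.IsStronglyCartesian f (Q.map α₁) := isStronglyCartesian_of_isHomLift 𝒮.p h𝒮 f _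
    have hl0 : 𝒮.p.IsHomLift f (P.map c ≫ X.obj.iso.hom) := inferInstance
    obtain ⟨i₀, hid⟩ : ∃ i₀ : P.obj a₀ ⟶ Q.obj b₀,
        i₀ = IsCartesian.map 𝒮.p f (Q.map α₁) (P.map c ≫ X.obj.iso.hom) := ⟨_, rfl⟩
    have hi₀ : i₀ ≫ Q.map α₁ = P.map c ≫ X.obj.iso.hom := by
      rw [hid]; exact IsCartesian.fac 𝒮.p f (Q.map α₁) _
    have hi₀l : 𝒮.p.IsHomLift (𝟙 V) i₀ := by
      rw [hid]; exact IsCartesian.map_isHomLift 𝒮.p f (Q.map α₁) _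
    have hi₀i : IsIso i₀ := isIso_of_isHomLift_id 𝒮.p h𝒮 (U := V) i₀
    have hl : 𝒮.p.IsHomLift (𝟙 (𝒜.p.obj a₀)) (asIso i₀).hom := by
      rw [ha₀]; exact hi₀l
    let ξ₀ : (FibCat.fp P Q).obj := fpMk P Q a₀ b₀ (asIso i₀) hl
    let φ : ξ₀ ⟶ X := fpHomMk (X := ξ₀) (Y := X) c α₁ hi₀.symm
    have hw : P.map (c ≫ b) ≫ X'.obj.iso.hom = i₀ ≫ Q.map α₂ := by
      rw [← hc, ← Category.assoc, hi₀, P.map_comp]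
      simp
    let ψ : ξ₀ ⟶ X' := fpHomMk (X := ξ₀) (Y := X') (c ≫ b) α₂ hw
    refine ⟨ξ₀, φ, ψ, ?_, ?_, ?_⟩
    · rw [fp_isHomLift_iff]; exact hcl
    · rw [fp_isHomLift_iff]; show 𝒜.p.IsHomLift f (c ≫ b); infer_instance
    · rfl

/-- descent of gerbes along a locally essentially surjective base change -/
theorem isGerbeOver_of_fpFst (hℬ : FibCat.IsFibGrpd ℬ.p) (h𝒮 : FibCat.IsFibGrpd 𝒮.p)
    (P : 𝒜 ⥤ᵇ 𝒮) (Q : ℬ ⥤ᵇ 𝒮) (hP : Gerb.LocSurjObj J P)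
    (hfp : Gerb.IsGerbeOver J (FibCat.fpFst P Q)) : Gerb.IsGerbeOver J Q := by
  obtain ⟨h1, h2⟩ := hfp
  rw [locSurjObj_iff] at h1 hP
  rw [locSurjHom_iff] at h2
  refine ⟨?_, ?_⟩
  · rw [locSurjObj_iff]
    intro U s hs
    obtain ⟨R, hR, h3⟩ := hP U s hs
    have h4 : ∀ ⦃V : C⦄ (f : V ⟶ U), R f → ∃ R' ∈ J V, ∀ ⦃W : C⦄ (h : W ⟶ V), R' h →
        ∃ (x : ℬ.obj) (g : Q.obj x ⟶ s), 𝒮.p.IsHomLift (h ≫ f) g := by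
      intro V f hf
      obtain ⟨a, g, hg⟩ := h3 f hf
      have ha : 𝒜.p.obj a = V := (P.w_obj a).symm.trans (IsHomLift.domain_eq 𝒮.p f g)
      obtain ⟨R', hR', h5⟩ := h1 V a ha
      refine ⟨R', hR', fun W h hh => ?_⟩
      obtain ⟨ξ, g', hg'⟩ := h5 h hh
      obtain ⟨g', rfl⟩ : ∃ g'' : ξ.obj.fst ⟶ a, g'' = g' := ⟨g', rfl⟩
      have hg'' : 𝒜.p.IsHomLift h g' := hg'
      have hξ : 𝒜.p.obj ξ.obj.fst = W := IsHomLift.domain_eq 𝒜.p h g'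
      have hi : 𝒮.p.IsHomLift (𝟙 W) ξ.obj.iso.hom := by
        have := ξ.property
        change 𝒮.p.IsHomLift (𝟙 (𝒜.p.obj ξ.obj.fst)) ξ.obj.iso.hom at this
        rw [hξ] at this; exact this
      have hi' : 𝒮.p.IsHomLift (𝟙 W) ξ.obj.iso.inv := inferInstance
      exact ⟨ξ.obj.snd, ξ.obj.iso.inv ≫ P.map g' ≫ g, inferInstance⟩
    choose S hS hS' using h4
    refine ⟨Sieve.bind R (fun V f hf => S f hf), J.bind_covering hR (fun V f hf => hS f hf), ?_⟩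
    rintro W k ⟨V, h, f, hf, hh, rfl⟩
    exact hS' f hf h hh
  · rw [locSurjHom_iff]
    intro U b₁ b₂ β hβ
    have hb₁ : ℬ.p.obj b₁ = U := (Q.w_obj b₁).symm.trans (IsHomLift.domain_eq 𝒮.p (𝟙 U) β)
    have hb₂ : ℬ.p.obj b₂ = U := (Q.w_obj b₂).symm.trans (IsHomLift.codomain_eq 𝒮.p (𝟙 U) β)
    have hQb₁ : 𝒮.p.obj (Q.obj b₁) = U := IsHomLift.domain_eq 𝒮.p (𝟙 U) β
    obtain ⟨R, hR, h3⟩ := hP U (Q.obj b₁) hQb₁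
    have h4 : ∀ ⦃V : C⦄ (f : V ⟶ U), R f → ∃ R' ∈ J V, ∀ ⦃W : C⦄ (h : W ⟶ V), R' h →
        ∃ (x₀ : ℬ.obj) (φ : x₀ ⟶ b₁) (ψ : x₀ ⟶ b₂),
          ℬ.p.IsHomLift (h ≫ f) φ ∧ ℬ.p.IsHomLift (h ≫ f) ψ ∧ Q.map φ ≫ β = Q.map ψ := by
      intro V f hf
      obtain ⟨a, g, hg⟩ := h3 f hf
      have ha : 𝒜.p.obj a = V := (P.w_obj a).symm.trans (IsHomLift.domain_eq 𝒮.p f g)
      obtain ⟨b₁V, c₁, hc₁⟩ := exists_lift' hℬ f b₁ hb₁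
      obtain ⟨b₂V, c₂, hc₂⟩ := exists_lift' hℬ f b₂ hb₂
      have hQc₁ : 𝒮.p.IsStronglyCartesian f (Q.map c₁) := isStronglyCartesian_of_isHomLift 𝒮.p h𝒮 f _
      have hQc₂ : 𝒮.p.IsStronglyCartesian f (Q.map c₂) := isStronglyCartesian_of_isHomLift 𝒮.p h𝒮 f _
      obtain ⟨t, htd⟩ : ∃ t : P.obj a ⟶ Q.obj b₁V, t = IsCartesian.map 𝒮.p f (Q.map c₁) g := ⟨_, rfl⟩
      have ht : t ≫ Q.map c₁ = g := by rw [htd]; exact IsCartesian.fac 𝒮.p f (Q.map c₁) g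
      have htl : 𝒮.p.IsHomLift (𝟙 V) t := by
        rw [htd]; exact IsCartesian.map_isHomLift 𝒮.p f (Q.map c₁) g
      have hti : IsIso t := isIso_of_isHomLift_id 𝒮.p h𝒮 (U := V) t
      have hl1 : 𝒮.p.IsHomLift f (Q.map c₁ ≫ β) := inferInstance
      obtain ⟨βV, hβd⟩ : ∃ βV : Q.obj b₁V ⟶ Q.obj b₂V,
          βV = IsCartesian.map 𝒮.p f (Q.map c₂) (Q.map c₁ ≫ β) := ⟨_, rfl⟩
      have hβV : βV ≫ Q.map c₂ = Q.map c₁ ≫ β := by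
        rw [hβd]; exact IsCartesian.fac 𝒮.p f (Q.map c₂) _
      have hβVl : 𝒮.p.IsHomLift (𝟙 V) βV := by
        rw [hβd]; exact IsCartesian.map_isHomLift 𝒮.p f (Q.map c₂) _
      have hβVi : IsIso βV := isIso_of_isHomLift_id 𝒮.p h𝒮 (U := V) βV
      have hl2 : 𝒮.p.IsHomLift (𝟙 (𝒜.p.obj a)) (asIso t).hom := by rw [ha]; exact htl
      have hl3 : 𝒮.p.IsHomLift (𝟙 (𝒜.p.obj a)) (asIso (t ≫ βV)).hom := by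
        rw [ha]; show 𝒮.p.IsHomLift (𝟙 V) (t ≫ βV); infer_instance
      let ξ : (FibCat.fp P Q).obj := fpMk P Q a b₁V (asIso t) hl2
      let ξ' : (FibCat.fp P Q).obj := fpMk P Q a b₂V (asIso (t ≫ βV)) hl3
      have hid : 𝒜.p.IsHomLift (𝟙 V) (𝟙 a) := IsHomLift.id ha
      obtain ⟨R', hR', h5⟩ := h2 V ξ ξ' (𝟙 a) hid
      refine ⟨R', hR', fun W h hh => ?_⟩
      obtain ⟨ξ₀, φ, ψ, hφ, hψ, hφψ⟩ := h5 h hh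
      have l1 : ℬ.p.IsHomLift h φ.hom.snd := fp_isHomLift_snd_of h φ
      have l2 : ℬ.p.IsHomLift h ψ.hom.snd := fp_isHomLift_snd_of h ψ
      obtain ⟨φ₁, hφ₁⟩ : ∃ φ₁ : ξ₀.obj.fst ⟶ a, φ₁ = φ.hom.fst := ⟨_, rfl⟩
      obtain ⟨φ₂, hφ₂⟩ : ∃ φ₂ : ξ₀.obj.snd ⟶ b₁V, φ₂ = φ.hom.snd := ⟨_, rfl⟩
      obtain ⟨ψ₁, hψ₁⟩ : ∃ ψ₁ : ξ₀.obj.fst ⟶ a, ψ₁ = ψ.hom.fst := ⟨_, rfl⟩
      obtain ⟨ψ₂, hψ₂⟩ : ∃ ψ₂ : ξ₀.obj.snd ⟶ b₂V, ψ₂ = ψ.hom.snd := ⟨_, rfl⟩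
      have l1' : ℬ.p.IsHomLift h φ₂ := by rw [hφ₂]; exact l1
      have l2' : ℬ.p.IsHomLift h ψ₂ := by rw [hψ₂]; exact l2
      have e1 : φ₁ = ψ₁ := by
        have : φ.hom.fst ≫ 𝟙 a = ψ.hom.fst := hφψ
        rw [hφ₁, hψ₁]
        exact (Category.comp_id _).symm.trans this
      have w1 : P.map φ₁ ≫ t = ξ₀.obj.iso.hom ≫ Q.map φ₂ := by
        rw [hφ₁, hφ₂]; exact φ.hom.w
      have w2 : P.map ψ₁ ≫ (t ≫ βV) = ξ₀.obj.iso.hom ≫ Q.map ψ₂ := by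
        rw [hψ₁, hψ₂]; exact ψ.hom.w
      have e2 : Q.map φ₂ ≫ βV = Q.map ψ₂ := by
        apply (cancel_epi ξ₀.obj.iso.hom).1
        calc ξ₀.obj.iso.hom ≫ Q.map φ₂ ≫ βV = (P.map φ₁ ≫ t) ≫ βV := by
              rw [w1, Category.assoc]
          _ = P.map ψ₁ ≫ (t ≫ βV) := by rw [e1, Category.assoc]
          _ = _ := w2
      refine ⟨ξ₀.obj.snd, φ₂ ≫ c₁, ψ₂ ≫ c₂, inferInstance, inferInstance, ?_⟩
      rw [Q.map_comp, Category.assoc, ← hβV, ← Category.assoc, e2, ← Q.map_comp]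
    choose S hS hS' using h4
    refine ⟨Sieve.bind R (fun V f hf => S f hf), J.bind_covering hR (fun V f hf => hS f hf), ?_⟩
    rintro W k ⟨V, h, f, hf, hh, rfl⟩
    exact hS' f hf h hh

end FP


/-- cancelling an equivalence over `C` on the source -/
theorem isGerbeOver_of_comp_isEquivOver (E : 𝒳 ⥤ᵇ 𝒴) (hE : FibCat.IsEquivOver E) (P : 𝒴 ⥤ᵇ 𝒵)
    (h : Gerb.IsGerbeOver J (BasedFunctor.comp E P)) : Gerb.IsGerbeOver J P := by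
  obtain ⟨M, ⟨e₁⟩, ⟨e₂⟩⟩ := hE
  obtain ⟨h1, h2⟩ := h
  rw [locSurjObj_iff] at h1
  have h2' := locSurjHom_iff J (BasedFunctor.comp E P) |>.1 h2
  refine ⟨?_, ?_⟩
  · rw [locSurjObj_iff]
    intro U z hz
    obtain ⟨R, hR, h3⟩ := h1 U z hz
    refine ⟨R, hR, fun V f hf => ?_⟩
    obtain ⟨x, g, hg⟩ := h3 f hf
    exact ⟨E.obj x, g, hg⟩
  · rw [locSurjHom_iff]
    intro U y y' b hb
    have hy : 𝒴.p.obj y = U := (P.w_obj y).symm.trans (IsHomLift.domain_eq 𝒵.p (𝟙 U) b)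
    have hy' : 𝒴.p.obj y' = U := (P.w_obj y').symm.trans (IsHomLift.codomain_eq 𝒵.p (𝟙 U) b)
    obtain ⟨ε, hεl, hεi⟩ : ∃ ε : E.obj (M.obj y) ⟶ y, 𝒴.p.IsHomLift (𝟙 U) ε ∧ IsIso ε := by
      refine ⟨e₂.hom.toNatTrans.app y, BasedNatTrans.isHomLift e₂.hom hy, ?_⟩
      refine ⟨e₂.inv.toNatTrans.app y, ?_, ?_⟩
      · exact congrArg (fun t => t.toNatTrans.app y) e₂.hom_inv_id
      · exact congrArg (fun t => t.toNatTrans.app y) e₂.inv_hom_id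
    obtain ⟨ε', hεl', hεi'⟩ : ∃ ε' : E.obj (M.obj y') ⟶ y', 𝒴.p.IsHomLift (𝟙 U) ε' ∧ IsIso ε' := by
      refine ⟨e₂.hom.toNatTrans.app y', BasedNatTrans.isHomLift e₂.hom hy', ?_⟩
      refine ⟨e₂.inv.toNatTrans.app y', ?_, ?_⟩
      · exact congrArg (fun t => t.toNatTrans.app y') e₂.hom_inv_id
      · exact congrArg (fun t => t.toNatTrans.app y') e₂.inv_hom_id
    have hb' : 𝒵.p.IsHomLift (𝟙 U) (P.map ε ≫ b ≫ P.map (inv ε')) := inferInstance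
    obtain ⟨R, hR, h3⟩ := h2' U (M.obj y) (M.obj y') (P.map ε ≫ b ≫ P.map (inv ε')) hb'
    refine ⟨R, hR, fun V f hf => ?_⟩
    obtain ⟨x₀, φ, ψ, hφ, hψ, hc⟩ := h3 f hf
    have hc' : P.map (E.map φ) ≫ (P.map ε ≫ b ≫ P.map (inv ε')) = P.map (E.map ψ) := hc
    refine ⟨E.obj x₀, E.map φ ≫ ε, E.map ψ ≫ ε', inferInstance, inferInstance, ?_⟩
    rw [P.map_comp, P.map_comp, ← hc']
    simp only [Category.assoc]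
    rw [← P.map_comp, IsIso.inv_hom_id, P.map_id, Category.comp_id]

section Main

variable {𝒳 𝒴 𝒳' 𝒴' : BasedCategory.{v₂, u₂} C}

lemma comp_fpLift_fpFst (F : 𝒳 ⥤ᵇ 𝒴) (G : 𝒴' ⥤ᵇ 𝒴) (F' : 𝒳' ⥤ᵇ 𝒴') (G' : 𝒳' ⥤ᵇ 𝒳)
    (e : BasedFunctor.comp F' G ≅ BasedFunctor.comp G' F) :
    BasedFunctor.comp (FibCat.fpLift F' G' e) (FibCat.fpFst G F) = F' := by
  apply basedFunctor_ext
  rfl

theorem isGerbeOver_of_isTwoCartOver (h𝒳 : FibCat.IsFibGrpd 𝒳.p) (h𝒴 : FibCat.IsFibGrpd 𝒴.p)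
    (h𝒳' : FibCat.IsFibGrpd 𝒳'.p) (h𝒴' : FibCat.IsFibGrpd 𝒴'.p)
    (F : 𝒳 ⥤ᵇ 𝒴) (G : 𝒴' ⥤ᵇ 𝒴) (F' : 𝒳' ⥤ᵇ 𝒴') (G' : 𝒳' ⥤ᵇ 𝒳)
    (e : BasedFunctor.comp F' G ≅ BasedFunctor.comp G' F) (hc : FibCat.IsTwoCartOver F' G' e)
    (hF : Gerb.IsGerbeOver J F) : Gerb.IsGerbeOver J F' := by
  rw [← comp_fpLift_fpFst F G F' G' e]
  exact isGerbeOver_comp J h𝒳' (X6401 G F h𝒴' h𝒳 h𝒴) _ _
    (isGerbeOver_of_isEquivOver J h𝒳' _ hc) (isGerbeOver_fpFst J h𝒴' h𝒴 G F hF)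

theorem isGerbeOver_of_isTwoCartOver_of_locSurjObj (h𝒳 : FibCat.IsFibGrpd 𝒳.p)
    (h𝒴 : FibCat.IsFibGrpd 𝒴.p)
    (F : 𝒳 ⥤ᵇ 𝒴) (G : 𝒴' ⥤ᵇ 𝒴) (F' : 𝒳' ⥤ᵇ 𝒴') (G' : 𝒳' ⥤ᵇ 𝒳)
    (e : BasedFunctor.comp F' G ≅ BasedFunctor.comp G' F) (hc : FibCat.IsTwoCartOver F' G' e)
    (hG : Gerb.LocSurjObj J G) (hF' : Gerb.IsGerbeOver J F') : Gerb.IsGerbeOver J F := by
  rw [← comp_fpLift_fpFst F G F' G' e] at hF'
  exact isGerbeOver_of_fpFst J h𝒳 h𝒴 G F hG (isGerbeOver_of_comp_isEquivOver J _ hc _ hF')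

end Main

section Self

variable {𝒮₁ : BasedCategory.{v₂, u₂} C} {𝒮₂ : BasedCategory.{v₃, u₃} C}

lemma toSelf_eq_comp (F : 𝒮₁ ⥤ᵇ 𝒮₂) :
    FibCat.toSelf 𝒮₁ = BasedFunctor.comp F (FibCat.toSelf 𝒮₂) := by
  apply basedFunctor_ext
  exact F.w.symm

theorem isGerbeOver_toSelf_iff (F : 𝒮₁ ⥤ᵇ 𝒮₂) (hF : FibCat.IsEquivOver F)
    (h₁ : FibCat.IsFibGrpd 𝒮₁.p) (h₂ : FibCat.IsFibGrpd 𝒮₂.p) :
    Gerb.IsGerbeOver J (FibCat.toSelf 𝒮₁) ↔ Gerb.IsGerbeOver J (FibCat.toSelf 𝒮₂) := by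
  rw [toSelf_eq_comp F]
  constructor
  · exact isGerbeOver_of_comp_isEquivOver J F hF _
  · intro h
    exact isGerbeOver_comp J h₁ h₂ _ _ (isGerbeOver_of_isEquivOver J h₁ F hF) h

end Self

theorem isGerbe_iff_of_isEquivOver {𝒮₁ 𝒮₂ : BasedCategory.{v, max u v} C} (F : 𝒮₁ ⥤ᵇ 𝒮₂)
    (hF : FibCat.IsEquivOver F) : Gerb.IsGerbe J 𝒮₁ ↔ Gerb.IsGerbe J 𝒮₂ := by
  unfold Gerb.IsGerbe
  constructor
  · rintro ⟨h1, h2⟩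
    have h1' := (isStack_iff_of_isEquivOver J F hF).1 h1
    exact ⟨h1', (isGerbeOver_toSelf_iff J F hF h1.1 h1'.1).1 h2⟩
  · rintro ⟨h1, h2⟩
    have h1' := (isStack_iff_of_isEquivOver J F hF).2 h1
    exact ⟨h1', (isGerbeOver_toSelf_iff J F hF h1'.1 h1.1).2 h2⟩

end Gerbe

end Groth.Agent.H3.GerbAux
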