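import Mathlib
import Groth.Prelude.Def_FibCat2
import Groth.Prelude.Def_AlgSt2
import Groth.Prelude.Def_StGerb
import Groth.Agent.Lib.Helper3.FibCatAux
import Groth.Agent.Lib.Helper3.GerbAux

set_option autoImplicit false

universe v₅ u₅ v₄ u₄ v₃ u₃ v₂ u₂ w v u

open CategoryTheory CategoryTheory.Functor CategoryTheory.Limits Opposite

namespace Groth.Agent.H3.StkAux

open Groth.Agent.H3.FibCatAux Groth.Agent.H3.GerbAux

variable {C : Type u} [Category.{v} C]

theorem isFibSetoid_fp_of_faithful {𝒮 : BasedCategory.{v₄, u₄} C} {𝒯 : BasedCategory.{v₂, u₂} C}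
    {ℛ : BasedCategory.{v₃, u₃} C}
    (h𝒮 : FibCat.IsFibGrpd 𝒮.p) (h𝒯 : FibCat.IsFibGrpd 𝒯.p) (hℛ : FibCat.IsFibSetoid ℛ.p)
    (f : 𝒯 ⥤ᵇ 𝒮) [f.toFunctor.Faithful] (g : ℛ ⥤ᵇ 𝒮) :
    FibCat.IsFibSetoid (FibCat.fp f g).p := by
  refine ⟨X6401 f g h𝒯 hℛ.1 h𝒮, ?_⟩
  intro U X Y
  constructor
  intro φ ψ
  have hφ : (FibCat.fp f g).p.IsHomLift (𝟙 U) φ.1 := φ.2
  have hψ : (FibCat.fp f g).p.IsHomLift (𝟙 U) ψ.1 := ψ.2
  have l1 : ℛ.p.IsHomLift (𝟙 U) φ.1.hom.snd := fp_isHomLift_snd_of (𝟙 U) φ.1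
  have l2 : ℛ.p.IsHomLift (𝟙 U) ψ.1.hom.snd := fp_isHomLift_snd_of (𝟙 U) ψ.1
  have e2 : φ.1.hom.snd = ψ.1.hom.snd := hom_eq_of_isFibSetoid ℛ.p hℛ (𝟙 U) _ _
  have w1 := φ.1.hom.w
  have w2 := ψ.1.hom.w
  have e1 : φ.1.hom.fst = ψ.1.hom.fst := by
    apply f.toFunctor.map_injective
    have hi : IsIso Y.1.obj.iso.hom := inferInstance
    apply (cancel_mono Y.1.obj.iso.hom).1
    exact w1.trans ((by rw [e2] : _ = _).trans w2.symm)
  apply Fiber.hom_ext
  exact fp_hom_ext e1 e2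

/-- the category of elements of a presheaf is fibred in setoids -/
theorem isFibSetoid_ofPsh (P : Cᵒᵖ ⥤ Type w) : FibCat.IsFibSetoid (Stk.ofPsh P).p := by
  refine ⟨Stk.isFibGrpd_ofPsh P, ?_⟩
  intro U X Y
  constructor
  intro φ ψ
  have hφ : (Stk.EltObj.forget P).IsHomLift (𝟙 U) φ.1 := φ.2
  have hψ : (Stk.EltObj.forget P).IsHomLift (𝟙 U) ψ.1 := ψ.2
  apply Fiber.hom_ext
  apply Stk.EltObj.hom_ext
  have h1 := IsHomLift.fac' (Stk.EltObj.forget P) (𝟙 U) φ.1
  have h2 := IsHomLift.fac' (Stk.EltObj.forget P) (𝟙 U) ψ.1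
  exact h1.trans h2.symm

section Restricted

variable {C : Type u} [Category.{v} C] {𝒳 : Type u₂} [Category.{v₂} 𝒳] (p : 𝒳 ⥤ C)

/-- for `p` fibred in groupoids, pushforward of a pulled back sieve contains the pullback of the
pushforward -/
lemma pullback_functorPushforward_le (hp : FibCat.IsFibGrpd p) {x y : 𝒳} (S : Sieve x) (h : y ⟶ x) :
    (S.functorPushforward p).pullback (p.map h) ≤ (S.pullback h).functorPushforward p := by
  rintro V g ⟨z, k, l, hk, hfac⟩
  obtain ⟨y', g', hg'⟩ := hp.exists_lift (x := y) g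
  have hk' : p.IsStronglyCartesian (p.map k) k := hp.isStronglyCartesian k
  have hy' : p.obj y' = V := IsHomLift.domain_eq p g g'
  have hl : p.IsHomLift (g ≫ p.map h) (g' ≫ h) := inferInstance
  have hl' : p.IsHomLift (l ≫ p.map k) (g' ≫ h) := by rw [← hfac]; exact hl
  obtain ⟨m, ⟨_, hm⟩, _⟩ :=
    IsStronglyCartesian.universal_property p (p.map k) k l (l ≫ p.map k) rfl (g' ≫ h)
  refine ⟨y', g', eqToHom hy'.symm, ?_, ?_⟩
  · show S (g' ≫ h)
    rw [← hm]
    exact S.downward_closed hk m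
  · have := IsHomLift.fac' p g g'
    rw [this]
    simp

lemma functorPushforward_pullback_le' {x y : 𝒳} (S : Sieve x) (h : y ⟶ x) :
    (S.pullback h).functorPushforward p ≤ (S.functorPushforward p).pullback (p.map h) := by
  rintro V g ⟨z, k, l, hk, hfac⟩
  refine ⟨z, k ≫ h, l, hk, ?_⟩
  rw [hfac, Category.assoc, p.map_comp]

/-- the topology of sieves whose image covers -/
def coverTop (hp : FibCat.IsFibGrpd p) (J : GrothendieckTopology C) : GrothendieckTopology 𝒳 where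
  sieves x := {S | S.functorPushforward p ∈ J (p.obj x)}
  top_mem' x := by
    show (⊤ : Sieve x).functorPushforward p ∈ J (p.obj x)
    rw [Sieve.functorPushforward_top]
    exact J.top_mem _
  pullback_stable' x y S h hS := by
    show (S.pullback h).functorPushforward p ∈ J (p.obj y)
    exact J.superset_covering (pullback_functorPushforward_le p hp S h) (J.pullback_stable _ hS)
  transitive' x S hS R hR := by
    show R.functorPushforward p ∈ J (p.obj x)
    refine J.transitive hS _ ?_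
    rintro V g ⟨z, k, l, hk, hfac⟩
    have h1 : (R.pullback k).functorPushforward p ∈ J (p.obj z) := hR hk
    have h2 : (R.functorPushforward p).pullback (p.map k) ∈ J (p.obj z) :=
      J.superset_covering (functorPushforward_pullback_le' p R k) h1
    have h3 := J.pullback_stable l h2
    rw [← Sieve.pullback_comp, ← hfac] at h3
    exact h3

theorem mem_restrictedTopology_iff (hp : FibCat.IsFibGrpd p) (J : GrothendieckTopology C) {x : 𝒳}
    (S : Sieve x) : S ∈ p.restrictedTopology J x ↔ S.functorPushforward p ∈ J (p.obj x) := by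
  constructor
  · intro hS
    have hle : p.restrictedTopology J ≤ coverTop p hp J := by
      unfold Functor.restrictedTopology
      rw [Precoverage.toGrothendieck_le_iff_le_toPrecoverage]
      intro y R hR
      rw [Precoverage.mem_comap_iff, GrothendieckTopology.mem_toPrecoverage_iff] at hR
      rw [GrothendieckTopology.mem_toPrecoverage_iff]
      show (Sieve.generate R).functorPushforward p ∈ J (p.obj y)
      rw [← Sieve.generate_map_eq_functorPushforward]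
      exact hR
    exact hle _ hS
  · exact Functor.mem_restrictedTopology_of_functorPushforward_mem


section OverPost

variable (hp : FibCat.IsFibGrpd p) (x : 𝒳)

include hp in
lemma overPost_faithful : (Over.post p : Over x ⥤ Over (p.obj x)).Faithful where
  map_injective := by
    intro a b m m' h
    have h1 : p.map m.left = p.map m'.left := congrArg (fun t => t.left) h
    have hb : p.IsStronglyCartesian (p.map b.hom) b.hom := hp.isStronglyCartesian b.hom
    have l1 : p.IsHomLift (p.map m.left) m.left := inferInstance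
    have l2 : p.IsHomLift (p.map m.left) m'.left := by rw [h1]; infer_instance
    have l0 : p.IsHomLift (p.map m.left ≫ p.map b.hom) a.hom := by
      rw [← p.map_comp, Over.w m]; infer_instance
    obtain ⟨χ, _, hu⟩ := IsStronglyCartesian.universal_property p (p.map b.hom) b.hom
      (p.map m.left) (p.map m.left ≫ p.map b.hom) rfl a.hom
    apply Over.OverMorphism.ext
    exact (hu m.left ⟨l1, Over.w m⟩).trans (hu m'.left ⟨l2, Over.w m'⟩).symm

include hp in
lemma overPost_full : (Over.post p : Over x ⥤ Over (p.obj x)).Full where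
  map_surjective := by
    intro a b n
    have hb : p.IsStronglyCartesian (p.map b.hom) b.hom := hp.isStronglyCartesian b.hom
    obtain ⟨n', hn'⟩ : ∃ n' : p.obj a.left ⟶ p.obj b.left, n' = n.left := ⟨_, rfl⟩
    have hn : n' ≫ p.map b.hom = p.map a.hom := by rw [hn']; exact Over.w n
    have l0 : p.IsHomLift (n' ≫ p.map b.hom) a.hom := by
      rw [hn]; exact IsHomLift.map p a.hom
    obtain ⟨χ, ⟨hχ1, hχ2⟩, _⟩ := IsStronglyCartesian.universal_property p (p.map b.hom) b.hom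
      n' (n' ≫ p.map b.hom) rfl a.hom
    refine ⟨Over.homMk χ hχ2, ?_⟩
    apply Over.OverMorphism.ext
    show p.map χ = n.left
    rw [← hn']
    have := IsHomLift.fac' p n' χ
    simpa using this

include hp in
lemma overPost_essSurj : (Over.post p : Over x ⥤ Over (p.obj x)).EssSurj where
  mem_essImage := by
    intro c
    obtain ⟨y, φ, hφ⟩ := hp.exists_lift (x := x) c.hom
    have hy : p.obj y = c.left := IsHomLift.domain_eq p c.hom φ
    refine ⟨Over.mk φ, ⟨Over.isoMk (eqToIso hy) ?_⟩⟩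
    have := IsHomLift.fac' p c.hom φ
    show eqToHom hy ≫ c.hom = p.map φ
    rw [this]
    simp

include hp in
theorem overPost_isEquivalence : (Over.post p : Over x ⥤ Over (p.obj x)).IsEquivalence := by
  have := overPost_faithful p hp x
  have := overPost_full p hp x
  have := overPost_essSurj p hp x
  exact { }

lemma overEquiv_functorPushforward_post (a : Over x) (S : Sieve a) :
    (Sieve.overEquiv a S).functorPushforward p =
      Sieve.overEquiv ((Over.post p).obj a) (S.functorPushforward (Over.post p)) := by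
  ext V g
  constructor
  · rintro ⟨z, k, l, hk, hfac⟩
    rw [Sieve.overEquiv_iff] at hk ⊢
    refine ⟨Over.mk (k ≫ a.hom), Over.homMk k, Over.homMk l ?_, hk, ?_⟩
    · show l ≫ p.map (k ≫ a.hom) = g ≫ p.map a.hom
      rw [hfac, p.map_comp, Category.assoc]
    · apply Over.OverMorphism.ext
      exact hfac
  · intro hg
    rw [Sieve.overEquiv_iff] at hg
    obtain ⟨b, m, l, hm, hfac⟩ := hg
    refine ⟨b.left, m.left, l.left, ?_, ?_⟩
    · rw [Sieve.overEquiv_iff]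
      have : (Over.homMk m.left : Over.mk (m.left ≫ a.hom) ⟶ a) =
          (Over.isoMk (Iso.refl _) (by simp) : Over.mk (m.left ≫ a.hom) ≅ b).hom ≫ m := by
        apply Over.OverMorphism.ext
        simp
      rw [this]
      exact S.downward_closed hm _
    · exact congrArg (fun t => t.left) hfac

include hp in
theorem mem_over_restrictedTopology_iff (J : GrothendieckTopology C) (a : Over x) (S : Sieve a) :
    S ∈ (p.restrictedTopology J).over x a ↔
      S.functorPushforward (Over.post p) ∈ (J.over (p.obj x)) ((Over.post p).obj a) := by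
  rw [GrothendieckTopology.mem_over_iff, GrothendieckTopology.mem_over_iff,
    mem_restrictedTopology_iff p hp, overEquiv_functorPushforward_post]
  rfl

end OverPost


section BasedRestr

variable {𝒳 𝒴 : BasedCategory.{v₂, u₂} C} (J : GrothendieckTopology C)

lemma functorPushforward_mem_congr {𝒵 : Type u₃} [Category.{v₃} 𝒵] {q q' : 𝒵 ⥤ C} (h : q = q') {x : 𝒵}
    (S : Sieve x) : S.functorPushforward q ∈ J (q.obj x) ↔ S.functorPushforward q' ∈ J (q'.obj x) := by
  subst h; rfl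

lemma exists_lift'' {𝒮 : Type u₃} [Category.{v₃} 𝒮] {q : 𝒮 ⥤ C} (h : FibCat.IsFibGrpd q) {U V : C}
    (f : V ⟶ U) (x : 𝒮) (hx : q.obj x = U) : ∃ (y : 𝒮) (φ : y ⟶ x), q.IsHomLift f φ := by
  subst hx
  exact h.exists_lift f

theorem coverPreserving_restricted (h𝒳 : FibCat.IsFibGrpd 𝒳.p) (h𝒴 : FibCat.IsFibGrpd 𝒴.p)
    (F : 𝒳 ⥤ᵇ 𝒴) :
    CoverPreserving (𝒳.p.restrictedTopology J) (𝒴.p.restrictedTopology J) F.toFunctor where
  cover_preserve := by
    intro x S hS
    rw [mem_restrictedTopology_iff _ h𝒳] at hS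
    rw [mem_restrictedTopology_iff _ h𝒴, ← Sieve.functorPushforward_comp]
    exact (functorPushforward_mem_congr J F.w S).2 hS

theorem isCocontinuous_restricted (h𝒳 : FibCat.IsFibGrpd 𝒳.p) (h𝒴 : FibCat.IsFibGrpd 𝒴.p)
    (F : 𝒳 ⥤ᵇ 𝒴) :
    F.toFunctor.IsCocontinuous (𝒳.p.restrictedTopology J) (𝒴.p.restrictedTopology J) where
  cover_lift := by
    intro x S hS
    rw [mem_restrictedTopology_iff _ h𝒴] at hS
    rw [mem_restrictedTopology_iff _ h𝒳]
    have hx : 𝒳.p.obj x = 𝒴.p.obj (F.obj x) := (F.w_obj x).symm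
    have key : ∀ ⦃V : C⦄ (g : V ⟶ 𝒴.p.obj (F.obj x)), S.functorPushforward 𝒴.p g →
        (S.functorPullback F.toFunctor).functorPushforward 𝒳.p (g ≫ eqToHom hx.symm) := by
      rintro V g ⟨z, k, l, hk, hfac⟩
      obtain ⟨x', g', hg'⟩ := exists_lift'' h𝒳 g x hx
      have hx' : 𝒳.p.obj x' = V := IsHomLift.domain_eq 𝒳.p g g'
      have hkc : 𝒴.p.IsStronglyCartesian (𝒴.p.map k) k := h𝒴.isStronglyCartesian k
      have l1 : 𝒴.p.IsHomLift g (F.map g') := inferInstance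
      have l2 : 𝒴.p.IsHomLift (l ≫ 𝒴.p.map k) (F.map g') := by rw [← hfac]; exact l1
      obtain ⟨m, ⟨_, hm⟩, _⟩ :=
        IsStronglyCartesian.universal_property 𝒴.p (𝒴.p.map k) k l (l ≫ 𝒴.p.map k) rfl (F.map g')
      refine ⟨x', g', eqToHom hx'.symm, ?_, ?_⟩
      · show S (F.map g')
        rw [← hm]
        exact S.downward_closed hk m
      · have := IsHomLift.fac' 𝒳.p g g'
        rw [this]
        simp
    have h2 : (S.functorPushforward 𝒴.p).pullback (eqToHom hx) ∈ J (𝒳.p.obj x) :=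
      J.pullback_stable _ hS
    refine J.superset_covering ?_ h2
    intro V g hg
    have := key (g ≫ eqToHom hx) hg
    simpa using this

lemma sheaf_map_comp_op_apply {D : Type u₃} [Category.{v₃} D] (P : Dᵒᵖ ⥤ Type w) {a b c : D}
    (f : a ⟶ b) (g : b ⟶ c) (t : P.obj (op c)) :
    P.map (f ≫ g).op t = P.map f.op (P.map g.op t) := by
  rw [op_comp, Functor.map_comp]; rfl

theorem compatiblePreserving_restricted (h𝒳 : FibCat.IsFibGrpd 𝒳.p) (h𝒴 : FibCat.IsFibGrpd 𝒴.p)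
    (F : 𝒳 ⥤ᵇ 𝒴) (K : GrothendieckTopology 𝒴.obj) : CompatiblePreserving.{w} K F.toFunctor where
  compatible := by
    intro ℱ Z T x hx Y₁ Y₂ X f₁ f₂ g₁ g₂ hg₁ hg₂ hcomm
    have e₁ : 𝒳.p.obj Y₁ = 𝒴.p.obj (F.obj Y₁) := (F.w_obj Y₁).symm
    have e₂ : 𝒳.p.obj Y₂ = 𝒴.p.obj (F.obj Y₂) := (F.w_obj Y₂).symm
    obtain ⟨Y₁', h₁, hh₁⟩ := exists_lift'' h𝒳 (𝒴.p.map f₁) Y₁ e₁
    obtain ⟨Y₂', h₂, hh₂⟩ := exists_lift'' h𝒳 (𝒴.p.map f₂) Y₂ e₂
    have c₁ : 𝒴.p.IsStronglyCartesian (𝒴.p.map f₁) (F.map h₁) :=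
      isStronglyCartesian_of_isHomLift 𝒴.p h𝒴 _ _
    have c₂ : 𝒴.p.IsStronglyCartesian (𝒴.p.map f₂) (F.map h₂) :=
      isStronglyCartesian_of_isHomLift 𝒴.p h𝒴 _ _
    obtain ⟨θ₁, ⟨hθ₁l, hθ₁⟩, _⟩ := IsStronglyCartesian.universal_property 𝒴.p (𝒴.p.map f₁) (F.map h₁)
      (𝟙 _) (𝒴.p.map f₁) (Category.id_comp _).symm f₁
    obtain ⟨θ₂, ⟨hθ₂l, hθ₂⟩, _⟩ := IsStronglyCartesian.universal_property 𝒴.p (𝒴.p.map f₂) (F.map h₂)
      (𝟙 _) (𝒴.p.map f₂) (Category.id_comp _).symm f₂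
    -- the common base map
    obtain ⟨r, hr⟩ : ∃ r : 𝒴.p.obj X ⟶ 𝒴.p.obj (F.obj Z), r = 𝒴.p.map (f₁ ≫ F.map g₁) := ⟨_, rfl⟩
    have hr' : r = 𝒴.p.map (f₂ ≫ F.map g₂) := by rw [hr, hcomm]
    have lF₁ : 𝒴.p.IsHomLift r (F.map (h₁ ≫ g₁)) := by
      rw [hr, 𝒴.p.map_comp, F.map_comp]
      have : 𝒴.p.IsHomLift (𝒴.p.map (F.map g₁)) (F.map g₁) := inferInstance
      infer_instance
    have lF₂ : 𝒴.p.IsHomLift r (F.map (h₂ ≫ g₂)) := by
      rw [hr', 𝒴.p.map_comp, F.map_comp]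
      have : 𝒴.p.IsHomLift (𝒴.p.map (F.map g₂)) (F.map g₂) := inferInstance
      infer_instance
    have l₁ : 𝒳.p.IsHomLift r (h₁ ≫ g₁) := BasedFunctor.isHomLift_map F r _
    have l₂ : 𝒳.p.IsHomLift r (h₂ ≫ g₂) := BasedFunctor.isHomLift_map F r _
    have cc : 𝒳.p.IsStronglyCartesian r (h₂ ≫ g₂) := isStronglyCartesian_of_isHomLift 𝒳.p h𝒳 _ _
    obtain ⟨σ, ⟨hσl, hσ⟩, _⟩ := IsStronglyCartesian.universal_property 𝒳.p r (h₂ ≫ g₂)
      (𝟙 _) r (Category.id_comp _).symm (h₁ ≫ g₁)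
    -- θ₁ ≫ F σ = θ₂
    have cF : 𝒴.p.IsStronglyCartesian r (F.map (h₂ ≫ g₂)) :=
      isStronglyCartesian_of_isHomLift 𝒴.p h𝒴 _ _
    have lfg : 𝒴.p.IsHomLift r (f₂ ≫ F.map g₂) := by rw [hr']; infer_instance
    obtain ⟨τ, _, hτu⟩ := IsStronglyCartesian.universal_property 𝒴.p r (F.map (h₂ ≫ g₂))
      (𝟙 _) r (Category.id_comp _).symm (f₂ ≫ F.map g₂)
    have hFσl : 𝒴.p.IsHomLift (𝟙 (𝒴.p.obj X)) (F.map σ) := inferInstance
    have t1 : θ₁ ≫ F.map σ = τ := by
      apply hτu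
      refine ⟨inferInstance, ?_⟩
      rw [Category.assoc, ← F.map_comp, hσ, F.map_comp, ← Category.assoc, hθ₁, hcomm]
    have t2 : θ₂ = τ := by
      apply hτu
      refine ⟨hθ₂l, ?_⟩
      rw [F.map_comp, ← Category.assoc, hθ₂]
    have hθ : θ₁ ≫ F.map σ = θ₂ := t1.trans t2.symm
    have hcompat := hx h₁ (σ ≫ h₂) hg₁ hg₂ (by rw [Category.assoc, hσ])
    have hcompat' : ℱ.obj.map (F.map h₁).op (x g₁ hg₁) = ℱ.obj.map (F.map (σ ≫ h₂)).op (x g₂ hg₂) :=
      hcompat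
    calc ℱ.obj.map f₁.op (x g₁ hg₁)
        = ℱ.obj.map θ₁.op (ℱ.obj.map (F.map h₁).op (x g₁ hg₁)) := by
          rw [← hθ₁]; exact sheaf_map_comp_op_apply ℱ.obj θ₁ (F.map h₁) _
      _ = ℱ.obj.map θ₁.op (ℱ.obj.map (F.map (σ ≫ h₂)).op (x g₂ hg₂)) := by rw [hcompat']
      _ = ℱ.obj.map (θ₁ ≫ F.map (σ ≫ h₂)).op (x g₂ hg₂) :=
          (sheaf_map_comp_op_apply ℱ.obj θ₁ (F.map (σ ≫ h₂)) _).symm
      _ = ℱ.obj.map f₂.op (x g₂ hg₂) := by rw [F.map_comp, ← Category.assoc, hθ, hθ₂]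

theorem isContinuous_restricted (h𝒳 : FibCat.IsFibGrpd 𝒳.p) (h𝒴 : FibCat.IsFibGrpd 𝒴.p)
    (F : 𝒳 ⥤ᵇ 𝒴) :
    F.toFunctor.IsContinuous (𝒳.p.restrictedTopology J) (𝒴.p.restrictedTopology J) :=
  Functor.isContinuous_of_coverPreserving (compatiblePreserving_restricted h𝒳 h𝒴 F _)
    (coverPreserving_restricted J h𝒳 h𝒴 F)

end BasedRestr


end Restricted

end Groth.Agent.H3.StkAux
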