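import Mathlib

/-! Pure algebra behind rigidity of actions of diagonalisable groups modulo nilpotents: a
"coaction" `A → A[G]` which is trivial modulo a nilpotent ideal is trivial (helper3). -/

set_option autoImplicit false
universe u

namespace Groth.Agent.H3.GradTriv

variable {R A G : Type*} [CommRing R] [CommRing A] [Algebra R A] [CommMonoid G]

/-- coefficients of elements of `I · A[G]` lie in `I · A`. -/
theorem coeff_mem_of_mem_map (I : Ideal R) (x : MonoidAlgebra A G)
    (hx : x ∈ I.map (algebraMap R (MonoidAlgebra A G))) (g : G) :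
    x.coeff g ∈ I • (⊤ : Submodule R A) := by
  have hx' : x ∈ I • (⊤ : Submodule R (MonoidAlgebra A G)) := by
    have := Ideal.smul_top_eq_map (R := R) (S := MonoidAlgebra A G) I
    rw [this]
    exact hx
  refine Submodule.smul_induction_on hx' ?_ ?_
  · intro i hi c _
    rw [MonoidAlgebra.coeff_smul_apply]
    exact Submodule.smul_mem_smul hi Submodule.mem_top
  · intro a b ha hb
    rw [MonoidAlgebra.coeff_add, Finsupp.add_apply]
    exact add_mem ha hb

theorem alg_core [DecidableEq G] (I : Ideal R) (hI : IsNilpotent I) (α : A →+* MonoidAlgebra A G)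
    (hR : ∀ r : R, α (algebraMap R A r) = algebraMap R (MonoidAlgebra A G) r)
    (h1 : ∀ f, (α f).coeff.sum (fun _ c => c) = f)
    (h2 : ∀ f, α f - MonoidAlgebra.single 1 f ∈ I.map (algebraMap R (MonoidAlgebra A G)))
    (h3 : ∀ f n m, (α ((α f).coeff n)).coeff m = if n = m then (α f).coeff n else 0) :
    ∀ f, α f = MonoidAlgebra.single 1 f := by
  have h2' : ∀ f (n : G), n ≠ 1 → (α f).coeff n ∈ I • (⊤ : Submodule R A) := by
    intro f n hn
    have := coeff_mem_of_mem_map I _ (h2 f) n
    rw [MonoidAlgebra.coeff_sub, Finsupp.sub_apply, MonoidAlgebra.coeff_single, Finsupp.single_apply,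
      if_neg (Ne.symm hn), sub_zero] at this
    exact this
  have hsmul : ∀ (i : R) (a : A) (n : G), (α (i • a)).coeff n = i • (α a).coeff n := by
    intro i a n
    rw [Algebra.smul_def, map_mul, hR, ← Algebra.smul_def, MonoidAlgebra.coeff_smul_apply]
  have key : ∀ k : ℕ, ∀ f (n : G), n ≠ 1 → (α f).coeff n ∈ I ^ k • (⊤ : Submodule R A) := by
    intro k
    induction k with
    | zero =>
      intro f n _
      rw [pow_zero, Ideal.one_eq_top, Submodule.top_smul]
      exact Submodule.mem_top
    | succ k ih =>
      intro f n hn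
      have hc : (α ((α f).coeff n)).coeff n = (α f).coeff n := by rw [h3, if_pos rfl]
      rw [← hc]
      have hmem := ih f n hn
      refine Submodule.smul_induction_on hmem ?_ ?_
      · intro i hi a _
        rw [hsmul, pow_succ, Submodule.mul_smul]
        exact Submodule.smul_mem_smul hi (h2' a n hn)
      · intro a b ha hb
        rw [map_add, MonoidAlgebra.coeff_add, Finsupp.add_apply]
        exact add_mem ha hb
  obtain ⟨N, hN⟩ := hI
  have hzero : ∀ f (n : G), n ≠ 1 → (α f).coeff n = 0 := by
    intro f n hn
    have := key N f n hn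
    rw [hN, Ideal.zero_eq_bot, Submodule.bot_smul] at this
    exact (Submodule.mem_bot R).mp this
  intro f
  have hsingle : α f = MonoidAlgebra.single 1 ((α f).coeff 1) := by
    apply MonoidAlgebra.ext
    ext n
    by_cases hn : n = 1
    · subst hn; rw [MonoidAlgebra.coeff_single, Finsupp.single_apply, if_pos rfl]
    · rw [hzero f n hn, MonoidAlgebra.coeff_single, Finsupp.single_apply, if_neg (Ne.symm hn)]
  have hsum := h1 f
  rw [hsingle, MonoidAlgebra.coeff_single] at hsum
  rw [Finsupp.sum_single_index rfl] at hsum
  rw [hsingle, hsum]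

section Maps

variable {A G : Type*} [CommRing A] [CommMonoid G]

/-- the augmentation `A[G] → A`. -/
noncomputable def aug : MonoidAlgebra A G →+* A :=
  MonoidAlgebra.liftNCRingHom (RingHom.id A) (1 : G →* A) (fun _ _ => Commute.all _ _)

theorem aug_single (g : G) (a : A) : aug (MonoidAlgebra.single g a) = a := by
  simp [aug]

theorem aug_apply (x : MonoidAlgebra A G) : aug x = x.coeff.sum (fun _ c => c) := by
  induction x using MonoidAlgebra.induction_linear with
  | zero => simp
  | add x y hx hy =>
    rw [map_add, hx, hy, MonoidAlgebra.coeff_add]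
    exact (Finsupp.sum_add_index' (fun _ => rfl) (fun _ _ _ => rfl)).symm
  | single g a =>
    rw [aug_single, MonoidAlgebra.coeff_single, Finsupp.sum_single_index rfl]

/-- the monoid hom `g ↦ g · g` into `A[G][G]`. -/
noncomputable def diagMon : G →* MonoidAlgebra (MonoidAlgebra A G) G where
  toFun g := MonoidAlgebra.single g (MonoidAlgebra.single g 1)
  map_one' := rfl
  map_mul' g h := by
    rw [MonoidAlgebra.single_mul_single, MonoidAlgebra.single_mul_single, mul_one]

/-- the diagonal ring map `A[G] → A[G][G]`, `a · g ↦ (a · g) · g`. -/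
noncomputable def diagHom : MonoidAlgebra A G →+* MonoidAlgebra (MonoidAlgebra A G) G :=
  MonoidAlgebra.liftNCRingHom
    ((MonoidAlgebra.singleOneRingHom (R := MonoidAlgebra A G) (M := G)).comp
      (MonoidAlgebra.singleOneRingHom (R := A) (M := G)))
    diagMon (fun _ _ => Commute.all _ _)

theorem diagHom_single (g : G) (a : A) :
    diagHom (MonoidAlgebra.single g a) = MonoidAlgebra.single g (MonoidAlgebra.single g a) := by
  rw [diagHom, MonoidAlgebra.liftNCRingHom_single]
  change MonoidAlgebra.single 1 (MonoidAlgebra.single 1 a) *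
    MonoidAlgebra.single g (MonoidAlgebra.single g 1) = _
  rw [MonoidAlgebra.single_mul_single, MonoidAlgebra.single_mul_single, one_mul, mul_one]

theorem coeff_diagHom [DecidableEq G] (x : MonoidAlgebra A G) (n m : G) :
    ((diagHom x).coeff n).coeff m = if n = m then x.coeff n else 0 := by
  induction x using MonoidAlgebra.induction_linear with
  | zero => simp
  | add x y hx hy =>
    rw [map_add, MonoidAlgebra.coeff_add, Finsupp.add_apply, MonoidAlgebra.coeff_add,
      Finsupp.add_apply, hx, hy, MonoidAlgebra.coeff_add, Finsupp.add_apply]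
    split_ifs <;> simp
  | single g a =>
    rw [diagHom_single, MonoidAlgebra.coeff_single, Finsupp.single_apply,
      MonoidAlgebra.coeff_single, Finsupp.single_apply]
    by_cases h1 : g = n
    · subst h1
      rw [if_pos rfl, MonoidAlgebra.coeff_single, Finsupp.single_apply, if_pos rfl]
    · rw [if_neg h1, if_neg h1]
      simp

variable {R : Type*} [CommRing R] [Algebra R A]

/-- ring-hom form of `alg_core`. -/
theorem alg_core' [DecidableEq G] (I : Ideal R) (hI : IsNilpotent I)
    (α : A →+* MonoidAlgebra A G)
    (hR : ∀ r : R, α (algebraMap R A r) = algebraMap R (MonoidAlgebra A G) r)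
    (h1 : (aug (A := A) (G := G)).comp α = RingHom.id A)
    (h2 : ∀ f, α f - MonoidAlgebra.single 1 f ∈ I.map (algebraMap R (MonoidAlgebra A G)))
    (h3 : (diagHom (A := A) (G := G)).comp α = (MonoidAlgebra.mapRingHom G α).comp α) :
    α = MonoidAlgebra.singleOneRingHom := by
  apply RingHom.ext
  intro f
  refine alg_core I hI α hR ?_ h2 ?_ f
  · intro f
    rw [← aug_apply]
    exact RingHom.congr_fun h1 f
  · intro f n m
    have := RingHom.congr_fun h3 f
    simp only [RingHom.comp_apply] at this
    rw [← MonoidAlgebra.coeff_mapRingHom, ← this, coeff_diagHom]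

end Maps

end Groth.Agent.H3.GradTriv
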