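import Mathlib
import Groth.Prelude.Def_Red2
import Groth.Prelude.Def_TwC
import Groth.Agent.Lib.Helper3.DSKit
import Groth.Agent.Lib.Helper3.GradTriv
import Groth.Agent.Lib.Helper9.AlgGrpAct

/-! Rigidity of actions of groups of multiplicative type modulo nilpotents (SGA 3 IX 3.4-ish):
an action of a diagonalisable group which is trivial modulo a locally nilpotent ideal is trivial
(helper3). -/

set_option autoImplicit false
universe u

open CategoryTheory MonoidalCategory CartesianMonoidalCategory MonObj GrpObj AlgebraicGeometry Limits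
open Groth.Agent.H3.DSKit

namespace Groth.Agent.H3.RigidAct

/-- A pointwise action of a group object on an object of `Over S`. -/
structure PtAction {S : Scheme.{u}} (G X : Over S) [GrpObj G] where
  smul : ∀ {T : Over S}, (T ⟶ G) → (T ⟶ X) → (T ⟶ X)
  one_smul : ∀ {T : Over S} (x : T ⟶ X), smul 1 x = x
  mul_smul : ∀ {T : Over S} (g h : T ⟶ G) (x : T ⟶ X), smul (g * h) x = smul g (smul h x)
  comp_smul : ∀ {T T' : Over S} (φ : T' ⟶ T) (g : T ⟶ G) (x : T ⟶ X),
    φ ≫ smul g x = smul (φ ≫ g) (φ ≫ x)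

section Nil

variable {S S₀ : Scheme.{u}} (i₀ : S₀ ⟶ S) [IsClosedImmersion i₀]

/-- a closed immersion with locally nilpotent ideal is surjective. -/
theorem surjective_of_locallyNilpotent
    (hnil : ∀ x : S, ∃ U : S.affineOpens, x ∈ (U : S.Opens) ∧ IsNilpotent (i₀.ker.ideal U)) :
    Surjective i₀ := by
  refine ⟨fun s => ?_⟩
  obtain ⟨V, hsV, n, hn⟩ := hnil s
  have h1 : s ∈ i₀.ker.support := by
    rw [Scheme.IdealSheafData.mem_support_iff_of_mem hsV, Scheme.mem_zeroLocus_iff]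
    intro f hf
    have hfn : IsNilpotent f := by
      refine ⟨n, ?_⟩
      have : f ^ n ∈ (i₀.ker.ideal V) ^ n := Ideal.pow_mem_pow hf n
      rw [hn] at this
      exact this
    rw [(Scheme.isNilpotent_iff_basicOpen_eq_bot_of_isCompact V.2.isCompact f).mp hfn]
    exact fun h => h
  have h2 : s ∈ (i₀.ker.support : Set S) := h1
  rw [Scheme.Hom.support_ker, i₀.isClosedEmbedding.isClosed_range.closure_eq] at h2
  exact h2

/-- a morphism from an affine scheme into an affine open `V` of `S` which kills the ideal of `S₀`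
factors through `S₀`. -/
theorem exists_factor_of_kills (V : S.affineOpens) {C : CommRingCat.{u}} (θ : Γ(S, V.1) ⟶ C)
    (hk : ∀ r ∈ i₀.ker.ideal V, θ.hom r = 0) :
    ∃ p : Spec C ⟶ S₀, p ≫ i₀ = Spec.map θ ≫ V.2.fromSpec := by
  have hsurj : Function.Surjective (i₀.app V.1).hom := i₀.app_surjective V.1 V.2
  have hker : RingHom.ker (i₀.app V.1).hom ≤ RingHom.ker θ.hom := by
    intro r hr
    rw [← Scheme.Hom.ker_apply] at hr
    exact hk r hr
  let τ : Γ(S₀, i₀ ⁻¹ᵁ V.1) →+* C := RingHom.liftOfSurjective (i₀.app V.1).hom hsurj ⟨θ.hom, hker⟩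
  have hτ : (i₀.app V.1) ≫ CommRingCat.ofHom τ = θ := by
    ext r
    exact RingHom.liftOfSurjective_comp_apply (i₀.app V.1).hom hsurj ⟨θ.hom, hker⟩ r
  refine ⟨Spec.map (CommRingCat.ofHom τ) ≫ (V.2.preimage i₀).fromSpec, ?_⟩
  rw [Category.assoc, ← IsAffineOpen.SpecMap_appLE_fromSpec i₀ V.2 (V.2.preimage i₀) le_rfl,
    ← Spec.map_comp_assoc, Scheme.Hom.appLE, ]
  congr 2
  rw [← hτ]
  simp
  

end Nil

section Core

variable {W S S₀ : Scheme.{u}} (w : W ⟶ S) (i₀ : S₀ ⟶ S) [IsClosedImmersion i₀]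
  (hnil : ∀ x : S, ∃ U : S.affineOpens, x ∈ (U : S.Opens) ∧ IsNilpotent (i₀.ker.ideal U))
  {G X : Over W} [GrpObj G] (pa : PtAction G X)
  (h0 : ∀ (T : Over W) (p : T.left ⟶ S₀), p ≫ i₀ = T.hom ≫ w →
    ∀ (g : T ⟶ G) (x : T ⟶ X), pa.smul g x = x)

include hnil h0 in
/-- the action does not move points topologically. -/
theorem smul_left_apply {T : Over W} (g : T ⟶ G) (x : T ⟶ X) (t : T.left) :
    (pa.smul g x).left t = x.left t := by
  have hs := surjective_of_locallyNilpotent i₀ hnil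
  let T₀ : Over W := Over.mk (pullback.fst (T.hom ≫ w) i₀ ≫ T.hom)
  let φ : T₀ ⟶ T := Over.homMk (pullback.fst (T.hom ≫ w) i₀) rfl
  have h1 : φ ≫ pa.smul g x = φ ≫ x := by
    rw [pa.comp_smul]
    exact h0 T₀ (pullback.snd _ _) (by simp [T₀, pullback.condition]) _ _
  have hsurj : Surjective (pullback.fst (T.hom ≫ w) i₀) := inferInstance
  obtain ⟨t₀, rfl⟩ := hsurj.surj t
  have h2 := congrArg (fun ψ => ψ.left t₀) h1
  simpa [φ] using h2

variable {U : X.left.Opens} (hU : IsAffineOpen U)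

/-- the point `x` over an affine test object is represented by the ring map `ξ` out of the
sections over the affine open `U`. -/
def Rep {C : CommRingCat.{u}} {s : Spec C ⟶ W} (x : Over.mk s ⟶ X) (ξ : Γ(X.left, U) ⟶ C) :
    Prop :=
  x.left = Spec.map ξ ≫ hU.fromSpec

omit [GrpObj G] in
theorem Rep.unique {C : CommRingCat.{u}} {s : Spec C ⟶ W} {x : Over.mk s ⟶ X}
    {ξ ξ' : Γ(X.left, U) ⟶ C} (h : Rep hU x ξ) (h' : Rep hU x ξ') : ξ = ξ' := by
  have h1 : Spec.map ξ ≫ hU.fromSpec = Spec.map ξ' ≫ hU.fromSpec := h.symm.trans h'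
  have : Mono hU.fromSpec := inferInstance
  exact Spec.map_injective ((cancel_mono hU.fromSpec).mp h1)

omit [GrpObj G] in
theorem Rep.ext {C : CommRingCat.{u}} {s : Spec C ⟶ W} {x x' : Over.mk s ⟶ X}
    {ξ : Γ(X.left, U) ⟶ C} (h : Rep hU x ξ) (h' : Rep hU x' ξ) : x = x' :=
  Over.OverMorphism.ext (h.trans h'.symm)

omit [GrpObj G] in
theorem Rep.hom {C : CommRingCat.{u}} {s : Spec C ⟶ W} {x : Over.mk s ⟶ X}
    {ξ : Γ(X.left, U) ⟶ C} (h : Rep hU x ξ) : Spec.map ξ ≫ hU.fromSpec ≫ X.hom = s := by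
  rw [← Category.assoc, ← h]
  exact Over.w x

/-- base change of affine test objects along a ring map. -/
noncomputable def bcHom {C C' : CommRingCat.{u}} (s : Spec C ⟶ W) (s' : Spec C' ⟶ W) (θ : C ⟶ C')
    (hs : Spec.map θ ≫ s = s') : Over.mk s' ⟶ Over.mk s :=
  Over.homMk (Spec.map θ) hs

omit [GrpObj G] in
theorem Rep.bc {C C' : CommRingCat.{u}} {s : Spec C ⟶ W} {s' : Spec C' ⟶ W} {x : Over.mk s ⟶ X}
    {ξ : Γ(X.left, U) ⟶ C} (h : Rep hU x ξ) (θ : C ⟶ C') (hs : Spec.map θ ≫ s = s') :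
    Rep hU (bcHom s s' θ hs ≫ x) (ξ ≫ θ) := by
  change Spec.map θ ≫ x.left = _
  rw [h, Spec.map_comp, Category.assoc]

include hnil h0 in
/-- the translate of a point landing in `U` lands in `U`. -/
theorem exists_coact {C : CommRingCat.{u}} {s : Spec C ⟶ W} {x : Over.mk s ⟶ X}
    {ξ : Γ(X.left, U) ⟶ C} (h : Rep hU x ξ) (g : Over.mk s ⟶ G) :
    ∃ α : Γ(X.left, U) ⟶ C, Rep hU (pa.smul g x) α := by
  have hrange : Set.range (pa.smul g x).left ⊆ Set.range hU.fromSpec := by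
    rintro _ ⟨c, rfl⟩
    rw [smul_left_apply w i₀ hnil pa h0, h, Scheme.Hom.comp_apply]
    exact ⟨_, rfl⟩
  let l : Spec C ⟶ Spec Γ(X.left, U) :=
    IsOpenImmersion.lift hU.fromSpec (pa.smul g x).left hrange
  have hl : l ≫ hU.fromSpec = (pa.smul g x).left := IsOpenImmersion.lift_fac _ _ _
  refine ⟨Spec.preimage l, ?_⟩
  change _ = Spec.map (Spec.preimage l) ≫ hU.fromSpec
  rw [Spec.map_preimage, hl]

omit [GrpObj G] [IsClosedImmersion i₀] in
/-- two ring maps inducing the same structure morphism agree on the sections of the base. -/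
theorem appLE_comp_eq (V : S.affineOpens) (hUV : U ≤ (X.hom ≫ w) ⁻¹ᵁ V.1) {C : CommRingCat.{u}}
    (ξ ξ' : Γ(X.left, U) ⟶ C)
    (h : Spec.map ξ ≫ hU.fromSpec ≫ X.hom = Spec.map ξ' ≫ hU.fromSpec ≫ X.hom) :
    (X.hom ≫ w).appLE V.1 U hUV ≫ ξ = (X.hom ≫ w).appLE V.1 U hUV ≫ ξ' := by
  apply Spec.map_injective
  have : Mono V.2.fromSpec := inferInstance
  apply (cancel_mono V.2.fromSpec).mp
  rw [Spec.map_comp, Spec.map_comp, Category.assoc, Category.assoc,
    IsAffineOpen.SpecMap_appLE_fromSpec (X.hom ≫ w) V.2 hU hUV]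
  have := congrArg (· ≫ w) h
  simpa [Category.assoc] using this

end Core

section Char

variable {W : Scheme.{u}} {G : Over W} [GrpObj G] {M : Type} [AddCommGroup M]
  (e : Grp.mk G ≅ Grp.mk (Red.DS W M))

/-- the underlying morphism of a group isomorphism. -/
noncomputable def eh : G ⟶ Red.DS W M := e.hom.hom.hom

/-- the underlying morphism of the inverse of a group isomorphism. -/
noncomputable def ei : Red.DS W M ⟶ G := e.inv.hom.hom

instance isMonHom_eh : IsMonHom (eh e) := inferInstanceAs (IsMonHom e.hom.hom.hom)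


theorem eh_ei : eh e ≫ ei e = 𝟙 G := by
  have := congrArg (fun f => f.hom.hom) e.hom_inv_id
  exact this

theorem ei_eh : ei e ≫ eh e = 𝟙 (Red.DS W M) := by
  have := congrArg (fun f => f.hom.hom) e.inv_hom_id
  exact this

/-- the character of a point of `G` over an affine test object. -/
noncomputable def chC {C : CommRingCat.{u}} {s : Spec C ⟶ W} (g : Over.mk s ⟶ G) :
    Multiplicative M →* C :=
  ((Scheme.ΓSpecIso C).hom.hom : Γ(Spec C, ⊤) →* C).comp (chr (g ≫ eh e))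

theorem chC_apply {C : CommRingCat.{u}} {s : Spec C ⟶ W} (g : Over.mk s ⟶ G)
    (m : Multiplicative M) : chC e g m = (Scheme.ΓSpecIso C).hom.hom (chr (g ≫ eh e) m) := rfl

theorem chC_mul {C : CommRingCat.{u}} {s : Spec C ⟶ W} (g h : Over.mk s ⟶ G)
    (m : Multiplicative M) : chC e (g * h) m = chC e g m * chC e h m := by
  have h1 : (g * h) ≫ eh e = (g ≫ eh e) * (h ≫ eh e) := MonObj.mul_comp g h (eh e)
  rw [chC_apply, chC_apply, chC_apply, h1, chr_mul, map_mul]

theorem chC_injective {C : CommRingCat.{u}} {s : Spec C ⟶ W} (g h : Over.mk s ⟶ G)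
    (hgh : ∀ m, chC e g m = chC e h m) : g = h := by
  have h1 : g ≫ eh e = h ≫ eh e := by
    apply chr_injective
    refine MonoidHom.ext fun m => ?_
    have := hgh m
    rw [chC_apply, chC_apply] at this
    exact (ConcreteCategory.bijective_of_isIso (Scheme.ΓSpecIso C).hom).1 this
  have h2 := congrArg (· ≫ ei e) h1
  simpa [Category.assoc, eh_ei] using h2

theorem chC_surjective {C : CommRingCat.{u}} (s : Spec C ⟶ W) (φ : Multiplicative M →* C) :
    ∃ g : Over.mk s ⟶ G, ∀ m, chC e g m = φ m := by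
  obtain ⟨z, hz⟩ := chr_surjective (S := W) (X := Over.mk s)
    (((Scheme.ΓSpecIso C).inv.hom : C →* Γ(Spec C, ⊤)).comp φ)
  refine ⟨z ≫ ei e, fun m => ?_⟩
  rw [chC_apply, Category.assoc, ei_eh, Category.comp_id, hz]
  change (Scheme.ΓSpecIso C).hom.hom ((Scheme.ΓSpecIso C).inv.hom (φ m)) = φ m
  rw [← CommRingCat.comp_apply, Iso.inv_hom_id]
  rfl

theorem chC_bcHom {C C' : CommRingCat.{u}} (s : Spec C ⟶ W) (s' : Spec C' ⟶ W) (θ : C ⟶ C')
    (hs : Spec.map θ ≫ s = s') (g : Over.mk s ⟶ G)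
    (m : Multiplicative M) : chC e (bcHom s s' θ hs ≫ g) m = θ.hom (chC e g m) := by
  rw [chC_apply, chC_apply, Category.assoc, chr_precomp]
  change (Scheme.ΓSpecIso C').hom.hom ((Spec.map θ).appTop.hom _) = _
  rw [← CommRingCat.comp_apply, Scheme.ΓSpecIso_naturality]
  rfl

theorem chC_one {C : CommRingCat.{u}} {s : Spec C ⟶ W} (m : Multiplicative M) :
    chC e (1 : Over.mk s ⟶ G) m = 1 := by
  have h1 : (1 : Over.mk s ⟶ G) ≫ eh e = 1 := MonObj.one_comp (eh e)
  rw [chC_apply, h1, chr_one]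
  simp

end Char

section Univ

open Groth.Agent.H3.GradTriv

variable {W S S₀ : Scheme.{u}} (w : W ⟶ S) (i₀ : S₀ ⟶ S) [IsClosedImmersion i₀]
  (hnil : ∀ x : S, ∃ U : S.affineOpens, x ∈ (U : S.Opens) ∧ IsNilpotent (i₀.ker.ideal U))
  {G X : Over W} [GrpObj G] (pa : PtAction G X)
  (h0 : ∀ (T : Over W) (p : T.left ⟶ S₀), p ≫ i₀ = T.hom ≫ w →
    ∀ (g : T ⟶ G) (x : T ⟶ X), pa.smul g x = x)
  {U : X.left.Opens} (hU : IsAffineOpen U)
  (M : Type) [AddCommGroup M] (e : Grp.mk G ≅ Grp.mk (Red.DS W M))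

/-- the coordinate ring of the universal family `D(M) × U`. -/
noncomputable abbrev C1 (U : X.left.Opens) (M : Type) [AddCommGroup M] : CommRingCat.{u} :=
  CommRingCat.of (MonoidAlgebra Γ(X.left, U) (Multiplicative M))

/-- the inclusion of the coordinate ring of `U`. -/
noncomputable def ι1 : Γ(X.left, U) ⟶ C1 U M :=
  CommRingCat.ofHom MonoidAlgebra.singleOneRingHom

/-- the structure morphism of the universal family. -/
noncomputable def s1 : Spec (C1 U M) ⟶ W := Spec.map (ι1 M) ≫ hU.fromSpec ≫ X.hom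

/-- the universal point of `U`. -/
noncomputable def x1 : Over.mk (s1 hU M) ⟶ X :=
  Over.homMk (Spec.map (ι1 M) ≫ hU.fromSpec) (by simp [s1])

omit [GrpObj G] in
theorem rep_x1 : Rep hU (x1 hU M) (ι1 M) := rfl

include hnil h0 in
/-- the universal character acts trivially on the universal point. -/
theorem universal_trivial (V : S.affineOpens) (hV : IsNilpotent (i₀.ker.ideal V))
    (hUV : U ≤ (X.hom ≫ w) ⁻¹ᵁ V.1) (gu : Over.mk (s1 hU M) ⟶ G)
    (hgu : ∀ m, chC e gu m = MonoidAlgebra.single m 1) :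
    pa.smul gu (x1 hU M) = x1 hU M := by
  classical
  obtain ⟨α, hα⟩ := exists_coact w i₀ hnil pa h0 hU (rep_x1 hU M) gu
  suffices hαι : α = ι1 M by
    rw [hαι] at hα
    exact Rep.ext hU hα (rep_x1 hU M)
  let algRA : Algebra Γ(S, V.1) Γ(X.left, U) := ((X.hom ≫ w).appLE V.1 U hUV).hom.toAlgebra
  -- compatibility with the base ring
  have hρ : (X.hom ≫ w).appLE V.1 U hUV ≫ α = (X.hom ≫ w).appLE V.1 U hUV ≫ ι1 M :=
    appLE_comp_eq w hU V hUV α (ι1 M) (by rw [Rep.hom hU hα]; rfl)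
  have hR : ∀ r : Γ(S, V.1), α.hom (algebraMap Γ(S, V.1) Γ(X.left, U) r) =
      algebraMap Γ(S, V.1) (MonoidAlgebra Γ(X.left, U) (Multiplicative M)) r := by
    intro r
    have := congrArg (fun φ => φ.hom r) hρ
    exact this
  -- the unit axiom
  have h1 : (aug (A := Γ(X.left, U)) (G := Multiplicative M)).comp α.hom = RingHom.id _ := by
    let ε : C1 U M ⟶ Γ(X.left, U) := CommRingCat.ofHom aug
    let σ := bcHom (s1 hU M) (Spec.map ε ≫ s1 hU M) ε rfl
    have hsg : σ ≫ gu = 1 := by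
      apply chC_injective e
      intro m
      rw [chC_bcHom, hgu, chC_one]
      exact aug_single m 1
    have e1 : σ ≫ pa.smul gu (x1 hU M) = σ ≫ x1 hU M := by
      rw [pa.comp_smul, hsg, pa.one_smul]
    have r1 := Rep.bc hU hα ε rfl
    have r2 := Rep.bc hU (rep_x1 hU M) ε rfl
    rw [e1] at r1
    have h3 : α ≫ ε = ι1 M ≫ ε := Rep.unique hU r1 r2
    have h4 : ι1 M ≫ ε = 𝟙 _ := by
      refine CommRingCat.hom_ext (RingHom.ext fun a => ?_)
      exact aug_single 1 a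
    rw [h4] at h3
    exact congrArg (fun φ => φ.hom) h3
  -- triviality modulo the ideal
  have h2 : ∀ f, α.hom f - MonoidAlgebra.single 1 f ∈
      (i₀.ker.ideal V).map (algebraMap Γ(S, V.1) (MonoidAlgebra Γ(X.left, U) (Multiplicative M))) := by
    intro f
    let J := (i₀.ker.ideal V).map
      (algebraMap Γ(S, V.1) (MonoidAlgebra Γ(X.left, U) (Multiplicative M)))
    let q : C1 U M ⟶ CommRingCat.of (MonoidAlgebra Γ(X.left, U) (Multiplicative M) ⧸ J) :=
      CommRingCat.ofHom (Ideal.Quotient.mk J)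
    let σ := bcHom (s1 hU M) (Spec.map q ≫ s1 hU M) q rfl
    obtain ⟨p, hp⟩ := exists_factor_of_kills i₀ V
      ((X.hom ≫ w).appLE V.1 U hUV ≫ ι1 M ≫ q) (by
        intro r hr
        change Ideal.Quotient.mk J (algebraMap Γ(S, V.1) _ r) = 0
        rw [Ideal.Quotient.eq_zero_iff_mem]
        exact Ideal.mem_map_of_mem _ hr)
    have hp' : p ≫ i₀ = (Over.mk (Spec.map q ≫ s1 hU M)).hom ≫ w := by
      rw [hp, Spec.map_comp, Spec.map_comp, Category.assoc, Category.assoc,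
        IsAffineOpen.SpecMap_appLE_fromSpec (X.hom ≫ w) V.2 hU hUV]
      simp [s1]
    have e1 : σ ≫ pa.smul gu (x1 hU M) = σ ≫ x1 hU M := by
      rw [pa.comp_smul]
      exact h0 _ p hp' _ _
    have r1 := Rep.bc hU hα q rfl
    have r2 := Rep.bc hU (rep_x1 hU M) q rfl
    rw [e1] at r1
    have h3 : α ≫ q = ι1 M ≫ q := Rep.unique hU r1 r2
    have h4 := congrArg (fun φ => φ.hom f) h3
    exact Ideal.Quotient.eq.mp h4
  -- associativity
  have h3 : (diagHom (A := Γ(X.left, U)) (G := Multiplicative M)).comp α.hom =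
      (MonoidAlgebra.mapRingHom (Multiplicative M) α.hom).comp α.hom := by
    let C2 : CommRingCat.{u} := CommRingCat.of
      (MonoidAlgebra (MonoidAlgebra Γ(X.left, U) (Multiplicative M)) (Multiplicative M))
    let r₂ : C1 U M ⟶ C2 := CommRingCat.ofHom MonoidAlgebra.singleOneRingHom
    let d : C1 U M ⟶ C2 := CommRingCat.ofHom diagHom
    let φ : C1 U M ⟶ C2 := CommRingCat.ofHom (MonoidAlgebra.mapRingHom (Multiplicative M) α.hom)
    have hd : ι1 M ≫ d = ι1 M ≫ r₂ := by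
      refine CommRingCat.hom_ext (RingHom.ext fun a => ?_)
      exact diagHom_single 1 a
    have hφ : ι1 M ≫ φ = α ≫ r₂ := by
      refine CommRingCat.hom_ext (RingHom.ext fun a => ?_)
      exact MonoidAlgebra.mapRingHom_single _ _ _
    let s2 : Spec C2 ⟶ W := Spec.map r₂ ≫ s1 hU M
    have hsD : Spec.map d ≫ s1 hU M = s2 := by
      change Spec.map d ≫ Spec.map (ι1 M) ≫ _ = Spec.map r₂ ≫ Spec.map (ι1 M) ≫ _
      rw [← Spec.map_comp_assoc, ← Spec.map_comp_assoc, hd]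
    have hsΦ : Spec.map φ ≫ s1 hU M = s2 := by
      change Spec.map φ ≫ Spec.map (ι1 M) ≫ _ = Spec.map r₂ ≫ s1 hU M
      rw [← Spec.map_comp_assoc, hφ, Spec.map_comp_assoc, Rep.hom hU hα]
    let Rr := bcHom (s1 hU M) s2 r₂ rfl
    let D := bcHom (s1 hU M) s2 d hsD
    let Φ := bcHom (s1 hU M) s2 φ hsΦ
    have hDx : D ≫ x1 hU M = Rr ≫ x1 hU M := by
      have r1 := Rep.bc hU (rep_x1 hU M) d hsD
      rw [hd] at r1
      exact Rep.ext hU r1 (Rep.bc hU (rep_x1 hU M) r₂ rfl)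
    have hΦx : Φ ≫ x1 hU M = Rr ≫ pa.smul gu (x1 hU M) := by
      have r1 := Rep.bc hU (rep_x1 hU M) φ hsΦ
      rw [hφ] at r1
      exact Rep.ext hU r1 (Rep.bc hU hα r₂ rfl)
    have hmul : D ≫ gu = (Φ ≫ gu) * (Rr ≫ gu) := by
      apply chC_injective e
      intro m
      rw [chC_mul, chC_bcHom, chC_bcHom, chC_bcHom, hgu]
      change diagHom (MonoidAlgebra.single m 1) =
        MonoidAlgebra.mapRingHom (Multiplicative M) α.hom (MonoidAlgebra.single m 1) *
          MonoidAlgebra.single 1 (MonoidAlgebra.single m 1)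
      rw [diagHom_single, MonoidAlgebra.mapRingHom_single, map_one,
        MonoidAlgebra.single_mul_single, _root_.mul_one, _root_.one_mul]
    have e1 : D ≫ pa.smul gu (x1 hU M) = Φ ≫ pa.smul gu (x1 hU M) := by
      rw [pa.comp_smul, hmul, hDx, pa.mul_smul, ← pa.comp_smul, ← hΦx, ← pa.comp_smul]
    have r1 := Rep.bc hU hα d hsD
    have r2 := Rep.bc hU hα φ hsΦ
    rw [e1] at r1
    have h4 : α ≫ d = α ≫ φ := Rep.unique hU r1 r2
    exact congrArg (fun ψ => ψ.hom) h4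
  have key := alg_core' (R := Γ(S, V.1)) (A := Γ(X.left, U)) (G := Multiplicative M)
    (i₀.ker.ideal V) hV α.hom hR h1 h2 h3
  refine CommRingCat.hom_ext (RingHom.ext fun a => ?_)
  exact RingHom.congr_fun key a

omit [GrpObj G] in
/-- a morphism landing in an affine open factors through its spectrum. -/
theorem toSpecΓ_appLE_fromSpec {T : Scheme.{u}} (f : T ⟶ X.left)
    (hle : (⊤ : T.Opens) ≤ f ⁻¹ᵁ U) :
    T.toSpecΓ ≫ Spec.map (f.appLE U ⊤ hle) ≫ hU.fromSpec = f := by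
  have h1 := Scheme.Opens.toSpecΓ_SpecMap_appLE f U ⊤ hle
  have h2 : (⊤ : T.Opens).ι ≫ T.toSpecΓ ≫ Spec.map (f.appLE U ⊤ hle) ≫ hU.fromSpec =
      (⊤ : T.Opens).ι ≫ f := by
    rw [← Category.assoc, ← Scheme.Opens.toSpecΓ_top, ← Category.assoc, h1, Category.assoc,
      hU.toSpecΓ_fromSpec, Scheme.Hom.resLE_comp_ι]
  have : IsIso (⊤ : T.Opens).ι := T.topIso.isIso_hom
  exact (cancel_epi _).mp h2

include hnil h0 e hU in
/-- points landing in a good affine open are fixed. -/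
theorem trivial_of_lands (V : S.affineOpens) (hV : IsNilpotent (i₀.ker.ideal V))
    (hUV : U ≤ (X.hom ≫ w) ⁻¹ᵁ V.1) {T : Over W} (g : T ⟶ G) (x : T ⟶ X)
    (hx : ∀ t, x.left t ∈ U) : pa.smul g x = x := by
  have hle : (⊤ : T.left.Opens) ≤ x.left ⁻¹ᵁ U := fun t _ => hx t
  let ξx : Γ(X.left, U) ⟶ Γ(T.left, ⊤) := x.left.appLE U ⊤ hle
  let χ : Multiplicative M →* Γ(T.left, ⊤) := chr (g ≫ eh e)
  have hlamR : ∀ (m : Multiplicative M) (a : Γ(X.left, U)),
      MonoidAlgebra.liftNCRingHom ξx.hom χ (fun _ _ => Commute.all _ _)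
        (MonoidAlgebra.single m a) = ξx.hom a * χ m :=
    fun m a => MonoidAlgebra.liftNCRingHom_single _ _ _ _ _
  let lam : C1 U M ⟶ Γ(T.left, ⊤) :=
    CommRingCat.ofHom (MonoidAlgebra.liftNCRingHom ξx.hom χ (fun _ _ => Commute.all _ _))
  have hlam : ι1 M ≫ lam = ξx := by
    refine CommRingCat.hom_ext (RingHom.ext fun a => ?_)
    exact (hlamR 1 a).trans (by rw [map_one, _root_.mul_one])
  have key : T.left.toSpecΓ ≫ Spec.map ξx ≫ hU.fromSpec = x.left :=
    toSpecΓ_appLE_fromSpec hU x.left hle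
  let ψ : T.left ⟶ Spec (C1 U M) := T.left.toSpecΓ ≫ Spec.map lam
  have hψx : ψ ≫ Spec.map (ι1 M) ≫ hU.fromSpec = x.left := by
    simp only [ψ, Category.assoc]
    rw [← Spec.map_comp_assoc, hlam, key]
  have hψ : ψ ≫ s1 hU M = T.hom := by
    change ψ ≫ Spec.map (ι1 M) ≫ hU.fromSpec ≫ X.hom = _
    rw [← Category.assoc, ← Category.assoc, Category.assoc ψ, hψx]
    exact Over.w x
  let Ψ : T ⟶ Over.mk (s1 hU M) := Over.homMk ψ hψ
  obtain ⟨gu, hgu⟩ := chC_surjective e (s1 hU M)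
    (MonoidAlgebra.of Γ(X.left, U) (Multiplicative M))
  have hΨx : Ψ ≫ x1 hU M = x := Over.OverMorphism.ext hψx
  have hΨg : Ψ ≫ gu = g := by
    have h1 : (Ψ ≫ gu) ≫ eh e = g ≫ eh e := by
      apply chr_injective
      refine MonoidHom.ext fun m => ?_
      rw [Category.assoc, chr_precomp]
      have hz : chr (gu ≫ eh e) m =
          (Scheme.ΓSpecIso (C1 U M)).inv.hom (MonoidAlgebra.single m 1) := by
        have := hgu m
        rw [chC_apply] at this
        have h5 := congrArg (Scheme.ΓSpecIso (C1 U M)).inv.hom this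
        rw [← CommRingCat.comp_apply, Iso.hom_inv_id] at h5
        exact h5
      rw [hz]
      change (ψ.appTop).hom _ = χ m
      simp only [ψ, Scheme.Hom.comp_appTop, CommRingCat.comp_apply]
      rw [← CommRingCat.comp_apply (Scheme.ΓSpecIso (C1 U M)).inv,
        ← Scheme.ΓSpecIso_inv_naturality, CommRingCat.comp_apply, Scheme.toSpecΓ_appTop,
        ← CommRingCat.comp_apply, Iso.inv_hom_id]
      exact (hlamR m 1).trans (by rw [map_one, _root_.one_mul])
    have h2 := congrArg (· ≫ ei e) h1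
    simpa [Category.assoc, eh_ei] using h2
  rw [← hΨx, ← hΨg, ← pa.comp_smul,
    universal_trivial w i₀ hnil pa h0 hU M e V hV hUV gu (fun m => by rw [hgu]; rfl)]

include hnil h0 e in
/-- **Core**: an action of a diagonalisable group which is trivial modulo a locally nilpotent ideal
is trivial. -/
theorem core_trivial {T : Over W} (g : T ⟶ G) (x : T ⟶ X) : pa.smul g x = x := by
  apply Over.OverMorphism.ext
  apply Scheme.hom_ext_of_forall
  intro t
  obtain ⟨V, hsV, hV⟩ := hnil ((X.hom ≫ w) (x.left t))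
  obtain ⟨_, ⟨U, hU, rfl⟩, hxU, hUsub⟩ := X.left.isBasis_affineOpens.exists_subset_of_mem_open
    (a := x.left t) hsV ((X.hom ≫ w) ⁻¹ᵁ V.1).isOpen
  refine ⟨x.left ⁻¹ᵁ U, hxU, ?_⟩
  let j : Over.mk ((x.left ⁻¹ᵁ U).ι ≫ T.hom) ⟶ T := Over.homMk (x.left ⁻¹ᵁ U).ι rfl
  have h1 : j ≫ pa.smul g x = j ≫ x := by
    rw [pa.comp_smul]
    exact trivial_of_lands w i₀ hnil pa h0 hU M e V hV hUsub _ _ (fun t' => t'.2)
  exact congrArg (fun ψ => ψ.left) h1

end Univ

section Glue

variable {S : Scheme.{u}} {G X : Over S} [GrpObj G]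

/-- transpose of a point of a base change. -/
noncomputable def tp {W : Scheme.{u}} (w : W ⟶ S) (Z : Over S) {T : Over W}
    (z : T ⟶ Red.bc w Z) : (Over.map w).obj T ⟶ Z :=
  ((Over.mapPullbackAdj w).homEquiv T Z).symm z

/-- inverse transpose. -/
noncomputable def tpInv {W : Scheme.{u}} (w : W ⟶ S) (Z : Over S) {T : Over W}
    (y : (Over.map w).obj T ⟶ Z) : T ⟶ Red.bc w Z :=
  (Over.mapPullbackAdj w).homEquiv T Z y

theorem tp_tpInv {W : Scheme.{u}} (w : W ⟶ S) (Z : Over S) {T : Over W}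
    (y : (Over.map w).obj T ⟶ Z) : tp w Z (tpInv w Z y) = y :=
  Equiv.symm_apply_apply _ _

theorem tpInv_tp {W : Scheme.{u}} (w : W ⟶ S) (Z : Over S) {T : Over W}
    (z : T ⟶ Red.bc w Z) : tpInv w Z (tp w Z z) = z :=
  Equiv.apply_symm_apply _ _

theorem tp_comp {W : Scheme.{u}} (w : W ⟶ S) (Z : Over S) {T T' : Over W} (φ : T' ⟶ T)
    (z : T ⟶ Red.bc w Z) : tp w Z (φ ≫ z) = (Over.map w).map φ ≫ tp w Z z :=
  (Over.mapPullbackAdj w).homEquiv_naturality_left_symm φ z

theorem tpInv_comp {W : Scheme.{u}} (w : W ⟶ S) (Z : Over S) {T T' : Over W} (φ : T' ⟶ T)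
    (y : (Over.map w).obj T ⟶ Z) :
    φ ≫ tpInv w Z y = tpInv w Z ((Over.map w).map φ ≫ y) :=
  ((Over.mapPullbackAdj w).homEquiv_naturality_left φ y).symm

theorem tp_mul {W : Scheme.{u}} (w : W ⟶ S) {T : Over W} (g h : T ⟶ Red.bc w G) :
    tp w G (g * h) = tp w G g * tp w G h :=
  Groth.Agent.H4.GaGm.tr_mul w G g h

theorem tp_one {W : Scheme.{u}} (w : W ⟶ S) {T : Over W} :
    tp w G (1 : T ⟶ Red.bc w G) = 1 := by
  have h := tp_mul (G := G) w (1 : T ⟶ Red.bc w G) 1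
  rw [_root_.mul_one (1 : T ⟶ Red.bc w G)] at h
  exact left_eq_mul.mp h

/-- restriction of a pointwise action along a base change. -/
noncomputable def PtAction.bc (pa : PtAction G X) {W : Scheme.{u}} (w : W ⟶ S) :
    PtAction (Red.bc w G) (Red.bc w X) where
  smul g x := tpInv w X (pa.smul (tp w G g) (tp w X x))
  one_smul x := by rw [tp_one, pa.one_smul, tpInv_tp]
  mul_smul g h x := by rw [tp_mul, pa.mul_smul, tp_tpInv]
  comp_smul φ g x := by rw [tpInv_comp, pa.comp_smul, tp_comp, tp_comp]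

theorem PtAction.bc_smul (pa : PtAction G X) {W : Scheme.{u}} (w : W ⟶ S) {T : Over W}
    (g : T ⟶ Red.bc w G) (x : T ⟶ Red.bc w X) :
    (pa.bc w).smul g x = tpInv w X (pa.smul (tp w G g) (tp w X x)) := rfl

variable {S₀ : Scheme.{u}} (i₀ : S₀ ⟶ S) [IsClosedImmersion i₀]
  (hnil : ∀ x : S, ∃ U : S.affineOpens, x ∈ (U : S.Opens) ∧ IsNilpotent (i₀.ker.ideal U))
  (pa : PtAction G X)

include hnil in
/-- **Rigidity**: a pointwise action of a group of multiplicative type which is trivial modulo a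
locally nilpotent ideal is trivial. -/
theorem main
    (hG : TwC.Locally S TwC.Topology.fpqc (fun S' f => ∃ (M : Type) (_ : AddCommGroup M),
      Nonempty (Grp.mk (Red.bc f G) ≅ Grp.mk (Red.DS S' M))))
    (h0 : ∀ (Y : Over S) (_ : Y ⟶ Over.mk i₀) (g : Y ⟶ G) (x : Y ⟶ X), pa.smul g x = x) :
    ∀ (Y : Over S) (g : Y ⟶ G) (x : Y ⟶ X), pa.smul g x = x := by
  obtain ⟨S', f, hflat, hsurj, -, hloc⟩ := hG
  intro Y g x
  apply Over.OverMorphism.ext
  have hepi : Epi (pullback.fst Y.hom f) := Flat.epi_of_flat_of_surjective _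
  apply (cancel_epi (pullback.fst Y.hom f)).mp
  apply Scheme.hom_ext_of_forall
  intro y'
  obtain ⟨O, hO, M, hM, ⟨e⟩⟩ := hloc (pullback.snd Y.hom f y')
  refine ⟨pullback.snd Y.hom f ⁻¹ᵁ O, hO, ?_⟩
  let T : Over (O : Scheme.{u}) := Over.mk (pullback.snd Y.hom f ∣_ O)
  let φ : (Over.map (O.ι ≫ f)).obj T ⟶ Y :=
    Over.homMk ((pullback.snd Y.hom f ⁻¹ᵁ O).ι ≫ pullback.fst Y.hom f) (by
      change _ = (pullback.snd Y.hom f ∣_ O) ≫ O.ι ≫ f
      rw [← Category.assoc (pullback.snd Y.hom f ∣_ O), morphismRestrict_ι, Category.assoc,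
        Category.assoc, pullback.condition])
  have h0' : ∀ (T : Over (O : Scheme.{u})) (p : T.left ⟶ S₀), p ≫ i₀ = T.hom ≫ (O.ι ≫ f) →
      ∀ (g : T ⟶ Red.bc (O.ι ≫ f) G) (x : T ⟶ Red.bc (O.ι ≫ f) X),
        (pa.bc (O.ι ≫ f)).smul g x = x := by
    intro T p hp g x
    rw [PtAction.bc_smul]
    have := h0 ((Over.map (O.ι ≫ f)).obj T) (Over.homMk p (by simpa using hp))
      (tp (O.ι ≫ f) G g) (tp (O.ι ≫ f) X x)
    rw [this, tpInv_tp]
  have key := core_trivial (O.ι ≫ f) i₀ hnil (pa.bc (O.ι ≫ f)) h0' M e (T := T)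
    (tpInv (O.ι ≫ f) G (φ ≫ g)) (tpInv (O.ι ≫ f) X (φ ≫ x))
  rw [PtAction.bc_smul, tp_tpInv, tp_tpInv] at key
  have key2 := congrArg (tp (O.ι ≫ f) X) key
  rw [tp_tpInv, tp_tpInv, ← pa.comp_smul] at key2
  exact congrArg (fun ψ => ψ.left) key2

end Glue

section Examples

variable {S : Scheme.{u}} {G X : Over S} [GrpObj G]

/-- the pointwise action attached to an action. -/
noncomputable def PtAction.ofAction (a : AlgGrp.Action G X) : PtAction G X where
  smul g x := lift g x ≫ a.act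
  one_smul x := Groth.Agent.H9.AlgGrpAct.lift_one_act a x
  mul_smul g h x := Groth.Agent.H9.AlgGrpAct.lift_mul_act a g h x
  comp_smul φ g x := by rw [← Category.assoc, comp_lift]

/-- the pointwise action by conjugation through a homomorphism. -/
noncomputable def PtAction.conj {H : Over S} [GrpObj H] (v : G ⟶ H) [IsMonHom v] :
    PtAction G H where
  smul g h := (g ≫ v) * h * (g ≫ v)⁻¹
  one_smul {T} h := by
    have h1 : (1 : T ⟶ G) ≫ v = 1 := MonObj.one_comp v
    rw [h1]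
    group
  mul_smul g g' h := by
    have h1 : (g * g') ≫ v = (g ≫ v) * (g' ≫ v) := MonObj.mul_comp g g' v
    rw [h1]
    group
  comp_smul φ g h := by
    rw [MonObj.comp_mul, MonObj.comp_mul, GrpObj.comp_inv, Category.assoc]

end Examples

end Groth.Agent.H3.RigidAct
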