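import Mathlib.RingTheory.Depth.Rees
import Mathlib.RingTheory.Regular.LinearMap
import Mathlib.RingTheory.Ideal.AssociatedPrime.Finiteness
import Mathlib.RingTheory.Nakayama
import Groth.Prelude.Def_CAlg
universe u v

namespace Groth.Agent.H3.DepthAux

open RingTheory.Sequence

variable {R : Type u} [CommRing R]

/-- `idealDepth I M = 0` iff `IM ≠ M` and no element of `I` is `M`-regular. -/
theorem idealDepth_eq_zero_iff (I : Ideal R) (M : Type v) [AddCommGroup M] [Module R M] :
    LocCoh.idealDepth I M = 0 ↔
      I • (⊤ : Submodule R M) ≠ ⊤ ∧ ∀ x ∈ I, ¬ IsSMulRegular M x := by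
  classical
  unfold LocCoh.idealDepth
  split_ifs with h
  · simp [h]
  · simp only [ne_eq, h, not_false_eq_true, true_and]
    rw [← le_zero_iff, iSup₂_le_iff]
    constructor
    · intro H x hx hreg
      have := H [x] ⟨(isWeaklyRegular_singleton_iff M x).mpr hreg, by simpa using hx⟩
      simp at this
    · rintro H rs ⟨hrs, hmem⟩
      cases rs with
      | nil => simp
      | cons x rs' =>
        exfalso
        rw [isWeaklyRegular_cons_iff] at hrs
        exact H x (hmem x (by simp)) hrs.1

theorem smul_top_ne_top_of_nontrivial [IsLocalRing R] (M : Type v) [AddCommGroup M] [Module R M]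
    [Module.Finite R M] [Nontrivial M] :
    IsLocalRing.maximalIdeal R • (⊤ : Submodule R M) ≠ ⊤ := by
  intro h
  have := Submodule.eq_bot_of_le_smul_of_le_jacobson_bot (IsLocalRing.maximalIdeal R) (⊤ : Submodule R M)
    Module.Finite.fg_top h.ge (IsLocalRing.maximalIdeal_le_jacobson _)
  exact top_ne_bot this

theorem smul_top_ne_top_iff_nontrivial [IsLocalRing R] (M : Type v) [AddCommGroup M] [Module R M]
    [Module.Finite R M] :
    IsLocalRing.maximalIdeal R • (⊤ : Submodule R M) ≠ ⊤ ↔ Nontrivial M := by
  constructor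
  · intro h
    by_contra hn
    rw [not_nontrivial_iff_subsingleton] at hn
    exact h (Subsingleton.elim _ _)
  · intro _
    exact smul_top_ne_top_of_nontrivial M

/-- depth zero iff the maximal ideal is an associated prime. -/
theorem depth_eq_zero_iff_mem_associatedPrimes (A : Type u) [CommRing A] [IsLocalRing A]
    [IsNoetherianRing A] (M : Type v) [AddCommGroup M] [Module A M] [Module.Finite A M] :
    LocCoh.depth A M = 0 ↔ IsLocalRing.maximalIdeal A ∈ associatedPrimes A M := by
  unfold LocCoh.depth
  rw [idealDepth_eq_zero_iff, smul_top_ne_top_iff_nontrivial]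
  constructor
  · rintro ⟨hnt, hreg⟩
    have h2 : ¬ Subsingleton ((A ⧸ IsLocalRing.maximalIdeal A) →ₗ[A] M) := by
      rw [IsSMulRegular.subsingleton_linearMap_iff, Ideal.annihilator_quotient]
      push Not
      exact hreg
    rw [not_subsingleton_iff_nontrivial] at h2
    obtain ⟨f, hf⟩ := exists_ne (0 : (A ⧸ IsLocalRing.maximalIdeal A) →ₗ[A] M)
    rw [AssociatedPrimes.mem_iff, isAssociatedPrime_iff]
    refine ⟨inferInstance, f 1, ?_⟩
    have hf1 : f 1 ≠ 0 := by
      intro h0
      apply hf
      ext
      simpa using h0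
    have hle : IsLocalRing.maximalIdeal A ≤ Submodule.colon ⊥ {f 1} := by
      intro a ha
      rw [Submodule.mem_colon_singleton, Submodule.mem_bot, ← map_smul]
      have : a • (1 : A ⧸ IsLocalRing.maximalIdeal A) = 0 := by
        rw [Algebra.smul_def, mul_one]
        exact Ideal.Quotient.eq_zero_iff_mem.mpr ha
      rw [this, map_zero]
    refine ((IsLocalRing.maximalIdeal.isMaximal A).eq_of_le ?_ hle)
    intro htop
    apply hf1
    have : (1 : A) ∈ Submodule.colon (⊥ : Submodule A M) {f 1} := by rw [htop]; trivial
    rw [Submodule.mem_colon_singleton, Submodule.mem_bot, one_smul] at this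
    exact this
  · intro h
    have hnt : Nontrivial M := by
      by_contra hn
      rw [not_nontrivial_iff_subsingleton] at hn
      exact not_isAssociatedPrime_of_subsingleton h
    refine ⟨hnt, ?_⟩
    intro x hx hreg
    rw [AssociatedPrimes.mem_iff, isAssociatedPrime_iff] at h
    obtain ⟨_, m, hm⟩ := h
    have hx' : x ∈ Submodule.colon (⊥ : Submodule A M) {m} := hm ▸ hx
    rw [Submodule.mem_colon_singleton, Submodule.mem_bot] at hx'
    have hm0 : m = 0 := hreg (by simpa using hx')
    subst hm0
    have : (1 : A) ∈ Submodule.colon (⊥ : Submodule A M) {(0 : M)} := by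
      rw [Submodule.mem_colon_singleton]; simp
    rw [← hm] at this
    exact (IsLocalRing.maximalIdeal.isMaximal A).ne_top ((Ideal.eq_top_iff_one _).mpr this)

end Groth.Agent.H3.DepthAux
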