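import Mathlib

set_option autoImplicit false

universe u

open AlgebraicGeometry CategoryTheory CategoryTheory.Limits TopologicalSpace

namespace Groth.Agent.H3.QcClosure

/-- ring level: points in the closure of the image of a closed set are specializations of image
points -/
lemma exists_specializes_prime {R S : Type*} [CommRing R] [CommRing S] (φ : R →+* S)
    (Z : Set (PrimeSpectrum S)) (hZ : IsClosed Z) (y : PrimeSpectrum R)
    (hy : y ∈ closure (PrimeSpectrum.comap φ '' Z)) :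
    ∃ w ∈ Z, PrimeSpectrum.comap φ w ⤳ y := by
  obtain ⟨I, rfl⟩ := (PrimeSpectrum.isClosed_iff_zeroLocus_ideal Z).mp hZ
  rw [PrimeSpectrum.closure_image_comap_zeroLocus] at hy
  obtain ⟨q, hqI, hq, hqle⟩ := y.asIdeal.exists_ideal_comap_le_prime I hy
  exact ⟨⟨q, hq⟩, hqI, (PrimeSpectrum.le_iff_specializes ⟨q.comap φ, inferInstance⟩ y).mp hqle⟩

/-- for a quasi-compact morphism, the closure of the image of a closed set consists of
specializations of points of the image -/
theorem exists_specializes_of_mem_closure {X Y : Scheme.{u}} (f : X ⟶ Y) [QuasiCompact f]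
    (F : Set X) (hF : IsClosed F) (y : Y) (hy : y ∈ closure (f '' F)) :
    ∃ z ∈ F, f z ⤳ y := by
  obtain ⟨V, hV, hyV, -⟩ := exists_isAffineOpen_mem_and_subset (x := y) (U := ⊤) trivial
  have hU : IsCompact ((f ⁻¹ᵁ V : X.Opens) : Set X) :=
    QuasiCompact.isCompact_preimage (f := f) _ V.isOpen hV.isCompact
  obtain ⟨R', g, hg⟩ := isCompact_iff_exists.mp hU
  have hrange : Set.range (g ≫ f) ⊆ Set.range hV.fromSpec := by
    rw [hV.range_fromSpec]
    rintro _ ⟨w, rfl⟩
    have : g w ∈ ((f ⁻¹ᵁ V : X.Opens) : Set X) := by rw [← hg]; exact ⟨w, rfl⟩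
    exact this
  let h' : Spec R' ⟶ Spec Γ(Y, V) := IsOpenImmersion.lift hV.fromSpec (g ≫ f) hrange
  have hh' : h' ≫ hV.fromSpec = g ≫ f := IsOpenImmersion.lift_fac _ _ _
  obtain ⟨φ, hφ⟩ := Spec.map_surjective h'
  obtain ⟨y₀, rfl⟩ : y ∈ Set.range hV.fromSpec := by rw [hV.range_fromSpec]; exact hyV
  let Z : Set (Spec R') := g ⁻¹' F
  have hZ : IsClosed Z := hF.preimage g.continuous
  -- the key closure computation
  have hy₀ : y₀ ∈ closure (h' '' Z) := by
    rw [hV.fromSpec.isOpenEmbedding.isEmbedding.closure_eq_preimage_closure_image]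
    change hV.fromSpec y₀ ∈ closure (hV.fromSpec '' (h' '' Z))
    have himg : hV.fromSpec '' (h' '' Z) = (V : Set Y) ∩ f '' F := by
      ext t
      constructor
      · rintro ⟨_, ⟨w, hw, rfl⟩, rfl⟩
        have e : hV.fromSpec (h' w) = f (g w) := by
          rw [← Scheme.Hom.comp_apply, hh', Scheme.Hom.comp_apply]
        rw [e]
        refine ⟨?_, g w, hw, rfl⟩
        have : g w ∈ ((f ⁻¹ᵁ V : X.Opens) : Set X) := by rw [← hg]; exact ⟨w, rfl⟩
        exact this
      · rintro ⟨htV, x, hxF, rfl⟩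
        have : x ∈ Set.range g := by rw [hg]; exact htV
        obtain ⟨w, rfl⟩ := this
        refine ⟨h' w, ⟨w, hxF, rfl⟩, ?_⟩
        rw [← Scheme.Hom.comp_apply, hh', Scheme.Hom.comp_apply]
    rw [himg]
    exact V.isOpen.inter_closure ⟨hyV, hy⟩
  rw [← hφ] at hy₀
  obtain ⟨w, hwZ, hw⟩ := exists_specializes_prime φ.hom Z hZ y₀ hy₀
  refine ⟨g w, hwZ, ?_⟩
  have e : f (g w) = hV.fromSpec ((Spec.map φ) w) := by
    rw [← Scheme.Hom.comp_apply, ← Scheme.Hom.comp_apply, hφ, hh']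
  rw [e]
  exact hw.map hV.fromSpec.continuous

/-- a quasi-compact injective morphism reflecting specializations is a topological embedding -/
theorem isEmbedding_of_reflects_specializes {Y Z : Scheme.{u}} (g : Y ⟶ Z) [QuasiCompact g]
    (hinj : Function.Injective g) (hsp : ∀ y₁ y₂ : Y, g y₁ ⤳ g y₂ → y₁ ⤳ y₂) :
    Topology.IsEmbedding g := by
  refine ⟨⟨le_antisymm g.continuous.le_induced ?_⟩, hinj⟩
  intro U hU
  rw [isOpen_induced_iff]
  refine ⟨(closure (g '' Uᶜ))ᶜ, isClosed_closure.isOpen_compl, ?_⟩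
  rw [Set.preimage_compl, compl_eq_comm]
  apply Set.Subset.antisymm
  · intro y hy
    exact subset_closure ⟨y, hy, rfl⟩
  · intro y hy
    obtain ⟨z, hz, hzy⟩ := exists_specializes_of_mem_closure g Uᶜ hU.isClosed_compl (g y) hy
    exact (hsp z y hzy).mem_closed hU.isClosed_compl hz

/-- points of a pullback square -/
lemma exists_of_isPullback {A X Y Z : Scheme.{u}} {fst : A ⟶ X} {snd : A ⟶ Y} {f : X ⟶ Z}
    {g : Y ⟶ Z} (sq : IsPullback fst snd f g) (x : X) (y : Y) (h : f x = g y) :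
    ∃ a : A, fst a = x ∧ snd a = y := by
  obtain ⟨z, hz1, hz2⟩ := Scheme.Pullback.exists_preimage_pullback x y h
  refine ⟨sq.isoPullback.inv z, ?_, ?_⟩
  · rw [← Scheme.Hom.comp_apply, sq.isoPullback_inv_fst, hz1]
  · rw [← Scheme.Hom.comp_apply, sq.isoPullback_inv_snd, hz2]

/-- the key descent step: an embedding descends along a surjective generalizing base change,
provided the descended morphism is quasi-compact -/
theorem isEmbedding_of_isPullback {A X Y Z : Scheme.{u}} {fst : A ⟶ X} {snd : A ⟶ Y} {f : X ⟶ Z}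
    {g : Y ⟶ Z} (sq : IsPullback fst snd f g) (hsurj : Function.Surjective f)
    (hgen : GeneralizingMap f) (hfst : Topology.IsEmbedding fst) [QuasiCompact g] :
    Topology.IsEmbedding g := by
  apply isEmbedding_of_reflects_specializes
  · intro y₁ y₂ h
    obtain ⟨x, hx⟩ := hsurj (g y₁)
    obtain ⟨a₁, ha₁, hb₁⟩ := exists_of_isPullback sq x y₁ hx
    obtain ⟨a₂, ha₂, hb₂⟩ := exists_of_isPullback sq x y₂ (hx.trans h)
    have : a₁ = a₂ := hfst.injective (ha₁.trans ha₂.symm)
    rw [← hb₁, ← hb₂, this]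
  · intro y₁ y₂ h
    obtain ⟨x₂, hx₂⟩ := hsurj (g y₂)
    obtain ⟨x₁, hx₁, hx₁'⟩ := hgen (show g y₁ ⤳ f x₂ by rw [hx₂]; exact h)
    obtain ⟨a₁, ha₁, hb₁⟩ := exists_of_isPullback sq x₁ y₁ hx₁'
    obtain ⟨a₂, ha₂, hb₂⟩ := exists_of_isPullback sq x₂ y₂ hx₂
    have hsp : a₁ ⤳ a₂ := by
      rw [← hfst.isInducing.specializes_iff, ha₁, ha₂]
      exact hx₁
    rw [← hb₁, ← hb₂]
    exact hsp.map snd.continuous


end Groth.Agent.H3.QcClosure
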