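import Mathlib
import Groth.Prelude.Def_FDesc
import Groth.Agent.Lib.Lead.QC.LocFree
import Groth.Agent.Lib.Helper3.QcClosure

set_option autoImplicit false

universe u

open AlgebraicGeometry CategoryTheory CategoryTheory.Limits TopologicalSpace TensorProduct

namespace Groth.Agent.H3.QFlatGen

section Alg

lemma subsingleton_tensor_of_right {R M N : Type*} [CommRing R] [AddCommGroup M] [Module R M]
    [AddCommGroup N] [Module R N] [Subsingleton N] : Subsingleton (M ⊗[R] N) := by
  refine ⟨fun a b => ?_⟩
  have h0 : ∀ z : M ⊗[R] N, z = 0 := by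
    intro z
    induction z using TensorProduct.induction_on with
    | zero => rfl
    | tmul m n => rw [Subsingleton.elim n 0, TensorProduct.tmul_zero]
    | add x y hx hy => rw [hx, hy, add_zero]
  rw [h0 a, h0 b]

/-- going down for the support of a finite module flat over the base -/
lemma exists_prime_comap_eq {B A M : Type u} [CommRing B] [CommRing A] [IsLocalRing B]
    [IsLocalRing A] (φ : B →+* A) [IsLocalHom φ] [AddCommGroup M] [Module A M]
    (hfin : Module.Finite A M) (hnt : Nontrivial M)
    (hflat : letI := Module.compHom M φ; Module.Flat B M) (p : PrimeSpectrum B) :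
    ∃ q : PrimeSpectrum A, PrimeSpectrum.comap φ q = p := by
  letI := Module.compHom M φ
  letI : Algebra B A := φ.toAlgebra
  haveI : IsScalarTower B A M := IsScalarTower.of_algebraMap_smul fun r m => rfl
  haveI : Module.Flat B M := hflat
  haveI : Module.FaithfullyFlat B M := by
    refine ⟨fun m hm htop => ?_⟩
    have hmB : m = IsLocalRing.maximalIdeal B := IsLocalRing.eq_maximalIdeal hm
    subst hmB
    have h1 : (⊤ : Submodule A M) ≤ IsLocalRing.maximalIdeal A • (⊤ : Submodule A M) := by
      intro x _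
      have hx : x ∈ (IsLocalRing.maximalIdeal B • (⊤ : Submodule B M)) := by rw [htop]; trivial
      refine Submodule.smul_induction_on hx ?_ ?_
      · intro r hr n _
        change φ r • n ∈ _
        refine Submodule.smul_mem_smul ?_ trivial
        rw [IsLocalRing.mem_maximalIdeal, mem_nonunits_iff] at hr ⊢
        exact fun h => hr (isUnit_of_map_unit φ r h)
      · intro a b ha hb
        exact add_mem ha hb
    have h2 := Submodule.eq_bot_of_le_smul_of_le_jacobson_bot (IsLocalRing.maximalIdeal A)
      (⊤ : Submodule A M) Module.Finite.fg_top h1 (IsLocalRing.maximalIdeal_le_jacobson _)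
    exact top_ne_bot h2
  haveI : Nontrivial (p.asIdeal.ResidueField ⊗[B] M) := inferInstance
  have hnt : Nontrivial (p.asIdeal.ResidueField ⊗[B] A) := by
    by_contra h
    rw [not_nontrivial_iff_subsingleton] at h
    haveI := h
    haveI : Subsingleton (A ⊗[B] p.asIdeal.ResidueField) :=
      (TensorProduct.comm B A p.asIdeal.ResidueField).toEquiv.subsingleton
    haveI : Subsingleton (M ⊗[A] (A ⊗[B] p.asIdeal.ResidueField)) := subsingleton_tensor_of_right
    haveI : Subsingleton (M ⊗[B] p.asIdeal.ResidueField) :=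
      (TensorProduct.AlgebraTensorModule.cancelBaseChange B A A M
        p.asIdeal.ResidueField).symm.toEquiv.subsingleton
    haveI : Subsingleton (p.asIdeal.ResidueField ⊗[B] M) :=
      (TensorProduct.comm B p.asIdeal.ResidueField M).toEquiv.subsingleton
    exact not_subsingleton _ ‹Subsingleton (p.asIdeal.ResidueField ⊗[B] M)›
  obtain ⟨q, hq⟩ := (p.nontrivial_iff_mem_rangeComap).1 hnt
  exact ⟨q, hq⟩

end Alg

open Groth.Agent.LD.QC in
/-- quasi-flat morphisms are generalizing -/
theorem generalizingMap_of_isQuasiFlat {X Y : Scheme.{u}} (f : X ⟶ Y) (hf : FDesc.IsQuasiFlat f) :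
    GeneralizingMap f := by
  intro x y' hy'
  obtain ⟨M, ⟨hqc, hft⟩, hflat, hnt⟩ := hf
  haveI : M.IsQuasicoherent := hqc
  obtain ⟨p, hp⟩ : y' ∈ Set.range (Y.fromSpecStalk (f x)) := by
    rw [Scheme.range_fromSpecStalk]; exact hy'
  obtain ⟨U, hU, hxU, -⟩ := exists_isAffineOpen_mem_and_subset (x := x) (U := ⊤) trivial
  have hfin : Module.Finite (X.presheaf.stalk x) (M.presheaf.stalk x) :=
    finite_stalk_of_finite_sections M hU x hxU (finite_sections_of_isFiniteType M hft hU)
  obtain ⟨q, hq⟩ := exists_prime_comap_eq (f.stalkMap x).hom (M := M.presheaf.stalk x) hfin (hnt x)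
    (hflat x) p
  refine ⟨X.fromSpecStalk x q, ?_, ?_⟩
  · have : X.fromSpecStalk x q ∈ Set.range (X.fromSpecStalk x) := ⟨q, rfl⟩
    rw [Scheme.range_fromSpecStalk] at this
    exact this
  · rw [← Scheme.Hom.comp_apply, ← Scheme.SpecMap_stalkMap_fromSpecStalk, Scheme.Hom.comp_apply, ← hp]
    congr 1

open Groth.Agent.H3.QcClosure in
theorem preimage_closure_image_eq {X Y : Scheme.{u}} (f : X ⟶ Y) (hf : FDesc.IsQuasiFlat f)
    [QuasiCompact f] (F : Set ↥X) (hF : IsClosed F) (hsat : ⇑f ⁻¹' (⇑f '' F) = F) :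
    ⇑f ⁻¹' closure (⇑f '' F) = F := by
  apply Set.Subset.antisymm
  · intro x hx
    obtain ⟨z, hzF, hz⟩ := exists_specializes_of_mem_closure f F hF (f x) hx
    obtain ⟨x', hx', hfx'⟩ := generalizingMap_of_isQuasiFlat f hf hz
    have hx'F : x' ∈ F := by
      rw [← hsat]
      exact ⟨z, hzF, hfx'.symm⟩
    exact hx'.mem_closed hF hx'F
  · intro x hx
    exact subset_closure ⟨x, hx, rfl⟩

open Groth.Agent.H3.QcClosure in
theorem isDominant_snd {X Y Y' : Scheme.{u}} (f : X ⟶ Y) (g : Y' ⟶ Y)
    [QuasiCompact f] [IsDominant f] (hg : FDesc.IsQuasiFlat g) : IsDominant (pullback.snd f g) := by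
  rw [isDominant_iff]
  intro y'
  have h1 : g y' ∈ closure (⇑f '' Set.univ) := by
    rw [Set.image_univ]
    exact (isDominant_iff f).1 inferInstance (g y')
  obtain ⟨x, -, hx⟩ := exists_specializes_of_mem_closure f Set.univ isClosed_univ (g y') h1
  obtain ⟨y'', hy'', hgy''⟩ := generalizingMap_of_isQuasiFlat g hg hx
  obtain ⟨z, hz1, hz2⟩ := Scheme.Pullback.exists_preimage_pullback x y'' hgy''.symm
  exact hy''.mem_closed isClosed_closure (subset_closure ⟨z, hz2⟩)

end Groth.Agent.H3.QFlatGen
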