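import Mathlib
import Groth.Prelude.Def_FDesc
import Groth.Agent.Lib.Helper3.QFlatGen
import Groth.Agent.Lib.Lead.QC.FlatBC
import Groth.Agent.Lib.Lead.QC.SuppPullback

set_option autoImplicit false

universe u

open AlgebraicGeometry CategoryTheory CategoryTheory.Limits TopologicalSpace

namespace Groth.Agent.H3.IrrCompBC

section Top

variable {α : Type*} [TopologicalSpace α]

lemma mem_genericPoints_iff [QuasiSober α] [T0Space α] (x : α) :
    x ∈ genericPoints α ↔ ∀ y : α, y ⤳ x → y = x := by
  constructor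
  · intro hx y hy
    have h1 : closure {x} ⊆ closure {y} := by
      rw [isClosed_closure.closure_subset_iff, Set.singleton_subset_iff]
      exact hy.mem_closure
    have h2 : closure {y} ⊆ closure {x} := hx.2 isIrreducible_singleton.closure h1
    have h3 : x ⤳ y := by
      rw [specializes_iff_mem_closure]
      exact h2 (subset_closure rfl)
    exact (hy.antisymm h3).eq
  · intro hx
    refine ⟨isIrreducible_singleton.closure, fun T hT hxT => ?_⟩
    have hT' : IsIrreducible (closure T) := hT.closure
    obtain ⟨t, ht⟩ := QuasiSober.sober hT' isClosed_closure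
    have h1 : t ⤳ x := by
      rw [specializes_iff_mem_closure, ht.def]
      exact subset_closure (hxT (subset_closure rfl))
    have h2 := hx t h1
    rw [h2] at ht
    rw [ht.def]
    exact subset_closure

end Top

open Groth.Agent.LD.QC in
/-- quasi-flat morphisms are stable under base change -/
theorem isQuasiFlat_fst {X Y Y' : Scheme.{u}} (f : X ⟶ Y) (g : Y' ⟶ Y) (hg : FDesc.IsQuasiFlat g) :
    FDesc.IsQuasiFlat (pullback.fst f g) := by
  obtain ⟨M, ⟨hqc, hft⟩, hflat, hnt⟩ := hg
  haveI : M.IsQuasicoherent := hqc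
  refine ⟨(Scheme.Modules.pullback (pullback.snd f g)).obj M,
    ⟨qc_pullback _ M, isFiniteType_pullback _ M hft⟩, ?_, ?_⟩
  · intro x'
    exact isFlatOverAt_pullback_of_isPullback (IsPullback.of_hasPullback f g).flip M x' (hflat _)
  · intro x'
    rw [← not_subsingleton_iff_nontrivial, support_pullback _ M hft x',
      not_subsingleton_iff_nontrivial]
    exact hnt _

/-- the second projection lifts generizations inside the fibres of `g`. -/
theorem exists_generization_snd {X Y Y' : Scheme.{u}} (f : X ⟶ Y) (g : Y' ⟶ Y)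
    (ξ' : ↥(pullback f g)) (y'' : Y') (h : y'' ⤳ pullback.snd f g ξ')
    (hg : g y'' = g (pullback.snd f g ξ')) :
    ∃ ξ'' : ↥(pullback f g), ξ'' ⤳ ξ' ∧ pullback.snd f g ξ'' = y'' := by
  obtain ⟨y', hy'⟩ : ∃ y', y' = pullback.snd f g ξ' := ⟨_, rfl⟩
  obtain ⟨y, hy⟩ : ∃ y, y = g y' := ⟨_, rfl⟩
  rw [← hy'] at h hg
  rw [← hy] at hg
  let ι := Y.fromSpecResidueField y
  let a : pullback g ι ⟶ Y' := pullback.fst g ι
  let b : pullback g ι ⟶ Spec (Y.residueField y) := pullback.snd g ι
  have hpt : ∀ z : Y', g z = y → ∃ z' : ↥(pullback g ι), a z' = z := by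
    intro z hz
    obtain ⟨w, hw, -⟩ := Scheme.Pullback.exists_preimage_pullback (f := g) (g := ι) z
      (IsLocalRing.closedPoint _) (by rw [hz]; exact (Y.fromSpecResidueField_apply y _).symm)
    exact ⟨w, hw⟩
  obtain ⟨z', hz'⟩ := hpt y' hy.symm
  obtain ⟨z'', hz''⟩ := hpt y'' hg
  have hsp : z'' ⤳ z' := by
    rw [← a.isEmbedding.isInducing.specializes_iff, hz', hz'']
    exact h
  -- the base change of `snd` along `a`
  let π : pullback (pullback.snd f g) a ⟶ pullback f g := pullback.fst _ _
  let s : pullback (pullback.snd f g) a ⟶ pullback g ι := pullback.snd _ _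
  have hbig : IsPullback (π ≫ pullback.fst f g) s f (b ≫ ι) := by
    have h1 : IsPullback π s (pullback.snd f g) a := IsPullback.of_hasPullback _ _
    have h2 : IsPullback (pullback.fst f g) (pullback.snd f g) f g := IsPullback.of_hasPullback _ _
    have h3 := h1.paste_horiz h2
    have h4 : a ≫ g = b ≫ ι := pullback.condition
    rwa [h4] at h3
  let d : pullback f ι ⟶ Spec (Y.residueField y) := pullback.snd f ι
  let l : pullback (pullback.snd f g) a ⟶ pullback f ι :=
    pullback.lift (π ≫ pullback.fst f g) (s ≫ b) (by simpa only [Category.assoc] using hbig.w)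
  have hleft : IsPullback l s d b := by
    refine IsPullback.of_right (h₁₂ := pullback.fst f ι) (v₁₃ := f) (h₂₂ := ι) ?_ ?_
      (IsPullback.of_hasPullback f ι)
    · rw [pullback.lift_fst]
      exact hbig
    · exact pullback.lift_snd _ _ _
  haveI : Flat d := inferInstance
  haveI : Flat s := MorphismProperty.of_isPullback hleft ‹Flat d›
  obtain ⟨w', hw1, hw2⟩ := Scheme.Pullback.exists_preimage_pullback (f := pullback.snd f g) (g := a)
    ξ' z' (by rw [hz', hy'])
  have hsp' : z'' ⤳ s w' := by
    rw [show s w' = z' from hw2]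
    exact hsp
  obtain ⟨w'', hw''1, hw''2⟩ := (Flat.generalizingMap s) hsp'
  refine ⟨π w'', ?_, ?_⟩
  · rw [← show π w' = ξ' from hw1]
    exact hw''1.map π.continuous
  · rw [← Scheme.Hom.comp_apply, show π ≫ pullback.snd f g = s ≫ a from pullback.condition,
      Scheme.Hom.comp_apply, hw''2, hz'']

theorem main {X Y Y' : Scheme.{u}} (f : X ⟶ Y) (g : Y' ⟶ Y)
    (hf : ∀ Z ∈ irreducibleComponents ↥X, closure (⇑f '' Z) ∈ irreducibleComponents ↥Y)
    (hg : FDesc.IsQuasiFlat g) (Z' : Set ↥(pullback f g))
    (hZ' : Z' ∈ irreducibleComponents ↥(pullback f g)) :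
    closure (⇑(pullback.snd f g) '' Z') ∈ irreducibleComponents ↥Y' := by
  -- generic point of Z'
  obtain ⟨ξ', hξ'⟩ := QuasiSober.sober hZ'.1 (isClosed_of_mem_irreducibleComponents Z' hZ')
  have hξ'gen : ξ' ∈ genericPoints ↥(pullback f g) := by
    show closure {ξ'} ∈ irreducibleComponents ↥(pullback f g)
    rw [hξ'.def]; exact hZ'
  rw [mem_genericPoints_iff] at hξ'gen
  have himg : closure (⇑(pullback.snd f g) '' Z') = closure {pullback.snd f g ξ'} := by
    rw [← hξ'.def, closure_image_closure (pullback.snd f g).continuous, Set.image_singleton]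
  rw [himg]
  show pullback.snd f g ξ' ∈ genericPoints ↥Y'
  rw [mem_genericPoints_iff]
  intro y'' hy''
  -- x = fst ξ' is maximal
  have hfstgen : GeneralizingMap (pullback.fst f g) :=
    QFlatGen.generalizingMap_of_isQuasiFlat _ (isQuasiFlat_fst f g hg)
  have hx : pullback.fst f g ξ' ∈ genericPoints ↥X := by
    rw [mem_genericPoints_iff]
    intro x₁ hx₁
    obtain ⟨ξ₁, hξ₁, hξ₁'⟩ := hfstgen hx₁
    rw [← hξ₁', hξ'gen ξ₁ hξ₁]
  have hy : f (pullback.fst f g ξ') ∈ genericPoints ↥Y := by
    have := hf _ hx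
    rw [closure_image_closure f.continuous, Set.image_singleton] at this
    exact this
  rw [mem_genericPoints_iff] at hy
  have hcond : f (pullback.fst f g ξ') = g (pullback.snd f g ξ') := by
    rw [← Scheme.Hom.comp_apply, ← Scheme.Hom.comp_apply, pullback.condition]
  have hgy : g y'' = g (pullback.snd f g ξ') := by
    rw [← hcond]
    apply hy
    rw [hcond]
    exact hy''.map g.continuous
  obtain ⟨ξ'', hξ''1, hξ''2⟩ := exists_generization_snd f g ξ' y'' hy'' hgy
  rw [← hξ''2, hξ'gen ξ'' hξ''1]

end Groth.Agent.H3.IrrCompBC
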