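import Groth.Agent.Lib.Helper3.FBaseDim
import Groth.Agent.Lib.Helper3.IrrCompBC

/-!
# Dimensions of irreducible components under extension of the base field
-/

set_option autoImplicit false

universe u

open CategoryTheory Limits AlgebraicGeometry TopologicalSpace Opposite

namespace Groth.Agent.H3.FBaseDim

open Groth.Agent.H1.FibDimTot Groth.Agent.H1.DimFormula

/-- at a maximal point the local ring has dimension zero -/
theorem ringKrullDim_stalk_eq_zero_of_isMaxPt {Y : Scheme.{u}} (y : Y) (hy : IsMaxPt y) :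
    ringKrullDim (Y.presheaf.stalk y) = 0 := by
  rw [← ringKrullDimZero_iff_ringKrullDim_eq_zero, Ring.krullDimLE_zero_iff]
  intro p hp
  let q : Spec (Y.presheaf.stalk y) := ⟨p, hp⟩
  have h1 : Y.fromSpecStalk y q ⤳ y := by
    have : Y.fromSpecStalk y q ∈ Set.range (Y.fromSpecStalk y) := ⟨q, rfl⟩
    rw [Scheme.range_fromSpecStalk] at this
    exact this
  have h2 : Y.fromSpecStalk y q = y := hy _ h1
  have h3 : Y.fromSpecStalk y (IsLocalRing.closedPoint (Y.presheaf.stalk y)) = y :=
    Scheme.fromSpecStalk_closedPoint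
  have h4 : q = IsLocalRing.closedPoint (Y.presheaf.stalk y) :=
    (Y.fromSpecStalk y).isEmbedding.injective (h2.trans h3.symm)
  have h5 : p = IsLocalRing.maximalIdeal (Y.presheaf.stalk y) := congrArg PrimeSpectrum.asIdeal h4
  rw [h5]
  infer_instance

variable {k : Type u} [Field k] {Z : Scheme.{u}} (gk : Z ⟶ Spec (CommRingCat.of k))

/-- for a scheme locally of finite type over a field, the local dimension at a maximal point is the
dimension of its closure -/
theorem localDim_eq_dim_closure_of_isMaxPt [LocallyOfFiniteType gk] (z : Z) (hz : IsMaxPt z) :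
    FlatMor.localDim Z z = topologicalKrullDim ↥(closure ({z} : Set Z)) := by
  obtain ⟨t, ht, h1⟩ := exists_localDim_eq_stalk_add_trdeg gk z
  obtain ⟨t', ht', h2⟩ := Groth.Agent.H1.ClosureDim.exists_trdeg_eq_dim_closure gk z
  have htt : t = t' := by
    have := ht.symm.trans ht'
    exact_mod_cast this
  rw [h1, h2, ringKrullDim_stalk_eq_zero_of_isMaxPt z hz, zero_add, htt]

end Groth.Agent.H3.FBaseDim

namespace Groth.Agent.H3.FBaseDim

open Groth.Agent.H1.FibDimTot Groth.Agent.H1.DimFormula

section Field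

variable {K L : Type u} [Field K] [Field L] (φ : CommRingCat.of K ⟶ CommRingCat.of L)
  {Z Z' : Scheme.{u}} (fK : Z ⟶ Spec (.of K)) (fL : Z' ⟶ Spec (.of L)) (p : Z' ⟶ Z)
  (sq : IsPullback p fL fK (Spec.map φ))

include sq

theorem isMaxPt_map (z' : Z') (hz' : IsMaxPt z') : IsMaxPt (p z') := by
  haveI := Groth.Agent.H1.FibDimBC.flat_of_isPullback_field φ fK fL p sq
  intro y hy
  obtain ⟨a', ha', rfl⟩ := (Flat.generalizingMap p) hy
  rw [hz' a' ha']

theorem surjective_of_isPullback_field : Function.Surjective p := by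
  have h1 : Surjective (Spec.map φ) := by
    refine ⟨fun y => ?_⟩
    have hsub : Subsingleton (Spec (.of K)) := inferInstanceAs (Subsingleton (PrimeSpectrum K))
    obtain ⟨x⟩ : Nonempty (Spec (.of L)) := inferInstanceAs (Nonempty (PrimeSpectrum L))
    exact ⟨x, Subsingleton.elim _ _⟩
  have : Surjective p := MorphismProperty.of_isPullback (P := @Surjective) sq.flip h1
  exact p.surjective

theorem exists_isMaxPt_over (z : Z) (hz : IsMaxPt z) : ∃ z' : Z', IsMaxPt z' ∧ p z' = z := by
  obtain ⟨x', rfl⟩ := surjective_of_isPullback_field φ fK fL p sq z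
  obtain ⟨ξ, hξ, hcl⟩ := exists_isMaxPt_closure_eq
    (irreducibleComponent_mem_irreducibleComponents x')
  have h1 : ξ ⤳ x' := by
    rw [specializes_iff_mem_closure, hcl]
    exact mem_irreducibleComponent
  exact ⟨ξ, hξ, hz _ (h1.map p.continuous)⟩

theorem dim_closure_eq_of_isMaxPt [LocallyOfFiniteType fK] (z' : Z') (hz' : IsMaxPt z') :
    topologicalKrullDim ↥(closure ({z'} : Set Z')) =
      topologicalKrullDim ↥(closure ({p z'} : Set Z)) := by
  haveI : LocallyOfFiniteType fL :=
    MorphismProperty.of_isPullback (P := @LocallyOfFiniteType) sq inferInstance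
  rw [← localDim_eq_dim_closure_of_isMaxPt fL z' hz',
    ← localDim_eq_dim_closure_of_isMaxPt fK (p z') (isMaxPt_map φ fK fL p sq z' hz')]
  exact Groth.Agent.H1.FibDimBC.localDim_eq_of_isPullback_field φ fK fL p sq z'

/-- **the dimensions of the irreducible components are invariant under extension of the base
field** -/
theorem image_dim_irreducibleComponents_eq [LocallyOfFiniteType fK] :
    (fun W : Set ↥Z' => topologicalKrullDim ↥W) '' irreducibleComponents ↥Z' =
      (fun W : Set ↥Z => topologicalKrullDim ↥W) '' irreducibleComponents ↥Z := by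
  ext d
  constructor
  · rintro ⟨W', hW', rfl⟩
    obtain ⟨z', hz', rfl⟩ := exists_isMaxPt_closure_eq hW'
    refine ⟨closure {p z'}, ?_, (dim_closure_eq_of_isMaxPt φ fK fL p sq z' hz').symm⟩
    exact (Groth.Agent.H3.IrrCompBC.mem_genericPoints_iff (p z')).mpr
      (isMaxPt_map φ fK fL p sq z' hz')
  · rintro ⟨W, hW, rfl⟩
    obtain ⟨z, hz, rfl⟩ := exists_isMaxPt_closure_eq hW
    obtain ⟨z', hz', rfl⟩ := exists_isMaxPt_over φ fK fL p sq z hz
    refine ⟨closure {z'}, ?_, dim_closure_eq_of_isMaxPt φ fK fL p sq z' hz'⟩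
    exact (Groth.Agent.H3.IrrCompBC.mem_genericPoints_iff z').mpr hz'

end Field

end Groth.Agent.H3.FBaseDim
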