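import Mathlib.RingTheory.Flat.FaithfullyFlat.Basic
import Mathlib.RingTheory.Flat.FaithfullyFlat.Algebra
import Mathlib.RingTheory.RingHom.Flat

/-!
# Flatness descends along a faithfully flat second map

`R → S → T` with `T` faithfully flat over `S` and flat over `R`: then `S` is flat over `R`.
-/

universe u

open TensorProduct

namespace Groth.Agent.H3

/-- If `T` is a faithfully flat `S`-algebra which is flat over `R`, then `S` is flat over `R`. -/
theorem flat_of_flat_of_faithfullyFlat (R S T : Type u) [CommRing R] [CommRing S] [CommRing T]
    [Algebra R S] [Algebra S T] [Algebra R T] [IsScalarTower R S T] [Module.FaithfullyFlat S T]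
    [Module.Flat R T] : Module.Flat R S := by
  rw [Module.Flat.iff_lTensor_preserves_injective_linearMap]
  intro N P _ _ _ _ f hf
  have h1 : Function.Injective (f.baseChange S) := by
    rw [← Module.FaithfullyFlat.lTensor_injective_iff_injective S T]
    have h2 : LinearMap.lTensor T (f.baseChange S) =
        ((AlgebraTensorModule.cancelBaseChange R S T T P).symm.toLinearMap.restrictScalars S) ∘ₗ
          ((f.baseChange T).restrictScalars S) ∘ₗ
            ((AlgebraTensorModule.cancelBaseChange R S T T N).toLinearMap.restrictScalars S) := by
      ext t s n
      simp
    rw [h2]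
    have h3 : Function.Injective (f.baseChange T) := by
      have := Module.Flat.lTensor_preserves_injective_linearMap (M := T) f hf
      exact this
    exact (AlgebraTensorModule.cancelBaseChange R S T T P).symm.injective.comp
      (h3.comp (AlgebraTensorModule.cancelBaseChange R S T T N).injective)
  exact h1

/-- Ring hom version: if `g` is flat and local between local rings, and `g.comp f` is flat,
then `f` is flat. -/
theorem RingHom.Flat.of_comp_of_flat_of_isLocalHom {R S T : Type u} [CommRing R] [CommRing S]
    [CommRing T] [IsLocalRing S] [IsLocalRing T] (f : R →+* S) (g : S →+* T) [IsLocalHom g]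
    (hg : g.Flat) (hgf : (g.comp f).Flat) : f.Flat := by
  algebraize [f, g, g.comp f]
  have : Module.FaithfullyFlat S T := Module.FaithfullyFlat.of_flat_of_isLocalHom
  exact flat_of_flat_of_faithfullyFlat R S T

end Groth.Agent.H3
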