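import Groth.Prelude.Def_EGA43
import Mathlib.AlgebraicGeometry.PullbackCarrier
import Mathlib.CategoryTheory.Limits.Shapes.Pullback.IsPullback.Basic

/-!
Helper lemmas on `EGA43.IsOpenAt` / `EGA43.IsUnivOpenAt` (helper3).
-/

set_option autoImplicit false
open CategoryTheory AlgebraicGeometry CategoryTheory.Limits
universe u

namespace Groth.Agent.H3

section Top
variable {α β γ : Type*} [TopologicalSpace α] [TopologicalSpace β] [TopologicalSpace γ]

theorem isOpenAt_comp (ψ : β → γ) (φ : α → β) (a : α)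
    (h₁ : EGA43.IsOpenAt φ a) (h₂ : EGA43.IsOpenAt ψ (φ a)) : EGA43.IsOpenAt (ψ ∘ φ) a := by
  intro U hU
  have := h₂ _ (h₁ U hU)
  rwa [← Set.image_comp] at this

theorem isOpenAt_of_comp (ψ : β → γ) (φ : α → β) (hφ : Continuous φ) (a : α)
    (h : EGA43.IsOpenAt (ψ ∘ φ) a) : EGA43.IsOpenAt ψ (φ a) := by
  intro U hU
  have h1 : φ ⁻¹' U ∈ nhds a := hφ.continuousAt.preimage_mem_nhds hU
  refine Filter.mem_of_superset (h _ h1) ?_
  rintro _ ⟨z, hz, rfl⟩
  exact ⟨φ z, hz, rfl⟩

theorem isOpenAt_of_isOpenMap (φ : α → β) (hφ : IsOpenMap φ) (a : α) : EGA43.IsOpenAt φ a :=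
  fun _ hU => hφ.image_mem_nhds hU

end Top

section Sch
variable {P X Y Y' : Scheme.{u}} {fst : P ⟶ X} {snd : P ⟶ Y'} {f : X ⟶ Y} {g : Y' ⟶ Y}

theorem exists_preimage_of_isPullback (sq : IsPullback fst snd f g) (a : X) (b : Y')
    (hab : f.base a = g.base b) : ∃ z : P, fst.base z = a ∧ snd.base z = b := by
  obtain ⟨z₀, h1, h2⟩ := Scheme.Pullback.exists_preimage_pullback (f := f) (g := g) a b hab
  refine ⟨sq.isoPullback.inv.base z₀, ?_, ?_⟩
  · have e1 : fst (sq.isoPullback.inv z₀) = (sq.isoPullback.inv ≫ fst) z₀ :=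
      (Scheme.Hom.comp_apply _ _ _).symm
    show fst (sq.isoPullback.inv z₀) = a
    rw [e1, IsPullback.isoPullback_inv_fst]; exact h1
  · have e1 : snd (sq.isoPullback.inv z₀) = (sq.isoPullback.inv ≫ snd) z₀ :=
      (Scheme.Hom.comp_apply _ _ _).symm
    show snd (sq.isoPullback.inv z₀) = b
    rw [e1, IsPullback.isoPullback_inv_snd]; exact h2

theorem isOpenAt_snd_of_isPullback {x : X} (hf : EGA43.IsUnivOpenAt f x)
    (sq : IsPullback fst snd f g) (z : P) (hz : fst.base z = x) : EGA43.IsOpenAt snd.base z := by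
  have h1 : (pullback.fst f g).base (sq.isoPullback.hom.base z) = x := by
    have e1 : (pullback.fst f g) (sq.isoPullback.hom z) =
        (sq.isoPullback.hom ≫ pullback.fst f g) z := (Scheme.Hom.comp_apply _ _ _).symm
    show (pullback.fst f g) (sq.isoPullback.hom z) = x
    rw [e1, IsPullback.isoPullback_hom_fst]; exact hz
  have h2 := hf Y' g _ h1
  have h3 : EGA43.IsOpenAt sq.isoPullback.hom.base z :=
    isOpenAt_of_isOpenMap _ sq.isoPullback.hom.isOpenEmbedding.isOpenMap z
  have h4 := isOpenAt_comp _ _ z h3 h2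
  have h5 : (⇑(pullback.snd f g).base ∘ ⇑sq.isoPullback.hom.base) = ⇑snd.base := by
    funext w
    have e1 : (pullback.snd f g) (sq.isoPullback.hom w) =
        (sq.isoPullback.hom ≫ pullback.snd f g) w := (Scheme.Hom.comp_apply _ _ _).symm
    show (pullback.snd f g) (sq.isoPullback.hom w) = snd w
    rw [e1, IsPullback.isoPullback_hom_snd]
  rwa [h5] at h4

theorem isUnivOpenAt_snd_of_isPullback {x : X} (hf : EGA43.IsUnivOpenAt f x)
    (sq : IsPullback fst snd f g) (z : P) (hz : fst.base z = x) : EGA43.IsUnivOpenAt snd z := by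
  intro Y'' g' z'' hz''
  have sq' := (IsPullback.of_hasPullback snd g').paste_horiz sq
  refine isOpenAt_snd_of_isPullback hf sq' z'' ?_
  have : (pullback.fst snd g' ≫ fst).base z'' = fst.base ((pullback.fst snd g').base z'') :=
    Scheme.Hom.comp_apply _ _ _
  rw [this, hz'', hz]

end Sch

end Groth.Agent.H3
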