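import Mathlib
import Groth.Agent.Lib.Helper1.DVRCrit2
import Groth.Agent.Lib.Helper3.UnivOpenAt

set_option autoImplicit false
open CategoryTheory AlgebraicGeometry CategoryTheory.Limits IsLocalRing
universe u

namespace Groth.Agent.H3.UO4931

theorem isUnivOpenAt_of_universallyOpen {X Y : Scheme.{u}} (f : X ⟶ Y) [UniversallyOpen f]
    (x : X) : EGA43.IsUnivOpenAt f x := by
  intro Y' g x' _
  exact Groth.Agent.H3.isOpenAt_of_isOpenMap _ (pullback.snd f g).isOpenMap x'

theorem universallyOpen_of_forall_isUnivOpenAt {X Y : Scheme.{u}} (f : X ⟶ Y)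
    (h : ∀ x : X, EGA43.IsUnivOpenAt f x) : UniversallyOpen f := by
  refine ⟨fun X' Y' i₁ i₂ f' sq => ?_⟩
  show IsOpenMap f'.base
  rw [isOpenMap_iff_nhds_le]
  intro a
  rw [Filter.le_map_iff]
  intro s hs
  exact Groth.Agent.H3.isOpenAt_snd_of_isPullback (h (i₁.base a)) sq.flip a rfl s hs

theorem main {X Y : Scheme.{u}} [IsLocallyNoetherian Y] (f : X ⟶ Y)
    [LocallyOfFiniteType f] :
    UniversallyOpen f ↔
      ∀ (A : Type u) [CommRing A] [IsDomain A] [IsDiscreteValuationRing A]
        (g : Spec (CommRingCat.of A) ⟶ Y),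
        ∀ Z ∈ irreducibleComponents (↥(pullback f g) : Type u),
          Dense ((pullback.snd f g).base '' Z) := by
  constructor
  · intro hf A _ _ _ g
    exact (Groth.Agent.H1.DVRCrit.s4930 f (g.base (closedPoint A))).mp
      (fun x _ => isUnivOpenAt_of_universallyOpen f x) A g rfl
  · intro H
    apply universallyOpen_of_forall_isUnivOpenAt
    intro x
    exact (Groth.Agent.H1.DVRCrit.s4930 f (f.base x)).mpr (fun A _ _ _ g _ => H A g) x rfl

end Groth.Agent.H3.UO4931
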