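import Groth.Agent.Lib.Helper1.FibDimBC
import Groth.Agent.Lib.Helper1.FibDimTot
import Groth.Agent.Lib.Helper3.TopDim
import Groth.Prelude.Def_FDesc

/-!
# Dimension and base field extension / products over a field
-/

set_option autoImplicit false

universe u

open CategoryTheory Limits AlgebraicGeometry TopologicalSpace Opposite

namespace Groth.Agent.H3.FBaseDim

variable {k : Type u} [Field k] {X : Scheme.{u}}

theorem isPullback_bc (f : X ⟶ Spec (CommRingCat.of k)) (K : Type u) [Field K] [Algebra k K] :
    IsPullback (FBase.bcπ f K) (FBase.bcStr f K) f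
      (Spec.map (CommRingCat.ofHom (algebraMap k K))) :=
  IsPullback.of_hasPullback _ _

theorem surjective_bcπ (f : X ⟶ Spec (CommRingCat.of k)) (K : Type u) [Field K] [Algebra k K] :
    Function.Surjective (FBase.bcπ f K) := by
  have h1 : Surjective (Spec.map (CommRingCat.ofHom (algebraMap k K))) := by
    refine ⟨fun y => ?_⟩
    have hsub : Subsingleton (Spec (.of k)) := inferInstanceAs (Subsingleton (PrimeSpectrum k))
    obtain ⟨x⟩ : Nonempty (Spec (.of K)) := inferInstanceAs (Nonempty (PrimeSpectrum K))
    exact ⟨x, Subsingleton.elim _ _⟩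
  have : Surjective (FBase.bcπ f K) :=
    MorphismProperty.of_isPullback (P := @Surjective) (isPullback_bc f K).flip h1
  exact (FBase.bcπ f K).surjective

/-- **dimension is invariant under extension of the base field** -/
theorem dim_bc (f : X ⟶ Spec (CommRingCat.of k)) [LocallyOfFiniteType f] (K : Type u) [Field K]
    [Algebra k K] : topologicalKrullDim ↥(FBase.bc f K) = topologicalKrullDim ↥X := by
  rw [Groth.Agent.H3.TopDim.dim_eq_iSup_localDim, Groth.Agent.H3.TopDim.dim_eq_iSup_localDim]
  have h : ∀ z' : ↥(FBase.bc f K), FlatMor.localDim ↥(FBase.bc f K) z' =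
      FlatMor.localDim ↥X (FBase.bcπ f K z') := fun z' =>
    Groth.Agent.H1.FibDimBC.localDim_eq_of_isPullback_field
      (CommRingCat.ofHom (algebraMap k K)) f (FBase.bcStr f K) (FBase.bcπ f K) (isPullback_bc f K) z'
  apply le_antisymm
  · apply iSup_le
    intro z'
    rw [h z']
    exact le_iSup (fun x : X => FlatMor.localDim ↥X x) _
  · apply iSup_le
    intro x
    obtain ⟨z', rfl⟩ := surjective_bcπ f K x
    rw [← h z']
    exact le_iSup (fun z : ↥(FBase.bc f K) => FlatMor.localDim ↥(FBase.bc f K) z) z'

end Groth.Agent.H3.FBaseDim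

namespace Groth.Agent.H3.FBaseDim

variable {K L : Type u} [Field K] [Field L]

/-- dimension is invariant under extension of the base field (general pullback square) -/
theorem dim_of_isPullback_field (φ : CommRingCat.of K ⟶ CommRingCat.of L)
    {Z Z' : Scheme.{u}} (fK : Z ⟶ Spec (.of K)) (fL : Z' ⟶ Spec (.of L)) (p : Z' ⟶ Z)
    (sq : IsPullback p fL fK (Spec.map φ)) [LocallyOfFiniteType fK] :
    topologicalKrullDim ↥Z' = topologicalKrullDim ↥Z := by
  rw [Groth.Agent.H3.TopDim.dim_eq_iSup_localDim, Groth.Agent.H3.TopDim.dim_eq_iSup_localDim]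
  have h : ∀ z' : ↥Z', FlatMor.localDim ↥Z' z' = FlatMor.localDim ↥Z (p z') := fun z' =>
    Groth.Agent.H1.FibDimBC.localDim_eq_of_isPullback_field φ fK fL p sq z'
  have hs : Function.Surjective p := by
    have h1 : Surjective (Spec.map φ) := by
      refine ⟨fun y => ?_⟩
      have hsub : Subsingleton (Spec (.of K)) := inferInstanceAs (Subsingleton (PrimeSpectrum K))
      obtain ⟨x⟩ : Nonempty (Spec (.of L)) := inferInstanceAs (Nonempty (PrimeSpectrum L))
      exact ⟨x, Subsingleton.elim _ _⟩
    have : Surjective p := MorphismProperty.of_isPullback (P := @Surjective) sq.flip h1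
    exact p.surjective
  apply le_antisymm
  · apply iSup_le
    intro z'
    rw [h z']
    exact le_iSup (fun x : Z => FlatMor.localDim ↥Z x) _
  · apply iSup_le
    intro x
    obtain ⟨z', rfl⟩ := hs x
    rw [← h z']
    exact le_iSup (fun z : ↥Z' => FlatMor.localDim ↥Z' z) z'

variable {k : Type u} [Field k] {X Y : Scheme.{u}}

/-- the fibres of the second projection of `X ×_k Y` all have the dimension of `X` -/
theorem dim_fiber_snd (f : X ⟶ Spec (CommRingCat.of k)) (g : Y ⟶ Spec (CommRingCat.of k))
    [LocallyOfFiniteType f] (y : Y) :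
    topologicalKrullDim ↥((pullback.snd f g) ⁻¹' {y}) = topologicalKrullDim ↥X := by
  rw [Groth.Agent.H1.FibDimTot.dim_preimage_eq_dim_fiber]
  have left : IsPullback ((pullback.snd f g).fiberι y)
      ((pullback.snd f g).fiberToSpecResidueField y) (pullback.snd f g)
      (Y.fromSpecResidueField y) := IsPullback.of_hasPullback _ _
  have right : IsPullback (pullback.fst f g) (pullback.snd f g) f g := IsPullback.of_hasPullback _ _
  have big := left.paste_horiz right
  let φ : CommRingCat.of k ⟶ CommRingCat.of (Y.residueField y) :=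
    Spec.preimage (Y.fromSpecResidueField y ≫ g)
  have hφ : Spec.map φ = Y.fromSpecResidueField y ≫ g := Spec.map_preimage _
  rw [← hφ] at big
  exact dim_of_isPullback_field φ f ((pullback.snd f g).fiberToSpecResidueField y) _ big

end Groth.Agent.H3.FBaseDim

namespace Groth.Agent.H3.FBaseDim

theorem dim_eq_bot_of_isEmpty (T : Type*) [TopologicalSpace T] [IsEmpty T] :
    topologicalKrullDim T = ⊥ := by
  unfold topologicalKrullDim
  haveI : IsEmpty (IrreducibleCloseds T) := ⟨fun Z => by
    obtain ⟨x, -⟩ := Z.isIrreducible.nonempty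
    exact isEmptyElim x⟩
  exact Order.krullDim_eq_bot

variable {k : Type u} [Field k] {X Y : Scheme.{u}}

/-- **dimension of a product over a field** -/
theorem dim_pullback (f : X ⟶ Spec (CommRingCat.of k)) (g : Y ⟶ Spec (CommRingCat.of k))
    [LocallyOfFiniteType f] [LocallyOfFiniteType g] :
    topologicalKrullDim ↥(pullback f g) = topologicalKrullDim ↥X + topologicalKrullDim ↥Y := by
  haveI : LocallyOfFiniteType (pullback.snd f g) := inferInstance
  by_cases hX : IsEmpty X
  · haveI : IsEmpty ↥(pullback f g) := Function.isEmpty (pullback.fst f g)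
    rw [dim_eq_bot_of_isEmpty ↥(pullback f g), dim_eq_bot_of_isEmpty ↥X, WithBot.bot_add]
  by_cases hY : IsEmpty Y
  · haveI : IsEmpty ↥(pullback f g) := Function.isEmpty (pullback.snd f g)
    rw [dim_eq_bot_of_isEmpty ↥(pullback f g), dim_eq_bot_of_isEmpty ↥Y, WithBot.add_bot]
  rw [not_isEmpty_iff] at hX hY
  apply le_antisymm
  · exact Groth.Agent.H1.FibDimTot.dim_le_add g (pullback.snd f g) (topologicalKrullDim ↥X)
      (fun x => (dim_fiber_snd f g _).le)
  · have key : ∀ n : ℕ, (n : WithBot ℕ∞) ≤ topologicalKrullDim ↥X →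
        (n : WithBot ℕ∞) + topologicalKrullDim ↥Y ≤ topologicalKrullDim ↥(pullback f g) :=
      fun n hn => Groth.Agent.H1.FibDimTot.add_dim_le g (pullback.snd f g) n
        (fun η _ => by rw [dim_fiber_snd f g η]; exact hn)
    have hX0 : (0 : WithBot ℕ∞) ≤ topologicalKrullDim ↥X := Groth.Agent.H3.TopDim.dim_nonneg
    have hY0 : (0 : WithBot ℕ∞) ≤ topologicalKrullDim ↥Y := Groth.Agent.H3.TopDim.dim_nonneg
    induction hdx : topologicalKrullDim ↥X using WithBot.recBotCoe with
    | bot => rw [hdx] at hX0; exact absurd hX0 (by simp)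
    | coe m =>
      induction m using ENat.recTopCoe with
      | top =>
        have h2 : ∀ n : ℕ, (n : WithBot ℕ∞) ≤ topologicalKrullDim ↥(pullback f g) := fun n => by
          have := key n (by rw [hdx]; exact WithBot.coe_le_coe.mpr le_top)
          refine le_trans ?_ this
          exact le_add_of_nonneg_right hY0
        have h3 : topologicalKrullDim ↥(pullback f g) = ((⊤ : ℕ∞) : WithBot ℕ∞) := by
          induction hdp : topologicalKrullDim ↥(pullback f g) using WithBot.recBotCoe with
          | bot => have := h2 0; rw [hdp] at this; exact absurd this (by simp)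
          | coe j =>
            congr 1
            rw [ENat.eq_top_iff_forall_ge]
            intro n
            have := h2 n
            rw [hdp] at this
            exact_mod_cast this
        rw [h3]
        exact le_top
      | coe m =>
        have := key m (by rw [hdx]; rfl)
        exact this

end Groth.Agent.H3.FBaseDim
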