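import Groth.Agent.Lib.Helper3.FBaseComp
import Groth.Prelude.Def_MoreMor

/-!
# Geometric component counts are compatible with base change (S1334, S1335)
-/

set_option autoImplicit false

universe u

open CategoryTheory Limits AlgebraicGeometry TopologicalSpace Opposite TensorProduct

namespace Groth.Agent.H3.GeomFibBC

section Alg

variable (K L : Type u) [Field K] [Field L] [Algebra K L] [IsSepClosed K]

theorem irreducibleSpace_tensor_sepClosed (M : Type u) [Field M] [Algebra K M] :
    IrreducibleSpace (PrimeSpectrum (L ⊗[K] M)) := by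
  haveI : IrreducibleSpace (PrimeSpectrum (AlgebraicClosure K ⊗[K] M)) := by
    have h := PrimeSpectrum.isHomeomorph_comap_of_isPurelyInseparable K (AlgebraicClosure K) M
    let e := Algebra.TensorProduct.comm K (AlgebraicClosure K) M
    rw [(PrimeSpectrum.homeomorphOfRingEquiv e.toRingEquiv).irreducibleSpace_iff]
    exact (IsHomeomorph.homeomorph _ h).irreducibleSpace_iff.mpr inferInstance
  exact Groth.Agent.H1.GeomIrr.irr_of_algClosure L

theorem geometricallyIrreducible_SpecMap_sepClosed :
    GeometricallyIrreducible (Spec.map (CommRingCat.ofHom (algebraMap K L))) := by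
  rw [geometricallyIrreducible_iff, geometrically_iff_of_commRing]
  intro M _ _ Y fst snd h
  let e : Y ≅ Spec (.of (L ⊗[K] M)) := h.isoPullback ≪≫ pullbackSpecIso K L M
  haveI : IrreducibleSpace (PrimeSpectrum (L ⊗[K] M)) := irreducibleSpace_tensor_sepClosed K L M
  exact (Scheme.homeoOfIso e).irreducibleSpace_iff.mpr
    (inferInstanceAs (IrreducibleSpace (PrimeSpectrum (L ⊗[K] M))))

theorem geometricallyConnected_SpecMap_sepClosed :
    GeometricallyConnected (Spec.map (CommRingCat.ofHom (algebraMap K L))) := by
  rw [geometricallyConnected_iff, geometrically_iff_of_commRing]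
  intro M _ _ Y fst snd h
  let e : Y ≅ Spec (.of (L ⊗[K] M)) := h.isoPullback ≪≫ pullbackSpecIso K L M
  haveI : ConnectedSpace (PrimeSpectrum (L ⊗[K] M)) :=
    Groth.Agent.H1.GeomConn.connectedSpace_tensor_sepClosed
  exact (Scheme.homeoOfIso e).connectedSpace_iff.mpr
    (inferInstanceAs (ConnectedSpace (PrimeSpectrum (L ⊗[K] M))))

end Alg

theorem isPullback_congr_bot {C : Type*} [Category C] {P X Y Z : C} {fst : P ⟶ X} {snd : P ⟶ Y}
    {f : X ⟶ Z} {g g' : Y ⟶ Z} (h : IsPullback fst snd f g) (e : g = g') :
    IsPullback fst snd f g' := e ▸ h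

theorem isPullback_congr_top {C : Type*} [Category C] {P X Y Z : C} {fst fst' : P ⟶ X}
    {snd : P ⟶ Y} {f : X ⟶ Z} {g : Y ⟶ Z} (h : IsPullback fst snd f g) (e : fst = fst') :
    IsPullback fst' snd f g := e ▸ h

section Sch

variable {X Y X' Y' : Scheme.{u}} (f : X ⟶ Y) (f' : X' ⟶ Y') (g' : X' ⟶ X) (g : Y' ⟶ Y)

/-- a compatible embedding of separable closures -/
theorem exists_sepClosure_map (y' : Y') :
    ∃ ψ : SeparableClosure (Y.residueField (g y')) →+* SeparableClosure (Y'.residueField y'),
      ψ.comp (algebraMap (Y.residueField (g y')) (SeparableClosure (Y.residueField (g y')))) =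
        (algebraMap (Y'.residueField y') (SeparableClosure (Y'.residueField y'))).comp
          (g.residueFieldMap y').hom := by
  letI : Algebra (Y.residueField (g y')) (SeparableClosure (Y'.residueField y')) :=
    ((algebraMap (Y'.residueField y') (SeparableClosure (Y'.residueField y'))).comp
          (g.residueFieldMap y').hom).toAlgebra
  let φ : SeparableClosure (Y.residueField (g y')) →ₐ[Y.residueField (g y')]
      SeparableClosure (Y'.residueField y') := IsSepClosed.lift
  refine ⟨φ.toRingHom, RingHom.ext fun a => ?_⟩
  rw [RingHom.comp_apply, RingHom.comp_apply]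
  exact φ.commutes a

/-- the geometric fibre of a base change is a base change of the geometric fibre -/
theorem exists_isPullback_geomFiber (hc : IsPullback g' f' f g) (y' : Y')
    (ψ : SeparableClosure (Y.residueField (g y')) →+* SeparableClosure (Y'.residueField y'))
    (hψ : ψ.comp (algebraMap (Y.residueField (g y')) (SeparableClosure (Y.residueField (g y')))) =
        (algebraMap (Y'.residueField y') (SeparableClosure (Y'.residueField y'))).comp
          (g.residueFieldMap y').hom) :
    ∃ q : MoreMor.geomFiber f' y' ⟶ MoreMor.geomFiber f (g y'),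
      IsPullback q (pullback.snd _ _) (pullback.snd _ _) (Spec.map (CommRingCat.ofHom ψ)) := by
  have h1 := isPullback_fiberToSpecResidueField_of_isPullback hc y'
  have left : IsPullback (pullback.fst (f'.fiberToSpecResidueField y')
      (Spec.map (CommRingCat.ofHom (algebraMap (Y'.residueField y')
        (SeparableClosure (Y'.residueField y')))))) (pullback.snd _ _)
      (f'.fiberToSpecResidueField y') _ := IsPullback.of_hasPullback _ _
  have big := left.paste_horiz h1
  have hcomp : Spec.map (CommRingCat.ofHom (algebraMap (Y'.residueField y')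
        (SeparableClosure (Y'.residueField y')))) ≫ Spec.map (g.residueFieldMap y') =
      Spec.map (CommRingCat.ofHom ψ) ≫ Spec.map (CommRingCat.ofHom
        (algebraMap (Y.residueField (g y')) (SeparableClosure (Y.residueField (g y'))))) := by
    rw [← Spec.map_comp, ← Spec.map_comp]
    congr 1
    refine CommRingCat.hom_ext (RingHom.ext fun a => ?_)
    have := congrArg (fun φ => φ a) hψ
    simpa using this.symm
  have big' : IsPullback (pullback.fst (f'.fiberToSpecResidueField y')
      (Spec.map (CommRingCat.ofHom (algebraMap (Y'.residueField y')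
        (SeparableClosure (Y'.residueField y'))))) ≫ pullback.map _ _ _ _ g'
          (Spec.map (g.residueFieldMap y')) g hc.w.symm (by simp)) (pullback.snd _ _)
      (f.fiberToSpecResidueField (g y'))
      (Spec.map (CommRingCat.ofHom ψ) ≫ Spec.map (CommRingCat.ofHom
        (algebraMap (Y.residueField (g y')) (SeparableClosure (Y.residueField (g y')))))) := by
    exact isPullback_congr_bot big hcomp
  clear big
  have big := big'
  let q : MoreMor.geomFiber f' y' ⟶ MoreMor.geomFiber f (g y') :=
    pullback.lift (pullback.fst _ _ ≫ pullback.map _ _ _ _ g' (Spec.map (g.residueFieldMap y')) g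
        hc.w.symm (by simp)) (pullback.snd _ _ ≫ Spec.map (CommRingCat.ofHom ψ)) big.w
  refine ⟨q, ?_⟩
  have hq1 : q ≫ pullback.fst _ _ = pullback.fst _ _ ≫ pullback.map _ _ _ _ g'
      (Spec.map (g.residueFieldMap y')) g hc.w.symm (by simp) := pullback.lift_fst _ _ _
  have hq2 : q ≫ pullback.snd _ _ = pullback.snd _ _ ≫ Spec.map (CommRingCat.ofHom ψ) :=
    pullback.lift_snd _ _ _
  exact IsPullback.of_right (isPullback_congr_top big hq1.symm) hq2 (IsPullback.of_hasPullback _ _)

/-- S1334 -/
theorem nGeomIrredComp_baseChange (hc : IsPullback g' f' f g) (y' : Y') :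
    MoreMor.nGeomIrredComp f' y' = MoreMor.nGeomIrredComp f (g y') := by
  obtain ⟨ψ, hψ⟩ := exists_sepClosure_map g y'
  obtain ⟨q, hq⟩ := exists_isPullback_geomFiber f f' g' g hc y' ψ hψ
  letI : Algebra (SeparableClosure (Y.residueField (g y')))
    (SeparableClosure (Y'.residueField y')) := ψ.toAlgebra
  have hgi : GeometricallyIrreducible (Spec.map (CommRingCat.ofHom ψ)) :=
    geometricallyIrreducible_SpecMap_sepClosed (SeparableClosure (Y.residueField (g y')))
      (SeparableClosure (Y'.residueField y'))
  have huo : UniversallyOpen (Spec.map (CommRingCat.ofHom ψ)) :=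
    Groth.Agent.H3.FBaseComp.universallyOpen_SpecMap (SeparableClosure (Y.residueField (g y')))
      (SeparableClosure (Y'.residueField y'))
  haveI : GeometricallyIrreducible q :=
    MorphismProperty.of_isPullback (P := @GeometricallyIrreducible) hq.flip hgi
  haveI : UniversallyOpen q :=
    MorphismProperty.of_isPullback (P := @UniversallyOpen) hq.flip huo
  unfold MoreMor.nGeomIrredComp
  exact Set.encard_congr (q.irreducibleComponentsEquiv q.isOpenMap)

/-- S1335 -/
theorem nGeomConnComp_baseChange (hc : IsPullback g' f' f g) (y' : Y') :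
    MoreMor.nGeomConnComp f' y' = MoreMor.nGeomConnComp f (g y') := by
  obtain ⟨ψ, hψ⟩ := exists_sepClosure_map g y'
  obtain ⟨q, hq⟩ := exists_isPullback_geomFiber f f' g' g hc y' ψ hψ
  letI : Algebra (SeparableClosure (Y.residueField (g y')))
    (SeparableClosure (Y'.residueField y')) := ψ.toAlgebra
  have hgi : GeometricallyConnected (Spec.map (CommRingCat.ofHom ψ)) :=
    geometricallyConnected_SpecMap_sepClosed (SeparableClosure (Y.residueField (g y')))
      (SeparableClosure (Y'.residueField y'))
  have huo : UniversallyOpen (Spec.map (CommRingCat.ofHom ψ)) :=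
    Groth.Agent.H3.FBaseComp.universallyOpen_SpecMap (SeparableClosure (Y.residueField (g y')))
      (SeparableClosure (Y'.residueField y'))
  haveI : GeometricallyConnected q :=
    MorphismProperty.of_isPullback (P := @GeometricallyConnected) hq.flip hgi
  haveI : UniversallyOpen q :=
    MorphismProperty.of_isPullback (P := @UniversallyOpen) hq.flip huo
  unfold MoreMor.nGeomConnComp
  exact ENat.card_congr (q.connectedComponentsHomeomorph q.isOpenMap).toEquiv

end Sch

end Groth.Agent.H3.GeomFibBC
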