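import Groth.Agent.Lib.Helper1.GeomConn
import Groth.Agent.Lib.Helper1.GeomIrr
import Groth.Prelude.Def_FDesc

/-!
# Numbers of irreducible / connected components under extension of the base field
-/

set_option autoImplicit false

universe u

open CategoryTheory Limits AlgebraicGeometry TopologicalSpace Opposite TensorProduct

namespace Groth.Agent.H3.FBaseComp

section Compositum

/-- a common field extension of two extensions of `k` -/
theorem exists_compositum (k K Ω : Type u) [Field k] [Field K] [Algebra k K] [Field Ω]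
    [Algebra k Ω] :
    ∃ (L : Type u) (_ : Field L) (_ : Algebra k L) (_ : Algebra K L) (_ : Algebra Ω L),
      IsScalarTower k K L ∧ IsScalarTower k Ω L := by
  obtain ⟨m, hm⟩ := Ideal.exists_maximal (K ⊗[k] Ω)
  letI : Field ((K ⊗[k] Ω) ⧸ m) := Ideal.Quotient.field m
  let a : K →ₐ[k] (K ⊗[k] Ω) ⧸ m :=
    (Ideal.Quotient.mkₐ k m).comp Algebra.TensorProduct.includeLeft
  let b : Ω →ₐ[k] (K ⊗[k] Ω) ⧸ m :=
    (Ideal.Quotient.mkₐ k m).comp Algebra.TensorProduct.includeRight
  refine ⟨(K ⊗[k] Ω) ⧸ m, inferInstance, inferInstance, a.toRingHom.toAlgebra,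
    b.toRingHom.toAlgebra, ?_, ?_⟩
  · letI := a.toRingHom.toAlgebra
    exact IsScalarTower.of_algebraMap_eq fun x => (a.commutes x).symm
  · letI := b.toRingHom.toAlgebra
    exact IsScalarTower.of_algebraMap_eq fun x => (b.commutes x).symm

end Compositum

section Top

variable {A B : Type u} [TopologicalSpace A] [TopologicalSpace B]

/-- a continuous surjection onto a quasi-sober space does not decrease the number of
irreducible components -/
theorem mk_irreducibleComponents_le_of_surjective [QuasiSober B] (p : A → B) (hc : Continuous p)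
    (hs : Function.Surjective p) :
    Cardinal.mk ↥(irreducibleComponents B) ≤ Cardinal.mk ↥(irreducibleComponents A) := by
  have key : ∀ Z : ↥(irreducibleComponents B), ∃ Z' : ↥(irreducibleComponents A),
      closure (p '' (Z' : Set A)) = (Z : Set B) := by
    rintro ⟨Z, hZ⟩
    obtain ⟨η, hη⟩ := QuasiSober.sober hZ.1 (isClosed_of_mem_irreducibleComponents Z hZ)
    obtain ⟨a, rfl⟩ := hs η
    refine ⟨⟨irreducibleComponent a, irreducibleComponent_mem_irreducibleComponents a⟩, ?_⟩
    have hirr : IsIrreducible (closure (p '' irreducibleComponent a)) :=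
      (isIrreducible_irreducibleComponent.image p hc.continuousOn).closure
    have hle : Z ⊆ closure (p '' irreducibleComponent a) := by
      rw [← hη.def]
      exact closure_mono (Set.singleton_subset_iff.mpr ⟨a, mem_irreducibleComponent, rfl⟩)
    exact (hZ.2 hirr hle).antisymm hle |>.symm ▸ rfl
  choose g hg using key
  refine Cardinal.mk_le_of_injective (f := g) ?_
  intro Z₁ Z₂ h
  apply Subtype.ext
  rw [← hg Z₁, ← hg Z₂, h]

end Top

section Sch

variable {k : Type u} [Field k] {X : Scheme.{u}} (f : X ⟶ Spec (CommRingCat.of k))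
  (K L : Type u) [Field K] [Algebra k K] [Field L] [Algebra k L] [Algebra K L]
  [IsScalarTower k K L]

theorem SpecMap_tower :
    Spec.map (CommRingCat.ofHom (algebraMap K L)) ≫ Spec.map (CommRingCat.ofHom (algebraMap k K)) =
      Spec.map (CommRingCat.ofHom (algebraMap k L)) := by
  rw [← Spec.map_comp, ← CommRingCat.ofHom_comp, IsScalarTower.algebraMap_eq k K L]

/-- the transition morphism `X ⊗_k L ⟶ X ⊗_k K` for a tower `k → K → L` -/
noncomputable def bcMap : FBase.bc f L ⟶ FBase.bc f K :=
  pullback.lift (FBase.bcπ f L)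
    (FBase.bcStr f L ≫ Spec.map (CommRingCat.ofHom (algebraMap K L))) (by
      rw [Category.assoc, SpecMap_tower]
      exact pullback.condition)

theorem bcMap_π : bcMap f K L ≫ FBase.bcπ f K = FBase.bcπ f L := pullback.lift_fst _ _ _

theorem bcMap_str : bcMap f K L ≫ FBase.bcStr f K =
    FBase.bcStr f L ≫ Spec.map (CommRingCat.ofHom (algebraMap K L)) := pullback.lift_snd _ _ _

theorem isPullback_bcMap : IsPullback (bcMap f K L) (FBase.bcStr f L) (FBase.bcStr f K)
    (Spec.map (CommRingCat.ofHom (algebraMap K L))) := by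
  have big : IsPullback (bcMap f K L ≫ FBase.bcπ f K) (FBase.bcStr f L) f
      (Spec.map (CommRingCat.ofHom (algebraMap K L)) ≫
        Spec.map (CommRingCat.ofHom (algebraMap k K))) := by
    rw [bcMap_π, SpecMap_tower]
    exact IsPullback.of_hasPullback _ _
  exact IsPullback.of_right big (bcMap_str f K L) (IsPullback.of_hasPullback _ _)

theorem surjective_SpecMap : Surjective (Spec.map (CommRingCat.ofHom (algebraMap K L))) := by
  refine ⟨fun y => ?_⟩
  have hsub : Subsingleton (Spec (.of K)) := inferInstanceAs (Subsingleton (PrimeSpectrum K))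
  obtain ⟨x⟩ : Nonempty (Spec (.of L)) := inferInstanceAs (Nonempty (PrimeSpectrum L))
  exact ⟨x, Subsingleton.elim _ _⟩

theorem universallyOpen_SpecMap :
    UniversallyOpen (Spec.map (CommRingCat.ofHom (algebraMap K L))) := by
  haveI : Subsingleton (Spec (.of K)) := inferInstanceAs (Subsingleton (PrimeSpectrum K))
  infer_instance

theorem surjective_bcMap : Function.Surjective (bcMap f K L) := by
  have : Surjective (bcMap f K L) :=
    MorphismProperty.of_isPullback (P := @Surjective) (isPullback_bcMap f K L).flip
      (surjective_SpecMap K L)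
  exact (bcMap f K L).surjective

theorem isOpenMap_bcMap : IsOpenMap (bcMap f K L) := by
  have : UniversallyOpen (bcMap f K L) :=
    MorphismProperty.of_isPullback (P := @UniversallyOpen) (isPullback_bcMap f K L).flip
      (universallyOpen_SpecMap K L)
  exact (bcMap f K L).isOpenMap

theorem geometricallyIrreducible_SpecMap [IsAlgClosed K] :
    GeometricallyIrreducible (Spec.map (CommRingCat.ofHom (algebraMap K L))) := by
  rw [geometricallyIrreducible_iff, geometrically_iff_of_commRing]
  intro M _ _ Y fst snd h
  let e : Y ≅ Spec (.of (L ⊗[K] M)) := h.isoPullback ≪≫ pullbackSpecIso K L M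
  haveI : IrreducibleSpace (PrimeSpectrum (L ⊗[K] M)) :=
    Groth.Agent.H1.GeomIrr.irreducibleSpace_tensor_of_isAlgClosed L M
  exact (Scheme.homeoOfIso e).irreducibleSpace_iff.mpr
    (inferInstanceAs (IrreducibleSpace (PrimeSpectrum (L ⊗[K] M))))

theorem geometricallyConnected_SpecMap [IsAlgClosed K] :
    GeometricallyConnected (Spec.map (CommRingCat.ofHom (algebraMap K L))) := by
  rw [geometricallyConnected_iff, geometrically_iff_of_commRing]
  intro M _ _ Y fst snd h
  let e : Y ≅ Spec (.of (L ⊗[K] M)) := h.isoPullback ≪≫ pullbackSpecIso K L M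
  haveI : ConnectedSpace (PrimeSpectrum (L ⊗[K] M)) :=
    Groth.Agent.H1.GeomConn.connectedSpace_tensor_algClosed
  exact (Scheme.homeoOfIso e).connectedSpace_iff.mpr
    (inferInstanceAs (ConnectedSpace (PrimeSpectrum (L ⊗[K] M))))

end Sch

section Main

variable {k : Type u} [Field k] {X : Scheme.{u}} (f : X ⟶ Spec (CommRingCat.of k))
  (K Ω : Type u) [Field K] [Algebra k K] [Field Ω] [Algebra k Ω] [IsAlgClosed Ω]

theorem card_irreducibleComponents_le :
    Cardinal.mk ↥(irreducibleComponents ↥(FBase.bc f K)) ≤
      Cardinal.mk ↥(irreducibleComponents ↥(FBase.bc f Ω)) := by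
  obtain ⟨L, _, _, _, _, _, _⟩ := exists_compositum k K Ω
  haveI : GeometricallyIrreducible (bcMap f Ω L) :=
    MorphismProperty.of_isPullback (P := @GeometricallyIrreducible) (isPullback_bcMap f Ω L).flip
      (geometricallyIrreducible_SpecMap Ω L)
  calc Cardinal.mk ↥(irreducibleComponents ↥(FBase.bc f K))
      ≤ Cardinal.mk ↥(irreducibleComponents ↥(FBase.bc f L)) :=
        mk_irreducibleComponents_le_of_surjective (bcMap f K L) (bcMap f K L).continuous
          (surjective_bcMap f K L)
    _ = Cardinal.mk ↥(irreducibleComponents ↥(FBase.bc f Ω)) :=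
        Cardinal.mk_congr ((bcMap f Ω L).irreducibleComponentsEquiv (isOpenMap_bcMap f Ω L))

theorem card_connectedComponents_le :
    Cardinal.mk (_root_.ConnectedComponents ↥(FBase.bc f K)) ≤
      Cardinal.mk (_root_.ConnectedComponents ↥(FBase.bc f Ω)) := by
  obtain ⟨L, _, _, _, _, _, _⟩ := exists_compositum k K Ω
  haveI : GeometricallyConnected (bcMap f Ω L) :=
    MorphismProperty.of_isPullback (P := @GeometricallyConnected) (isPullback_bcMap f Ω L).flip
      (geometricallyConnected_SpecMap Ω L)
  have hs : Function.Surjective ((bcMap f K L).continuous.connectedComponentsMap) := by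
    intro c
    obtain ⟨b, rfl⟩ := ConnectedComponents.surjective_coe c
    obtain ⟨a, rfl⟩ := surjective_bcMap f K L b
    exact ⟨(a : _root_.ConnectedComponents ↥(FBase.bc f L)), rfl⟩
  calc Cardinal.mk (_root_.ConnectedComponents ↥(FBase.bc f K))
      ≤ Cardinal.mk (_root_.ConnectedComponents ↥(FBase.bc f L)) :=
        Cardinal.mk_le_of_surjective hs
    _ = Cardinal.mk (_root_.ConnectedComponents ↥(FBase.bc f Ω)) :=
        Cardinal.mk_congr
          ((bcMap f Ω L).connectedComponentsHomeomorph (isOpenMap_bcMap f Ω L)).toEquiv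

end Main

end Groth.Agent.H3.FBaseComp
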