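import Mathlib
import Groth.Prelude.Def_FDesc
import Groth.Agent.Lib.Lead.QC.WeakAss
import Groth.Agent.Lib.Lead.QC.AssPoint
import Groth.Agent.Lib.Lead.QC.CartierHeight

set_option autoImplicit false

universe u

open AlgebraicGeometry CategoryTheory CategoryTheory.Limits TopologicalSpace IsLocalRing

namespace Groth.Agent.H3.AssSupp

open Groth.Agent.LD.QC

variable {X : Scheme.{u}}

/-- a unit of the local ring acts injectively on the stalk -/
lemma eq_zero_of_isUnit_smul (M : X.Modules) (x : X) (a : X.presheaf.stalk x) (ha : IsUnit a)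
    (s : M.presheaf.stalk x) (h : a • s = 0) : s = 0 := by
  obtain ⟨u, rfl⟩ := ha
  have := congrArg (fun z => (↑u⁻¹ : X.presheaf.stalk x) • z) h
  simpa [smul_smul] using this

/-- a section with nonzero germ at `y` produces a weakly associated generization of `y` whose prime
contains the annihilator of the section -/
theorem exists_weakAss_generization (M : X.Modules) [M.IsQuasicoherent] {U : X.Opens}
    (hU : IsAffineOpen U) (y : X) (hy : y ∈ U) (n : Γ(M, U))
    (hn : M.presheaf.germ U y hy n ≠ 0) :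
    ∃ (x' : X) (hx' : x' ∈ U), x' ⤳ y ∧ Curv2.IsWeakAssPoint M x' ∧
      ∀ b : Γ(X, U), b • n = 0 → b ∈ (hU.primeIdealOf ⟨x', hx'⟩).asIdeal := by
  have hIle : (LinearMap.ker (LinearMap.toSpanSingleton Γ(X, U) Γ(M, U) n) : Ideal Γ(X, U)) ≤
      (hU.primeIdealOf ⟨y, hy⟩).asIdeal := by
    intro b hb
    by_contra hbp
    have hu := isUnit_germ_of_notMem hU y hy b hbp
    have hb' : b • n = 0 := hb
    have h0 : X.presheaf.germ U y hy b • M.presheaf.germ U y hy n = 0 := by
      rw [← germ_smul M y U hy b n, hb', map_zero]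
    exact hn (eq_zero_of_isUnit_smul M y _ hu _ h0)
  obtain ⟨p, hp, hple⟩ := Ideal.exists_minimalPrimes_le hIle
  let q : PrimeSpectrum Γ(X, U) := ⟨p, hp.1.1⟩
  have hqU := fromSpec_mem hU q
  refine ⟨hU.fromSpec q, hqU, ?_, ?_, ?_⟩
  · have h1 : q ⤳ hU.primeIdealOf ⟨y, hy⟩ := (PrimeSpectrum.le_iff_specializes _ _).mp hple
    have h2 := h1.map hU.fromSpec.continuous
    rwa [hU.fromSpec_primeIdealOf ⟨y, hy⟩] at h2
  · rw [isWeakAssPoint_iff_mem_weakAss M hU _ hqU, primeIdealOf_fromSpec hU q hqU,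
      mem_weakAss_iff]
    exact ⟨n, hp⟩
  · intro b hb
    rw [primeIdealOf_fromSpec hU q hqU]
    exact hp.1.2 hb

/-- every nonzero element of the stalk is, up to a unit, the germ of a section over an affine
neighbourhood -/
lemma exists_section_germ (M : X.Modules) [M.IsQuasicoherent] {U : X.Opens}
    (hU : IsAffineOpen U) (y : X) (hy : y ∈ U) (s : M.presheaf.stalk y) :
    ∃ (n : Γ(M, U)) (t : Γ(X, U)), IsUnit (X.presheaf.germ U y hy t) ∧
      X.presheaf.germ U y hy t • s = M.presheaf.germ U y hy n := by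
  letI := stalkΓModule M y U hy
  haveI := isLocalizedModule_germ M hU y hy
  obtain ⟨⟨n, t⟩, hnt⟩ := IsLocalizedModule.surj (hU.primeIdealOf ⟨y, hy⟩).asIdeal.primeCompl
    (germLinear M y U hy) s
  exact ⟨n, t.1, isUnit_germ_of_notMem hU y hy t.1 t.2, hnt⟩

/-- if the germ of a section vanishes, some element outside the prime kills it -/
lemma exists_smul_eq_zero_of_germ_eq_zero (M : X.Modules) [M.IsQuasicoherent] {U : X.Opens}
    (hU : IsAffineOpen U) (y : X) (hy : y ∈ U) (n : Γ(M, U))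
    (h : M.presheaf.germ U y hy n = 0) :
    ∃ u : Γ(X, U), IsUnit (X.presheaf.germ U y hy u) ∧ u • n = 0 := by
  letI := stalkΓModule M y U hy
  haveI := isLocalizedModule_germ M hU y hy
  obtain ⟨u, hu⟩ := (IsLocalizedModule.eq_zero_iff (hU.primeIdealOf ⟨y, hy⟩).asIdeal.primeCompl
    (germLinear M y U hy)).1 h
  exact ⟨u.1, isUnit_germ_of_notMem hU y hy u.1 u.2, hu⟩

theorem nontrivial_stalk_of_isAssPoint (M : X.Modules) (x : X) (h : Curv2.IsAssPoint M x) :
    Nontrivial (M.presheaf.stalk x) := by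
  by_contra hnt
  rw [not_nontrivial_iff_subsingleton] at hnt
  obtain ⟨s, hs⟩ := h.2
  have h1 : (1 : X.presheaf.stalk x) ∈ maximalIdeal (X.presheaf.stalk x) := by
    rw [hs]
    exact Ideal.le_radical (Submodule.mem_colon_singleton.2
      (by rw [Submodule.mem_bot]; exact Subsingleton.elim _ _))
  exact (maximalIdeal.isMaximal (X.presheaf.stalk x)).ne_top ((Ideal.eq_top_iff_one _).2 h1)

theorem exists_ass_generization (M : X.Modules) [M.IsQuasicoherent] (y : X)
    (hnt : Nontrivial (M.presheaf.stalk y)) : ∃ x', x' ⤳ y ∧ Curv2.IsAssPoint M x' := by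
  obtain ⟨U, hU, hy, -⟩ := exists_isAffineOpen_mem_and_subset (x := y) (U := (⊤ : X.Opens))
    (Set.mem_univ _)
  obtain ⟨s, hs⟩ := exists_ne (0 : M.presheaf.stalk y)
  obtain ⟨n, t, ht, hnt'⟩ := exists_section_germ M hU y hy s
  have hn : M.presheaf.germ U y hy n ≠ 0 := by
    rw [← hnt']
    exact fun h => hs (eq_zero_of_isUnit_smul M y _ ht _ h)
  obtain ⟨x', hx', hsp, hw, -⟩ := exists_weakAss_generization M hU y hy n hn
  exact ⟨x', hsp, (isAssPoint_iff_isWeakAssPoint M x').2 hw⟩

/-- S4636 -/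
theorem ass_max_iff (F : X.Modules) [F.IsQuasicoherent] (x : X) :
    (x ∈ AssSch.Ass F ∧ ∀ y ∈ AssSch.Ass F, y ⤳ x → y = x) ↔
      (Nontrivial ↑(F.presheaf.stalk x) ∧
        ∀ y : X, Nontrivial ↑(F.presheaf.stalk y) → y ⤳ x → y = x) := by
  constructor
  · rintro ⟨hx, hmax⟩
    refine ⟨nontrivial_stalk_of_isAssPoint F x hx, fun y hy hyx => ?_⟩
    obtain ⟨y', hy'y, hy'⟩ := exists_ass_generization F y hy
    have h1 : y' = x := hmax y' hy' (hy'y.trans hyx)
    rw [h1] at hy'y
    exact (hyx.antisymm hy'y).eq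
  · rintro ⟨hx, hmax⟩
    obtain ⟨x', hx'x, hx'⟩ := exists_ass_generization F x hx
    have h1 : x' = x := hmax x' (nontrivial_stalk_of_isAssPoint F x' hx') hx'x
    rw [h1] at hx'
    exact ⟨hx', fun y hy hyx => hmax y (nontrivial_stalk_of_isAssPoint F y hy) hyx⟩

/-- S4638 -/
theorem regular_iff (F : X.Modules) [F.IsQuasicoherent] (f : Γ(X, ⊤)) :
    (∀ x : X, IsSMulRegular ↑(F.presheaf.stalk x) (X.presheaf.germ ⊤ x trivial f)) ↔
      AssSch.Ass F ⊆ (X.basicOpen f : Set ↥X) := by
  constructor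
  · intro hreg x hx
    by_contra hxf
    have hxf' : x ∉ X.basicOpen f := hxf
    rw [Scheme.mem_basicOpen_top] at hxf'
    have hm : X.presheaf.germ ⊤ x trivial f ∈ maximalIdeal (X.presheaf.stalk x) := by
      rw [IsLocalRing.mem_maximalIdeal, mem_nonunits_iff]
      exact hxf'
    obtain ⟨s, hs⟩ := hx.2
    rw [hs] at hm
    obtain ⟨k, hk⟩ := hm
    rw [Submodule.mem_colon_singleton, Submodule.mem_bot] at hk
    have hregk : IsSMulRegular ↑(F.presheaf.stalk x) ((X.presheaf.germ ⊤ x trivial f) ^ k) :=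
      (hreg x).pow k
    have hs0 : s = 0 := hregk (hk.trans (smul_zero _).symm)
    have h1 : (1 : X.presheaf.stalk x) ∈ maximalIdeal (X.presheaf.stalk x) := by
      rw [hs]
      exact Ideal.le_radical (Submodule.mem_colon_singleton.2
        (by rw [Submodule.mem_bot, hs0]; exact smul_zero _))
    exact (maximalIdeal.isMaximal (X.presheaf.stalk x)).ne_top ((Ideal.eq_top_iff_one _).2 h1)
  · intro hsub x s₁ s₂ h12
    have hsmul : X.presheaf.germ ⊤ x trivial f • (s₁ - s₂) = 0 := by
      rw [smul_sub]; exact sub_eq_zero.2 h12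
    by_contra hne
    have hs : s₁ - s₂ ≠ 0 := fun h => hne (sub_eq_zero.1 h)
    obtain ⟨U, hU, hx, -⟩ := exists_isAffineOpen_mem_and_subset (x := x) (U := (⊤ : X.Opens))
      (Set.mem_univ _)
    let r : Γ(X, U) := X.presheaf.map (homOfLE (le_top : U ≤ ⊤)).op f
    have hr : X.presheaf.germ U x hx r = X.presheaf.germ ⊤ x trivial f :=
      sgerm_res x le_top hx f
    obtain ⟨n, t, ht, hnt⟩ := exists_section_germ F hU x hx (s₁ - s₂)
    have hn : F.presheaf.germ U x hx n ≠ 0 := by
      rw [← hnt]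
      exact fun h => hs (eq_zero_of_isUnit_smul F x _ ht _ h)
    have hrn : F.presheaf.germ U x hx (r • n) = 0 := by
      rw [germ_smul, ← hnt, hr, smul_comm, hsmul, smul_zero]
    obtain ⟨u, hu, hun⟩ := exists_smul_eq_zero_of_germ_eq_zero F hU x hx (r • n) hrn
    have hn' : F.presheaf.germ U x hx (u • n) ≠ 0 := by
      rw [germ_smul]
      exact fun h => hn (eq_zero_of_isUnit_smul F x _ hu _ h)
    obtain ⟨x', hx', -, hw, hann⟩ := exists_weakAss_generization F hU x hx (u • n) hn'
    have hrp : r ∈ (hU.primeIdealOf ⟨x', hx'⟩).asIdeal := by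
      apply hann
      rw [smul_comm]
      exact hun
    rw [mem_primeIdealOf_iff hU x' hx' r] at hrp
    apply hrp
    have hx'f : x' ∈ X.basicOpen f := hsub ((isAssPoint_iff_isWeakAssPoint F x').2 hw)
    rw [Scheme.mem_basicOpen_top] at hx'f
    rw [X.mem_basicOpen r x' hx']
    rw [show X.presheaf.germ U x' hx' r = X.presheaf.germ ⊤ x' trivial f from
      sgerm_res x' le_top hx' f]
    exact hx'f

end Groth.Agent.H3.AssSupp
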