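import Mathlib
import Groth.Prelude.Def_ZClos
import Groth.Prelude.Def_Coh
import Groth.Agent.Lib.Helper1.SheafOfModulesGrothendieck

set_option autoImplicit false

universe u

open AlgebraicGeometry CategoryTheory CategoryTheory.Limits TopologicalSpace Opposite

namespace Groth.Agent.H3.ZClosLib

open ZClos

variable {X : Scheme.{u}}

attribute [local instance] IsFiltered.isConnected

lemma hasExact (K : Type u) [SmallCategory K] [IsFiltered K] :
    HasExactColimitsOfShape K X.Modules :=
  Groth.Agent.H1.sheafOfModules_hasExactColimitsOfShape (Opens.grothendieckTopology X)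
    X.ringCatSheaf K

/-- the constant-to-diagram natural transformation given by the units -/
noncomputable def unitTrans (Z : Set X) (F : X.Modules) :
    (Functor.const (Cl Z)).obj F ⟶ (diagram Z).obj F where
  app T := toDiagram Z F T
  naturality T T' f := by
    dsimp
    rw [Category.id_comp]
    exact (toDiagram_map Z F f).symm

theorem pure_iff (Z : Set X) (F : X.Modules) :
    IsZPure Z F ↔ ∀ T : Cl Z, Mono (toDiagram Z F T) := by
  constructor
  · intro h T
    have h' : Mono (toDiagram Z F T ≫ colimit.ι ((diagram Z).obj F) T) := by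
      rw [← rhoApp_eq]; exact h
    exact mono_of_mono _ (colimit.ι ((diagram Z).obj F) T)
  · intro h
    haveI := hasExact (X := X) (Cl Z)
    haveI : ∀ T, Mono ((unitTrans Z F).app T) := h
    haveI : Mono (unitTrans Z F) := NatTrans.mono_of_mono_app _
    exact colim.map_mono' (unitTrans Z F) (isColimitConstCocone _ _)
      (colimit.isColimit ((diagram Z).obj F)) (rhoApp Z F) (fun T => by
        change 𝟙 F ≫ rhoApp Z F = toDiagram Z F T ≫ colimit.ι ((diagram Z).obj F) T
        rw [Category.id_comp]
        exact rhoApp_eq Z F T)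

lemma app_injective_of_mono {M N : X.Modules} (φ : M ⟶ N) [Mono φ] (U : X.Opens) :
    Function.Injective (φ.app U) := by
  have h1 : Mono ((Scheme.Modules.toPresheaf X).map φ) := inferInstance
  have h2 : Mono (((Scheme.Modules.toPresheaf X).map φ).app (op U)) := inferInstance
  exact (AddCommGrpCat.mono_iff_injective _).mp h2

lemma mono_of_app_injective {M N : X.Modules} (φ : M ⟶ N)
    (h : ∀ U : X.Opens, Function.Injective (φ.app U)) : Mono φ := by
  haveI : ∀ U : (Opens X)ᵒᵖ, Mono (((Scheme.Modules.toPresheaf X).map φ).app U) := fun U =>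
    (AddCommGrpCat.mono_iff_injective _).mpr (h U.unop)
  haveI : Mono ((Scheme.Modules.toPresheaf X).map φ) := NatTrans.mono_of_mono_app _
  exact (Scheme.Modules.toPresheaf X).mono_of_mono_map this

/-- if the unit for `U'` is a monomorphism then the transition maps into `U'` are monomorphisms -/
lemma mono_resPushMapApp {U U' : X.Opens} (h : U' ≤ U) (F : X.Modules)
    [Mono ((resPushUnit U').app F)] : Mono (resPushMapApp h F) := by
  apply mono_of_app_injective
  intro V
  rw [resPushMapApp_app]
  have hinj := app_injective_of_mono ((resPushUnit U').app F) (U.ι ''ᵁ U.ι ⁻¹ᵁ V)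
  rw [resPushUnit_app_app] at hinj
  have hfac : trIncl h V = eqToHom (resPush_image_eq h V).symm ≫
      homOfLE (U'.ι.image_preimage_le (U.ι ''ᵁ U.ι ⁻¹ᵁ V)) := Subsingleton.elim _ _
  rw [hfac, op_comp, Functor.map_comp]
  intro a b hab
  apply hinj
  have hiso : Function.Injective (F.presheaf.map (eqToHom (resPush_image_eq h V).symm).op) := by
    haveI : IsIso (F.presheaf.map (eqToHom (resPush_image_eq h V).symm).op) := inferInstance
    exact ((ConcreteCategory.isIso_iff_bijective _).1 this).1
  exact hiso hab

theorem closed_iff (Z : Set X) (F : X.Modules) :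
    IsZClosed Z F ↔ ∀ T : Cl Z, IsIso (toDiagram Z F T) := by
  constructor
  · intro h T
    haveI : IsIso (rhoApp Z F) := h
    have hpure : IsZPure Z F := (inferInstance : Mono (rhoApp Z F))
    have hmono := (pure_iff Z F).1 hpure
    haveI : ∀ (j j' : Cl Z) (φ : j ⟶ j'), Mono (((diagram Z).obj F).map φ) := by
      intro j j' φ
      haveI : Mono ((resPushUnit j'.U).app F) := hmono j'
      exact mono_resPushMapApp (Cl.U_anti φ.le) F
    haveI := hasExact (X := X) (Under T)
    haveI : Mono (colimit.ι ((diagram Z).obj F) T) :=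
      (colimit.isColimit ((diagram Z).obj F)).mono_ι_app_of_isFiltered T
    have hfac : toDiagram Z F T ≫ colimit.ι ((diagram Z).obj F) T = rhoApp Z F :=
      (rhoApp_eq Z F T).symm
    haveI : Epi (colimit.ι ((diagram Z).obj F) T) := by
      have hE : Epi (rhoApp Z F) := inferInstance
      have : Epi (toDiagram Z F T ≫ colimit.ι ((diagram Z).obj F) T) := by
        rw [hfac]; exact hE
      exact epi_of_epi (toDiagram Z F T) _
    haveI : IsIso (colimit.ι ((diagram Z).obj F) T) := isIso_of_mono_of_epi _
    haveI : IsIso (toDiagram Z F T ≫ colimit.ι ((diagram Z).obj F) T) := by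
      rw [hfac]; exact h
    exact IsIso.of_isIso_comp_right (toDiagram Z F T) (colimit.ι ((diagram Z).obj F) T)
  · intro h
    haveI : ∀ T, IsIso ((unitTrans Z F).app T) := h
    haveI : IsIso (unitTrans Z F) := NatIso.isIso_of_isIso_app _
    let e := IsColimit.coconePointsIsoOfNatIso (isColimitConstCocone (Cl Z) F)
      (colimit.isColimit ((diagram Z).obj F)) (asIso (unitTrans Z F))
    have he : e.hom = rhoApp Z F := by
      apply (isColimitConstCocone (Cl Z) F).hom_ext
      intro T
      rw [IsColimit.comp_coconePointsIsoOfNatIso_hom]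
      change toDiagram Z F T ≫ colimit.ι ((diagram Z).obj F) T = 𝟙 F ≫ rhoApp Z F
      rw [Category.id_comp]
      exact (rhoApp_eq Z F T).symm
    show IsIso (rhoApp Z F)
    rw [← he]
    infer_instance

/-- S5848 -/
theorem mono_set (Z Z' : Set X) (h : Z' ⊆ Z) (F : X.Modules) :
    (IsZPure Z F → IsZPure Z' F) ∧ (IsZClosed Z F → IsZClosed Z' F) := by
  let incl : Cl Z' → Cl Z := fun T => ⟨T.1, T.2.trans h⟩
  constructor
  · intro hp
    rw [pure_iff] at hp ⊢
    intro T
    exact (hp (incl T) : Mono (toDiagram Z F (incl T)))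
  · intro hc
    rw [closed_iff] at hc ⊢
    intro T
    exact (hc (incl T) : IsIso (toDiagram Z F (incl T)))

/-- morphisms out of `j_* j^* F` into a module on which the unit is invertible are determined by
their restriction along the unit -/
lemma hom_ext_of_isIso_unit (U : X.Opens) (F G : X.Modules) [IsIso ((resPushUnit U).app G)]
    (g₁ g₂ : (resPush U).obj F ⟶ G)
    (h : (resPushUnit U).app F ≫ g₁ = (resPushUnit U).app F ≫ g₂) : g₁ = g₂ := by
  let adj := Scheme.Modules.restrictAdjunction U.ι
  rw [← cancel_mono ((resPushUnit U).app G)]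
  obtain ⟨h₁, hh₁⟩ := (Scheme.Modules.pushforward U.ι).map_surjective (g₁ ≫ (resPushUnit U).app G)
  obtain ⟨h₂, hh₂⟩ := (Scheme.Modules.pushforward U.ι).map_surjective (g₂ ≫ (resPushUnit U).app G)
  have e1 : adj.homEquiv F _ h₁ = adj.homEquiv F _ h₂ := by
    rw [Adjunction.homEquiv_unit, Adjunction.homEquiv_unit, hh₁, hh₂]
    change (resPushUnit U).app F ≫ g₁ ≫ _ = (resPushUnit U).app F ≫ g₂ ≫ _
    rw [reassoc_of% h]
  have e2 : h₁ = h₂ := (adj.homEquiv F _).injective e1
  rw [← hh₁, ← hh₂, e2]

/-- S5851 -/
theorem existsUnique_fac (Z : Set X) (F F' : X.Modules) (hF' : IsZClosed Z F') (u : F ⟶ F') :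
    ∃! v : (H0 Z).obj F ⟶ F', rhoApp Z F ≫ v = u := by
  haveI : IsIso (rhoApp Z F') := hF'
  have hnat : u ≫ rhoApp Z F' = rhoApp Z F ≫ (H0 Z).map u := (rho Z).naturality u
  refine ⟨(H0 Z).map u ≫ inv (rhoApp Z F'), ?_, ?_⟩
  · show rhoApp Z F ≫ (H0 Z).map u ≫ inv (rhoApp Z F') = u
    rw [← Category.assoc, ← hnat, Category.assoc, IsIso.hom_inv_id, Category.comp_id]
  · intro v hv
    have hiso := (closed_iff Z F').1 hF'
    have key : ∀ v₁ v₂ : colimit ((diagram Z).obj F) ⟶ F',
        rhoApp Z F ≫ v₁ = rhoApp Z F ≫ v₂ → v₁ = v₂ := by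
      intro v₁ v₂ h12
      apply colimit.hom_ext
      intro T
      haveI : IsIso ((resPushUnit T.U).app F') := hiso T
      apply hom_ext_of_isIso_unit T.U F F'
      have e : toDiagram Z F T ≫ colimit.ι ((diagram Z).obj F) T = rhoApp Z F :=
        (rhoApp_eq Z F T).symm
      change toDiagram Z F T ≫ colimit.ι ((diagram Z).obj F) T ≫ v₁ =
        toDiagram Z F T ≫ colimit.ι ((diagram Z).obj F) T ≫ v₂
      rw [reassoc_of% e, reassoc_of% e]
      exact h12
    apply key
    rw [hv]
    show u = rhoApp Z F ≫ (H0 Z).map u ≫ inv (rhoApp Z F')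
    rw [← Category.assoc, ← hnat, Category.assoc, IsIso.hom_inv_id, Category.comp_id]

lemma restrictFunctor_preservesMono (U : X.Opens) {M N : X.Modules} (φ : M ⟶ N) [Mono φ] :
    Mono ((Scheme.Modules.restrictFunctor U.ι).map φ) := by
  apply mono_of_app_injective
  intro V
  exact app_injective_of_mono φ (U.ι ''ᵁ V)

lemma preservesFiniteLimits_restrictFunctor (U : X.Opens) :
    PreservesFiniteLimits (Scheme.Modules.restrictFunctor U.ι) := by
  haveI : (Scheme.Modules.restrictFunctor U.ι).Additive :=
    (Scheme.Modules.restrictAdjunction U.ι).left_adjoint_additive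
  rw [Functor.preservesFiniteLimits_iff_forall_exact_map_and_mono]
  intro S hS
  haveI : Mono S.f := hS.mono_f
  refine ⟨?_, restrictFunctor_preservesMono U S.f⟩
  have h0 : PreservesFiniteColimits (Scheme.Modules.restrictFunctor U.ι) ↔
      ∀ (S : ShortComplex X.Modules), S.ShortExact →
        (S.map (Scheme.Modules.restrictFunctor U.ι)).Exact ∧
          Epi ((Scheme.Modules.restrictFunctor U.ι).map S.g) :=
    (Functor.preservesFiniteColimits_tfae (Scheme.Modules.restrictFunctor U.ι)).out 3 0
  exact (h0.1 inferInstance S hS).1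

lemma preservesFiniteLimits_resPush (U : X.Opens) : PreservesFiniteLimits (resPush U) := by
  haveI := preservesFiniteLimits_restrictFunctor U
  exact comp_preservesFiniteLimits _ _

/-- S5840 -/
theorem preservesFiniteLimits_H0 (Z : Set X) : PreservesFiniteLimits (H0 Z) := by
  haveI := hasExact (X := X) (Cl Z)
  haveI : PreservesFiniteLimits (diagram Z) := by
    constructor
    intro J _ _
    apply preservesLimitsOfShape_of_evaluation
    intro T
    haveI := preservesFiniteLimits_resPush T.U
    have e : diagram Z ⋙ (evaluation (Cl Z) X.Modules).obj T ≅ resPush T.U :=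
      NatIso.ofComponents (fun _ => Iso.refl _) (fun f =>
        (Category.comp_id _).trans (Category.id_comp _).symm)
    exact preservesLimitsOfShape_of_natIso e.symm
  show PreservesFiniteLimits (diagram Z ⋙ colim)
  exact comp_preservesFiniteLimits _ _

end Groth.Agent.H3.ZClosLib
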