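import Mathlib
import Groth.Prelude.Def_ZClos
import Groth.Agent.Lib.Helper3.ZClosLib
import Groth.Agent.Lib.Lead.QC.Extend

set_option autoImplicit false

universe u

open AlgebraicGeometry CategoryTheory CategoryTheory.Limits TopologicalSpace Opposite

namespace Groth.Agent.H3.ZClosSect

open ZClos Groth.Agent.H3.ZClosLib Groth.Agent.LD.QC

variable {X : Scheme.{u}}

lemma res_bijective_of_le_of_le (M : X.Modules) {V V' : X.Opens} (h : V ≤ V') (h' : V' ≤ V) :
    Function.Bijective (M.presheaf.map (homOfLE h).op) := by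
  refine ⟨res_injective_of_le_of_le M h h', fun s => ⟨M.presheaf.map (homOfLE h').op s, ?_⟩⟩
  rw [res_res, res_self]

/-- an affine open cover of an open subset -/
lemma exists_affine_cover (V : X.Opens) :
    ∃ W : V → X.Opens, (∀ x, IsAffineOpen (W x)) ∧ (∀ x, W x ≤ V) ∧ V ≤ ⨆ x, W x := by
  have hW : ∀ x : V, ∃ W : X.Opens, IsAffineOpen W ∧ x.1 ∈ W ∧ W ≤ V := fun x => by
    obtain ⟨W, hW, hx, hWV⟩ := exists_isAffineOpen_mem_and_subset x.2
    exact ⟨W, hW, hx, hWV⟩
  choose W hWa hxW hWV using hW
  exact ⟨W, hWa, hWV, fun x hx => Opens.mem_iSup.2 ⟨⟨x, hx⟩, hxW _⟩⟩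

/-- injectivity on compact opens gives a monomorphism -/
theorem mono_of_injective_compact {M N : X.Modules} (φ : M ⟶ N)
    (h : ∀ V : X.Opens, IsCompact (V : Set X) → Function.Injective (φ.app V)) : Mono φ := by
  apply mono_of_app_injective
  intro V s t hst
  obtain ⟨W, hWa, hWV, hcov⟩ := exists_affine_cover V
  apply section_ext_of_cover M W hWV hcov s t
  intro x
  apply h (W x) (hWa x).isCompact
  rw [app_res, app_res, hst]

/-- bijectivity on compact opens gives an isomorphism -/
theorem isIso_of_bijective_compact {M N : X.Modules} (φ : M ⟶ N)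
    (h : ∀ V : X.Opens, IsCompact (V : Set X) → Function.Bijective (φ.app V)) : IsIso φ := by
  haveI : Mono φ := mono_of_injective_compact φ (fun V hV => (h V hV).1)
  rw [Scheme.Modules.Hom.isIso_iff_isIso_app]
  intro V
  rw [ConcreteCategory.isIso_iff_bijective]
  refine ⟨app_injective_of_mono φ V, fun t => ?_⟩
  obtain ⟨W, hWa, hWV, hcov⟩ := exists_affine_cover V
  have hs : ∀ x : V, ∃ s : Γ(M, W x), φ.app (W x) s = N.presheaf.map (homOfLE (hWV x)).op t :=
    fun x => (h (W x) (hWa x).isCompact).2 _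
  choose s hs using hs
  have hcompat : TopCat.Presheaf.IsCompatible M.presheaf W s := by
    intro x y
    apply app_injective_of_mono φ (W x ⊓ W y)
    change φ.app (W x ⊓ W y) (M.presheaf.map (homOfLE (inf_le_left : W x ⊓ W y ≤ W x)).op (s x)) =
      φ.app (W x ⊓ W y) (M.presheaf.map (homOfLE (inf_le_right : W x ⊓ W y ≤ W y)).op (s y))
    rw [app_res, app_res, hs, hs, res_res, res_res]
  obtain ⟨z, hz, -⟩ := TopCat.Sheaf.existsUnique_gluing' ⟨_, M.isSheaf⟩ W V
    (fun x => homOfLE (hWV x)) hcov s hcompat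
  refine ⟨z, ?_⟩
  apply section_ext_of_cover N W hWV hcov
  intro x
  rw [← app_res]
  exact (congrArg (φ.app (W x)) (hz x)).trans (hs x)

lemma unit_app_eq (U V : X.Opens) (F : X.Modules) (hle : U.ι ''ᵁ U.ι ⁻¹ᵁ V ≤ V ⊓ U)
    (s : Γ(F, V)) :
    ((resPushUnit U).app F).app V s =
      F.presheaf.map (homOfLE hle).op
        (F.presheaf.map (homOfLE (inf_le_left : V ⊓ U ≤ V)).op s) := by
  rw [resPushUnit_app_app, res_res]
  rfl

lemma image_preimage_le_inf (U V : X.Opens) : U.ι ''ᵁ U.ι ⁻¹ᵁ V ≤ V ⊓ U := by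
  rw [ι_image_preimage, inf_comm]

lemma inf_le_image_preimage (U V : X.Opens) : V ⊓ U ≤ U.ι ''ᵁ U.ι ⁻¹ᵁ V := by
  rw [ι_image_preimage, inf_comm]

lemma unit_app_injective_iff (U V : X.Opens) (F : X.Modules) :
    Function.Injective (((resPushUnit U).app F).app V) ↔
      Function.Injective (F.presheaf.map (homOfLE (inf_le_left : V ⊓ U ≤ V)).op) := by
  have hb := res_bijective_of_le_of_le F (image_preimage_le_inf U V) (inf_le_image_preimage U V)
  have he : ⇑(ConcreteCategory.hom (((resPushUnit U).app F).app V)) =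
      ⇑(ConcreteCategory.hom (F.presheaf.map (homOfLE (image_preimage_le_inf U V)).op)) ∘
      ⇑(ConcreteCategory.hom (F.presheaf.map (homOfLE (inf_le_left : V ⊓ U ≤ V)).op)) := by
    funext s
    exact unit_app_eq U V F _ s
  rw [he]
  exact ⟨fun h => Function.Injective.of_comp h, fun h => hb.1.comp h⟩

lemma unit_app_bijective_iff (U V : X.Opens) (F : X.Modules) :
    Function.Bijective (((resPushUnit U).app F).app V) ↔
      Function.Bijective (F.presheaf.map (homOfLE (inf_le_left : V ⊓ U ≤ V)).op) := by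
  have hb := res_bijective_of_le_of_le F (image_preimage_le_inf U V) (inf_le_image_preimage U V)
  have he : ⇑(ConcreteCategory.hom (((resPushUnit U).app F).app V)) =
      ⇑(ConcreteCategory.hom (F.presheaf.map (homOfLE (image_preimage_le_inf U V)).op)) ∘
      ⇑(ConcreteCategory.hom (F.presheaf.map (homOfLE (inf_le_left : V ⊓ U ≤ V)).op)) := by
    funext s
    exact unit_app_eq U V F _ s
  rw [he]
  exact ⟨fun h => (Function.Bijective.of_comp_iff' hb _).1 h, fun h => hb.comp h⟩

/-- S5844 -/
theorem isZPure_iff_sections (Z : Set X) (F : X.Modules) :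
    IsZPure Z F ↔ ∀ (T : Cl Z) (V : X.Opens), IsCompact (V : Set X) →
      Function.Injective (F.presheaf.map (homOfLE (inf_le_left : V ⊓ T.U ≤ V)).op) := by
  rw [pure_iff]
  constructor
  · intro h T V _
    haveI := h T
    exact (unit_app_injective_iff T.U V F).1 (app_injective_of_mono (toDiagram Z F T) V)
  · intro h T
    apply mono_of_injective_compact
    intro V hV
    exact (unit_app_injective_iff T.U V F).2 (h T V hV)

/-- S5845 -/
theorem isZClosed_iff_sections (Z : Set X) (F : X.Modules) :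
    IsZClosed Z F ↔ ∀ (T : Cl Z) (V : X.Opens), IsCompact (V : Set X) →
      Function.Bijective (F.presheaf.map (homOfLE (inf_le_left : V ⊓ T.U ≤ V)).op) := by
  rw [closed_iff]
  constructor
  · intro h T V _
    haveI := h T
    have h1 : IsIso ((toDiagram Z F T).app V) := inferInstance
    exact (unit_app_bijective_iff T.U V F).1 ((ConcreteCategory.isIso_iff_bijective _).1 h1)
  · intro h T
    apply isIso_of_bijective_compact
    intro V hV
    exact (unit_app_bijective_iff T.U V F).2 (h T V hV)

end Groth.Agent.H3.ZClosSect
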