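import Mathlib
import Groth.Prelude.Def_ZClos
import Groth.Agent.Lib.Helper3.ZClosLib
import Groth.Agent.Lib.Helper3.ZClosSect
import Groth.Agent.Lib.Helper3.QcClosure

set_option autoImplicit false

universe u

open AlgebraicGeometry CategoryTheory CategoryTheory.Limits TopologicalSpace Opposite

namespace Groth.Agent.H3.ZClosCover

open ZClos Groth.Agent.H3.ZClosLib Groth.Agent.H3.ZClosSect Groth.Agent.LD.QC

variable {X : Scheme.{u}}

/-- a cover of an open subset by members of a basis -/
lemma exists_basis_cover (B : Set X.Opens) (hB : Opens.IsBasis B) (V : X.Opens) :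
    ∃ W : V → X.Opens, (∀ x, W x ∈ B) ∧ (∀ x, W x ≤ V) ∧ V ≤ ⨆ x, W x := by
  have hW : ∀ x : V, ∃ W : X.Opens, W ∈ B ∧ x.1 ∈ W ∧ W ≤ V := fun x => by
    obtain ⟨W, hW, hx, hWV⟩ := Opens.isBasis_iff_nbhd.1 hB x.2
    exact ⟨W, hW, hx, hWV⟩
  choose W hWa hxW hWV using hW
  exact ⟨W, hWa, hWV, fun x hx => Opens.mem_iSup.2 ⟨⟨x, hx⟩, hxW _⟩⟩

/-- injectivity on a basis gives a monomorphism -/
theorem mono_of_injective_basis {M N : X.Modules} (φ : M ⟶ N) (B : Set X.Opens)
    (hB : Opens.IsBasis B) (h : ∀ V ∈ B, Function.Injective (φ.app V)) : Mono φ := by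
  apply mono_of_app_injective
  intro V s t hst
  obtain ⟨W, hWa, hWV, hcov⟩ := exists_basis_cover B hB V
  apply section_ext_of_cover M W hWV hcov s t
  intro x
  apply h (W x) (hWa x)
  rw [app_res, app_res, hst]

/-- bijectivity on a basis gives an isomorphism -/
theorem isIso_of_bijective_basis {M N : X.Modules} (φ : M ⟶ N) (B : Set X.Opens)
    (hB : Opens.IsBasis B) (h : ∀ V ∈ B, Function.Bijective (φ.app V)) : IsIso φ := by
  haveI : Mono φ := mono_of_injective_basis φ B hB (fun V hV => (h V hV).1)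
  rw [Scheme.Modules.Hom.isIso_iff_isIso_app]
  intro V
  rw [ConcreteCategory.isIso_iff_bijective]
  refine ⟨app_injective_of_mono φ V, fun t => ?_⟩
  obtain ⟨W, hWa, hWV, hcov⟩ := exists_basis_cover B hB V
  have hs : ∀ x : V, ∃ s : Γ(M, W x), φ.app (W x) s = N.presheaf.map (homOfLE (hWV x)).op t :=
    fun x => (h (W x) (hWa x)).2 _
  choose s hs using hs
  have hcompat : TopCat.Presheaf.IsCompatible M.presheaf W s := by
    intro x y
    apply app_injective_of_mono φ (W x ⊓ W y)
    change φ.app (W x ⊓ W y) (M.presheaf.map (homOfLE (inf_le_left : W x ⊓ W y ≤ W x)).op (s x)) =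
      φ.app (W x ⊓ W y) (M.presheaf.map (homOfLE (inf_le_right : W x ⊓ W y ≤ W y)).op (s y))
    rw [app_res, app_res, hs, hs, res_res, res_res]
  obtain ⟨z, hz, -⟩ := TopCat.Sheaf.existsUnique_gluing' ⟨_, M.isSheaf⟩ W V
    (fun x => homOfLE (hWV x)) hcov s hcompat
  refine ⟨z, ?_⟩
  apply section_ext_of_cover N W hWV hcov
  intro x
  rw [← app_res]
  exact (congrArg (φ.app (W x)) (hz x)).trans (hs x)

/-- all-opens form of the section criterion for purity -/
theorem isZPure_iff_sections_all (Z : Set X) (F : X.Modules) :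
    IsZPure Z F ↔ ∀ (T : Cl Z) (V : X.Opens),
      Function.Injective (F.presheaf.map (homOfLE (inf_le_left : V ⊓ T.U ≤ V)).op) := by
  rw [pure_iff]
  constructor
  · intro h T V
    haveI := h T
    exact (unit_app_injective_iff T.U V F).1 (app_injective_of_mono (toDiagram Z F T) V)
  · intro h T
    apply mono_of_app_injective
    intro V
    exact (unit_app_injective_iff T.U V F).2 (h T V)

/-- all-opens form of the section criterion for closedness -/
theorem isZClosed_iff_sections_all (Z : Set X) (F : X.Modules) :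
    IsZClosed Z F ↔ ∀ (T : Cl Z) (V : X.Opens),
      Function.Bijective (F.presheaf.map (homOfLE (inf_le_left : V ⊓ T.U ≤ V)).op) := by
  rw [closed_iff]
  constructor
  · intro h T V
    haveI := h T
    have h1 : IsIso ((toDiagram Z F T).app V) := inferInstance
    exact (unit_app_bijective_iff T.U V F).1 ((ConcreteCategory.isIso_iff_bijective _).1 h1)
  · intro h T
    rw [Scheme.Modules.Hom.isIso_iff_isIso_app]
    intro V
    rw [ConcreteCategory.isIso_iff_bijective]
    exact (unit_app_bijective_iff T.U V F).2 (h T V)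

lemma injective_res_congr (F : X.Modules) {A A' B B' : X.Opens} (hA : A = A') (hB : B = B')
    (h : B ≤ A) (h' : B' ≤ A') :
    Function.Injective (F.presheaf.map (homOfLE h).op) ↔
      Function.Injective (F.presheaf.map (homOfLE h').op) := by
  subst hA hB; rfl

lemma bijective_res_congr (F : X.Modules) {A A' B B' : X.Opens} (hA : A = A') (hB : B = B')
    (h : B ≤ A) (h' : B' ≤ A') :
    Function.Bijective (F.presheaf.map (homOfLE h).op) ↔
      Function.Bijective (F.presheaf.map (homOfLE h').op) := by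
  subst hA hB; rfl

/-- restriction maps of the restriction of `F` to an open subscheme -/
lemma restrict_presheaf_map (U : X.Opens) (F : X.Modules) {W W' : (U : Scheme.{u}).Opens}
    (h : W' ≤ W) :
    ((Scheme.Modules.restrictFunctor U.ι).obj F).presheaf.map (homOfLE h).op =
      F.presheaf.map (homOfLE (U.ι.image_mono h)).op := rfl

/-- compatibility of complements of closed sets with images of opens -/
lemma image_inf_compl (U : X.Opens) (T : Closeds X) (T' : Closeds (U : Scheme.{u}))
    (hT : (T' : Set (U : Scheme.{u})) = U.ι ⁻¹' (T : Set X)) (W' : (U : Scheme.{u}).Opens) :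
    U.ι ''ᵁ (W' ⊓ T'.compl) = U.ι ''ᵁ W' ⊓ T.compl := by
  ext x
  simp only [Scheme.Hom.coe_image, Opens.coe_inf, Closeds.coe_compl, Set.mem_image, Set.mem_inter_iff,
    Set.mem_compl_iff, SetLike.mem_coe]
  constructor
  · rintro ⟨y, ⟨hyW, hyT⟩, rfl⟩
    refine ⟨⟨y, hyW, rfl⟩, fun hy => hyT ?_⟩
    have : y ∈ (T' : Set (U : Scheme.{u})) := by rw [hT]; exact hy
    exact this
  · rintro ⟨⟨y, hyW, rfl⟩, hyT⟩
    refine ⟨y, ⟨hyW, fun hy => hyT ?_⟩, rfl⟩
    have : y ∈ U.ι ⁻¹' (T : Set X) := by rw [← hT]; exact hy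
    exact this


/-- the closed subset of `X` generated by a closed subset of an open subscheme -/
lemma closure_image_subset [IsLocallyNoetherian X] (Z : Set X) (hZ : StableUnderSpecialization Z)
    (U : X.Opens) (T' : Closeds (U : Scheme.{u})) (hT' : (T' : Set (U : Scheme.{u})) ⊆ U.ι ⁻¹' Z) :
    closure (U.ι '' (T' : Set (U : Scheme.{u}))) ⊆ Z := by
  intro y hy
  obtain ⟨z, hz, hzy⟩ := Groth.Agent.H3.QcClosure.exists_specializes_of_mem_closure U.ι
    (T' : Set (U : Scheme.{u})) T'.isClosed y hy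
  exact hZ hzy (hT' hz)

lemma preimage_closure_image (U : X.Opens) (T' : Closeds (U : Scheme.{u})) :
    (T' : Set (U : Scheme.{u})) = U.ι ⁻¹' (closure (U.ι '' (T' : Set (U : Scheme.{u})))) := by
  have h := U.ι.isOpenEmbedding.isEmbedding.closure_eq_preimage_closure_image
    (T' : Set (U : Scheme.{u}))
  rw [T'.isClosed.closure_eq] at h
  exact h

lemma isBasis_cover {ι : Type u} (V : ι → X.Opens) (hV : iSup V = ⊤) :
    Opens.IsBasis {W : X.Opens | ∃ i, W ≤ V i} := by
  rw [Opens.isBasis_iff_nbhd]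
  intro U x hx
  have hx' : x ∈ iSup V := by rw [hV]; trivial
  obtain ⟨i, hi⟩ := Opens.mem_iSup.1 hx'
  exact ⟨U ⊓ V i, ⟨i, inf_le_right⟩, ⟨hx, hi⟩, inf_le_left⟩

/-- S5846 -/
theorem isZPure_iff_openCover [IsLocallyNoetherian X] (Z : Set X)
    (hZ : StableUnderSpecialization Z) (F : X.Modules) {ι : Type u} (V : ι → X.Opens)
    (hV : iSup V = ⊤) :
    IsZPure Z F ↔
      ∀ i, IsZPure ((V i).ι.base ⁻¹' Z) ((Scheme.Modules.restrictFunctor (V i).ι).obj F) := by
  constructor
  · intro h i
    rw [isZPure_iff_sections_all] at h ⊢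
    intro T' W'
    let T : Cl Z := ⟨⟨closure ((V i).ι '' (T'.1 : Set (V i : Scheme.{u}))), isClosed_closure⟩,
      closure_image_subset Z hZ (V i) T'.1 T'.2⟩
    have hT : (T'.1 : Set (V i : Scheme.{u})) = (V i).ι ⁻¹' (T.1 : Set X) :=
      preimage_closure_image (V i) T'.1
    have he := image_inf_compl (V i) T.1 T'.1 hT W'
    rw [restrict_presheaf_map]
    exact (injective_res_congr F rfl he _ _).2 (h T ((V i).ι ''ᵁ W'))
  · intro h
    rw [pure_iff]
    intro T
    apply mono_of_injective_basis _ _ (isBasis_cover V hV)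
    rintro W ⟨i, hWi⟩
    refine (unit_app_injective_iff T.U W F).2 ?_
    have hi := (isZPure_iff_sections_all _ _).1 (h i)
    let T' : Cl ((V i).ι.base ⁻¹' Z) := ⟨T.1.preimage (V i).ι.continuous, fun y hy => T.2 hy⟩
    have he := image_inf_compl (V i) T.1 T'.1 rfl ((V i).ι ⁻¹ᵁ W)
    have hW : (V i).ι ''ᵁ ((V i).ι ⁻¹ᵁ W) = W := by
      rw [ι_image_preimage]; exact inf_eq_right.2 hWi
    have := hi T' ((V i).ι ⁻¹ᵁ W)
    rw [restrict_presheaf_map] at this
    exact (injective_res_congr F hW (he.trans (by rw [hW]; rfl)) _ _).1 this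

/-- S5847 -/
theorem isZClosed_iff_openCover [IsLocallyNoetherian X] (Z : Set X)
    (hZ : StableUnderSpecialization Z) (F : X.Modules) {ι : Type u} (V : ι → X.Opens)
    (hV : iSup V = ⊤) :
    IsZClosed Z F ↔
      ∀ i, IsZClosed ((V i).ι.base ⁻¹' Z) ((Scheme.Modules.restrictFunctor (V i).ι).obj F) := by
  constructor
  · intro h i
    rw [isZClosed_iff_sections_all] at h ⊢
    intro T' W'
    let T : Cl Z := ⟨⟨closure ((V i).ι '' (T'.1 : Set (V i : Scheme.{u}))), isClosed_closure⟩,
      closure_image_subset Z hZ (V i) T'.1 T'.2⟩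
    have hT : (T'.1 : Set (V i : Scheme.{u})) = (V i).ι ⁻¹' (T.1 : Set X) :=
      preimage_closure_image (V i) T'.1
    have he := image_inf_compl (V i) T.1 T'.1 hT W'
    rw [restrict_presheaf_map]
    exact (bijective_res_congr F rfl he _ _).2 (h T ((V i).ι ''ᵁ W'))
  · intro h
    rw [closed_iff]
    intro T
    apply isIso_of_bijective_basis _ _ (isBasis_cover V hV)
    rintro W ⟨i, hWi⟩
    refine (unit_app_bijective_iff T.U W F).2 ?_
    have hi := (isZClosed_iff_sections_all _ _).1 (h i)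
    let T' : Cl ((V i).ι.base ⁻¹' Z) := ⟨T.1.preimage (V i).ι.continuous, fun y hy => T.2 hy⟩
    have he := image_inf_compl (V i) T.1 T'.1 rfl ((V i).ι ⁻¹ᵁ W)
    have hW : (V i).ι ''ᵁ ((V i).ι ⁻¹ᵁ W) = W := by
      rw [ι_image_preimage]; exact inf_eq_right.2 hWi
    have := hi T' ((V i).ι ⁻¹ᵁ W)
    rw [restrict_presheaf_map] at this
    exact (bijective_res_congr F hW (he.trans (by rw [hW]; rfl)) _ _).1 this

end Groth.Agent.H3.ZClosCover
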