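import Mathlib
/-! helper3: sheaves of modules on sites — forgetting to abelian sheaves preserves limits and colimits. -/
open CategoryTheory CategoryTheory.Limits Opposite CategoryTheory.Functor
universe u

namespace Groth.Agent.H3.ModSiteAux

/-- If `L ⊣ G` with `G` fully faithful and `L ⋙ H` preserves colimits of shape `K` and
the domain of `L` has colimits of shape `K`, then `H` preserves colimits of shape `K`. -/
theorem preservesColimitsOfShape_of_reflective {D P E : Type*} [Category D] [Category P] [Category E]
    {L : P ⥤ D} {G : D ⥤ P} (adj : L ⊣ G) [G.Full] [G.Faithful] (H : D ⥤ E)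
    (K : Type*) [Category K] [HasColimitsOfShape K P] [PreservesColimitsOfShape K (L ⋙ H)] :
    PreservesColimitsOfShape K H := by
  refine ⟨fun {F} => ?_⟩
  have : L.IsLeftAdjoint := adj.isLeftAdjoint
  let e : F ≅ (F ⋙ G) ⋙ L :=
    (Functor.rightUnitor F).symm ≪≫ Functor.isoWhiskerLeft F (asIso adj.counit).symm ≪≫
      (Functor.associator _ _ _).symm
  have h1 : PreservesColimit ((F ⋙ G) ⋙ L) H := by
    have hc : IsColimit (L.mapCocone (colimit.cocone (F ⋙ G))) :=
      isColimitOfPreserves L (colimit.isColimit _)
    refine preservesColimit_of_preserves_colimit_cocone hc ?_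
    exact isColimitOfPreserves (L ⋙ H) (colimit.isColimit (F ⋙ G))
  exact preservesColimit_of_iso_diagram H e.symm

end Groth.Agent.H3.ModSiteAux

namespace Groth.Agent.H3.ModSiteAux
variable {C : Type u} [SmallCategory C] {J : GrothendieckTopology C}

instance toSheaf_preservesColimitsOfSize (R : Sheaf J RingCat.{u}) :
    PreservesColimitsOfSize.{u, u} (SheafOfModules.toSheaf.{u} R) := by
  refine ⟨fun {K} _ => ?_⟩
  have : PreservesColimitsOfShape K
      (PresheafOfModules.sheafification.{u} (𝟙 R.obj) ⋙ SheafOfModules.toSheaf.{u} R) :=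
    inferInstanceAs (PreservesColimitsOfShape K
      (PresheafOfModules.toPresheaf.{u} R.obj ⋙ presheafToSheaf J AddCommGrpCat.{u}))
  exact preservesColimitsOfShape_of_reflective
    (PresheafOfModules.sheafificationAdjunction (𝟙 R.obj)) _ K

end Groth.Agent.H3.ModSiteAux

namespace Groth.Agent.H3.ModSiteAux
variable {C : Type u} [SmallCategory C] {J : GrothendieckTopology C}

instance toSheaf_preservesLimitsOfSize (R : Sheaf J RingCat.{u}) :
    PreservesLimitsOfSize.{u, u} (SheafOfModules.toSheaf.{u} R) := by
  have : PreservesLimitsOfSize.{u, u}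
      (SheafOfModules.toSheaf.{u} R ⋙ sheafToPresheaf J AddCommGrpCat.{u}) :=
    inferInstanceAs (PreservesLimitsOfSize.{u, u}
      (SheafOfModules.forget.{u} R ⋙ PresheafOfModules.toPresheaf.{u} R.obj))
  exact preservesLimits_of_reflects_of_preserves _ (sheafToPresheaf J AddCommGrpCat.{u})

end Groth.Agent.H3.ModSiteAux
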