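import Mathlib
import Groth.Prelude.Def_ZClos
import Groth.Prelude.Def_Coh
import Groth.Agent.Lib.Helper3.ZClosLib
import Groth.Agent.Lib.Helper3.ModSiteAux

set_option autoImplicit false

universe u

open AlgebraicGeometry CategoryTheory CategoryTheory.Limits TopologicalSpace Opposite

namespace Groth.Agent.H3.ZClosStalk

open ZClos Groth.Agent.H3.ZClosLib

variable {X : Scheme.{u}}

attribute [local instance] IsFiltered.isConnected

/-- the stalk functor on `O_X`-modules (values in abelian groups) -/
noncomputable abbrev stalkFun (x : X) : X.Modules ⥤ Ab.{u} :=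
  Scheme.Modules.toPresheaf X ⋙ TopCat.Presheaf.stalkFunctor Ab.{u} x

lemma rhoStalk_eq (Z : Set X) (F : X.Modules) (x : X) :
    rhoStalk Z F x = (stalkFun x).map (rhoApp Z F) := rfl

noncomputable def stalkFunIso (x : X) :
    stalkFun x ≅ SheafOfModules.toSheaf.{u} X.ringCatSheaf ⋙
      (TopCat.Sheaf.forget Ab.{u} X ⋙ TopCat.Presheaf.stalkFunctor Ab.{u} x) :=
  NatIso.ofComponents (fun _ => Iso.refl _) (fun f => by
    exact (Category.comp_id _).trans (Category.id_comp _).symm)

instance preservesColimits_stalkFun (x : X) : PreservesColimitsOfSize.{u, u} (stalkFun x) := by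
  have h1 : PreservesColimitsOfSize.{u, u} (SheafOfModules.toSheaf.{u} X.ringCatSheaf) :=
    Groth.Agent.H3.ModSiteAux.toSheaf_preservesColimitsOfSize _
  have h2 : PreservesColimitsOfSize.{u, u}
      (TopCat.Sheaf.forget Ab.{u} X ⋙ TopCat.Presheaf.stalkFunctor Ab.{u} x) := by
    classical
    exact (stalkSkyscraperSheafAdjunction (C := Ab.{u}) x).leftAdjoint_preservesColimits
  have h3 : PreservesColimitsOfSize.{u, u} (SheafOfModules.toSheaf.{u} X.ringCatSheaf ⋙
      (TopCat.Sheaf.forget Ab.{u} X ⋙ TopCat.Presheaf.stalkFunctor Ab.{u} x)) :=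
    @comp_preservesColimits _ _ _ _ _ _ _ _ h1 h2
  exact @preservesColimits_of_natIso _ _ _ _ _ _ (stalkFunIso x).symm h3

/-- on the open `U`, the unit `F ⟶ j_* j^* F` is an isomorphism on stalks -/
lemma isIso_stalkFun_unit (U : X.Opens) (F : X.Modules) (x : X) (hx : x ∈ U) :
    IsIso ((stalkFun x).map ((resPushUnit U).app F)) := by
  let adj := Scheme.Modules.restrictAdjunction U.ι
  -- j^* of the unit is an isomorphism
  have h1 : IsIso ((Scheme.Modules.restrictFunctor U.ι).map (adj.unit.app F)) := by
    have h := adj.left_triangle_components F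
    haveI : IsIso ((Scheme.Modules.restrictFunctor U.ι).map (adj.unit.app F) ≫
        adj.counit.app ((Scheme.Modules.restrictFunctor U.ι).obj F)) := by
      rw [h]; infer_instance
    exact IsIso.of_isIso_comp_right _ (adj.counit.app ((Scheme.Modules.restrictFunctor U.ι).obj F))
  let x' : (U : Scheme.{u}) := ⟨x, hx⟩
  let e := Scheme.Modules.restrictStalkNatIso U.ι x'
  have hnat := e.hom.naturality ((resPushUnit U).app F)
  have h2 : IsIso ((Scheme.Modules.restrictFunctor U.ι ⋙ Scheme.Modules.toPresheaf (U : Scheme.{u}) ⋙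
      TopCat.Presheaf.stalkFunctor Ab.{u} x').map ((resPushUnit U).app F)) := by
    have : IsIso ((Scheme.Modules.toPresheaf (U : Scheme.{u}) ⋙
        TopCat.Presheaf.stalkFunctor Ab.{u} x').map
      ((Scheme.Modules.restrictFunctor U.ι).map (adj.unit.app F))) := inferInstance
    exact this
  have h3 : (Scheme.Modules.toPresheaf X ⋙
      TopCat.Presheaf.stalkFunctor Ab.{u} (U.ι x')).map ((resPushUnit U).app F) =
      e.inv.app _ ≫ (Scheme.Modules.restrictFunctor U.ι ⋙ Scheme.Modules.toPresheaf (U : Scheme.{u}) ⋙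
      TopCat.Presheaf.stalkFunctor Ab.{u} x').map ((resPushUnit U).app F) ≫ e.hom.app _ := by
    rw [hnat, ← Category.assoc, ← NatTrans.comp_app, Iso.inv_hom_id, NatTrans.id_app,
      Category.id_comp]
  show IsIso ((Scheme.Modules.toPresheaf X ⋙
      TopCat.Presheaf.stalkFunctor Ab.{u} (U.ι x')).map ((resPushUnit U).app F))
  rw [h3]
  infer_instance

/-- S5849 -/
theorem isZClosedAt_of_not_mem (Z : Set X) (F : X.Modules) (x : X) (hx : x ∉ Z) :
    IsZClosedAt Z F x := by
  have hiso : ∀ T : Cl Z, IsIso ((stalkFun x).map (toDiagram Z F T)) := by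
    intro T
    exact isIso_stalkFun_unit T.U F x (fun hT => hx (T.2 hT))
  let w : (Functor.const (Cl Z)).obj ((stalkFun x).obj F) ⟶ (diagram Z).obj F ⋙ stalkFun x :=
    { app := fun T => (stalkFun x).map (toDiagram Z F T)
      naturality := fun T T' f => by
        have h := congrArg (stalkFun x).map (toDiagram_map Z F f)
        rw [Functor.map_comp] at h
        exact (Category.id_comp _).trans h.symm }
  have : ∀ T, IsIso (w.app T) := hiso
  have : IsIso w := NatIso.isIso_of_isIso_app _
  have hc₂ := isColimitOfPreserves (stalkFun x) (colimit.isColimit ((diagram Z).obj F))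
  let e := IsColimit.coconePointsIsoOfNatIso
    (isColimitConstCocone (Cl Z) ((stalkFun x).obj F)) hc₂ (asIso w)
  have he : e.hom = (stalkFun x).map (rhoApp Z F) := by
    apply (isColimitConstCocone (Cl Z) ((stalkFun x).obj F)).hom_ext
    intro T
    rw [IsColimit.comp_coconePointsIsoOfNatIso_hom]
    change (stalkFun x).map (toDiagram Z F T) ≫
      (stalkFun x).map (colimit.ι ((diagram Z).obj F) T) = 𝟙 _ ≫ (stalkFun x).map (rhoApp Z F)
    rw [Category.id_comp, ← Functor.map_comp, ← rhoApp_eq]
    rfl
  have hI : IsIso ((stalkFun x).map (rhoApp Z F)) := by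
    rw [← he]; infer_instance
  exact (ConcreteCategory.isIso_iff_bijective _).1 hI

end Groth.Agent.H3.ZClosStalk
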