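import Mathlib
import Groth.Agent.Lib.Helper3.ZClosStalk
import Groth.Agent.Lib.Lead.QC.Extend

set_option autoImplicit false

universe u

open AlgebraicGeometry CategoryTheory CategoryTheory.Limits TopologicalSpace Opposite

/-! Sections of a filtered colimit of `O_X`-modules over compact / Noetherian opens. -/

namespace Groth.Agent.H3.ColimSect

open Groth.Agent.H3.ZClosStalk Groth.Agent.LD.QC

variable {X : Scheme.{u}} {J : Type u} [SemilatticeSup J] [OrderBot J] (D : J ⥤ X.Modules)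

/-- local lifting of sections of the colimit -/
lemma exists_local_lift (x : X) (W : X.Opens) (hx : x ∈ W) (s : Γ(colimit D, W)) :
    ∃ (j : J) (W' : X.Opens) (hW' : W' ≤ W) (_ : x ∈ W') (t : Γ(D.obj j, W')),
      (colimit.ι D j).app W' t = (colimit D).presheaf.map (homOfLE hW').op s := by
  have hc := isColimitOfPreserves (stalkFun x) (colimit.isColimit D)
  obtain ⟨j, b, hb⟩ := Concrete.isColimit_exists_rep (D ⋙ stalkFun x) hc
    ((colimit D).presheaf.germ W x hx s)
  obtain ⟨W1, hxW1, t1, rfl⟩ := TopCat.Presheaf.exists_germ_eq (D.obj j).presheaf b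
  have h1 : (colimit D).presheaf.germ W1 x hxW1 ((colimit.ι D j).app W1 t1) =
      (colimit D).presheaf.germ W x hx s := by
    rw [← hb]
    exact (TopCat.Presheaf.stalkFunctor_map_germ_apply W1 x hxW1
      ((Scheme.Modules.toPresheaf X).map (colimit.ι D j)) t1).symm
  obtain ⟨W', hxW', i1, i2, e⟩ := TopCat.Presheaf.germ_eq _ x hxW1 hx _ _ h1
  refine ⟨j, W', i2.le, hxW', (D.obj j).presheaf.map (homOfLE i1.le).op t1, ?_⟩
  rw [app_res]
  exact e

/-- local killing of sections mapping to zero in the colimit -/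
lemma exists_local_kill (x : X) (W : X.Opens) (hx : x ∈ W) (j : J) (t : Γ(D.obj j, W))
    (h : (colimit.ι D j).app W t = 0) :
    ∃ (k : J) (hjk : j ≤ k) (W' : X.Opens) (hW' : W' ≤ W) (_ : x ∈ W'),
      (D.map (homOfLE hjk)).app W' ((D.obj j).presheaf.map (homOfLE hW').op t) = 0 := by
  have hc := isColimitOfPreserves (stalkFun x) (colimit.isColimit D)
  have h0 : ((stalkFun x).mapCocone (colimit.cocone D)).ι.app j
      ((D.obj j).presheaf.germ W x hx t) =
      ((stalkFun x).mapCocone (colimit.cocone D)).ι.app j 0 := by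
    rw [map_zero]
    refine (TopCat.Presheaf.stalkFunctor_map_germ_apply W x hx
      ((Scheme.Modules.toPresheaf X).map (colimit.ι D j)) t).trans ?_
    have : ((Scheme.Modules.toPresheaf X).map (colimit.ι D j)).app (op W) t = 0 := h
    rw [this, map_zero]
    rfl
  obtain ⟨k, f, g, hfg⟩ := Concrete.isColimit_exists_of_rep_eq (D ⋙ stalkFun x) hc _ _ h0
  rw [map_zero] at hfg
  have h1 : (D.obj k).presheaf.germ W x hx ((D.map f).app W t) =
      (D.obj k).presheaf.germ W x hx 0 := by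
    rw [map_zero]
    refine Eq.trans ?_ hfg
    exact (TopCat.Presheaf.stalkFunctor_map_germ_apply W x hx
      ((Scheme.Modules.toPresheaf X).map (D.map f)) t).symm
  obtain ⟨W', hxW', i1, i2, e⟩ := TopCat.Presheaf.germ_eq _ x hx hx _ _ h1
  rw [map_zero] at e
  refine ⟨k, f.le, W', i1.le, hxW', ?_⟩
  rw [app_res]
  exact e


lemma map_homOfLE_comp {i j k : J} (hij : i ≤ j) (hjk : j ≤ k) (W : X.Opens)
    (t : Γ(D.obj i, W)) :
    (D.map (homOfLE hjk)).app W ((D.map (homOfLE hij)).app W t) =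
      (D.map (homOfLE (hij.trans hjk))).app W t := by
  have : D.map (homOfLE (hij.trans hjk)) = D.map (homOfLE hij) ≫ D.map (homOfLE hjk) := by
    rw [← D.map_comp]; rfl
  rw [this]
  rfl

lemma ι_map_homOfLE {i j : J} (hij : i ≤ j) (W : X.Opens) (t : Γ(D.obj i, W)) :
    (colimit.ι D j).app W ((D.map (homOfLE hij)).app W t) = (colimit.ι D i).app W t := by
  have := colimit.w D (homOfLE hij)
  rw [← this]
  rfl

/-- a section over a compact open mapping to zero in the colimit dies at a finite stage -/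
theorem exists_kill_of_isCompact (W : X.Opens) (hW : IsCompact (W : Set X)) (j : J)
    (t : Γ(D.obj j, W)) (h : (colimit.ι D j).app W t = 0) :
    ∃ (k : J) (hjk : j ≤ k), (D.map (homOfLE hjk)).app W t = 0 := by
  have key : ∀ x : W, ∃ (k : J) (hjk : j ≤ k) (W' : X.Opens) (hW' : W' ≤ W) (_ : x.1 ∈ W'),
      (D.map (homOfLE hjk)).app W' ((D.obj j).presheaf.map (homOfLE hW').op t) = 0 :=
    fun x => exists_local_kill D x.1 W x.2 j t h
  choose k hjk W' hW' hxW' hk using key
  obtain ⟨S, hS⟩ := hW.elim_finite_subcover (fun x : W => ((W' x : X.Opens) : Set X))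
    (fun x => (W' x).isOpen) (fun x hx => Set.mem_iUnion.2 ⟨⟨x, hx⟩, hxW' _⟩)
  refine ⟨j ⊔ S.sup k, le_sup_left, ?_⟩
  apply section_eq_zero_of_cover (D.obj (j ⊔ S.sup k)) (fun x : S => W' x.1) (fun x => hW' x.1)
  · intro y hy
    obtain ⟨x, hx⟩ := Set.mem_iUnion.1 (hS hy)
    obtain ⟨hxS, hyx⟩ := Set.mem_iUnion.1 hx
    exact Opens.mem_iSup.2 ⟨⟨x, hxS⟩, hyx⟩
  · intro x
    have hle : k x.1 ≤ j ⊔ S.sup k := (Finset.le_sup x.2).trans le_sup_right
    rw [← app_res, ← map_homOfLE_comp D (hjk x.1) hle, hk, map_zero]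

/-- a section of the colimit over a Noetherian open comes from a finite stage -/
theorem exists_lift_of_noetherian (W : X.Opens)
    (hW : ∀ W' : X.Opens, W' ≤ W → IsCompact (W' : Set X)) (s : Γ(colimit D, W)) :
    ∃ (j : J) (t : Γ(D.obj j, W)), (colimit.ι D j).app W t = s := by
  have key : ∀ x : W, ∃ (j : J) (W' : X.Opens) (hW' : W' ≤ W) (_ : x.1 ∈ W') (t : Γ(D.obj j, W')),
      (colimit.ι D j).app W' t = (colimit D).presheaf.map (homOfLE hW').op s :=
    fun x => exists_local_lift D x.1 W x.2 s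
  choose j W' hW' hxW' t ht using key
  obtain ⟨S, hS⟩ := (hW W le_rfl).elim_finite_subcover (fun x : W => ((W' x : X.Opens) : Set X))
    (fun x => (W' x).isOpen) (fun x hx => Set.mem_iUnion.2 ⟨⟨x, hx⟩, hxW' _⟩)
  have hcov : W ≤ ⨆ x : S, W' x.1 := by
    intro y hy
    obtain ⟨x, hx⟩ := Set.mem_iUnion.1 (hS hy)
    obtain ⟨hxS, hyx⟩ := Set.mem_iUnion.1 hx
    exact Opens.mem_iSup.2 ⟨⟨x, hxS⟩, hyx⟩
  -- first common stage
  let j1 : J := S.sup j
  have hj1 : ∀ x : S, j x.1 ≤ j1 := fun x => Finset.le_sup x.2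
  have key1 : ∀ x : S, ∃ t1 : Γ(D.obj j1, W' x.1), (colimit.ι D j1).app _ t1 =
      (colimit D).presheaf.map (homOfLE (hW' x.1)).op s := fun x =>
    ⟨(D.map (homOfLE (hj1 x))).app _ (t x.1), by rw [ι_map_homOfLE, ht]⟩
  choose t1 ht1 using key1
  -- differences on overlaps die at a later stage
  have key2 : ∀ p : S × S, ∃ (k : J) (hk : j1 ≤ k), (D.map (homOfLE hk)).app (W' p.1.1 ⊓ W' p.2.1)
      ((D.obj j1).presheaf.map (homOfLE (inf_le_left : W' p.1.1 ⊓ W' p.2.1 ≤ W' p.1.1)).op (t1 p.1) -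
        (D.obj j1).presheaf.map (homOfLE (inf_le_right : W' p.1.1 ⊓ W' p.2.1 ≤ W' p.2.1)).op
          (t1 p.2)) = 0 := by
    intro p
    apply exists_kill_of_isCompact D _ (hW _ (inf_le_left.trans (hW' p.1.1)))
    rw [map_sub, app_res, app_res, ht1, ht1, res_res, res_res, sub_self]
  choose k hk hkill using key2
  let j2 : J := j1 ⊔ (Finset.univ : Finset (S × S)).sup k
  have hj2 : j1 ≤ j2 := le_sup_left
  have hkj2 : ∀ p : S × S, k p ≤ j2 := fun p => (Finset.le_sup (Finset.mem_univ p)).trans le_sup_right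
  have key3 : ∀ x : S, ∃ t2 : Γ(D.obj j2, W' x.1), t2 = (D.map (homOfLE hj2)).app _ (t1 x) :=
    fun x => ⟨_, rfl⟩
  choose t2 ht2 using key3
  have hcompat : TopCat.Presheaf.IsCompatible (D.obj j2).presheaf (fun x : S => W' x.1) t2 := by
    intro x y
    change (D.obj j2).presheaf.map (homOfLE (inf_le_left : W' x.1 ⊓ W' y.1 ≤ W' x.1)).op (t2 x) =
      (D.obj j2).presheaf.map (homOfLE (inf_le_right : W' x.1 ⊓ W' y.1 ≤ W' y.1)).op (t2 y)
    rw [ht2 x, ht2 y, ← app_res, ← app_res, ← sub_eq_zero, ← map_sub,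
      ← map_homOfLE_comp D (hk (x, y)) (hkj2 (x, y)), hkill (x, y), map_zero]
  obtain ⟨z, hz, -⟩ := TopCat.Sheaf.existsUnique_gluing' ⟨_, (D.obj j2).isSheaf⟩
    (fun x : S => W' x.1) W (fun x => homOfLE (hW' x.1)) hcov t2 hcompat
  refine ⟨j2, z, ?_⟩
  apply section_ext_of_cover (colimit D) (fun x : S => W' x.1) (fun x => hW' x.1) hcov
  intro x
  rw [← app_res]
  refine (congrArg ((colimit.ι D j2).app (W' x.1)) (hz x)).trans ?_
  rw [ht2 x, ι_map_homOfLE, ht1]

end Groth.Agent.H3.ColimSect
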