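import Mathlib
import Groth.Prelude.Def_ZClos
import Groth.Agent.Lib.Helper3.ZClosLib
import Groth.Agent.Lib.Helper3.ZClosSect
import Groth.Agent.Lib.Helper3.ColimSect

set_option autoImplicit false

universe u

open AlgebraicGeometry CategoryTheory CategoryTheory.Limits TopologicalSpace Opposite

namespace Groth.Agent.H3.ZClosNoeth

open ZClos Groth.Agent.H3.ZClosLib Groth.Agent.H3.ZClosSect Groth.Agent.H3.ColimSect
  Groth.Agent.LD.QC

variable {X : Scheme.{u}}

/-- opens inside a compact open of a locally Noetherian scheme are compact -/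
lemma isCompact_of_le [IsLocallyNoetherian X] (V : X.Opens) (hV : IsCompact (V : Set X))
    (W : X.Opens) (hWV : W ≤ V) : IsCompact (W : Set X) := by
  haveI : CompactSpace (V : Scheme.{u}) := isCompact_iff_compactSpace.1 hV
  haveI : AlgebraicGeometry.IsNoetherian (V : Scheme.{u}) := ⟨⟩
  have h1 : IsCompact (V.ι ⁻¹' (W : Set X)) := NoetherianSpace.isCompact _
  have h2 : (W : Set X) = V.ι '' (V.ι ⁻¹' (W : Set X)) := by
    rw [Set.image_preimage_eq_inter_range, Scheme.Opens.range_ι]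
    exact (Set.inter_eq_left.2 hWV).symm
  rw [h2]
  exact h1.image V.ι.continuous

lemma image_preimage_mono (U : X.Opens) {V V' : X.Opens} (h : V' ≤ V) :
    U.ι ''ᵁ U.ι ⁻¹ᵁ V' ≤ U.ι ''ᵁ U.ι ⁻¹ᵁ V := by
  rw [ι_image_preimage, ι_image_preimage]; exact inf_le_inf_left U h

lemma trans_app_eq (Z : Set X) (F : X.Modules) {T1 T2 : Cl Z} (h : T1 ≤ T2) (V : X.Opens)
    (t : Γ(((diagram Z).obj F).obj T1, V)) :
    (((diagram Z).obj F).map (homOfLE h)).app V t =
      F.presheaf.map (homOfLE (resPush_le (Cl.U_anti h) V)).op t := by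
  change (resPushMapApp (Cl.U_anti h) F).app V t = _
  rw [resPushMapApp_app]
  rfl

lemma obj_res_eq (Z : Set X) (F : X.Modules) (T1 : Cl Z) {V V' : X.Opens} (h : V' ≤ V)
    (t : Γ(((diagram Z).obj F).obj T1, V)) :
    (((diagram Z).obj F).obj T1).presheaf.map (homOfLE h).op t =
      F.presheaf.map (homOfLE (image_preimage_mono T1.U h)).op t := rfl


/-- the restriction maps `G(V) → G(V ∖ T)` of `G = H⁰_{X/Z}(F)` are bijective for `V` Noetherian -/
theorem bijective_res_colimit [IsLocallyNoetherian X] (Z : Set X) (F : X.Modules) (T : Cl Z)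
    (V : X.Opens) (hV : IsCompact (V : Set X)) :
    Function.Bijective ((colimit ((diagram Z).obj F)).presheaf.map
      (homOfLE (inf_le_left : V ⊓ T.U ≤ V)).op) := by
  have hVn : ∀ W : X.Opens, W ≤ V → IsCompact (W : Set X) := isCompact_of_le V hV
  have hVTn : ∀ W : X.Opens, W ≤ V ⊓ T.U → IsCompact (W : Set X) :=
    fun W hW => hVn W (hW.trans inf_le_left)
  constructor
  · rw [injective_iff_map_eq_zero]
    intro s hs
    obtain ⟨T1, t, rfl⟩ := exists_lift_of_noetherian ((diagram Z).obj F) V hVn s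
    rw [← app_res] at hs
    obtain ⟨T2, h12, h2⟩ := exists_kill_of_isCompact ((diagram Z).obj F) (V ⊓ T.U)
      (hVn _ inf_le_left) T1 _ hs
    rw [trans_app_eq, obj_res_eq, res_res] at h2
    have h13 : T1 ≤ T2 ⊔ T := h12.trans le_sup_left
    have hle : (T2 ⊔ T).U.ι ''ᵁ (T2 ⊔ T).U.ι ⁻¹ᵁ V ≤ T2.U.ι ''ᵁ T2.U.ι ⁻¹ᵁ (V ⊓ T.U) := by
      rw [ι_image_preimage, ι_image_preimage]
      rintro y ⟨hy1, hy2⟩
      exact ⟨fun h => hy1 (Or.inl h), hy2, fun h => hy1 (Or.inr h)⟩
    have h3 : (((diagram Z).obj F).map (homOfLE h13)).app V t = 0 := by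
      rw [trans_app_eq]
      have := res_res F ((resPush_le (Cl.U_anti h12) (V ⊓ T.U)).trans
        (image_preimage_mono T1.U inf_le_left)) hle t
      have h2' : F.presheaf.map (homOfLE ((resPush_le (Cl.U_anti h12) (V ⊓ T.U)).trans
        (image_preimage_mono T1.U inf_le_left))).op t =
          (0 : Γ(F, T2.U.ι ''ᵁ T2.U.ι ⁻¹ᵁ (V ⊓ T.U))) := h2
      rw [h2', map_zero] at this
      exact this.symm
    rw [← ι_map_homOfLE _ h13, h3, map_zero]
  · intro s'
    obtain ⟨T1, t', rfl⟩ := exists_lift_of_noetherian ((diagram Z).obj F) (V ⊓ T.U) hVTn s'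
    have hle : (T1 ⊔ T).U.ι ''ᵁ (T1 ⊔ T).U.ι ⁻¹ᵁ V ≤ T1.U.ι ''ᵁ T1.U.ι ⁻¹ᵁ (V ⊓ T.U) := by
      rw [ι_image_preimage, ι_image_preimage]
      rintro y ⟨hy1, hy2⟩
      exact ⟨fun h => hy1 (Or.inl h), hy2, fun h => hy1 (Or.inr h)⟩
    let t : Γ(((diagram Z).obj F).obj (T1 ⊔ T), V) := F.presheaf.map (homOfLE hle).op t'
    refine ⟨(colimit.ι ((diagram Z).obj F) (T1 ⊔ T)).app V t, ?_⟩
    rw [← app_res, ← ι_map_homOfLE ((diagram Z).obj F) (le_sup_left : T1 ≤ T1 ⊔ T)]
    congr 1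
    rw [trans_app_eq, obj_res_eq, res_res]

/-- S5850 -/
theorem isZClosed_H0_obj [IsLocallyNoetherian X] (Z : Set X) (F : X.Modules) :
    IsZClosed Z ((H0 Z).obj F) := by
  rw [isZClosed_iff_sections]
  intro T V hV
  exact bijective_res_colimit Z F T V hV

end Groth.Agent.H3.ZClosNoeth
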