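import Mathlib
import Groth.Prelude.Def_ZClos
import Groth.Prelude.Def_Coh
import Groth.Agent.Lib.Lead.QC.Closure
import Groth.Agent.Lib.Lead.QC.Push

set_option autoImplicit false

universe u

open AlgebraicGeometry CategoryTheory CategoryTheory.Limits TopologicalSpace Opposite

namespace Groth.Agent.H3.ZClosQCoh

open ZClos Groth.Agent.LD.QC

variable {X : Scheme.{u}}

/-- S5841 -/
theorem isQCoh_H0 [IsLocallyNoetherian X] (Z : Set X) (F : X.Modules) (hF : F.IsQuasicoherent) :
    ((H0 Z).obj F).IsQuasicoherent := by
  change (colimit ((diagram Z).obj F)).IsQuasicoherent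
  apply qc_colimit
  intro T
  change ((Scheme.Modules.pushforward T.U.ι).obj
    ((Scheme.Modules.restrictFunctor T.U.ι).obj F)).IsQuasicoherent
  haveI := hF
  exact qc_pushforward T.U.ι _

end Groth.Agent.H3.ZClosQCoh
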