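import Mathlib.CategoryTheory.EquivalenceRelation
import Mathlib.CategoryTheory.Adjunction.FullyFaithful
import Mathlib.CategoryTheory.Adjunction.Limits

/-! Transfer of effective equivalence relations along an exact reflection (helper3). -/

universe v₁ v₂ u₁ u₂

namespace Groth.Agent.H3

open CategoryTheory CategoryTheory.Limits

variable {D : Type u₁} [Category.{v₁} D] {E : Type u₂} [Category.{v₂} E]
  {a : E ⥤ D} {G : D ⥤ E} (adj : a ⊣ G)

include adj in
/-- Right adjoints preserve jointly monic pairs. -/
theorem jointlyMono₂_map_of_adjunction {R X : D} (p₁ p₂ : R ⟶ X) (h : JointlyMono₂ p₁ p₂) :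
    JointlyMono₂ (G.map p₁) (G.map p₂) := by
  refine ⟨fun Y f g h1 h2 => ?_⟩
  have e := adj.homEquiv Y R
  have hf : adj.homEquiv Y R ((adj.homEquiv Y R).symm f) = f := Equiv.apply_symm_apply _ _
  have hg : adj.homEquiv Y R ((adj.homEquiv Y R).symm g) = g := Equiv.apply_symm_apply _ _
  have key : (adj.homEquiv Y R).symm f = (adj.homEquiv Y R).symm g := by
    apply h.right_cancellation
    · apply (adj.homEquiv Y X).injective
      rw [adj.homEquiv_naturality_right, adj.homEquiv_naturality_right, hf, hg, h1]
    · apply (adj.homEquiv Y X).injective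
      rw [adj.homEquiv_naturality_right, adj.homEquiv_naturality_right, hf, hg, h2]
  rw [← hf, ← hg, key]

/-- Right adjoints preserving pullbacks preserve equivalence relations. -/
noncomputable def EquivalenceRelation.mapRightAdjoint
    [PreservesLimitsOfShape WalkingCospan G] {R X : D} {p₁ p₂ : R ⟶ X}
    (er : EquivalenceRelation p₁ p₂) : EquivalenceRelation (G.map p₁) (G.map p₂) :=
  haveI : JointlyMono₂ (G.map p₁) (G.map p₂) :=
    jointlyMono₂_map_of_adjunction adj p₁ p₂ er.toJointlyMono₂
  { toReflexiveRelation := er.toReflexiveRelation.map G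
    s := (er.toSymmetricRelation.map G).s
    symmetry₁ := (er.toSymmetricRelation.map G).symmetry₁
    symmetry₂ := (er.toSymmetricRelation.map G).symmetry₂
    c := (er.toTransitiveRelation.map G).c
    isLimit := (er.toTransitiveRelation.map G).isLimit
    t := (er.toTransitiveRelation.map G).t
    transitivity₁ := (er.toTransitiveRelation.map G).transitivity₁
    transitivity₂ := (er.toTransitiveRelation.map G).transitivity₂ }

/-- If `G` is a fully faithful right adjoint whose left adjoint `a` preserves pullbacks, then an
equivalence relation in `D` whose image under `G` is effective is itself effective, with quotient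
`a` applied to the quotient in `E`. -/
noncomputable def EffectiveEquivalenceRelation.ofReflective [G.Full] [G.Faithful]
    [PreservesLimitsOfShape WalkingCospan a] {R X : D} {p₁ p₂ : R ⟶ X}
    (er : EquivalenceRelation p₁ p₂)
    (e₀ : EffectiveEquivalenceRelation (G.map p₁) (G.map p₂)) :
    EffectiveEquivalenceRelation p₁ p₂ where
  toEquivalenceRelation := er
  B := a.obj e₀.B
  π := inv (adj.counit.app X) ≫ a.map e₀.π
  isKernelPair := by
    have h : IsPullback (a.map (G.map p₁)) (a.map (G.map p₂)) (a.map e₀.π) (a.map e₀.π) :=
      e₀.isKernelPair.map a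
    refine h.of_iso (asIso (adj.counit.app R)) (asIso (adj.counit.app X))
      (asIso (adj.counit.app X)) (Iso.refl _) ?_ ?_ ?_ ?_
    · exact adj.counit.naturality p₁
    · exact adj.counit.naturality p₂
    · simp
    · simp
  isPushout := by
    have : a.IsLeftAdjoint := adj.isLeftAdjoint
    have h : IsPushout (a.map (G.map p₁)) (a.map (G.map p₂)) (a.map e₀.π) (a.map e₀.π) :=
      e₀.isPushout.map a
    refine h.of_iso (asIso (adj.counit.app R)) (asIso (adj.counit.app X))
      (asIso (adj.counit.app X)) (Iso.refl _) ?_ ?_ ?_ ?_
    · exact adj.counit.naturality p₁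
    · exact adj.counit.naturality p₂
    · simp
    · simp

end Groth.Agent.H3
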