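import Mathlib.CategoryTheory.EquivalenceRelation
import Mathlib.CategoryTheory.Functor.RegularEpi
import Mathlib.CategoryTheory.Limits.Types.Pullbacks
import Mathlib.CategoryTheory.Limits.Shapes.RegularMono

/-! Quotient of a presheaf of sets by an equivalence relation (helper3). -/

universe w v₁ u₁

namespace Groth.Agent.H3.PshQuot

open CategoryTheory CategoryTheory.Limits Opposite

variable {C : Type u₁} [Category.{v₁} C] {R X : Cᵒᵖ ⥤ Type w} (p₁ p₂ : R ⟶ X)

/-- The relation on sections induced by `p₁, p₂`. -/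
def rel (U : Cᵒᵖ) (x y : X.obj U) : Prop := ∃ r : R.obj U, p₁.app U r = x ∧ p₂.app U r = y

variable {p₁ p₂}

lemma rel_map {U V : Cᵒᵖ} (f : U ⟶ V) {x y : X.obj U} (h : rel p₁ p₂ U x y) :
    rel p₁ p₂ V (X.map f x) (X.map f y) := by
  obtain ⟨r, h1, h2⟩ := h
  refine ⟨R.map f r, ?_, ?_⟩
  · rw [← h1]; exact NatTrans.naturality_apply p₁ f r
  · rw [← h2]; exact NatTrans.naturality_apply p₂ f r

lemma rel_equivalence (er : EquivalenceRelation p₁ p₂) (U : Cᵒᵖ) : Equivalence (rel p₁ p₂ U) := by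
  refine ⟨fun x => ?_, fun {x y} h => ?_, fun {x y z} h h' => ?_⟩
  · refine ⟨er.r.app U x, ?_, ?_⟩
    · exact ConcreteCategory.congr_hom (NatTrans.congr_app er.reflexivity₁ U) x
    · exact ConcreteCategory.congr_hom (NatTrans.congr_app er.reflexivity₂ U) x
  · obtain ⟨r, h1, h2⟩ := h
    refine ⟨er.s.app U r, ?_, ?_⟩
    · rw [← h2]; exact ConcreteCategory.congr_hom (NatTrans.congr_app er.symmetry₁ U) r
    · rw [← h1]; exact ConcreteCategory.congr_hom (NatTrans.congr_app er.symmetry₂ U) r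
  · obtain ⟨r, h1, h2⟩ := h
    obtain ⟨r', h1', h2'⟩ := h'
    have sq : IsPullback (er.c.fst.app U) (er.c.snd.app U) (p₂.app U) (p₁.app U) :=
      (IsPullback.of_isLimit er.isLimit).app U
    obtain ⟨c₀, hc1, hc2⟩ := Limits.Types.exists_of_isPullback sq r r' (by rw [h2, h1'])
    refine ⟨er.t.app U c₀, ?_, ?_⟩
    · rw [← h1, ← hc1]
      exact ConcreteCategory.congr_hom (NatTrans.congr_app er.transitivity₁ U) c₀
    · rw [← h2', ← hc2]
      exact ConcreteCategory.congr_hom (NatTrans.congr_app er.transitivity₂ U) c₀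

variable (p₁ p₂)

/-- The quotient presheaf. -/
def B : Cᵒᵖ ⥤ Type w where
  obj U := Quot (rel p₁ p₂ U)
  map {U V} f := ↾(Quot.map (X.map f) (fun _ _ h => rel_map f h))
  map_id U := by
    ext ⟨x⟩
    change Quot.mk _ (X.map (𝟙 U) x) = Quot.mk _ x
    rw [X.map_id]; rfl
  map_comp {U V W} f g := by
    ext ⟨x⟩
    change Quot.mk _ (X.map (f ≫ g) x) = Quot.mk _ (X.map g (X.map f x))
    rw [X.map_comp]; rfl

/-- The quotient map. -/
def π : X ⟶ B p₁ p₂ where
  app U := ↾(Quot.mk _)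
  naturality {U V} f := by
    ext x
    rfl

lemma π_app_apply (U : Cᵒᵖ) (x : X.obj U) : (π p₁ p₂).app U x = Quot.mk _ x := rfl

lemma π_app_surjective (U : Cᵒᵖ) : Function.Surjective ((π p₁ p₂).app U) := by
  rintro ⟨x⟩
  exact ⟨x, rfl⟩

variable {p₁ p₂}

lemma π_app_eq_iff (er : EquivalenceRelation p₁ p₂) (U : Cᵒᵖ) (x y : X.obj U) :
    (π p₁ p₂).app U x = (π p₁ p₂).app U y ↔ rel p₁ p₂ U x y := by
  change (Quot.mk (rel p₁ p₂ U) x = Quot.mk (rel p₁ p₂ U) y) ↔ _
  rw [Quot.eq, (rel_equivalence er U).eqvGen_iff]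

lemma w (U : Cᵒᵖ) (r : R.obj U) :
    (π p₁ p₂).app U (p₁.app U r) = (π p₁ p₂).app U (p₂.app U r) :=
  Quot.sound ⟨r, rfl, rfl⟩

lemma comm : p₁ ≫ π p₁ p₂ = p₂ ≫ π p₁ p₂ := by
  ext U r
  exact w U r

variable (p₁ p₂) in
/-- The presheaf of pairs of sections of `R` with the same images under `p₁` and `p₂`. -/
def Y : Cᵒᵖ ⥤ Type w where
  obj V := {ab : R.obj V × R.obj V //
    p₁.app V ab.1 = p₁.app V ab.2 ∧ p₂.app V ab.1 = p₂.app V ab.2}
  map {U V} f := ↾(fun ab => ⟨(R.map f ab.1.1, R.map f ab.1.2), by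
    refine ⟨?_, ?_⟩
    · have h1 := NatTrans.naturality_apply p₁ f ab.1.1
      have h2 := NatTrans.naturality_apply p₁ f ab.1.2
      simp only at h1 h2 ⊢
      rw [h1, h2, ab.2.1]
    · have h1 := NatTrans.naturality_apply p₂ f ab.1.1
      have h2 := NatTrans.naturality_apply p₂ f ab.1.2
      simp only at h1 h2 ⊢
      rw [h1, h2, ab.2.2]⟩)
  map_id U := by
    ext ⟨⟨a, b⟩, h⟩
    · change R.map (𝟙 U) a = a
      rw [R.map_id]; rfl
    · change R.map (𝟙 U) b = b
      rw [R.map_id]; rfl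
  map_comp {U V W} f g := by
    ext ⟨⟨a, b⟩, h⟩
    · change R.map (f ≫ g) a = R.map g (R.map f a)
      rw [R.map_comp]; rfl
    · change R.map (f ≫ g) b = R.map g (R.map f b)
      rw [R.map_comp]; rfl

lemma injective_of_jointlyMono (hm : JointlyMono₂ p₁ p₂) (U : Cᵒᵖ) (r r' : R.obj U)
    (h1 : p₁.app U r = p₁.app U r') (h2 : p₂.app U r = p₂.app U r') : r = r' := by
  let f : Y p₁ p₂ ⟶ R := { app V := ↾(fun ab => ab.1.1), naturality := fun _ _ _ => rfl }
  let g : Y p₁ p₂ ⟶ R := { app V := ↾(fun ab => ab.1.2), naturality := fun _ _ _ => rfl }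
  have hfg : f = g := by
    apply hm.right_cancellation
    · ext V ab
      exact ab.2.1
    · ext V ab
      exact ab.2.2
  exact ConcreteCategory.congr_hom (NatTrans.congr_app hfg U) ⟨(r, r'), h1, h2⟩

lemma isKernelPair (er : EquivalenceRelation p₁ p₂) : IsKernelPair (π p₁ p₂) p₁ p₂ := by
  refine IsPullback.of_forall_isPullback_app fun U => ?_
  rw [Limits.Types.isPullback_iff]
  refine ⟨?_, ?_, ?_⟩
  · ext r
    exact w U r
  · rintro r r' ⟨h1, h2⟩
    exact injective_of_jointlyMono er.toJointlyMono₂ U r r' h1 h2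
  · intro x y hxy
    exact (π_app_eq_iff er U x y).mp hxy

lemma isPushout (er : EquivalenceRelation p₁ p₂) : IsPushout p₁ p₂ (π p₁ p₂) (π p₁ p₂) := by
  have key : ∀ (s : PushoutCocone p₁ p₂), s.inl = s.inr := by
    intro s
    have h := s.condition
    calc s.inl = er.r ≫ p₁ ≫ s.inl := by rw [← Category.assoc, er.reflexivity₁, Category.id_comp]
      _ = er.r ≫ p₂ ≫ s.inr := by rw [h]
      _ = s.inr := by rw [← Category.assoc, er.reflexivity₂, Category.id_comp]
  have compat : ∀ (s : PushoutCocone p₁ p₂) (U : Cᵒᵖ) (x y : X.obj U), rel p₁ p₂ U x y →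
      s.inl.app U x = s.inl.app U y := by
    rintro s U x y ⟨r, h1, h2⟩
    rw [← h1, ← h2]
    have h := ConcreteCategory.congr_hom (NatTrans.congr_app s.condition U) r
    rw [← key s] at h
    exact h
  refine ⟨⟨comm⟩, ⟨PushoutCocone.IsColimit.mk _ (fun s =>
    { app := fun U => ↾(Quot.lift (s.inl.app U) (compat s U))
      naturality := ?_ }) ?_ ?_ ?_⟩⟩
  · intro U V f
    ext ⟨x⟩
    exact NatTrans.naturality_apply s.inl f x
  · intro s
    ext U x
    rfl
  · intro s
    rw [← key s]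
    ext U x
    rfl
  · intro s m h1 h2
    ext U ⟨x⟩
    exact ConcreteCategory.congr_hom (NatTrans.congr_app h1 U) x

lemma universally_effectiveEpi_π :
    MorphismProperty.universally (fun (A B : Cᵒᵖ ⥤ Type w) (p : A ⟶ B) => EffectiveEpi p)
      (π p₁ p₂) := by
  intro X' Y' i₁ i₂ f' sq
  have : ∀ U, Epi (f'.app U) := by
    intro U
    rw [epi_iff_surjective]
    have h := Limits.Types.range_fst_of_isPullback (sq.app U)
    rw [Set.range_eq_univ.mpr (π_app_surjective p₁ p₂ U), Set.preimage_univ] at h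
    exact Set.range_eq_univ.mp h
  have : Epi f' := NatTrans.epi_of_epi_app f'
  have := IsRegularEpiCategory.regularEpiOfEpi f'
  infer_instance

/-- Every equivalence relation on a presheaf of sets is universally effective. -/
noncomputable def uEER (er : EquivalenceRelation p₁ p₂) :
    UniversallyEffectiveEquivalenceRelation p₁ p₂ where
  toEquivalenceRelation := er
  B := B p₁ p₂
  π := π p₁ p₂
  isKernelPair := isKernelPair er
  isPushout := isPushout er
  universally_effectiveEpi_π := universally_effectiveEpi_π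

end Groth.Agent.H3.PshQuot
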