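import Mathlib
import Groth.Prelude.Def_QuotSh
import Groth.Prelude.Def_NonAbH2
import Groth.Agent.S7490
import Groth.Agent.S5217
import Groth.Agent.Lib.Helper3.GrpQuot1
import Groth.Agent.Lib.Helper3.ReflectEqRel
import Groth.Agent.Lib.Helper3.LocSec
import Groth.Agent.Lib.Helper3.FpqcLocal2

/-!
# Effective quotients of schemes and representability of quotient sheaves
-/

set_option autoImplicit false

open CategoryTheory Limits AlgebraicGeometry Opposite

universe u v₁ v₂ u₁ u₂

namespace Groth.Agent.H3.QuotShEff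

section general

variable {C : Type u₁} [Category.{v₁} C] {D : Type u₂} [Category.{v₂} D]

lemma jointlyMono₂_of_natIso {F G : C ⥤ D} (e : F ≅ G) {R X : C} {p₁ p₂ : R ⟶ X}
    (h : JointlyMono₂ (F.map p₁) (F.map p₂)) : JointlyMono₂ (G.map p₁) (G.map p₂) := by
  refine ⟨fun Y f g h1 h2 => ?_⟩
  have key : f ≫ e.inv.app R = g ≫ e.inv.app R := by
    apply h.right_cancellation
    · rw [Category.assoc, Category.assoc, ← e.inv.naturality, ← Category.assoc, ← Category.assoc, h1]
    · rw [Category.assoc, Category.assoc, ← e.inv.naturality, ← Category.assoc, ← Category.assoc, h2]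
  simpa using congrArg (· ≫ e.hom.app R) key

/-- A functor preserving pullbacks maps an equivalence relation to an equivalence relation as soon
as the image pair is jointly monic. -/
noncomputable def mapEquivalenceRelation (F : C ⥤ D) [PreservesLimitsOfShape WalkingCospan F]
    {R X : C} {p₁ p₂ : R ⟶ X} (er : EquivalenceRelation p₁ p₂)
    (h : JointlyMono₂ (F.map p₁) (F.map p₂)) : EquivalenceRelation (F.map p₁) (F.map p₂) :=
  haveI : JointlyMono₂ (F.map p₁) (F.map p₂) := h
  { toReflexiveRelation := er.toReflexiveRelation.map F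
    s := (er.toSymmetricRelation.map F).s
    symmetry₁ := (er.toSymmetricRelation.map F).symmetry₁
    symmetry₂ := (er.toSymmetricRelation.map F).symmetry₂
    c := (er.toTransitiveRelation.map F).c
    isLimit := (er.toTransitiveRelation.map F).isLimit
    t := (er.toTransitiveRelation.map F).t
    transitivity₁ := (er.toTransitiveRelation.map F).transitivity₁
    transitivity₂ := (er.toTransitiveRelation.map F).transitivity₂ }

end general

open Groth.Agent.S7490 (F F_map)

variable (K : Precoverage Scheme.{u}) {S : Scheme.{u}}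

/-- `g` admits lifts locally for the topology `J K S`. -/
def HasLocalLifts {V W : Over S} (g : V ⟶ W) : Prop :=
  ∃ R ∈ QuotSh.J K S W, ∀ ⦃T : Over S⦄ (y : T ⟶ W), R y → ∃ l : T ⟶ V, l ≫ g = y

lemma epi_repMap_iff {V W : Over S} (g : V ⟶ W) :
    Epi (QuotSh.repMap K g) ↔ HasLocalLifts K g := by
  rw [← Sheaf.isLocallySurjective_iff_epi, Presheaf.isLocallySurjective_presheafToSheaf_map_iff]
  constructor
  · intro h
    refine ⟨Presheaf.imageSieve (Functor.whiskerRight (yoneda.map g) uliftFunctor.{u + 1, u})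
      (ULift.up (𝟙 W) : (yoneda.obj W ⋙ uliftFunctor.{u + 1, u}).obj (op W)),
      Presheaf.imageSieve_mem _ _ _, ?_⟩
    rintro T y ⟨⟨l⟩, hl⟩
    refine ⟨l, ?_⟩
    have h1 : (ULift.up.{u + 1} (l ≫ g)) = ULift.up.{u + 1} (y ≫ 𝟙 W) := hl
    simpa using congrArg ULift.down h1
  · rintro ⟨R, hR, hlift⟩
    refine ⟨fun {T} s => ?_⟩
    obtain ⟨y⟩ := s
    refine (QuotSh.J K S).superset_covering ?_ ((QuotSh.J K S).pullback_stable y hR)
    intro T' h hh
    obtain ⟨l, hl⟩ := hlift _ hh
    refine ⟨ULift.up l, ?_⟩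
    change (ULift.up.{u + 1} (l ≫ g)) = ULift.up.{u + 1} (h ≫ y)
    rw [hl]


variable (S) in
/-- `V ↦ h_V` is the Yoneda embedding into sheaves when the topology is subcanonical. -/
noncomputable def FIso [(QuotSh.J K S).Subcanonical] :
    (QuotSh.J K S).uliftYoneda.{u + 1} ≅ F K S :=
  NatIso.ofComponents (fun V => sheafificationIso ((QuotSh.J K S).uliftYoneda.{u + 1}.obj V)) (by
    intro V W g
    exact (sheafificationNatIso (QuotSh.J K S) (Type (u + 1))).hom.naturality
      ((QuotSh.J K S).uliftYoneda.{u + 1}.map g))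

instance [(QuotSh.J K S).Subcanonical] : (F K S).Full := Functor.Full.of_iso (FIso K S)
instance [(QuotSh.J K S).Subcanonical] : (F K S).Faithful := Functor.Faithful.of_iso (FIso K S)

lemma jointlyMono₂_uliftYoneda [(QuotSh.J K S).Subcanonical] {R U : Over S} (s t : R ⟶ U)
    (h : JointlyMono₂ s t) :
    JointlyMono₂ ((QuotSh.J K S).uliftYoneda.{u + 1}.map s)
      ((QuotSh.J K S).uliftYoneda.{u + 1}.map t) := by
  refine ⟨fun Z f g h1 h2 => ?_⟩
  ext T z
  apply ULift.ext
  apply h.right_cancellation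
  · exact congrArg (fun k => (k.hom.app T z).down) h1
  · exact congrArg (fun k => (k.hom.app T z).down) h2


/-- If `q` has kernel pair `(s, t)` and admits lifts locally, then `q` exhibits its target as the
quotient sheaf. -/
theorem isQuotient_of_isKernelPair_of_hasLocalLifts {R U Y : Over S} (s t : R ⟶ U) (q : U ⟶ Y)
    (hkp : IsKernelPair q s t) (hl : HasLocalLifts K q) : QuotSh.IsQuotient K s t q := by
  refine ⟨hkp.w, ?_⟩
  have hF : IsPullback ((F K S).map s) ((F K S).map t) ((F K S).map q) ((F K S).map q) :=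
    hkp.map (F K S)
  haveI : Epi ((F K S).map q) := (epi_repMap_iff K q).2 hl
  haveI : EffectiveEpi ((F K S).map q) :=
    (isRegularEpi_iff_effectiveEpi _).1 (IsRegularEpiCategory.regularEpiOfEpi _)
  have hc : IsColimit (Cofork.ofπ ((F K S).map q) hF.w) :=
    isColimitCoforkOfEffectiveEpi ((F K S).map q) hF.cone hF.isLimit
  have : QuotSh.quotDesc K q hkp.w =
      ((coequalizerIsCoequalizer (QuotSh.repMap K s) (QuotSh.repMap K t)).coconePointUniqueUpToIso
        hc).hom := by
    apply coequalizer.hom_ext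
    have h2 := (coequalizerIsCoequalizer (QuotSh.repMap K s)
      (QuotSh.repMap K t)).comp_coconePointUniqueUpToIso_hom hc WalkingParallelPair.one
    simp only [QuotSh.quotDesc, coequalizer.π_desc]
    exact h2.symm
  rw [this]
  exact Iso.isIso_hom _


/-- If `q` exhibits its target as the quotient sheaf of an equivalence relation (for a
subcanonical topology), then `q` has kernel pair `(s, t)` and admits lifts locally. -/
theorem isKernelPair_and_hasLocalLifts_of_isQuotient [(QuotSh.J K S).Subcanonical]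
    {R U Y : Over S} (s t : R ⟶ U) [IsEquivalenceRelation s t] (q : U ⟶ Y)
    (h : QuotSh.IsQuotient K s t q) : IsKernelPair q s t ∧ HasLocalLifts K q := by
  obtain ⟨w, hiso⟩ := h
  haveI : IsIso (QuotSh.quotDesc K q w) := hiso
  haveI : Mono (QuotSh.quotDesc K q w) := IsIso.mono_of_iso _
  haveI : Epi (QuotSh.quotDesc K q w) := IsIso.epi_of_iso _
  obtain ⟨er⟩ := IsEquivalenceRelation.nonempty_equivalenceRelation (p₁ := s) (p₂ := t)
  have hjm : JointlyMono₂ ((F K S).map s) ((F K S).map t) :=
    jointlyMono₂_of_natIso (FIso K S) (jointlyMono₂_uliftYoneda K s t er.toJointlyMono₂)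
  have er' : EquivalenceRelation (QuotSh.repMap K s) (QuotSh.repMap K t) :=
    mapEquivalenceRelation (F K S) er hjm
  haveI : IsEquivalenceRelation (QuotSh.repMap K s) (QuotSh.repMap K t) :=
    er'.isEquivalenceRelation
  obtain ⟨⟨e⟩⟩ := Groth.Agent.S5217.result (QuotSh.J K S) (QuotSh.repMap K s) (QuotSh.repMap K t)
  have hk : IsKernelPair (QuotSh.quotπ K s t) (QuotSh.repMap K s) (QuotSh.repMap K t) :=
    (Groth.Agent.H3.GrpQuot.coequalizer_isKernelPair_and_UEE e).1
  have hq : QuotSh.quotπ K s t ≫ QuotSh.quotDesc K q w = QuotSh.repMap K q :=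
    coequalizer.π_desc _ _
  have hk' : IsKernelPair (QuotSh.repMap K q) (QuotSh.repMap K s) (QuotSh.repMap K t) := by
    rw [← hq]
    exact hk.comp_of_mono
  refine ⟨IsPullback.of_map (F K S) w hk', ?_⟩
  rw [← epi_repMap_iff, ← hq]
  haveI : Epi (QuotSh.quotπ K s t) :=
    (coequalizer.π_epi : Epi (coequalizer.π (QuotSh.repMap K s) (QuotSh.repMap K t)))
  exact epi_comp _ _


/-- local sections for the precoverage `K` give local lifts for the topology `J K S` -/
lemma hasLocalLifts_of_isLocallyTrivialFor {U Y : Over S} (q : U ⟶ Y)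
    (h : NonAbH1.IsLocallyTrivialFor K (Over.mk q.left : Over Y.left)) : HasLocalLifts K q := by
  obtain ⟨R₀, hR₀, hsec⟩ := h
  refine ⟨(Sieve.overEquiv Y).symm (Sieve.generate R₀), ?_, ?_⟩
  · rw [GrothendieckTopology.mem_over_iff, OrderIso.apply_symm_apply]
    exact Precoverage.generate_mem_toGrothendieck hR₀
  · intro T y hy
    rw [Sieve.overEquiv_symm_iff] at hy
    obtain ⟨Z, h, g, hg, hcomp⟩ := hy
    obtain ⟨σ, hσ⟩ := hsec g hg
    have hσ' : σ ≫ q.left = g := hσ
    refine ⟨Over.homMk (h ≫ σ) ?_, ?_⟩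
    · rw [Category.assoc, ← Over.w q, ← Category.assoc σ, hσ', ← Category.assoc, hcomp, Over.w y]
    · ext
      simp only [Over.comp_left, Over.homMk_left, Category.assoc, hσ', hcomp]

/-- local lifts for the topology `J K S` give local sections for the precoverage `K` -/
lemma isLocallyTrivialFor_of_hasLocalLifts [K.IsStableUnderComposition] [K.IsStableUnderBaseChange]
    [K.HasPullbacks] [K.HasIsos] {U Y : Over S} (q : U ⟶ Y) (h : HasLocalLifts K q) :
    NonAbH1.IsLocallyTrivialFor K (Over.mk q.left : Over Y.left) := by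
  obtain ⟨R, hR, hlift⟩ := h
  rw [GrothendieckTopology.mem_over_iff,
    Precoverage.mem_toGrothendieck_iff_of_isStableUnderComposition] at hR
  obtain ⟨R₀, hR₀, hle⟩ := hR
  refine ⟨R₀, hR₀, ?_⟩
  intro Z g hg
  have h1 := hle _ _ hg
  rw [Sieve.overEquiv_iff] at h1
  obtain ⟨l, hl⟩ := hlift _ h1
  exact ⟨l.left, congrArg (fun k => k.left) hl⟩

/-- A property stable under base change and `K`-local on the target passes from one projection
of a kernel pair to the map, when the map admits sections `K`-locally. -/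
theorem of_isKernelPair_of_isLocallyTrivialFor {R U Y : Scheme.{u}} (s t : R ⟶ U) (q : U ⟶ Y)
    (hkp : IsPullback s t q q)
    (hloc : NonAbH1.IsLocallyTrivialFor K (Over.mk q : Over Y))
    (P : MorphismProperty Scheme.{u}) [P.IsStableUnderBaseChange] [P.IsLocalAtTarget K]
    (hP : P s) : P q := by
  obtain ⟨R₀, hR₀, hsec⟩ := hloc
  refine MorphismProperty.IsLocalAtTarget.of_forall_pullbackSnd (K := K) hR₀ ?_
  intro Z g _ hg
  obtain ⟨σ, hσ⟩ := hsec g hg
  have hσ' : σ ≫ q = g := hσ
  have sqL : IsPullback (pullback.fst s σ) (pullback.snd s σ) s σ := IsPullback.of_hasPullback _ _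
  have sq := sqL.paste_horiz hkp.flip
  rw [hσ'] at sq
  have h2 : P (pullback.snd s σ) := MorphismProperty.pullback_snd _ _ hP
  rw [← sq.isoPullback_hom_snd, P.cancel_left_of_respectsIso] at h2
  exact h2


/-- **Effective quotients and quotient sheaves.** Let `P` be a class of morphisms, stable under
base change and `K`-local on the target, whose members are `K`-coverings. For an equivalence
relation `s, t : R ⇉ U` with `s ∈ P`, a morphism `q : U ⟶ Y` is in `P` with kernel pair `(s, t)`
iff it exhibits `Y` as the quotient sheaf `U/R`. -/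
theorem isQuotient_iff [K.IsStableUnderComposition] [K.IsStableUnderBaseChange]
    [K.HasPullbacks] [K.HasIsos] [(QuotSh.J K S).Subcanonical]
    (P : MorphismProperty Scheme.{u}) [P.IsStableUnderBaseChange] [P.IsLocalAtTarget K]
    (hPK : ∀ {X Y : Scheme.{u}} (f : X ⟶ Y), P f → Presieve.singleton f ∈ K Y)
    {R U Y : Over S} (s t : R ⟶ U) [IsEquivalenceRelation s t] (hs : P s.left) (q : U ⟶ Y) :
    (IsKernelPair q s t ∧ P q.left) ↔ QuotSh.IsQuotient K s t q := by
  constructor
  · rintro ⟨hkp, hq⟩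
    refine isQuotient_of_isKernelPair_of_hasLocalLifts K s t q hkp
      (hasLocalLifts_of_isLocallyTrivialFor K q ⟨_, hPK _ hq, ?_⟩)
    rintro Z g ⟨⟩
    exact ⟨𝟙 _, Category.id_comp _⟩
  · intro h
    obtain ⟨hkp, hl⟩ := isKernelPair_and_hasLocalLifts_of_isQuotient K s t q h
    refine ⟨hkp, ?_⟩
    exact of_isKernelPair_of_isLocallyTrivialFor K s.left t.left q.left
      (hkp.map (Over.forget S)) (isLocallyTrivialFor_of_hasLocalLifts K q hl) P hs

instance subcanonical_fppf : (QuotSh.J Scheme.fppfPrecoverage S).Subcanonical :=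
  GrothendieckTopology.subcanonical_over Scheme.fppfTopology S

instance subcanonical_etale : (QuotSh.J Scheme.etalePrecoverage S).Subcanonical :=
  haveI : (Scheme.etalePrecoverage.{u}.toGrothendieck).Subcanonical :=
    GrothendieckTopology.Subcanonical.of_le (K := Scheme.fpqcTopology)
      (Precoverage.toGrothendieck_mono LocSec.etalePrecoverage_le_fpqcPrecoverage)
  GrothendieckTopology.subcanonical_over _ S

theorem fppf_iff {R U Y : Over S} (s t : R ⟶ U) [IsEquivalenceRelation s t]
    [Flat s.left] [Surjective s.left] [LocallyOfFinitePresentation s.left] (q : U ⟶ Y) :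
    (IsKernelPair q s t ∧ Flat q.left ∧ Surjective q.left ∧ LocallyOfFinitePresentation q.left) ↔
      QuotSh.IsQuotient Scheme.fppfPrecoverage s t q := by
  haveI : MorphismProperty.IsLocalAtTarget @Flat Scheme.fppfPrecoverage.{u} :=
    .of_le Scheme.fppfPrecoverage_le_fpqcPrecoverage
  haveI : MorphismProperty.IsLocalAtTarget @Surjective Scheme.fppfPrecoverage.{u} :=
    .of_le Scheme.fppfPrecoverage_le_fpqcPrecoverage
  haveI : MorphismProperty.IsLocalAtTarget @LocallyOfFinitePresentation Scheme.fppfPrecoverage.{u} :=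
    .of_le Scheme.fppfPrecoverage_le_fpqcPrecoverage
  rw [← isQuotient_iff Scheme.fppfPrecoverage
    ((@Flat ⊓ @Surjective) ⊓ @LocallyOfFinitePresentation) ?_ s t ⟨⟨‹_›, ‹_›⟩, ‹_›⟩ q]
  · constructor
    · rintro ⟨h1, h2, h3, h4⟩
      exact ⟨h1, ⟨h2, h3⟩, h4⟩
    · rintro ⟨h1, ⟨h2, h3⟩, h4⟩
      exact ⟨h1, h2, h3, h4⟩
  · rintro X Y f ⟨⟨h2, h3⟩, h4⟩
    exact f.singleton_mem_fppfPrecoverage

theorem etale_iff {R U Y : Over S} (s t : R ⟶ U) [IsEquivalenceRelation s t]
    [Etale s.left] [Surjective s.left] (q : U ⟶ Y) :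
    (IsKernelPair q s t ∧ Etale q.left ∧ Surjective q.left) ↔
      QuotSh.IsQuotient Scheme.etalePrecoverage s t q := by
  haveI : MorphismProperty.IsLocalAtTarget @Etale Scheme.etalePrecoverage.{u} :=
    .of_le LocSec.etalePrecoverage_le_fpqcPrecoverage
  haveI : MorphismProperty.IsLocalAtTarget @Surjective Scheme.etalePrecoverage.{u} :=
    .of_le LocSec.etalePrecoverage_le_fpqcPrecoverage
  haveI : Scheme.etalePrecoverage.{u}.IsStableUnderComposition :=
    inferInstanceAs (Scheme.precoverage @Etale).IsStableUnderComposition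
  haveI : Scheme.etalePrecoverage.{u}.IsStableUnderBaseChange :=
    inferInstanceAs (Scheme.precoverage @Etale).IsStableUnderBaseChange
  haveI : Scheme.etalePrecoverage.{u}.HasPullbacks :=
    inferInstanceAs (Scheme.precoverage @Etale).HasPullbacks
  haveI : Scheme.etalePrecoverage.{u}.HasIsos :=
    inferInstanceAs (Scheme.precoverage @Etale).HasIsos
  rw [← isQuotient_iff Scheme.etalePrecoverage (@Etale ⊓ @Surjective) ?_ s t ⟨‹_›, ‹_›⟩ q]
  · rfl
  · rintro X Y f ⟨h2, h3⟩
    rw [← Presieve.ofArrows_pUnit.{0}]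
    exact (f.cover (P := @Etale) h2).mem₀

end Groth.Agent.H3.QuotShEff
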