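import Mathlib
import Groth.Prelude.Def_AlgSt
import Groth.Agent.Lib.Helper3.StackDescent
import Groth.Agent.Lib.Helper3.GerbAux

set_option autoImplicit false

universe w v₂ u₂ v u

open CategoryTheory CategoryTheory.Functor CategoryTheory.Limits Opposite

namespace Groth.Agent.H3.StackPsh

open Groth.Agent.H3.FibCatAux Groth.Agent.H3.FibCatYoneda Groth.Agent.H3.StackDescent

variable {C : Type u} [Category.{v} C] (P : Cᵒᵖ ⥤ Type w) {U : C} (R : Sieve U)

lemma elt_hom_eq {a b : Stk.EltObj P} {V W : C} (f : V ⟶ W) (φ : a ⟶ b)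
    [h : (Stk.EltObj.forget P).IsHomLift f φ] :
    φ.hom = eqToHom (IsHomLift.domain_eq (Stk.EltObj.forget P) f φ) ≫ f ≫
      eqToHom (IsHomLift.codomain_eq (Stk.EltObj.forget P) f φ).symm :=
  IsHomLift.fac' (Stk.EltObj.forget P) f φ

lemma elt_hom_eq_rfl {a b : Stk.EltObj P} (f : a.base ⟶ b.base) (φ : a ⟶ b)
    [h : (Stk.EltObj.forget P).IsHomLift f φ] : φ.hom = f := by
  have := IsHomLift.fac' (Stk.EltObj.forget P) f φ
  simpa using this

lemma elt_isHomLift {a b : Stk.EltObj P} (φ : a ⟶ b) :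
    (Stk.EltObj.forget P).IsHomLift φ.hom φ :=
  IsHomLift.map (Stk.EltObj.forget P) φ

lemma fam_congr (x : Presieve.FamilyOfElements P (R : Presieve U)) {V : C} {f f' : V ⟶ U}
    (e : f = f') (h : R f) (h' : R f') : x f h = x f' h' := by
  subst e; rfl

variable {P R} in
/-- objects of the descent datum attached to a family -/
def famObj (x : Presieve.FamilyOfElements P (R : Presieve U)) (a : R.arrows.category) :
    Stk.EltObj P := ⟨a.obj.left, x a.obj.hom a.property⟩

variable {P R} in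
/-- morphisms of the descent datum attached to a compatible family -/
def famMap (x : Presieve.FamilyOfElements P (R : Presieve U)) (hx : x.SieveCompatible)
    {a b : R.arrows.category} (w : a ⟶ b) : famObj x a ⟶ famObj x b :=
  ⟨w.hom.left, by
    have h1 := hx b.obj.hom w.hom.left b.property
    change P.map w.hom.left.op (x b.obj.hom b.property) = x a.obj.hom a.property
    rw [← h1]
    exact fam_congr P R x (Over.w w.hom) _ _⟩

/-- descent datum attached to a compatible family -/
def datumOfFamily (x : Presieve.FamilyOfElements P (R : Presieve U)) (hx : x.SieveCompatible) :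
    Stk.sieveCat R ⥤ᵇ Stk.ofPsh P :=
  mkDatum (𝒳 := Stk.ofPsh P) (famObj x) (fun a => rfl)
    (fun _ _ w => famMap x hx w)
    (fun _ _ w => elt_isHomLift P (famMap x hx w))
    (fun _ => rfl) (fun _ _ _ _ _ => rfl)

variable {P R} in
/-- a cocone with vertex `(U, t)` on the datum of a family is an amalgamation -/
lemma amalg_of_cocone (x : Presieve.FamilyOfElements P (R : Presieve U)) (hx : x.SieveCompatible)
    (s : Cocone (datumOfFamily P R x hx)) :
    ∃ t : P.obj (op U), x.IsAmalgamation t := by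
  obtain ⟨⟨U', t⟩, hU, ι, hι, hw⟩ := s
  change U' = U at hU
  subst hU
  refine ⟨t, ?_⟩
  intro V f hf
  have h1 := (ι (mkObj R f hf)).map_sec
  have h2 : (Stk.EltObj.forget P).IsHomLift f (ι (mkObj R f hf)) := hι (mkObj R f hf)
  have h3 : (ι (mkObj R f hf)).hom = f :=
    elt_hom_eq_rfl P (a := famObj x (mkObj R f hf)) (b := ⟨U', t⟩) (h := h2) f (ι (mkObj R f hf))
  change P.map (ι (mkObj R f hf)).hom.op t = x f hf at h1
  rw [← h1, h3]
  rfl

variable {P R} in
/-- the cocone attached to an amalgamation -/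
def coconeOfAmalg (x : Presieve.FamilyOfElements P (R : Presieve U)) (hx : x.SieveCompatible)
    (t : P.obj (op U)) (ht : x.IsAmalgamation t) : Cocone (datumOfFamily P R x hx) where
  pt := ⟨U, t⟩
  pt_proj := rfl
  ι a := ⟨a.obj.hom, ht a.obj.hom a.property⟩
  ι_lift a := elt_isHomLift P (⟨a.obj.hom, ht a.obj.hom a.property⟩ : famObj x a ⟶ ⟨U, t⟩)
  w a b f := Stk.EltObj.hom_ext (Over.w f.hom)

theorem isSheafFor_of_isStackFor (h : Stk.IsStackFor R (Stk.ofPsh P)) :
    Presieve.IsSheafFor P (R : Presieve U) := by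
  rw [isStackFor_iff (Stk.isFibGrpd_ofPsh P)] at h
  obtain ⟨h1, h2⟩ := h
  intro x hx
  rw [Presieve.compatible_iff_sieveCompatible] at hx
  obtain ⟨s⟩ := h1 (datumOfFamily P R x hx)
  obtain ⟨t, ht⟩ := amalg_of_cocone x hx s
  refine ⟨t, ht, ?_⟩
  intro t' ht'
  obtain ⟨φ, ⟨hφ, -⟩, -⟩ := h2 _ (coconeOfAmalg x hx t' ht') (coconeOfAmalg x hx t ht)
  have h3 : φ.hom = 𝟙 U := elt_hom_eq_rfl P (a := ⟨U, t'⟩) (b := ⟨U, t⟩) (h := hφ) (𝟙 U) φ
  have h4 := φ.map_sec
  change P.map φ.hom.op t = t' at h4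
  rw [h3] at h4
  have h5 : P.map (𝟙 U).op t = t := by simp
  exact h4.symm.trans h5

lemma elt_hom_unique {a b : Stk.EltObj P} {V W : C} (f : V ⟶ W) (φ ψ : a ⟶ b)
    [h : (Stk.EltObj.forget P).IsHomLift f φ] [h' : (Stk.EltObj.forget P).IsHomLift f ψ] :
    φ = ψ := by
  apply Stk.EltObj.hom_ext
  rw [elt_hom_eq P f φ, elt_hom_eq P f ψ]

lemma elt_comp_eq {c d : Stk.EltObj P} {V W : C} (g : V ⟶ W) (φ : c ⟶ d)
    [h : (Stk.EltObj.forget P).IsHomLift g φ] (hc : c.base = V) (hd : d.base = W) {X : C}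
    (k : W ⟶ X) : φ.hom ≫ eqToHom hd ≫ k = eqToHom hc ≫ g ≫ k := by
  rw [elt_hom_eq P g φ]
  simp

section Converse

variable {P R} (D : Stk.sieveCat R ⥤ᵇ Stk.ofPsh P)

/-- the identification of base objects -/
def baseIso (a : R.arrows.category) : a.obj.left ⟶ (D.obj a).base :=
  eqToHom (sieve_obj_proj D a).symm

lemma baseIso_comp {a b : R.arrows.category} (w : a ⟶ b) :
    baseIso D a ≫ (D.map w).hom = w.hom.left ≫ baseIso D b := by
  have := sieve_map_isHomLift D w
  rw [elt_hom_eq P w.hom.left (D.map w)]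
  unfold baseIso
  simp

/-- the section over `a.left` given by the descent datum -/
def secOf (a : R.arrows.category) : P.obj (op a.obj.left) :=
  P.map (baseIso D a).op (D.obj a).sec

lemma secOf_map {a b : R.arrows.category} (w : a ⟶ b) :
    P.map w.hom.left.op (secOf D b) = secOf D a := by
  unfold secOf
  have h1 := (D.map w).map_sec
  rw [← h1]
  simp only [← Functor.map_comp_apply, ← op_comp]
  rw [baseIso_comp]

/-- the family of elements attached to a descent datum -/
def famOf : Presieve.FamilyOfElements P (R : Presieve U) :=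
  fun _ f hf => secOf D (mkObj R f hf)

lemma famOf_compatible : (famOf D).SieveCompatible := by
  intro V W f g hf
  let w : mkObj R (g ≫ f) (R.downward_closed hf g) ⟶ mkObj R f hf :=
    ObjectProperty.homMk (Over.homMk g rfl)
  exact (secOf_map D w).symm

/-- the cocone on `D` given by an amalgamation of its family -/
def coconeOfAmalg' (t : P.obj (op U)) (ht : (famOf D).IsAmalgamation t) : Cocone D where
  pt := ⟨U, t⟩
  pt_proj := rfl
  ι a := ⟨eqToHom (sieve_obj_proj D a) ≫ a.obj.hom, by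
    have h1 := ht a.obj.hom a.property
    change P.map a.obj.hom.op t = secOf D a at h1
    rw [op_comp, Functor.map_comp_apply]
    change P.map (eqToHom (sieve_obj_proj D a)).op (P.map a.obj.hom.op t) = (D.obj a).sec
    rw [h1]
    unfold secOf baseIso
    simp only [← Functor.map_comp_apply, ← op_comp, eqToHom_trans, eqToHom_refl, op_id]
    simp
    rfl⟩
  ι_lift a := by
    apply IsHomLift.of_fac' (Stk.EltObj.forget P) a.obj.hom _ (sieve_obj_proj D a) rfl
    simp
  w a b f := by
    apply Stk.EltObj.hom_ext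
    have := sieve_map_isHomLift D f
    exact (elt_comp_eq P f.hom.left (D.map f) (sieve_obj_proj D a) (sieve_obj_proj D b)
      b.obj.hom).trans (congrArg (fun k => eqToHom (sieve_obj_proj D a) ≫ k) (Over.w f.hom))

lemma cocone_amalg (s : Cocone D) (hU : s.pt.base = U) :
    (famOf D).IsAmalgamation (P.map (eqToHom hU.symm).op s.pt.sec) := by
  intro V f hf
  change _ = secOf D (mkObj R f hf)
  unfold secOf baseIso
  have h1 := (s.ι (mkObj R f hf)).map_sec
  have h2 : (Stk.EltObj.forget P).IsHomLift f (s.ι (mkObj R f hf)) := s.ι_lift (mkObj R f hf)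
  have h3 := elt_hom_eq P f (s.ι (mkObj R f hf))
  rw [← h1]
  simp only [← Functor.map_comp_apply, ← op_comp]
  rw [h3]
  simp

end Converse

theorem cocone_unique_of_isSeparatedFor (h : Presieve.IsSeparatedFor P (R : Presieve U))
    (D : Stk.sieveCat R ⥤ᵇ Stk.ofPsh P) (s t : Cocone D) :
    ∃! φ : s.pt ⟶ t.pt, (Stk.ofPsh P).p.IsHomLift (𝟙 U) φ ∧ ∀ a, s.ι a ≫ φ = t.ι a := by
  have hs : s.pt.base = U := s.pt_proj
  have ht : t.pt.base = U := t.pt_proj
  have h1 := cocone_amalg D s hs
  have h2 := cocone_amalg D t ht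
  have h3 := h _ _ _ h1 h2
  obtain ⟨φ, hφ⟩ : ∃ φ : s.pt ⟶ t.pt, (Stk.EltObj.forget P).IsHomLift (𝟙 U) φ := by
    refine ⟨⟨eqToHom (hs.trans ht.symm), ?_⟩, ?_⟩
    · have h4 := congrArg (fun z => P.map (eqToHom hs).op z) h3
      simp only [← Functor.map_comp_apply, ← op_comp, eqToHom_trans, eqToHom_refl] at h4
      simp only [op_id] at h4
      have h5 : P.map (𝟙 (op s.pt.base)) s.pt.sec = s.pt.sec := by simp
      exact h4.symm.trans h5
    · apply IsHomLift.of_fac' (Stk.EltObj.forget P) (𝟙 U) _ hs ht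
      simp
  refine ⟨φ, ⟨hφ, fun a => ?_⟩, fun ψ hψ => ?_⟩
  · have i1 : (Stk.EltObj.forget P).IsHomLift a.obj.hom (t.ι a) := t.ι_lift a
    have i2 : (Stk.EltObj.forget P).IsHomLift a.obj.hom (s.ι a) := s.ι_lift a
    have i3 : (Stk.EltObj.forget P).IsHomLift a.obj.hom (s.ι a ≫ φ) := inferInstance
    exact elt_hom_unique P a.obj.hom _ _
  · have := hψ.1
    exact elt_hom_unique P (𝟙 U) ψ φ

theorem isStackFor_of_isSheafFor (h : Presieve.IsSheafFor P (R : Presieve U)) :
    Stk.IsStackFor R (Stk.ofPsh P) := by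
  rw [isStackFor_iff (Stk.isFibGrpd_ofPsh P)]
  constructor
  · intro D
    obtain ⟨t, ht, -⟩ := h (famOf D)
      ((Presieve.compatible_iff_sieveCompatible _).mpr (famOf_compatible D))
    exact ⟨coconeOfAmalg' D t ht⟩
  · exact cocone_unique_of_isSeparatedFor P R h.isSeparatedFor

theorem isStackFor_ofPsh_iff :
    Stk.IsStackFor R (Stk.ofPsh P) ↔ Presieve.IsSheafFor P (R : Presieve U) :=
  ⟨isSheafFor_of_isStackFor P R, isStackFor_of_isSheafFor P R⟩

theorem isPrestackFor_ofPsh_iff :
    Stk.IsPrestackFor R (Stk.ofPsh P) ↔ Presieve.IsSeparatedFor P (R : Presieve U) := by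
  rw [isPrestackFor_iff (Stk.isFibGrpd_ofPsh P)]
  constructor
  · intro h2 x t t' ht ht'
    have hx : x.SieveCompatible := by
      rw [← Presieve.compatible_iff_sieveCompatible]
      exact Presieve.is_compatible_of_exists_amalgamation x ⟨t, ht⟩
    obtain ⟨φ, ⟨hφ, -⟩, -⟩ := h2 _ (coconeOfAmalg x hx t' ht') (coconeOfAmalg x hx t ht)
    have h3 : φ.hom = 𝟙 U := elt_hom_eq_rfl P (a := ⟨U, t'⟩) (b := ⟨U, t⟩) (h := hφ) (𝟙 U) φ
    have h4 := φ.map_sec
    change P.map φ.hom.op t = t' at h4
    rw [h3] at h4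
    have h5 : P.map (𝟙 U).op t = t := by simp
    exact h5.symm.trans h4
  · exact cocone_unique_of_isSeparatedFor P R

theorem isStack_ofPsh_iff (J : GrothendieckTopology C) :
    Stk.IsStack J (Stk.ofPsh P) ↔ Presieve.IsSheaf J P := by
  constructor
  · intro h U R hR
    exact (isStackFor_ofPsh_iff P R).mp (h.2 R hR)
  · intro h
    exact ⟨Stk.isFibGrpd_ofPsh P, fun U R hR => (isStackFor_ofPsh_iff P R).mpr (h R hR)⟩

theorem isPrestack_ofPsh_iff (J : GrothendieckTopology C) :
    Stk.IsPrestack J (Stk.ofPsh P) ↔ Presieve.IsSeparated J P := by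
  constructor
  · intro h U R hR
    exact (isPrestackFor_ofPsh_iff P R).mp (h.2 R hR)
  · intro h
    exact ⟨Stk.isFibGrpd_ofPsh P, fun U R hR => (isPrestackFor_ofPsh_iff P R).mpr (h R hR)⟩

section OverCat

variable {C : Type u} [Category.{v} C] (U : C)

/-- the slice as the category of elements of the representable presheaf -/
def overToYoneda : FibCat.overCat U ⥤ᵇ Stk.ofPsh (yoneda.obj U) where
  toFunctor :=
    { obj := fun A => ⟨A.left, A.hom⟩
      map := fun {A B} w => ⟨w.left, Over.w w⟩ }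
  w := rfl

lemma overToYoneda_faithful : (overToYoneda U).toFunctor.Faithful where
  map_injective {A B} w w' h := by
    apply Over.OverMorphism.ext
    exact congrArg (fun t => t.hom) h

lemma overToYoneda_full : (overToYoneda U).toFunctor.Full where
  map_surjective {A B} φ := by
    refine ⟨Over.homMk φ.hom φ.map_sec, ?_⟩
    apply Stk.EltObj.hom_ext
    rfl

theorem isEquivOver_overToYoneda : FibCat.IsEquivOver (overToYoneda U) := by
  rw [X5139]
  refine ⟨⟨overToYoneda_full U, overToYoneda_faithful U⟩, ?_⟩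
  intro η
  refine ⟨Over.mk η.sec, Iso.refl _, ?_⟩
  exact IsHomLift.id rfl

theorem isStack_overCat_iff (J : GrothendieckTopology C) :
    Stk.IsStack J (FibCat.overCat U) ↔ Presieve.IsSheaf J (yoneda.obj U) := by
  rw [← isStack_ofPsh_iff]
  exact Groth.Agent.H3.GerbAux.isStack_iff_of_isEquivOver J (overToYoneda U)
    (isEquivOver_overToYoneda U)

end OverCat

end Groth.Agent.H3.StackPsh
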