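import Mathlib
import Groth.Prelude.Def_FibCat2
import Groth.Agent.Lib.Helper3.FibCatAux
import Groth.Agent.Lib.Helper3.GerbAux

set_option autoImplicit false

universe v₉ u₉ v₈ u₈ v₇ u₇ v₆ u₆ v₅ u₅ v₄ u₄ v₃ u₃ v₂ u₂ w v u

open CategoryTheory CategoryTheory.Functor CategoryTheory.Limits Opposite

namespace Groth.Agent.H3.FpCalc

open Groth.Agent.H3.FibCatAux Groth.Agent.H3.GerbAux

variable {C : Type u} [Category.{v} C]

section Basic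

variable {𝒳 : BasedCategory.{v₂, u₂} C} {𝒴 : BasedCategory.{v₃, u₃} C}

/-- components of a based iso, as isos of the target category -/
def appIso {F G : 𝒳 ⥤ᵇ 𝒴} (α : F ≅ G) (x : 𝒳.obj) : F.obj x ≅ G.obj x where
  hom := α.hom.toNatTrans.app x
  inv := α.inv.toNatTrans.app x
  hom_inv_id := congrArg (fun t => t.toNatTrans.app x) α.hom_inv_id
  inv_hom_id := congrArg (fun t => t.toNatTrans.app x) α.inv_hom_id

lemma appIso_hom_isHomLift {F G : 𝒳 ⥤ᵇ 𝒴} (α : F ≅ G) (x : 𝒳.obj) {U : C} (hx : 𝒳.p.obj x = U) :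
    𝒴.p.IsHomLift (𝟙 U) (appIso α x).hom := BasedNatTrans.isHomLift α.hom hx

lemma appIso_inv_isHomLift {F G : 𝒳 ⥤ᵇ 𝒴} (α : F ≅ G) (x : 𝒳.obj) {U : C} (hx : 𝒳.p.obj x = U) :
    𝒴.p.IsHomLift (𝟙 U) (appIso α x).inv := BasedNatTrans.isHomLift α.inv hx

lemma appIso_hom_naturality {F G : 𝒳 ⥤ᵇ 𝒴} (α : F ≅ G) {x x' : 𝒳.obj} (φ : x ⟶ x') :
    F.map φ ≫ (appIso α x').hom = (appIso α x).hom ≫ G.map φ :=
  α.hom.toNatTrans.naturality φ

lemma appIso_inv_naturality {F G : 𝒳 ⥤ᵇ 𝒴} (α : F ≅ G) {x x' : 𝒳.obj} (φ : x ⟶ x') :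
    G.map φ ≫ (appIso α x').inv = (appIso α x).inv ≫ F.map φ :=
  α.inv.toNatTrans.naturality φ

section Sq
variable {𝒜 : BasedCategory.{v₄, u₄} C} {ℬ : BasedCategory.{v₅, u₅} C}
  {P : 𝒳 ⥤ᵇ 𝒴} {Q : 𝒴 ⥤ᵇ ℬ} {R : 𝒳 ⥤ᵇ 𝒜} {T : 𝒜 ⥤ᵇ ℬ}

/-- components of a 2-isomorphism filling a square, with unfolded types -/
def sqIso (α : BasedFunctor.comp P Q ≅ BasedFunctor.comp R T) (x : 𝒳.obj) :
    Q.obj (P.obj x) ≅ T.obj (R.obj x) := appIso α x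

lemma sqIso_hom_isHomLift (α : BasedFunctor.comp P Q ≅ BasedFunctor.comp R T) (x : 𝒳.obj) {U : C}
    (hx : 𝒳.p.obj x = U) : ℬ.p.IsHomLift (𝟙 U) (sqIso α x).hom := appIso_hom_isHomLift α x hx

lemma sqIso_inv_isHomLift (α : BasedFunctor.comp P Q ≅ BasedFunctor.comp R T) (x : 𝒳.obj) {U : C}
    (hx : 𝒳.p.obj x = U) : ℬ.p.IsHomLift (𝟙 U) (sqIso α x).inv := appIso_inv_isHomLift α x hx

lemma sqIso_hom_naturality (α : BasedFunctor.comp P Q ≅ BasedFunctor.comp R T) {x x' : 𝒳.obj}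
    (φ : x ⟶ x') : Q.map (P.map φ) ≫ (sqIso α x').hom = (sqIso α x).hom ≫ T.map (R.map φ) :=
  appIso_hom_naturality α φ

lemma sqIso_inv_naturality (α : BasedFunctor.comp P Q ≅ BasedFunctor.comp R T) {x x' : 𝒳.obj}
    (φ : x ⟶ x') : T.map (R.map φ) ≫ (sqIso α x').inv = (sqIso α x).inv ≫ Q.map (P.map φ) :=
  appIso_inv_naturality α φ

end Sq

theorem isEquivOver_comp {𝒵 : BasedCategory.{v₄, u₄} C} (F : 𝒳 ⥤ᵇ 𝒴) (G : 𝒴 ⥤ᵇ 𝒵)
    (hF : FibCat.IsEquivOver F) (hG : FibCat.IsEquivOver G) :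
    FibCat.IsEquivOver (BasedFunctor.comp F G) := by
  rw [X5139] at hF hG ⊢
  obtain ⟨⟨hF1, hF2⟩, hF3⟩ := hF
  obtain ⟨⟨hG1, hG2⟩, hG3⟩ := hG
  refine ⟨⟨?_, ?_⟩, ?_⟩
  · exact Functor.Full.comp F.toFunctor G.toFunctor
  · exact Functor.Faithful.comp F.toFunctor G.toFunctor
  · intro z
    obtain ⟨y, e, he⟩ := hG3 z
    obtain ⟨x, e', he'⟩ := hF3 y
    have hy : 𝒴.p.obj y = 𝒵.p.obj z := (G.w_obj y).symm.trans (IsHomLift.domain_eq 𝒵.p (𝟙 _) e.hom)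
    rw [hy] at he'
    have : 𝒵.p.IsHomLift (𝟙 (𝒵.p.obj z)) (G.map e'.hom) := inferInstance
    refine ⟨x, G.toFunctor.mapIso e' ≪≫ e, ?_⟩
    show 𝒵.p.IsHomLift (𝟙 (𝒵.p.obj z)) (G.map e'.hom ≫ e.hom)
    infer_instance

theorem isEquivOver_id : FibCat.IsEquivOver (BasedFunctor.id 𝒳) :=
  ⟨BasedFunctor.id 𝒳, ⟨Iso.refl _⟩, ⟨Iso.refl _⟩⟩

theorem isEquivOver_of_iso {F G : 𝒳 ⥤ᵇ 𝒴} (α : F ≅ G) (hF : FibCat.IsEquivOver F) :
    FibCat.IsEquivOver G := by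
  rw [X5139] at hF ⊢
  obtain ⟨⟨hF1, hF2⟩, hF3⟩ := hF
  let αN : F.toFunctor ≅ G.toFunctor := (BasedNatTrans.forgetful _ _).mapIso α
  refine ⟨⟨Functor.Full.of_iso αN, Functor.Faithful.of_iso αN⟩, ?_⟩
  intro y
  obtain ⟨x, e, he⟩ := hF3 y
  have hx : 𝒳.p.obj x = 𝒴.p.obj y := (F.w_obj x).symm.trans (IsHomLift.domain_eq 𝒴.p (𝟙 _) e.hom)
  have := appIso_inv_isHomLift α x hx
  refine ⟨x, (appIso α x).symm ≪≫ e, ?_⟩
  show 𝒴.p.IsHomLift (𝟙 (𝒴.p.obj y)) ((appIso α x).inv ≫ e.hom)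
  infer_instance

end Basic

section FpMap

variable {𝒳' : BasedCategory.{v₂, u₂} C} {𝒴' : BasedCategory.{v₃, u₃} C} {𝒮' : BasedCategory.{v₄, u₄} C}
  {𝒳 : BasedCategory.{v₅, u₅} C} {𝒴 : BasedCategory.{v₆, u₆} C} {𝒮 : BasedCategory.{v₇, u₇} C}
  {F' : 𝒳' ⥤ᵇ 𝒮'} {G' : 𝒴' ⥤ᵇ 𝒮'} {F : 𝒳 ⥤ᵇ 𝒮} {G : 𝒴 ⥤ᵇ 𝒮}
  (a : 𝒳' ⥤ᵇ 𝒳) (b : 𝒴' ⥤ᵇ 𝒴) (c : 𝒮' ⥤ᵇ 𝒮)
  (α : BasedFunctor.comp F' c ≅ BasedFunctor.comp a F) (β : BasedFunctor.comp G' c ≅ BasedFunctor.comp b G)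

/-- the iso component of `fpMap` -/
def fpMapIso (X : (FibCat.fp F' G').obj) : F.obj (a.obj X.obj.fst) ≅ G.obj (b.obj X.obj.snd) :=
  (sqIso α X.obj.fst).symm ≪≫ c.toFunctor.mapIso X.obj.iso ≪≫ sqIso β X.obj.snd

lemma fpMapIso_hom (X : (FibCat.fp F' G').obj) :
    (fpMapIso a b c α β X).hom =
      (sqIso α X.obj.fst).inv ≫ c.map X.obj.iso.hom ≫ (sqIso β X.obj.snd).hom := rfl

lemma fp_snd_proj (X : (FibCat.fp F' G').obj) : 𝒴'.p.obj X.obj.snd = 𝒳'.p.obj X.obj.fst :=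
  (FibCat.fpSnd F' G').w_obj X

lemma fp_iso_isHomLift (X : (FibCat.fp F' G').obj) :
    𝒮'.p.IsHomLift (𝟙 (𝒳'.p.obj X.obj.fst)) X.obj.iso.hom := X.property

lemma fpMapIso_isHomLift (X : (FibCat.fp F' G').obj) :
    𝒮.p.IsHomLift (𝟙 (𝒳.p.obj (a.obj X.obj.fst))) (fpMapIso a b c α β X).hom := by
  rw [fpMapIso_hom, a.w_obj]
  have h1 := sqIso_inv_isHomLift α X.obj.fst rfl
  have h2 := sqIso_hom_isHomLift β X.obj.snd (fp_snd_proj X)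
  have h3 := fp_iso_isHomLift X
  have h4 : 𝒮.p.IsHomLift (𝟙 (𝒳'.p.obj X.obj.fst)) (c.map X.obj.iso.hom) := inferInstance
  infer_instance

/-- the 2-isomorphism defining `fpMap` -/
def fpMapE : BasedFunctor.comp (BasedFunctor.comp (FibCat.fpFst F' G') a) F ≅
    BasedFunctor.comp (BasedFunctor.comp (FibCat.fpSnd F' G') b) G :=
  BasedNatIso.mkNatIso
    (NatIso.ofComponents (fun X => fpMapIso a b c α β X) (by
      intro X Y φ
      show F.map (a.map φ.hom.fst) ≫ (fpMapIso a b c α β Y).hom =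
        (fpMapIso a b c α β X).hom ≫ G.map (b.map φ.hom.snd)
      rw [fpMapIso_hom, fpMapIso_hom]
      have n1 := sqIso_inv_naturality α φ.hom.fst
      have n2 := sqIso_hom_naturality β φ.hom.snd
      have w := φ.hom.w
      rw [reassoc_of% n1]
      simp only [Category.assoc]
      rw [← n2, ← Category.assoc (c.map _), ← c.map_comp, w, c.map_comp, Category.assoc]))
    (fun X => by
      have := fpMapIso_isHomLift a b c α β X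
      rw [a.w_obj] at this
      exact this)

/-- functoriality of the 2-fibre product in the cospan -/
def fpMap : FibCat.fp F' G' ⥤ᵇ FibCat.fp F G :=
  FibCat.fpLift (BasedFunctor.comp (FibCat.fpFst F' G') a) (BasedFunctor.comp (FibCat.fpSnd F' G') b)
    (fpMapE a b c α β)

@[simp] lemma fpMap_obj_fst (X : (FibCat.fp F' G').obj) :
    ((fpMap a b c α β).obj X).obj.fst = a.obj X.obj.fst := rfl

@[simp] lemma fpMap_obj_snd (X : (FibCat.fp F' G').obj) :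
    ((fpMap a b c α β).obj X).obj.snd = b.obj X.obj.snd := rfl

lemma fpMap_obj_iso_hom (X : (FibCat.fp F' G').obj) :
    ((fpMap a b c α β).obj X).obj.iso.hom =
      (sqIso α X.obj.fst).inv ≫ c.map X.obj.iso.hom ≫ (sqIso β X.obj.snd).hom := rfl

@[simp] lemma fpMap_map_fst {X Y : (FibCat.fp F' G').obj} (φ : X ⟶ Y) :
    ((fpMap a b c α β).map φ).hom.fst = a.map φ.hom.fst := rfl

@[simp] lemma fpMap_map_snd {X Y : (FibCat.fp F' G').obj} (φ : X ⟶ Y) :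
    ((fpMap a b c α β).map φ).hom.snd = b.map φ.hom.snd := rfl

lemma fpMap_comp_fpFst : BasedFunctor.comp (fpMap a b c α β) (FibCat.fpFst F G) =
    BasedFunctor.comp (FibCat.fpFst F' G') a := by
  apply basedFunctor_ext; rfl

lemma fpMap_comp_fpSnd : BasedFunctor.comp (fpMap a b c α β) (FibCat.fpSnd F G) =
    BasedFunctor.comp (FibCat.fpSnd F' G') b := by
  apply basedFunctor_ext; rfl


lemma fpMap_faithful [a.toFunctor.Faithful] [b.toFunctor.Faithful] :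
    (fpMap a b c α β).toFunctor.Faithful where
  map_injective := by
    intro X Y φ ψ h
    apply fp_hom_ext
    · apply a.toFunctor.map_injective
      exact congrArg (fun t => t.hom.fst) h
    · apply b.toFunctor.map_injective
      exact congrArg (fun t => t.hom.snd) h

lemma fpMap_full [a.toFunctor.Full] [b.toFunctor.Full] [c.toFunctor.Faithful] :
    (fpMap a b c α β).toFunctor.Full where
  map_surjective := by
    intro X Y m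
    obtain ⟨m₁, hm₁⟩ : ∃ m₁ : a.obj X.obj.fst ⟶ a.obj Y.obj.fst, m₁ = m.hom.fst := ⟨_, rfl⟩
    obtain ⟨m₂, hm₂⟩ : ∃ m₂ : b.obj X.obj.snd ⟶ b.obj Y.obj.snd, m₂ = m.hom.snd := ⟨_, rfl⟩
    have hw : F.map m₁ ≫ ((sqIso α Y.obj.fst).inv ≫ c.map Y.obj.iso.hom ≫ (sqIso β Y.obj.snd).hom) =
        ((sqIso α X.obj.fst).inv ≫ c.map X.obj.iso.hom ≫ (sqIso β X.obj.snd).hom) ≫ G.map m₂ := by
      rw [hm₁, hm₂]; exact m.hom.w
    obtain ⟨φ₁, hφ₁⟩ := a.toFunctor.map_surjective m₁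
    obtain ⟨φ₂, hφ₂⟩ := b.toFunctor.map_surjective m₂
    have hφ₁' : a.map φ₁ = m₁ := hφ₁
    have hφ₂' : b.map φ₂ = m₂ := hφ₂
    have w : F'.map φ₁ ≫ Y.obj.iso.hom = X.obj.iso.hom ≫ G'.map φ₂ := by
      apply c.toFunctor.map_injective
      show c.map (F'.map φ₁ ≫ Y.obj.iso.hom) = c.map (X.obj.iso.hom ≫ G'.map φ₂)
      rw [c.map_comp, c.map_comp]
      rw [← cancel_epi (sqIso α X.obj.fst).inv, ← cancel_mono (sqIso β Y.obj.snd).hom]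
      have n1 := sqIso_inv_naturality α φ₁
      have n2 := sqIso_hom_naturality β φ₂
      simp only [Category.assoc]
      rw [n2, ← reassoc_of% n1, hφ₁', hφ₂']
      simpa only [Category.assoc] using hw
    refine ⟨fpHomMk φ₁ φ₂ w, ?_⟩
    apply fp_hom_ext
    · exact hφ₁'.trans hm₁
    · exact hφ₂'.trans hm₂

lemma fpMap_hasPre (ha : HasPre a) (hb : HasPre b) [c.toFunctor.Full] [c.toFunctor.Faithful] :
    HasPre (fpMap a b c α β) := by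
  intro T
  obtain ⟨x', e₁, he₁⟩ := ha T.obj.fst
  obtain ⟨y', e₂, he₂⟩ := hb T.obj.snd
  have hT : 𝒮.p.IsHomLift (𝟙 (𝒳.p.obj T.obj.fst)) T.obj.iso.hom := T.property
  have hTs : 𝒴.p.obj T.obj.snd = 𝒳.p.obj T.obj.fst := (FibCat.fpSnd F G).w_obj T
  rw [hTs] at he₂
  have hx' : 𝒳'.p.obj x' = 𝒳.p.obj T.obj.fst :=
    (a.w_obj x').symm.trans (IsHomLift.domain_eq 𝒳.p (𝟙 _) e₁.hom)
  have hy' : 𝒴'.p.obj y' = 𝒳.p.obj T.obj.fst :=
    (b.w_obj y').symm.trans (IsHomLift.domain_eq 𝒴.p (𝟙 _) e₂.hom)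
  have l1 := sqIso_hom_isHomLift α x' hx'
  have l2 := sqIso_inv_isHomLift β y' hy'
  have l3 : 𝒮.p.IsHomLift (𝟙 (𝒳.p.obj T.obj.fst)) (F.map e₁.hom) := inferInstance
  have l4 : 𝒴.p.IsHomLift (𝟙 (𝒳.p.obj T.obj.fst)) e₂.inv := inferInstance
  have l5 : 𝒮.p.IsHomLift (𝟙 (𝒳.p.obj T.obj.fst)) (G.map e₂.inv) := inferInstance
  let θ : c.obj (F'.obj x') ≅ c.obj (G'.obj y') :=
    sqIso α x' ≪≫ F.toFunctor.mapIso e₁ ≪≫ T.obj.iso ≪≫ (G.toFunctor.mapIso e₂).symm ≪≫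
      (sqIso β y').symm
  have hθ : 𝒮.p.IsHomLift (𝟙 (𝒳.p.obj T.obj.fst)) θ.hom := by
    show 𝒮.p.IsHomLift (𝟙 (𝒳.p.obj T.obj.fst))
      ((sqIso α x').hom ≫ F.map e₁.hom ≫ T.obj.iso.hom ≫ G.map e₂.inv ≫ (sqIso β y').inv)
    infer_instance
  let φ : F'.obj x' ≅ G'.obj y' := c.toFunctor.preimageIso θ
  have hφc : c.map φ.hom = θ.hom := c.toFunctor.map_preimage θ.hom
  have hφ : 𝒮'.p.IsHomLift (𝟙 (𝒳'.p.obj x')) φ.hom := by
    have : 𝒮.p.IsHomLift (𝟙 (𝒳'.p.obj x')) (c.map φ.hom) := by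
      rw [hφc, hx']; exact hθ
    exact BasedFunctor.isHomLift_map c _ _
  let X : (FibCat.fp F' G').obj := fpMk F' G' x' y' φ hφ
  have w : F.map e₁.hom ≫ T.obj.iso.hom =
      ((fpMap a b c α β).obj X).obj.iso.hom ≫ G.map e₂.hom := by
    rw [fpMap_obj_iso_hom]
    show F.map e₁.hom ≫ T.obj.iso.hom =
      ((sqIso α x').inv ≫ c.map φ.hom ≫ (sqIso β y').hom) ≫ G.map e₂.hom
    rw [hφc]
    show F.map e₁.hom ≫ T.obj.iso.hom = ((sqIso α x').inv ≫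
      ((sqIso α x').hom ≫ F.map e₁.hom ≫ T.obj.iso.hom ≫ G.map e₂.inv ≫ (sqIso β y').inv) ≫
        (sqIso β y').hom) ≫ G.map e₂.hom
    simp only [Category.assoc, Iso.inv_hom_id, Category.comp_id, Iso.inv_hom_id_assoc]
    rw [← G.map_comp, Iso.inv_hom_id, G.map_id, Category.comp_id]
  refine ⟨X, fpIsoMk (X := (fpMap a b c α β).obj X) (Y := T) e₁ e₂ w, ?_⟩
  rw [fp_isHomLift_iff]
  exact he₁

theorem isEquivOver_fpMap (ha : FibCat.IsEquivOver a) (hb : FibCat.IsEquivOver b)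
    [c.toFunctor.Full] [c.toFunctor.Faithful] : FibCat.IsEquivOver (fpMap a b c α β) := by
  rw [X5139] at ha hb ⊢
  obtain ⟨⟨ha1, ha2⟩, ha3⟩ := ha
  obtain ⟨⟨hb1, hb2⟩, hb3⟩ := hb
  exact ⟨⟨fpMap_full a b c α β, fpMap_faithful a b c α β⟩, fpMap_hasPre a b c α β ha3 hb3⟩

end FpMap

section PasteL

variable {𝒲 : BasedCategory.{v₂, u₂} C} {𝒵 : BasedCategory.{v₃, u₃} C} {𝒴 : BasedCategory.{v₄, u₄} C}
  {𝒳 : BasedCategory.{v₅, u₅} C} (y : 𝒲 ⥤ᵇ 𝒵) (g : 𝒵 ⥤ᵇ 𝒴) (f : 𝒳 ⥤ᵇ 𝒴)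

/-- the structure iso of an object of `𝒲 ×_𝒵 (𝒵 ×_𝒴 𝒳)`, with unfolded type -/
def pIso (X : (FibCat.fp y (FibCat.fpFst g f)).obj) : y.obj X.obj.fst ≅ X.obj.snd.obj.fst := X.obj.iso

lemma pIso_w {X Y : (FibCat.fp y (FibCat.fpFst g f)).obj} (φ : X ⟶ Y) :
    y.map φ.hom.fst ≫ (pIso y g f Y).hom = (pIso y g f X).hom ≫ φ.hom.snd.hom.fst := φ.hom.w

lemma snd_w {X Y : (FibCat.fp y (FibCat.fpFst g f)).obj} (φ : X ⟶ Y) :
    g.map φ.hom.snd.hom.fst ≫ Y.obj.snd.obj.iso.hom =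
      X.obj.snd.obj.iso.hom ≫ f.map φ.hom.snd.hom.snd := φ.hom.snd.hom.w

/-- iso component of the left pasting functor -/
def pasteLIso (X : (FibCat.fp y (FibCat.fpFst g f)).obj) :
    g.obj (y.obj X.obj.fst) ≅ f.obj X.obj.snd.obj.snd :=
  g.toFunctor.mapIso (pIso y g f X) ≪≫ X.obj.snd.obj.iso

lemma pasteLIso_hom (X : (FibCat.fp y (FibCat.fpFst g f)).obj) :
    (pasteLIso y g f X).hom = g.map (pIso y g f X).hom ≫ X.obj.snd.obj.iso.hom := rfl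

lemma pasteL_aux1 (X : (FibCat.fp y (FibCat.fpFst g f)).obj) :
    𝒵.p.IsHomLift (𝟙 (𝒲.p.obj X.obj.fst)) (pIso y g f X).hom := X.property

lemma pasteL_aux2 (X : (FibCat.fp y (FibCat.fpFst g f)).obj) :
    𝒵.p.obj X.obj.snd.obj.fst = 𝒲.p.obj X.obj.fst :=
  (FibCat.fpSnd y (FibCat.fpFst g f)).w_obj X

lemma pasteL_aux3 (X : (FibCat.fp y (FibCat.fpFst g f)).obj) :
    𝒴.p.IsHomLift (𝟙 (𝒲.p.obj X.obj.fst)) X.obj.snd.obj.iso.hom := by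
  have := X.obj.snd.property
  change 𝒴.p.IsHomLift (𝟙 (𝒵.p.obj X.obj.snd.obj.fst)) X.obj.snd.obj.iso.hom at this
  rw [pasteL_aux2] at this
  exact this

lemma pasteLIso_isHomLift (X : (FibCat.fp y (FibCat.fpFst g f)).obj) :
    𝒴.p.IsHomLift (𝟙 (𝒲.p.obj X.obj.fst)) (pasteLIso y g f X).hom := by
  rw [pasteLIso_hom]
  have h1 := pasteL_aux1 y g f X
  have h2 := pasteL_aux3 y g f X
  have h3 : 𝒴.p.IsHomLift (𝟙 (𝒲.p.obj X.obj.fst)) (g.map (pIso y g f X).hom) := inferInstance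
  infer_instance

/-- the 2-iso for the left pasting functor -/
def pasteLE : BasedFunctor.comp (FibCat.fpFst y (FibCat.fpFst g f)) (BasedFunctor.comp y g) ≅
    BasedFunctor.comp (BasedFunctor.comp (FibCat.fpSnd y (FibCat.fpFst g f)) (FibCat.fpSnd g f)) f :=
  BasedNatIso.mkNatIso
    (NatIso.ofComponents (fun X => pasteLIso y g f X) (by
      intro X Y φ
      show g.map (y.map φ.hom.fst) ≫ (pasteLIso y g f Y).hom =
        (pasteLIso y g f X).hom ≫ f.map φ.hom.snd.hom.snd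
      rw [pasteLIso_hom, pasteLIso_hom]
      have w1 := pIso_w y g f φ
      have w2 := snd_w y g f φ
      rw [← Category.assoc, ← g.map_comp, w1, g.map_comp, Category.assoc, w2, Category.assoc]))
    (fun X => pasteLIso_isHomLift y g f X)

/-- left pasting: `𝒲 ×_𝒵 (𝒵 ×_𝒴 𝒳) ⟶ 𝒲 ×_𝒴 𝒳` -/
def pasteL : FibCat.fp y (FibCat.fpFst g f) ⥤ᵇ FibCat.fp (BasedFunctor.comp y g) f :=
  FibCat.fpLift (FibCat.fpFst y (FibCat.fpFst g f))
    (BasedFunctor.comp (FibCat.fpSnd y (FibCat.fpFst g f)) (FibCat.fpSnd g f)) (pasteLE y g f)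

lemma pasteL_comp_fpFst : BasedFunctor.comp (pasteL y g f) (FibCat.fpFst (BasedFunctor.comp y g) f) =
    FibCat.fpFst y (FibCat.fpFst g f) := by
  apply basedFunctor_ext; rfl

lemma pasteL_faithful : (pasteL y g f).toFunctor.Faithful where
  map_injective := by
    intro X Y φ ψ h
    have h1 : φ.hom.fst = ψ.hom.fst := congrArg (fun t => t.hom.fst) h
    have h2 : φ.hom.snd.hom.snd = ψ.hom.snd.hom.snd := congrArg (fun t => t.hom.snd) h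
    have w1 := pIso_w y g f φ
    have w2 := pIso_w y g f ψ
    have h3 : φ.hom.snd.hom.fst = ψ.hom.snd.hom.fst := by
      rw [← cancel_epi (pIso y g f X).hom, ← w1, ← w2, h1]
    apply fp_hom_ext h1
    exact fp_hom_ext h3 h2

lemma pasteL_full : (pasteL y g f).toFunctor.Full where
  map_surjective := by
    intro X Y m
    obtain ⟨m₁, hm₁⟩ : ∃ m₁ : X.obj.fst ⟶ Y.obj.fst, m₁ = m.hom.fst := ⟨_, rfl⟩
    obtain ⟨m₂, hm₂⟩ : ∃ m₂ : X.obj.snd.obj.snd ⟶ Y.obj.snd.obj.snd, m₂ = m.hom.snd := ⟨_, rfl⟩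
    have hw : g.map (y.map m₁) ≫ (g.map (pIso y g f Y).hom ≫ Y.obj.snd.obj.iso.hom) =
        (g.map (pIso y g f X).hom ≫ X.obj.snd.obj.iso.hom) ≫ f.map m₂ := by
      rw [hm₁, hm₂]; exact m.hom.w
    obtain ⟨n₁, hn₁⟩ : ∃ n₁ : X.obj.snd.obj.fst ⟶ Y.obj.snd.obj.fst,
        n₁ = (pIso y g f X).inv ≫ y.map m₁ ≫ (pIso y g f Y).hom := ⟨_, rfl⟩
    have wn : g.map n₁ ≫ Y.obj.snd.obj.iso.hom = X.obj.snd.obj.iso.hom ≫ f.map m₂ := by
      rw [hn₁, g.map_comp, g.map_comp, Category.assoc, Category.assoc, hw, ← Category.assoc,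
        ← Category.assoc, ← g.map_comp, Iso.inv_hom_id, g.map_id, Category.id_comp]
    let ν : X.obj.snd ⟶ Y.obj.snd := fpHomMk n₁ m₂ wn
    have wy : y.map m₁ ≫ Y.obj.iso.hom = X.obj.iso.hom ≫ (FibCat.fpFst g f).map ν := by
      show y.map m₁ ≫ (pIso y g f Y).hom = (pIso y g f X).hom ≫ n₁
      rw [hn₁, Iso.hom_inv_id_assoc]
    refine ⟨fpHomMk m₁ ν wy, ?_⟩
    apply fp_hom_ext
    · exact hm₁
    · exact hm₂

lemma pasteL_hasPre : HasPre (pasteL y g f) := by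
  intro T
  have hT : 𝒴.p.IsHomLift (𝟙 (𝒲.p.obj T.obj.fst)) T.obj.iso.hom := T.property
  have hTg : 𝒴.p.IsHomLift (𝟙 (𝒵.p.obj (y.obj T.obj.fst))) T.obj.iso.hom := by
    rw [y.w_obj]; exact hT
  let ξ : (FibCat.fp g f).obj := fpMk g f (y.obj T.obj.fst) T.obj.snd T.obj.iso hTg
  have hid : 𝒵.p.IsHomLift (𝟙 (𝒲.p.obj T.obj.fst)) (Iso.refl (y.obj T.obj.fst)).hom :=
    IsHomLift.id (y.w_obj _)
  let X : (FibCat.fp y (FibCat.fpFst g f)).obj :=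
    fpMk y (FibCat.fpFst g f) T.obj.fst ξ (Iso.refl _) hid
  have w : g.map (y.map (Iso.refl T.obj.fst).hom) ≫ T.obj.iso.hom =
      ((pasteL y g f).obj X).obj.iso.hom ≫ f.map (Iso.refl T.obj.snd).hom := by
    show g.map (y.map (𝟙 _)) ≫ T.obj.iso.hom = (g.map (𝟙 _) ≫ T.obj.iso.hom) ≫ f.map (𝟙 _)
    simp
  refine ⟨X, fpIsoMk (X := (pasteL y g f).obj X) (Y := T) (Iso.refl _) (Iso.refl _) w, ?_⟩
  rw [fp_isHomLift_iff]
  show 𝒲.p.IsHomLift (𝟙 (𝒲.p.obj T.obj.fst)) (𝟙 T.obj.fst)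
  infer_instance

theorem isEquivOver_pasteL : FibCat.IsEquivOver (pasteL y g f) := by
  rw [X5139]
  exact ⟨⟨pasteL_full y g f, pasteL_faithful y g f⟩, pasteL_hasPre y g f⟩

end PasteL

section PasteR

variable {𝒲 : BasedCategory.{v₂, u₂} C} {𝒵 : BasedCategory.{v₃, u₃} C} {𝒴 : BasedCategory.{v₄, u₄} C}
  {𝒳 : BasedCategory.{v₅, u₅} C} (y : 𝒲 ⥤ᵇ 𝒵) (g : 𝒴 ⥤ᵇ 𝒵) (f : 𝒳 ⥤ᵇ 𝒴)

/-- the structure iso of an object of `(𝒲 ×_𝒵 𝒴) ×_𝒴 𝒳`, with unfolded type -/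
def qIso (X : (FibCat.fp (FibCat.fpSnd y g) f).obj) : X.obj.fst.obj.snd ≅ f.obj X.obj.snd := X.obj.iso

lemma qIso_w {X Y : (FibCat.fp (FibCat.fpSnd y g) f).obj} (φ : X ⟶ Y) :
    φ.hom.fst.hom.snd ≫ (qIso y g f Y).hom = (qIso y g f X).hom ≫ f.map φ.hom.snd := φ.hom.w

lemma fst_w {X Y : (FibCat.fp (FibCat.fpSnd y g) f).obj} (φ : X ⟶ Y) :
    y.map φ.hom.fst.hom.fst ≫ Y.obj.fst.obj.iso.hom =
      X.obj.fst.obj.iso.hom ≫ g.map φ.hom.fst.hom.snd := φ.hom.fst.hom.w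

/-- iso component of the right pasting functor -/
def pasteRIso (X : (FibCat.fp (FibCat.fpSnd y g) f).obj) :
    y.obj X.obj.fst.obj.fst ≅ g.obj (f.obj X.obj.snd) :=
  X.obj.fst.obj.iso ≪≫ g.toFunctor.mapIso (qIso y g f X)

lemma pasteRIso_hom (X : (FibCat.fp (FibCat.fpSnd y g) f).obj) :
    (pasteRIso y g f X).hom = X.obj.fst.obj.iso.hom ≫ g.map (qIso y g f X).hom := rfl

lemma pasteR_aux1 (X : (FibCat.fp (FibCat.fpSnd y g) f).obj) :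
    𝒴.p.IsHomLift (𝟙 (𝒲.p.obj X.obj.fst.obj.fst)) (qIso y g f X).hom := X.property

lemma pasteR_aux3 (X : (FibCat.fp (FibCat.fpSnd y g) f).obj) :
    𝒵.p.IsHomLift (𝟙 (𝒲.p.obj X.obj.fst.obj.fst)) X.obj.fst.obj.iso.hom := X.obj.fst.property

lemma pasteRIso_isHomLift (X : (FibCat.fp (FibCat.fpSnd y g) f).obj) :
    𝒵.p.IsHomLift (𝟙 (𝒲.p.obj X.obj.fst.obj.fst)) (pasteRIso y g f X).hom := by
  rw [pasteRIso_hom]
  have h1 := pasteR_aux1 y g f X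
  have h2 := pasteR_aux3 y g f X
  have h3 : 𝒵.p.IsHomLift (𝟙 (𝒲.p.obj X.obj.fst.obj.fst)) (g.map (qIso y g f X).hom) := inferInstance
  infer_instance

/-- the 2-iso for the right pasting functor -/
def pasteRE : BasedFunctor.comp (BasedFunctor.comp (FibCat.fpFst (FibCat.fpSnd y g) f) (FibCat.fpFst y g)) y ≅
    BasedFunctor.comp (FibCat.fpSnd (FibCat.fpSnd y g) f) (BasedFunctor.comp f g) :=
  BasedNatIso.mkNatIso
    (NatIso.ofComponents (fun X => pasteRIso y g f X) (by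
      intro X Y φ
      show y.map φ.hom.fst.hom.fst ≫ (pasteRIso y g f Y).hom =
        (pasteRIso y g f X).hom ≫ g.map (f.map φ.hom.snd)
      rw [pasteRIso_hom, pasteRIso_hom]
      have w1 := qIso_w y g f φ
      have w2 := fst_w y g f φ
      rw [← Category.assoc, w2, Category.assoc, Category.assoc, ← g.map_comp, ← g.map_comp, w1]))
    (fun X => pasteRIso_isHomLift y g f X)

/-- right pasting: `(𝒲 ×_𝒵 𝒴) ×_𝒴 𝒳 ⟶ 𝒲 ×_𝒵 𝒳` -/
def pasteR : FibCat.fp (FibCat.fpSnd y g) f ⥤ᵇ FibCat.fp y (BasedFunctor.comp f g) :=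
  FibCat.fpLift (BasedFunctor.comp (FibCat.fpFst (FibCat.fpSnd y g) f) (FibCat.fpFst y g))
    (FibCat.fpSnd (FibCat.fpSnd y g) f) (pasteRE y g f)

lemma pasteR_faithful : (pasteR y g f).toFunctor.Faithful where
  map_injective := by
    intro X Y φ ψ h
    have h1 : φ.hom.fst.hom.fst = ψ.hom.fst.hom.fst := congrArg (fun t => t.hom.fst) h
    have h2 : φ.hom.snd = ψ.hom.snd := congrArg (fun t => t.hom.snd) h
    have w1 := qIso_w y g f φ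
    have w2 := qIso_w y g f ψ
    have h3 : φ.hom.fst.hom.snd = ψ.hom.fst.hom.snd := by
      rw [← cancel_mono (qIso y g f Y).hom, w1, w2, h2]
    apply fp_hom_ext _ h2
    exact fp_hom_ext h1 h3

lemma pasteR_full : (pasteR y g f).toFunctor.Full where
  map_surjective := by
    intro X Y m
    obtain ⟨m₁, hm₁⟩ : ∃ m₁ : X.obj.fst.obj.fst ⟶ Y.obj.fst.obj.fst, m₁ = m.hom.fst := ⟨_, rfl⟩
    obtain ⟨m₂, hm₂⟩ : ∃ m₂ : X.obj.snd ⟶ Y.obj.snd, m₂ = m.hom.snd := ⟨_, rfl⟩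
    have hw : y.map m₁ ≫ (Y.obj.fst.obj.iso.hom ≫ g.map (qIso y g f Y).hom) =
        (X.obj.fst.obj.iso.hom ≫ g.map (qIso y g f X).hom) ≫ g.map (f.map m₂) := by
      rw [hm₁, hm₂]; exact m.hom.w
    obtain ⟨n₁, hn₁⟩ : ∃ n₁ : X.obj.fst.obj.snd ⟶ Y.obj.fst.obj.snd,
        n₁ = (qIso y g f X).hom ≫ f.map m₂ ≫ (qIso y g f Y).inv := ⟨_, rfl⟩
    have wn : y.map m₁ ≫ Y.obj.fst.obj.iso.hom = X.obj.fst.obj.iso.hom ≫ g.map n₁ := by
      rw [hn₁, g.map_comp, g.map_comp, ← Category.assoc, ← Category.assoc,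
        ← cancel_mono (g.map (qIso y g f Y).hom)]
      simp only [Category.assoc]
      rw [← g.map_comp (qIso y g f Y).inv, Iso.inv_hom_id, g.map_id, Category.comp_id]
      simpa only [Category.assoc] using hw
    let ν : X.obj.fst ⟶ Y.obj.fst := fpHomMk m₁ n₁ wn
    have wy : (FibCat.fpSnd y g).map ν ≫ Y.obj.iso.hom = X.obj.iso.hom ≫ f.map m₂ := by
      show n₁ ≫ (qIso y g f Y).hom = (qIso y g f X).hom ≫ f.map m₂
      rw [hn₁, Category.assoc, Category.assoc, Iso.inv_hom_id, Category.comp_id]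
    refine ⟨fpHomMk ν m₂ wy, ?_⟩
    apply fp_hom_ext
    · exact hm₁
    · exact hm₂

lemma pasteR_hasPre : HasPre (pasteR y g f) := by
  intro T
  have hT : 𝒵.p.IsHomLift (𝟙 (𝒲.p.obj T.obj.fst)) T.obj.iso.hom := T.property
  let ξ : (FibCat.fp y g).obj := fpMk y g T.obj.fst (f.obj T.obj.snd) T.obj.iso hT
  have hid : 𝒴.p.IsHomLift (𝟙 ((FibCat.fp y g).p.obj ξ)) (Iso.refl (f.obj T.obj.snd)).hom := by
    have e : 𝒴.p.obj (f.obj T.obj.snd) = (FibCat.fp y g).p.obj ξ := (FibCat.fpSnd y g).w_obj ξ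
    exact IsHomLift.id e
  let X : (FibCat.fp (FibCat.fpSnd y g) f).obj :=
    fpMk (FibCat.fpSnd y g) f ξ T.obj.snd (Iso.refl _) hid
  have w : y.map (Iso.refl T.obj.fst).hom ≫ T.obj.iso.hom =
      ((pasteR y g f).obj X).obj.iso.hom ≫ g.map (f.map (Iso.refl T.obj.snd).hom) := by
    have key : ∀ (t : y.obj T.obj.fst ⟶ g.obj (f.obj T.obj.snd)),
        y.map (𝟙 _) ≫ t = (t ≫ g.map (𝟙 _)) ≫ g.map (f.map (𝟙 _)) := by
      intro t; simp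
    exact key _
  refine ⟨X, fpIsoMk (X := (pasteR y g f).obj X) (Y := T) (Iso.refl _) (Iso.refl _) w, ?_⟩
  rw [fp_isHomLift_iff]
  show 𝒲.p.IsHomLift (𝟙 (𝒲.p.obj T.obj.fst)) (𝟙 T.obj.fst)
  infer_instance

theorem isEquivOver_pasteR : FibCat.IsEquivOver (pasteR y g f) := by
  rw [X5139]
  exact ⟨⟨pasteR_full y g f, pasteR_faithful y g f⟩, pasteR_hasPre y g f⟩

end PasteR

section Rep

variable {𝒳 : BasedCategory.{v₂, u₂} C} {𝒴 : BasedCategory.{v₃, u₃} C}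

lemma isEquivOver_symm {F : 𝒳 ⥤ᵇ 𝒴} (hF : FibCat.IsEquivOver F) :
    ∃ G : 𝒴 ⥤ᵇ 𝒳, FibCat.IsEquivOver G ∧ Nonempty (BasedFunctor.comp F G ≅ BasedFunctor.id 𝒳) ∧
      Nonempty (BasedFunctor.comp G F ≅ BasedFunctor.id 𝒴) := by
  obtain ⟨G, ⟨e₁⟩, ⟨e₂⟩⟩ := hF
  exact ⟨G, ⟨F, ⟨e₂⟩, ⟨e₁⟩⟩, ⟨e₁⟩, ⟨e₂⟩⟩

/-- representability is invariant under equivalence over `C` -/
theorem isRepresentable_of_isEquivOver (F : 𝒳 ⥤ᵇ 𝒴) (hF : FibCat.IsEquivOver F)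
    (h : FibCat.IsRepresentable 𝒴) : FibCat.IsRepresentable 𝒳 := by
  obtain ⟨U, E, hE⟩ := h
  exact ⟨U, BasedFunctor.comp F E, isEquivOver_comp F E hF hE⟩

theorem isRepresentable_iff_of_isEquivOver (F : 𝒳 ⥤ᵇ 𝒴) (hF : FibCat.IsEquivOver F) :
    FibCat.IsRepresentable 𝒳 ↔ FibCat.IsRepresentable 𝒴 := by
  constructor
  · intro h
    obtain ⟨G, hG, _, _⟩ := isEquivOver_symm hF
    exact isRepresentable_of_isEquivOver G hG h
  · exact isRepresentable_of_isEquivOver F hF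

end Rep

section Rep1

/-- base change of a representable 1-morphism (S12786) -/
theorem isRepresentable1_fpFst {𝒳 : BasedCategory.{v₂, u₂} C} {𝒴 : BasedCategory.{v₃, u₃} C}
    {𝒵 : BasedCategory.{v₄, u₄} C}
    (f : 𝒳 ⥤ᵇ 𝒴) (g : 𝒵 ⥤ᵇ 𝒴) (hf : FibCat.IsRepresentable1 f) :
    FibCat.IsRepresentable1 (FibCat.fpFst g f) := by
  intro U G
  exact isRepresentable_of_isEquivOver (pasteL G g f) (isEquivOver_pasteL G g f)
    (hf U (BasedFunctor.comp G g))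

/-- the identity 2-isomorphism `comp F (id) ≅ comp (id) F` -/
def idSq {𝒳 : BasedCategory.{v₂, u₂} C} {𝒴 : BasedCategory.{v₃, u₃} C} (F : 𝒳 ⥤ᵇ 𝒴) :
    BasedFunctor.comp F (BasedFunctor.id 𝒴) ≅ BasedFunctor.comp (BasedFunctor.id 𝒳) F :=
  Iso.refl _

/-- composition of representable 1-morphisms (S12785) -/
theorem isRepresentable1_comp {𝒳 𝒴 𝒵 : BasedCategory.{v, max u v} C}
    (f : 𝒳 ⥤ᵇ 𝒴) (g : 𝒴 ⥤ᵇ 𝒵) (hf : FibCat.IsRepresentable1 f) (hg : FibCat.IsRepresentable1 g) :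
    FibCat.IsRepresentable1 (BasedFunctor.comp f g) := by
  intro U G
  obtain ⟨V, E, hE⟩ := hg U G
  obtain ⟨E', hE', ⟨e₁⟩, ⟨e₂⟩⟩ := isEquivOver_symm hE
  -- `fp G (f ≫ g) ≃ fp (fpSnd G g) f ≃ fp (E' ≫ fpSnd G g) f`
  have h1 := hf V (BasedFunctor.comp E' (FibCat.fpSnd G g))
  let α : BasedFunctor.comp (BasedFunctor.comp E' (FibCat.fpSnd G g)) (BasedFunctor.id 𝒴) ≅
      BasedFunctor.comp E' (FibCat.fpSnd G g) := Iso.refl _
  let M := fpMap (F' := BasedFunctor.comp E' (FibCat.fpSnd G g)) (G' := f)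
    (F := FibCat.fpSnd G g) (G := f) E' (BasedFunctor.id 𝒳) (BasedFunctor.id 𝒴) α (idSq f)
  have hM : FibCat.IsEquivOver M := by
    have : (BasedFunctor.id 𝒴).toFunctor.Full := Functor.Full.id
    have : (BasedFunctor.id 𝒴).toFunctor.Faithful := Functor.Faithful.id
    exact isEquivOver_fpMap _ _ _ _ _ hE' isEquivOver_id
  have h2 : FibCat.IsRepresentable (FibCat.fp (FibCat.fpSnd G g) f) :=
    (isRepresentable_iff_of_isEquivOver M hM).1 h1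
  exact (isRepresentable_iff_of_isEquivOver (pasteR G g f) (isEquivOver_pasteR G g f)).1 h2

/-- whiskering an inverse pair: `((G ≫ b') ≫ b) ≫ 𝟙 ≅ 𝟙 ≫ G` -/
def compInvSq {𝒜 : BasedCategory.{v₂, u₂} C} {𝒴 : BasedCategory.{v₃, u₃} C} {𝒴' : BasedCategory.{v₄, u₄} C}
    (G : 𝒜 ⥤ᵇ 𝒴) (b' : 𝒴 ⥤ᵇ 𝒴') (b : 𝒴' ⥤ᵇ 𝒴)
    (e₂ : BasedFunctor.comp b' b ≅ BasedFunctor.id 𝒴) :
    BasedFunctor.comp (BasedFunctor.comp (BasedFunctor.comp G b') b) (BasedFunctor.id 𝒴) ≅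
      BasedFunctor.comp (BasedFunctor.id 𝒜) G :=
  BasedNatIso.mkNatIso
    (NatIso.ofComponents (fun x => appIso e₂ (G.obj x))
      (fun {x x'} φ => appIso_hom_naturality e₂ (G.map φ)))
    (fun x => appIso_hom_isHomLift e₂ (G.obj x) (G.w_obj x))

/-- one direction of S12784 -/
theorem isRepresentable1_of_square {𝒳 : BasedCategory.{v₂, u₂} C} {𝒴 : BasedCategory.{v₃, u₃} C}
    {𝒳' : BasedCategory.{v₄, u₄} C} {𝒴' : BasedCategory.{v₅, u₅} C}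
    (f : 𝒳 ⥤ᵇ 𝒴) (f' : 𝒳' ⥤ᵇ 𝒴') (a : 𝒳' ⥤ᵇ 𝒳) (b : 𝒴' ⥤ᵇ 𝒴)
    (ha : FibCat.IsEquivOver a) (hb : FibCat.IsEquivOver b)
    (e : BasedFunctor.comp f' b ≅ BasedFunctor.comp a f) (hf : FibCat.IsRepresentable1 f) :
    FibCat.IsRepresentable1 f' := by
  intro U G'
  have hb' := (X5139 b).1 hb
  obtain ⟨⟨hb1, hb2⟩, _⟩ := hb'
  let α : BasedFunctor.comp G' b ≅
      BasedFunctor.comp (BasedFunctor.id (FibCat.overCat U)) (BasedFunctor.comp G' b) := Iso.refl _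
  let M := fpMap (F' := G') (G' := f') (F := BasedFunctor.comp G' b) (G := f)
    (BasedFunctor.id (FibCat.overCat U)) a b α e
  have hM : FibCat.IsEquivOver M := isEquivOver_fpMap _ _ _ _ _ isEquivOver_id ha
  exact isRepresentable_of_isEquivOver M hM (hf U (BasedFunctor.comp G' b))

theorem isRepresentable1_of_square' {𝒳 : BasedCategory.{v₂, u₂} C} {𝒴 : BasedCategory.{v₃, u₃} C}
    {𝒳' : BasedCategory.{v₄, u₄} C} {𝒴' : BasedCategory.{v₅, u₅} C}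
    (f : 𝒳 ⥤ᵇ 𝒴) (f' : 𝒳' ⥤ᵇ 𝒴') (a : 𝒳' ⥤ᵇ 𝒳) (b : 𝒴' ⥤ᵇ 𝒴)
    (ha : FibCat.IsEquivOver a) (hb : FibCat.IsEquivOver b)
    (e : BasedFunctor.comp f' b ≅ BasedFunctor.comp a f) (hf' : FibCat.IsRepresentable1 f') :
    FibCat.IsRepresentable1 f := by
  intro U G
  have hb' := (X5139 b).1 hb
  obtain ⟨⟨hb1, hb2⟩, _⟩ := hb'
  obtain ⟨b', hb'e, ⟨e₁⟩, ⟨e₂⟩⟩ := isEquivOver_symm hb
  -- `fp (G ≫ b') f' ≃ fp ((G ≫ b') ≫ b) f ≃ fp G f`
  let G'' := BasedFunctor.comp G b'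
  let α : BasedFunctor.comp G'' b ≅
      BasedFunctor.comp (BasedFunctor.id (FibCat.overCat U)) (BasedFunctor.comp G'' b) := Iso.refl _
  let M := fpMap (F' := G'') (G' := f') (F := BasedFunctor.comp G'' b) (G := f)
    (BasedFunctor.id (FibCat.overCat U)) a b α e
  have hM : FibCat.IsEquivOver M := isEquivOver_fpMap _ _ _ _ _ isEquivOver_id ha
  let N := fpMap (F' := BasedFunctor.comp G'' b) (G' := f) (F := G) (G := f)
    (BasedFunctor.id (FibCat.overCat U)) (BasedFunctor.id 𝒳) (BasedFunctor.id 𝒴)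
    (compInvSq G b' b e₂) (idSq f)
  have hN : FibCat.IsEquivOver N := by
    have : (BasedFunctor.id 𝒴).toFunctor.Full := Functor.Full.id
    have : (BasedFunctor.id 𝒴).toFunctor.Faithful := Functor.Faithful.id
    exact isEquivOver_fpMap _ _ _ _ _ isEquivOver_id isEquivOver_id
  have h1 : FibCat.IsRepresentable (FibCat.fp (BasedFunctor.comp G'' b) f) :=
    (isRepresentable_iff_of_isEquivOver M hM).1 (hf' U G'')
  exact (isRepresentable_iff_of_isEquivOver N hN).1 h1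

end Rep1

end Groth.Agent.H3.FpCalc
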