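import Mathlib
import Groth.Prelude.Def_FibCat2
import Groth.Prelude.Def_AlgSt2
import Groth.Agent.Lib.Helper3.FibCatAux
import Groth.Agent.Lib.Helper3.GerbAux
import Groth.Agent.Lib.Helper3.FpCalc

set_option autoImplicit false

universe v₉ u₉ v₈ u₈ v₇ u₇ v₆ u₆ v₅ u₅ v₄ u₄ v₃ u₃ v₂ u₂ w v u

open CategoryTheory CategoryTheory.Functor CategoryTheory.Limits Opposite AlgebraicGeometry

namespace Groth.Agent.H3.AlgStAux

open Groth.Agent.H3.FibCatAux Groth.Agent.H3.GerbAux Groth.Agent.H3.FpCalc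

variable {S : Scheme.{u}}

lemma over_hom_eq_of_isHomLift_id {D : Type u₂} [Category.{v₂} D] {U T : D} {A A' : Over U} (i : A ⟶ A')
    [hi : (Over.forget U).IsHomLift (𝟙 T) i] (hA : A.left = T) (hA' : A'.left = T) :
    eqToHom hA.symm ≫ A.hom = eqToHom hA'.symm ≫ A'.hom := by
  have h1 : i.left ≫ A'.hom = A.hom := Over.w i
  have h2 : (Over.forget U).map i = eqToHom hA ≫ 𝟙 T ≫ eqToHom hA'.symm :=
    IsHomLift.fac' (Over.forget U) (𝟙 T) i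
  have h3 : i.left = eqToHom hA ≫ 𝟙 T ≫ eqToHom hA'.symm := h2
  rw [← h1, h3]
  simp

/-- `spMapOfOver` only depends on the functor up to pointwise morphisms over identities -/
lemma spMapOfOver_eq_of_pointwise {F : AlgSp.Sp S} {U : Over S}
    {Φ Φ' : AlgSt.ofSp F ⥤ᵇ FibCat.overCat U}
    (h : ∀ a : (AlgSt.ofSp F).obj, ∃ i : Φ.obj a ⟶ Φ'.obj a,
      (Over.forget U).IsHomLift (𝟙 a.base) i) :
    AlgSt.spMapOfOver Φ = AlgSt.spMapOfOver Φ' := by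
  apply ObjectProperty.hom_ext
  ext T x
  induction T using Opposite.rec with | _ T => ?_
  show (AlgSt.spMapOfOver Φ).hom.app (op T) x = (AlgSt.spMapOfOver Φ').hom.app (op T) x
  rw [AlgSt.spMapOfOver_app, AlgSt.spMapOfOver_app]
  apply ULift.ext
  show AlgSt.secHom Φ ⟨T, x⟩ = AlgSt.secHom Φ' ⟨T, x⟩
  obtain ⟨i, hi⟩ := h ⟨T, x⟩
  exact over_hom_eq_of_isHomLift_id (T := T) (hi := hi) i (Φ.w_obj ⟨T, x⟩) (Φ'.w_obj ⟨T, x⟩)


/-- transfer of "representable by an algebraic space with `P`" along an equivalence compatible with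
the projections to `(Sch/U)` -/
theorem repWith_transfer (P : MorphismProperty (AlgSp.Sp S)) {𝒫₀ : BasedCategory.{v₂, u₂} (Over S)}
    {𝒬 : BasedCategory.{v₃, u₃} (Over S)} {U : Over S}
    (π : 𝒫₀ ⥤ᵇ FibCat.overCat U) (π' : 𝒬 ⥤ᵇ FibCat.overCat U) (M : 𝒬 ⥤ᵇ 𝒫₀)
    (hM : FibCat.IsEquivOver M)
    (θ : ∀ x' : 𝒬.obj, ∃ i : π'.obj x' ⟶ π.obj (M.obj x'),
      (Over.forget U).IsHomLift (𝟙 (𝒬.p.obj x')) i)
    (h : ∃ (F : AlgSp.Space S) (e : AlgSt.ofSp F.obj ⥤ᵇ 𝒫₀), FibCat.IsEquivOver e ∧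
      P (AlgSt.spMapOfOver (BasedFunctor.comp e π))) :
    ∃ (F : AlgSp.Space S) (e : AlgSt.ofSp F.obj ⥤ᵇ 𝒬), FibCat.IsEquivOver e ∧
      P (AlgSt.spMapOfOver (BasedFunctor.comp e π')) := by
  obtain ⟨F, e₀, he₀, hP⟩ := h
  obtain ⟨M', hM', ⟨e₁⟩, ⟨e₂⟩⟩ := isEquivOver_symm hM
  refine ⟨F, BasedFunctor.comp e₀ M', isEquivOver_comp e₀ M' he₀ hM', ?_⟩
  have key : AlgSt.spMapOfOver (BasedFunctor.comp (BasedFunctor.comp e₀ M') π') =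
      AlgSt.spMapOfOver (BasedFunctor.comp e₀ π) := by
    apply spMapOfOver_eq_of_pointwise
    intro a
    obtain ⟨i, hi⟩ := θ (M'.obj (e₀.obj a))
    have hbase : 𝒬.p.obj (M'.obj (e₀.obj a)) = a.base :=
      (M'.w_obj _).trans (e₀.w_obj a)
    rw [hbase] at hi
    have h2 : 𝒫₀.p.IsHomLift (𝟙 a.base) (appIso e₂ (e₀.obj a)).hom :=
      appIso_hom_isHomLift e₂ (e₀.obj a) (e₀.w_obj a)
    obtain ⟨j, hj⟩ : ∃ j : M.obj (M'.obj (e₀.obj a)) ⟶ e₀.obj a, 𝒫₀.p.IsHomLift (𝟙 a.base) j :=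
      ⟨(appIso e₂ (e₀.obj a)).hom, h2⟩
    have h3 : (Over.forget U).IsHomLift (𝟙 a.base) (π.map j) :=
      BasedFunctor.preserves_isHomLift π (𝟙 a.base) j
    have h4 : (Over.forget U).IsHomLift (𝟙 a.base) (i ≫ π.map j) := inferInstance
    exact ⟨i ≫ π.map j, h4⟩
  rw [key]
  exact hP


/-- forward transfer -/
theorem repWith_transfer' (P : MorphismProperty (AlgSp.Sp S)) {𝒫₀ : BasedCategory.{v₂, u₂} (Over S)}
    {𝒬 : BasedCategory.{v₃, u₃} (Over S)} {U : Over S}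
    (π : 𝒫₀ ⥤ᵇ FibCat.overCat U) (π' : 𝒬 ⥤ᵇ FibCat.overCat U) (M : 𝒫₀ ⥤ᵇ 𝒬)
    (hM : FibCat.IsEquivOver M)
    (θ : ∀ x : 𝒫₀.obj, ∃ i : π'.obj (M.obj x) ⟶ π.obj x,
      (Over.forget U).IsHomLift (𝟙 (𝒫₀.p.obj x)) i)
    (h : ∃ (F : AlgSp.Space S) (e : AlgSt.ofSp F.obj ⥤ᵇ 𝒫₀), FibCat.IsEquivOver e ∧
      P (AlgSt.spMapOfOver (BasedFunctor.comp e π))) :
    ∃ (F : AlgSp.Space S) (e : AlgSt.ofSp F.obj ⥤ᵇ 𝒬), FibCat.IsEquivOver e ∧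
      P (AlgSt.spMapOfOver (BasedFunctor.comp e π')) := by
  obtain ⟨F, e₀, he₀, hP⟩ := h
  refine ⟨F, BasedFunctor.comp e₀ M, isEquivOver_comp e₀ M he₀ hM, ?_⟩
  have key : AlgSt.spMapOfOver (BasedFunctor.comp (BasedFunctor.comp e₀ M) π') =
      AlgSt.spMapOfOver (BasedFunctor.comp e₀ π) := by
    apply spMapOfOver_eq_of_pointwise
    intro a
    obtain ⟨i, hi⟩ := θ (e₀.obj a)
    have hbase : 𝒫₀.p.obj (e₀.obj a) = a.base := e₀.w_obj a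
    rw [hbase] at hi
    exact ⟨i, hi⟩
  rw [key]
  exact hP

theorem repByAlgSp_of_isEquivOver {𝒫₀ : BasedCategory.{v₂, u₂} (Over S)}
    {𝒬 : BasedCategory.{v₃, u₃} (Over S)} (M : 𝒫₀ ⥤ᵇ 𝒬) (hM : FibCat.IsEquivOver M)
    (h : AlgSt.RepByAlgSp 𝒫₀) : AlgSt.RepByAlgSp 𝒬 := by
  obtain ⟨F, e, he⟩ := h
  exact ⟨F, BasedFunctor.comp e M, isEquivOver_comp e M he hM⟩

theorem repByAlgSp_iff_of_isEquivOver {𝒫₀ : BasedCategory.{v₂, u₂} (Over S)}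
    {𝒬 : BasedCategory.{v₃, u₃} (Over S)} (M : 𝒫₀ ⥤ᵇ 𝒬) (hM : FibCat.IsEquivOver M) :
    AlgSt.RepByAlgSp 𝒫₀ ↔ AlgSt.RepByAlgSp 𝒬 := by
  constructor
  · exact repByAlgSp_of_isEquivOver M hM
  · obtain ⟨M', hM', _, _⟩ := isEquivOver_symm hM
    exact repByAlgSp_of_isEquivOver M' hM'

section Sq

variable {𝒳 : BasedCategory.{v₂, u₂} (Over S)} {𝒴 : BasedCategory.{v₃, u₃} (Over S)}
  {𝒳' : BasedCategory.{v₄, u₄} (Over S)} {𝒴' : BasedCategory.{v₅, u₅} (Over S)}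

/-- base change (S12779) -/
theorem repByAlgSpWith_fpFst {𝒵 : BasedCategory.{v₄, u₄} (Over S)} (P : MorphismProperty (AlgSp.Sp S))
    (f : 𝒳 ⥤ᵇ 𝒴) (g : 𝒵 ⥤ᵇ 𝒴) (hf : AlgSt.RepByAlgSpWith P f) :
    AlgSt.RepByAlgSpWith P (FibCat.fpFst g f) := by
  intro U y
  refine repWith_transfer P (FibCat.fpFst (BasedFunctor.comp y g) f)
    (FibCat.fpFst y (FibCat.fpFst g f)) (pasteL y g f) (isEquivOver_pasteL y g f) ?_
    (hf U (BasedFunctor.comp y g))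
  intro x'
  exact ⟨𝟙 _, IsHomLift.id rfl⟩

theorem repByAlgSp1_fpFst {𝒵 : BasedCategory.{v₄, u₄} (Over S)}
    (f : 𝒳 ⥤ᵇ 𝒴) (g : 𝒵 ⥤ᵇ 𝒴) (hf : AlgSt.RepByAlgSp1 f) :
    AlgSt.RepByAlgSp1 (FibCat.fpFst g f) := by
  intro U y
  exact (repByAlgSp_iff_of_isEquivOver (pasteL y g f) (isEquivOver_pasteL y g f)).2
    (hf U (BasedFunctor.comp y g))

/-- S12782, one direction -/
theorem repByAlgSpWith_of_square (P : MorphismProperty (AlgSp.Sp S))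
    (f : 𝒳 ⥤ᵇ 𝒴) (f' : 𝒳' ⥤ᵇ 𝒴') (a : 𝒳' ⥤ᵇ 𝒳) (b : 𝒴' ⥤ᵇ 𝒴)
    (ha : FibCat.IsEquivOver a) (hb : FibCat.IsEquivOver b)
    (e : BasedFunctor.comp f' b ≅ BasedFunctor.comp a f) (hf : AlgSt.RepByAlgSpWith P f) :
    AlgSt.RepByAlgSpWith P f' := by
  intro U y'
  have hb' := (X5139 b).1 hb
  obtain ⟨⟨hb1, hb2⟩, _⟩ := hb'
  let α : BasedFunctor.comp y' b ≅
      BasedFunctor.comp (BasedFunctor.id (FibCat.overCat U)) (BasedFunctor.comp y' b) := Iso.refl _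
  let M := fpMap (F' := y') (G' := f') (F := BasedFunctor.comp y' b) (G := f)
    (BasedFunctor.id (FibCat.overCat U)) a b α e
  have hM : FibCat.IsEquivOver M := isEquivOver_fpMap _ _ _ _ _ isEquivOver_id ha
  refine repWith_transfer P (FibCat.fpFst (BasedFunctor.comp y' b) f) (FibCat.fpFst y' f') M hM ?_
    (hf U (BasedFunctor.comp y' b))
  intro x'
  exact ⟨𝟙 _, IsHomLift.id rfl⟩

theorem repByAlgSpWith_of_square' (P : MorphismProperty (AlgSp.Sp S))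
    (f : 𝒳 ⥤ᵇ 𝒴) (f' : 𝒳' ⥤ᵇ 𝒴') (a : 𝒳' ⥤ᵇ 𝒳) (b : 𝒴' ⥤ᵇ 𝒴)
    (ha : FibCat.IsEquivOver a) (hb : FibCat.IsEquivOver b)
    (e : BasedFunctor.comp f' b ≅ BasedFunctor.comp a f) (hf' : AlgSt.RepByAlgSpWith P f') :
    AlgSt.RepByAlgSpWith P f := by
  intro U y
  have hb' := (X5139 b).1 hb
  obtain ⟨⟨hb1, hb2⟩, _⟩ := hb'
  obtain ⟨b', hb'e, ⟨e₁⟩, ⟨e₂⟩⟩ := isEquivOver_symm hb
  let y'' := BasedFunctor.comp y b'
  let α : BasedFunctor.comp y'' b ≅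
      BasedFunctor.comp (BasedFunctor.id (FibCat.overCat U)) (BasedFunctor.comp y'' b) := Iso.refl _
  let M := fpMap (F' := y'') (G' := f') (F := BasedFunctor.comp y'' b) (G := f)
    (BasedFunctor.id (FibCat.overCat U)) a b α e
  have hM : FibCat.IsEquivOver M := isEquivOver_fpMap _ _ _ _ _ isEquivOver_id ha
  let N := fpMap (F' := BasedFunctor.comp y'' b) (G' := f) (F := y) (G := f)
    (BasedFunctor.id (FibCat.overCat U)) (BasedFunctor.id 𝒳) (BasedFunctor.id 𝒴)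
    (compInvSq y b' b e₂) (idSq f)
  have hN : FibCat.IsEquivOver N := by
    have : (BasedFunctor.id 𝒴).toFunctor.Full := Functor.Full.id
    have : (BasedFunctor.id 𝒴).toFunctor.Faithful := Functor.Faithful.id
    exact isEquivOver_fpMap _ _ _ _ _ isEquivOver_id isEquivOver_id
  refine repWith_transfer' P (FibCat.fpFst y'' f') (FibCat.fpFst y f) (BasedFunctor.comp M N)
    (isEquivOver_comp M N hM hN) ?_ (hf' U y'')
  intro x
  exact ⟨𝟙 _, IsHomLift.id rfl⟩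

theorem repByAlgSp1_of_square
    (f : 𝒳 ⥤ᵇ 𝒴) (f' : 𝒳' ⥤ᵇ 𝒴') (a : 𝒳' ⥤ᵇ 𝒳) (b : 𝒴' ⥤ᵇ 𝒴)
    (ha : FibCat.IsEquivOver a) (hb : FibCat.IsEquivOver b)
    (e : BasedFunctor.comp f' b ≅ BasedFunctor.comp a f) (hf : AlgSt.RepByAlgSp1 f) :
    AlgSt.RepByAlgSp1 f' := by
  intro U y'
  have hb' := (X5139 b).1 hb
  obtain ⟨⟨hb1, hb2⟩, _⟩ := hb'
  let α : BasedFunctor.comp y' b ≅
      BasedFunctor.comp (BasedFunctor.id (FibCat.overCat U)) (BasedFunctor.comp y' b) := Iso.refl _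
  let M := fpMap (F' := y') (G' := f') (F := BasedFunctor.comp y' b) (G := f)
    (BasedFunctor.id (FibCat.overCat U)) a b α e
  have hM : FibCat.IsEquivOver M := isEquivOver_fpMap _ _ _ _ _ isEquivOver_id ha
  exact (repByAlgSp_iff_of_isEquivOver M hM).2 (hf U (BasedFunctor.comp y' b))

theorem repByAlgSp1_of_square'
    (f : 𝒳 ⥤ᵇ 𝒴) (f' : 𝒳' ⥤ᵇ 𝒴') (a : 𝒳' ⥤ᵇ 𝒳) (b : 𝒴' ⥤ᵇ 𝒴)
    (ha : FibCat.IsEquivOver a) (hb : FibCat.IsEquivOver b)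
    (e : BasedFunctor.comp f' b ≅ BasedFunctor.comp a f) (hf' : AlgSt.RepByAlgSp1 f') :
    AlgSt.RepByAlgSp1 f := by
  intro U y
  have hb' := (X5139 b).1 hb
  obtain ⟨⟨hb1, hb2⟩, _⟩ := hb'
  obtain ⟨b', hb'e, ⟨e₁⟩, ⟨e₂⟩⟩ := isEquivOver_symm hb
  let y'' := BasedFunctor.comp y b'
  let α : BasedFunctor.comp y'' b ≅
      BasedFunctor.comp (BasedFunctor.id (FibCat.overCat U)) (BasedFunctor.comp y'' b) := Iso.refl _
  let M := fpMap (F' := y'') (G' := f') (F := BasedFunctor.comp y'' b) (G := f)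
    (BasedFunctor.id (FibCat.overCat U)) a b α e
  have hM : FibCat.IsEquivOver M := isEquivOver_fpMap _ _ _ _ _ isEquivOver_id ha
  let N := fpMap (F' := BasedFunctor.comp y'' b) (G' := f) (F := y) (G := f)
    (BasedFunctor.id (FibCat.overCat U)) (BasedFunctor.id 𝒳) (BasedFunctor.id 𝒴)
    (compInvSq y b' b e₂) (idSq f)
  have hN : FibCat.IsEquivOver N := by
    have : (BasedFunctor.id 𝒴).toFunctor.Full := Functor.Full.id
    have : (BasedFunctor.id 𝒴).toFunctor.Faithful := Functor.Faithful.id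
    exact isEquivOver_fpMap _ _ _ _ _ isEquivOver_id isEquivOver_id
  exact (repByAlgSp_iff_of_isEquivOver (BasedFunctor.comp M N) (isEquivOver_comp M N hM hN)).1
    (hf' U y'')

end Sq

section DiagSq

variable {C : Type u} [Category.{v} C] {𝒳 : BasedCategory.{v₂, u₂} C} {𝒴 : BasedCategory.{v₃, u₃} C}
  (e : 𝒳 ⥤ᵇ 𝒴)

/-- the 2-iso `toSelf 𝒳 ≫ 𝟙 ≅ e ≫ toSelf 𝒴` -/
def toSelfSq : BasedFunctor.comp (FibCat.toSelf 𝒳) (BasedFunctor.id (FibCat.selfOver C)) ≅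
    BasedFunctor.comp e (FibCat.toSelf 𝒴) :=
  eqToIso (toSelf_eq_comp e)

/-- `e × e` on self-products -/
def prodSelfMap : FibCat.fp (FibCat.toSelf 𝒳) (FibCat.toSelf 𝒳) ⥤ᵇ
    FibCat.fp (FibCat.toSelf 𝒴) (FibCat.toSelf 𝒴) :=
  fpMap e e (BasedFunctor.id (FibCat.selfOver C)) (toSelfSq e) (toSelfSq e)

lemma isEquivOver_prodSelfMap (he : FibCat.IsEquivOver e) : FibCat.IsEquivOver (prodSelfMap e) := by
  have : (BasedFunctor.id (FibCat.selfOver C)).toFunctor.Full := Functor.Full.id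
  have : (BasedFunctor.id (FibCat.selfOver C)).toFunctor.Faithful := Functor.Faithful.id
  exact isEquivOver_fpMap _ _ _ _ _ he he

/-- the square `diag ≫ (e × e) ≅ e ≫ diag` -/
def diagSq : BasedFunctor.comp (FibCat.diag (FibCat.toSelf 𝒳)) (prodSelfMap e) ≅
    BasedFunctor.comp e (FibCat.diag (FibCat.toSelf 𝒴)) :=
  BasedNatIso.mkNatIso
    (NatIso.ofComponents (fun x =>
      fpIsoMk (X := (prodSelfMap e).obj ((FibCat.diag (FibCat.toSelf 𝒳)).obj x))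
        (Y := (FibCat.diag (FibCat.toSelf 𝒴)).obj (e.obj x)) (Iso.refl (e.obj x)) (Iso.refl (e.obj x))
        (by
          show (FibCat.toSelf 𝒴).map (𝟙 (e.obj x)) ≫ 𝟙 _ =
            ((sqIso (toSelfSq e) x).inv ≫ (BasedFunctor.id (FibCat.selfOver C)).map (𝟙 _) ≫
              (sqIso (toSelfSq e) x).hom) ≫ (FibCat.toSelf 𝒴).map (𝟙 (e.obj x))
          have h1 : (BasedFunctor.id (FibCat.selfOver C)).map
              (𝟙 ((FibCat.toSelf 𝒳).obj x)) = 𝟙 _ := rfl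
          rw [h1, Category.id_comp, Iso.inv_hom_id, Category.comp_id, Category.id_comp]))
      (by
        intro x x' φ
        apply fp_hom_ext
        · show e.map φ ≫ 𝟙 _ = 𝟙 _ ≫ e.map φ
          simp
        · show e.map φ ≫ 𝟙 _ = 𝟙 _ ≫ e.map φ
          simp))
    (fun x => by
      rw [fp_isHomLift_iff]
      show 𝒴.p.IsHomLift (𝟙 (𝒳.p.obj x)) (𝟙 (e.obj x))
      exact IsHomLift.id (e.w_obj x))

end DiagSq

section AlgStack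

variable {S : Scheme.{u}}

theorem repByAlgSp1_diag_of_isEquivOver {𝒳 𝒴 : BasedCategory.{v₂, u₂} (Over S)} (e : 𝒳 ⥤ᵇ 𝒴)
    (he : FibCat.IsEquivOver e) (h : AlgSt.RepByAlgSp1 (FibCat.diag (FibCat.toSelf 𝒴))) :
    AlgSt.RepByAlgSp1 (FibCat.diag (FibCat.toSelf 𝒳)) :=
  repByAlgSp1_of_square _ _ e (prodSelfMap e) he (isEquivOver_prodSelfMap e he) (diagSq e) h

theorem repByAlgSp1_diag_of_isEquivOver' {𝒳 𝒴 : BasedCategory.{v₂, u₂} (Over S)} (e : 𝒳 ⥤ᵇ 𝒴)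
    (he : FibCat.IsEquivOver e) (h : AlgSt.RepByAlgSp1 (FibCat.diag (FibCat.toSelf 𝒳))) :
    AlgSt.RepByAlgSp1 (FibCat.diag (FibCat.toSelf 𝒴)) :=
  repByAlgSp1_of_square' _ _ e (prodSelfMap e) he (isEquivOver_prodSelfMap e he) (diagSq e) h

theorem hasAtlas_of_isEquivOver (P : MorphismProperty (AlgSp.Sp S))
    {𝒳 : BasedCategory.{v₂, u₂} (Over S)} {𝒴 : BasedCategory.{v₃, u₃} (Over S)} (e : 𝒳 ⥤ᵇ 𝒴)
    (he : FibCat.IsEquivOver e) (h : AlgSt.HasAtlas P 𝒳) : AlgSt.HasAtlas P 𝒴 := by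
  obtain ⟨U, x, h1, h2⟩ := h
  refine ⟨U, BasedFunctor.comp x e, ?_, ?_⟩
  · exact repByAlgSpWith_of_square' P (BasedFunctor.comp x e) x (BasedFunctor.id _) e isEquivOver_id he
      (Iso.refl _) h1
  · exact repByAlgSpWith_of_square' _ (BasedFunctor.comp x e) x (BasedFunctor.id _) e isEquivOver_id he
      (Iso.refl _) h2

theorem isAlgStack_of_isEquivOver {𝒳 𝒴 : AlgSt.Cat S} (e : 𝒳 ⥤ᵇ 𝒴) (he : FibCat.IsEquivOver e)
    (h : AlgSt.IsAlgStack Scheme.fppfPrecoverage 𝒳) : AlgSt.IsAlgStack Scheme.fppfPrecoverage 𝒴 where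
  isStack := (isStack_iff_of_isEquivOver _ e he).1 h.isStack
  diag := repByAlgSp1_diag_of_isEquivOver' e he h.diag
  atlas := hasAtlas_of_isEquivOver _ e he h.atlas

theorem isAlgStack_iff_of_isEquivOver {𝒳 𝒴 : AlgSt.Cat S} (e : 𝒳 ⥤ᵇ 𝒴) (he : FibCat.IsEquivOver e) :
    AlgSt.IsAlgStack Scheme.fppfPrecoverage 𝒳 ↔ AlgSt.IsAlgStack Scheme.fppfPrecoverage 𝒴 := by
  constructor
  · exact isAlgStack_of_isEquivOver e he
  · obtain ⟨e', he', _, _⟩ := isEquivOver_symm he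
    exact isAlgStack_of_isEquivOver e' he'

theorem isDM_iff_of_isEquivOver {𝒳 𝒴 : AlgSt.Cat S} (e : 𝒳 ⥤ᵇ 𝒴) (he : FibCat.IsEquivOver e) :
    AlgSt.IsDM Scheme.fppfPrecoverage 𝒳 ↔ AlgSt.IsDM Scheme.fppfPrecoverage 𝒴 := by
  obtain ⟨e', he', _, _⟩ := isEquivOver_symm he
  unfold AlgSt.IsDM
  rw [isAlgStack_iff_of_isEquivOver e he]
  constructor
  · rintro ⟨h1, h2⟩
    exact ⟨h1, hasAtlas_of_isEquivOver _ e he h2⟩
  · rintro ⟨h1, h2⟩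
    exact ⟨h1, hasAtlas_of_isEquivOver _ e' he' h2⟩

end AlgStack

end Groth.Agent.H3.AlgStAux
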