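import Mathlib
import Groth.Prelude.Def_AlgSt3
import Groth.Agent.Lib.Helper3.AlgStAux

set_option autoImplicit false
universe v₆ u₆ v₅ u₅ v₄ u₄ v₃ u₃ v₂ u₂ w v u
open CategoryTheory CategoryTheory.Functor CategoryTheory.Limits Opposite AlgebraicGeometry

namespace Groth.Agent.H3.TwoCart
open Groth.Agent.H3.FibCatAux Groth.Agent.H3.GerbAux Groth.Agent.H3.FpCalc Groth.Agent.H3.AlgStAux

section Concrete

variable {C : Type u} [Category.{v} C] {𝒳 : BasedCategory.{v₂, u₂} C} {𝒴 : BasedCategory.{v₃, u₃} C}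
  {𝒮 : BasedCategory.{v₄, u₄} C} {𝒲 : BasedCategory.{v₅, u₅} C}
  (F : 𝒳 ⥤ᵇ 𝒮) (G : 𝒴 ⥤ᵇ 𝒮) (a : 𝒲 ⥤ᵇ 𝒳) (b : 𝒲 ⥤ᵇ 𝒴)
  (e : BasedFunctor.comp a F ≅ BasedFunctor.comp b G)

lemma fpLift_obj_iso_hom (w : 𝒲.obj) :
    ((FibCat.fpLift a b e).obj w).obj.iso.hom = e.hom.toNatTrans.app w := rfl

/-- a concrete criterion for a square to be 2-cartesian -/
theorem isTwoCartOver_of_concrete
    (hfaith : ∀ ⦃w w' : 𝒲.obj⦄ (φ ψ : w ⟶ w'), a.map φ = a.map ψ → b.map φ = b.map ψ → φ = ψ)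
    (hfull : ∀ ⦃w w' : 𝒲.obj⦄ (α : a.obj w ⟶ a.obj w') (β : b.obj w ⟶ b.obj w'),
      F.map α ≫ e.hom.toNatTrans.app w' = e.hom.toNatTrans.app w ≫ G.map β →
      ∃ φ : w ⟶ w', a.map φ = α ∧ b.map φ = β)
    (hpre : ∀ (x : 𝒳.obj) (y : 𝒴.obj) (ι : F.obj x ≅ G.obj y),
      𝒮.p.IsHomLift (𝟙 (𝒳.p.obj x)) ι.hom →
      ∃ (w : 𝒲.obj) (i : a.obj w ≅ x) (j : b.obj w ≅ y),
        𝒳.p.IsHomLift (𝟙 (𝒳.p.obj x)) i.hom ∧
          F.map i.hom ≫ ι.hom = e.hom.toNatTrans.app w ≫ G.map j.hom) :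
    FibCat.IsTwoCartOver a b e := by
  unfold FibCat.IsTwoCartOver
  rw [X5139]
  refine ⟨⟨⟨?_⟩, ⟨?_⟩⟩, ?_⟩
  · intro w w' Φ
    obtain ⟨φ, h1, h2⟩ := hfull Φ.hom.fst Φ.hom.snd Φ.hom.w
    exact ⟨φ, fp_hom_ext h1 h2⟩
  · intro w w' φ ψ h
    have h1 : a.map φ = a.map ψ := congrArg (fun t => t.hom.fst) h
    have h2 : b.map φ = b.map ψ := congrArg (fun t => t.hom.snd) h
    exact hfaith φ ψ h1 h2
  · intro z
    obtain ⟨w, i, j, hi, hw⟩ := hpre z.obj.fst z.obj.snd z.obj.iso z.property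
    refine ⟨w, fpIsoMk i j hw, ?_⟩
    rw [fp_isHomLift_iff]
    exact hi

end Concrete

section Transfer

variable {S : Scheme.{u}} {𝒳 : BasedCategory.{v₂, u₂} (Over S)} {𝒴 : BasedCategory.{v₃, u₃} (Over S)}
  {𝒮 : BasedCategory.{v₄, u₄} (Over S)} {𝒲 : BasedCategory.{v₅, u₅} (Over S)}

/-- base change of "representable by algebraic spaces with `P`" along a 2-cartesian square -/
theorem repByAlgSpWith_of_isTwoCartOver (P : MorphismProperty (AlgSp.Sp S))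
    (F : 𝒳 ⥤ᵇ 𝒮) (G : 𝒴 ⥤ᵇ 𝒮) (a : 𝒲 ⥤ᵇ 𝒳) (b : 𝒲 ⥤ᵇ 𝒴)
    (e : BasedFunctor.comp a F ≅ BasedFunctor.comp b G) (h : FibCat.IsTwoCartOver a b e)
    (hG : AlgSt.RepByAlgSpWith P G) : AlgSt.RepByAlgSpWith P a := by
  have h1 : AlgSt.RepByAlgSpWith P (FibCat.fpFst F G) := repByAlgSpWith_fpFst P G F hG
  let e' : BasedFunctor.comp a (BasedFunctor.id 𝒳) ≅
      BasedFunctor.comp (FibCat.fpLift a b e) (FibCat.fpFst F G) := Iso.refl _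
  exact repByAlgSpWith_of_square P (FibCat.fpFst F G) a (FibCat.fpLift a b e) (BasedFunctor.id 𝒳)
    h isEquivOver_id e' h1

end Transfer

section FpIsoComponents

variable {C : Type u} [Category.{v} C] {𝒳 : BasedCategory.{v₂, u₂} C} {𝒴 : BasedCategory.{v₃, u₃} C}
  {𝒮 : BasedCategory.{v₄, u₄} C} {F : 𝒳 ⥤ᵇ 𝒮} {G : 𝒴 ⥤ᵇ 𝒮}

/-- first component of an isomorphism of the 2-fibre product -/
def fstIso {X Y : (FibCat.fp F G).obj} (i : X ≅ Y) : X.obj.fst ≅ Y.obj.fst :=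
  (FibCat.fpFst F G).toFunctor.mapIso i

/-- second component of an isomorphism of the 2-fibre product -/
def sndIso {X Y : (FibCat.fp F G).obj} (i : X ≅ Y) : X.obj.snd ≅ Y.obj.snd :=
  (FibCat.fpSnd F G).toFunctor.mapIso i

@[simp] lemma fstIso_hom {X Y : (FibCat.fp F G).obj} (i : X ≅ Y) : (fstIso i).hom = i.hom.hom.fst := rfl
@[simp] lemma sndIso_hom {X Y : (FibCat.fp F G).obj} (i : X ≅ Y) : (sndIso i).hom = i.hom.hom.snd := rfl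

lemma fst_isHomLift {X Y : (FibCat.fp F G).obj} (φ : X ⟶ Y) {U : C}
    (h : (FibCat.fp F G).p.IsHomLift (𝟙 U) φ) : 𝒳.p.IsHomLift (𝟙 U) φ.hom.fst :=
  (fp_isHomLift_iff F G (𝟙 U) φ).1 h

lemma snd_isHomLift {X Y : (FibCat.fp F G).obj} (φ : X ⟶ Y) {U : C}
    (h : (FibCat.fp F G).p.IsHomLift (𝟙 U) φ) : 𝒴.p.IsHomLift (𝟙 U) φ.hom.snd :=
  (FibCat.fpSnd F G).preserves_isHomLift (𝟙 U) φ

lemma iso_inv_isHomLift {𝒵 : BasedCategory.{v₅, u₅} C} {A B : 𝒵.obj} (i : A ≅ B) {U : C}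
    (h : 𝒵.p.IsHomLift (𝟙 U) i.hom) : 𝒵.p.IsHomLift (𝟙 U) i.inv := by
  have h1 := IsHomLift.inv 𝒵.p (𝟙 U) i.hom
  rw [IsIso.inv_id] at h1
  have h2 : CategoryTheory.inv i.hom = i.inv := IsIso.Iso.inv_hom i
  rw [h2] at h1
  exact h1

end FpIsoComponents

section Magic

variable {C : Type u} [Category.{v} C] {𝒳 : BasedCategory.{v₂, u₂} C} {𝒴 : BasedCategory.{v₃, u₃} C}
  {𝒵 : BasedCategory.{v₄, u₄} C} {𝒯 : BasedCategory.{v₅, u₅} C}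
  (f : 𝒳 ⥤ᵇ 𝒵) (g : 𝒴 ⥤ᵇ 𝒵) (t : 𝒵 ⥤ᵇ 𝒯)

@[simp] lemma fpIsoMk_hom_fst {F : 𝒳 ⥤ᵇ 𝒵} {G : 𝒴 ⥤ᵇ 𝒵} {X Y : (FibCat.fp F G).obj}
    (a : X.obj.fst ≅ Y.obj.fst) (b : X.obj.snd ≅ Y.obj.snd)
    (w : F.map a.hom ≫ Y.obj.iso.hom = X.obj.iso.hom ≫ G.map b.hom) :
    (fpIsoMk a b w).hom.hom.fst = a.hom := rfl

@[simp] lemma fpIsoMk_hom_snd {F : 𝒳 ⥤ᵇ 𝒵} {G : 𝒴 ⥤ᵇ 𝒵} {X Y : (FibCat.fp F G).obj}
    (a : X.obj.fst ≅ Y.obj.fst) (b : X.obj.snd ≅ Y.obj.snd)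
    (w : F.map a.hom ≫ Y.obj.iso.hom = X.obj.iso.hom ≫ G.map b.hom) :
    (fpIsoMk a b w).hom.hom.snd = b.hom := rfl

/-- the right vertical functor of the magic square -/
def magicR : FibCat.fp (BasedFunctor.comp f t) (BasedFunctor.comp g t) ⥤ᵇ FibCat.fp t t :=
  FibCat.fpLift
    (BasedFunctor.comp (FibCat.fpFst (BasedFunctor.comp f t) (BasedFunctor.comp g t)) f)
    (BasedFunctor.comp (FibCat.fpSnd (BasedFunctor.comp f t) (BasedFunctor.comp g t)) g)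
    (FibCat.fpIso (BasedFunctor.comp f t) (BasedFunctor.comp g t))

lemma magicR_obj_iso (Z : (FibCat.fp (BasedFunctor.comp f t) (BasedFunctor.comp g t)).obj) :
    ((magicR f g t).obj Z).obj.iso.hom = Z.obj.iso.hom := rfl

variable (e : BasedFunctor.comp (FibCat.fpFst f g) (BasedFunctor.comp f t) ≅
      BasedFunctor.comp (FibCat.fpSnd f g) (BasedFunctor.comp g t))
  (he : ∀ x, e.hom.toNatTrans.app x = t.map x.obj.iso.hom)

/-- the comparison functor `𝒳 ×_𝒵 𝒴 ⟶ 𝒳 ×_𝒯 𝒴` -/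
abbrev magicI : FibCat.fp f g ⥤ᵇ FibCat.fp (BasedFunctor.comp f t) (BasedFunctor.comp g t) :=
  FibCat.fpLift (FibCat.fpFst f g) (FibCat.fpSnd f g) e

/-- the left vertical functor -/
abbrev magicL : FibCat.fp f g ⥤ᵇ 𝒵 := BasedFunctor.comp (FibCat.fpFst f g) f

omit e in
lemma magic_iso_aux' (W : (FibCat.fp f g).obj) :
    t.map (𝟙 (f.obj W.obj.fst)) ≫ 𝟙 _ = t.map W.obj.iso.hom ≫ t.map W.obj.iso.inv := by
  have h2 : t.map W.obj.iso.hom ≫ t.map W.obj.iso.inv = t.map (W.obj.iso.hom ≫ W.obj.iso.inv) :=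
    (t.toFunctor.map_comp _ _).symm
  have h3 : t.map (𝟙 (f.obj W.obj.fst)) = 𝟙 _ := t.toFunctor.map_id _
  rw [h2, Iso.hom_inv_id, h3, Category.comp_id]

include he in
lemma magic_iso_aux (W : (FibCat.fp f g).obj) :
    t.map (𝟙 (f.obj W.obj.fst)) ≫ 𝟙 _ =
      ((magicR f g t).obj ((magicI f g t e).obj W)).obj.iso.hom ≫ t.map W.obj.iso.inv :=
  (magic_iso_aux' f g t W).trans
    (congrArg (fun m : t.obj (f.obj W.obj.fst) ⟶ t.obj (g.obj W.obj.snd) => m ≫ t.map W.obj.iso.inv)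
      (he W).symm)

omit e he in
lemma iso_comm_aux {D : Type u₆} [Category.{v₆} D] {A B A' B' : D} (ι : A ≅ B) (ι' : A' ≅ B')
    (u : A ⟶ A') (v : B ⟶ B') (h : v ≫ ι'.inv = ι.inv ≫ u) : u ≫ ι'.hom = ι.hom ≫ v := by
  rw [← Iso.inv_comp_eq, ← Category.assoc, ← h, Category.assoc, Iso.inv_hom_id, Category.comp_id]

omit e he in
lemma magic_nat_aux {W W' : (FibCat.fp f g).obj} (φ : W ⟶ W') :
    g.map φ.hom.snd ≫ W'.obj.iso.inv = W.obj.iso.inv ≫ f.map φ.hom.fst := by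
  have h := φ.hom.w
  rw [Iso.eq_inv_comp, ← Category.assoc, ← h, Category.assoc, Iso.hom_inv_id, Category.comp_id]

/-- the 2-isomorphism of the magic square -/
def magicE : BasedFunctor.comp (magicI f g t e) (magicR f g t) ≅
    BasedFunctor.comp (magicL f g) (FibCat.diag t) :=
  BasedNatIso.mkNatIso
    (NatIso.ofComponents
      (fun W => fpIsoMk (X := (magicR f g t).obj ((magicI f g t e).obj W))
        (Y := (FibCat.diag t).obj (f.obj W.obj.fst)) (Iso.refl (f.obj W.obj.fst)) W.obj.iso.symm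
        (magic_iso_aux f g t e he W))
      (by
        intro W W' φ
        apply fp_hom_ext
        · change f.map φ.hom.fst ≫ 𝟙 _ = 𝟙 _ ≫ f.map φ.hom.fst
          rw [Category.comp_id, Category.id_comp]
        · exact magic_nat_aux f g φ))
    (by
      intro W
      rw [fp_isHomLift_iff]
      change 𝒵.p.IsHomLift (𝟙 _) (𝟙 (f.obj W.obj.fst))
      exact IsHomLift.of_fac' 𝒵.p _ _ (f.w_obj _) (f.w_obj _) (by simp))

lemma magicE_app_fst (W : (FibCat.fp f g).obj) :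
    ((magicE f g t e he).hom.toNatTrans.app W).hom.fst = 𝟙 (f.obj W.obj.fst) := rfl

lemma magicE_app_snd (W : (FibCat.fp f g).obj) :
    ((magicE f g t e he).hom.toNatTrans.app W).hom.snd = W.obj.iso.inv := rfl

theorem magic_isTwoCartOver :
    FibCat.IsTwoCartOver (F := magicR f g t) (G := FibCat.diag t) (magicI f g t e) (magicL f g)
      (magicE f g t e he) := by
  apply isTwoCartOver_of_concrete
  · intro W W' φ ψ h1 _
    have h3 : φ.hom.fst = ψ.hom.fst := congrArg (fun m => m.hom.fst) h1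
    have h4 : φ.hom.snd = ψ.hom.snd := congrArg (fun m => m.hom.snd) h1
    exact fp_hom_ext h3 h4
  · intro W W' α β hαβ
    have c1 := congrArg (fun m => m.hom.fst) hαβ
    have c2 := congrArg (fun m => m.hom.snd) hαβ
    obtain ⟨α₁, hα₁⟩ : ∃ m : W.obj.fst ⟶ W'.obj.fst, m = α.hom.fst := ⟨_, rfl⟩
    obtain ⟨α₂, hα₂⟩ : ∃ m : W.obj.snd ⟶ W'.obj.snd, m = α.hom.snd := ⟨_, rfl⟩
    obtain ⟨β', hβ'⟩ : ∃ m : f.obj W.obj.fst ⟶ f.obj W'.obj.fst, m = β := ⟨_, rfl⟩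
    have d1 : f.map α₁ ≫ 𝟙 _ = 𝟙 _ ≫ β' := by rw [hα₁, hβ']; exact c1
    have d2 : g.map α₂ ≫ W'.obj.iso.inv = W.obj.iso.inv ≫ β' := by rw [hα₂, hβ']; exact c2
    rw [Category.comp_id, Category.id_comp] at d1
    rw [← d1] at d2
    have hw : f.map α₁ ≫ W'.obj.iso.hom = W.obj.iso.hom ≫ g.map α₂ :=
      iso_comm_aux W.obj.iso W'.obj.iso (f.map α₁) (g.map α₂) d2
    refine ⟨fpHomMk α₁ α₂ hw, ?_, ?_⟩
    · exact fp_hom_ext hα₁ hα₂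
    · exact d1.trans hβ'
  · intro Z z ι₀ hι₀
    obtain ⟨u₁, hu₁⟩ : ∃ m : f.obj Z.obj.fst ≅ z, m.hom = ι₀.hom.hom.fst := ⟨fstIso ι₀, rfl⟩
    obtain ⟨u₂, hu₂⟩ : ∃ m : g.obj Z.obj.snd ≅ z, m.hom = ι₀.hom.hom.snd := ⟨sndIso ι₀, rfl⟩
    obtain ⟨κ, hκ⟩ : ∃ m : t.obj (f.obj Z.obj.fst) ≅ t.obj (g.obj Z.obj.snd), m = Z.obj.iso :=
      ⟨_, rfl⟩
    have l1 : 𝒵.p.IsHomLift (𝟙 (𝒳.p.obj Z.obj.fst)) u₁.hom := by
      rw [hu₁]; exact fst_isHomLift ι₀.hom hι₀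
    have l2 : 𝒵.p.IsHomLift (𝟙 (𝒳.p.obj Z.obj.fst)) u₂.hom := by
      rw [hu₂]; exact snd_isHomLift ι₀.hom hι₀
    have l3 : 𝒵.p.IsHomLift (𝟙 (𝒳.p.obj Z.obj.fst)) u₂.inv := iso_inv_isHomLift u₂ l2
    have hW : 𝒵.p.IsHomLift (𝟙 (𝒳.p.obj Z.obj.fst)) (u₁ ≪≫ u₂.symm).hom := by
      change 𝒵.p.IsHomLift (𝟙 (𝒳.p.obj Z.obj.fst)) (u₁.hom ≫ u₂.inv)
      infer_instance
    have compat : t.map u₁.hom ≫ 𝟙 _ = κ.hom ≫ t.map u₂.hom := by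
      rw [hu₁, hu₂, hκ]; exact ι₀.hom.hom.w
    rw [Category.comp_id] at compat
    have hκ2 : t.map (u₁.hom ≫ u₂.inv) = κ.hom := by
      have a1 : t.map (u₁.hom ≫ u₂.inv) = t.map u₁.hom ≫ t.map u₂.inv := t.toFunctor.map_comp _ _
      have a2 : t.map u₂.hom ≫ t.map u₂.inv = 𝟙 _ := by
        have := t.toFunctor.map_comp u₂.hom u₂.inv
        rw [Iso.hom_inv_id] at this
        exact this.symm.trans (t.toFunctor.map_id _)
      rw [a1, compat, Category.assoc, a2, Category.comp_id]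
    let W : (FibCat.fp f g).obj := fpMk f g Z.obj.fst Z.obj.snd (u₁ ≪≫ u₂.symm) hW
    have hiW : ((magicI f g t e).obj W).obj.iso.hom = t.map (u₁.hom ≫ u₂.inv) := he W
    have wi' : (BasedFunctor.comp f t).map (𝟙 Z.obj.fst) ≫ Z.obj.iso.hom =
        t.map (u₁.hom ≫ u₂.inv) ≫ (BasedFunctor.comp g t).map (𝟙 Z.obj.snd) := by
      have b1 : (BasedFunctor.comp f t).map (𝟙 Z.obj.fst) = 𝟙 _ :=
        (BasedFunctor.comp f t).toFunctor.map_id _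
      have b2 : (BasedFunctor.comp g t).map (𝟙 Z.obj.snd) = 𝟙 _ :=
        (BasedFunctor.comp g t).toFunctor.map_id _
      rw [b1, b2, hκ2, hκ]
      exact (Category.id_comp _).trans (Category.comp_id _).symm
    have wi : (BasedFunctor.comp f t).map (𝟙 Z.obj.fst) ≫ Z.obj.iso.hom =
        ((magicI f g t e).obj W).obj.iso.hom ≫ (BasedFunctor.comp g t).map (𝟙 Z.obj.snd) :=
      wi'.trans (congrArg (fun m : t.obj (f.obj Z.obj.fst) ⟶ t.obj (g.obj Z.obj.snd) =>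
        m ≫ (BasedFunctor.comp g t).map (𝟙 Z.obj.snd)) hiW.symm)
    refine ⟨W, fpIsoMk (X := (magicI f g t e).obj W) (Y := Z) (Iso.refl _) (Iso.refl _) wi, u₁,
      ?_, ?_⟩
    · rw [fp_isHomLift_iff]
      change 𝒳.p.IsHomLift (𝟙 (𝒳.p.obj Z.obj.fst)) (𝟙 Z.obj.fst)
      infer_instance
    · apply fp_hom_ext
      · change f.map (𝟙 Z.obj.fst) ≫ ι₀.hom.hom.fst = 𝟙 _ ≫ u₁.hom
        rw [← hu₁]
        have b1 : f.map (𝟙 Z.obj.fst) = 𝟙 _ := f.toFunctor.map_id _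
        exact congrArg (fun m => m ≫ u₁.hom) b1
      · change g.map (𝟙 Z.obj.snd) ≫ ι₀.hom.hom.snd = (u₁ ≪≫ u₂.symm).inv ≫ u₁.hom
        rw [← hu₂]
        have b1 : g.map (𝟙 Z.obj.snd) = 𝟙 _ := g.toFunctor.map_id _
        rw [b1, Category.id_comp]
        change u₂.hom = (u₂.hom ≫ u₁.inv) ≫ u₁.hom
        rw [Category.assoc, Iso.inv_hom_id, Category.comp_id]

end Magic

end Groth.Agent.H3.TwoCart
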