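import Mathlib
import Groth.Prelude.Def_AlgSt2
import Groth.Agent.Lib.Helper3.StackMore
import Groth.Agent.Lib.Helper3.StkAux
import Groth.Agent.Lib.Helper3.AlgStAux

set_option autoImplicit false

universe w v₄ u₄ v₃ u₃ v₂ u₂ v u

open CategoryTheory CategoryTheory.Functor CategoryTheory.Limits Opposite

namespace Groth.Agent.H3.RepFaithful

open Groth.Agent.H3.FibCatAux Groth.Agent.H3.FibCatYoneda Groth.Agent.H3.StackDescent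

variable {C : Type u} [Category.{v} C] {𝒳 : BasedCategory.{v₂, u₂} C} {𝒴 : BasedCategory.{v₃, u₃} C}

theorem faithful_of_aut_trivial (h𝒳 : FibCat.IsFibGrpd 𝒳.p) (h𝒴 : FibCat.IsFibGrpd 𝒴.p)
    (G : 𝒳 ⥤ᵇ 𝒴)
    (h : ∀ (x : 𝒳.obj) (τ : x ⟶ x), 𝒳.p.IsHomLift (𝟙 (𝒳.p.obj x)) τ → G.map τ = 𝟙 (G.obj x) →
      τ = 𝟙 x) : G.toFunctor.Faithful := by
  constructor
  intro u u' t₁ t₂ hG
  have i2 : 𝒳.p.IsHomLift (𝒳.p.map t₂) t₂ := IsHomLift.map 𝒳.p t₂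
  have i1 : 𝒳.p.IsHomLift (𝒳.p.map t₂) t₁ := by
    have : 𝒴.p.IsHomLift (𝒳.p.map t₂) (G.map t₁) := by
      change 𝒴.p.IsHomLift (𝒳.p.map t₂) (G.toFunctor.map t₁)
      rw [hG]; infer_instance
    exact BasedFunctor.isHomLift_map G (𝒳.p.map t₂) t₁
  have c2 := isStronglyCartesian_of_isHomLift 𝒳.p h𝒳 (𝒳.p.map t₂) t₂
  have i1' : 𝒳.p.IsHomLift (𝟙 (𝒳.p.obj u) ≫ 𝒳.p.map t₂) t₁ := by
    rw [Category.id_comp]; exact i1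
  obtain ⟨τ, hτ, hτ'⟩ : ∃ τ : u ⟶ u, 𝒳.p.IsHomLift (𝟙 (𝒳.p.obj u)) τ ∧ τ ≫ t₂ = t₁ :=
    ⟨IsStronglyCartesian.map 𝒳.p (𝒳.p.map t₂) t₂ (f' := 𝟙 _ ≫ 𝒳.p.map t₂) rfl t₁,
      IsStronglyCartesian.map_isHomLift 𝒳.p (𝒳.p.map t₂) t₂ rfl t₁,
      IsStronglyCartesian.fac 𝒳.p (𝒳.p.map t₂) t₂ rfl t₁⟩
  have hGτ : G.map τ = 𝟙 (G.obj u) := by
    have j0 : 𝒴.p.IsHomLift (𝒳.p.map t₂) (G.map t₂) := inferInstance
    have j1 := isStronglyCartesian_of_isHomLift 𝒴.p h𝒴 (𝒳.p.map t₂) (G.map t₂)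
    have j2 : 𝒴.p.IsHomLift (𝟙 (𝒳.p.obj u)) (G.map τ) := inferInstance
    have j3 : 𝒴.p.IsHomLift (𝟙 (𝒳.p.obj u)) (𝟙 (G.obj u)) := IsHomLift.id (G.w_obj u)
    apply IsStronglyCartesian.ext 𝒴.p (𝒳.p.map t₂) (G.map t₂) (𝟙 (𝒳.p.obj u))
    rw [← G.toFunctor.map_comp, hτ', Category.id_comp]
    exact hG
  have := h u τ hτ hGτ
  rw [← hτ', this, Category.id_comp]

/-- a functor all of whose base changes to slices are fibred in setoids is faithful -/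
theorem faithful_of_fp_setoid {𝒳 𝒴 : BasedCategory.{v₂, u₂} C} (h𝒳 : FibCat.IsFibGrpd 𝒳.p)
    (h𝒴 : FibCat.IsFibGrpd 𝒴.p) (f : 𝒳 ⥤ᵇ 𝒴)
    (h : ∀ (U : C) (y : FibCat.overCat U ⥤ᵇ 𝒴), FibCat.IsFibSetoid (FibCat.fp y f).p) :
    f.toFunctor.Faithful := by
  have hfib : 𝒴.p.IsFibered := isFibered_of_isFibGrpd 𝒴.p h𝒴
  apply faithful_of_aut_trivial h𝒳 h𝒴 f
  intro x τ hτ hfτ
  obtain ⟨y, e, he⟩ := exists_pb_leg (f.obj x) (f.w_obj x)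
  have hei : IsIso e := isIso_of_isHomLift_id 𝒴.p h𝒴 (U := 𝒳.p.obj x) e
  have hs := h (𝒳.p.obj x) y
  let X : (FibCat.fp y f).obj := fpMk y f (Over.mk (𝟙 (𝒳.p.obj x))) x (asIso e) he
  let e₁ : X ⟶ X := fpHomMk (𝟙 _) τ (by
    change y.map (𝟙 _) ≫ e = e ≫ f.map τ
    rw [hfτ, y.toFunctor.map_id, Category.id_comp, Category.comp_id])
  have l1 : (FibCat.fp y f).p.IsHomLift (𝟙 (𝒳.p.obj x)) e₁ :=
    (fp_isHomLift_iff y f _ e₁).mpr (IsHomLift.id rfl)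
  have l2 : (FibCat.fp y f).p.IsHomLift (𝟙 (𝒳.p.obj x)) (𝟙 X) := IsHomLift.id rfl
  have heq : e₁ = 𝟙 X := hom_eq_of_isFibSetoid (FibCat.fp y f).p hs (𝟙 (𝒳.p.obj x)) e₁ (𝟙 X)
  exact congrArg (fun e => e.hom.snd) heq

theorem isFibSetoid_of_repByAlgSp {S : AlgebraicGeometry.Scheme.{u}}
    {𝒵 : BasedCategory.{v₂, u₂} (Over S)} (h : AlgSt.RepByAlgSp 𝒵) : FibCat.IsFibSetoid 𝒵.p := by
  obtain ⟨F, e, he⟩ := h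
  exact Groth.Agent.H3.GerbAux.isFibSetoid_of_isEquivOver e he
    (Groth.Agent.H3.StkAux.isFibSetoid_ofPsh F.obj.obj)

theorem faithful_of_repByAlgSp1 {S : AlgebraicGeometry.Scheme.{u}} {𝒳 𝒴 : BasedCategory.{v₂, u₂} (Over S)}
    (h𝒳 : FibCat.IsFibGrpd 𝒳.p) (h𝒴 : FibCat.IsFibGrpd 𝒴.p) (f : 𝒳 ⥤ᵇ 𝒴)
    (hf : AlgSt.RepByAlgSp1 f) : f.toFunctor.Faithful :=
  faithful_of_fp_setoid h𝒳 h𝒴 f (fun U y => isFibSetoid_of_repByAlgSp (hf U y))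

end Groth.Agent.H3.RepFaithful
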