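import Mathlib
import Groth.Prelude.Def_AlgSt3
import Groth.Agent.Lib.Helper3.TwoCart

set_option autoImplicit false
universe v₆ u₆ v₅ u₅ v₄ u₄ v₃ u₃ v₂ u₂ w v u
open CategoryTheory CategoryTheory.Functor CategoryTheory.Limits Opposite AlgebraicGeometry

namespace Groth.Agent.H3.TwoCart
open Groth.Agent.H3.FibCatAux Groth.Agent.H3.GerbAux Groth.Agent.H3.FpCalc Groth.Agent.H3.AlgStAux

section Swap

variable {C : Type u} [Category.{v} C] {𝒳 : BasedCategory.{v₂, u₂} C} {𝒴 : BasedCategory.{v₃, u₃} C}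
  {𝒵 : BasedCategory.{v₄, u₄} C} (z : 𝒵 ⥤ᵇ 𝒴) (f : 𝒳 ⥤ᵇ 𝒴)

lemma swapE_app (W : (FibCat.fp z f).obj) :
    (FibCat.fpIso z f).symm.hom.toNatTrans.app W = W.obj.iso.inv := rfl

/-- the canonical 2-fibre product square, read with the two projections swapped, is 2-cartesian -/
theorem swap_isTwoCartOver :
    FibCat.IsTwoCartOver (F := f) (G := z) (FibCat.fpSnd z f) (FibCat.fpFst z f)
      (FibCat.fpIso z f).symm := by
  apply isTwoCartOver_of_concrete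
  · intro W W' φ ψ h1 h2
    exact fp_hom_ext h2 h1
  · intro W W' α β hαβ
    obtain ⟨α', hα'⟩ : ∃ m : W.obj.snd ⟶ W'.obj.snd, m = α := ⟨_, rfl⟩
    obtain ⟨β', hβ'⟩ : ∃ m : W.obj.fst ⟶ W'.obj.fst, m = β := ⟨_, rfl⟩
    have d : f.map α' ≫ W'.obj.iso.inv = W.obj.iso.inv ≫ z.map β' := by
      rw [hα', hβ']; exact hαβ
    have hw : z.map β' ≫ W'.obj.iso.hom = W.obj.iso.hom ≫ f.map α' :=
      iso_comm_aux W.obj.iso W'.obj.iso (z.map β') (f.map α') d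
    exact ⟨fpHomMk β' α' hw, hα', hβ'⟩
  · intro x y ι hι
    have hι' : 𝒴.p.IsHomLift (𝟙 (𝒳.p.obj x)) ι.inv := iso_inv_isHomLift ι hι
    have hbase : 𝒵.p.obj y = 𝒳.p.obj x := by
      have h1 : 𝒴.p.obj (z.obj y) = 𝒳.p.obj x := IsHomLift.codomain_eq 𝒴.p (𝟙 (𝒳.p.obj x)) ι.hom
      exact (z.w_obj y).symm.trans h1
    have hι'' : 𝒴.p.IsHomLift (𝟙 (𝒵.p.obj y)) ι.symm.hom := by
      rw [hbase]; exact hι'
    refine ⟨fpMk z f y x ι.symm hι'', Iso.refl x, Iso.refl y, ?_, ?_⟩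
    · change 𝒳.p.IsHomLift (𝟙 (𝒳.p.obj x)) (𝟙 x)
      infer_instance
    · have b1 : f.map (𝟙 x) = 𝟙 _ := f.toFunctor.map_id _
      have b2 : z.map (𝟙 y) = 𝟙 _ := z.toFunctor.map_id _
      have c : f.map (𝟙 x) ≫ ι.hom = ι.hom ≫ z.map (𝟙 y) := by
        rw [b1, b2, Category.id_comp, Category.comp_id]
      exact c

end Swap

end Groth.Agent.H3.TwoCart
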