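import Mathlib
import Groth.Prelude.Def_AlgSt4
import Groth.Agent.Lib.Helper3.StkAux
import Groth.Agent.Lib.Helper3.FibCatAux

set_option autoImplicit false
universe v₂ u₂ w v u
open CategoryTheory CategoryTheory.Functor CategoryTheory.Limits Opposite AlgebraicGeometry

namespace Groth.Agent.H3.FPtRel
open Groth.Agent.H3.FibCatAux Groth.Agent.H3.StkAux

variable {S : Scheme.{u}} {𝒳 : BasedCategory.{v₂, u₂} (Over S)}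

/-- the morphism of schemes over `S` underlying a morphism between field points -/
noncomputable def baseHom {p q : AlgSt.FPt 𝒳} (a : p.obj ⟶ q.obj) : Over.mk p.str ⟶ Over.mk q.str :=
  eqToHom p.lies.symm ≫ 𝒳.p.map a ≫ eqToHom q.lies

lemma baseHom_isHomLift {p q : AlgSt.FPt 𝒳} (a : p.obj ⟶ q.obj) :
    𝒳.p.IsHomLift (baseHom a) a :=
  IsHomLift.of_fac' 𝒳.p (baseHom a) a p.lies q.lies (by simp [baseHom])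

theorem rel_refl (p : AlgSt.FPt 𝒳) : AlgSt.FPt.Rel p p := ⟨p, 𝟙 _, 𝟙 _, trivial⟩

theorem rel_symm {p q : AlgSt.FPt 𝒳} : AlgSt.FPt.Rel p q → AlgSt.FPt.Rel q p := by
  rintro ⟨r, a, b, -⟩
  exact ⟨r, b, a, trivial⟩

theorem rel_trans (h𝒳 : FibCat.IsFibGrpd 𝒳.p) {p q s : AlgSt.FPt 𝒳} :
    AlgSt.FPt.Rel p q → AlgSt.FPt.Rel q s → AlgSt.FPt.Rel p s := by
  rintro ⟨r₁, a₁, b₁, -⟩ ⟨r₂, b₂, c₂, -⟩
  obtain ⟨β₁, hβ₁⟩ : ∃ β : Over.mk r₁.str ⟶ Over.mk q.str, 𝒳.p.IsHomLift β b₁ :=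
    ⟨baseHom b₁, baseHom_isHomLift b₁⟩
  obtain ⟨β₂, hβ₂⟩ : ∃ β : Over.mk r₂.str ⟶ Over.mk q.str, 𝒳.p.IsHomLift β b₂ :=
    ⟨baseHom b₂, baseHom_isHomLift b₂⟩
  obtain ⟨Ω, _, i₁, i₂, hi⟩ :=
    AlgSp.FieldPt.exists_amalgamation (Spec.preimage β₁.left).hom (Spec.preimage β₂.left).hom
  have hL : Spec.map (CommRingCat.ofHom i₁) ≫ β₁.left =
      Spec.map (CommRingCat.ofHom i₂) ≫ β₂.left := by
    conv_lhs => rw [← Spec.map_preimage β₁.left]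
    conv_rhs => rw [← Spec.map_preimage β₂.left]
    rw [← Spec.map_comp, ← Spec.map_comp]
    congr 1
    exact CommRingCat.hom_ext hi
  let w : Spec (CommRingCat.of Ω) ⟶ S := Spec.map (CommRingCat.ofHom i₁) ≫ r₁.str
  let d₁ : Over.mk w ⟶ Over.mk r₁.str := Over.homMk (Spec.map (CommRingCat.ofHom i₁)) rfl
  have e₁ : β₁.left ≫ q.str = r₁.str := Over.w β₁
  have e₂ : β₂.left ≫ q.str = r₂.str := Over.w β₂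
  have hw : Spec.map (CommRingCat.ofHom i₂) ≫ r₂.str = w := by
    change _ = Spec.map (CommRingCat.ofHom i₁) ≫ r₁.str
    rw [← e₁, ← e₂, ← Category.assoc, ← Category.assoc, hL]
  let d₂ : Over.mk w ⟶ Over.mk r₂.str := Over.homMk (Spec.map (CommRingCat.ofHom i₂)) hw
  have hd : d₁ ≫ β₁ = d₂ ≫ β₂ := Over.OverMorphism.ext (by simpa [d₁, d₂] using hL)
  obtain ⟨t₁, τ₁, hτ₁⟩ := exists_lift'' h𝒳 d₁ r₁.obj r₁.lies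
  obtain ⟨t₂, τ₂, hτ₂⟩ := exists_lift'' h𝒳 d₂ r₂.obj r₂.lies
  have l1 : 𝒳.p.IsHomLift (d₁ ≫ β₁) (τ₁ ≫ b₁) := inferInstance
  have l2 : 𝒳.p.IsHomLift (d₂ ≫ β₂) (τ₂ ≫ b₂) := inferInstance
  have l2' : 𝒳.p.IsStronglyCartesian (d₂ ≫ β₂) (τ₂ ≫ b₂) :=
    isStronglyCartesian_of_isHomLift 𝒳.p h𝒳 _ _
  have l1' : 𝒳.p.IsHomLift (𝟙 (Over.mk w) ≫ d₂ ≫ β₂) (τ₁ ≫ b₁) := by
    rw [Category.id_comp, ← hd]; exact l1
  let χ : t₁ ⟶ t₂ := IsStronglyCartesian.map 𝒳.p (d₂ ≫ β₂) (τ₂ ≫ b₂) (f' := 𝟙 _ ≫ d₂ ≫ β₂) rfl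
    (τ₁ ≫ b₁)
  have ht₁ : 𝒳.p.obj t₁ = Over.mk w := IsHomLift.domain_eq 𝒳.p d₁ τ₁
  exact ⟨⟨Ω, w, t₁, ht₁⟩, τ₁ ≫ a₁, χ ≫ τ₂ ≫ c₂, trivial⟩

theorem rel_equivalence (h𝒳 : FibCat.IsFibGrpd 𝒳.p) :
    _root_.Equivalence (@AlgSt.FPt.Rel S 𝒳) :=
  ⟨rel_refl, rel_symm, rel_trans h𝒳⟩

end Groth.Agent.H3.FPtRel
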