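import Mathlib
import Groth.Prelude.Def_AlgSt4
import Groth.Agent.Lib.Helper3.FPtRel
import Groth.Agent.Lib.Helper3.TwoCart

set_option autoImplicit false
universe v₄ u₄ v₃ u₃ v₂ u₂ w v u
open CategoryTheory CategoryTheory.Functor CategoryTheory.Limits Opposite AlgebraicGeometry

namespace Groth.Agent.H3.FPtRel
open Groth.Agent.H3.FibCatAux Groth.Agent.H3.StkAux Groth.Agent.H3.TwoCart

variable {S : Scheme.{u}} {𝒳 : BasedCategory.{v₂, u₂} (Over S)} {𝒴 : BasedCategory.{v₃, u₃} (Over S)}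
  {𝒵 : BasedCategory.{v₄, u₄} (Over S)}

lemma mk_eq_mk_iff (h𝒳 : FibCat.IsFibGrpd 𝒳.p) (p q : AlgSt.FPt 𝒳) :
    AlgSt.Points.mk p = AlgSt.Points.mk q ↔ AlgSt.FPt.Rel p q := by
  constructor
  · intro h
    have := Quot.eqvGen_exact h
    exact (rel_equivalence h𝒳).eqvGen_iff.1 this
  · exact AlgSt.Points.sound

/-- a field point obtained from an object over `Spec` of the field -/
lemma rel_of_hom {p q : AlgSt.FPt 𝒳} (a : p.obj ⟶ q.obj) : AlgSt.FPt.Rel p q :=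
  ⟨p, 𝟙 _, a, trivial⟩

theorem exists_point_fp (h𝒳 : FibCat.IsFibGrpd 𝒳.p) (h𝒴 : FibCat.IsFibGrpd 𝒴.p)
    (h𝒵 : FibCat.IsFibGrpd 𝒵.p) (f : 𝒳 ⥤ᵇ 𝒴) (g : 𝒵 ⥤ᵇ 𝒴)
    (z : AlgSt.Points 𝒵) (x : AlgSt.Points 𝒳)
    (h : AlgSt.Points.map g z = AlgSt.Points.map f x) :
    ∃ w : AlgSt.Points (FibCat.fp g f),
      AlgSt.Points.map (FibCat.fpFst g f) w = z ∧ AlgSt.Points.map (FibCat.fpSnd g f) w = x := by
  obtain ⟨p, rfl⟩ := AlgSt.Points.mk_surjective z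
  obtain ⟨q, rfl⟩ := AlgSt.Points.mk_surjective x
  rw [AlgSt.Points.map_mk, AlgSt.Points.map_mk, mk_eq_mk_iff h𝒴] at h
  obtain ⟨r, a₀, b₀, -⟩ := h
  obtain ⟨a, ha⟩ : ∃ a : r.obj ⟶ g.obj p.obj, a = a₀ := ⟨a₀, rfl⟩
  obtain ⟨b, hb⟩ : ∃ b : r.obj ⟶ f.obj q.obj, b = b₀ := ⟨b₀, rfl⟩
  obtain ⟨α, hα⟩ : ∃ α : Over.mk r.str ⟶ Over.mk p.str, 𝒴.p.IsHomLift α a := by
    rw [ha]; exact ⟨baseHom (q := p.map g) a₀, baseHom_isHomLift (q := p.map g) a₀⟩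
  obtain ⟨β, hβ⟩ : ∃ β : Over.mk r.str ⟶ Over.mk q.str, 𝒴.p.IsHomLift β b := by
    rw [hb]; exact ⟨baseHom (q := q.map f) b₀, baseHom_isHomLift (q := q.map f) b₀⟩
  obtain ⟨p', π, hπ⟩ := exists_lift'' h𝒵 α p.obj p.lies
  obtain ⟨q', ρ, hρ⟩ := exists_lift'' h𝒳 β q.obj q.lies
  have hp' : 𝒵.p.obj p' = Over.mk r.str := IsHomLift.domain_eq 𝒵.p α π
  have hq' : 𝒳.p.obj q' = Over.mk r.str := IsHomLift.domain_eq 𝒳.p β ρ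
  have c1 : 𝒴.p.IsStronglyCartesian α (g.map π) := isStronglyCartesian_of_isHomLift 𝒴.p h𝒴 _ _
  have c2 : 𝒴.p.IsStronglyCartesian β (f.map ρ) := isStronglyCartesian_of_isHomLift 𝒴.p h𝒴 _ _
  have a' : 𝒴.p.IsHomLift (𝟙 (Over.mk r.str) ≫ α) a := by rw [Category.id_comp]; exact hα
  have b' : 𝒴.p.IsHomLift (𝟙 (Over.mk r.str) ≫ β) b := by rw [Category.id_comp]; exact hβ
  let χ₁ : r.obj ⟶ g.obj p' := IsStronglyCartesian.map 𝒴.p α (g.map π) (f' := 𝟙 _ ≫ α) rfl a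
  let χ₂ : r.obj ⟶ f.obj q' := IsStronglyCartesian.map 𝒴.p β (f.map ρ) (f' := 𝟙 _ ≫ β) rfl b
  have hχ₁ : 𝒴.p.IsHomLift (𝟙 (Over.mk r.str)) χ₁ :=
    IsStronglyCartesian.map_isHomLift 𝒴.p α (g.map π) rfl a
  have hχ₂ : 𝒴.p.IsHomLift (𝟙 (Over.mk r.str)) χ₂ :=
    IsStronglyCartesian.map_isHomLift 𝒴.p β (f.map ρ) rfl b
  have i1 : IsIso χ₁ := isIso_of_isHomLift_id 𝒴.p h𝒴 (U := Over.mk r.str) χ₁
  have i2 : IsIso χ₂ := isIso_of_isHomLift_id 𝒴.p h𝒴 (U := Over.mk r.str) χ₂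
  have hχ₁' : 𝒴.p.IsHomLift (𝟙 (Over.mk r.str)) (asIso χ₁).inv :=
    iso_inv_isHomLift (asIso χ₁) hχ₁
  have hι : 𝒴.p.IsHomLift (𝟙 (𝒵.p.obj p')) ((asIso χ₁).symm ≪≫ asIso χ₂).hom := by
    rw [hp']
    have := IsHomLift.comp (p := 𝒴.p) (𝟙 (Over.mk r.str)) (𝟙 (Over.mk r.str)) (asIso χ₁).inv χ₂
    rw [Category.comp_id] at this
    exact this
  let W : (FibCat.fp g f).obj := fpMk g f p' q' ((asIso χ₁).symm ≪≫ asIso χ₂) hι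
  let wpt : AlgSt.FPt (FibCat.fp g f) := ⟨r.K, r.str, W, hp'⟩
  refine ⟨AlgSt.Points.mk wpt, ?_, ?_⟩
  · rw [AlgSt.Points.map_mk]
    apply AlgSt.Points.sound
    exact rel_of_hom (p := wpt.map (FibCat.fpFst g f)) (q := p) π
  · rw [AlgSt.Points.map_mk]
    apply AlgSt.Points.sound
    exact rel_of_hom (p := wpt.map (FibCat.fpSnd g f)) (q := q) ρ

theorem isSurjective_fpFst (h𝒳 : FibCat.IsFibGrpd 𝒳.p) (h𝒴 : FibCat.IsFibGrpd 𝒴.p)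
    (h𝒵 : FibCat.IsFibGrpd 𝒵.p) (f : 𝒳 ⥤ᵇ 𝒴) (g : 𝒵 ⥤ᵇ 𝒴) (hf : AlgSt.IsSurjective f) :
    AlgSt.IsSurjective (FibCat.fpFst g f) := by
  intro z
  obtain ⟨x, hx⟩ := hf (AlgSt.Points.map g z)
  obtain ⟨w, hw, -⟩ := exists_point_fp h𝒳 h𝒴 h𝒵 f g z x hx.symm
  exact ⟨w, hw⟩


theorem points_map_injective_of_full (h𝒳 : FibCat.IsFibGrpd 𝒳.p) (h𝒴 : FibCat.IsFibGrpd 𝒴.p)
    (f : 𝒳 ⥤ᵇ 𝒴) [f.toFunctor.Full] : Function.Injective (AlgSt.Points.map f) := by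
  intro z x h
  obtain ⟨p, rfl⟩ := AlgSt.Points.mk_surjective z
  obtain ⟨q, rfl⟩ := AlgSt.Points.mk_surjective x
  rw [AlgSt.Points.map_mk, AlgSt.Points.map_mk, mk_eq_mk_iff h𝒴] at h
  obtain ⟨r, a₀, b₀, -⟩ := h
  obtain ⟨a, ha⟩ : ∃ a : r.obj ⟶ f.obj p.obj, a = a₀ := ⟨a₀, rfl⟩
  obtain ⟨b, hb⟩ : ∃ b : r.obj ⟶ f.obj q.obj, b = b₀ := ⟨b₀, rfl⟩
  obtain ⟨α, hα⟩ : ∃ α : Over.mk r.str ⟶ Over.mk p.str, 𝒴.p.IsHomLift α a := by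
    rw [ha]; exact ⟨baseHom (q := p.map f) a₀, baseHom_isHomLift (q := p.map f) a₀⟩
  obtain ⟨β, hβ⟩ : ∃ β : Over.mk r.str ⟶ Over.mk q.str, 𝒴.p.IsHomLift β b := by
    rw [hb]; exact ⟨baseHom (q := q.map f) b₀, baseHom_isHomLift (q := q.map f) b₀⟩
  obtain ⟨p', π, hπ⟩ := exists_lift'' h𝒳 α p.obj p.lies
  obtain ⟨q', ρ, hρ⟩ := exists_lift'' h𝒳 β q.obj q.lies
  have hp' : 𝒳.p.obj p' = Over.mk r.str := IsHomLift.domain_eq 𝒳.p α π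
  have c1 : 𝒴.p.IsStronglyCartesian α (f.map π) := isStronglyCartesian_of_isHomLift 𝒴.p h𝒴 _ _
  have c2 : 𝒴.p.IsStronglyCartesian β (f.map ρ) := isStronglyCartesian_of_isHomLift 𝒴.p h𝒴 _ _
  have a' : 𝒴.p.IsHomLift (𝟙 (Over.mk r.str) ≫ α) a := by rw [Category.id_comp]; exact hα
  have b' : 𝒴.p.IsHomLift (𝟙 (Over.mk r.str) ≫ β) b := by rw [Category.id_comp]; exact hβ
  let χ₁ : r.obj ⟶ f.obj p' := IsStronglyCartesian.map 𝒴.p α (f.map π) (f' := 𝟙 _ ≫ α) rfl a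
  let χ₂ : r.obj ⟶ f.obj q' := IsStronglyCartesian.map 𝒴.p β (f.map ρ) (f' := 𝟙 _ ≫ β) rfl b
  have hχ₁ : 𝒴.p.IsHomLift (𝟙 (Over.mk r.str)) χ₁ :=
    IsStronglyCartesian.map_isHomLift 𝒴.p α (f.map π) rfl a
  have i1 : IsIso χ₁ := isIso_of_isHomLift_id 𝒴.p h𝒴 (U := Over.mk r.str) χ₁
  obtain ⟨φ, -⟩ := f.toFunctor.map_surjective (CategoryTheory.inv χ₁ ≫ χ₂)
  apply AlgSt.Points.sound
  exact ⟨⟨r.K, r.str, p', hp'⟩, π, φ ≫ ρ, trivial⟩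

end Groth.Agent.H3.FPtRel
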