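import Mathlib
import Groth.Prelude.Def_AlgSt3
import Groth.Agent.Lib.Helper3.TwoCart

set_option autoImplicit false
universe v₆ u₆ v₅ u₅ v₄ u₄ v₃ u₃ v₂ u₂ w v u
open CategoryTheory CategoryTheory.Functor CategoryTheory.Limits Opposite AlgebraicGeometry

namespace Groth.Agent.H3.TwoCart
open Groth.Agent.H3.FibCatAux Groth.Agent.H3.GerbAux Groth.Agent.H3.FpCalc Groth.Agent.H3.AlgStAux

section DiagBC

variable {C : Type u} [Category.{v} C] {𝒳 : BasedCategory.{v₂, u₂} C} {𝒴 : BasedCategory.{v₃, u₃} C}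
  {𝒴' : BasedCategory.{v₄, u₄} C} (f : 𝒳 ⥤ᵇ 𝒴) (g : 𝒴' ⥤ᵇ 𝒴)

/-- the comparison `𝒳' ×_{𝒴'} 𝒳' ⟶ 𝒳 ×_𝒴 𝒳` (with `𝒳' = 𝒴' ×_𝒴 𝒳`) -/
def dbcM : FibCat.fp (FibCat.fpFst g f) (FibCat.fpFst g f) ⥤ᵇ FibCat.fp f f :=
  fpMap (FibCat.fpSnd g f) (FibCat.fpSnd g f) g (FibCat.fpIso g f) (FibCat.fpIso g f)

lemma dbcM_obj_iso (Z : (FibCat.fp (FibCat.fpFst g f) (FibCat.fpFst g f)).obj) :
    ((dbcM f g).obj Z).obj.iso.hom =
      Z.obj.fst.obj.iso.inv ≫ g.map Z.obj.iso.hom ≫ Z.obj.snd.obj.iso.hom := rfl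

lemma diag_obj_iso {𝒜 : BasedCategory.{v₅, u₅} C} {ℬ : BasedCategory.{v₆, u₆} C} (F : 𝒜 ⥤ᵇ ℬ)
    (X : 𝒜.obj) : ((FibCat.diag F).obj X).obj.iso.hom = 𝟙 (F.obj X) := rfl

lemma dbc_iso_aux (X : (FibCat.fp g f).obj) :
    f.map (𝟙 X.obj.snd) ≫ 𝟙 _ =
      ((dbcM f g).obj ((FibCat.diag (FibCat.fpFst g f)).obj X)).obj.iso.hom ≫
        f.map (𝟙 X.obj.snd) := by
  have h2 : f.map (𝟙 X.obj.snd) = 𝟙 _ := f.toFunctor.map_id _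
  have h4 : g.map (𝟙 X.obj.fst) = 𝟙 _ := g.toFunctor.map_id _
  have h3 : f.map (𝟙 X.obj.snd) ≫ 𝟙 _ =
      (X.obj.iso.inv ≫ g.map (𝟙 X.obj.fst) ≫ X.obj.iso.hom) ≫ f.map (𝟙 X.obj.snd) := by
    rw [h4, Category.id_comp, Iso.inv_hom_id, h2]
  exact h3

/-- the 2-isomorphism of the diagonal base change square -/
def dbcE : BasedFunctor.comp (FibCat.diag (FibCat.fpFst g f)) (dbcM f g) ≅
    BasedFunctor.comp (FibCat.fpSnd g f) (FibCat.diag f) :=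
  BasedNatIso.mkNatIso
    (NatIso.ofComponents
      (fun X => fpIsoMk (X := (dbcM f g).obj ((FibCat.diag (FibCat.fpFst g f)).obj X))
        (Y := (FibCat.diag f).obj X.obj.snd) (Iso.refl X.obj.snd) (Iso.refl X.obj.snd)
        (dbc_iso_aux f g X))
      (by
        intro X X' φ
        apply fp_hom_ext
        · change φ.hom.snd ≫ 𝟙 _ = 𝟙 _ ≫ φ.hom.snd
          rw [Category.comp_id, Category.id_comp]
        · change φ.hom.snd ≫ 𝟙 _ = 𝟙 _ ≫ φ.hom.snd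
          rw [Category.comp_id, Category.id_comp]))
    (by
      intro X
      rw [fp_isHomLift_iff]
      change 𝒳.p.IsHomLift (𝟙 _) (𝟙 X.obj.snd)
      exact IsHomLift.of_fac' 𝒳.p _ _ ((FibCat.fpSnd g f).w_obj _) ((FibCat.fpSnd g f).w_obj _)
        (by simp))

theorem dbc_isTwoCartOver :
    FibCat.IsTwoCartOver (F := dbcM f g) (G := FibCat.diag f) (FibCat.diag (FibCat.fpFst g f))
      (FibCat.fpSnd g f) (dbcE f g) := by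
  apply isTwoCartOver_of_concrete
  · intro X X' φ ψ h1 _
    exact congrArg (fun m => m.hom.fst) h1
  · intro X X' α β hαβ
    have c1 := congrArg (fun m => m.hom.fst) hαβ
    have c2 := congrArg (fun m => m.hom.snd) hαβ
    obtain ⟨α₁, hα₁⟩ : ∃ m : X ⟶ X', m = α.hom.fst := ⟨_, rfl⟩
    obtain ⟨α₂, hα₂⟩ : ∃ m : X ⟶ X', m = α.hom.snd := ⟨_, rfl⟩
    obtain ⟨β', hβ'⟩ : ∃ m : X.obj.snd ⟶ X'.obj.snd, m = β := ⟨_, rfl⟩
    have d1 : α₁.hom.snd ≫ 𝟙 _ = 𝟙 _ ≫ β' := by rw [hα₁, hβ']; exact c1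
    have d2 : α₂.hom.snd ≫ 𝟙 _ = 𝟙 _ ≫ β' := by rw [hα₂, hβ']; exact c2
    rw [Category.comp_id, Category.id_comp] at d1 d2
    have d3 : α₁.hom.fst ≫ 𝟙 _ = 𝟙 _ ≫ α₂.hom.fst := by rw [hα₁, hα₂]; exact α.hom.w
    rw [Category.comp_id, Category.id_comp] at d3
    have d4 : α₁ = α₂ := fp_hom_ext d3 (d1.trans d2.symm)
    refine ⟨α₁, ?_, ?_⟩
    · apply fp_hom_ext
      · exact hα₁
      · exact d4.trans hα₂
    · exact d1.trans hβ'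
  · intro Z x ι₀ hι₀
    obtain ⟨κ, hκ⟩ : ∃ m : Z.obj.fst.obj.fst ≅ Z.obj.snd.obj.fst, m = Z.obj.iso := ⟨_, rfl⟩
    obtain ⟨u₁, hu₁⟩ : ∃ m : Z.obj.fst.obj.snd ≅ x, m.hom = ι₀.hom.hom.fst := ⟨fstIso ι₀, rfl⟩
    obtain ⟨u₂, hu₂⟩ : ∃ m : Z.obj.snd.obj.snd ≅ x, m.hom = ι₀.hom.hom.snd := ⟨sndIso ι₀, rfl⟩
    have l1 : 𝒳.p.IsHomLift (𝟙 (𝒴'.p.obj Z.obj.fst.obj.fst)) u₁.hom := by
      rw [hu₁]; exact fst_isHomLift ι₀.hom hι₀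
    have l2 : 𝒳.p.IsHomLift (𝟙 (𝒴'.p.obj Z.obj.fst.obj.fst)) u₂.hom := by
      rw [hu₂]; exact snd_isHomLift ι₀.hom hι₀
    have l3 : 𝒳.p.IsHomLift (𝟙 (𝒴'.p.obj Z.obj.fst.obj.fst)) u₂.inv := iso_inv_isHomLift u₂ l2
    have compat : f.map u₁.hom ≫ 𝟙 _ =
        (Z.obj.fst.obj.iso.inv ≫ g.map κ.hom ≫ Z.obj.snd.obj.iso.hom) ≫ f.map u₂.hom := by
      rw [hu₁, hu₂, hκ]; exact ι₀.hom.hom.w
    rw [Category.comp_id] at compat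
    -- the iso `ψ : X₁ ≅ X₂`
    have wψ : g.map κ.hom ≫ Z.obj.snd.obj.iso.hom =
        Z.obj.fst.obj.iso.hom ≫ f.map (u₁ ≪≫ u₂.symm).hom := by
      have a1 : f.map (u₁.hom ≫ u₂.inv) = f.map u₁.hom ≫ f.map u₂.inv := f.toFunctor.map_comp _ _
      have a2 : f.map u₂.hom ≫ f.map u₂.inv = 𝟙 _ := by
        have := f.toFunctor.map_comp u₂.hom u₂.inv
        rw [Iso.hom_inv_id] at this
        exact this.symm.trans (f.toFunctor.map_id _)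
      change g.map κ.hom ≫ Z.obj.snd.obj.iso.hom =
        Z.obj.fst.obj.iso.hom ≫ f.map (u₁.hom ≫ u₂.inv)
      rw [a1, compat]
      simp only [Category.assoc]
      rw [a2, Category.comp_id, Iso.hom_inv_id_assoc]
    obtain ⟨ψ, hψ₁, hψ₂⟩ : ∃ ψ : Z.obj.fst ≅ Z.obj.snd, ψ.hom.hom.fst = κ.hom ∧
        ψ.hom.hom.snd = u₁.hom ≫ u₂.inv := ⟨fpIsoMk κ (u₁ ≪≫ u₂.symm) wψ, rfl, rfl⟩
    have wi' : 𝟙 Z.obj.fst.obj.fst ≫ κ.hom = 𝟙 _ ≫ ψ.hom.hom.fst := by rw [hψ₁]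
    have wi : (FibCat.fpFst g f).map (𝟙 Z.obj.fst) ≫ Z.obj.iso.hom =
        ((FibCat.diag (FibCat.fpFst g f)).obj Z.obj.fst).obj.iso.hom ≫
          (FibCat.fpFst g f).map ψ.hom := by
      subst hκ
      exact wi'
    refine ⟨Z.obj.fst, fpIsoMk (X := (FibCat.diag (FibCat.fpFst g f)).obj Z.obj.fst) (Y := Z)
      (Iso.refl _) ψ wi, u₁, ?_, ?_⟩
    · rw [fp_isHomLift_iff]
      change (FibCat.fp g f).p.IsHomLift (𝟙 ((FibCat.fp g f).p.obj Z.obj.fst)) (𝟙 Z.obj.fst)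
      infer_instance
    · apply fp_hom_ext
      · have c : 𝟙 _ ≫ u₁.hom = 𝟙 _ ≫ u₁.hom := rfl
        exact (congrArg (fun m => 𝟙 _ ≫ m) hu₁).symm.trans c
      · have c : ψ.hom.hom.snd ≫ u₂.hom = 𝟙 _ ≫ u₁.hom := by
          rw [hψ₂, Category.assoc, Iso.inv_hom_id, Category.comp_id, Category.id_comp]
        exact (congrArg (fun m => ψ.hom.hom.snd ≫ m) hu₂).symm.trans c

end DiagBC

end Groth.Agent.H3.TwoCart
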