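import Mathlib
import Groth.Prelude.Def_AlgSt4
import Groth.Agent.Lib.Helper3.PointsFp
import Groth.Agent.Lib.Helper3.TwoCartDiagBC

set_option autoImplicit false
universe v₆ u₆ v₅ u₅ v₄ u₄ v₃ u₃ v₂ u₂ w v u
open CategoryTheory CategoryTheory.Functor CategoryTheory.Limits Opposite AlgebraicGeometry

namespace Groth.Agent.H3.FPtRel
open Groth.Agent.H3.FibCatAux Groth.Agent.H3.StkAux Groth.Agent.H3.TwoCart Groth.Agent.H3.FpCalc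

variable {S : Scheme.{u}} {𝒳 : BasedCategory.{v₂, u₂} (Over S)} {𝒴 : BasedCategory.{v₃, u₃} (Over S)}
  {𝒵 : BasedCategory.{v₄, u₄} (Over S)} {𝒲 : BasedCategory.{v₅, u₅} (Over S)}

lemma points_map_comp (f : 𝒳 ⥤ᵇ 𝒴) (g : 𝒴 ⥤ᵇ 𝒵) (x : AlgSt.Points 𝒳) :
    AlgSt.Points.map (BasedFunctor.comp f g) x = AlgSt.Points.map g (AlgSt.Points.map f x) := by
  obtain ⟨p, rfl⟩ := AlgSt.Points.mk_surjective x
  rfl

lemma points_map_id (x : AlgSt.Points 𝒳) : AlgSt.Points.map (BasedFunctor.id 𝒳) x = x := by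
  obtain ⟨p, rfl⟩ := AlgSt.Points.mk_surjective x
  rfl

lemma isSurjective_of_hasPre (e : 𝒳 ⥤ᵇ 𝒴) (he : HasPre e) : AlgSt.IsSurjective e := by
  intro y
  obtain ⟨q, rfl⟩ := AlgSt.Points.mk_surjective y
  obtain ⟨x, i, hi⟩ := he q.obj
  have hx : 𝒳.p.obj x = Over.mk q.str := by
    have h1 : 𝒴.p.obj (e.obj x) = 𝒴.p.obj q.obj := IsHomLift.domain_eq 𝒴.p (𝟙 _) i.hom
    exact (e.w_obj x).symm.trans (h1.trans q.lies)
  refine ⟨AlgSt.Points.mk ⟨q.K, q.str, x, hx⟩, ?_⟩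
  rw [AlgSt.Points.map_mk]
  apply AlgSt.Points.sound
  exact rel_of_hom (p := AlgSt.FPt.map e ⟨q.K, q.str, x, hx⟩) (q := q) i.hom

lemma isSurjective_of_isEquivOver (e : 𝒳 ⥤ᵇ 𝒴) (he : FibCat.IsEquivOver e) :
    AlgSt.IsSurjective e := isSurjective_of_hasPre e (hasPre_of_isEquivOver e he)

/-- surjectivity on points is stable under base change along a 2-cartesian square -/
theorem isSurjective_of_isTwoCartOver {𝒮 : BasedCategory.{v₆, u₆} (Over S)}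
    (h𝒳 : FibCat.IsFibGrpd 𝒳.p) (h𝒴 : FibCat.IsFibGrpd 𝒴.p) (h𝒮 : FibCat.IsFibGrpd 𝒮.p)
    (F : 𝒳 ⥤ᵇ 𝒮) (G : 𝒴 ⥤ᵇ 𝒮) (a : 𝒲 ⥤ᵇ 𝒳) (b : 𝒲 ⥤ᵇ 𝒴)
    (e : BasedFunctor.comp a F ≅ BasedFunctor.comp b G) (h : FibCat.IsTwoCartOver a b e)
    (hG : AlgSt.IsSurjective G) : AlgSt.IsSurjective a := by
  intro x
  obtain ⟨w, hw⟩ := isSurjective_fpFst h𝒴 h𝒮 h𝒳 G F hG x
  obtain ⟨v, hv⟩ := isSurjective_of_isEquivOver (FibCat.fpLift a b e) h w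
  refine ⟨v, ?_⟩
  have h1 : AlgSt.Points.map a v =
      AlgSt.Points.map (FibCat.fpFst F G) (AlgSt.Points.map (FibCat.fpLift a b e) v) := by
    rw [← points_map_comp]
    rfl
  rw [h1, hv, hw]

theorem isUnivInjective_iff_isSurjective_diag {𝒳 𝒴 : AlgSt.Cat S} (K : Precoverage Scheme.{u})
    (h𝒳 : AlgSt.IsAlgStack K 𝒳) (h𝒴 : FibCat.IsFibGrpd 𝒴.p) (f : 𝒳 ⥤ᵇ 𝒴) :
    AlgSt.IsUnivInjective K f ↔ AlgSt.IsSurjective (FibCat.diag f) := by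
  have hX : FibCat.IsFibGrpd 𝒳.p := h𝒳.isStack.1
  constructor
  · intro h w
    have hinj := h 𝒳 h𝒳 f
    refine ⟨AlgSt.Points.map (FibCat.fpFst f f) w, ?_⟩
    apply hinj
    rw [← points_map_comp]
    exact points_map_id _
  · intro h 𝒵 h𝒵 g
    have hZ : FibCat.IsFibGrpd 𝒵.p := h𝒵.isStack.1
    have hW : FibCat.IsFibGrpd (FibCat.fp g f).p := X6401 g f hZ hX h𝒴
    have hWW : FibCat.IsFibGrpd (FibCat.fp (FibCat.fpFst g f) (FibCat.fpFst g f)).p :=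
      X6401 _ _ hW hW hZ
    have hXX : FibCat.IsFibGrpd (FibCat.fp f f).p := X6401 f f hX hX h𝒴
    have hΔ : AlgSt.IsSurjective (FibCat.diag (FibCat.fpFst g f)) :=
      isSurjective_of_isTwoCartOver hWW hX hXX (dbcM f g) (FibCat.diag f)
        (FibCat.diag (FibCat.fpFst g f)) (FibCat.fpSnd g f) (dbcE f g) (dbc_isTwoCartOver f g) h
    intro x₁ x₂ hx
    obtain ⟨w, hw1, hw2⟩ := exists_point_fp hW hZ hW (FibCat.fpFst g f) (FibCat.fpFst g f) x₁ x₂ hx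
    obtain ⟨x, rfl⟩ := hΔ w
    rw [← hw1, ← hw2, ← points_map_comp, ← points_map_comp]
    rfl


theorem isUnivInjective_fpFst {𝒳 𝒴 𝒵 : AlgSt.Cat S} (K : Precoverage Scheme.{u})
    (h𝒳 : FibCat.IsFibGrpd 𝒳.p) (h𝒴 : FibCat.IsFibGrpd 𝒴.p) (h𝒵 : FibCat.IsFibGrpd 𝒵.p)
    (f : 𝒳 ⥤ᵇ 𝒴) (g : 𝒵 ⥤ᵇ 𝒴) (hf : AlgSt.IsUnivInjective K f) :
    AlgSt.IsUnivInjective K (FibCat.fpFst g f) := by
  intro 𝒯 h𝒯 h
  have hT : FibCat.IsFibGrpd 𝒯.p := h𝒯.isStack.1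
  have h1 := hf 𝒯 h𝒯 (BasedFunctor.comp h g)
  have hW : FibCat.IsFibGrpd (FibCat.fp g f).p := X6401 g f h𝒵 h𝒳 h𝒴
  have hA : FibCat.IsFibGrpd (FibCat.fp h (FibCat.fpFst g f)).p := X6401 _ _ hT hW h𝒵
  have hB : FibCat.IsFibGrpd (FibCat.fp (BasedFunctor.comp h g) f).p := X6401 _ _ hT h𝒳 h𝒴
  have hfull : (pasteL h g f).toFunctor.Full := pasteL_full h g f
  have h2 := points_map_injective_of_full hA hB (pasteL h g f)
  have h3 : AlgSt.Points.map (FibCat.fpFst h (FibCat.fpFst g f)) =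
      AlgSt.Points.map (FibCat.fpFst (BasedFunctor.comp h g) f) ∘
        AlgSt.Points.map (pasteL h g f) := by
    funext x
    rw [Function.comp_apply, ← points_map_comp, pasteL_comp_fpFst]
  rw [h3]
  exact h1.comp h2

end Groth.Agent.H3.FPtRel
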