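import Mathlib
import Groth.Prelude.Def_AlgSt4
import Groth.Agent.Lib.Helper3.UnivInj

set_option autoImplicit false
universe v₆ u₆ v₅ u₅ v₄ u₄ v₃ u₃ v₂ u₂ w v u
open CategoryTheory CategoryTheory.Functor CategoryTheory.Limits Opposite AlgebraicGeometry

namespace Groth.Agent.H3.TwoCart
open Groth.Agent.H3.FibCatAux Groth.Agent.H3.StkAux Groth.Agent.H3.FpCalc

section MagicIso

variable {C : Type u} [Category.{v} C] {𝒳 : BasedCategory.{v₂, u₂} C} {𝒴 : BasedCategory.{v₃, u₃} C}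
  {𝒵 : BasedCategory.{v₄, u₄} C} {𝒯 : BasedCategory.{v₅, u₅} C}
  (f : 𝒳 ⥤ᵇ 𝒵) (g : 𝒴 ⥤ᵇ 𝒵) (t : 𝒵 ⥤ᵇ 𝒯)

/-- the canonical 2-isomorphism `fpFst ⋙ f ⋙ t ≅ fpSnd ⋙ g ⋙ t`, obtained by applying `t` to the
canonical one -/
def magicIso : BasedFunctor.comp (FibCat.fpFst f g) (BasedFunctor.comp f t) ≅
    BasedFunctor.comp (FibCat.fpSnd f g) (BasedFunctor.comp g t) :=
  BasedNatIso.mkNatIso
    (NatIso.ofComponents (fun W => t.toFunctor.mapIso W.obj.iso)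
      (by
        intro W W' φ
        change t.map (f.map φ.hom.fst) ≫ t.map W'.obj.iso.hom =
          t.map W.obj.iso.hom ≫ t.map (g.map φ.hom.snd)
        have h1 := t.toFunctor.map_comp (f.map φ.hom.fst) W'.obj.iso.hom
        have h2 := t.toFunctor.map_comp W.obj.iso.hom (g.map φ.hom.snd)
        exact h1.symm.trans ((congrArg (fun m => t.map m) φ.hom.w).trans h2)))
    (by
      intro W
      change 𝒯.p.IsHomLift (𝟙 (𝒳.p.obj W.obj.fst)) (t.map W.obj.iso.hom)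
      have : 𝒵.p.IsHomLift (𝟙 (𝒳.p.obj W.obj.fst)) W.obj.iso.hom := W.property
      infer_instance)

lemma magicIso_app (W : (FibCat.fp f g).obj) :
    (magicIso f g t).hom.toNatTrans.app W = t.map W.obj.iso.hom := rfl

end MagicIso

end Groth.Agent.H3.TwoCart

namespace Groth.Agent.H3.FPtRel
open Groth.Agent.H3.FibCatAux Groth.Agent.H3.StkAux Groth.Agent.H3.TwoCart Groth.Agent.H3.FpCalc

variable {S : Scheme.{u}} {𝒳 : BasedCategory.{v₂, u₂} (Over S)} {𝒴 : BasedCategory.{v₃, u₃} (Over S)}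
  {𝒵 : BasedCategory.{v₄, u₄} (Over S)} {𝒲 : BasedCategory.{v₅, u₅} (Over S)}

/-- functors related by pointwise morphisms induce the same map on points -/
lemma points_map_eq_of_pointwise (F G : 𝒳 ⥤ᵇ 𝒴) (h : ∀ x : 𝒳.obj, Nonempty (F.obj x ⟶ G.obj x))
    (x : AlgSt.Points 𝒳) : AlgSt.Points.map F x = AlgSt.Points.map G x := by
  obtain ⟨p, rfl⟩ := AlgSt.Points.mk_surjective x
  obtain ⟨m⟩ := h p.obj
  rw [AlgSt.Points.map_mk, AlgSt.Points.map_mk]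
  apply AlgSt.Points.sound
  exact rel_of_hom (p := p.map F) (q := p.map G) m

theorem isSurjective_diag_comp {𝒳 𝒴 𝒵 : BasedCategory.{v₂, u₂} (Over S)}
    (h𝒳 : FibCat.IsFibGrpd 𝒳.p) (h𝒴 : FibCat.IsFibGrpd 𝒴.p) (h𝒵 : FibCat.IsFibGrpd 𝒵.p)
    (f : 𝒳 ⥤ᵇ 𝒴) (g : 𝒴 ⥤ᵇ 𝒵) (hf : AlgSt.IsSurjective (FibCat.diag f))
    (hg : AlgSt.IsSurjective (FibCat.diag g)) :
    AlgSt.IsSurjective (FibCat.diag (BasedFunctor.comp f g)) := by
  have he : ∀ W, (magicIso f f g).hom.toNatTrans.app W = g.map W.obj.iso.hom :=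
    fun W => magicIso_app f f g W
  have hXX : FibCat.IsFibGrpd (FibCat.fp (BasedFunctor.comp f g) (BasedFunctor.comp f g)).p :=
    X6401 _ _ h𝒳 h𝒳 h𝒵
  have hYY : FibCat.IsFibGrpd (FibCat.fp g g).p := X6401 _ _ h𝒴 h𝒴 h𝒵
  have h1 : AlgSt.IsSurjective (magicI f f g (magicIso f f g)) :=
    isSurjective_of_isTwoCartOver hXX h𝒴 hYY (magicR f f g) (FibCat.diag g)
      (magicI f f g (magicIso f f g)) (magicL f f) (magicE f f g (magicIso f f g) he)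
      (magic_isTwoCartOver f f g (magicIso f f g) he) hg
  intro w
  obtain ⟨v, hv⟩ := h1 w
  obtain ⟨x, hx⟩ := hf v
  refine ⟨x, ?_⟩
  rw [← hv, ← hx, ← points_map_comp]
  apply points_map_eq_of_pointwise
  intro a
  have wi : (BasedFunctor.comp f g).map (𝟙 a) ≫ g.map (𝟙 (f.obj a)) =
      𝟙 _ ≫ (BasedFunctor.comp f g).map (𝟙 a) := by
    have b1 : (BasedFunctor.comp f g).map (𝟙 a) = 𝟙 _ := (BasedFunctor.comp f g).toFunctor.map_id _
    have b2 : g.map (𝟙 (f.obj a)) = 𝟙 _ := g.toFunctor.map_id _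
    rw [b1, b2]
    rfl
  exact ⟨fpHomMk (X := (FibCat.diag (BasedFunctor.comp f g)).obj a)
    (Y := (BasedFunctor.comp (FibCat.diag f) (magicI f f g (magicIso f f g))).obj a) (𝟙 a) (𝟙 a) wi⟩

theorem isUnivInjective_comp {𝒳 𝒴 𝒵 : AlgSt.Cat S} (K : Precoverage Scheme.{u})
    (h𝒳 : AlgSt.IsAlgStack K 𝒳) (h𝒴 : AlgSt.IsAlgStack K 𝒴) (h𝒵 : FibCat.IsFibGrpd 𝒵.p)
    (f : 𝒳 ⥤ᵇ 𝒴) (g : 𝒴 ⥤ᵇ 𝒵) (hf : AlgSt.IsUnivInjective K f) (hg : AlgSt.IsUnivInjective K g) :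
    AlgSt.IsUnivInjective K (BasedFunctor.comp f g) := by
  rw [isUnivInjective_iff_isSurjective_diag K h𝒳 h𝒵]
  rw [isUnivInjective_iff_isSurjective_diag K h𝒳 h𝒴.isStack.1] at hf
  rw [isUnivInjective_iff_isSurjective_diag K h𝒴 h𝒵] at hg
  exact isSurjective_diag_comp h𝒳.isStack.1 h𝒴.isStack.1 h𝒵 f g hf hg

end Groth.Agent.H3.FPtRel
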