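import Mathlib
import Groth.Agent.Lib.Helper3.FpCalc

/-!
# Whiskering of 2-isomorphisms of functors over a base (helper3)
-/

set_option autoImplicit false
universe v₅ u₅ v₄ u₄ v₃ u₃ v₂ u₂ v u
open CategoryTheory CategoryTheory.Functor

namespace Groth.Agent.H3.Whisker

open Groth.Agent.H3.FpCalc

variable {C : Type u} [Category.{v} C]
variable {𝒲 : BasedCategory.{v₂, u₂} C} {𝒳 : BasedCategory.{v₃, u₃} C}
  {𝒴 : BasedCategory.{v₄, u₄} C} {𝒵 : BasedCategory.{v₅, u₅} C}

/-- left whiskering of a 2-isomorphism over the base -/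
def whiskerL (H : 𝒲 ⥤ᵇ 𝒳) {F G : 𝒳 ⥤ᵇ 𝒴} (α : F ≅ G) :
    BasedFunctor.comp H F ≅ BasedFunctor.comp H G :=
  BasedNatIso.mkNatIso
    (NatIso.ofComponents (fun w => appIso α (H.obj w)) (fun φ => appIso_hom_naturality α (H.map φ)))
    (fun w => appIso_hom_isHomLift α (H.obj w) (H.w_obj w))

/-- right whiskering of a 2-isomorphism over the base -/
def whiskerR {F G : 𝒳 ⥤ᵇ 𝒴} (α : F ≅ G) (H : 𝒴 ⥤ᵇ 𝒵) :
    BasedFunctor.comp F H ≅ BasedFunctor.comp G H :=
  BasedNatIso.mkNatIso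
    (NatIso.ofComponents (fun x => H.toFunctor.mapIso (appIso α x)) (fun {x x'} φ => by
      show H.map (F.map φ) ≫ H.map (appIso α x').hom = H.map (appIso α x).hom ≫ H.map (G.map φ)
      rw [← H.toFunctor.map_comp, ← H.toFunctor.map_comp, appIso_hom_naturality α φ]))
    (fun x => by
      have := appIso_hom_isHomLift α x rfl
      show 𝒵.p.IsHomLift (𝟙 (𝒳.p.obj x)) (H.map (appIso α x).hom)
      infer_instance)

end Groth.Agent.H3.Whisker
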