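import Mathlib
import Groth.Prelude.Def_AlgSt3
import Groth.Agent.Lib.Helper3.TwoCart

set_option autoImplicit false
universe v₆ u₆ v₅ u₅ v₄ u₄ v₃ u₃ v₂ u₂ w v u
open CategoryTheory CategoryTheory.Functor CategoryTheory.Limits Opposite AlgebraicGeometry

namespace Groth.Agent.H3.TwoCart
open Groth.Agent.H3.FibCatAux Groth.Agent.H3.GerbAux Groth.Agent.H3.FpCalc Groth.Agent.H3.AlgStAux

section Graph

variable {C : Type u} [Category.{v} C] {𝒳 : BasedCategory.{v₂, u₂} C} {𝒴 : BasedCategory.{v₃, u₃} C}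
  {𝒯 : BasedCategory.{v₅, u₅} C}
  (p : 𝒳 ⥤ᵇ 𝒯) (q : 𝒴 ⥤ᵇ 𝒯) (g : 𝒳 ⥤ᵇ 𝒴)
  (e : BasedFunctor.comp (BasedFunctor.id 𝒳) p ≅ BasedFunctor.comp g q)

/-- component of the 2-isomorphism `e` as an iso `p x ≅ q (g x)` -/
def eApp (x : 𝒳.obj) : p.obj x ≅ q.obj (g.obj x) :=
  ((BasedNatTrans.forgetful _ _).mapIso e).app x

lemma eApp_hom (x : 𝒳.obj) : (eApp p q g e x).hom = e.hom.toNatTrans.app x := rfl

lemma eApp_nat {x x' : 𝒳.obj} (φ : x ⟶ x') :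
    p.map φ ≫ (eApp p q g e x').hom = (eApp p q g e x).hom ≫ q.map (g.map φ) :=
  e.hom.toNatTrans.naturality φ

lemma eApp_inv_nat {x x' : 𝒳.obj} (φ : x ⟶ x') :
    q.map (g.map φ) ≫ (eApp p q g e x').inv = (eApp p q g e x).inv ≫ p.map φ := by
  rw [Iso.eq_inv_comp, ← Category.assoc, ← eApp_nat, Category.assoc, Iso.hom_inv_id, Category.comp_id]

lemma eApp_isHomLift (x : 𝒳.obj) : 𝒯.p.IsHomLift (𝟙 (𝒳.p.obj x)) (eApp p q g e x).hom :=
  e.hom.isHomLift' x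

/-- the 2-isomorphism used to define the right vertical functor of the graph square -/
def graphREps : BasedFunctor.comp (BasedFunctor.comp (FibCat.fpFst p q) g) q ≅
    BasedFunctor.comp (FibCat.fpSnd p q) q :=
  BasedNatIso.mkNatIso
    (NatIso.ofComponents (fun Z => (eApp p q g e Z.obj.fst).symm ≪≫ Z.obj.iso)
      (by
        intro Z Z' φ
        change q.map (g.map φ.hom.fst) ≫ ((eApp p q g e Z'.obj.fst).inv ≫ Z'.obj.iso.hom) =
          ((eApp p q g e Z.obj.fst).inv ≫ Z.obj.iso.hom) ≫ q.map φ.hom.snd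
        rw [← Category.assoc, eApp_inv_nat, Category.assoc, Category.assoc]
        congr 1
        exact φ.hom.w))
    (by
      intro Z
      change 𝒯.p.IsHomLift (𝟙 (𝒳.p.obj Z.obj.fst))
        ((eApp p q g e Z.obj.fst).inv ≫ Z.obj.iso.hom)
      have h1 : 𝒯.p.IsHomLift (𝟙 (𝒳.p.obj Z.obj.fst)) (eApp p q g e Z.obj.fst).inv :=
        iso_inv_isHomLift _ (eApp_isHomLift p q g e Z.obj.fst)
      have h2 : 𝒯.p.IsHomLift (𝟙 (𝒳.p.obj Z.obj.fst)) Z.obj.iso.hom := Z.property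
      have := IsHomLift.comp (p := 𝒯.p) (𝟙 (𝒳.p.obj Z.obj.fst)) (𝟙 (𝒳.p.obj Z.obj.fst))
        (eApp p q g e Z.obj.fst).inv Z.obj.iso.hom
      rw [Category.comp_id] at this
      exact this)

/-- the right vertical functor `(x, y, κ) ↦ (g x, y, e_x⁻¹ ≫ κ)` of the graph square -/
def graphR : FibCat.fp p q ⥤ᵇ FibCat.fp q q :=
  FibCat.fpLift (BasedFunctor.comp (FibCat.fpFst p q) g) (FibCat.fpSnd p q) (graphREps p q g e)

lemma graphR_obj_iso (Z : (FibCat.fp p q).obj) :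
    ((graphR p q g e).obj Z).obj.iso.hom = (eApp p q g e Z.obj.fst).inv ≫ Z.obj.iso.hom := rfl

/-- the graph -/
abbrev graphΓ : 𝒳 ⥤ᵇ FibCat.fp p q := FibCat.fpLift (BasedFunctor.id 𝒳) g e

lemma graphΓ_obj_iso (x : 𝒳.obj) :
    ((graphΓ p q g e).obj x).obj.iso.hom = (eApp p q g e x).hom := rfl

lemma graph_iso_aux (x : 𝒳.obj) :
    q.map (𝟙 (g.obj x)) ≫ 𝟙 _ =
      ((graphR p q g e).obj ((graphΓ p q g e).obj x)).obj.iso.hom ≫ q.map (𝟙 (g.obj x)) := by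
  have h2 : q.map (𝟙 (g.obj x)) = 𝟙 _ := q.toFunctor.map_id _
  have h3 : q.map (𝟙 (g.obj x)) ≫ 𝟙 _ =
      ((eApp p q g e x).inv ≫ (eApp p q g e x).hom) ≫ q.map (𝟙 (g.obj x)) := by
    rw [Iso.inv_hom_id, h2]
  exact h3

/-- the 2-isomorphism of the graph square -/
def graphE : BasedFunctor.comp (graphΓ p q g e) (graphR p q g e) ≅
    BasedFunctor.comp g (FibCat.diag q) :=
  BasedNatIso.mkNatIso
    (NatIso.ofComponents
      (fun x => fpIsoMk (X := (graphR p q g e).obj ((graphΓ p q g e).obj x))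
        (Y := (FibCat.diag q).obj (g.obj x)) (Iso.refl (g.obj x)) (Iso.refl (g.obj x))
        (graph_iso_aux p q g e x))
      (by
        intro x x' φ
        apply fp_hom_ext
        · change g.map φ ≫ 𝟙 _ = 𝟙 _ ≫ g.map φ
          rw [Category.comp_id, Category.id_comp]
        · change g.map φ ≫ 𝟙 _ = 𝟙 _ ≫ g.map φ
          rw [Category.comp_id, Category.id_comp]))
    (by
      intro x
      rw [fp_isHomLift_iff]
      change 𝒴.p.IsHomLift (𝟙 _) (𝟙 (g.obj x))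
      exact IsHomLift.of_fac' 𝒴.p _ _ (g.w_obj _) (g.w_obj _) (by simp))

lemma graphE_app_fst (x : 𝒳.obj) :
    ((graphE p q g e).hom.toNatTrans.app x).hom.fst = 𝟙 (g.obj x) := rfl

lemma graphE_app_snd (x : 𝒳.obj) :
    ((graphE p q g e).hom.toNatTrans.app x).hom.snd = 𝟙 (g.obj x) := rfl

theorem graph_isTwoCartOver :
    FibCat.IsTwoCartOver (F := graphR p q g e) (G := FibCat.diag q) (graphΓ p q g e) g
      (graphE p q g e) := by
  apply isTwoCartOver_of_concrete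
  · intro x x' φ ψ h1 _
    exact congrArg (fun m => m.hom.fst) h1
  · intro x x' α β hαβ
    have c1 := congrArg (fun m => m.hom.fst) hαβ
    have c2 := congrArg (fun m => m.hom.snd) hαβ
    obtain ⟨α₁, hα₁⟩ : ∃ m : x ⟶ x', m = α.hom.fst := ⟨_, rfl⟩
    obtain ⟨α₂, hα₂⟩ : ∃ m : g.obj x ⟶ g.obj x', m = α.hom.snd := ⟨_, rfl⟩
    obtain ⟨β', hβ'⟩ : ∃ m : g.obj x ⟶ g.obj x', m = β := ⟨_, rfl⟩
    have d1 : g.map α₁ ≫ 𝟙 _ = 𝟙 _ ≫ β' := by rw [hα₁, hβ']; exact c1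
    have d2 : α₂ ≫ 𝟙 _ = 𝟙 _ ≫ β' := by rw [hα₂, hβ']; exact c2
    rw [Category.comp_id, Category.id_comp] at d1 d2
    refine ⟨α₁, ?_, ?_⟩
    · apply fp_hom_ext
      · exact hα₁
      · change g.map α₁ = α.hom.snd
        rw [d1, ← d2, hα₂]
    · exact d1.trans hβ'
  · intro Z y ι₀ hι₀
    obtain ⟨u₁, hu₁⟩ : ∃ m : g.obj Z.obj.fst ≅ y, m.hom = ι₀.hom.hom.fst := ⟨fstIso ι₀, rfl⟩
    obtain ⟨u₂, hu₂⟩ : ∃ m : Z.obj.snd ≅ y, m.hom = ι₀.hom.hom.snd := ⟨sndIso ι₀, rfl⟩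
    obtain ⟨κ, hκ⟩ : ∃ m : p.obj Z.obj.fst ≅ q.obj Z.obj.snd, m = Z.obj.iso := ⟨_, rfl⟩
    have l1 : 𝒴.p.IsHomLift (𝟙 (𝒳.p.obj Z.obj.fst)) u₁.hom := by
      rw [hu₁]; exact fst_isHomLift ι₀.hom hι₀
    have l2 : 𝒴.p.IsHomLift (𝟙 (𝒳.p.obj Z.obj.fst)) u₂.hom := by
      rw [hu₂]; exact snd_isHomLift ι₀.hom hι₀
    have l3 : 𝒴.p.IsHomLift (𝟙 (𝒳.p.obj Z.obj.fst)) u₂.inv := iso_inv_isHomLift u₂ l2
    have compat : q.map u₁.hom ≫ 𝟙 _ = ((eApp p q g e Z.obj.fst).inv ≫ κ.hom) ≫ q.map u₂.hom := by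
      rw [hu₁, hu₂, hκ]; exact ι₀.hom.hom.w
    rw [Category.comp_id] at compat
    -- the iso `Γ (Z.fst) ≅ Z` : `(𝟙, u₁ ≫ u₂⁻¹)`
    have wi : (p.map (𝟙 Z.obj.fst)) ≫ Z.obj.iso.hom =
        ((graphΓ p q g e).obj Z.obj.fst).obj.iso.hom ≫ q.map (u₁ ≪≫ u₂.symm).hom := by
      have b1 : p.map (𝟙 Z.obj.fst) = 𝟙 _ := p.toFunctor.map_id _
      have a1 : q.map (u₁.hom ≫ u₂.inv) = q.map u₁.hom ≫ q.map u₂.inv := q.toFunctor.map_comp _ _
      have a2 : q.map u₂.hom ≫ q.map u₂.inv = 𝟙 _ := by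
        have := q.toFunctor.map_comp u₂.hom u₂.inv
        rw [Iso.hom_inv_id] at this
        exact this.symm.trans (q.toFunctor.map_id _)
      rw [b1, Category.id_comp, graphΓ_obj_iso]
      change Z.obj.iso.hom = (eApp p q g e Z.obj.fst).hom ≫ q.map (u₁.hom ≫ u₂.inv)
      rw [a1, compat, Category.assoc, Category.assoc, a2, Category.comp_id, Iso.hom_inv_id_assoc, hκ]
    refine ⟨Z.obj.fst, fpIsoMk (X := (graphΓ p q g e).obj Z.obj.fst) (Y := Z) (Iso.refl _)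
      (u₁ ≪≫ u₂.symm) wi, u₁, ?_, ?_⟩
    · rw [fp_isHomLift_iff]
      change 𝒳.p.IsHomLift (𝟙 (𝒳.p.obj Z.obj.fst)) (𝟙 Z.obj.fst)
      infer_instance
    · apply fp_hom_ext
      · change g.map (𝟙 Z.obj.fst) ≫ ι₀.hom.hom.fst = 𝟙 _ ≫ u₁.hom
        rw [← hu₁]
        have b1 : g.map (𝟙 Z.obj.fst) = 𝟙 _ := g.toFunctor.map_id _
        exact congrArg (fun m => m ≫ u₁.hom) b1
      · have c : (u₁.hom ≫ u₂.inv) ≫ u₂.hom = 𝟙 _ ≫ u₁.hom := by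
          rw [Category.assoc, Iso.inv_hom_id, Category.comp_id, Category.id_comp]
        exact (congrArg (fun m => (u₁.hom ≫ u₂.inv) ≫ m) hu₂).symm.trans c

end Graph

end Groth.Agent.H3.TwoCart
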