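import Mathlib
import Groth.Agent.Lib.Helper3.AlgStAux

/-!
# The diagonal of a functor over a base is compatible with squares (helper3)
-/

set_option autoImplicit false
universe v₅ u₅ v₄ u₄ v₃ u₃ v₂ u₂ v u
open CategoryTheory CategoryTheory.Functor

namespace Groth.Agent.H3.DiagSquare

open Groth.Agent.H3.FibCatAux Groth.Agent.H3.GerbAux Groth.Agent.H3.FpCalc Groth.Agent.H3.AlgStAux

section General

variable {C : Type u} [Category.{v} C] {𝒳 : BasedCategory.{v₂, u₂} C} {𝒴 : BasedCategory.{v₃, u₃} C}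
  {𝒳' : BasedCategory.{v₄, u₄} C} {𝒴' : BasedCategory.{v₅, u₅} C}
  (f : 𝒳 ⥤ᵇ 𝒴) (f' : 𝒳' ⥤ᵇ 𝒴') (a : 𝒳' ⥤ᵇ 𝒳) (b : 𝒴' ⥤ᵇ 𝒴)
  (e : BasedFunctor.comp f' b ≅ BasedFunctor.comp a f)

/-- `a × a : 𝒳' ×_{𝒴'} 𝒳' ⟶ 𝒳 ×_𝒴 𝒳` -/
def prodSq : FibCat.fp f' f' ⥤ᵇ FibCat.fp f f := fpMap a a b e e

lemma isEquivOver_prodSq (ha : FibCat.IsEquivOver a) [b.toFunctor.Full] [b.toFunctor.Faithful] :
    FibCat.IsEquivOver (prodSq f f' a b e) :=
  isEquivOver_fpMap _ _ _ _ _ ha ha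

/-- the square `Δ_{f'} ≫ (a × a) ≅ a ≫ Δ_f` -/
def diagSqG : BasedFunctor.comp (FibCat.diag f') (prodSq f f' a b e) ≅
    BasedFunctor.comp a (FibCat.diag f) :=
  BasedNatIso.mkNatIso
    (NatIso.ofComponents (fun x =>
      fpIsoMk (X := (prodSq f f' a b e).obj ((FibCat.diag f').obj x))
        (Y := (FibCat.diag f).obj (a.obj x)) (Iso.refl (a.obj x)) (Iso.refl (a.obj x))
        (by
          show f.map (𝟙 (a.obj x)) ≫ 𝟙 _ =
            ((sqIso e x).inv ≫ b.map (𝟙 (f'.obj x)) ≫ (sqIso e x).hom) ≫ f.map (𝟙 (a.obj x))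
          have h1 : b.map (𝟙 (f'.obj x)) = 𝟙 _ := b.toFunctor.map_id _
          rw [h1, Category.id_comp, Iso.inv_hom_id, Category.comp_id, Category.id_comp]))
      (by
        intro x x' φ
        apply fp_hom_ext
        · show a.map φ ≫ 𝟙 _ = 𝟙 _ ≫ a.map φ
          simp
        · show a.map φ ≫ 𝟙 _ = 𝟙 _ ≫ a.map φ
          simp))
    (fun x => by
      rw [fp_isHomLift_iff]
      show 𝒳.p.IsHomLift (𝟙 (𝒳'.p.obj x)) (𝟙 (a.obj x))
      exact IsHomLift.id (a.w_obj x))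

end General

section Rep

variable {S : AlgebraicGeometry.Scheme.{u}} {𝒳 𝒴 𝒳' 𝒴' : AlgSt.Cat S}
  (f : 𝒳 ⥤ᵇ 𝒴) (f' : 𝒳' ⥤ᵇ 𝒴') (a : 𝒳' ⥤ᵇ 𝒳) (b : 𝒴' ⥤ᵇ 𝒴)
  (e : BasedFunctor.comp f' b ≅ BasedFunctor.comp a f)

include e in
/-- the diagonal of `f'` has `P` iff the diagonal of `f` has, for a square of equivalences -/
theorem repByAlgSpWith_diag_iff_of_square (P : MorphismProperty (AlgSp.Sp S))
    (ha : FibCat.IsEquivOver a) (hb : FibCat.IsEquivOver b) :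
    AlgSt.RepByAlgSpWith P (FibCat.diag f') ↔ AlgSt.RepByAlgSpWith P (FibCat.diag f) := by
  obtain ⟨⟨hb1, hb2⟩, -⟩ := (X5139 b).1 hb
  have hM : FibCat.IsEquivOver (prodSq f f' a b e) := isEquivOver_prodSq f f' a b e ha
  constructor
  · exact repByAlgSpWith_of_square' P (FibCat.diag f) (FibCat.diag f') a (prodSq f f' a b e) ha hM
      (diagSqG f f' a b e)
  · exact repByAlgSpWith_of_square P (FibCat.diag f) (FibCat.diag f') a (prodSq f f' a b e) ha hM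
      (diagSqG f f' a b e)

end Rep

end Groth.Agent.H3.DiagSquare
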