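import Mathlib
import Groth.Prelude.Def_AlgSt3
import Groth.Agent.Lib.Helper3.TwoCart

set_option autoImplicit false
universe v₆ u₆ v₅ u₅ v₄ u₄ v₃ u₃ v₂ u₂ w v u
open CategoryTheory CategoryTheory.Functor CategoryTheory.Limits Opposite AlgebraicGeometry

namespace Groth.Agent.H3.TwoCart
open Groth.Agent.H3.FibCatAux Groth.Agent.H3.GerbAux Groth.Agent.H3.FpCalc Groth.Agent.H3.AlgStAux

section Section

variable {C : Type u} [Category.{v} C] {𝒳 : BasedCategory.{v₂, u₂} C}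
  {𝒯 : BasedCategory.{v₅, u₅} C}
  (f : 𝒳 ⥤ᵇ 𝒯) (s : 𝒯 ⥤ᵇ 𝒳) (e : BasedFunctor.comp s f ≅ BasedFunctor.id 𝒯)

/-- component of the 2-isomorphism `e` as an iso `f (s t) ≅ t` -/
def sApp (t : 𝒯.obj) : f.obj (s.obj t) ≅ t :=
  ((BasedNatTrans.forgetful _ _).mapIso e).app t

lemma sApp_nat {t t' : 𝒯.obj} (φ : t ⟶ t') :
    f.map (s.map φ) ≫ (sApp f s e t').hom = (sApp f s e t).hom ≫ φ :=
  e.hom.toNatTrans.naturality φ

lemma sApp_inv_nat {t t' : 𝒯.obj} (φ : t ⟶ t') :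
    φ ≫ (sApp f s e t').inv = (sApp f s e t).inv ≫ f.map (s.map φ) := by
  rw [Iso.eq_inv_comp, ← Category.assoc, ← sApp_nat, Category.assoc, Iso.hom_inv_id, Category.comp_id]

lemma sApp_isHomLift (t : 𝒯.obj) : 𝒯.p.IsHomLift (𝟙 (𝒯.p.obj t)) (sApp f s e t).hom :=
  e.hom.isHomLift' t

lemma sApp_self (t : 𝒯.obj) :
    f.map (s.map (sApp f s e t).hom) = (sApp f s e (f.obj (s.obj t))).hom := by
  have h := sApp_nat f s e (sApp f s e t).hom
  exact (cancel_mono (sApp f s e t).hom).1 h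

/-- the 2-isomorphism used to define the right vertical functor of the section square -/
def sectREps : BasedFunctor.comp (BasedFunctor.id 𝒳) f ≅
    BasedFunctor.comp (BasedFunctor.comp f s) f :=
  BasedNatIso.mkNatIso
    (NatIso.ofComponents (fun x => (sApp f s e (f.obj x)).symm)
      (by
        intro x x' φ
        exact sApp_inv_nat f s e (f.map φ)))
    (by
      intro x
      change 𝒯.p.IsHomLift (𝟙 (𝒳.p.obj x)) (sApp f s e (f.obj x)).inv
      have h0 : 𝒯.p.obj (f.obj x) = 𝒳.p.obj x := f.w_obj x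
      have h1 : 𝒯.p.IsHomLift (𝟙 (𝒯.p.obj (f.obj x))) (sApp f s e (f.obj x)).inv :=
        iso_inv_isHomLift _ (sApp_isHomLift f s e (f.obj x))
      rw [h0] at h1
      exact h1)

/-- the right vertical functor `x ↦ (x, s (f x), e⁻¹)` of the section square -/
def sectR : 𝒳 ⥤ᵇ FibCat.fp f f :=
  FibCat.fpLift (BasedFunctor.id 𝒳) (BasedFunctor.comp f s) (sectREps f s e)

lemma sectR_obj_iso (x : 𝒳.obj) :
    ((sectR f s e).obj x).obj.iso.hom = (sApp f s e (f.obj x)).inv := rfl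

lemma sect_iso_aux (t : 𝒯.obj) :
    f.map (𝟙 (s.obj t)) ≫ 𝟙 _ =
      ((sectR f s e).obj (s.obj t)).obj.iso.hom ≫ f.map (s.map (sApp f s e t).hom) := by
  have h2 : f.map (𝟙 (s.obj t)) = 𝟙 _ := f.toFunctor.map_id _
  have h3 : f.map (𝟙 (s.obj t)) ≫ 𝟙 _ =
      (sApp f s e (f.obj (s.obj t))).inv ≫ f.map (s.map (sApp f s e t).hom) := by
    rw [sApp_self, Iso.inv_hom_id, h2, Category.comp_id]
  exact h3

/-- `s` applied to the iso `f (s t) ≅ t` -/
def sIso (t : 𝒯.obj) : s.obj (f.obj (s.obj t)) ≅ s.obj t := s.toFunctor.mapIso (sApp f s e t)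

lemma sIso_hom (t : 𝒯.obj) : (sIso f s e t).hom = s.map (sApp f s e t).hom := rfl

/-- the 2-isomorphism of the section square -/
def sectE : BasedFunctor.comp s (sectR f s e) ≅ BasedFunctor.comp s (FibCat.diag f) :=
  BasedNatIso.mkNatIso
    (NatIso.ofComponents
      (fun t => fpIsoMk (X := (sectR f s e).obj (s.obj t))
        (Y := (FibCat.diag f).obj (s.obj t)) (Iso.refl (s.obj t)) (sIso f s e t)
        (sect_iso_aux f s e t))
      (by
        intro t t' φ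
        apply fp_hom_ext
        · change s.map φ ≫ 𝟙 _ = 𝟙 _ ≫ s.map φ
          rw [Category.comp_id, Category.id_comp]
        · change s.map (f.map (s.map φ)) ≫ s.map (sApp f s e t').hom =
            s.map (sApp f s e t).hom ≫ s.map φ
          have h1 := s.toFunctor.map_comp (f.map (s.map φ)) (sApp f s e t').hom
          have h2 := s.toFunctor.map_comp (sApp f s e t).hom φ
          exact h1.symm.trans ((congrArg (fun m => s.map m) (sApp_nat f s e φ)).trans h2)))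
    (by
      intro t
      rw [fp_isHomLift_iff]
      change 𝒳.p.IsHomLift (𝟙 _) (𝟙 (s.obj t))
      exact IsHomLift.of_fac' 𝒳.p _ _ (s.w_obj _) (s.w_obj _) (by simp))

lemma sectE_app_fst (t : 𝒯.obj) :
    ((sectE f s e).hom.toNatTrans.app t).hom.fst = 𝟙 (s.obj t) := rfl

lemma sectE_app_snd (t : 𝒯.obj) :
    ((sectE f s e).hom.toNatTrans.app t).hom.snd = s.map (sApp f s e t).hom := rfl

lemma smap_comp {a b c : 𝒯.obj} (φ : a ⟶ b) (ψ : b ⟶ c) : s.map (φ ≫ ψ) = s.map φ ≫ s.map ψ :=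
  s.toFunctor.map_comp φ ψ

lemma fmap_comp {a b c : 𝒳.obj} (φ : a ⟶ b) (ψ : b ⟶ c) : f.map (φ ≫ ψ) = f.map φ ≫ f.map ψ :=
  f.toFunctor.map_comp φ ψ

theorem sect_isTwoCartOver :
    FibCat.IsTwoCartOver (F := sectR f s e) (G := FibCat.diag f) s s (sectE f s e) := by
  apply isTwoCartOver_of_concrete
  · intro t t' φ ψ h1 _
    have h2 : f.map (s.map φ) = f.map (s.map ψ) := congrArg (fun m => f.map m) h1
    have h3 := sApp_nat f s e φ
    have h4 := sApp_nat f s e ψ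
    rw [h2] at h3
    exact (cancel_epi (sApp f s e t).hom).1 (h3.symm.trans h4)
  · intro t t' α β hαβ
    have c1 := congrArg (fun m => m.hom.fst) hαβ
    have c2 := congrArg (fun m => m.hom.snd) hαβ
    obtain ⟨β', hβ'⟩ : ∃ m : s.obj t ⟶ s.obj t', m = β := ⟨_, rfl⟩
    have d1 : α ≫ 𝟙 _ = 𝟙 _ ≫ β' := by rw [hβ']; exact c1
    have d2 : s.map (f.map α) ≫ s.map (sApp f s e t').hom = s.map (sApp f s e t).hom ≫ β' := by
      rw [hβ']; exact c2
    rw [Category.comp_id, Category.id_comp] at d1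
    have key : s.map ((sApp f s e t).inv ≫ f.map α ≫ (sApp f s e t').hom) = α := by
      rw [smap_comp, smap_comp, d2, ← Category.assoc, ← smap_comp, Iso.inv_hom_id]
      have : s.map (𝟙 t) = 𝟙 _ := s.toFunctor.map_id _
      rw [this, Category.id_comp, d1]
    refine ⟨(sApp f s e t).inv ≫ f.map α ≫ (sApp f s e t').hom, key, ?_⟩
    exact key.trans (d1.trans hβ')
  · intro x y ι₀ hι₀
    obtain ⟨u₁, hu₁⟩ : ∃ m : x ≅ y, m.hom = ι₀.hom.hom.fst := ⟨fstIso ι₀, rfl⟩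
    obtain ⟨u₂, hu₂⟩ : ∃ m : s.obj (f.obj x) ≅ y, m.hom = ι₀.hom.hom.snd := ⟨sndIso ι₀, rfl⟩
    have l1 : 𝒳.p.IsHomLift (𝟙 (𝒳.p.obj x)) u₁.hom := by
      rw [hu₁]; exact fst_isHomLift ι₀.hom hι₀
    have l2 : 𝒳.p.IsHomLift (𝟙 (𝒳.p.obj x)) u₂.hom := by
      rw [hu₂]; exact snd_isHomLift ι₀.hom hι₀
    have l3 : 𝒳.p.IsHomLift (𝟙 (𝒳.p.obj x)) u₁.inv := iso_inv_isHomLift u₁ l1
    have compat : f.map u₁.hom ≫ 𝟙 _ = (sApp f s e (f.obj x)).inv ≫ f.map u₂.hom := by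
      rw [hu₁, hu₂]; exact ι₀.hom.hom.w
    rw [Category.comp_id] at compat
    have hfi : f.map (u₂.hom ≫ u₁.inv) = (sApp f s e (f.obj x)).hom := by
      have a2 : f.map u₁.hom ≫ f.map u₁.inv = 𝟙 _ := by
        rw [← fmap_comp, Iso.hom_inv_id]; exact f.toFunctor.map_id _
      have a3 : f.map u₂.hom = (sApp f s e (f.obj x)).hom ≫ f.map u₁.hom := by
        rw [compat, Iso.hom_inv_id_assoc]
      rw [fmap_comp, a3, Category.assoc, a2, Category.comp_id]
    refine ⟨f.obj x, u₂ ≪≫ u₁.symm, u₂, ?_, ?_⟩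
    · change 𝒳.p.IsHomLift (𝟙 (𝒳.p.obj x)) (u₂.hom ≫ u₁.inv)
      have := IsHomLift.comp (p := 𝒳.p) (𝟙 (𝒳.p.obj x)) (𝟙 (𝒳.p.obj x)) u₂.hom u₁.inv
      rw [Category.comp_id] at this
      exact this
    · apply fp_hom_ext
      · have c : (u₂.hom ≫ u₁.inv) ≫ u₁.hom = 𝟙 _ ≫ u₂.hom := by
          rw [Category.assoc, Iso.inv_hom_id, Category.comp_id, Category.id_comp]
        exact (congrArg (fun m => (u₂.hom ≫ u₁.inv) ≫ m) hu₁).symm.trans c
      · have c : s.map (f.map (u₂.hom ≫ u₁.inv)) ≫ u₂.hom =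
            s.map (sApp f s e (f.obj x)).hom ≫ u₂.hom := by rw [hfi]
        exact (congrArg (fun m => s.map (f.map (u₂.hom ≫ u₁.inv)) ≫ m) hu₂).symm.trans c

end Section

end Groth.Agent.H3.TwoCart
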