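import Mathlib
import Groth.Agent.Lib.Helper3.FibCatAux

/-!
# The 2-Yoneda lemma for categories fibred in groupoids, existence part (helper3)

Every object `η` of a category `𝒴` fibred in groupoids over `C` is the value at the identity of a
functor `C/U ⟶ 𝒴` over `C`, `U` the image of `η`.
-/

set_option autoImplicit false
universe v₂ u₂ v u
open CategoryTheory CategoryTheory.Functor

noncomputable section

namespace Groth.Agent.H3.TwoYoneda

open Groth.Agent.H3.FibCatAux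

variable {C : Type u} [Category.{v} C] {𝒴 : BasedCategory.{v₂, u₂} C}
  (h : FibCat.IsFibGrpd 𝒴.p) (η : 𝒴.obj)

/-- a chosen pullback of `η` along `a` -/
def pbObj (a : Over (𝒴.p.obj η)) : 𝒴.obj := (h.exists_lift (x := η) a.hom).choose

/-- the chosen cartesian arrow -/
def pbMap (a : Over (𝒴.p.obj η)) : pbObj h η a ⟶ η :=
  (h.exists_lift (x := η) a.hom).choose_spec.choose

instance pbMap_isHomLift (a : Over (𝒴.p.obj η)) : 𝒴.p.IsHomLift a.hom (pbMap h η a) :=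
  (h.exists_lift (x := η) a.hom).choose_spec.choose_spec

instance pbMap_cart (a : Over (𝒴.p.obj η)) : 𝒴.p.IsStronglyCartesian a.hom (pbMap h η a) :=
  isStronglyCartesian_of_isHomLift 𝒴.p h a.hom (pbMap h η a)

/-- the action on morphisms -/
def pbHom {a b : Over (𝒴.p.obj η)} (φ : a ⟶ b) : pbObj h η a ⟶ pbObj h η b :=
  IsStronglyCartesian.map 𝒴.p b.hom (pbMap h η b) (Over.w φ).symm (pbMap h η a)

instance pbHom_isHomLift {a b : Over (𝒴.p.obj η)} (φ : a ⟶ b) :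
    𝒴.p.IsHomLift φ.left (pbHom h η φ) :=
  IsStronglyCartesian.map_isHomLift 𝒴.p b.hom (pbMap h η b) (Over.w φ).symm (pbMap h η a)

@[simp] lemma pbHom_fac {a b : Over (𝒴.p.obj η)} (φ : a ⟶ b) :
    pbHom h η φ ≫ pbMap h η b = pbMap h η a :=
  IsStronglyCartesian.fac 𝒴.p b.hom (pbMap h η b) (Over.w φ).symm (pbMap h η a)

lemma pbHom_uniq {a b : Over (𝒴.p.obj η)} (φ : a ⟶ b) (ψ : pbObj h η a ⟶ pbObj h η b)
    [𝒴.p.IsHomLift φ.left ψ] (hψ : ψ ≫ pbMap h η b = pbMap h η a) : ψ = pbHom h η φ :=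
  IsStronglyCartesian.map_uniq 𝒴.p b.hom (pbMap h η b) (Over.w φ).symm (pbMap h η a) ψ hψ

/-- the underlying functor -/
def yFunctor : Over (𝒴.p.obj η) ⥤ 𝒴.obj where
  obj a := pbObj h η a
  map φ := pbHom h η φ
  map_id a := by
    symm
    have : 𝒴.p.IsHomLift (𝟙 a : a ⟶ a).left (𝟙 (pbObj h η a)) := by
      change 𝒴.p.IsHomLift (𝟙 a.left) (𝟙 (pbObj h η a))
      exact IsHomLift.id (IsHomLift.domain_eq 𝒴.p a.hom (pbMap h η a))
    exact pbHom_uniq h η (𝟙 a) (𝟙 _) (Category.id_comp _)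
  map_comp {a b c} φ ψ := by
    symm
    have : 𝒴.p.IsHomLift (φ ≫ ψ).left (pbHom h η φ ≫ pbHom h η ψ) := by
      change 𝒴.p.IsHomLift (φ.left ≫ ψ.left) (pbHom h η φ ≫ pbHom h η ψ)
      infer_instance
    exact pbHom_uniq h η (φ ≫ ψ) _ (by rw [Category.assoc, pbHom_fac, pbHom_fac])

/-- the functor over `C` attached to the object `η` -/
def yBased : FibCat.overCat (𝒴.p.obj η) ⥤ᵇ 𝒴 where
  toFunctor := yFunctor h η
  w := CategoryTheory.Functor.ext
    (fun a => by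
      have h1 : 𝒴.p.obj (pbObj h η a) = a.left := IsHomLift.domain_eq 𝒴.p a.hom (pbMap h η a)
      exact h1)
    (fun a b φ => by
      have h1 := IsHomLift.fac' 𝒴.p φ.left (pbHom h η φ)
      exact h1)

/-- its value at the identity is `η` -/
def yIso : (yBased h η).obj (Over.mk (𝟙 (𝒴.p.obj η))) ≅ η :=
  have _h1 : 𝒴.p.IsHomLift (𝟙 (𝒴.p.obj η)) (pbMap h η (Over.mk (𝟙 (𝒴.p.obj η)))) :=
    pbMap_isHomLift h η (Over.mk (𝟙 (𝒴.p.obj η)))
  have h2 : IsIso (pbMap h η (Over.mk (𝟙 (𝒴.p.obj η)))) :=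
    isIso_of_isHomLift_id 𝒴.p h (U := 𝒴.p.obj η) _
  @asIso _ _ _ _ (pbMap h η (Over.mk (𝟙 (𝒴.p.obj η)))) h2

/-- the canonical morphism from the value at `a` to `η` -/
lemma yBased_obj_hom (a : Over (𝒴.p.obj η)) : Nonempty ((yBased h η).obj a ⟶ η) := ⟨pbMap h η a⟩

include h in
/-- **2-Yoneda, existence**: every object over `U` is the value at the identity of a functor
`C/U ⟶ 𝒴` over `C`. -/
theorem exists_functor_of_obj {U : C} (hη : 𝒴.p.obj η = U) :
    ∃ (y : FibCat.overCat U ⥤ᵇ 𝒴), ∀ a : Over U, Nonempty (y.obj a ⟶ η) := by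
  subst hη
  exact ⟨yBased h η, fun a => yBased_obj_hom h η a⟩

end Groth.Agent.H3.TwoYoneda
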