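import Mathlib
import Groth.Prelude.Def_AlgSt
import Groth.Agent.Lib.Helper3.FibCatAux
import Groth.Agent.Lib.Helper3.FibCatYoneda

set_option autoImplicit false

universe v₃ u₃ v₂ u₂ v u

open CategoryTheory CategoryTheory.Functor

namespace Groth.Agent.H3.FFPostcomp

open Groth.Agent.H3.FibCatAux Groth.Agent.H3.FibCatYoneda

variable {C : Type u} [Category.{v} C] {𝒳 : BasedCategory.{v₂, u₂} C} {𝒴 : BasedCategory.{v₃, u₃} C}

/-- postcomposition with F is full, in elementary terms -/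
def PFull (U : C) (F : 𝒳 ⥤ᵇ 𝒴) : Prop :=
  ∀ (G G' : FibCat.overCat U ⥤ᵇ 𝒳) (β : BasedFunctor.comp G F ⟶ BasedFunctor.comp G' F),
    ∃ α : G ⟶ G', BasedCategory.whiskerRight α F = β

def PFaithful (U : C) (F : 𝒳 ⥤ᵇ 𝒴) : Prop :=
  ∀ (G G' : FibCat.overCat U ⥤ᵇ 𝒳) (α α' : G ⟶ G'),
    BasedCategory.whiskerRight α F = BasedCategory.whiskerRight α' F → α = α'

section Forward

variable (F : 𝒳 ⥤ᵇ 𝒴)

lemma pfull_of_full [F.toFunctor.Full] [F.toFunctor.Faithful] (U : C) : PFull U F := by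
  intro G G' β
  have hnat : ∀ {A B : Over U} (w : A ⟶ B),
      G.map w ≫ F.toFunctor.preimage (β.toNatTrans.app B) =
        F.toFunctor.preimage (β.toNatTrans.app A) ≫ G'.map w := by
    intro A B w
    apply F.toFunctor.map_injective
    rw [Functor.map_comp, Functor.map_comp, Functor.map_preimage, Functor.map_preimage]
    exact β.toNatTrans.naturality w
  refine ⟨{ toNatTrans := { app := fun A => F.toFunctor.preimage (β.toNatTrans.app A)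
                            naturality := fun _ _ w => hnat w }
            isHomLift' := fun A => ?_ }, ?_⟩
  · rw [← BasedFunctor.isHomLift_iff F]
    change 𝒴.p.IsHomLift _ (F.toFunctor.map (F.toFunctor.preimage (β.toNatTrans.app A)))
    rw [Functor.map_preimage]
    exact β.isHomLift' A
  · apply BasedNatTrans.homCategory.ext
    ext A
    exact F.toFunctor.map_preimage (β.toNatTrans.app A)

lemma pfaithful_of_faithful [F.toFunctor.Faithful] (U : C) : PFaithful U F := by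
  intro G G' α α' h
  apply BasedNatTrans.homCategory.ext
  ext A
  apply F.toFunctor.map_injective
  exact congrArg (fun t => t.toNatTrans.app A) h

end Forward

section Vertical

variable (h𝒳 : FibCat.IsFibGrpd 𝒳.p) (h𝒴 : FibCat.IsFibGrpd 𝒴.p) (F : 𝒳 ⥤ᵇ 𝒴)

include h𝒴 in
lemma preserves_all {U : C} (H : FibCat.overCat U ⥤ᵇ 𝒴) : FibCat.PreservesStronglyCartesian H := by
  intro R S f A B φ hφ
  have : 𝒴.p.IsHomLift f (H.map φ) := inferInstance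
  exact isStronglyCartesian_of_isHomLift 𝒴.p h𝒴 f _

include h𝒳 in
/-- for `x` over `U` there are a based functor `G` on `C/U` and an isomorphism `G(id) ≅ x` over `𝟙 U` -/
lemma exists_rep {U : C} (x : 𝒳.obj) (hx : 𝒳.p.obj x = U) :
    ∃ (G : FibCat.overCat U ⥤ᵇ 𝒳) (i : G.obj (Over.mk (𝟙 U)) ⟶ x) (j : x ⟶ G.obj (Over.mk (𝟙 U))),
      𝒳.p.IsHomLift (𝟙 U) i ∧ 𝒳.p.IsHomLift (𝟙 U) j ∧ i ≫ j = 𝟙 _ ∧ j ≫ i = 𝟙 _ := by
  haveI hfib : 𝒳.p.IsFibered := isFibered_of_isFibGrpd 𝒳.p h𝒳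
  obtain ⟨φ, hφ⟩ : ∃ φ : pbObj x hx (Over.mk (𝟙 U)) ⟶ x, φ = pbMap x hx (Over.mk (𝟙 U)) :=
    ⟨_, rfl⟩
  have h1 : 𝒳.p.IsStronglyCartesian (𝟙 U) φ := by
    rw [hφ]; exact pbMap_isStronglyCartesian x hx (Over.mk (𝟙 U))
  haveI h2 : IsIso φ := IsStronglyCartesian.isIso_of_base_isIso 𝒳.p (𝟙 U) φ
  haveI h3 : 𝒳.p.IsHomLift (𝟙 U) φ := h1.toIsHomLift
  obtain ⟨ψ, hψ0, hψ1, hψ2⟩ : ∃ ψ : x ⟶ pbObj x hx (Over.mk (𝟙 U)),
      𝒳.p.IsHomLift (𝟙 U) ψ ∧ φ ≫ ψ = 𝟙 _ ∧ ψ ≫ φ = 𝟙 _ :=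
    ⟨CategoryTheory.inv φ, inferInstance, IsIso.hom_inv_id φ, IsIso.inv_hom_id φ⟩
  exact ⟨pbBased x hx, φ, ψ, h3, hψ0, hψ1, hψ2⟩

include h𝒳 h𝒴 in
lemma vertical_faithful {U : C} (hfa : PFaithful U F) {x z : 𝒳.obj} (hx : 𝒳.p.obj x = U)
    (hz : 𝒳.p.obj z = U) (χ χ' : x ⟶ z) [𝒳.p.IsHomLift (𝟙 U) χ] [𝒳.p.IsHomLift (𝟙 U) χ']
    (h : F.map χ = F.map χ') : χ = χ' := by
  obtain ⟨Gx, ix, jx, hix, hjx, e1x, e2x⟩ := exists_rep h𝒳 x hx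
  obtain ⟨Gz, iz, jz, hiz, hjz, e1z, e2z⟩ := exists_rep h𝒳 z hz
  have hGz : FibCat.PreservesStronglyCartesian Gz := preserves_all h𝒳 Gz
  have hGzF : FibCat.PreservesStronglyCartesian (BasedFunctor.comp Gz F) := preserves_all h𝒴 _
  haveI hξ : 𝒳.p.IsHomLift (𝟙 U) (ix ≫ χ ≫ jz) := by
    have : 𝒳.p.IsHomLift (𝟙 U ≫ 𝟙 U ≫ 𝟙 U) (ix ≫ χ ≫ jz) := inferInstance
    simpa using this
  haveI hξ' : 𝒳.p.IsHomLift (𝟙 U) (ix ≫ χ' ≫ jz) := by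
    have : 𝒳.p.IsHomLift (𝟙 U ≫ 𝟙 U ≫ 𝟙 U) (ix ≫ χ' ≫ jz) := inferInstance
    simpa using this
  have key : FibCatYoneda.ext Gx Gz hGz (ix ≫ χ ≫ jz) = FibCatYoneda.ext Gx Gz hGz (ix ≫ χ' ≫ jz) := by
    apply hfa
    apply natTrans_ext_of_app_id hGzF
    change F.map ((FibCatYoneda.ext Gx Gz hGz (ix ≫ χ ≫ jz)).toNatTrans.app (Over.mk (𝟙 U))) =
      F.map ((FibCatYoneda.ext Gx Gz hGz (ix ≫ χ' ≫ jz)).toNatTrans.app (Over.mk (𝟙 U)))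
    rw [ext_app_id, ext_app_id]
    rw [Functor.map_comp, Functor.map_comp, Functor.map_comp, Functor.map_comp]
    exact congrArg (fun t => F.toFunctor.map ix ≫ t ≫ F.toFunctor.map jz) h
  have key2 : ix ≫ χ ≫ jz = ix ≫ χ' ≫ jz := by
    have := congrArg (fun t => t.toNatTrans.app (Over.mk (𝟙 U))) key
    simpa only [ext_app_id] using this
  calc χ = jx ≫ (ix ≫ χ ≫ jz) ≫ iz := by
        rw [Category.assoc, Category.assoc, e2z, Category.comp_id, ← Category.assoc, e2x,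
          Category.id_comp]
    _ = jx ≫ (ix ≫ χ' ≫ jz) ≫ iz := by rw [key2]
    _ = χ' := by
        rw [Category.assoc, Category.assoc, e2z, Category.comp_id, ← Category.assoc, e2x,
          Category.id_comp]

include h𝒳 h𝒴 in
lemma vertical_full {U : C} (hfu : PFull U F) {x z : 𝒳.obj} (hx : 𝒳.p.obj x = U)
    (hz : 𝒳.p.obj z = U) (φ : F.obj x ⟶ F.obj z) [𝒴.p.IsHomLift (𝟙 U) φ] :
    ∃ χ : x ⟶ z, 𝒳.p.IsHomLift (𝟙 U) χ ∧ F.map χ = φ := by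
  obtain ⟨Gx, ix, jx, hix, hjx, e1x, e2x⟩ := exists_rep h𝒳 x hx
  obtain ⟨Gz, iz, jz, hiz, hjz, e1z, e2z⟩ := exists_rep h𝒳 z hz
  have hGzF : FibCat.PreservesStronglyCartesian (BasedFunctor.comp Gz F) := preserves_all h𝒴 _
  obtain ⟨ξ, hξe⟩ : ∃ ξ : (BasedFunctor.comp Gx F).obj (Over.mk (𝟙 U)) ⟶
      (BasedFunctor.comp Gz F).obj (Over.mk (𝟙 U)), ξ = F.map ix ≫ φ ≫ F.map jz := ⟨_, rfl⟩
  haveI hξ : 𝒴.p.IsHomLift (𝟙 U) ξ := by
    have : 𝒴.p.IsHomLift (𝟙 U ≫ 𝟙 U ≫ 𝟙 U) (F.map ix ≫ φ ≫ F.map jz) := inferInstance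
    rw [hξe]
    rw [Category.id_comp, Category.id_comp] at this
    exact this
  obtain ⟨α, hα⟩ := hfu Gx Gz (FibCatYoneda.ext (BasedFunctor.comp Gx F) (BasedFunctor.comp Gz F) hGzF ξ)
  have hα1 : F.map (α.toNatTrans.app (Over.mk (𝟙 U))) = ξ := by
    have := congrArg (fun t => t.toNatTrans.app (Over.mk (𝟙 U))) hα
    exact this.trans (ext_app_id _ _ hGzF ξ)
  have hα2 : 𝒳.p.IsHomLift (𝟙 U) (α.toNatTrans.app (Over.mk (𝟙 U))) :=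
    α.isHomLift' (Over.mk (𝟙 U))
  refine ⟨jx ≫ α.toNatTrans.app (Over.mk (𝟙 U)) ≫ iz, ?_, ?_⟩
  · have : 𝒳.p.IsHomLift (𝟙 U ≫ 𝟙 U ≫ 𝟙 U) (jx ≫ α.toNatTrans.app (Over.mk (𝟙 U)) ≫ iz) :=
      inferInstance
    simpa using this
  · rw [Functor.map_comp, Functor.map_comp]
    rw [hα1, hξe]
    have a1 : F.map jx ≫ F.map ix = 𝟙 _ := by
      rw [← CategoryTheory.Functor.map_comp, e2x, CategoryTheory.Functor.map_id]
    have a2 : F.map jz ≫ F.map iz = 𝟙 _ := by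
      rw [← CategoryTheory.Functor.map_comp, e2z, CategoryTheory.Functor.map_id]
    rw [Category.assoc, Category.assoc, a2, Category.comp_id, ← Category.assoc, a1,
      Category.id_comp]

end Vertical

section General

variable (h𝒳 : FibCat.IsFibGrpd 𝒳.p) (h𝒴 : FibCat.IsFibGrpd 𝒴.p) (F : 𝒳 ⥤ᵇ 𝒴)

include h𝒳 h𝒴 in
lemma faithful_of_pfaithful (hfa : ∀ U, PFaithful U F) : F.toFunctor.Faithful := by
  constructor
  intro x y ψ ψ' h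
  obtain ⟨f, hf⟩ : ∃ f : 𝒳.p.obj x ⟶ 𝒳.p.obj y, f = 𝒳.p.map ψ := ⟨_, rfl⟩
  haveI hψ : 𝒳.p.IsHomLift f ψ := by rw [hf]; infer_instance
  haveI hψ' : 𝒳.p.IsHomLift f ψ' := by
    rw [← BasedFunctor.isHomLift_iff F]
    have : 𝒴.p.IsHomLift f (F.map ψ) := inferInstance
    have h' : F.map ψ = F.map ψ' := h
    rw [← h']; exact this
  obtain ⟨z, κ, hκ⟩ := h𝒳.exists_lift (x := y) f
  haveI := hκ
  haveI hκc : 𝒳.p.IsStronglyCartesian f κ := isStronglyCartesian_of_isHomLift 𝒳.p h𝒳 f κ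
  haveI hFκ : 𝒴.p.IsHomLift f (F.map κ) := inferInstance
  haveI hFκc : 𝒴.p.IsStronglyCartesian f (F.map κ) := isStronglyCartesian_of_isHomLift 𝒴.p h𝒴 f _
  have hz : 𝒳.p.obj z = 𝒳.p.obj x := IsHomLift.domain_eq 𝒳.p f κ
  obtain ⟨χ, hχ, hχf⟩ : ∃ χ : x ⟶ z, 𝒳.p.IsHomLift (𝟙 (𝒳.p.obj x)) χ ∧ χ ≫ κ = ψ :=
    ⟨IsStronglyCartesian.map 𝒳.p f κ (Category.id_comp f).symm ψ,
      IsStronglyCartesian.map_isHomLift 𝒳.p f κ (Category.id_comp f).symm ψ,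
      IsStronglyCartesian.fac 𝒳.p f κ (Category.id_comp f).symm ψ⟩
  obtain ⟨χ', hχ', hχf'⟩ : ∃ χ : x ⟶ z, 𝒳.p.IsHomLift (𝟙 (𝒳.p.obj x)) χ ∧ χ ≫ κ = ψ' :=
    ⟨IsStronglyCartesian.map 𝒳.p f κ (Category.id_comp f).symm ψ',
      IsStronglyCartesian.map_isHomLift 𝒳.p f κ (Category.id_comp f).symm ψ',
      IsStronglyCartesian.fac 𝒳.p f κ (Category.id_comp f).symm ψ'⟩
  haveI := hχ
  haveI := hχ'
  have hFχ : F.map χ = F.map χ' := by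
    haveI : 𝒴.p.IsHomLift (𝟙 (𝒳.p.obj x)) (F.map χ) := inferInstance
    haveI : 𝒴.p.IsHomLift (𝟙 (𝒳.p.obj x)) (F.map χ') := inferInstance
    apply IsStronglyCartesian.ext 𝒴.p f (F.map κ) (𝟙 (𝒳.p.obj x))
    change F.toFunctor.map χ ≫ F.toFunctor.map κ = F.toFunctor.map χ' ≫ F.toFunctor.map κ
    rw [← Functor.map_comp, ← Functor.map_comp, hχf, hχf']
    exact h
  have := vertical_faithful h𝒳 h𝒴 F (hfa _) rfl hz χ χ' hFχ
  rw [← hχf, ← hχf', this]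

include h𝒳 h𝒴 in
lemma full_of_pfull (hfu : ∀ U, PFull U F) : F.toFunctor.Full := by
  constructor
  intro x y φ
  obtain ⟨f, hf⟩ : ∃ f : 𝒳.p.obj x ⟶ 𝒳.p.obj y,
      f = eqToHom (F.w_obj x).symm ≫ 𝒴.p.map φ ≫ eqToHom (F.w_obj y) := ⟨_, rfl⟩
  haveI hφ : 𝒴.p.IsHomLift f φ := IsHomLift.of_fac 𝒴.p f φ (F.w_obj x) (F.w_obj y) hf
  obtain ⟨z, κ, hκ⟩ := h𝒳.exists_lift (x := y) f
  haveI := hκ
  haveI hFκ : 𝒴.p.IsHomLift f (F.map κ) := inferInstance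
  haveI hFκc : 𝒴.p.IsStronglyCartesian f (F.map κ) := isStronglyCartesian_of_isHomLift 𝒴.p h𝒴 f _
  have hz : 𝒳.p.obj z = 𝒳.p.obj x := IsHomLift.domain_eq 𝒳.p f κ
  obtain ⟨φ', hφ', hφf⟩ : ∃ φ' : F.obj x ⟶ F.obj z,
      𝒴.p.IsHomLift (𝟙 (𝒳.p.obj x)) φ' ∧ φ' ≫ F.map κ = φ :=
    ⟨IsStronglyCartesian.map 𝒴.p f (F.map κ) (Category.id_comp f).symm φ,
      IsStronglyCartesian.map_isHomLift 𝒴.p f (F.map κ) (Category.id_comp f).symm φ,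
      IsStronglyCartesian.fac 𝒴.p f (F.map κ) (Category.id_comp f).symm φ⟩
  haveI := hφ'
  obtain ⟨χ, hχ, hχe⟩ := vertical_full h𝒳 h𝒴 F (hfu _) rfl hz φ'
  refine ⟨χ ≫ κ, ?_⟩
  rw [Functor.map_comp]
  exact (congrArg (fun t => t ≫ F.map κ) hχe).trans hφf

end General

end Groth.Agent.H3.FFPostcomp

namespace Groth.Agent.H3.FFPostcomp

theorem main {C : Type u} [Category.{v} C] {𝒳 𝒴 : BasedCategory.{v, max u v} C}
    (h𝒳 : FibCat.IsFibGrpd 𝒳.p) (h𝒴 : FibCat.IsFibGrpd 𝒴.p) (F : 𝒳 ⟶ 𝒴) :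
    (F.toFunctor.Full ∧ F.toFunctor.Faithful) ↔
      ∀ U : C, (Bicategory.postcomp (FibCat.overCat U) F).Full ∧
        (Bicategory.postcomp (FibCat.overCat U) F).Faithful := by
  constructor
  · rintro ⟨h1, h2⟩ U
    refine ⟨⟨?_⟩, ⟨?_⟩⟩
    · intro G G' β
      exact pfull_of_full (show 𝒳 ⥤ᵇ 𝒴 from F) U G G' β
    · intro G G' α α' h
      exact pfaithful_of_faithful (show 𝒳 ⥤ᵇ 𝒴 from F) U G G' α α' h
  · intro h
    refine ⟨full_of_pfull h𝒳 h𝒴 (show 𝒳 ⥤ᵇ 𝒴 from F) ?_, faithful_of_pfaithful h𝒳 h𝒴 (show 𝒳 ⥤ᵇ 𝒴 from F) ?_⟩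
    · intro U G G' β
      haveI := (h U).1
      exact (Bicategory.postcomp (FibCat.overCat U) F).map_surjective β
    · intro U G G' α α' hα
      haveI := (h U).2
      exact (Bicategory.postcomp (FibCat.overCat U) F).map_injective hα

end Groth.Agent.H3.FFPostcomp
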