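import Mathlib
import Groth.Agent.Lib.Helper3.UnivEffEpi

/-!
# Subobjects of a quotient by a universally effective equivalence relation
-/

set_option autoImplicit false

open CategoryTheory Limits

universe v₁ u₁

namespace Groth.Agent.H3.SubQuot

variable {𝒮 : Type u₁} [Category.{v₁} 𝒮] [HasPullbacks 𝒮]

/-- refinement of a point along a universal effective epimorphism, with an effective epi -/
lemma UEE.exists_lift' {A B : 𝒮} {p : A ⟶ B} (hp : UEE 𝒮 p) {T : 𝒮} (x : T ⟶ B) :
    ∃ (T' : 𝒮) (e : T' ⟶ T) (x' : T' ⟶ A), EffectiveEpi e ∧ e ≫ x = x' ≫ p :=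
  ⟨pullback x p, pullback.fst x p, pullback.snd x p,
    (hp.of_isPullback (IsPullback.of_hasPullback x p)).effectiveEpi, pullback.condition⟩

/-- descent of a factorization through a mono along an effective epi -/
lemma exists_factor_of_effectiveEpi {T' T Y X : 𝒮} (e : T' ⟶ T) [EffectiveEpi e] (i : Y ⟶ X)
    [Mono i] (x : T ⟶ X) (y' : T' ⟶ Y) (h : e ≫ x = y' ≫ i) : ∃ l : T ⟶ Y, l ≫ i = x := by
  refine ⟨EffectiveEpi.desc e y' ?_, ?_⟩
  · intro Z a₁ a₂ ha
    rw [← cancel_mono i, Category.assoc, Category.assoc, ← h, ← Category.assoc, ha,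
      Category.assoc]
  · rw [← cancel_epi e, ← Category.assoc, EffectiveEpi.fac, h]

variable {R X B : 𝒮} {p₁ p₂ : R ⟶ X} (π : X ⟶ B) (hkp : IsKernelPair π p₁ p₂) (huee : UEE 𝒮 π)

include huee in
lemma pullback_le_of_le (Z₁ Z₂ : Subobject B)
    (h : (Subobject.pullback π).obj Z₁ ≤ (Subobject.pullback π).obj Z₂) : Z₁ ≤ Z₂ := by
  have hq : UEE 𝒮 (Subobject.pullbackπ π Z₁) := huee.of_isPullback (Subobject.isPullback π Z₁)
  haveI : EffectiveEpi (Subobject.pullbackπ π Z₁) := hq.effectiveEpi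
  have hgc : (Subobject.ofLE _ _ h ≫ Subobject.pullbackπ π Z₂) ≫ Z₂.arrow =
      Subobject.pullbackπ π Z₁ ≫ Z₁.arrow := by
    rw [Category.assoc, (Subobject.isPullback π Z₂).w, ← Category.assoc, Subobject.ofLE_arrow,
      (Subobject.isPullback π Z₁).w]
  obtain ⟨l, hl⟩ := exists_factor_of_effectiveEpi (Subobject.pullbackπ π Z₁) Z₂.arrow Z₁.arrow _
    hgc.symm
  exact Subobject.le_of_comm l hl

include huee in
lemma pullback_injective : Function.Injective (Subobject.pullback π).obj := by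
  intro Z₁ Z₂ h
  exact le_antisymm (pullback_le_of_le π huee Z₁ Z₂ (le_of_eq h))
    (pullback_le_of_le π huee Z₂ Z₁ (le_of_eq h.symm))

include hkp in
lemma pullback_stable (Z : Subobject B) :
    (Subobject.pullback p₁).obj ((Subobject.pullback π).obj Z) =
      (Subobject.pullback p₂).obj ((Subobject.pullback π).obj Z) := by
  rw [← Subobject.pullback_comp, ← Subobject.pullback_comp, hkp.w]

include hkp in
/-- a stable subobject is the pullback of any (UEE, mono) image of it -/
lemma eq_pullback_of_stable (Y : Subobject X)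
    (hY : (Subobject.pullback p₁).obj Y = (Subobject.pullback p₂).obj Y)
    {Z : 𝒮} (q : (Y : 𝒮) ⟶ Z) (m : Z ⟶ B) (hq : UEE 𝒮 q) [Mono m] (hqm : q ≫ m = Y.arrow ≫ π) :
    (Subobject.pullback π).obj (Subobject.mk m) = Y := by
  have hpb : IsPullback q Y.arrow m π := by
    refine IsPullback.mk' hqm ?_ ?_
    · intro T φ φ' _ h2
      exact (cancel_mono Y.arrow).mp h2
    · intro T z x hzx
      obtain ⟨T', e, y, he, hy⟩ := UEE.exists_lift' hq z
      have h1 : (e ≫ x) ≫ π = (y ≫ Y.arrow) ≫ π := by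
        rw [Category.assoc, ← hzx, ← Category.assoc, hy, Category.assoc, hqm, Category.assoc]
      -- the point of `R`
      set r := hkp.lift (e ≫ x) (y ≫ Y.arrow) h1 with hr
      have hr1 : r ≫ p₁ = e ≫ x := hkp.lift_fst _ _ _
      have hr2 : r ≫ p₂ = y ≫ Y.arrow := hkp.lift_snd _ _ _
      set t := (Subobject.isPullback p₂ Y).lift y r hr2.symm with ht
      have ht2 : t ≫ ((Subobject.pullback p₂).obj Y).arrow = r :=
        (Subobject.isPullback p₂ Y).lift_snd _ _ _
      set y' := t ≫ Subobject.ofLE _ _ (le_of_eq hY.symm) ≫ Subobject.pullbackπ p₁ Y with hy'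
      have hy'' : e ≫ x = y' ≫ Y.arrow := by
        rw [hy', Category.assoc, Category.assoc, (Subobject.isPullback p₁ Y).w,
          ← Category.assoc (Subobject.ofLE _ _ _), Subobject.ofLE_arrow, ← Category.assoc, ht2,
          hr1]
      obtain ⟨l, hl⟩ := exists_factor_of_effectiveEpi e Y.arrow x y' hy''
      refine ⟨l, ?_, hl⟩
      rw [← cancel_mono m, Category.assoc, hqm, ← Category.assoc, hl, hzx]
  rw [Subobject.pullback_obj_mk hpb, Subobject.mk_arrow]

include hkp huee in
/-- abstract form of S5227 -/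
theorem pullback_injective_and_range
    (hfac : ∀ {Y : 𝒮} (f : Y ⟶ B), ∃ (Z : 𝒮) (q : Y ⟶ Z) (m : Z ⟶ B), UEE 𝒮 q ∧ Mono m ∧
      q ≫ m = f) :
    Function.Injective (Subobject.pullback π).obj ∧
      Set.range (Subobject.pullback π).obj =
        {Y : Subobject X | (Subobject.pullback p₁).obj Y = (Subobject.pullback p₂).obj Y} := by
  refine ⟨pullback_injective π huee, ?_⟩
  ext Y
  constructor
  · rintro ⟨Z, rfl⟩
    exact pullback_stable π hkp Z
  · intro hY
    obtain ⟨Z, q, m, hq, hm, hqm⟩ := hfac (Y.arrow ≫ π)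
    exact ⟨Subobject.mk m, eq_pullback_of_stable π hkp Y hY q m hq hqm⟩

end Groth.Agent.H3.SubQuot
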