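import Mathlib
import Groth.Agent.Lib.Helper3.GrpQuot1
import Groth.Agent.Lib.Helper3.SubQuot

/-!
# Subgroup objects and the correspondence theorem for quotients
-/

set_option autoImplicit false

open CategoryTheory Limits MonoidalCategory CartesianMonoidalCategory MonObj

universe v₁ u₁

namespace Groth.Agent.H3.GrpQuot

variable {𝒮 : Type u₁} [Category.{v₁} 𝒮]

section factors

lemma factors_iff_exists {X T : 𝒮} (P : Subobject X) (f : T ⟶ X) :
    P.Factors f ↔ ∃ g : T ⟶ (P : 𝒮), g ≫ P.arrow = f := by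
  constructor
  · intro h
    exact ⟨P.factorThru f h, P.factorThru_arrow f h⟩
  · rintro ⟨g, rfl⟩
    exact Subobject.factors_comp_arrow g

lemma pullback_factors_iff [HasPullbacks 𝒮] {X Y T : 𝒮} (f : X ⟶ Y) (P : Subobject Y)
    (x : T ⟶ X) : ((Subobject.pullback f).obj P).Factors x ↔ P.Factors (x ≫ f) := by
  rw [factors_iff_exists, factors_iff_exists]
  constructor
  · rintro ⟨g, rfl⟩
    refine ⟨g ≫ Subobject.pullbackπ f P, ?_⟩
    rw [Category.assoc, (Subobject.isPullback f P).w, Category.assoc]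
  · rintro ⟨g, hg⟩
    exact ⟨(Subobject.isPullback f P).lift g x hg, (Subobject.isPullback f P).lift_snd _ _ _⟩

lemma mk_le_iff_factors {X A : 𝒮} (i : A ⟶ X) [Mono i] (P : Subobject X) :
    Subobject.mk i ≤ P ↔ P.Factors i := by
  constructor
  · intro h
    exact Subobject.factors_of_le i h (Subobject.mk_factors_self i)
  · intro h
    exact Subobject.mk_le_of_comm (P.factorThru i h) (P.factorThru_arrow i h)

lemma le_iff_forall_factors {X : 𝒮} (P P' : Subobject X) :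
    P ≤ P' ↔ ∀ {T : 𝒮} (x : T ⟶ X), P.Factors x → P'.Factors x := by
  constructor
  · intro h T x hx
    exact Subobject.factors_of_le x h hx
  · intro h
    exact Subobject.le_of_factors (h _ P.factors_self)

end factors

variable [CartesianMonoidalCategory 𝒮]

section subgroup

variable {G : 𝒮} [GrpObj G]

/-- a subobject of a group object which is closed under the group operations -/
structure IsSubgroup (K : Subobject G) : Prop where
  one : K.Factors η[G]
  mul : ∀ {T : 𝒮} (x y : T ⟶ G), K.Factors x → K.Factors y → K.Factors (x * y)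
  inv : ∀ {T : 𝒮} (x : T ⟶ G), K.Factors x → K.Factors x⁻¹

lemma IsSubgroup.one' {K : Subobject G} (hK : IsSubgroup K) {T : 𝒮} : K.Factors (1 : T ⟶ G) := by
  rw [Hom.one_def]
  exact Subobject.factors_of_factors_right _ hK.one

lemma IsSubgroup.of_grpObj (K : Subobject G) (str : GrpObj (K : 𝒮))
    (h : @IsMonHom 𝒮 _ _ _ _ str.toMonObj _ K.arrow) : IsSubgroup K := by
  letI := str
  haveI := h
  refine ⟨?_, ?_, ?_⟩
  · rw [factors_iff_exists]
    exact ⟨η[(K : 𝒮)], IsMonHom.one_hom K.arrow⟩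
  · intro T x y hx hy
    rw [factors_iff_exists] at hx hy ⊢
    obtain ⟨a, rfl⟩ := hx
    obtain ⟨b, rfl⟩ := hy
    exact ⟨a * b, MonObj.mul_comp _ _ _⟩
  · intro T x hx
    rw [factors_iff_exists] at hx ⊢
    obtain ⟨a, rfl⟩ := hx
    exact ⟨a⁻¹, GrpObj.inv_comp _ _⟩

section construct

variable {K : Subobject G} (hK : IsSubgroup K)

/-- the unit of a subgroup -/
noncomputable def subOne : 𝟙_ 𝒮 ⟶ (K : 𝒮) := K.factorThru η[G] hK.one

lemma subOne_arrow : subOne hK ≫ K.arrow = η[G] := K.factorThru_arrow _ _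

include hK in
lemma factors_mul : K.Factors ((fst (K : 𝒮) (K : 𝒮) ≫ K.arrow) * (snd (K : 𝒮) (K : 𝒮) ≫ K.arrow)) :=
  hK.mul _ _ (Subobject.factors_comp_arrow _) (Subobject.factors_comp_arrow _)

/-- the multiplication of a subgroup -/
noncomputable def subMul : (K : 𝒮) ⊗ (K : 𝒮) ⟶ (K : 𝒮) := K.factorThru _ (factors_mul hK)

lemma subMul_arrow : subMul hK ≫ K.arrow =
    (fst (K : 𝒮) (K : 𝒮) ≫ K.arrow) * (snd (K : 𝒮) (K : 𝒮) ≫ K.arrow) :=
  K.factorThru_arrow _ _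

lemma subMul_arrow' : subMul hK ≫ K.arrow = (K.arrow ⊗ₘ K.arrow) ≫ μ[G] := by
  rw [subMul_arrow, MonObj.mul_eq_mul, MonObj.comp_mul, tensorHom_fst, tensorHom_snd]

/-- the inverse of a subgroup -/
noncomputable def subInv : (K : 𝒮) ⟶ (K : 𝒮) := K.factorThru _ (hK.inv _ K.factors_self)

lemma subInv_arrow : subInv hK ≫ K.arrow = (K.arrow)⁻¹ := K.factorThru_arrow _ _

lemma comp_subMul_arrow {T : 𝒮} (z : T ⟶ (K : 𝒮) ⊗ (K : 𝒮)) :
    z ≫ subMul hK ≫ K.arrow = (z ≫ fst _ _ ≫ K.arrow) * (z ≫ snd _ _ ≫ K.arrow) := by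
  rw [subMul_arrow, MonObj.comp_mul]

/-- the group structure of a subgroup -/
@[instance_reducible]
noncomputable def subGrpObj : GrpObj (K : 𝒮) where
  one := subOne hK
  mul := subMul hK
  one_mul := by
    rw [← cancel_mono K.arrow, Category.assoc, comp_subMul_arrow, whiskerRight_fst_assoc,
      whiskerRight_snd_assoc, subOne_arrow, leftUnitor_hom]
    have : fst (𝟙_ 𝒮) (K : 𝒮) ≫ η[G] = 1 := by
      rw [Hom.one_def, toUnit_unique (toUnit _) (fst (𝟙_ 𝒮) (K : 𝒮))]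
    rw [this, _root_.one_mul]
  mul_one := by
    rw [← cancel_mono K.arrow, Category.assoc, comp_subMul_arrow, whiskerLeft_fst_assoc,
      whiskerLeft_snd_assoc, subOne_arrow, rightUnitor_hom]
    have : snd (K : 𝒮) (𝟙_ 𝒮) ≫ η[G] = 1 := by
      rw [Hom.one_def, toUnit_unique (toUnit _) (snd (K : 𝒮) (𝟙_ 𝒮))]
    rw [this, _root_.mul_one]
  mul_assoc := by
    rw [← cancel_mono K.arrow, Category.assoc, comp_subMul_arrow, whiskerRight_fst_assoc,
      whiskerRight_snd_assoc, comp_subMul_arrow]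
    simp only [Category.assoc]
    rw [comp_subMul_arrow, whiskerLeft_fst_assoc, whiskerLeft_snd_assoc, comp_subMul_arrow,
      MonObj.comp_mul, MonObj.comp_mul, _root_.mul_assoc]
    simp
  inv := subInv hK
  left_inv := by
    rw [← cancel_mono K.arrow, Category.assoc, comp_subMul_arrow, lift_fst_assoc, lift_snd_assoc,
      subInv_arrow, Category.id_comp, inv_mul_cancel, Category.assoc, subOne_arrow, Hom.one_def]
  right_inv := by
    rw [← cancel_mono K.arrow, Category.assoc, comp_subMul_arrow, lift_fst_assoc, lift_snd_assoc,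
      subInv_arrow, Category.id_comp, mul_inv_cancel, Category.assoc, subOne_arrow, Hom.one_def]

lemma isMonHom_arrow : @IsMonHom 𝒮 _ _ _ _ (subGrpObj hK).toMonObj _ K.arrow :=
  @IsMonHom.mk 𝒮 _ _ _ _ (subGrpObj hK).toMonObj _ K.arrow (subOne_arrow hK) (subMul_arrow' hK)

end construct

/-- a subobject is a subgroup iff it carries a group structure with a homomorphic inclusion -/
lemma isSubgroup_iff (K : Subobject G) :
    (∃ str : GrpObj (K : 𝒮), @IsMonHom 𝒮 _ _ _ _ str.toMonObj _ K.arrow) ↔ IsSubgroup K :=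
  ⟨fun ⟨str, h⟩ => IsSubgroup.of_grpObj K str h, fun hK => ⟨subGrpObj hK, isMonHom_arrow hK⟩⟩

end subgroup

section refine

variable [HasPullbacks 𝒮]

/-- refinement of a point along a universal effective epimorphism, with a UEE cover -/
lemma UEE.exists_lift'' {A B : 𝒮} {p : A ⟶ B} (hp : UEE 𝒮 p) {T : 𝒮} (x : T ⟶ B) :
    ∃ (T' : 𝒮) (e : T' ⟶ T) (x' : T' ⟶ A), UEE 𝒮 e ∧ e ≫ x = x' ≫ p :=
  ⟨pullback x p, pullback.fst x p, pullback.snd x p,
    hp.of_isPullback (IsPullback.of_hasPullback x p), pullback.condition⟩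

/-- common refinement of two covers -/
lemma exists_common_refinement {T T₁ T₂ : 𝒮} (e₁ : T₁ ⟶ T) (e₂ : T₂ ⟶ T) (h₁ : UEE 𝒮 e₁)
    (h₂ : UEE 𝒮 e₂) : ∃ (T' : 𝒮) (e : T' ⟶ T) (f₁ : T' ⟶ T₁) (f₂ : T' ⟶ T₂), UEE 𝒮 e ∧
      f₁ ≫ e₁ = e ∧ f₂ ≫ e₂ = e := by
  refine ⟨pullback e₁ e₂, pullback.fst e₁ e₂ ≫ e₁, pullback.fst e₁ e₂, pullback.snd e₁ e₂, ?_, rfl,
    pullback.condition.symm⟩
  exact UEE.comp (h₂.of_isPullback (IsPullback.of_hasPullback e₁ e₂)) h₁

/-- factoring through a subobject descends along a UEE cover -/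
lemma factors_of_UEE_comp {X T T' : 𝒮} (P : Subobject X) (e : T' ⟶ T) (he : UEE 𝒮 e) (z : T ⟶ X)
    (h : P.Factors (e ≫ z)) : P.Factors z := by
  rw [factors_iff_exists] at h ⊢
  obtain ⟨y, hy⟩ := h
  haveI := he.effectiveEpi
  exact SubQuot.exists_factor_of_effectiveEpi e P.arrow z y hy.symm

end refine

section corr

variable [HasPullbacks 𝒮] {G H Q : 𝒮} [GrpObj G] [GrpObj H] [GrpObj Q] (u : H ⟶ G) [IsMonHom u]
  (π : G ⟶ Q) [IsMonHom π] (hkp : IsKernelPair π (fst G H) (mmul u)) (huee : UEE 𝒮 π)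

include hkp in
omit [HasPullbacks 𝒮] in
lemma u_comp_π : u ≫ π = 1 := by
  have h1 : lift (1 : H ⟶ G) (𝟙 H) ≫ fst G H ≫ π = lift (1 : H ⟶ G) (𝟙 H) ≫ mmul u ≫ π := by
    rw [hkp.w]
  rw [← Category.assoc, ← Category.assoc, lift_fst, lift_mmul, Category.id_comp, _root_.one_mul,
    MonObj.one_comp] at h1
  exact h1.symm

omit [GrpObj H] in
lemma isSubgroup_pullback (K' : Subobject Q) (hK' : IsSubgroup K') :
    IsSubgroup ((Subobject.pullback π).obj K') := by
  refine ⟨?_, ?_, ?_⟩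
  · rw [pullback_factors_iff, IsMonHom.one_hom]
    exact hK'.one
  · intro T x y hx hy
    rw [pullback_factors_iff] at hx hy ⊢
    rw [MonObj.mul_comp]
    exact hK'.mul _ _ hx hy
  · intro T x hx
    rw [pullback_factors_iff] at hx ⊢
    rw [GrpObj.inv_comp]
    exact hK'.inv _ hx

include hkp in
lemma mk_le_pullback [Mono u] (K' : Subobject Q) (hK' : IsSubgroup K') :
    Subobject.mk u ≤ (Subobject.pullback π).obj K' := by
  rw [mk_le_iff_factors, pullback_factors_iff, u_comp_π u π hkp]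
  exact hK'.one'

lemma stable_of_isSubgroup (K : Subobject G) (hK : IsSubgroup K) (hu : K.Factors u) :
    (Subobject.pullback (fst G H)).obj K = (Subobject.pullback (mmul u)).obj K := by
  apply le_antisymm
  · rw [le_iff_forall_factors]
    intro T z hz
    rw [pullback_factors_iff] at hz ⊢
    rw [comp_mmul]
    exact hK.mul _ _ hz (Subobject.factors_of_factors_right _ hu)
  · rw [le_iff_forall_factors]
    intro T z hz
    rw [pullback_factors_iff] at hz ⊢
    rw [comp_mmul] at hz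
    have := hK.mul _ _ hz (hK.inv _ (Subobject.factors_of_factors_right (z ≫ snd G H) hu))
    rwa [mul_inv_cancel_right] at this

omit [GrpObj H] [IsMonHom π] [GrpObj Q] [GrpObj G] in
lemma mk_factors_iff_loc (K : Subobject G) {Z : 𝒮} (q : (K : 𝒮) ⟶ Z) (m : Z ⟶ Q)
    (hq : UEE 𝒮 q) [Mono m] (hqm : q ≫ m = K.arrow ≫ π) {T : 𝒮} (x : T ⟶ Q) :
    (Subobject.mk m).Factors x ↔ ∃ (T' : 𝒮) (e : T' ⟶ T) (b : T' ⟶ G), UEE 𝒮 e ∧ K.Factors b ∧
      e ≫ x = b ≫ π := by
  constructor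
  · intro h
    obtain ⟨a, ha⟩ := (factors_iff_exists _ _).1 h
    obtain ⟨T', e, b, he, hb⟩ := UEE.exists_lift'' hq (a ≫ (Subobject.underlyingIso m).hom)
    refine ⟨T', e, b ≫ K.arrow, he, Subobject.factors_comp_arrow _, ?_⟩
    rw [← ha, ← Subobject.underlyingIso_hom_comp_eq_mk m, ← Category.assoc a, ← Category.assoc e,
      hb, Category.assoc, hqm, Category.assoc]
  · rintro ⟨T', e, b, he, hb, hx⟩
    apply factors_of_UEE_comp _ e he
    rw [hx]
    obtain ⟨c, rfl⟩ := (factors_iff_exists _ _).1 hb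
    rw [Category.assoc, ← hqm, ← Category.assoc]
    exact Subobject.factors_of_factors_right _ (Subobject.mk_factors_self m)

omit [GrpObj H] in
lemma isSubgroup_image (K : Subobject G) (hK : IsSubgroup K) {Z : 𝒮} (q : (K : 𝒮) ⟶ Z) (m : Z ⟶ Q)
    (hq : UEE 𝒮 q) [Mono m] (hqm : q ≫ m = K.arrow ≫ π) : IsSubgroup (Subobject.mk m) := by
  refine ⟨?_, ?_, ?_⟩
  · rw [mk_factors_iff_loc π K q m hq hqm]
    refine ⟨_, 𝟙 _, η[G], UEE.of_isIso _, hK.one, ?_⟩
    rw [Category.id_comp, IsMonHom.one_hom]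
  · intro T x y hx hy
    rw [mk_factors_iff_loc π K q m hq hqm] at hx hy ⊢
    obtain ⟨T₁, e₁, b₁, he₁, hb₁, hx⟩ := hx
    obtain ⟨T₂, e₂, b₂, he₂, hb₂, hy⟩ := hy
    obtain ⟨T', e, f₁, f₂, he, hf₁, hf₂⟩ := exists_common_refinement e₁ e₂ he₁ he₂
    refine ⟨T', e, (f₁ ≫ b₁) * (f₂ ≫ b₂), he, hK.mul _ _
      (Subobject.factors_of_factors_right _ hb₁) (Subobject.factors_of_factors_right _ hb₂), ?_⟩
    rw [MonObj.comp_mul, MonObj.mul_comp, Category.assoc, Category.assoc, ← hx, ← hy,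
      ← Category.assoc, ← Category.assoc, hf₁, hf₂]
  · intro T x hx
    rw [mk_factors_iff_loc π K q m hq hqm] at hx ⊢
    obtain ⟨T₁, e₁, b₁, he₁, hb₁, hx⟩ := hx
    refine ⟨T₁, e₁, b₁⁻¹, he₁, hK.inv _ hb₁, ?_⟩
    rw [GrpObj.comp_inv, GrpObj.inv_comp, hx]

/-- normal subobjects -/
def IsNormalSub (K : Subobject G) : Prop :=
  ∀ {T : 𝒮} (g x : T ⟶ G), K.Factors x → K.Factors (g * x * g⁻¹)

omit [HasPullbacks 𝒮] in
lemma isNormalSub_iff (K : Subobject G) :
    (∀ (Y : 𝒮) (g : Y ⟶ G) (k : Y ⟶ (K : 𝒮)), ∃ k' : Y ⟶ (K : 𝒮),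
      g * (k ≫ K.arrow) * g⁻¹ = k' ≫ K.arrow) ↔ IsNormalSub K := by
  constructor
  · intro h T g x hx
    obtain ⟨k, rfl⟩ := (factors_iff_exists _ _).1 hx
    obtain ⟨k', hk'⟩ := h T g k
    rw [hk']
    exact Subobject.factors_comp_arrow _
  · intro h Y g k
    obtain ⟨k', hk'⟩ := (factors_iff_exists _ _).1 (h g (k ≫ K.arrow) (Subobject.factors_comp_arrow _))
    exact ⟨k', hk'.symm⟩

include huee in
omit [GrpObj H] in
lemma isNormalSub_pullback_iff (K' : Subobject Q) :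
    IsNormalSub K' ↔ IsNormalSub ((Subobject.pullback π).obj K') := by
  constructor
  · intro h T g x hx
    rw [pullback_factors_iff] at hx ⊢
    rw [MonObj.mul_comp, MonObj.mul_comp, GrpObj.inv_comp]
    exact h _ _ hx
  · intro h T g x hx
    obtain ⟨T₁, e₁, g', he₁, hg⟩ := UEE.exists_lift'' huee g
    obtain ⟨T₂, e₂, x', he₂, hx'⟩ := UEE.exists_lift'' huee x
    obtain ⟨T', e, f₁, f₂, he, hf₁, hf₂⟩ := exists_common_refinement e₁ e₂ he₁ he₂
    apply factors_of_UEE_comp K' e he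
    have h1 : e ≫ g = (f₁ ≫ g') ≫ π := by rw [Category.assoc, ← hg, ← Category.assoc, hf₁]
    have h2 : e ≫ x = (f₂ ≫ x') ≫ π := by rw [Category.assoc, ← hx', ← Category.assoc, hf₂]
    rw [MonObj.comp_mul, MonObj.comp_mul, GrpObj.comp_inv, h1, h2, ← GrpObj.inv_comp,
      ← MonObj.mul_comp, ← MonObj.mul_comp, ← pullback_factors_iff]
    apply h
    rw [pullback_factors_iff, ← h2]
    exact Subobject.factors_of_factors_right _ hx

include hkp huee in
/-- abstract form of S6050 -/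
theorem subgroup_correspondence [Mono u]
    (hfac : ∀ {Y : 𝒮} (f : Y ⟶ Q), ∃ (Z : 𝒮) (q : Y ⟶ Z) (m : Z ⟶ Q), UEE 𝒮 q ∧ Mono m ∧
      q ≫ m = f) :
    Set.BijOn (Subobject.pullback π).obj
      {K' : Subobject Q | ∃ str : GrpObj (K' : 𝒮),
        @IsMonHom 𝒮 _ _ _ _ str.toMonObj _ K'.arrow}
      {K : Subobject G | Subobject.mk u ≤ K ∧ ∃ str : GrpObj (K : 𝒮),
        @IsMonHom 𝒮 _ _ _ _ str.toMonObj _ K.arrow} ∧
    ∀ (K' : Subobject Q) (str' : GrpObj (K' : 𝒮))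
      (str : GrpObj ((Subobject.pullback π).obj K' : 𝒮)),
      @IsMonHom 𝒮 _ _ _ _ str'.toMonObj _ K'.arrow →
      @IsMonHom 𝒮 _ _ _ _ str.toMonObj _ ((Subobject.pullback π).obj K').arrow →
      ((∀ (Y : 𝒮) (g : Y ⟶ Q) (k : Y ⟶ (K' : 𝒮)),
          ∃ k' : Y ⟶ (K' : 𝒮), g * (k ≫ K'.arrow) * g⁻¹ = k' ≫ K'.arrow) ↔
        (∀ (Y : 𝒮) (g : Y ⟶ G) (k : Y ⟶ ((Subobject.pullback π).obj K' : 𝒮)),
          ∃ k' : Y ⟶ ((Subobject.pullback π).obj K' : 𝒮),
            g * (k ≫ ((Subobject.pullback π).obj K').arrow) * g⁻¹ =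
              k' ≫ ((Subobject.pullback π).obj K').arrow)) := by
  refine ⟨⟨?_, ?_, ?_⟩, ?_⟩
  · intro K' hK'
    rw [Set.mem_ofPred_eq, isSubgroup_iff] at hK'
    rw [Set.mem_ofPred_eq, isSubgroup_iff]
    exact ⟨mk_le_pullback u π hkp K' hK', isSubgroup_pullback π K' hK'⟩
  · intro K₁ _ K₂ _ h
    exact SubQuot.pullback_injective π huee h
  · intro K hK
    rw [Set.mem_ofPred_eq, isSubgroup_iff] at hK
    obtain ⟨hu, hK⟩ := hK
    rw [mk_le_iff_factors] at hu
    obtain ⟨Z, q, m, hq, hm, hqm⟩ := hfac (K.arrow ≫ π)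
    refine ⟨Subobject.mk m, ?_, ?_⟩
    · rw [Set.mem_ofPred_eq, isSubgroup_iff]
      exact isSubgroup_image π K hK q m hq hqm
    · exact SubQuot.eq_pullback_of_stable π hkp K (stable_of_isSubgroup u K hK hu) q m hq hqm
  · intro K' _ _ _ _
    rw [isNormalSub_iff, isNormalSub_iff]
    exact isNormalSub_pullback_iff π huee K'

end corr

end Groth.Agent.H3.GrpQuot
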