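import Mathlib
import Groth.Agent.Lib.Helper3.GrpQuot1

/-!
# Universal property of the quotient group object
-/

set_option autoImplicit false

open CategoryTheory Limits MonoidalCategory CartesianMonoidalCategory MonObj

universe v₁ u₁

namespace Groth.Agent.H3.GrpQuot

variable {𝒮 : Type u₁} [Category.{v₁} 𝒮] [CartesianMonoidalCategory 𝒮] [HasPullbacks 𝒮]

variable {G H Q K : 𝒮} [GrpObj G] [GrpObj H] [GrpObj Q] [GrpObj K] (u : H ⟶ G) [IsMonHom u]
  (π : G ⟶ Q) [IsMonHom π] (hkp : IsKernelPair π (fst G H) (mmul u)) (huee : UEE 𝒮 π)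
  (f : G ⟶ K) [IsMonHom f] (hf : u ≫ f = 1)

include hkp huee hf in
/-- a homomorphism killing `H` factors uniquely through `G/H`, by a homomorphism -/
theorem existsUnique_desc : ∃! g : Q ⟶ K, π ≫ g = f ∧ IsMonHom g := by
  haveI hE : EffectiveEpi π := huee.effectiveEpi
  haveI hE2 : Epi (π ⊗ₘ π) := (UEE.tensorHom huee huee).epi
  have hcompat : ∀ {Z : 𝒮} (y₁ y₂ : Z ⟶ G), y₁ ≫ π = y₂ ≫ π → y₁ ≫ f = y₂ ≫ f := by
    intro Z y₁ y₂ h
    obtain ⟨k, rfl⟩ := (comp_π_eq_iff u π hkp y₁ y₂).1 h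
    rw [MonObj.mul_comp, Category.assoc, hf, MonObj.comp_one, _root_.mul_one]
  have hg : π ≫ EffectiveEpi.desc π f (fun y₁ y₂ h => hcompat y₁ y₂ h) = f := EffectiveEpi.fac _ _ _
  refine ⟨EffectiveEpi.desc π f (fun y₁ y₂ h => hcompat y₁ y₂ h), ⟨hg, ?_⟩, ?_⟩
  · constructor
    · rw [← IsMonHom.one_hom π, Category.assoc, hg, IsMonHom.one_hom]
    · rw [← cancel_epi (π ⊗ₘ π), ← Category.assoc, ← IsMonHom.mul_hom π, Category.assoc, hg,
        IsMonHom.mul_hom f, ← Category.assoc, tensorHom_comp_tensorHom, hg]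
  · rintro g' ⟨hg', -⟩
    rw [← cancel_epi π, hg, hg']

end Groth.Agent.H3.GrpQuot
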