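import Mathlib
import Groth.Agent.Lib.Helper9.FinHopf.Deligne
import Groth.Agent.Lib.Helper9.FinHopf.KillOrder
import Groth.Agent.Lib.Helper9.FinHopf.EtaleOrder

set_option autoImplicit false
universe u
open CategoryTheory CategoryTheory.Limits MonoidalCategory CartesianMonoidalCategory MonObj GrpObj AlgebraicGeometry
open scoped TensorProduct CategoryTheory.Obj

namespace Groth.Agent.H3.HopfBridge

/-- Every affine group scheme over `Spec R` is, as a group object, isomorphic to `Spec` of a
commutative Hopf algebra. -/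
theorem exists_hopf (R : CommRingCat.{u}) (G : Over (Spec R)) [GrpObj G] [IsAffine G.left] :
    ∃ (A : Type u) (_ : CommRing A) (_ : HopfAlgebra R A)
      (e : G ≅ (Spec (.of A)).asOver (Spec R)), IsMonHom e.hom := by
  obtain ⟨Y, ⟨e⟩⟩ := (essImage_hopfSpec (R := R) (G := Grp.mk G)).mpr ‹_›
  refine ⟨Y.unop.X, inferInstance, inferInstance, ((Grp.forget (Over (Spec R))).mapIso e).symm, ?_⟩
  show IsMonHom e.inv.hom.hom
  infer_instance

section transfer
variable {C : Type*} [Category C] [CartesianMonoidalCategory C]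

/-- Transfer of `𝟙 ^ n = 1` along an isomorphism of group objects. -/
lemma id_pow_of_iso {G H : C} [GrpObj G] [GrpObj H] (e : G ≅ H) [IsMonHom e.hom] (n : ℕ)
    (h : (𝟙 H : H ⟶ H) ^ n = 1) : (𝟙 G : G ⟶ G) ^ n = 1 := by
  rw [← cancel_mono e.hom, MonObj.pow_comp, Category.id_comp, ← Category.comp_id e.hom,
    ← MonObj.comp_pow, h, MonObj.comp_one, MonObj.one_comp]

/-- Transfer of commutativity of point groups along an isomorphism of group objects. -/
lemma mul_comm_of_iso {G H : C} [GrpObj G] [GrpObj H] (e : G ≅ H) [IsMonHom e.hom]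
    (hG : ∀ (X : C) (f g : X ⟶ G), f * g = g * f) (X : C) (f g : X ⟶ H) : f * g = g * f := by
  have key : ∀ f g : X ⟶ H, f * g = ((f ≫ e.inv) * (g ≫ e.inv)) ≫ e.hom := fun f g => by
    rw [MonObj.mul_comp]; simp
  rw [key f g, key g f, hG]

end transfer

section spec
variable (R A : Type u) [CommRing R] [CommRing A] [HopfAlgebra R A]

lemma mapMulEquiv_id :
    Spec.mapMulEquiv (R := R) (S := A) (T := A) (WithConv.toConv (AlgHom.id R A)) =
      𝟙 ((Spec (.of A)).asOver (Spec (.of R))) := by
  ext1
  simp [Spec.mapMulEquiv]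

/-- The algebraic identity `id ^ n = 1` in the convolution monoid gives `𝟙 ^ n = 1` for the
group scheme `Spec A`. -/
lemma id_pow_spec (n : ℕ) (h : (WithConv.toConv (AlgHom.id R A)) ^ n = 1) :
    (𝟙 ((Spec (.of A)).asOver (Spec (.of R))) : _ ⟶ _) ^ n = 1 := by
  rw [← mapMulEquiv_id, ← map_pow, h, map_one]

/-- If the point groups of `Spec A` are commutative then `A` is cocommutative. -/
lemma isCocomm_of_comm
    (h : ∀ f g : (Spec (.of (A ⊗[R] A))).asOver (Spec (.of R)) ⟶
      (Spec (.of A)).asOver (Spec (.of R)), f * g = g * f) : Coalgebra.IsCocomm R A := by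
  let iL : WithConv (A →ₐ[R] A ⊗[R] A) := WithConv.toConv Algebra.TensorProduct.includeLeft
  let iR : WithConv (A →ₐ[R] A ⊗[R] A) := WithConv.toConv Algebra.TensorProduct.includeRight
  have key : iL * iR = iR * iL := by
    apply (Spec.mapMulEquiv (R := R) (S := A) (T := A ⊗[R] A)).injective
    rw [map_mul, map_mul]
    exact h _ _
  constructor
  ext a
  have h1 := AlgHom.convMul_apply iL iR a
  have h2 := AlgHom.convMul_apply iR iL a
  rw [key] at h1
  rw [h1] at h2
  have e1 : Algebra.TensorProduct.lift iL.ofConv iR.ofConv (fun _ _ ↦ .all ..) =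
      AlgHom.id R (A ⊗[R] A) := by
    ext <;> simp [iL, iR]
  have e2 : Algebra.TensorProduct.lift iR.ofConv iL.ofConv (fun _ _ ↦ .all ..) =
      (Algebra.TensorProduct.comm R A A : A ⊗[R] A →ₐ[R] A ⊗[R] A) := by
    ext <;> simp [iL, iR]
  rw [e1, e2] at h2
  have h3 : (Algebra.TensorProduct.comm R A A) (Coalgebra.comul a) = Coalgebra.comul (R := R) a := by
    simpa using h2.symm
  exact h3

end spec

section bc
variable {S : Scheme.{u}}

/-- Two morphisms over `S` agreeing after base change to every member of an open cover are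
equal. -/
lemma eq_of_bc {X Y : Over S} (a b : X ⟶ Y) (𝒰 : S.OpenCover)
    (h : ∀ i, (Over.pullback (𝒰.f i)).map a = (Over.pullback (𝒰.f i)).map b) : a = b := by
  ext1
  apply (𝒰.pullback₁ X.hom).hom_ext
  intro i
  have := congrArg (fun t => t.left ≫ pullback.fst Y.hom (𝒰.f i)) (h i)
  simp only [Over.pullback_obj_left, Over.pullback_map_left, pullback.lift_fst] at this
  exact this

/-- `𝟙 ^ n = 1` can be checked after base change to an open cover. -/
lemma id_pow_of_bc (G : Over S) [GrpObj G] (n : ℕ) (𝒰 : S.OpenCover)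
    (h : ∀ i, (𝟙 ((Over.pullback (𝒰.f i)).obj G) : _ ⟶ _) ^ n = 1) : (𝟙 G : G ⟶ G) ^ n = 1 := by
  apply eq_of_bc _ _ 𝒰
  intro i
  have h1 := map_pow (Functor.homMonoidHom (Over.pullback (𝒰.f i)) (X := G) (M := G)) (𝟙 G) n
  simp only [Functor.homMonoidHom_apply, CategoryTheory.Functor.map_id] at h1
  rw [h1, h i, Functor.map_one]

/-- `𝟙 ^ n = 1` can be checked after base change to an affine open cover. -/
lemma id_pow_of_bc_affine (G : Over S) [GrpObj G] (n : ℕ) (𝒰 : S.AffineOpenCover)
    (h : ∀ i, (𝟙 ((Over.pullback (𝒰.f i)).obj G) : _ ⟶ _) ^ n = 1) : (𝟙 G : G ⟶ G) ^ n = 1 :=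
  id_pow_of_bc G n 𝒰.openCover h

end bc

/-- Algebraic data of a finite locally free scheme over `Spec R` presented as `Spec A`. -/
lemma alg_data (R : CommRingCat.{u}) (A : Type u) [CommRing A] [Algebra R A] (G : Over (Spec R))
    (e : G ≅ (Spec (.of A)).asOver (Spec R))
    [IsFinite G.hom] [Flat G.hom] [LocallyOfFinitePresentation G.hom] :
    Module.Finite R A ∧ Module.Projective R A ∧
      ∀ p : PrimeSpectrum R, Module.rankAtStalk A p = G.hom.finrank p := by
  have hw : e.inv.left ≫ G.hom = Spec.map (CommRingCat.ofHom (algebraMap R A)) := Over.w e.inv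
  have : IsIso e.inv.left := inferInstanceAs (IsIso ((Over.forget _).map e.inv))
  have h1 : IsFinite (Spec.map (CommRingCat.ofHom (algebraMap R A))) := by
    rw [← hw]; exact (MorphismProperty.cancel_left_of_respectsIso @IsFinite e.inv.left G.hom).mpr ‹_›
  have h2 : Flat (Spec.map (CommRingCat.ofHom (algebraMap R A))) := by
    rw [← hw]; exact (MorphismProperty.cancel_left_of_respectsIso @Flat e.inv.left G.hom).mpr ‹_›
  have h3 : LocallyOfFinitePresentation (Spec.map (CommRingCat.ofHom (algebraMap R A))) := by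
    rw [← hw]
    exact (MorphismProperty.cancel_left_of_respectsIso @LocallyOfFinitePresentation
      e.inv.left G.hom).mpr ‹_›
  rw [IsFinite.SpecMap_iff] at h1
  rw [Flat.SpecMap_iff] at h2
  rw [LocallyOfFinitePresentation.SpecMap_iff] at h3
  have i1 : Module.Finite R A := RingHom.finite_algebraMap.mp h1
  have i2 : Module.Flat R A := (RingHom.flat_algebraMap_iff).mp h2
  have i3 : Algebra.FinitePresentation R A := RingHom.finitePresentation_algebraMap.mp h3
  have i4 : Module.FinitePresentation R A := Module.FinitePresentation.of_finite_of_finitePresentation _ _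
  have i5 : Module.Projective R A := Module.Flat.projective_of_finitePresentation
  refine ⟨i1, i5, fun p => ?_⟩
  rw [← Scheme.Hom.finrank_SpecMap_algebraMap R A p]
  have : G.hom.finrank = (e.inv.left ≫ G.hom).finrank := (Scheme.Hom.finrank_comp_left_of_isIso _ _).symm
  rw [this, hw]
  rfl

section reduced
open WithConv
universe v

/-- An element of a projective module over a reduced ring vanishing in all fibres is zero. -/
lemma eq_zero_of_forall_residueField (R : Type u) [CommRing R] [IsReduced R] (A : Type v)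
    [AddCommGroup A] [Module R A] [Module.Projective R A] (x : A)
    (h : ∀ p : PrimeSpectrum R, (1 : p.asIdeal.ResidueField) ⊗ₜ[R] x = 0) : x = 0 := by
  obtain ⟨s, hs⟩ := (Module.projective_def'.mp (inferInstance : Module.Projective R A))
  have key : s x = 0 := by
    ext b
    have hb : ∀ p : PrimeSpectrum R, s x b ∈ p.asIdeal := by
      intro p
      let φ : A →ₗ[R] R := (Finsupp.lapply b).comp s
      have h1 := congrArg (LinearMap.baseChange p.asIdeal.ResidueField φ) (h p)
      rw [LinearMap.baseChange_tmul, map_zero] at h1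
      have h2 := congrArg (TensorProduct.rid R p.asIdeal.ResidueField) h1
      rw [TensorProduct.rid_tmul, map_zero] at h2
      have h3 : algebraMap R p.asIdeal.ResidueField (s x b) = 0 := by
        rw [Algebra.algebraMap_eq_smul_one]; exact h2
      exact (Ideal.algebraMap_residueField_eq_zero).mp h3
    have hnil : s x b ∈ nilradical R := by
      rw [nilradical_eq_sInf, Ideal.mem_sInf]
      intro I hI
      exact hb ⟨I, hI⟩
    rw [nilradical_eq_zero] at hnil
    simpa using hnil
  have := congrArg (fun f => f x) hs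
  simp only [LinearMap.comp_apply, LinearMap.id_apply] at this
  rw [← this, key, map_zero]

open Groth.Agent.H9.FinHopf in
/-- A finite locally free group scheme of constant rank `n` over a reduced ring is killed by `n`
(Hopf algebra form). -/
theorem id_pow_of_isReduced (R : Type u) [CommRing R] [IsReduced R] (A : Type v) [CommRing A]
    [HopfAlgebra R A] [Module.Finite R A] [Module.Projective R A] (n : ℕ)
    (hn : ∀ p : PrimeSpectrum R, Module.rankAtStalk A p = n) :
    (toConv (AlgHom.id R A) : WithConv (A →ₐ[R] A)) ^ n = 1 := by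
  apply WithConv.ofConv_injective
  apply AlgHom.ext
  intro a
  rw [← sub_eq_zero]
  apply eq_zero_of_forall_residueField R A
  intro p
  let K := p.asIdeal.ResidueField
  have h1 := id_pow_finrank K (K ⊗[R] A)
  have h2 : Module.finrank K (K ⊗[R] A) = n := by
    rw [← hn p, Module.rankAtStalk_eq]
  rw [h2] at h1
  show jmap (k := R) (A := A) K (_ - _) = 0
  rw [map_sub, sub_eq_zero, ← convPow_jmap, h1]
  show algebraMap K (K ⊗[R] A) (CoalgebraStruct.counit (R := K) (jmap (k := R) (A := A) K a)) =
    jmap (k := R) (A := A) K (algebraMap R A (CoalgebraStruct.counit (R := R) a))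
  rw [counit_jmap, AlgHom.commutes, ← IsScalarTower.algebraMap_apply]

end reduced

/-- **Deligne's theorem** over an affine base. -/
theorem id_pow_of_comm_finLocFree_affine (R : CommRingCat.{u}) (G : Over (Spec R)) [GrpObj G]
    [IsCommMonObj G] [IsFinite G.hom] [Flat G.hom] [LocallyOfFinitePresentation G.hom]
    (r : ℕ) (hr : ∀ s : Spec R, Scheme.Hom.finrank G.hom s = r) : (𝟙 G : G ⟶ G) ^ r = 1 := by
  have : IsAffine G.left := isAffine_of_isAffineHom G.hom
  obtain ⟨A, _, _, e, he⟩ := exists_hopf R G
  obtain ⟨i1, i5, hrank⟩ := alg_data R A G e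
  have : Coalgebra.IsCocomm R A :=
    isCocomm_of_comm R A (fun f g => mul_comm_of_iso e (fun X f g => mul_comm f g) _ f g)
  apply id_pow_of_iso e
  apply id_pow_spec
  apply Groth.Agent.H9.FinHopf.id_pow_of_rankAtStalk_eq
  intro p
  rw [hrank p]
  exact hr p

lemma id_pow_of_comm_finLocFree_aux {S : Scheme.{u}} (G : Over S) [GrpObj G] [IsCommMonObj G]
    [IsFinite G.hom] [Flat G.hom] [LocallyOfFinitePresentation G.hom]
    (r : ℕ) (hr : ∀ s : S, Scheme.Hom.finrank G.hom s = r) (R : CommRingCat.{u}) (j : Spec R ⟶ S) :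
    (𝟙 ((Over.pullback j).obj G) : _ ⟶ _) ^ r = 1 := by
  have h1 : IsFinite ((Over.pullback j).obj G).hom :=
    inferInstanceAs (IsFinite (pullback.snd G.hom _))
  have h2 : Flat ((Over.pullback j).obj G).hom :=
    inferInstanceAs (Flat (pullback.snd G.hom _))
  have h3 : LocallyOfFinitePresentation ((Over.pullback j).obj G).hom :=
    inferInstanceAs (LocallyOfFinitePresentation (pullback.snd G.hom _))
  exact id_pow_of_comm_finLocFree_affine R _ r
    (fun p => (Scheme.Hom.finrank_pullback_snd G.hom _ p).trans (hr _))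

/-- **Deligne's theorem** for schemes: a commutative finite locally free group scheme of constant
rank `r` is killed by `r`. -/
theorem id_pow_of_comm_finLocFree {S : Scheme.{u}} (G : Over S) [GrpObj G] [IsCommMonObj G]
    [IsFinite G.hom] [Flat G.hom] [LocallyOfFinitePresentation G.hom]
    (r : ℕ) (hr : ∀ s : S, Scheme.Hom.finrank G.hom s = r) : (𝟙 G : G ⟶ G) ^ r = 1 :=
  id_pow_of_bc_affine G r S.affineOpenCover
    (fun _ => id_pow_of_comm_finLocFree_aux G r hr _ _)

/-- A finite locally free group scheme of constant rank over a reduced affine base is killed by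
its rank. -/
theorem id_pow_of_isReduced_affine (R : CommRingCat.{u}) [_root_.IsReduced R] (G : Over (Spec R))
    [GrpObj G] [IsFinite G.hom] [Flat G.hom] [LocallyOfFinitePresentation G.hom]
    (r : ℕ) (hr : ∀ s : Spec R, Scheme.Hom.finrank G.hom s = r) : (𝟙 G : G ⟶ G) ^ r = 1 := by
  have : IsAffine G.left := isAffine_of_isAffineHom G.hom
  obtain ⟨A, _, _, e, he⟩ := exists_hopf R G
  obtain ⟨i1, i5, hrank⟩ := alg_data R A G e
  apply id_pow_of_iso e
  apply id_pow_spec
  apply id_pow_of_isReduced
  intro p
  rw [hrank p]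
  exact hr p

lemma id_pow_of_isReduced_aux {S : Scheme.{u}} [IsReduced S] (G : Over S) [GrpObj G]
    [IsFinite G.hom] [Flat G.hom] [LocallyOfFinitePresentation G.hom]
    (r : ℕ) (hr : ∀ s : S, Scheme.Hom.finrank G.hom s = r) (R : CommRingCat.{u}) (j : Spec R ⟶ S)
    [IsOpenImmersion j] :
    (𝟙 ((Over.pullback j).obj G) : _ ⟶ _) ^ r = 1 := by
  have h1 : IsFinite ((Over.pullback j).obj G).hom :=
    inferInstanceAs (IsFinite (pullback.snd G.hom _))
  have h2 : Flat ((Over.pullback j).obj G).hom :=
    inferInstanceAs (Flat (pullback.snd G.hom _))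
  have h3 : LocallyOfFinitePresentation ((Over.pullback j).obj G).hom :=
    inferInstanceAs (LocallyOfFinitePresentation (pullback.snd G.hom _))
  have h4 : IsReduced (Spec R) := isReduced_of_isOpenImmersion j
  have h5 : _root_.IsReduced R := (affine_isReduced_iff R).mp h4
  exact id_pow_of_isReduced_affine R _ r
    (fun p => (Scheme.Hom.finrank_pullback_snd G.hom _ p).trans (hr _))

/-- A finite locally free group scheme of constant rank `r` over a reduced base is killed by
`r`. -/
theorem id_pow_of_isReduced_finLocFree {S : Scheme.{u}} [IsReduced S] (G : Over S) [GrpObj G]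
    [IsFinite G.hom] [Flat G.hom] [LocallyOfFinitePresentation G.hom]
    (r : ℕ) (hr : ∀ s : S, Scheme.Hom.finrank G.hom s = r) : (𝟙 G : G ⟶ G) ^ r = 1 :=
  id_pow_of_bc_affine G r S.affineOpenCover
    (fun _ => id_pow_of_isReduced_aux G r hr _ _)

end Groth.Agent.H3.HopfBridge
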