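import Groth.Agent.Lib.Helper1.SchFlat
import Groth.Agent.Lib.Helper1.GenFreeRingHom
import Groth.Agent.Lib.Lead.QC.FinType
import Groth.Agent.Lib.Lead.QC.CartierHeight

/-!
# Generic flatness for quasi-coherent modules of finite type (via helper1's generic freeness)
-/

set_option autoImplicit false

universe u

open CategoryTheory Limits AlgebraicGeometry TopologicalSpace Opposite

namespace Groth.Agent.H3.GenFlatSch

open Groth.Agent.LD.QC Groth.Agent.H1.GenFree

section Alg

variable {R S M : Type u} [CommRing R] [CommRing S] [Algebra R S] [AddCommGroup M]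
    [Module S M] [Module R M] [IsScalarTower R S M]

/-- If `M` is generically free at `f`, every localization of `M` at a prime of `S` not containing
`f` is flat over `R`. -/
theorem flat_localizedModule_of_genFreeAt {f : R} (h : GenFreeAt R M f) (p : Ideal S) [p.IsPrime]
    (hf : algebraMap R S f ∉ p) : Module.Flat R (LocalizedModule p.primeCompl M) := by
  -- the localization over `R` at the powers of `f`
  haveI : Module.Free (Localization.Away f) (LocalizedModule (Submonoid.powers f) M) :=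
    h.free _ (LocalizedModule.mkLinearMap (Submonoid.powers f) M)
  haveI h1 : Module.Flat R (LocalizedModule (Submonoid.powers f) M) :=
    Module.Flat.trans R (Localization.Away f) _
  -- the localization over `S` at the powers of the image of `f`
  let l₁ := LocalizedModule.mkLinearMap (Submonoid.powers (algebraMap R S f)) M
  haveI : IsLocalizedModule (Submonoid.powers f) (l₁.restrictScalars R) :=
    IsLocalizedModule.restrictScalars_powers f l₁
  let e := IsLocalizedModule.linearEquiv (Submonoid.powers f)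
    (LocalizedModule.mkLinearMap (Submonoid.powers f) M) (l₁.restrictScalars R)
  haveI h2 : Module.Flat R (LocalizedModule (Submonoid.powers (algebraMap R S f)) M) :=
    Module.Flat.of_linearEquiv e.symm
  have hle : Submonoid.powers (algebraMap R S f) ≤ p.primeCompl := by
    rw [Submonoid.powers_le]; exact hf
  exact Groth.Agent.H1.FlatLocus.flat_of_isLocalizedModule_of_le (R := R) (B := S)
    (Submonoid.powers (algebraMap R S f)) l₁ p.primeCompl hle
    (LocalizedModule.mkLinearMap p.primeCompl M)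

end Alg

end Groth.Agent.H3.GenFlatSch

namespace Groth.Agent.H3.GenFlatSch

open Groth.Agent.LD.QC Groth.Agent.H1.GenFree Groth.Agent.H1.SchFlat

/-- Generic freeness for a finite family of finite modules over finite type algebras over a
reduced ring. -/
theorem exists_good_family_mod {R : Type u} [CommRing R] [IsReduced R] {ι : Type*} (s : Finset ι)
    (A : ι → Type u) [∀ i, CommRing (A i)] [∀ i, Algebra R (A i)]
    (N : ι → Type u) [∀ i, AddCommGroup (N i)] [∀ i, Module (A i) (N i)] [∀ i, Module R (N i)]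
    [∀ i, IsScalarTower R (A i) (N i)]
    (hA : ∀ i ∈ s, Algebra.FiniteType R (A i)) (hN : ∀ i ∈ s, Module.Finite (A i) (N i))
    (g : R) (hg : g ≠ 0) :
    ∃ f : R, g * f ≠ 0 ∧ ∀ i ∈ s, Good R (A i) (N i) (g * f) := by
  classical
  induction s using Finset.induction_on generalizing g with
  | empty => exact ⟨1, by simpa using hg, by simp⟩
  | insert a s ha ih =>
    haveI := hA a (Finset.mem_insert_self a s)
    haveI := hN a (Finset.mem_insert_self a s)
    obtain ⟨f₁, hf₁, h₁⟩ := exists_good (R := R) (S := A a) (M := N a) g hg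
    obtain ⟨f₂, hf₂, h₂⟩ := ih (fun i hi => hA i (Finset.mem_insert_of_mem hi))
      (fun i hi => hN i (Finset.mem_insert_of_mem hi)) (g * f₁) hf₁
    refine ⟨f₁ * f₂, by rwa [← mul_assoc], ?_⟩
    intro i hi
    rw [← mul_assoc]
    rw [Finset.mem_insert] at hi
    rcases hi with rfl | hi
    · exact h₁.mul_right f₂
    · exact h₂ i hi

/-- **Generic flatness** (no Noetherian hypothesis): for `u : X ⟶ Y` quasi-compact and locally of
finite type over an integral scheme and `F` quasi-coherent of finite type, `F` is flat over `Y`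
above a nonempty open of `Y`. -/
theorem generic_flat {X Y : Scheme.{u}} (u : X ⟶ Y) [IsIntegral Y] [LocallyOfFiniteType u]
    [QuasiCompact u] (F : X.Modules) [F.IsQuasicoherent] (hF : F.IsFiniteType) :
    ∃ U : Y.Opens, (U : Set Y).Nonempty ∧ ∀ x : X, u.base x ∈ U → FlatMod.IsFlatOverAt u F x := by
  obtain ⟨y₀⟩ := (inferInstance : Nonempty Y)
  obtain ⟨V₀, hV₀, hy₀, -⟩ := exists_isAffineOpen_mem_and_subset (x := y₀) (U := ⊤) trivial
  haveI : Nonempty V₀ := ⟨⟨y₀, hy₀⟩⟩
  obtain ⟨s, hsfin, hs⟩ := isCompact_and_isOpen_iff_finite_and_eq_biUnion_affineOpens.mp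
    ⟨QuasiCompact.isCompact_preimage (f := u) _ V₀.isOpen hV₀.isCompact, (u ⁻¹ᵁ V₀).isOpen⟩
  have hle : ∀ W : s, W.1.1 ≤ u ⁻¹ᵁ V₀ := by
    intro W x hx
    have : x ∈ ⋃ i ∈ s, (i : Set X) := Set.mem_biUnion W.2 hx
    rw [← hs] at this
    exact this
  haveI : Fintype s := hsfin.fintype
  let A : s → Type u := fun W => Γ(X, W.1.1)
  letI instA : ∀ W : s, Algebra Γ(Y, V₀) (A W) := fun W => algΓ u (hle W)
  let N : s → Type u := fun W => Γ(F, W.1.1)
  letI instN : ∀ W : s, Module Γ(Y, V₀) (N W) := fun W => sectionsModuleOver u F (hle W)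
  haveI instT : ∀ W : s, IsScalarTower Γ(Y, V₀) (A W) (N W) :=
    fun W => isScalarTower_sections u F (hle W)
  have hft : ∀ W ∈ (Finset.univ : Finset s), Algebra.FiniteType Γ(Y, V₀) (A W) := fun W _ =>
    (HasRingHomProperty.appLE (P := @LocallyOfFiniteType) u inferInstance ⟨V₀, hV₀⟩ W.1 (hle W) :
      RingHom.FiniteType _)
  have hfin : ∀ W ∈ (Finset.univ : Finset s), Module.Finite (A W) (N W) := fun W _ =>
    finite_sections_of_isFiniteType F hF W.1.2
  obtain ⟨f₀, hf₀, hgood⟩ := exists_good_family_mod (R := Γ(Y, V₀)) (Finset.univ : Finset s) A N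
    hft hfin 1 one_ne_zero
  rw [one_mul] at hf₀
  simp only [one_mul] at hgood
  refine ⟨Y.basicOpen f₀, ?_, ?_⟩
  · have h1 : Y.basicOpen f₀ ≠ ⊥ := fun h => hf₀ ((basicOpen_eq_bot_iff f₀).mp h)
    rw [Set.nonempty_iff_ne_empty]
    intro h2
    exact h1 (Opens.ext h2)
  · intro x hx
    have hxV : x ∈ (u ⁻¹ᵁ V₀ : Set X) := Y.basicOpen_le f₀ hx
    rw [show ((u ⁻¹ᵁ V₀ : X.Opens) : Set X) = ⋃ i ∈ s, (i : Set X) from hs] at hxV
    obtain ⟨W, hW, hxW⟩ := Set.mem_iUnion₂.mp hxV
    rw [isFlatOverAt_iff_flat_localizedModule u F W.2 hV₀ (hle ⟨W, hW⟩) x hxW]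
    refine @flat_localizedModule_of_genFreeAt Γ(Y, V₀) Γ(X, W.1) Γ(F, W.1) _ _
      (algΓ u (hle ⟨W, hW⟩)) _ _ (sectionsModuleOver u F (hle ⟨W, hW⟩))
      (isScalarTower_sections u F (hle ⟨W, hW⟩)) f₀
      (hgood ⟨W, hW⟩ (Finset.mem_univ _)).freeM _ _ ?_
    change (u.appLE V₀ W.1 (hle ⟨W, hW⟩)).hom f₀ ∉ _
    rw [mem_primeIdealOf_iff, not_not, Scheme.basicOpen_appLE u W.1 V₀ (hle ⟨W, hW⟩) f₀]
    exact ⟨hxW, hx⟩

end Groth.Agent.H3.GenFlatSch
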