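import Mathlib

set_option autoImplicit false

universe u

open AlgebraicGeometry CategoryTheory CategoryTheory.Limits

namespace Groth.Agent.H3.EtGraph

/-- an étale universally injective morphism is an open immersion -/
lemma isOpenImmersion_of_etale_of_universallyInjective {X Y : Scheme.{u}} (h : X ⟶ Y)
    [Etale h] [UniversallyInjective h] : IsOpenImmersion h := by
  haveI : Surjective (pullback.diagonal h) := (UniversallyInjective.iff_diagonal h).1 inferInstance
  haveI : IsIso (pullback.diagonal h) :=
    (isIso_iff_isOpenImmersion_and_surjective _).2 ⟨inferInstance, inferInstance⟩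
  haveI : Mono h := (pullback.isIso_diagonal_iff h).1 inferInstance
  exact IsOpenImmersion.of_flat_of_mono h

lemma isIso_of_etale_of_universallyInjective_of_surjective {X Y : Scheme.{u}} (h : X ⟶ Y)
    [Etale h] [UniversallyInjective h] [Surjective h] : IsIso h := by
  haveI := isOpenImmersion_of_etale_of_universallyInjective h
  exact (isIso_iff_isOpenImmersion_and_surjective _).2 ⟨inferInstance, inferInstance⟩

variable {S X Y : Scheme.{u}} (p : X ⟶ S) (q : Y ⟶ S)

/-- the graph morphism -/
noncomputable abbrev graph (f : {f : X ⟶ Y // f ≫ q = p}) : X ⟶ pullback p q :=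
  pullback.lift (𝟙 X) f.1 ((Category.id_comp p).trans f.2.symm)

lemma isOpenImmersion_graph [Etale q] (f : {f : X ⟶ Y // f ≫ q = p}) :
    IsOpenImmersion (graph p q f) := by
  haveI : Etale (graph p q f ≫ pullback.fst p q) := by
    rw [pullback.lift_fst]; infer_instance
  haveI : Etale (graph p q f) := Etale.of_comp (graph p q f) (pullback.fst p q)
  haveI : Mono (graph p q f) := mono_of_mono_fac (pullback.lift_fst _ _ _)
  exact IsOpenImmersion.of_flat_of_mono _

theorem main [Etale q] :
    (∀ f : {f : X ⟶ Y // f ≫ q = p},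
      IsOpenImmersion (pullback.lift (𝟙 X) f.1 ((Category.id_comp p).trans f.2.symm) : X ⟶ pullback p q)) ∧
    ∀ Γ : (pullback p q).Opens, UniversallyInjective (Γ.ι ≫ pullback.fst p q) → Surjective (Γ.ι ≫ pullback.fst p q) →
      ∃! f : {f : X ⟶ Y // f ≫ q = p},
        Set.range (pullback.lift (𝟙 X) f.1 ((Category.id_comp p).trans f.2.symm) : X ⟶ pullback p q).base =
          (Γ : Set ↥(pullback p q)) := by
  refine ⟨fun f => isOpenImmersion_graph p q f, fun Γ h1 h2 => ?_⟩
  haveI := h1
  haveI := h2
  haveI : IsIso (Γ.ι ≫ pullback.fst p q) :=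
    isIso_of_etale_of_universallyInjective_of_surjective _
  let s : X ⟶ Γ := inv (Γ.ι ≫ pullback.fst p q)
  have hs : s ≫ Γ.ι ≫ pullback.fst p q = 𝟙 X := IsIso.inv_hom_id _
  let f : {f : X ⟶ Y // f ≫ q = p} := ⟨s ≫ Γ.ι ≫ pullback.snd p q, by
    rw [Category.assoc, Category.assoc, ← pullback.condition]
    calc s ≫ Γ.ι ≫ pullback.fst p q ≫ p = (s ≫ Γ.ι ≫ pullback.fst p q) ≫ p := by
          simp only [Category.assoc]
      _ = p := by rw [hs, Category.id_comp]⟩
  have hgf : graph p q f = s ≫ Γ.ι := by
    apply pullback.hom_ext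
    · rw [pullback.lift_fst, Category.assoc, hs]
    · rw [pullback.lift_snd, Category.assoc]
  refine ⟨f, ?_, ?_⟩
  · change Set.range (graph p q f).base = _
    rw [hgf]
    have : Set.range (s ≫ Γ.ι).base = Set.range Γ.ι.base := by
      rw [Scheme.Hom.comp_base, TopCat.coe_comp, Set.range_comp]
      have : Function.Surjective s.base := by
        haveI : IsIso s := by dsimp only [s]; infer_instance
        exact (inferInstance : Surjective s).surj
      rw [this.range_eq, Set.image_univ]
    rw [this]
    exact Γ.range_ι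
  · intro f' hf'
    change Set.range (graph p q f').base = _ at hf'
    haveI := isOpenImmersion_graph p q f'
    -- graph f' factors through Γ
    have hle : Set.range (graph p q f').base ⊆ Set.range Γ.ι.base := by
      rw [hf', Γ.range_ι]
    let l : X ⟶ Γ := IsOpenImmersion.lift Γ.ι (graph p q f') hle
    have hl : l ≫ Γ.ι = graph p q f' := IsOpenImmersion.lift_fac _ _ _
    have hls : l = s := by
      rw [← cancel_mono (Γ.ι ≫ pullback.fst p q), hs, ← Category.assoc, hl, pullback.lift_fst]
    apply Subtype.ext
    have h3 : graph p q f' ≫ pullback.snd p q = f'.1 := pullback.lift_snd _ _ _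
    rw [← h3, ← hl, hls, Category.assoc]

end Groth.Agent.H3.EtGraph
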