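import Mathlib
import Groth.Prelude.Def_AlgSt3
import Groth.Agent.Lib.Helper3.RepFaithful
import Groth.Agent.Lib.Helper3.TwoCart

set_option autoImplicit false
universe v₆ u₆ v₅ u₅ v₄ u₄ v₃ u₃ v₂ u₂ w v u
open CategoryTheory CategoryTheory.Functor CategoryTheory.Limits Opposite AlgebraicGeometry

namespace Groth.Agent.H3.MonoFull
open Groth.Agent.H3.FibCatAux Groth.Agent.H3.GerbAux Groth.Agent.H3.FpCalc Groth.Agent.H3.AlgStAux
  Groth.Agent.H3.FibCatYoneda Groth.Agent.H3.StackDescent Groth.Agent.H3.TwoCart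

variable {S : Scheme.{u}}

lemma app_injective_of_mono {F G : AlgSp.Sp S} (a : F ⟶ G) [Mono a] (T : Over S) :
    Function.Injective (a.hom.app (op T)) := by
  have h1 : Mono a.hom := (Sheaf.Hom.mono_iff_presheaf_mono _ _ a).1 inferInstance
  have h2 : Mono (a.hom.app (op T)) := inferInstance
  exact (mono_iff_injective _).1 h2

/-- two objects of `ofSp F` over the same scheme with the same structure morphism under `Φ` are
equal, when `spMapOfOver Φ` is a monomorphism -/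
lemma eq_of_secHom_eq {F : AlgSp.Sp S} {U : Over S} (Φ : AlgSt.ofSp F ⥤ᵇ FibCat.overCat U)
    [Mono (AlgSt.spMapOfOver Φ)] (a b : (AlgSt.ofSp F).obj) (hab : a.base = b.base)
    (h : AlgSt.secHom Φ a = eqToHom hab ≫ AlgSt.secHom Φ b) : a = b := by
  obtain ⟨T, x⟩ := a
  obtain ⟨T', x'⟩ := b
  change T = T' at hab
  subst hab
  rw [eqToHom_refl, Category.id_comp] at h
  have h1 : (AlgSt.spMapOfOver Φ).hom.app (op T) x = (AlgSt.spMapOfOver Φ).hom.app (op T) x' := by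
    rw [AlgSt.spMapOfOver_app, AlgSt.spMapOfOver_app, h]
  have h2 := app_injective_of_mono (AlgSt.spMapOfOver Φ) T h1
  rw [h2]


/-- if `e : ofSp F ⥤ᵇ 𝒲` is an equivalence over the base, `π : 𝒲 ⥤ᵇ (Sch/U)`, and
`spMapOfOver (e ⋙ π)` is a monomorphism, then two objects of `𝒲` over the same scheme whose images
under `π` are related by a morphism over the identity are isomorphic over the identity -/
lemma exists_iso_of_mono {𝒲 : BasedCategory.{v₂, u₂} (Over S)} {F : AlgSp.Sp S} {U : Over S}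
    (e : AlgSt.ofSp F ⥤ᵇ 𝒲) (he : FibCat.IsEquivOver e) (π : 𝒲 ⥤ᵇ FibCat.overCat U)
    [Mono (AlgSt.spMapOfOver (BasedFunctor.comp e π))]
    (W₁ W₂ : 𝒲.obj) (T : Over S) (h₁ : 𝒲.p.obj W₁ = T) (h₂ : 𝒲.p.obj W₂ = T)
    (ι : π.obj W₁ ⟶ π.obj W₂) (hι : (Over.forget U).IsHomLift (𝟙 T) ι) :
    ∃ κ : W₁ ≅ W₂, 𝒲.p.IsHomLift (𝟙 T) κ.hom := by
  obtain ⟨s₁, i₁, hi₁⟩ := hasPre_of_isEquivOver e he W₁
  obtain ⟨s₂, i₂, hi₂⟩ := hasPre_of_isEquivOver e he W₂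
  rw [h₁] at hi₁
  rw [h₂] at hi₂
  have b₁ : s₁.base = T := (e.w_obj s₁).symm.trans (IsHomLift.domain_eq 𝒲.p (𝟙 T) i₁.hom)
  have b₂ : s₂.base = T := (e.w_obj s₂).symm.trans (IsHomLift.domain_eq 𝒲.p (𝟙 T) i₂.hom)
  have hi₂' : 𝒲.p.IsHomLift (𝟙 T) i₂.inv := iso_inv_isHomLift i₂ hi₂
  -- the composite morphism in `Over U`
  have k1 : (Over.forget U).IsHomLift (𝟙 T) (π.map i₁.hom) :=
    BasedFunctor.preserves_isHomLift π (𝟙 T) i₁.hom
  have k2 : (Over.forget U).IsHomLift (𝟙 T) (π.map i₂.inv) :=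
    BasedFunctor.preserves_isHomLift π (𝟙 T) i₂.inv
  have k3 : (Over.forget U).IsHomLift (𝟙 T) (π.map i₁.hom ≫ ι ≫ π.map i₂.inv) := by
    have := IsHomLift.comp (p := Over.forget U) (𝟙 T) (𝟙 T) ι (π.map i₂.inv)
    rw [Category.comp_id] at this
    have := IsHomLift.comp (p := Over.forget U) (𝟙 T) (𝟙 T) (π.map i₁.hom) (ι ≫ π.map i₂.inv)
    rw [Category.comp_id] at this
    exact this
  obtain ⟨T₁, x₁⟩ := s₁
  obtain ⟨T₂, x₂⟩ := s₂
  change T₁ = T at b₁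
  change T₂ = T at b₂
  subst b₁
  subst b₂
  have hs : AlgSt.secHom (BasedFunctor.comp e π) ⟨T₂, x₁⟩ =
      eqToHom rfl ≫ AlgSt.secHom (BasedFunctor.comp e π) ⟨T₂, x₂⟩ := by
    rw [eqToHom_refl, Category.id_comp]
    exact over_hom_eq_of_isHomLift_id (T := T₂) (hi := k3) (π.map i₁.hom ≫ ι ≫ π.map i₂.inv)
      ((BasedFunctor.comp e π).w_obj ⟨T₂, x₁⟩) ((BasedFunctor.comp e π).w_obj ⟨T₂, x₂⟩)
  have hss : (⟨T₂, x₁⟩ : (AlgSt.ofSp F).obj) = ⟨T₂, x₂⟩ :=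
    eq_of_secHom_eq (BasedFunctor.comp e π) ⟨T₂, x₁⟩ ⟨T₂, x₂⟩ rfl hs
  have hx : x₁ = x₂ := by
    have := congrArg (fun a : (AlgSt.ofSp F).obj => (⟨a.base, a.sec⟩ : Σ B : Over S, F.obj.obj (op B))) hss
    exact eq_of_heq (Sigma.mk.inj this).2
  subst hx
  refine ⟨i₁.symm ≪≫ i₂, ?_⟩
  have hi₁' : 𝒲.p.IsHomLift (𝟙 T₂) i₁.inv := iso_inv_isHomLift i₁ hi₁
  have := IsHomLift.comp (p := 𝒲.p) (𝟙 T₂) (𝟙 T₂) i₁.inv i₂.hom
  rw [Category.comp_id] at this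
  exact this


/-- a monomorphism (representable by algebraic spaces) of categories fibred in groupoids is full -/
theorem full_of_isMono {𝒳 𝒴 : BasedCategory.{v₂, u₂} (Over S)} (h𝒳 : FibCat.IsFibGrpd 𝒳.p)
    (h𝒴 : FibCat.IsFibGrpd 𝒴.p) (j : 𝒳 ⥤ᵇ 𝒴) (hj : AlgSt.IsMono j) : j.toFunctor.Full := by
  apply full_of_fiberFunctor_full j h𝒳 h𝒴
  intro T
  apply fiberFunctor_full_of
  intro x x' β hx hx' hβ
  have hfib : 𝒴.p.IsFibered := isFibered_of_isFibGrpd 𝒴.p h𝒴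
  obtain ⟨y, e₀, he₀⟩ := exists_pb_leg (j.obj x') ((j.w_obj x').trans hx')
  have he₀i : IsIso e₀ := isIso_of_isHomLift_id 𝒴.p h𝒴 (U := T) e₀
  have hβi : IsIso β := isIso_of_isHomLift_id 𝒴.p h𝒴 (U := T) β
  obtain ⟨F, e, he, hP⟩ := hj T y
  have hmono : Mono (AlgSt.spMapOfOver (BasedFunctor.comp e (FibCat.fpFst y j))) := hP
  have hβ' : 𝒴.p.IsHomLift (𝟙 T) (CategoryTheory.inv β) := by
    have := IsHomLift.inv 𝒴.p (𝟙 T) β
    rw [IsIso.inv_id] at this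
    exact this
  have h2 : 𝒴.p.IsHomLift (𝟙 T) (e₀ ≫ CategoryTheory.inv β) := by
    have := IsHomLift.comp (p := 𝒴.p) (𝟙 T) (𝟙 T) e₀ (CategoryTheory.inv β)
    rw [Category.comp_id] at this
    exact this
  let W₁ : (FibCat.fp y j).obj := fpMk y j (Over.mk (𝟙 T)) x' (asIso e₀) he₀
  let W₂ : (FibCat.fp y j).obj := fpMk y j (Over.mk (𝟙 T)) x (asIso e₀ ≪≫ (asIso β).symm) h2
  have hid : (Over.forget T).IsHomLift (𝟙 T) (𝟙 (Over.mk (𝟙 T))) := IsHomLift.id rfl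
  obtain ⟨κ, hκ⟩ := exists_iso_of_mono e he (FibCat.fpFst y j) W₂ W₁ T rfl rfl
    (𝟙 (Over.mk (𝟙 T))) hid
  obtain ⟨a, ha⟩ : ∃ a : Over.mk (𝟙 T) ⟶ Over.mk (𝟙 T), a = κ.hom.hom.fst := ⟨_, rfl⟩
  obtain ⟨b, hb⟩ : ∃ b : x ⟶ x', b = κ.hom.hom.snd := ⟨_, rfl⟩
  have hw : y.map a ≫ e₀ = (e₀ ≫ CategoryTheory.inv β) ≫ j.map b := by
    rw [ha, hb]; exact κ.hom.hom.w
  have ha1 : a = 𝟙 _ := by
    apply Over.OverMorphism.ext
    have := Over.w a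
    simpa using this
  have hy : y.map a = 𝟙 _ := by rw [ha1]; exact y.toFunctor.map_id _
  rw [hy, Category.id_comp, Category.assoc] at hw
  refine ⟨b, ?_⟩
  have h3 : CategoryTheory.inv β ≫ j.map b = 𝟙 _ := by
    apply (cancel_epi e₀).1
    rw [← hw, Category.comp_id]
  calc j.map b = β ≫ CategoryTheory.inv β ≫ j.map b := by rw [IsIso.hom_inv_id_assoc]
    _ = β := by rw [h3, Category.comp_id]

end Groth.Agent.H3.MonoFull
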