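import Mathlib
import Groth.Agent.S9140

set_option autoImplicit false

universe u

namespace Groth.Agent.H3.NilFin

/-- nilpotent Nakayama -/
lemma eq_top_of_sup_smul {A M : Type*} [CommRing A] [AddCommGroup M] [Module A M] (n : Ideal A)
    (hn : IsNilpotent n) (N : Submodule A M) (h : ⊤ ≤ N ⊔ n • (⊤ : Submodule A M)) : N = ⊤ := by
  obtain ⟨k, hk⟩ := hn
  have key : ∀ m : ℕ, (⊤ : Submodule A M) ≤ N ⊔ (n ^ m) • (⊤ : Submodule A M) := by
    intro m
    induction m with
    | zero => simp
    | succ m ih =>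
      calc (⊤ : Submodule A M) ≤ N ⊔ (n ^ m) • (⊤ : Submodule A M) := ih
        _ ≤ N ⊔ (n ^ m) • (N ⊔ n • (⊤ : Submodule A M)) :=
            sup_le_sup_left (Submodule.smul_mono le_rfl h) _
        _ = N ⊔ ((n ^ m) • N ⊔ (n ^ m) • (n • (⊤ : Submodule A M))) := by rw [Submodule.smul_sup]
        _ ≤ N ⊔ (n ^ (m + 1)) • (⊤ : Submodule A M) := by
            rw [← Submodule.smul_assoc, smul_eq_mul, ← pow_succ]
            exact sup_le le_sup_left (sup_le (le_sup_of_le_left Submodule.smul_le_right) le_sup_right)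
  have h2 := key k
  rw [hk, Ideal.zero_eq_bot, Submodule.bot_smul, sup_bot_eq] at h2
  exact eq_top_iff.2 h2

variable (A B C : Type u) [CommRing A] [CommRing B] [CommRing C]
    [Algebra A B] [Algebra B C] [Algebra A C] [IsScalarTower A B C] (n : Ideal A)

lemma map_map_eq :
    ((n.map (algebraMap A B)).map (algebraMap B C)) = n.map (algebraMap A C) := by
  rw [Ideal.map_map, ← IsScalarTower.algebraMap_eq]

theorem finiteType (hn : IsNilpotent n)
    (h : Algebra.FiniteType (B ⧸ n.map (algebraMap A B))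
      (C ⧸ (n.map (algebraMap A B)).map (algebraMap B C))) : Algebra.FiniteType B C := by
  classical
  have h1 : Algebra.FiniteType B (B ⧸ n.map (algebraMap A B)) :=
    Algebra.FiniteType.of_surjective (Ideal.Quotient.mkₐ B _) (Ideal.Quotient.mkₐ_surjective B _)
  have h2 : Algebra.FiniteType B (C ⧸ (n.map (algebraMap A B)).map (algebraMap B C)) :=
    Algebra.FiniteType.trans h1 h
  obtain ⟨s, hs⟩ := h2.out
  choose g hg using fun x : C ⧸ (n.map (algebraMap A B)).map (algebraMap B C) =>
    Ideal.Quotient.mk_surjective x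
  let t : Finset C := s.image g
  refine ⟨⟨t, ?_⟩⟩
  have hmap : (Algebra.adjoin B (t : Set C)).map
      (Ideal.Quotient.mkₐ B ((n.map (algebraMap A B)).map (algebraMap B C))) = ⊤ := by
    rw [AlgHom.map_adjoin, eq_top_iff, ← hs]
    apply Algebra.adjoin_mono
    intro x hx
    exact ⟨g x, Finset.mem_coe.2 (Finset.mem_image_of_mem g hx), hg x⟩
  let N : Submodule A C := (Subalgebra.toSubmodule (Algebra.adjoin B (t : Set C))).restrictScalars A
  have hN : N = ⊤ := by
    apply eq_top_of_sup_smul n hn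
    intro c _
    have hc : Ideal.Quotient.mkₐ B ((n.map (algebraMap A B)).map (algebraMap B C)) c ∈
        (Algebra.adjoin B (t : Set C)).map
          (Ideal.Quotient.mkₐ B ((n.map (algebraMap A B)).map (algebraMap B C))) := by
      rw [hmap]; exact Algebra.mem_top
    obtain ⟨b', hb', hbc⟩ := hc
    have hmem : c - b' ∈ (n.map (algebraMap A B)).map (algebraMap B C) := by
      rw [← Ideal.Quotient.eq]
      exact hbc.symm
    have : c = b' + (c - b') := by ring
    rw [this]
    refine Submodule.add_mem_sup hb' ?_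
    rw [Ideal.smul_top_eq_map, ← map_map_eq A B C n]
    exact hmem
  rw [eq_top_iff]
  intro c _
  have : c ∈ N := by rw [hN]; trivial
  exact this

theorem finitePresentation (hn : IsNilpotent n) (hflat : Module.Flat A C)
    (h : Algebra.FinitePresentation (B ⧸ n.map (algebraMap A B))
      (C ⧸ (n.map (algebraMap A B)).map (algebraMap B C))) : Algebra.FinitePresentation B C := by
  classical
  have hft : Algebra.FiniteType B C := finiteType A B C n hn inferInstance
  obtain ⟨r, φ, hφ⟩ := Algebra.FiniteType.iff_quotient_mvPolynomial''.1 hft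
  refine Algebra.FinitePresentation.of_surjective hφ ?_
  let ψ : MvPolynomial (Fin r) (B ⧸ n.map (algebraMap A B)) →ₐ[B ⧸ n.map (algebraMap A B)]
      (C ⧸ (n.map (algebraMap A B)).map (algebraMap B C)) :=
    MvPolynomial.aeval (fun i => Ideal.Quotient.mk _ (φ (MvPolynomial.X i)))
  let π : MvPolynomial (Fin r) B →+* MvPolynomial (Fin r) (B ⧸ n.map (algebraMap A B)) :=
    MvPolynomial.map (Ideal.Quotient.mk _)
  have hπ : Function.Surjective π := MvPolynomial.map_surjective _ Ideal.Quotient.mk_surjective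
  have hcomm : ∀ p, ψ (π p) = Ideal.Quotient.mk _ (φ p) := by
    intro p
    induction p using MvPolynomial.induction_on with
    | C b =>
      simp only [π, ψ, MvPolynomial.map_C, MvPolynomial.aeval_C]
      rw [← MvPolynomial.algebraMap_eq, φ.commutes]
      rfl
    | add p q hp hq => rw [map_add, map_add, hp, hq, map_add, map_add]
    | mul_X p i hp =>
      rw [map_mul, map_mul, hp, map_mul, map_mul]
      congr 1
      simp only [π, ψ, MvPolynomial.map_X, MvPolynomial.aeval_X]
  have hψ : Function.Surjective ψ := by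
    intro y
    obtain ⟨c, rfl⟩ := Ideal.Quotient.mk_surjective y
    obtain ⟨p, rfl⟩ := hφ c
    exact ⟨π p, hcomm p⟩
  have hker : (RingHom.ker ψ.toRingHom).FG :=
    Algebra.FinitePresentation.ker_fG_of_surjective ψ hψ
  obtain ⟨T, hT⟩ := hker
  have hkerπ : RingHom.ker π = (n.map (algebraMap A B)).map (MvPolynomial.C (σ := Fin r)) := by
    rw [MvPolynomial.ker_map, Ideal.mk_ker]
  have hlift : ∀ q, q ∈ RingHom.ker ψ.toRingHom → ∃ k, k ∈ RingHom.ker φ.toRingHom ∧ π k = q := by
    intro q hq
    obtain ⟨p, rfl⟩ := hπ q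
    have h0 : Ideal.Quotient.mk ((n.map (algebraMap A B)).map (algebraMap B C)) (φ p) = 0 := by
      rw [← hcomm]; exact hq
    rw [Ideal.Quotient.eq_zero_iff_mem] at h0
    have hJ : (n.map (algebraMap A B)).map (algebraMap B C) =
        ((n.map (algebraMap A B)).map (MvPolynomial.C (σ := Fin r))).map φ.toRingHom := by
      have hc : algebraMap B C = φ.toRingHom.comp (MvPolynomial.C (σ := Fin r)) := by
        ext b
        simp only [RingHom.comp_apply, AlgHom.toRingHom_eq_coe, RingHom.coe_coe]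
        rw [← MvPolynomial.algebraMap_eq, φ.commutes]
      rw [Ideal.map_map (MvPolynomial.C (σ := Fin r)) φ.toRingHom, ← hc]
    rw [hJ] at h0
    obtain ⟨p', hp', hpp'⟩ := (Ideal.mem_map_iff_of_surjective φ.toRingHom hφ).1 h0
    refine ⟨p - p', ?_, ?_⟩
    · rw [RingHom.mem_ker, map_sub, hpp']
      exact sub_self _
    · have : π p' = 0 := by rw [← RingHom.mem_ker, hkerπ]; exact hp'
      rw [map_sub, this, sub_zero]
  choose! kk hkk1 hkk2 using hlift
  have hTsub : ∀ q ∈ T, q ∈ RingHom.ker ψ.toRingHom := fun q hq => by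
    rw [← hT]; exact Ideal.subset_span hq
  let K₀ : Ideal (MvPolynomial (Fin r) B) := Ideal.span ((T.image kk : Finset _) : Set _)
  have hK₀ : K₀ ≤ RingHom.ker φ.toRingHom := by
    rw [Ideal.span_le]
    intro x hx
    obtain ⟨q, hq, rfl⟩ := Finset.mem_image.1 (Finset.mem_coe.1 hx)
    exact hkk1 q (hTsub q hq)
  have hmapK₀ : K₀.map π = RingHom.ker ψ.toRingHom := by
    rw [Ideal.map_span, ← hT]
    congr 1
    ext q
    constructor
    · rintro ⟨x, hx, rfl⟩
      obtain ⟨q', hq', rfl⟩ := Finset.mem_image.1 (Finset.mem_coe.1 hx)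
      rw [hkk2 q' (hTsub q' hq')]
      exact hq'
    · intro hq
      exact ⟨kk q, Finset.mem_coe.2 (Finset.mem_image_of_mem kk hq), hkk2 q (hTsub q hq)⟩
  suffices hle : RingHom.ker φ.toRingHom ≤ K₀ by
    exact ⟨T.image kk, le_antisymm hK₀ hle⟩
  -- Nakayama on the kernel as an `A`-module
  let f : MvPolynomial (Fin r) B →ₗ[A] C := φ.toLinearMap.restrictScalars A
  have hf : Function.Surjective f := hφ
  let N : Submodule A (LinearMap.ker f) :=
    Submodule.comap (LinearMap.ker f).subtype (K₀.restrictScalars A)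
  have hN : N = ⊤ := by
    apply eq_top_of_sup_smul n hn
    intro k _
    have hk : (k : MvPolynomial (Fin r) B) ∈ RingHom.ker φ.toRingHom := k.2
    have hπk : π k ∈ K₀.map π := by
      rw [hmapK₀]
      rw [RingHom.mem_ker]
      change ψ (π k) = 0
      rw [hcomm]
      have : φ (k : MvPolynomial (Fin r) B) = 0 := hk
      rw [this, map_zero]
    obtain ⟨k₀, hk₀, hk₀k⟩ := (Ideal.mem_map_iff_of_surjective π hπ).1 hπk
    have hk₀K : k₀ ∈ LinearMap.ker f := hK₀ hk₀
    have hdiff : (k : MvPolynomial (Fin r) B) - k₀ ∈ RingHom.ker π := by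
      rw [RingHom.mem_ker, map_sub, hk₀k, sub_self]
    rw [hkerπ, ← MvPolynomial.algebraMap_eq, map_map_eq A B (MvPolynomial (Fin r) B) n] at hdiff
    have hd2 : ((k - ⟨k₀, hk₀K⟩ : LinearMap.ker f) : MvPolynomial (Fin r) B) ∈
        n • (⊤ : Submodule A (MvPolynomial (Fin r) B)) := by
      rw [Ideal.smul_top_eq_map]
      exact hdiff
    have hd3 := Groth.Agent.S9140.mem_smul_top_ker_of_flat f hf n (k - ⟨k₀, hk₀K⟩) hd2
    have : k = ⟨k₀, hk₀K⟩ + (k - ⟨k₀, hk₀K⟩) := by abel
    rw [this]
    exact Submodule.add_mem_sup (show (⟨k₀, hk₀K⟩ : LinearMap.ker f) ∈ N from hk₀) hd3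
  intro k hk
  have hk' : k ∈ LinearMap.ker f := hk
  have : (⟨k, hk'⟩ : LinearMap.ker f) ∈ N := by rw [hN]; trivial
  exact this

theorem main (hn : IsNilpotent n) :
    (Algebra.FiniteType (B ⧸ n.map (algebraMap A B)) (C ⧸ (n.map (algebraMap A B)).map (algebraMap B C)) →
      Algebra.FiniteType B C) ∧
    (Module.Flat A C →
      Algebra.FinitePresentation (B ⧸ n.map (algebraMap A B)) (C ⧸ (n.map (algebraMap A B)).map (algebraMap B C)) →
      Algebra.FinitePresentation B C) :=
  ⟨finiteType A B C n hn, finitePresentation A B C n hn⟩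


end Groth.Agent.H3.NilFin
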