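import Mathlib
import Groth.Agent.Lib.Helper5.LL.LL3

set_option autoImplicit false
universe u
open AlgebraicGeometry CategoryTheory IsLocalRing

namespace Groth.Agent.H3.EtFib

theorem local_iff {R S : Type u} [CommRing R] [CommRing S] [IsLocalRing R] [IsLocalRing S]
    (φ : R →+* S) [IsLocalHom φ] (hess : φ.EssFiniteType) :
    φ.FormallyUnramified ↔
      (letI 𝔪 := maximalIdeal R
       letI := (Ideal.quotientMap (𝔪.map φ) φ Ideal.le_comap_map).toAlgebra
       IsField (S ⧸ 𝔪.map φ) ∧ Module.Finite (R ⧸ 𝔪) (S ⧸ 𝔪.map φ) ∧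
        Algebra.IsSeparable (R ⧸ 𝔪) (S ⧸ 𝔪.map φ)) := by
  letI := φ.toAlgebra
  haveI : IsLocalHom (algebraMap R S) := ‹IsLocalHom φ›
  haveI : Algebra.EssFiniteType R S := hess
  letI inst : Algebra (ResidueField R) (S ⧸ (maximalIdeal R).map φ) :=
    (Ideal.quotientMap ((maximalIdeal R).map φ) φ Ideal.le_comap_map).toAlgebra
  -- transport along `mR = m_S`
  have key : ∀ H : (maximalIdeal R).map φ = maximalIdeal S,
      Nonempty ((S ⧸ (maximalIdeal R).map φ) ≃ₐ[ResidueField R] ResidueField S) := by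
    intro H
    refine ⟨AlgEquiv.ofRingEquiv (f := Ideal.quotEquivOfEq H) ?_⟩
    intro x
    obtain ⟨r, rfl⟩ := Ideal.Quotient.mk_surjective x
    rfl
  constructor
  · intro h
    haveI : Algebra.FormallyUnramified R S := h
    have hfield : IsField (S ⧸ (maximalIdeal R).map φ) :=
      Algebra.FormallyUnramified.isField_quotient_map_maximalIdeal (R := R) (S := S)
    have H : (maximalIdeal R).map φ = maximalIdeal S :=
      Algebra.FormallyUnramified.map_maximalIdeal (R := R) (S := S)
    obtain ⟨e⟩ := key H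
    refine ⟨hfield, ?_, ?_⟩
    · have h1 : Module.Finite (ResidueField R) (S ⧸ (maximalIdeal R).map φ) :=
        Module.Finite.equiv e.symm.toLinearEquiv
      exact h1
    · have h2 : Algebra.IsSeparable (ResidueField R) (S ⧸ (maximalIdeal R).map φ) :=
        AlgEquiv.Algebra.isSeparable e.symm
      exact h2
  · rintro ⟨hfield, -, hsep⟩
    have hmax : ((maximalIdeal R).map φ).IsMaximal := Ideal.Quotient.maximal_of_isField _ hfield
    have H : (maximalIdeal R).map φ = maximalIdeal S := IsLocalRing.eq_maximalIdeal hmax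
    obtain ⟨e⟩ := key H
    haveI : Algebra.IsSeparable (ResidueField R) (S ⧸ (maximalIdeal R).map φ) := hsep
    haveI : Algebra.IsSeparable (ResidueField R) (ResidueField S) :=
      AlgEquiv.Algebra.isSeparable e
    exact Algebra.FormallyUnramified.of_map_maximalIdeal (R := R) (S := S) H

theorem formallyUnramified_iff_stalks {X Y : Scheme.{u}} (f : X ⟶ Y) [LocallyOfFiniteType f] :
    FormallyUnramified f ↔ ∀ x : X, (f.stalkMap x).hom.FormallyUnramified := by
  constructor
  · intro h x
    exact FormallyUnramified.stalkMap f x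
  · intro key
    choose U hxU hU using fun x => H5.LL.exists_unramified_nhd f x (key x)
    refine IsZariskiLocalAtSource.of_iSup_eq_top (P := @FormallyUnramified) U ?_ hU
    rw [eq_top_iff]
    intro x _
    exact TopologicalSpace.Opens.mem_iSup.mpr ⟨x, hxU x⟩

theorem main {X Y : Scheme.{u}} (f : X ⟶ Y)
    [LocallyOfFinitePresentation f] :
    Etale f ↔ Flat f ∧ ∀ x : ↥X,
      letI φ := (f.stalkMap x).hom
      letI 𝔪 := IsLocalRing.maximalIdeal ↑(Y.presheaf.stalk (f.base x))
      letI := (Ideal.quotientMap (𝔪.map φ) φ Ideal.le_comap_map).toAlgebra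
      IsField (↑(X.presheaf.stalk x) ⧸ 𝔪.map φ) ∧
        Module.Finite (↑(Y.presheaf.stalk (f.base x)) ⧸ 𝔪) (↑(X.presheaf.stalk x) ⧸ 𝔪.map φ) ∧
        Algebra.IsSeparable (↑(Y.presheaf.stalk (f.base x)) ⧸ 𝔪) (↑(X.presheaf.stalk x) ⧸ 𝔪.map φ) := by
  rw [Etale.iff_flat_and_formallyUnramified, formallyUnramified_iff_stalks]
  constructor
  · rintro ⟨h1, h2, -⟩
    refine ⟨h1, fun x => ?_⟩
    exact (local_iff (f.stalkMap x).hom (LocallyOfFiniteType.stalkMap f x)).1 (h2 x)
  · rintro ⟨h1, h2⟩
    refine ⟨h1, fun x => ?_, inferInstance⟩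
    exact (local_iff (f.stalkMap x).hom (LocallyOfFiniteType.stalkMap f x)).2 (h2 x)

end Groth.Agent.H3.EtFib
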