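import Mathlib
import Groth.Prelude.Def_AlgSt
import Groth.Agent.Lib.Helper3.FibCatAux

set_option autoImplicit false

universe w v₄ u₄ v₃ u₃ v₂ u₂ v u

open CategoryTheory CategoryTheory.Functor CategoryTheory.Limits Opposite

namespace Groth.Agent.H3.CatPullFib

variable {C : Type u} [Category.{v} C] {D : Type u₂} [Category.{v₂} D] (u : C ⥤ D)
  (𝒮 : BasedCategory.{v₃, u₃} D)

open CategoricalPullback Groth.Agent.H3.FibCatAux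

lemma π₁_isHomLift_iff {X Y : CategoricalPullback u 𝒮.p} {R S : C} (f : R ⟶ S) (φ : X ⟶ Y) :
    (CategoricalPullback.π₁ u 𝒮.p).IsHomLift f φ ↔
      ∃ (hR : X.fst = R) (hS : Y.fst = S), φ.fst = eqToHom hR ≫ f ≫ eqToHom hS.symm := by
  constructor
  · intro h
    exact ⟨IsHomLift.domain_eq (π₁ u 𝒮.p) f φ, IsHomLift.codomain_eq (π₁ u 𝒮.p) f φ,
      IsHomLift.fac' (π₁ u 𝒮.p) f φ⟩
  · rintro ⟨hR, hS, h⟩
    exact IsHomLift.of_fac' (π₁ u 𝒮.p) f φ hR hS h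

lemma fst_eq_of_isHomLift {X Y : CategoricalPullback u 𝒮.p} (f : X.fst ⟶ Y.fst) (φ : X ⟶ Y)
    (h : (CategoricalPullback.π₁ u 𝒮.p).IsHomLift f φ) : φ.fst = f := by
  have := IsHomLift.fac' (π₁ u 𝒮.p) f φ
  have e : ∀ (h1 : X.fst = X.fst) (h2 : Y.fst = Y.fst), eqToHom h1 ≫ f ≫ eqToHom h2 = f := by
    intros; simp
  exact this.trans (e _ _)

lemma map_snd_eq {X Y : CategoricalPullback u 𝒮.p} (φ : X ⟶ Y) :
    𝒮.p.map φ.snd = X.iso.inv ≫ u.map φ.fst ≫ Y.iso.hom := by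
  rw [φ.w]; simp

/-- a morphism of `C ×_D 𝒮` whose `𝒮`-component is strongly cartesian is strongly cartesian over `C` -/
theorem isStronglyCartesian_of_snd {X X' : CategoricalPullback u 𝒮.p} (φ : X ⟶ X')
    [hκ : 𝒮.p.IsStronglyCartesian (𝒮.p.map φ.snd) φ.snd] :
    (CategoricalPullback.π₁ u 𝒮.p).IsStronglyCartesian φ.fst φ := by
  have hφ : (π₁ u 𝒮.p).IsHomLift φ.fst φ := IsHomLift.map (π₁ u 𝒮.p) φ
  refine { toIsHomLift := hφ, universal_property' := ?_ }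
  intro X'' g φ'' hφ''
  obtain ⟨g₀, hg₀⟩ : ∃ g₀ : X''.fst ⟶ X.fst, g₀ = g := ⟨g, rfl⟩
  have e1 : φ''.fst = g₀ ≫ φ.fst := by
    rw [hg₀]; exact fst_eq_of_isHomLift u 𝒮 (g ≫ φ.fst) φ'' hφ''
  obtain ⟨k, hk⟩ : ∃ k : 𝒮.p.obj X''.snd ⟶ 𝒮.p.obj X.snd,
      k = X''.iso.inv ≫ u.map g₀ ≫ X.iso.hom := ⟨_, rfl⟩
  have l1 : 𝒮.p.IsHomLift (k ≫ 𝒮.p.map φ.snd) φ''.snd := by
    apply IsHomLift.of_fac' 𝒮.p (k ≫ 𝒮.p.map φ.snd) φ''.snd rfl rfl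
    simp only [eqToHom_refl, Category.comp_id, Category.id_comp]
    rw [map_snd_eq, map_snd_eq, e1, hk, u.map_comp]
    simp
  obtain ⟨c, hc1, hc2⟩ : ∃ c : X''.snd ⟶ X.snd, 𝒮.p.IsHomLift k c ∧ c ≫ φ.snd = φ''.snd :=
    ⟨IsStronglyCartesian.map 𝒮.p (𝒮.p.map φ.snd) φ.snd (f' := k ≫ 𝒮.p.map φ.snd) rfl φ''.snd,
      IsStronglyCartesian.map_isHomLift 𝒮.p (𝒮.p.map φ.snd) φ.snd rfl φ''.snd,
      IsStronglyCartesian.fac 𝒮.p (𝒮.p.map φ.snd) φ.snd rfl φ''.snd⟩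
  have hcw : u.map g₀ ≫ X.iso.hom = X''.iso.hom ≫ 𝒮.p.map c := by
    have := IsHomLift.fac' 𝒮.p k c
    rw [this]
    simp [hk]
  let χ : X'' ⟶ X := ⟨g₀, c, hcw⟩
  refine ⟨χ, ⟨?_, ?_⟩, ?_⟩
  · rw [← hg₀]; exact IsHomLift.map (π₁ u 𝒮.p) χ
  · apply CategoricalPullback.hom_ext
    · exact e1.symm
    · exact hc2
  · rintro χ' ⟨hχ'1, hχ'2⟩
    have e2 : χ'.fst = g₀ := by
      rw [hg₀]; exact fst_eq_of_isHomLift u 𝒮 g χ' hχ'1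
    have e3 : χ'.snd ≫ φ.snd = φ''.snd := congrArg (fun m => m.snd) hχ'2
    have l2 : 𝒮.p.IsHomLift k χ'.snd := by
      apply IsHomLift.of_fac' 𝒮.p k χ'.snd rfl rfl
      rw [map_snd_eq, e2, hk]
      simp
    apply CategoricalPullback.hom_ext
    · exact e2
    · exact IsStronglyCartesian.ext 𝒮.p (𝒮.p.map φ.snd) φ.snd k (e3.trans hc2.symm)

/-- existence of lifts in `C ×_D 𝒮` given lifts in `𝒮` -/
lemma exists_lift_π₁ (X' : CategoricalPullback u 𝒮.p) {U : C} (f : U ⟶ X'.fst)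
    (y : 𝒮.obj) (κ : y ⟶ X'.snd) [hκ : 𝒮.p.IsHomLift (u.map f ≫ X'.iso.hom) κ] :
    ∃ (X : CategoricalPullback u 𝒮.p) (φ : X ⟶ X'), X.fst = U ∧ X.snd = y ∧
      (π₁ u 𝒮.p).IsHomLift f φ ∧ HEq φ.snd κ := by
  have hy : 𝒮.p.obj y = u.obj U := IsHomLift.domain_eq 𝒮.p (u.map f ≫ X'.iso.hom) κ
  let X : CategoricalPullback u 𝒮.p := ⟨U, y, eqToIso hy.symm⟩
  have hw : u.map f ≫ X'.iso.hom = (eqToIso hy.symm).hom ≫ 𝒮.p.map κ := by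
    have := IsHomLift.fac' 𝒮.p (u.map f ≫ X'.iso.hom) κ
    rw [this]
    simp
  let φ : X ⟶ X' := ⟨f, κ, hw⟩
  exact ⟨X, φ, rfl, rfl, IsHomLift.map (π₁ u 𝒮.p) φ, HEq.rfl⟩

theorem isFibered_π₁ [𝒮.p.IsFibered] : (CategoricalPullback.π₁ u 𝒮.p).IsFibered := by
  apply IsFibered.of_exists_isStronglyCartesian
  intro X' U f
  obtain ⟨h, hh⟩ : ∃ h : u.obj U ⟶ 𝒮.p.obj X'.snd, h = u.map f ≫ X'.iso.hom := ⟨_, rfl⟩
  let y := IsPreFibered.pullbackObj (p := 𝒮.p) rfl h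
  let κ : y ⟶ X'.snd := IsPreFibered.pullbackMap (p := 𝒮.p) rfl h
  have hκ : 𝒮.p.IsStronglyCartesian h κ := by
    have : 𝒮.p.IsCartesian h κ := IsPreFibered.pullbackMap.IsCartesian rfl h
    infer_instance
  have hy : 𝒮.p.obj y = u.obj U := IsPreFibered.pullbackObj_proj rfl h
  let X : CategoricalPullback u 𝒮.p := ⟨U, y, eqToIso hy.symm⟩
  have hw : u.map f ≫ X'.iso.hom = (eqToIso hy.symm).hom ≫ 𝒮.p.map κ := by
    have := IsHomLift.fac' 𝒮.p h κ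
    rw [this, ← hh]
    simp
  let φ : X ⟶ X' := ⟨f, κ, hw⟩
  refine ⟨X, φ, ?_⟩
  have hκ' : 𝒮.p.IsStronglyCartesian (𝒮.p.map φ.snd) φ.snd := by
    have : 𝒮.p.IsHomLift (𝒮.p.map κ) κ := IsHomLift.map 𝒮.p κ
    exact isStronglyCartesian_of_isHomLift_of 𝒮.p h (𝒮.p.map κ) κ
  exact isStronglyCartesian_of_snd u 𝒮 φ

theorem isFibGrpd_π₁ (h𝒮 : FibCat.IsFibGrpd 𝒮.p) :
    FibCat.IsFibGrpd (CategoricalPullback.π₁ u 𝒮.p) where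
  exists_lift := by
    intro X' U f
    obtain ⟨f₀, hf₀⟩ : ∃ f₀ : U ⟶ X'.fst, f₀ = f := ⟨f, rfl⟩
    obtain ⟨y, κ, hκ⟩ := h𝒮.exists_lift (x := X'.snd) (u.map f₀ ≫ X'.iso.hom)
    obtain ⟨X, φ, -, -, hφ, -⟩ := exists_lift_π₁ u 𝒮 X' f₀ y κ
    rw [hf₀] at hφ
    exact ⟨X, φ, hφ⟩
  isStronglyCartesian := by
    intro X X' φ
    have := h𝒮.isStronglyCartesian φ.snd
    exact isStronglyCartesian_of_snd u 𝒮 φ

end Groth.Agent.H3.CatPullFib
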