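import Mathlib
import Groth.Agent.Lib.Helper8.GrpObjSq

set_option autoImplicit false

universe u

open AlgebraicGeometry CategoryTheory CategoryTheory.Limits MonoidalCategory CartesianMonoidalCategory MonObj

namespace Groth.Agent.H3.DiscSep

/-- over a discrete scheme, every open immersion is a closed immersion -/
lemma isClosedImmersion_of_isOpenImmersion {S U : Scheme.{u}} [DiscreteTopology S] (j : U ⟶ S)
    [IsOpenImmersion j] : IsClosedImmersion j where
  isClosedEmbedding := ⟨j.isOpenEmbedding.isEmbedding, isClosed_discrete _⟩

/-- a section of a morphism to a discrete scheme is a closed immersion -/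
lemma isClosedImmersion_section {S G : Scheme.{u}} [DiscreteTopology S] (π : G ⟶ S) (e : S ⟶ G)
    (he : e ≫ π = 𝟙 S) : IsClosedImmersion e := by
  rw [IsZariskiLocalAtTarget.iff_of_openCover (P := @IsClosedImmersion) G.affineCover]
  intro i
  -- the base change of e to the affine chart
  haveI : IsClosedImmersion (pullback.snd e (G.affineCover.f i) ≫ G.affineCover.f i ≫ π) := by
    have : pullback.snd e (G.affineCover.f i) ≫ G.affineCover.f i ≫ π = pullback.fst e (G.affineCover.f i) := by
      rw [← Category.assoc, ← pullback.condition, Category.assoc, he, Category.comp_id]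
    rw [this]
    exact isClosedImmersion_of_isOpenImmersion _
  haveI : IsSeparated (G.affineCover.f i ≫ π) := by
    haveI : IsSeparated ((G.affineCover.f i ≫ π) ≫ terminal.from S) := by
      rw [terminal.comp_from]; infer_instance
    exact IsSeparated.of_comp _ (terminal.from S)
  exact IsClosedImmersion.of_comp (pullback.snd e (G.affineCover.f i)) (G.affineCover.f i ≫ π)

theorem main (S : Scheme.{u}) [DiscreteTopology S] (G : Over S) [GrpObj G] :
    IsSeparated G.hom := by
  have sq1 := (Groth.Agent.H8.GrpObjSq.isPullback_diag_unit G).map (Over.forget S)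
  have hΔ : (Over.forget S).map (CartesianMonoidalCategory.lift (𝟙 G) (𝟙 G)) = pullback.diagonal G.hom := rfl
  rw [hΔ] at sq1
  have hη : (Over.forget S).map η[G] = (η[G]).left := rfl
  rw [hη] at sq1
  have hcl : IsClosedImmersion (η[G]).left :=
    isClosedImmersion_section G.hom (η[G]).left (Over.w η[G])
  exact ⟨MorphismProperty.of_isPullback (P := @IsClosedImmersion) sq1.flip hcl⟩

end Groth.Agent.H3.DiscSep
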