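import Mathlib

set_option autoImplicit false

universe u

open TensorProduct

namespace Groth.Agent.H3.SepGF

/-- a jointly injective family of linear maps stays jointly injective after tensoring (on the
right) with a free module -/
theorem eq_zero_of_free_right {A P : Type u} [CommRing A] [AddCommGroup P] [Module A P]
    [Module.Free A P]
    {M : Type u} [AddCommGroup M] [Module A M] {ι : Type u} (N : ι → Type u)
    [∀ i, AddCommGroup (N i)] [∀ i, Module A (N i)] (v : ∀ i, M →ₗ[A] N i)
    (h : ∀ m : M, (∀ i, v i m = 0) → m = 0) (z : M ⊗[A] P)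
    (hz : ∀ i, (v i).rTensor P z = 0) : z = 0 := by
  classical
  let b := Module.Free.chooseBasis A P
  have key : ∀ (i : ι) (w : M ⊗[A] P) (j : Module.Free.ChooseBasisIndex A P),
      TensorProduct.equivFinsuppOfBasisRight b ((v i).rTensor P w) j =
        v i (TensorProduct.equivFinsuppOfBasisRight b w j) := by
    intro i w j
    induction w using TensorProduct.induction_on with
    | zero => simp
    | tmul m x =>
      rw [LinearMap.rTensor_tmul, TensorProduct.equivFinsuppOfBasisRight_apply_tmul_apply,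
        TensorProduct.equivFinsuppOfBasisRight_apply_tmul_apply, map_smul]
    | add x y hx hy =>
      rw [map_add, map_add, Finsupp.add_apply, hx, hy, map_add, Finsupp.add_apply, map_add]
  apply (TensorProduct.equivFinsuppOfBasisRight b).injective
  rw [map_zero]
  ext j
  rw [Finsupp.zero_apply]
  apply h
  intro i
  rw [← key, hz i, map_zero, Finsupp.zero_apply]

section GFR

variable {R : Type u} [CommRing R] (S : Type u) [AddCommGroup S] [Module R S] (F : R)

local notation "L" => Localization.Away F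

/-- the comparison map `M ⊗ S ⟶ (L ⊗ M) ⊗[L] (L ⊗ S)` -/
noncomputable def Ψ (M : Type u) [AddCommGroup M] [Module R M] :
    M ⊗[R] S →ₗ[R] (L ⊗[R] M) ⊗[L] (L ⊗[R] S) :=
  ((((AlgebraTensorModule.assoc R R L L M S).symm.trans
    (AlgebraTensorModule.cancelBaseChange R L L (L ⊗[R] M) S).symm).restrictScalars R).toLinearMap).comp
    (TensorProduct.mk R L (M ⊗[R] S) 1)

lemma Ψ_tmul (M : Type u) [AddCommGroup M] [Module R M] (m : M) (s : S) :
    Ψ S F M (m ⊗ₜ s) = ((1 : L) ⊗ₜ[R] m) ⊗ₜ[L] ((1 : L) ⊗ₜ[R] s) := rfl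

lemma Ψ_eq_zero (M : Type u) [AddCommGroup M] [Module R M] (z : M ⊗[R] S)
    (hz : Ψ S F M z = 0) : ∃ k : ℕ, F ^ k • z = 0 := by
  have h1 : TensorProduct.mk R L (M ⊗[R] S) 1 z = 0 := by
    have := hz
    simp only [Ψ, LinearMap.comp_apply] at this
    exact (LinearEquiv.map_eq_zero_iff _).1 this
  obtain ⟨⟨c, k, rfl⟩, hc⟩ :=
    (IsLocalizedModule.eq_zero_iff (Submonoid.powers F) (TensorProduct.mk R L (M ⊗[R] S) 1)).1 h1
  exact ⟨k, hc⟩

lemma Ψ_natural {M N : Type u} [AddCommGroup M] [Module R M] [AddCommGroup N] [Module R N]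
    (w : M →ₗ[R] N) (z : M ⊗[R] S) :
    (w.baseChange L).rTensor (L ⊗[R] S) (Ψ S F M z) = Ψ S F N (w.rTensor S z) := by
  induction z using TensorProduct.induction_on with
  | zero => simp
  | tmul m s =>
    rw [Ψ_tmul, LinearMap.rTensor_tmul, LinearMap.rTensor_tmul, Ψ_tmul, LinearMap.baseChange_tmul]
  | add x y hx hy => rw [map_add, map_add, hx, hy, map_add, map_add]

/-- generic freeness step: if `L ⊗ S` is free over `L = R[1/F]`, then a family separating at `F`
stays separating after `- ⊗ S`, up to `F`-power torsion. -/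
theorem exists_pow_smul_eq_zero [Module.Free L (L ⊗[R] S)]
    {M : Type u} [AddCommGroup M] [Module R M] {ι : Type u} (N : ι → Type u)
    [∀ i, AddCommGroup (N i)] [∀ i, Module R (N i)] (w : ∀ i, M →ₗ[R] N i)
    (hsep : ∀ m : M, (∀ i, ∃ k : ℕ, F ^ k • w i m = 0) → ∃ k : ℕ, F ^ k • m = 0)
    (z : M ⊗[R] S) (hz : ∀ i, (w i).rTensor S z = 0) : ∃ k : ℕ, F ^ k • z = 0 := by
  apply Ψ_eq_zero S F M z
  refine eq_zero_of_free_right (A := L) (P := L ⊗[R] S) (fun i => L ⊗[R] N i)
    (fun i => (w i).baseChange L) ?_ _ ?_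
  · intro y hy
    obtain ⟨⟨m, s⟩, hs⟩ := IsLocalizedModule.surj (Submonoid.powers F)
      (TensorProduct.mk R L M 1) y
    have hm : ∀ i, ∃ k : ℕ, F ^ k • w i m = 0 := by
      intro i
      have h1 : TensorProduct.mk R L (N i) 1 (w i m) = 0 := by
        have h2 : (w i).baseChange L (s • y) = 0 := by
          rw [LinearMap.map_smul_of_tower, hy i, smul_zero]
        rw [hs] at h2
        simpa using h2
      obtain ⟨⟨c, k, rfl⟩, hc⟩ :=
        (IsLocalizedModule.eq_zero_iff (Submonoid.powers F) (TensorProduct.mk R L (N i) 1)).1 h1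
      exact ⟨k, hc⟩
    obtain ⟨k, hk⟩ := hsep m hm
    have h3 : TensorProduct.mk R L M 1 m = 0 :=
      (IsLocalizedModule.eq_zero_iff (Submonoid.powers F) (TensorProduct.mk R L M 1)).2
        ⟨⟨F ^ k, k, rfl⟩, hk⟩
    rw [h3] at hs
    exact (IsLocalizedModule.smul_injective (TensorProduct.mk R L M 1) s)
      (show s • y = s • (0 : L ⊗[R] M) by rw [smul_zero]; exact hs)
  · intro i
    rw [Ψ_natural, hz i, map_zero]

end GFR

end Groth.Agent.H3.SepGF
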