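import Mathlib
import Groth.Agent.Lib.Helper3.SepGF1

set_option autoImplicit false

universe u

open TensorProduct

namespace Groth.Agent.H3.SepGF

variable (A₀ : Type u) [CommRing A₀] (B₀ : Type u) [CommRing B₀] [Algebra A₀ B₀]
variable (A : Type u) [CommRing A] [Algebra A₀ A]

/-- exactness of `- ⊗[A₀] B₀` on `A`-modules (i.e. flatness of `A ⊗[A₀] B₀` over `A`) -/
def Ex : Prop :=
  ∀ (M' M : Type u) [AddCommGroup M'] [Module A M'] [Module A₀ M'] [IsScalarTower A₀ A M']
    [AddCommGroup M] [Module A M] [Module A₀ M] [IsScalarTower A₀ A M] (j : M' →ₗ[A] M),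
    Function.Injective j → Function.Injective ((j.restrictScalars A₀).rTensor B₀)

variable {A₀ A}

/-- the family `v` is separating on every basic open of `Spec A` -/
def Sep {M : Type u} [AddCommGroup M] [Module A M] {ι : Type u} (N : ι → Type u)
    [∀ i, AddCommGroup (N i)] [∀ i, Module A (N i)] (v : ∀ i, M →ₗ[A] N i) : Prop :=
  ∀ (f : A) (m : M), (∀ i, ∃ k : ℕ, f ^ k • v i m = 0) → ∃ k : ℕ, f ^ k • m = 0

variable (A₀ A)

/-- the statement proved by noetherian induction on `I₀` -/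
def Q (ι : Type u) (I₀ : Ideal A₀) : Prop :=
  ∀ (M : Type u) [AddCommGroup M] [Module A M] [Module A₀ M] [IsScalarTower A₀ A M]
    (N : ι → Type u) [∀ i, AddCommGroup (N i)] [∀ i, Module A (N i)] [∀ i, Module A₀ (N i)]
    [∀ i, IsScalarTower A₀ A (N i)] (v : ∀ i, M →ₗ[A] N i),
    (∀ a ∈ I₀, ∀ m : M, a • m = 0) → Sep N v →
    ∀ z : M ⊗[A₀] B₀, (∀ i, ((v i).restrictScalars A₀).rTensor B₀ z = 0) → z = 0

variable {A₀ A B₀}

theorem torsion_step (hEx : Ex A₀ B₀ A) {ι : Type u} {I₀ : Ideal A₀} (x : A₀)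
    (hQ : Q A₀ B₀ A ι (I₀ ⊔ Ideal.span {x}))
    (M : Type u) [AddCommGroup M] [Module A M] [Module A₀ M] [IsScalarTower A₀ A M]
    (N : ι → Type u) [∀ i, AddCommGroup (N i)] [∀ i, Module A (N i)] [∀ i, Module A₀ (N i)]
    [∀ i, IsScalarTower A₀ A (N i)] (v : ∀ i, M →ₗ[A] N i)
    (hkill : ∀ a ∈ I₀, ∀ m : M, a • m = 0) (hsep : Sep N v)
    (z : M ⊗[A₀] B₀) (hz : ∀ i, ((v i).restrictScalars A₀).rTensor B₀ z = 0)
    (hx : x • z = 0) : z = 0 := by
  let a : A := algebraMap A₀ A x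
  let K : Submodule A M := LinearMap.ker (LinearMap.lsmul A M a)
  have hK : ∀ m : M, m ∈ K ↔ x • m = 0 := by
    intro m
    rw [LinearMap.mem_ker, LinearMap.lsmul_apply, algebraMap_smul]
  let μ : M ⧸ K →ₗ[A] M := K.liftQ (LinearMap.lsmul A M a) le_rfl
  have hμ : Function.Injective μ := by
    rw [← LinearMap.ker_eq_bot]
    exact Submodule.ker_liftQ_eq_bot _ _ _ le_rfl
  have hμT := hEx (M ⧸ K) M μ hμ
  have hex : Function.Exact ((K.subtype.restrictScalars A₀).rTensor B₀)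
      ((K.mkQ.restrictScalars A₀).rTensor B₀) := by
    apply rTensor_exact B₀
    · exact LinearMap.exact_subtype_mkQ K
    · exact K.mkQ_surjective
  have hcomp : (μ.restrictScalars A₀) ∘ₗ (K.mkQ.restrictScalars A₀) =
      x • (LinearMap.id : M →ₗ[A₀] M) := by
    ext m
    simp only [LinearMap.coe_comp, LinearMap.coe_restrictScalars, Function.comp_apply,
      Submodule.mkQ_apply, LinearMap.smul_apply, LinearMap.id_coe, id_eq]
    change (LinearMap.lsmul A M a) m = x • m
    rw [LinearMap.lsmul_apply, algebraMap_smul]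
  have h1 : ((μ.restrictScalars A₀).rTensor B₀) (((K.mkQ.restrictScalars A₀).rTensor B₀) z) = 0 := by
    rw [← LinearMap.comp_apply, ← LinearMap.rTensor_comp, hcomp, LinearMap.rTensor_smul,
      LinearMap.rTensor_id, LinearMap.smul_apply, LinearMap.id_apply, hx]
  have h2 : ((K.mkQ.restrictScalars A₀).rTensor B₀) z = 0 := hμT (by rw [h1, map_zero])
  obtain ⟨z₁, hz₁⟩ := (hex z).1 h2
  have hz₁0 : z₁ = 0 := by
    refine hQ K N (fun i => (v i).comp K.subtype) ?_ ?_ z₁ ?_
    · intro a' ha' m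
      obtain ⟨b, hb, c, hc, rfl⟩ := Submodule.mem_sup.1 ha'
      obtain ⟨d, rfl⟩ := Ideal.mem_span_singleton'.1 hc
      apply Subtype.ext
      rw [Submodule.coe_smul_of_tower, add_smul, hkill b hb, zero_add, mul_smul,
        (hK m.1).1 m.2, smul_zero]
      rfl
    · intro f m hm
      obtain ⟨k, hk⟩ := hsep f m.1 hm
      exact ⟨k, Subtype.ext (by rw [Submodule.coe_smul, hk]; rfl)⟩
    · intro i
      have : (((v i).comp K.subtype).restrictScalars A₀) =
          ((v i).restrictScalars A₀) ∘ₗ (K.subtype.restrictScalars A₀) := rfl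
      rw [this, LinearMap.rTensor_comp, LinearMap.comp_apply, hz₁, hz i]
  rw [← hz₁, hz₁0, map_zero]


theorem torsion_pow_step (hEx : Ex A₀ B₀ A) {ι : Type u} {I₀ : Ideal A₀} (x : A₀)
    (hQ : Q A₀ B₀ A ι (I₀ ⊔ Ideal.span {x}))
    (M : Type u) [AddCommGroup M] [Module A M] [Module A₀ M] [IsScalarTower A₀ A M]
    (N : ι → Type u) [∀ i, AddCommGroup (N i)] [∀ i, Module A (N i)] [∀ i, Module A₀ (N i)]
    [∀ i, IsScalarTower A₀ A (N i)] (v : ∀ i, M →ₗ[A] N i)
    (hkill : ∀ a ∈ I₀, ∀ m : M, a • m = 0) (hsep : Sep N v) (n : ℕ) :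
    ∀ (z : M ⊗[A₀] B₀), (∀ i, ((v i).restrictScalars A₀).rTensor B₀ z = 0) →
      x ^ n • z = 0 → z = 0 := by
  induction n with
  | zero =>
    intro z _ hx
    rwa [pow_zero, one_smul] at hx
  | succ n ih =>
    intro z hz hx
    apply ih z hz
    apply torsion_step hEx x hQ M N v hkill hsep (x ^ n • z)
    · intro i
      rw [map_smul, hz i, smul_zero]
    · rw [← mul_smul, ← pow_succ']
      exact hx

lemma smul_eq_zero_of_kill {M : Type u} [AddCommGroup M] [Module A₀ M] (a : A₀)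
    (ha : ∀ m : M, a • m = 0) (z : M ⊗[A₀] B₀) : a • z = 0 := by
  induction z using TensorProduct.induction_on with
  | zero => simp
  | tmul m b => rw [TensorProduct.smul_tmul', ha, TensorProduct.zero_tmul]
  | add x y hx hy => rw [smul_add, hx, hy, add_zero]

end Groth.Agent.H3.SepGF
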