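import Mathlib
import Groth.Agent.Lib.Helper3.SepGF2

set_option autoImplicit false

universe u

open TensorProduct

namespace Groth.Agent.H3.SepGF

variable {A₀ : Type u} [CommRing A₀] {B₀ : Type u} [CommRing B₀] [Algebra A₀ B₀]
variable {A : Type u} [CommRing A] [Algebra A₀ A]

theorem gf_step (hEx : Ex A₀ B₀ A) {ι : Type u} {I₀ : Ideal A₀} (f₀ : A₀)
    [Module.Free (Localization.Away (Ideal.Quotient.mk I₀ f₀))
      (Localization.Away (Ideal.Quotient.mk I₀ f₀) ⊗[A₀ ⧸ I₀] ((A₀ ⧸ I₀) ⊗[A₀] B₀))]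
    (M : Type u) [AddCommGroup M] [Module A M] [Module A₀ M] [IsScalarTower A₀ A M]
    (N : ι → Type u) [∀ i, AddCommGroup (N i)] [∀ i, Module A (N i)] [∀ i, Module A₀ (N i)]
    [∀ i, IsScalarTower A₀ A (N i)] (v : ∀ i, M →ₗ[A] N i)
    (hkill : ∀ a ∈ I₀, ∀ m : M, a • m = 0) (hsep : Sep N v)
    (z : M ⊗[A₀] B₀) (hz : ∀ i, ((v i).restrictScalars A₀).rTensor B₀ z = 0) :
    ∃ k : ℕ, f₀ ^ k • z = 0 := by
  -- replace the targets by the ranges
  let N' : ι → Type u := fun i => LinearMap.range (v i)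
  let v' : ∀ i, M →ₗ[A] N' i := fun i => (v i).rangeRestrict
  have hz' : ∀ i, ((v' i).restrictScalars A₀).rTensor B₀ z = 0 := by
    intro i
    have hinj := hEx (N' i) (N i) (LinearMap.range (v i)).subtype
      (LinearMap.range (v i)).injective_subtype
    apply hinj
    rw [map_zero, ← LinearMap.comp_apply, ← LinearMap.rTensor_comp]
    exact hz i
  have hkillN : ∀ i, ∀ a ∈ I₀, ∀ n : N' i, a • n = 0 := by
    rintro i a ha ⟨n, m, rfl⟩
    apply Subtype.ext
    rw [Submodule.coe_smul_of_tower, ← LinearMap.map_smul_of_tower, hkill a ha m, map_zero]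
    rfl
  have hM : Module.IsTorsionBySet A₀ M I₀ := fun m a => hkill a.1 a.2 m
  have hN : ∀ i, Module.IsTorsionBySet A₀ (N' i) I₀ := fun i n a => hkillN i a.1 a.2 n
  letI : Module (A₀ ⧸ I₀) M := hM.module
  letI : ∀ i, Module (A₀ ⧸ I₀) (N' i) := fun i => (hN i).module
  haveI : IsScalarTower A₀ (A₀ ⧸ I₀) M := hM.isScalarTower
  haveI : ∀ i, IsScalarTower A₀ (A₀ ⧸ I₀) (N' i) := fun i => (hN i).isScalarTower
  let w : ∀ i, M →ₗ[A₀ ⧸ I₀] N' i := fun i =>
    { toFun := v' i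
      map_add' := map_add _
      map_smul' := by
        intro r m
        obtain ⟨a, rfl⟩ := Ideal.Quotient.mk_surjective r
        change v' i (a • m) = a • v' i m
        exact LinearMap.map_smul_of_tower _ _ _ }
  let eM := AlgebraTensorModule.cancelBaseChange A₀ (A₀ ⧸ I₀) (A₀ ⧸ I₀) M B₀
  let eN := fun i => AlgebraTensorModule.cancelBaseChange A₀ (A₀ ⧸ I₀) (A₀ ⧸ I₀) (N' i) B₀
  have hnat : ∀ i (y : M ⊗[A₀ ⧸ I₀] ((A₀ ⧸ I₀) ⊗[A₀] B₀)),
      eN i ((w i).rTensor _ y) = ((v' i).restrictScalars A₀).rTensor B₀ (eM y) := by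
    intro i y
    induction y using TensorProduct.induction_on with
    | zero => simp
    | tmul m s =>
      induction s using TensorProduct.induction_on with
      | zero => simp
      | tmul r b =>
        rw [LinearMap.rTensor_tmul]
        change ((r • (w i m)) ⊗ₜ[A₀] b) = ((v' i).restrictScalars A₀).rTensor B₀ ((r • m) ⊗ₜ[A₀] b)
        rw [LinearMap.rTensor_tmul, ← map_smul]
        rfl
      | add s t hs ht =>
        rw [TensorProduct.tmul_add, map_add, map_add, hs, ht, map_add, map_add]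
    | add x y hx hy => rw [map_add, map_add, hx, hy, map_add, map_add]
  have hsep' : ∀ m : M, (∀ i, ∃ k : ℕ, (Ideal.Quotient.mk I₀ f₀) ^ k • w i m = 0) →
      ∃ k : ℕ, (Ideal.Quotient.mk I₀ f₀) ^ k • m = 0 := by
    intro m hm
    have h1 : ∀ i, ∃ k : ℕ, (algebraMap A₀ A f₀) ^ k • v i m = 0 := by
      intro i
      obtain ⟨k, hk⟩ := hm i
      refine ⟨k, ?_⟩
      rw [← map_pow] at hk
      have h2 : f₀ ^ k • v' i m = 0 := hk
      have h3 := congrArg Subtype.val h2
      rw [Submodule.coe_smul_of_tower] at h3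
      rw [← map_pow, algebraMap_smul]
      exact h3
    obtain ⟨k, hk⟩ := hsep (algebraMap A₀ A f₀) m h1
    refine ⟨k, ?_⟩
    rw [← map_pow, algebraMap_smul] at hk
    rw [← map_pow]
    exact hk
  obtain ⟨k, hk⟩ := exists_pow_smul_eq_zero ((A₀ ⧸ I₀) ⊗[A₀] B₀) (Ideal.Quotient.mk I₀ f₀) N' w
    hsep' (eM.symm z) (by
      intro i
      apply (eN i).injective
      rw [hnat, LinearEquiv.apply_symm_apply, hz' i, map_zero])
  refine ⟨k, ?_⟩
  have h4 := congrArg eM hk
  rw [map_smul, LinearEquiv.apply_symm_apply, map_zero, ← map_pow] at h4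
  exact h4

end Groth.Agent.H3.SepGF
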