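import Mathlib
import Groth.Agent.Lib.Helper3.SepGF3
import Groth.Agent.Lib.Helper1.GenFreeLoc

set_option autoImplicit false

universe u

open TensorProduct

namespace Groth.Agent.H3.SepGF

variable {A₀ : Type u} [CommRing A₀] {B₀ : Type u} [CommRing B₀] [Algebra A₀ B₀]
variable {A : Type u} [CommRing A] [Algebra A₀ A]

lemma tensor_eq_zero_of_trivial {M : Type u} [AddCommGroup M] [Module A₀ M]
    (hM : ∀ m : M, m = 0) (z : M ⊗[A₀] B₀) : z = 0 := by
  induction z using TensorProduct.induction_on with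
  | zero => rfl
  | tmul m b => rw [hM m, TensorProduct.zero_tmul]
  | add x y hx hy => rw [hx, hy, add_zero]

theorem main_Q [IsNoetherianRing A₀] [Algebra.FiniteType A₀ B₀] (hEx : Ex A₀ B₀ A) (ι : Type u)
    (I₀ : Ideal A₀) : Q A₀ B₀ A ι I₀ := by
  induction I₀ using IsNoetherian.induction with
  | hgt I ih =>
  intro M _ _ _ _ N _ _ _ _ v hkill hsep z hz
  by_cases htop : I = ⊤
  · have hM : ∀ m : M, m = 0 := by
      intro m
      have := hkill 1 (by rw [htop]; trivial) m
      rwa [one_smul] at this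
    exact tensor_eq_zero_of_trivial hM z
  · haveI : Nontrivial (A₀ ⧸ I) := Ideal.Quotient.nontrivial_iff.2 htop
    by_cases hred : IsReduced (A₀ ⧸ I)
    · obtain ⟨fbar, hfbar, hgood⟩ := Groth.Agent.H1.GenFree.exists_good (R := A₀ ⧸ I)
        (S := (A₀ ⧸ I) ⊗[A₀] B₀) (M := (A₀ ⧸ I) ⊗[A₀] B₀) 1 one_ne_zero
      obtain ⟨f₀, hf₀⟩ := Ideal.Quotient.mk_surjective (1 * fbar)
      haveI : Module.Free (Localization.Away (Ideal.Quotient.mk I f₀))
          (Localization.Away (Ideal.Quotient.mk I f₀) ⊗[A₀ ⧸ I] ((A₀ ⧸ I) ⊗[A₀] B₀)) := by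
        rw [hf₀]
        exact hgood.free_tensor_self
      obtain ⟨k, hk⟩ := gf_step hEx f₀ M N v hkill hsep z hz
      have hf₀I : f₀ ∉ I := by
        intro h
        apply hfbar
        rw [← hf₀]
        exact Ideal.Quotient.eq_zero_iff_mem.2 h
      have hlt : I < I ⊔ Ideal.span {f₀} := by
        refine lt_of_le_of_ne le_sup_left ?_
        intro h
        apply hf₀I
        rw [h]
        exact Ideal.mem_sup_right (Ideal.subset_span rfl)
      exact torsion_pow_step hEx f₀ (ih _ hlt) M N v hkill hsep k z hz hk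
    · rw [isReduced_iff_pow_one_lt 2 (by norm_num)] at hred
      push Not at hred
      obtain ⟨xbar, hx2, hx0⟩ := hred
      obtain ⟨x, rfl⟩ := Ideal.Quotient.mk_surjective xbar
      have hxI : x ∉ I := fun h => hx0 (Ideal.Quotient.eq_zero_iff_mem.2 h)
      have hx2I : x ^ 2 ∈ I := by
        rw [← map_pow] at hx2
        exact Ideal.Quotient.eq_zero_iff_mem.1 hx2
      have hlt : I < I ⊔ Ideal.span {x} := by
        refine lt_of_le_of_ne le_sup_left ?_
        intro h
        apply hxI
        rw [h]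
        exact Ideal.mem_sup_right (Ideal.subset_span rfl)
      exact torsion_pow_step hEx x (ih _ hlt) M N v hkill hsep 2 z hz
        (smul_eq_zero_of_kill (x ^ 2) (hkill _ hx2I) z)

/-- **Main theorem**: if `A₀` is noetherian, `B₀` a finitely generated `A₀`-algebra, `A` an
`A₀`-algebra such that `- ⊗[A₀] B₀` is exact on `A`-modules, then a family of `A`-linear maps
separating on every basic open of `Spec A` remains jointly injective after `- ⊗[A₀] B₀`. -/
theorem main [IsNoetherianRing A₀] [Algebra.FiniteType A₀ B₀] (hEx : Ex A₀ B₀ A) {ι : Type u}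
    (M : Type u) [AddCommGroup M] [Module A M] [Module A₀ M] [IsScalarTower A₀ A M]
    (N : ι → Type u) [∀ i, AddCommGroup (N i)] [∀ i, Module A (N i)] [∀ i, Module A₀ (N i)]
    [∀ i, IsScalarTower A₀ A (N i)] (v : ∀ i, M →ₗ[A] N i) (hsep : Sep N v)
    (z : M ⊗[A₀] B₀) (hz : ∀ i, ((v i).restrictScalars A₀).rTensor B₀ z = 0) : z = 0 :=
  main_Q hEx ι ⊥ M N v (fun a ha m => by rw [Ideal.mem_bot.1 ha, zero_smul]) hsep z hz

end Groth.Agent.H3.SepGF
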