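import Mathlib
import Groth.Agent.Lib.Helper3.SepGF4

set_option autoImplicit false

universe u

open TensorProduct

namespace Groth.Agent.H3.SepGF

section Pushout

variable {A₀ : Type u} [CommRing A₀] {B₀ : Type u} [CommRing B₀] [Algebra A₀ B₀]
variable {A : Type u} [CommRing A] [Algebra A₀ A]

/-- flatness of `A ⊗[A₀] B₀` over `A` gives the exactness hypothesis -/
theorem ex_of_flat [Module.Flat A (A ⊗[A₀] B₀)] : Ex A₀ B₀ A := by
  intro M' M _ _ _ _ _ _ _ _ j hj
  let eM' := AlgebraTensorModule.cancelBaseChange A₀ A A M' B₀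
  let eM := AlgebraTensorModule.cancelBaseChange A₀ A A M B₀
  have hnat : ∀ y : M' ⊗[A] (A ⊗[A₀] B₀),
      eM (j.rTensor (A ⊗[A₀] B₀) y) = (j.restrictScalars A₀).rTensor B₀ (eM' y) := by
    intro y
    induction y using TensorProduct.induction_on with
    | zero => simp
    | tmul m s =>
      induction s using TensorProduct.induction_on with
      | zero => simp
      | tmul a b =>
        rw [LinearMap.rTensor_tmul]
        change ((a • j m) ⊗ₜ[A₀] b) = (j.restrictScalars A₀).rTensor B₀ ((a • m) ⊗ₜ[A₀] b)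
        rw [LinearMap.rTensor_tmul, ← map_smul]
        rfl
      | add s t hs ht =>
        rw [TensorProduct.tmul_add, map_add, map_add, hs, ht, map_add, map_add]
    | add x y hx hy => rw [map_add, map_add, hx, hy, map_add, map_add]
  have hinj : Function.Injective (j.rTensor (A ⊗[A₀] B₀)) :=
    Module.Flat.rTensor_preserves_injective_linearMap j hj
  intro x y hxy
  apply eM'.symm.injective
  apply hinj
  apply eM.injective
  rw [hnat, hnat, LinearEquiv.apply_symm_apply, LinearEquiv.apply_symm_apply, hxy]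

variable {B : Type u} [CommRing B] [Algebra A B]

/-- the comparison isomorphism `M ⊗[A₀] B₀ ≃ B ⊗[A] M` -/
noncomputable def Θ (e : (A ⊗[A₀] B₀) ≃ₗ[A] B) (M : Type u) [AddCommGroup M] [Module A M]
    [Module A₀ M] [IsScalarTower A₀ A M] : M ⊗[A₀] B₀ ≃ₗ[A] B ⊗[A] M :=
  ((AlgebraTensorModule.cancelBaseChange A₀ A A M B₀).symm.trans
    (TensorProduct.comm A M (A ⊗[A₀] B₀))).trans (TensorProduct.congr e (LinearEquiv.refl A M))

lemma Θ_tmul (e : (A ⊗[A₀] B₀) ≃ₗ[A] B) (M : Type u) [AddCommGroup M] [Module A M]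
    [Module A₀ M] [IsScalarTower A₀ A M] (m : M) (b : B₀) :
    Θ e M (m ⊗ₜ b) = e (1 ⊗ₜ b) ⊗ₜ m := rfl

lemma Θ_natural (e : (A ⊗[A₀] B₀) ≃ₗ[A] B) {M N : Type u} [AddCommGroup M] [Module A M]
    [Module A₀ M] [IsScalarTower A₀ A M] [AddCommGroup N] [Module A N]
    [Module A₀ N] [IsScalarTower A₀ A N] (v : M →ₗ[A] N) (y : M ⊗[A₀] B₀) :
    v.baseChange B (Θ e M y) = Θ e N ((v.restrictScalars A₀).rTensor B₀ y) := by
  induction y using TensorProduct.induction_on with
  | zero => simp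
  | tmul m b =>
    rw [Θ_tmul, LinearMap.baseChange_tmul, LinearMap.rTensor_tmul, Θ_tmul]
    rfl
  | add x y hx hy => rw [map_add, map_add, hx, hy, map_add, map_add]

/-- pushout form of the main theorem -/
theorem main_pushout [IsNoetherianRing A₀] [Algebra.FiniteType A₀ B₀] [Module.Flat A B]
    (e : (A ⊗[A₀] B₀) ≃ₗ[A] B) {ι : Type u}
    (M : Type u) [AddCommGroup M] [Module A M] [Module A₀ M] [IsScalarTower A₀ A M]
    (N : ι → Type u) [∀ i, AddCommGroup (N i)] [∀ i, Module A (N i)] [∀ i, Module A₀ (N i)]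
    [∀ i, IsScalarTower A₀ A (N i)] (v : ∀ i, M →ₗ[A] N i) (hsep : Sep N v)
    (z : B ⊗[A] M) (hz : ∀ i, (v i).baseChange B z = 0) : z = 0 := by
  haveI : Module.Flat A (A ⊗[A₀] B₀) := Module.Flat.of_linearEquiv e
  obtain ⟨y, rfl⟩ := (Θ e M).surjective z
  have hy : y = 0 := by
    refine main (ex_of_flat (A₀ := A₀) (B₀ := B₀) (A := A)) M N v hsep y ?_
    intro i
    apply (Θ e (N i)).injective
    rw [← Θ_natural, hz i, map_zero]
  rw [hy, map_zero]

end Pushout

end Groth.Agent.H3.SepGF
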