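import Mathlib
import Groth.Agent.Lib.Helper3.SepGF5

set_option autoImplicit false

universe u

open TensorProduct

namespace Groth.Agent.H3.SepGF

/-- a family of linear maps separating on all basic opens of `Spec A` remains jointly injective
after base change to a flat `A`-algebra of finite presentation -/
theorem main_fp {A B : Type u} [CommRing A] [CommRing B] [Algebra A B]
    [Algebra.FinitePresentation A B] [Module.Flat A B] {ι : Type u}
    (M : Type u) [AddCommGroup M] [Module A M]
    (N : ι → Type u) [∀ i, AddCommGroup (N i)] [∀ i, Module A (N i)]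
    (v : ∀ i, M →ₗ[A] N i) (hsep : Sep N v)
    (z : B ⊗[A] M) (hz : ∀ i, (v i).baseChange B z = 0) : z = 0 := by
  let P := Algebra.Presentation.ofFinitePresentation A B
  letI : Module P.Core M := Module.compHom M (algebraMap P.Core A)
  haveI : IsScalarTower P.Core A M := IsScalarTower.of_algebraMap_smul fun r m => rfl
  letI : ∀ i, Module P.Core (N i) := fun i => Module.compHom (N i) (algebraMap P.Core A)
  haveI : ∀ i, IsScalarTower P.Core A (N i) := fun i =>
    IsScalarTower.of_algebraMap_smul fun r m => rfl
  haveI : IsNoetherianRing P.Core := Algebra.FiniteType.isNoetherianRing ℤ P.Core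
  exact main_pushout (A₀ := P.Core) (B₀ := P.ModelOfHasCoeffs P.Core)
    (P.tensorModelOfHasCoeffsEquiv P.Core).toLinearEquiv M N v hsep z hz

end Groth.Agent.H3.SepGF
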