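import Mathlib
import Groth.Agent.Lib.Helper2.SchDenseFlat
import Groth.Agent.Lib.Helper3.SepGF6

set_option autoImplicit false

universe u

open AlgebraicGeometry CategoryTheory CategoryTheory.Limits Opposite TensorProduct TopologicalSpace

namespace Groth.Agent.H3.SchDomLfp

open Groth.Agent.H2.SchDense Groth.Agent.H3.SepGF

section Pushout

variable {X Y S T : Scheme.{u}} {f : T ⟶ S} {g : Y ⟶ X} {iX : X ⟶ S} {iY : Y ⟶ T}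

/-- in the tensor product of the sections over affine opens of a fibre product, `b ⊗ 1` vanishes
as soon as the pullback of `b` to the fibre product vanishes. -/
theorem tmul_one_eq_zero (H : IsPullback g iY iX f) {US : S.Opens} {UT : T.Opens} {UX : X.Opens}
    (hUST : UT ≤ f ⁻¹ᵁ US) (hUSX : UX ≤ iX ⁻¹ᵁ US)
    (hUS : IsAffineOpen US) (hUT : IsAffineOpen UT) (hUX : IsAffineOpen UX) (b : Γ(T, UT))
    (hb : iY.appLE UT (g ⁻¹ᵁ UX ⊓ iY ⁻¹ᵁ UT) inf_le_right b = 0) :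
    letI := (f.appLE US UT hUST).hom.toAlgebra
    letI := (iX.appLE US UX hUSX).hom.toAlgebra
    (b ⊗ₜ[Γ(S, US)] (1 : Γ(X, UX))) = 0 := by
  letI algST : Algebra Γ(S, US) Γ(T, UT) := (f.appLE US UT hUST).hom.toAlgebra
  letI algSX : Algebra Γ(S, US) Γ(X, UX) := (iX.appLE US UX hUSX).hom.toAlgebra
  letI algTY : Algebra Γ(T, UT) Γ(Y, g ⁻¹ᵁ UX ⊓ iY ⁻¹ᵁ UT) :=
    (iY.appLE UT (g ⁻¹ᵁ UX ⊓ iY ⁻¹ᵁ UT) inf_le_right).hom.toAlgebra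
  letI algXY : Algebra Γ(X, UX) Γ(Y, g ⁻¹ᵁ UX ⊓ iY ⁻¹ᵁ UT) :=
    (g.appLE UX (g ⁻¹ᵁ UX ⊓ iY ⁻¹ᵁ UT) inf_le_left).hom.toAlgebra
  letI algSY : Algebra Γ(S, US) Γ(Y, g ⁻¹ᵁ UX ⊓ iY ⁻¹ᵁ UT) :=
    ((iX.appLE US UX hUSX) ≫ (g.appLE UX (g ⁻¹ᵁ UX ⊓ iY ⁻¹ᵁ UT) inf_le_left)).hom.toAlgebra
  haveI : IsScalarTower Γ(S, US) Γ(X, UX) Γ(Y, g ⁻¹ᵁ UX ⊓ iY ⁻¹ᵁ UT) := .of_algebraMap_eq' rfl
  haveI : IsScalarTower Γ(S, US) Γ(T, UT) Γ(Y, g ⁻¹ᵁ UX ⊓ iY ⁻¹ᵁ UT) := by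
    refine .of_algebraMap_eq' ?_
    change ((iX.appLE US UX hUSX) ≫ (g.appLE UX (g ⁻¹ᵁ UX ⊓ iY ⁻¹ᵁ UT) inf_le_left)).hom =
      ((f.appLE US UT hUST) ≫ (iY.appLE UT (g ⁻¹ᵁ UX ⊓ iY ⁻¹ᵁ UT) inf_le_right)).hom
    congr 1
    simp only [Scheme.Hom.appLE_comp_appLE, H.w]
  have hiso := isIso_pushoutSection_of_isAffineOpen H hUST hUSX rfl hUS hUT hUX
  have hpo := (isIso_pushoutSection_iff H hUST hUSX rfl).1 hiso
  have hP : Algebra.IsPushout Γ(S, US) Γ(X, UX) Γ(T, UT) Γ(Y, g ⁻¹ᵁ UX ⊓ iY ⁻¹ᵁ UT) :=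
    (CommRingCat.isPushout_iff_isPushout).1 hpo
  haveI hP' : Algebra.IsPushout Γ(S, US) Γ(T, UT) Γ(X, UX) Γ(Y, g ⁻¹ᵁ UX ⊓ iY ⁻¹ᵁ UT) := hP.symm
  apply (Algebra.IsPushout.equiv Γ(S, US) Γ(T, UT) Γ(X, UX)
    Γ(Y, g ⁻¹ᵁ UX ⊓ iY ⁻¹ᵁ UT)).injective
  rw [Algebra.IsPushout.equiv_tmul, map_one, mul_one, map_zero]
  exact hb

end Pushout


section Main

variable {X X' : Scheme.{u}}

/-- the ring maps to the sections over affine opens of the `Z i` over an affine open `W` form a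
separating family when the `f i` are schematically dominant -/
theorem sep_of_schDom {ι : Type u} (Z : ι → Scheme.{u}) (f : ∀ i, Z i ⟶ X)
    (h : ∀ (V : X.Opens) (t : Γ(X, V)), (∀ i, (f i).app V t = 0) → t = 0)
    {W : X.Opens} (hW : IsAffineOpen W) :
    letI : ∀ j : (Σ i : ι, {Z₀ : (Z i).Opens // IsAffineOpen Z₀ ∧ Z₀ ≤ (f i) ⁻¹ᵁ W}),
        Algebra Γ(X, W) Γ(Z j.1, j.2.1) :=
      fun j => ((f j.1).appLE W j.2.1 j.2.2.2).hom.toAlgebra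
    Sep (A := Γ(X, W)) (M := Γ(X, W))
      (ι := Σ i : ι, {Z₀ : (Z i).Opens // IsAffineOpen Z₀ ∧ Z₀ ≤ (f i) ⁻¹ᵁ W})
      (fun j => Γ(Z j.1, j.2.1)) (fun j => Algebra.linearMap Γ(X, W) Γ(Z j.1, j.2.1)) := by
  letI : ∀ j : (Σ i : ι, {Z₀ : (Z i).Opens // IsAffineOpen Z₀ ∧ Z₀ ≤ (f i) ⁻¹ᵁ W}),
      Algebra Γ(X, W) Γ(Z j.1, j.2.1) :=
    fun j => ((f j.1).appLE W j.2.1 j.2.2.2).hom.toAlgebra
  intro f₁ m hm
  have H : X.presheaf.map (homOfLE (X.basicOpen_le f₁)).op m = 0 := by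
    apply h (X.basicOpen f₁)
    intro i
    apply eq_zero_of_locally
    intro z hz
    obtain ⟨_, ⟨Z₀, hZ₀, rfl⟩, hzZ₀, hZ₀le⟩ := (Z i).isBasis_affineOpens.exists_subset_of_mem_open
      hz ((f i) ⁻¹ᵁ X.basicOpen f₁).2
    have hZ₀le' : Z₀ ≤ (f i) ⁻¹ᵁ X.basicOpen f₁ := hZ₀le
    have hZ₀W : Z₀ ≤ (f i) ⁻¹ᵁ W := hZ₀le'.trans ((f i).preimage_mono (X.basicOpen_le f₁))
    refine ⟨Z₀, hZ₀le', hzZ₀, ?_⟩
    obtain ⟨k, hk⟩ := hm ⟨i, Z₀, hZ₀, hZ₀W⟩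
    have hk' : ((f i).appLE W Z₀ hZ₀W f₁) ^ k * ((f i).appLE W Z₀ hZ₀W m) = 0 := by
      letI : Algebra Γ(X, W) Γ(Z i, Z₀) := ((f i).appLE W Z₀ hZ₀W).hom.toAlgebra
      have : f₁ ^ k • (algebraMap Γ(X, W) Γ(Z i, Z₀) m) = 0 := hk
      rw [Algebra.smul_def, map_pow] at this
      exact this
    have hunit : IsUnit ((f i).appLE W Z₀ hZ₀W f₁) := by
      have h1 : (f i).appLE W Z₀ hZ₀W f₁ = (f i).appLE (X.basicOpen f₁) Z₀ hZ₀le'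
          (X.presheaf.map (homOfLE (X.basicOpen_le f₁)).op f₁) := by
        rw [← ConcreteCategory.comp_apply, Scheme.Hom.map_appLE]
      rw [h1]
      exact (RingedSpace.isUnit_res_basicOpen _ f₁).map _
    have h2 : (f i).appLE W Z₀ hZ₀W m = 0 := ((hunit.pow k).mul_right_eq_zero).1 hk'
    have h3 : (Z i).presheaf.map (homOfLE hZ₀le').op
        ((f i).app (X.basicOpen f₁) (X.presheaf.map (homOfLE (X.basicOpen_le f₁)).op m)) =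
        (f i).appLE W Z₀ hZ₀W m := by
      rw [← ConcreteCategory.comp_apply, ← ConcreteCategory.comp_apply]
      have : (f i).app (X.basicOpen f₁) ≫ (Z i).presheaf.map (homOfLE hZ₀le').op =
          (f i).appLE (X.basicOpen f₁) Z₀ hZ₀le' := rfl
      rw [this, Scheme.Hom.map_appLE]
    rw [h3, h2]
  obtain ⟨n, hn⟩ := exists_pow_mul_eq_zero_of_res_basicOpen_eq_zero_of_isAffineOpen X hW m f₁ H
  exact ⟨n, hn⟩

theorem main {ι : Type u} (Z : ι → Scheme.{u}) (f : ∀ i, Z i ⟶ X) (g : X' ⟶ X) [Flat g]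
    [LocallyOfFinitePresentation g]
    (h : ∀ (V : X.Opens) (t : Γ(X, V)), (∀ i, (f i).app V t = 0) → t = 0)
    (V : X'.Opens) (t : Γ(X', V)) (ht : ∀ i, (pullback.snd (f i) g).app V t = 0) : t = 0 := by
  apply eq_zero_of_locally
  intro x' hx'
  obtain ⟨_, ⟨W, hW, rfl⟩, hxW, -⟩ := X.isBasis_affineOpens.exists_subset_of_mem_open
    (Set.mem_univ (g x')) isOpen_univ
  obtain ⟨_, ⟨W', hW', rfl⟩, hxW', hW'le⟩ := X'.isBasis_affineOpens.exists_subset_of_mem_open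
    (show x' ∈ ((V ⊓ g ⁻¹ᵁ W : X'.Opens) : Set X') from ⟨hx', hxW⟩) (V ⊓ g ⁻¹ᵁ W).2
  have hW'V : W' ≤ V := fun y hy => (hW'le hy).1
  have e : W' ≤ g ⁻¹ᵁ W := fun y hy => (hW'le hy).2
  refine ⟨W', hW'V, hxW', ?_⟩
  letI : Algebra Γ(X, W) Γ(X', W') := (g.appLE W W' e).hom.toAlgebra
  haveI : Module.Flat Γ(X, W) Γ(X', W') :=
    (HasRingHomProperty.appLE @Flat g inferInstance ⟨W, hW⟩ ⟨W', hW'⟩ e : RingHom.Flat _)
  haveI : Algebra.FinitePresentation Γ(X, W) Γ(X', W') :=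
    (HasRingHomProperty.appLE @LocallyOfFinitePresentation g inferInstance ⟨W, hW⟩ ⟨W', hW'⟩ e :
      RingHom.FinitePresentation _)
  letI : ∀ j : (Σ i : ι, {Z₀ : (Z i).Opens // IsAffineOpen Z₀ ∧ Z₀ ≤ (f i) ⁻¹ᵁ W}),
      Algebra Γ(X, W) Γ(Z j.1, j.2.1) :=
    fun j => ((f j.1).appLE W j.2.1 j.2.2.2).hom.toAlgebra
  set t' : Γ(X', W') := X'.presheaf.map (homOfLE hW'V).op t with ht'
  have hz : ∀ j : (Σ i : ι, {Z₀ : (Z i).Opens // IsAffineOpen Z₀ ∧ Z₀ ≤ (f i) ⁻¹ᵁ W}),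
      (Algebra.linearMap Γ(X, W) Γ(Z j.1, j.2.1)).baseChange Γ(X', W')
        (t' ⊗ₜ[Γ(X, W)] (1 : Γ(X, W))) = 0 := by
    rintro ⟨i, Z₀, hZ₀, hZ₀W⟩
    rw [LinearMap.baseChange_tmul, Algebra.linearMap_apply, map_one]
    refine tmul_one_eq_zero (IsPullback.of_hasPullback (f i) g) e hZ₀W hW hW' hZ₀ t' ?_
    rw [ht', ← ConcreteCategory.comp_apply, Scheme.Hom.map_appLE]
    have h1 : (pullback.snd (f i) g).appLE V
        ((pullback.fst (f i) g) ⁻¹ᵁ Z₀ ⊓ (pullback.snd (f i) g) ⁻¹ᵁ W')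
        (inf_le_right.trans ((pullback.snd (f i) g).preimage_mono hW'V)) =
        (pullback.snd (f i) g).app V ≫ (pullback (f i) g).presheaf.map
          (homOfLE (inf_le_right.trans ((pullback.snd (f i) g).preimage_mono hW'V))).op := rfl
    rw [h1, ConcreteCategory.comp_apply, ht i, map_zero]
  have hzero := main_fp (A := Γ(X, W)) (B := Γ(X', W')) Γ(X, W) _ _
    (sep_of_schDom Z f h hW) (t' ⊗ₜ[Γ(X, W)] (1 : Γ(X, W))) hz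
  have h3 := congrArg (TensorProduct.rid Γ(X, W) Γ(X', W')) hzero
  rw [TensorProduct.rid_tmul, one_smul, map_zero] at h3
  exact h3

end Main

end Groth.Agent.H3.SchDomLfp
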