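import Mathlib

set_option autoImplicit false

universe u

open TensorProduct

namespace Groth.Agent.H3.SepField

variable {k A C : Type u} [Field k] [CommRing A] [CommRing C] [Algebra k A] [Algebra k C]

/-- the comparison map `A ⊗ C₀ ⟶ A ⊗ C` for a subalgebra `C₀` of `C` -/
noncomputable def ψ (A : Type u) [CommRing A] [Algebra k A] (C₀ : Subalgebra k C) :
    A ⊗[k] C₀ →ₐ[A] A ⊗[k] C :=
  Algebra.TensorProduct.map (AlgHom.id A A) C₀.val

lemma ψ_tmul (C₀ : Subalgebra k C) (a : A) (c : C₀) : ψ A C₀ (a ⊗ₜ c) = a ⊗ₜ (c : C) := rfl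

/-- `ψ` has an `A`-linear retraction -/
lemma exists_retraction (C₀ : Subalgebra k C) :
    ∃ ρ : A ⊗[k] C →ₗ[A] A ⊗[k] C₀, ρ ∘ₗ (ψ A C₀).toLinearMap = LinearMap.id := by
  obtain ⟨ρ₀, hρ₀⟩ := LinearMap.exists_leftInverse_of_injective C₀.val.toLinearMap
    (LinearMap.ker_eq_bot.2 Subtype.val_injective)
  refine ⟨AlgebraTensorModule.map (LinearMap.id : A →ₗ[A] A) ρ₀, ?_⟩
  ext c
  simp only [AlgebraTensorModule.curry_apply, LinearMap.restrictScalars_comp, curry_apply,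
    LinearMap.coe_comp, LinearMap.coe_restrictScalars, Function.comp_apply, AlgHom.toLinearMap_apply,
    LinearMap.id_coe, id_eq]
  rw [ψ_tmul, AlgebraTensorModule.map_tmul, LinearMap.id_apply]
  have := congrArg (fun g => g c) hρ₀
  simp only [LinearMap.coe_comp, Function.comp_apply, AlgHom.toLinearMap_apply, LinearMap.id_coe,
    id_eq] at this
  rw [show (C₀.val c : C) = (c : C) from rfl] at this
  rw [this]

lemma rTensor_ψ_injective (C₀ : Subalgebra k C) (N : Type u) [AddCommGroup N] [Module A N] :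
    Function.Injective ((ψ A C₀).toLinearMap.rTensor N) := by
  obtain ⟨ρ, hρ⟩ := exists_retraction (A := A) C₀
  have h : (ρ.rTensor N) ∘ₗ ((ψ A C₀).toLinearMap.rTensor N) = LinearMap.id := by
    rw [← LinearMap.rTensor_comp, hρ, LinearMap.rTensor_id]
  intro x y hxy
  have := congrArg (ρ.rTensor N) hxy
  rwa [← LinearMap.comp_apply, ← LinearMap.comp_apply, h] at this

lemma rTensor_ψ_smul (C₀ : Subalgebra k C) (N : Type u) [AddCommGroup N] [Module A N]
    (r₀ : A ⊗[k] C₀) (x : (A ⊗[k] C₀) ⊗[A] N) :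
    (ψ A C₀).toLinearMap.rTensor N (r₀ • x) = ψ A C₀ r₀ • (ψ A C₀).toLinearMap.rTensor N x := by
  induction x using TensorProduct.induction_on with
  | zero => simp
  | tmul r' n =>
    rw [TensorProduct.smul_tmul', LinearMap.rTensor_tmul, LinearMap.rTensor_tmul,
      TensorProduct.smul_tmul', smul_eq_mul, smul_eq_mul, AlgHom.toLinearMap_apply,
      AlgHom.toLinearMap_apply, map_mul]
  | add x y hx hy => rw [smul_add, map_add, hx, hy, map_add, smul_add]

lemma ψ_comp_inclusion {C₀ C₁ : Subalgebra k C} (h : C₀ ≤ C₁) :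
    (ψ A C₁).comp (Algebra.TensorProduct.map (AlgHom.id A A) (Subalgebra.inclusion h)) = ψ A C₀ := by
  apply Algebra.TensorProduct.ext
  · ext
  · ext c
    rfl

lemma range_ψ_mono {C₀ C₁ : Subalgebra k C} (h : C₀ ≤ C₁) :
    (ψ A C₀).range ≤ (ψ A C₁).range := by
  rw [← ψ_comp_inclusion h]
  exact AlgHom.range_comp_le_range _ _

lemma range_rTensor_ψ_mono {C₀ C₁ : Subalgebra k C} (h : C₀ ≤ C₁) (M : Type u) [AddCommGroup M]
    [Module A M] :
    LinearMap.range ((ψ A C₀).toLinearMap.rTensor M) ≤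
      LinearMap.range ((ψ A C₁).toLinearMap.rTensor M) := by
  have : (ψ A C₀).toLinearMap = (ψ A C₁).toLinearMap ∘ₗ
      (Algebra.TensorProduct.map (AlgHom.id A A) (Subalgebra.inclusion h)).toLinearMap := by
    rw [← ψ_comp_inclusion h]
    rfl
  rw [this, LinearMap.rTensor_comp]
  exact LinearMap.range_comp_le_range _ _

lemma exists_fg_mem_range_ψ (r : A ⊗[k] C) :
    ∃ C₀ : Subalgebra k C, C₀.FG ∧ r ∈ (ψ A C₀).range := by
  induction r using TensorProduct.induction_on with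
  | zero => exact ⟨⊥, Subalgebra.fg_bot, zero_mem _⟩
  | tmul a c =>
    refine ⟨Algebra.adjoin k {c}, ?_, ?_⟩
    · have := Subalgebra.fg_adjoin_finset (R := k) ({c} : Finset C)
      simpa using this
    · exact ⟨a ⊗ₜ ⟨c, Algebra.subset_adjoin rfl⟩, rfl⟩
  | add x y hx hy =>
    obtain ⟨C₁, h1, hx⟩ := hx
    obtain ⟨C₂, h2, hy⟩ := hy
    exact ⟨C₁ ⊔ C₂, h1.sup h2, add_mem (range_ψ_mono le_sup_left hx) (range_ψ_mono le_sup_right hy)⟩

lemma exists_fg_mem_range_rTensor_ψ (M : Type u) [AddCommGroup M] [Module A M]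
    (y : (A ⊗[k] C) ⊗[A] M) :
    ∃ C₀ : Subalgebra k C, C₀.FG ∧ y ∈ LinearMap.range ((ψ A C₀).toLinearMap.rTensor M) := by
  induction y using TensorProduct.induction_on with
  | zero => exact ⟨⊥, Subalgebra.fg_bot, zero_mem _⟩
  | tmul r m =>
    obtain ⟨C₀, h0, r₀, rfl⟩ := exists_fg_mem_range_ψ r
    exact ⟨C₀, h0, r₀ ⊗ₜ m, rfl⟩
  | add x y hx hy =>
    obtain ⟨C₁, h1, hx⟩ := hx
    obtain ⟨C₂, h2, hy⟩ := hy
    exact ⟨C₁ ⊔ C₂, h1.sup h2, add_mem (range_rTensor_ψ_mono le_sup_left M hx)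
      (range_rTensor_ψ_mono le_sup_right M hy)⟩

end Groth.Agent.H3.SepField
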