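import Mathlib
import Groth.Agent.Lib.Helper3.SepField1
import Groth.Agent.Lib.Helper3.SepGF6

set_option autoImplicit false

universe u

open TensorProduct

namespace Groth.Agent.H3.SepField

open Groth.Agent.H3.SepGF

section

variable {k A C : Type u} [Field k] [CommRing A] [CommRing C] [Algebra k A] [Algebra k C]

/-- the localization map `(A ⊗ C) ⊗[A] M ⟶ (A ⊗ C)_b ⊗[A] M` -/
noncomputable abbrev loc (b : A ⊗[k] C) (M : Type u) [AddCommGroup M] [Module A M] :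
    (A ⊗[k] C) ⊗[A] M →ₗ[A ⊗[k] C] (Localization.Away b) ⊗[A] M :=
  AlgebraTensorModule.rTensor A M (Algebra.linearMap (A ⊗[k] C) (Localization.Away b))

lemma loc_tmul (b : A ⊗[k] C) (M : Type u) [AddCommGroup M] [Module A M] (r : A ⊗[k] C) (m : M) :
    loc b M (r ⊗ₜ m) = algebraMap (A ⊗[k] C) (Localization.Away b) r ⊗ₜ m := rfl

lemma loc_natural (b : A ⊗[k] C) {M N : Type u} [AddCommGroup M] [Module A M] [AddCommGroup N]
    [Module A N] (v : M →ₗ[A] N) (x : (A ⊗[k] C) ⊗[A] M) :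
    v.lTensor (Localization.Away b) (loc b M x) = loc b N (v.lTensor (A ⊗[k] C) x) := by
  induction x using TensorProduct.induction_on with
  | zero => simp
  | tmul r m => rw [loc_tmul, LinearMap.lTensor_tmul, LinearMap.lTensor_tmul, loc_tmul]
  | add x y hx hy => rw [map_add, map_add, hx, hy, map_add, map_add]

/-- the finitely generated case -/
theorem core_fg [Algebra.FiniteType k C] (b : A ⊗[k] C) {ι : Type u}
    (M : Type u) [AddCommGroup M] [Module A M]
    (N : ι → Type u) [∀ i, AddCommGroup (N i)] [∀ i, Module A (N i)]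
    (v : ∀ i, M →ₗ[A] N i) (hsep : Sep N v) (y : (A ⊗[k] C) ⊗[A] M)
    (hy : ∀ i, ∃ n : ℕ, b ^ n • (v i).lTensor (A ⊗[k] C) y = 0) : ∃ n : ℕ, b ^ n • y = 0 := by
  haveI : Algebra.FinitePresentation k C := Algebra.FinitePresentation.of_finiteType.1 inferInstance
  haveI : Algebra.FinitePresentation A (Localization.Away b) :=
    Algebra.FinitePresentation.trans A (A ⊗[k] C) _
  haveI : Module.Flat A (Localization.Away b) := Module.Flat.trans A (A ⊗[k] C) _
  have hz : ∀ i, (v i).baseChange (Localization.Away b) (loc b M y) = 0 := by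
    intro i
    rw [LinearMap.baseChange_eq_ltensor, loc_natural]
    obtain ⟨n, hn⟩ := hy i
    exact (IsLocalizedModule.eq_zero_iff (Submonoid.powers b) (loc b (N i))).2 ⟨⟨b ^ n, n, rfl⟩, hn⟩
  have h0 := main_fp M N v hsep (loc b M y) hz
  obtain ⟨⟨_, n, rfl⟩, hn⟩ := (IsLocalizedModule.eq_zero_iff (Submonoid.powers b) (loc b M)).1 h0
  exact ⟨n, hn⟩

/-- torsion form, arbitrary `C` -/
theorem core (b : A ⊗[k] C) {ι : Type u}
    (M : Type u) [AddCommGroup M] [Module A M]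
    (N : ι → Type u) [∀ i, AddCommGroup (N i)] [∀ i, Module A (N i)]
    (v : ∀ i, M →ₗ[A] N i) (hsep : Sep N v) (y : (A ⊗[k] C) ⊗[A] M)
    (hy : ∀ i, ∃ n : ℕ, b ^ n • (v i).lTensor (A ⊗[k] C) y = 0) : ∃ n : ℕ, b ^ n • y = 0 := by
  obtain ⟨C₁, h1, hb⟩ := exists_fg_mem_range_ψ b
  obtain ⟨C₂, h2, hy2⟩ := exists_fg_mem_range_rTensor_ψ M y
  obtain ⟨b₀, rfl⟩ := range_ψ_mono (le_sup_left : C₁ ≤ C₁ ⊔ C₂) hb
  obtain ⟨y₀, rfl⟩ := range_rTensor_ψ_mono (le_sup_right : C₂ ≤ C₁ ⊔ C₂) M hy2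
  haveI : Algebra.FiniteType k ↥(C₁ ⊔ C₂) := (Subalgebra.fg_iff_finiteType _).1 (h1.sup h2)
  have hcomm : ∀ i (x : (A ⊗[k] ↥(C₁ ⊔ C₂)) ⊗[A] M),
      (ψ A (C₁ ⊔ C₂)).toLinearMap.rTensor (N i) ((v i).lTensor _ x) =
        (v i).lTensor _ ((ψ A (C₁ ⊔ C₂)).toLinearMap.rTensor M x) := by
    intro i x
    rw [← LinearMap.comp_apply, ← LinearMap.comp_apply, LinearMap.rTensor_comp_lTensor,
      LinearMap.lTensor_comp_rTensor]
  obtain ⟨n, hn⟩ := core_fg (C := ↥(C₁ ⊔ C₂)) b₀ M N v hsep y₀ (by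
    intro i
    obtain ⟨n, hn⟩ := hy i
    refine ⟨n, rTensor_ψ_injective (C₁ ⊔ C₂) (N i) ?_⟩
    rw [map_zero, rTensor_ψ_smul, map_pow, hcomm]
    exact hn)
  refine ⟨n, ?_⟩
  have := congrArg ((ψ A (C₁ ⊔ C₂)).toLinearMap.rTensor M) hn
  rw [rTensor_ψ_smul, map_pow, map_zero] at this
  exact this

/-- **field case**: a separating family stays jointly injective after `(A ⊗[k] C)_b ⊗[A] -`. -/
theorem field_main (b : A ⊗[k] C) {ι : Type u}
    (M : Type u) [AddCommGroup M] [Module A M]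
    (N : ι → Type u) [∀ i, AddCommGroup (N i)] [∀ i, Module A (N i)]
    (v : ∀ i, M →ₗ[A] N i) (hsep : Sep N v) (z : (Localization.Away b) ⊗[A] M)
    (hz : ∀ i, (v i).lTensor (Localization.Away b) z = 0) : z = 0 := by
  obtain ⟨⟨y, s⟩, hs⟩ := IsLocalizedModule.surj (Submonoid.powers b) (loc b M) z
  have hs' : s • z = loc b M y := hs
  have hy : ∀ i, ∃ n : ℕ, b ^ n • (v i).lTensor (A ⊗[k] C) y = 0 := by
    intro i
    have h1 : loc b (N i) ((v i).lTensor (A ⊗[k] C) y) = 0 := by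
      rw [← loc_natural, ← hs']
      have h2 : s • z = (algebraMap (A ⊗[k] C) (Localization.Away b) (s : A ⊗[k] C)) • z := by
        rw [algebraMap_smul]; rfl
      rw [h2, ← LinearMap.baseChange_eq_ltensor, map_smul, LinearMap.baseChange_eq_ltensor, hz i,
        smul_zero]
    obtain ⟨⟨_, n, rfl⟩, hn⟩ :=
      (IsLocalizedModule.eq_zero_iff (Submonoid.powers b) (loc b (N i))).1 h1
    exact ⟨n, hn⟩
  obtain ⟨n, hn⟩ := core b M N v hsep y hy
  have h3 : loc b M y = 0 :=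
    (IsLocalizedModule.eq_zero_iff (Submonoid.powers b) (loc b M)).2 ⟨⟨b ^ n, n, rfl⟩, hn⟩
  rw [h3] at hs'
  exact (IsLocalizedModule.smul_injective (loc b M) s)
    (show s • z = s • (0 : (Localization.Away b) ⊗[A] M) by rw [smul_zero]; exact hs')

end

end Groth.Agent.H3.SepField
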