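import Mathlib
import Groth.Agent.Lib.Helper3.SepField2

set_option autoImplicit false

universe u

open TensorProduct

namespace Groth.Agent.H3.SepField

open Groth.Agent.H3.SepGF

/-- base change along `A → B` keeps separating families jointly injective -/
def JointInj (A B : Type u) [CommRing A] [CommRing B] [Algebra A B] : Prop :=
  ∀ (ι : Type u) (M : Type u) [AddCommGroup M] [Module A M] (N : ι → Type u)
    [∀ i, AddCommGroup (N i)] [∀ i, Module A (N i)] (v : ∀ i, M →ₗ[A] N i), Sep N v →
    ∀ z : B ⊗[A] M, (∀ i, (v i).baseChange B z = 0) → z = 0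

theorem JointInj.of_algEquiv {A B₁ B₂ : Type u} [CommRing A] [CommRing B₁] [CommRing B₂]
    [Algebra A B₁] [Algebra A B₂] (e : B₁ ≃ₐ[A] B₂) (h : JointInj A B₁) : JointInj A B₂ := by
  intro ι M _ _ N _ _ v hsep z hz
  have h1 : (e.symm.toLinearMap.rTensor M) z = 0 := by
    apply h ι M N v hsep
    intro i
    rw [LinearMap.baseChange_eq_ltensor, ← LinearMap.comp_apply, LinearMap.lTensor_comp_rTensor,
      ← LinearMap.rTensor_comp_lTensor, LinearMap.comp_apply, ← LinearMap.baseChange_eq_ltensor,
      hz i, map_zero]
  have h2 := congrArg (e.toLinearMap.rTensor M) h1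
  rw [← LinearMap.comp_apply, ← LinearMap.rTensor_comp, map_zero] at h2
  have h3 : e.toLinearMap ∘ₗ e.symm.toLinearMap = LinearMap.id := by
    ext x; simp
  rw [h3, LinearMap.rTensor_id, LinearMap.id_apply] at h2
  exact h2

theorem jointInj_away {k A C : Type u} [Field k] [CommRing A] [CommRing C] [Algebra k A]
    [Algebra k C] (b : A ⊗[k] C) : JointInj A (Localization.Away b) := by
  intro ι M _ _ N _ _ v hsep z hz
  refine field_main b M N v hsep z ?_
  intro i
  rw [← LinearMap.baseChange_eq_ltensor]
  exact hz i

theorem jointInj_of_isPushout_field {k A C P B : Type u} [Field k] [CommRing A] [CommRing C]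
    [CommRing P] [CommRing B] [Algebra k A] [Algebra k C] [Algebra k P] [Algebra A P] [Algebra C P]
    [IsScalarTower k A P] [IsScalarTower k C P] [Algebra.IsPushout k A C P] [Algebra P B]
    [Algebra A B] [IsScalarTower A P B] (b' : P) [IsLocalization.Away b' B] : JointInj A B := by
  let εR : A ⊗[k] C ≃ₐ[A] P := Algebra.IsPushout.equiv k A C P
  let b : A ⊗[k] C := εR.symm b'
  have H : Submonoid.map εR (Submonoid.powers b) = Submonoid.powers b' := by
    rw [Submonoid.map_powers]
    congr 1
    exact εR.apply_symm_apply b'
  exact JointInj.of_algEquiv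
    (IsLocalization.algEquivOfAlgEquiv (Localization.Away b) B εR H) (jointInj_away b)

theorem jointInj_of_isPushout {k A C P B : Type u} [CommRing k] (hk : IsField k) [CommRing A]
    [CommRing C]
    [CommRing P] [CommRing B] [Algebra k A] [Algebra k C] [Algebra k P] [Algebra A P] [Algebra C P]
    [IsScalarTower k A P] [IsScalarTower k C P] [Algebra.IsPushout k A C P] [Algebra P B]
    [Algebra A B] [IsScalarTower A P B] (b' : P) [IsLocalization.Away b' B] : JointInj A B := by
  letI : Field k := hk.toField
  exact jointInj_of_isPushout_field (k := k) (A := A) (C := C) (P := P) (B := B) b'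

end Groth.Agent.H3.SepField
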