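import Mathlib
import Groth.Agent.Lib.Lead.QC.Gen
import Groth.Agent.Lib.Lead.QC.Extend
import Groth.Agent.Lib.Helper5.Lim.ModuleBridge

set_option autoImplicit false

universe u

open AlgebraicGeometry CategoryTheory CategoryTheory.Limits Opposite TensorProduct

namespace Groth.Agent.H3.SepArt

open Groth.Agent.LD.QC Groth.Agent.H5.Lim

variable {X X' : Scheme.{u}}

/-- local criterion for the pulled back family to be separating -/
theorem sep_of_local (g : X' ⟶ X) (F : X.Modules) [F.IsQuasicoherent] {ι : Type u}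
    (G : ι → X.Modules) [∀ i, (G i).IsQuasicoherent] (u : ∀ i, F ⟶ G i)
    (hloc : ∀ (x' : X') (V' : X'.Opens), x' ∈ V' →
      ∃ (U' : X'.Opens) (U : X.Opens) (_ : IsAffineOpen U') (_ : IsAffineOpen U)
        (e : U' ≤ g ⁻¹ᵁ U), x' ∈ U' ∧ U' ≤ V' ∧
        letI := (g.appLE U U' e).hom.toAlgebra
        ∀ z : Γ(X', U') ⊗[Γ(X, U)] Γ(F, U),
          (∀ i, (appLinear (u i) U).baseChange Γ(X', U') z = 0) → z = 0)
    (V : X'.Opens) (t : Γ((Scheme.Modules.pullback g).obj F, V))
    (ht : ∀ i, ((Scheme.Modules.pullback g).map (u i)).app V t = 0) : t = 0 := by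
  have hpt : ∀ x' : V, ∃ U' : X'.Opens, ∃ hle : U' ≤ V, x'.1 ∈ U' ∧
      ((Scheme.Modules.pullback g).obj F).presheaf.map (homOfLE hle).op t = 0 := by
    intro x'
    obtain ⟨U', U, hU', hU, e, hx', hle, hinj⟩ := hloc x'.1 V x'.2
    refine ⟨U', hle, hx', ?_⟩
    letI : Algebra Γ(X, U) Γ(X', U') := (g.appLE U U' e).hom.toAlgebra
    obtain ⟨e₀, -, h₀, -, -⟩ := pullback_map_app_equiv g hU' hU e (𝟙 F)
    obtain ⟨z, hz⟩ := e₀.surjective
      (((Scheme.Modules.pullback g).obj F).presheaf.map (homOfLE hle).op t)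
    have hz0 : z = 0 := by
      apply hinj
      intro i
      obtain ⟨e₁, e₂, h₁, -, hα⟩ := pullback_map_app_equiv g hU' hU e (u i)
      have he : ∀ w, e₁ w = e₀ w := by
        intro w
        induction w using TensorProduct.induction_on with
        | zero => simp
        | tmul a m => rw [h₁, h₀]
        | add x y hx hy => rw [map_add, map_add, hx, hy]
      apply e₂.injective
      rw [← hα, he, hz, app_res, ht i, map_zero, map_zero]
    rw [← hz, hz0, map_zero]
  choose U' hle hx' hres using hpt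
  apply section_ext_of_cover ((Scheme.Modules.pullback g).obj F) U' hle ?_ t 0
  · intro x'
    rw [hres x', map_zero]
  · intro x hx
    exact TopologicalSpace.Opens.mem_iSup.2 ⟨⟨x, hx⟩, hx' ⟨x, hx⟩⟩

end Groth.Agent.H3.SepArt
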