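import Mathlib
import Groth.Agent.Lib.Helper3.SepGF6
import Groth.Agent.Lib.Helper3.SepArtB
import Groth.Agent.Lib.Lead.QC.FinType

set_option autoImplicit false

universe u

open AlgebraicGeometry CategoryTheory CategoryTheory.Limits Opposite TensorProduct

namespace Groth.Agent.H3.SepGF

open Groth.Agent.LD.QC Groth.Agent.H5.Lim Groth.Agent.H3.SepArt

variable {X X' : Scheme.{u}}

/-- a separating family of homomorphisms of quasi-coherent modules gives a family of linear maps
separating on the basic opens of every affine open -/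
theorem sep_sections (F : X.Modules) [F.IsQuasicoherent] {ι : Type u}
    (G : ι → X.Modules) [∀ i, (G i).IsQuasicoherent] (u : ∀ i, F ⟶ G i)
    (h : ∀ (V : X.Opens) (t : Γ(F, V)), (∀ i, (u i).app V t = 0) → t = 0)
    {U : X.Opens} (hU : IsAffineOpen U) :
    Sep (fun i => Γ(G i, U)) (fun i => appLinear (u i) U) := by
  intro f m hm
  apply affine_inj F hU f m
  apply h (X.basicOpen f)
  intro i
  rw [app_res]
  obtain ⟨k, hk⟩ := hm i
  have h1 : (G i).presheaf.map (homOfLE (X.basicOpen_le f)).op (f ^ k • (u i).app U m) = 0 := by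
    have : f ^ k • (u i).app U m = 0 := hk
    rw [this, map_zero]
  rw [Scheme.Modules.map_smul, map_pow] at h1
  have hu : IsUnit (X.presheaf.map (homOfLE (X.basicOpen_le f)).op f) :=
    RingedSpace.isUnit_res_basicOpen _ f
  obtain ⟨w, hw⟩ := hu.pow k
  have h2 := congrArg (fun z => (↑w⁻¹ : Γ(X, X.basicOpen f)) • z) h1
  simp only [smul_zero] at h2
  rw [← hw, smul_smul, Units.inv_mul, one_smul] at h2
  exact h2

theorem main_lfp (F : X.Modules) [F.IsQuasicoherent] {ι : Type u}
    (G : ι → X.Modules) [∀ i, (G i).IsQuasicoherent] (u : ∀ i, F ⟶ G i) (g : X' ⟶ X) [Flat g]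
    [LocallyOfFinitePresentation g]
    (h : ∀ (V : X.Opens) (t : Γ(F, V)), (∀ i, (u i).app V t = 0) → t = 0)
    (V : X'.Opens) (t : Γ((Scheme.Modules.pullback g).obj F, V))
    (ht : ∀ i, ((Scheme.Modules.pullback g).map (u i)).app V t = 0) : t = 0 := by
  refine sep_of_local g F G u ?_ V t ht
  intro x' V' hx'
  obtain ⟨U, hU, hxU, -⟩ := exists_isAffineOpen_mem_and_subset (x := g x') (U := ⊤)
    (TopologicalSpace.Opens.mem_top _)
  have hx'U : x' ∈ V' ⊓ g ⁻¹ᵁ U := ⟨hx', hxU⟩
  obtain ⟨U', hU', hx'U', hU'le⟩ := exists_isAffineOpen_mem_and_subset hx'U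
  have e : U' ≤ g ⁻¹ᵁ U := fun y hy => (hU'le hy).2
  refine ⟨U', U, hU', hU, e, hx'U', fun y hy => (hU'le hy).1, ?_⟩
  letI : Algebra Γ(X, U) Γ(X', U') := (g.appLE U U' e).hom.toAlgebra
  haveI : Module.Flat Γ(X, U) Γ(X', U') := flat_appLE g hU' hU e
  haveI : Algebra.FinitePresentation Γ(X, U) Γ(X', U') := by
    have := HasRingHomProperty.appLE (P := @LocallyOfFinitePresentation) g inferInstance
      ⟨U, hU⟩ ⟨U', hU'⟩ e
    exact this
  intro z hz
  exact main_fp Γ(F, U) (fun i => Γ(G i, U)) (fun i => appLinear (u i) U)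
    (sep_sections F G u h hU) z hz

end Groth.Agent.H3.SepGF
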