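import Mathlib
import Groth.Agent.Lib.Helper3.SepField3
import Groth.Agent.Lib.Helper3.SepGF7

set_option autoImplicit false

universe u

open AlgebraicGeometry CategoryTheory CategoryTheory.Limits Opposite TensorProduct TopologicalSpace

namespace Groth.Agent.H3.SepField

open Groth.Agent.H3.SepGF Groth.Agent.LD.QC Groth.Agent.H5.Lim Groth.Agent.H3.SepArt

theorem isField_Γ_Spec (k : Type u) [Field k] : IsField Γ(Spec (CommRingCat.of k), ⊤) :=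
  MulEquiv.isField (Field.toIsField k)
    (Scheme.ΓSpecIso (CommRingCat.of k)).commRingCatIsoToRingEquiv.toMulEquiv

section Pushout

variable {X Y S T : Scheme.{u}} {f : T ⟶ S} {g : Y ⟶ X} {iX : X ⟶ S} {iY : Y ⟶ T}

theorem isAffineOpen_inf (H : IsPullback g iY iX f) {US : S.Opens} {UT : T.Opens} {UX : X.Opens}
    (hUST : UT ≤ f ⁻¹ᵁ US) (hUSX : UX ≤ iX ⁻¹ᵁ US)
    (hUS : IsAffineOpen US) (hUT : IsAffineOpen UT) (hUX : IsAffineOpen UX) :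
    IsAffineOpen (g ⁻¹ᵁ UX ⊓ iY ⁻¹ᵁ UT) := by
  have : IsAffine _ := hUS
  have : IsAffine _ := hUT
  have : IsAffine _ := hUX
  exact .of_isIso (Scheme.Hom.isPullback_resLE H hUST hUSX rfl).isoPullback.hom

/-- over a field, the sections over a basic open of a product of affines -/
theorem jointInj_of_isPullback (H : IsPullback g iY iX f) {US : S.Opens} {UT : T.Opens}
    {UX : X.Opens} (hUST : UT ≤ f ⁻¹ᵁ US) (hUSX : UX ≤ iX ⁻¹ᵁ US)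
    (hUS : IsAffineOpen US) (hUT : IsAffineOpen UT) (hUX : IsAffineOpen UX)
    (hk : IsField Γ(S, US)) (b' : Γ(Y, g ⁻¹ᵁ UX ⊓ iY ⁻¹ᵁ UT)) :
    letI := (g.appLE UX (Y.basicOpen b') ((Y.basicOpen_le b').trans inf_le_left)).hom.toAlgebra
    JointInj Γ(X, UX) Γ(Y, Y.basicOpen b') := by
  letI algST : Algebra Γ(S, US) Γ(T, UT) := (f.appLE US UT hUST).hom.toAlgebra
  letI algSX : Algebra Γ(S, US) Γ(X, UX) := (iX.appLE US UX hUSX).hom.toAlgebra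
  letI algTY : Algebra Γ(T, UT) Γ(Y, g ⁻¹ᵁ UX ⊓ iY ⁻¹ᵁ UT) :=
    (iY.appLE UT (g ⁻¹ᵁ UX ⊓ iY ⁻¹ᵁ UT) inf_le_right).hom.toAlgebra
  letI algXY : Algebra Γ(X, UX) Γ(Y, g ⁻¹ᵁ UX ⊓ iY ⁻¹ᵁ UT) :=
    (g.appLE UX (g ⁻¹ᵁ UX ⊓ iY ⁻¹ᵁ UT) inf_le_left).hom.toAlgebra
  letI algSY : Algebra Γ(S, US) Γ(Y, g ⁻¹ᵁ UX ⊓ iY ⁻¹ᵁ UT) :=
    ((iX.appLE US UX hUSX) ≫ (g.appLE UX (g ⁻¹ᵁ UX ⊓ iY ⁻¹ᵁ UT) inf_le_left)).hom.toAlgebra
  haveI : IsScalarTower Γ(S, US) Γ(X, UX) Γ(Y, g ⁻¹ᵁ UX ⊓ iY ⁻¹ᵁ UT) := .of_algebraMap_eq' rfl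
  haveI : IsScalarTower Γ(S, US) Γ(T, UT) Γ(Y, g ⁻¹ᵁ UX ⊓ iY ⁻¹ᵁ UT) := by
    refine .of_algebraMap_eq' ?_
    change ((iX.appLE US UX hUSX) ≫ (g.appLE UX (g ⁻¹ᵁ UX ⊓ iY ⁻¹ᵁ UT) inf_le_left)).hom =
      ((f.appLE US UT hUST) ≫ (iY.appLE UT (g ⁻¹ᵁ UX ⊓ iY ⁻¹ᵁ UT) inf_le_right)).hom
    congr 1
    simp only [Scheme.Hom.appLE_comp_appLE, H.w]
  have hiso := isIso_pushoutSection_of_isAffineOpen H hUST hUSX rfl hUS hUT hUX
  have hpo := (isIso_pushoutSection_iff H hUST hUSX rfl).1 hiso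
  haveI hP : Algebra.IsPushout Γ(S, US) Γ(X, UX) Γ(T, UT) Γ(Y, g ⁻¹ᵁ UX ⊓ iY ⁻¹ᵁ UT) :=
    (CommRingCat.isPushout_iff_isPushout).1 hpo
  letI algXB : Algebra Γ(X, UX) Γ(Y, Y.basicOpen b') :=
    (g.appLE UX (Y.basicOpen b') ((Y.basicOpen_le b').trans inf_le_left)).hom.toAlgebra
  haveI : IsScalarTower Γ(X, UX) Γ(Y, g ⁻¹ᵁ UX ⊓ iY ⁻¹ᵁ UT) Γ(Y, Y.basicOpen b') := by
    refine .of_algebraMap_eq' ?_
    change (g.appLE UX (Y.basicOpen b') ((Y.basicOpen_le b').trans inf_le_left)).hom =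
      ((g.appLE UX (g ⁻¹ᵁ UX ⊓ iY ⁻¹ᵁ UT) inf_le_left) ≫
        Y.presheaf.map (homOfLE (Y.basicOpen_le b')).op).hom
    congr 1
    rw [Scheme.Hom.appLE_map]
  haveI : IsLocalization.Away b' Γ(Y, Y.basicOpen b') :=
    (isAffineOpen_inf H hUST hUSX hUS hUT hUX).isLocalization_basicOpen b'
  exact jointInj_of_isPushout hk (A := Γ(X, UX)) (C := Γ(T, UT))
    (P := Γ(Y, g ⁻¹ᵁ UX ⊓ iY ⁻¹ᵁ UT)) (B := Γ(Y, Y.basicOpen b')) b'

end Pushout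

section Field

variable {k : Type u} [Field k] {X S' : Scheme.{u}}

theorem exists_jointInj (p : X ⟶ Spec (CommRingCat.of k)) (q : S' ⟶ Spec (CommRingCat.of k))
    (x' : ↥(pullback p q)) (V' : (pullback p q).Opens) (hx' : x' ∈ V') :
    ∃ (U' : (pullback p q).Opens) (U : X.Opens) (_ : IsAffineOpen U') (_ : IsAffineOpen U)
      (e : U' ≤ (pullback.fst p q) ⁻¹ᵁ U), x' ∈ U' ∧ U' ≤ V' ∧
      letI := ((pullback.fst p q).appLE U U' e).hom.toAlgebra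
      JointInj Γ(X, U) Γ(pullback p q, U') := by
  have H : IsPullback (pullback.fst p q) (pullback.snd p q) p q := IsPullback.of_hasPullback p q
  obtain ⟨U, hU, hxU, -⟩ := exists_isAffineOpen_mem_and_subset (x := pullback.fst p q x')
    (U := ⊤) (TopologicalSpace.Opens.mem_top _)
  obtain ⟨W, hW, hxW, -⟩ := exists_isAffineOpen_mem_and_subset (x := pullback.snd p q x')
    (U := ⊤) (TopologicalSpace.Opens.mem_top _)
  have hUST : W ≤ q ⁻¹ᵁ ⊤ := le_top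
  have hUSX : U ≤ p ⁻¹ᵁ ⊤ := le_top
  have hUS : IsAffineOpen (⊤ : (Spec (CommRingCat.of k)).Opens) := isAffineOpen_top _
  have hUY := isAffineOpen_inf H hUST hUSX hUS hW hU
  have hx'UY : x' ∈ (pullback.fst p q) ⁻¹ᵁ U ⊓ (pullback.snd p q) ⁻¹ᵁ W := ⟨hxU, hxW⟩
  obtain ⟨b', hb'le, hxb'⟩ := hUY.exists_basicOpen_le (V := V') ⟨x', hx'⟩ hx'UY
  refine ⟨(pullback p q).basicOpen b', U, hUY.basicOpen b', hU,
    ((pullback p q).basicOpen_le b').trans inf_le_left, hxb', hb'le, ?_⟩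
  exact jointInj_of_isPullback H hUST hUSX hUS hW hU (isField_Γ_Spec k) b'

theorem main (p : X ⟶ Spec (CommRingCat.of k)) (q : S' ⟶ Spec (CommRingCat.of k))
    (F : X.Modules) [F.IsQuasicoherent] {ι : Type u}
    (G : ι → X.Modules) [∀ i, (G i).IsQuasicoherent] (u : ∀ i, F ⟶ G i)
    (h : ∀ (V : X.Opens) (t : Γ(F, V)), (∀ i, (u i).app V t = 0) → t = 0)
    (V : (pullback p q).Opens) (t : Γ((Scheme.Modules.pullback (pullback.fst p q)).obj F, V))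
    (ht : ∀ i, ((Scheme.Modules.pullback (pullback.fst p q)).map (u i)).app V t = 0) : t = 0 := by
  refine sep_of_local (pullback.fst p q) F G u ?_ V t ht
  intro x' V' hx'
  obtain ⟨U', U, hU', hU, e, hxU', hU'le, hJ⟩ := exists_jointInj p q x' V' hx'
  refine ⟨U', U, hU', hU, e, hxU', hU'le, ?_⟩
  intro z hz
  exact hJ ι Γ(F, U) (fun i => Γ(G i, U)) (fun i => appLinear (u i) U)
    (sep_sections F G u h hU) z hz

end Field

end Groth.Agent.H3.SepField
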