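import Mathlib
import Groth.Agent.Lib.Helper3.SepField4
import Groth.Agent.Lib.Helper3.SchDomLfp

set_option autoImplicit false

universe u

open AlgebraicGeometry CategoryTheory CategoryTheory.Limits Opposite TensorProduct TopologicalSpace

namespace Groth.Agent.H3.SepField

open Groth.Agent.H2.SchDense Groth.Agent.H3.SepGF Groth.Agent.H3.SchDomLfp

theorem isPullback_map {X S' B Z : Scheme.{u}} (p : X ⟶ B) (q : S' ⟶ B) (f : Z ⟶ X) :
    IsPullback (pullback.fst (f ≫ p) q)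
      (pullback.map (f ≫ p) q p q f (𝟙 S') (𝟙 _) (Category.comp_id _)
        ((Category.comp_id _).trans (Category.id_comp _).symm)) f (pullback.fst p q) := by
  refine IsPullback.flip ?_
  refine IsPullback.of_right (h₁₂ := pullback.snd p q) (v₁₃ := q) (h₂₂ := p) ?_ ?_
    (IsPullback.of_hasPullback p q).flip
  · have : pullback.map (f ≫ p) q p q f (𝟙 S') (𝟙 _) (Category.comp_id _)
        ((Category.comp_id _).trans (Category.id_comp _).symm) ≫ pullback.snd p q =
        pullback.snd (f ≫ p) q := by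
      rw [pullback.lift_snd, Category.comp_id]
    rw [this]
    exact (IsPullback.of_hasPullback (f ≫ p) q).flip
  · rw [pullback.lift_fst]

variable {k : Type u} [Field k] {X S' : Scheme.{u}}

theorem main_schDom (p : X ⟶ Spec (CommRingCat.of k)) (q : S' ⟶ Spec (CommRingCat.of k))
    {ι : Type u} (Z : ι → Scheme.{u}) (f : ∀ i, Z i ⟶ X)
    (h : ∀ (V : X.Opens) (t : Γ(X, V)), (∀ i, (f i).app V t = 0) → t = 0)
    (V : (pullback p q).Opens) (t : Γ(pullback p q, V))
    (ht : ∀ i, (pullback.map (f i ≫ p) q p q (f i) (𝟙 S') (𝟙 _) (Category.comp_id _)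
      ((Category.comp_id _).trans (Category.id_comp _).symm)).app V t = 0) : t = 0 := by
  apply eq_zero_of_locally
  intro x' hx'
  obtain ⟨W', W, hW', hW, e, hxW', hW'V, hJ⟩ := exists_jointInj p q x' V hx'
  refine ⟨W', hW'V, hxW', ?_⟩
  letI : Algebra Γ(X, W) Γ(pullback p q, W') := ((pullback.fst p q).appLE W W' e).hom.toAlgebra
  letI : ∀ j : (Σ i : ι, {Z₀ : (Z i).Opens // IsAffineOpen Z₀ ∧ Z₀ ≤ (f i) ⁻¹ᵁ W}),
      Algebra Γ(X, W) Γ(Z j.1, j.2.1) :=
    fun j => ((f j.1).appLE W j.2.1 j.2.2.2).hom.toAlgebra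
  set t' : Γ(pullback p q, W') := (pullback p q).presheaf.map (homOfLE hW'V).op t with ht'
  have hz : ∀ j : (Σ i : ι, {Z₀ : (Z i).Opens // IsAffineOpen Z₀ ∧ Z₀ ≤ (f i) ⁻¹ᵁ W}),
      (Algebra.linearMap Γ(X, W) Γ(Z j.1, j.2.1)).baseChange Γ(pullback p q, W')
        (t' ⊗ₜ[Γ(X, W)] (1 : Γ(X, W))) = 0 := by
    rintro ⟨i, Z₀, hZ₀, hZ₀W⟩
    rw [LinearMap.baseChange_tmul, Algebra.linearMap_apply, map_one]
    refine tmul_one_eq_zero (isPullback_map p q (f i)) e hZ₀W hW hW' hZ₀ t' ?_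
    rw [ht', ← ConcreteCategory.comp_apply, Scheme.Hom.map_appLE]
    set m := pullback.map (f i ≫ p) q p q (f i) (𝟙 S') (𝟙 _) (Category.comp_id _)
      ((Category.comp_id _).trans (Category.id_comp _).symm) with hm
    have h1 : m.appLE V
        ((pullback.fst (f i ≫ p) q) ⁻¹ᵁ Z₀ ⊓ m ⁻¹ᵁ W')
        (inf_le_right.trans (m.preimage_mono hW'V)) =
        m.app V ≫ (pullback (f i ≫ p) q).presheaf.map
          (homOfLE (inf_le_right.trans (m.preimage_mono hW'V))).op := rfl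
    rw [h1, ConcreteCategory.comp_apply, ht i, map_zero]
  have hzero := hJ _ Γ(X, W) _ _ (sep_of_schDom Z f h hW) (t' ⊗ₜ[Γ(X, W)] (1 : Γ(X, W))) hz
  have h3 := congrArg (TensorProduct.rid Γ(X, W) Γ(pullback p q, W')) hzero
  rw [TensorProduct.rid_tmul, one_smul, map_zero] at h3
  exact h3

end Groth.Agent.H3.SepField
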