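import Mathlib

set_option autoImplicit false

universe u

open TensorProduct

namespace Groth.Agent.H3.SepCol

section Basic

variable {A P₁ P₂ : Type u} [CommRing A] [CommRing P₁] [CommRing P₂] [Algebra A P₁] [Algebra A P₂]

lemma rTensor_algHom_smul (f : P₁ →ₐ[A] P₂) (N : Type u) [AddCommGroup N] [Module A N]
    (r : P₁) (x : P₁ ⊗[A] N) :
    f.toLinearMap.rTensor N (r • x) = f r • f.toLinearMap.rTensor N x := by
  induction x using TensorProduct.induction_on with
  | zero => simp
  | tmul r' n =>
    rw [TensorProduct.smul_tmul', LinearMap.rTensor_tmul, LinearMap.rTensor_tmul,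
      TensorProduct.smul_tmul', smul_eq_mul, smul_eq_mul, AlgHom.toLinearMap_apply,
      AlgHom.toLinearMap_apply, map_mul]
  | add x y hx hy => rw [smul_add, map_add, hx, hy, map_add, smul_add]

lemma rTensor_comp_lTensor_apply (f : P₁ →ₐ[A] P₂) {M N : Type u} [AddCommGroup M] [Module A M]
    [AddCommGroup N] [Module A N] (v : M →ₗ[A] N) (x : P₁ ⊗[A] M) :
    f.toLinearMap.rTensor N (v.lTensor P₁ x) = v.lTensor P₂ (f.toLinearMap.rTensor M x) := by
  rw [← LinearMap.comp_apply, ← LinearMap.comp_apply, LinearMap.rTensor_comp_lTensor,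
    LinearMap.lTensor_comp_rTensor]

end Basic

section Defs

/-- separation of torsion along powers of arbitrary elements of `P`, after base change to `P` -/
def TorsionSep (A P : Type u) [CommRing A] [CommRing P] [Algebra A P] {ι : Type u}
    (M : Type u) [AddCommGroup M] [Module A M] (N : ι → Type u) [∀ i, AddCommGroup (N i)]
    [∀ i, Module A (N i)] (v : ∀ i, M →ₗ[A] N i) : Prop :=
  ∀ (b : P) (y : P ⊗[A] M), (∀ i, ∃ n : ℕ, b ^ n • (v i).lTensor P y = 0) → ∃ n : ℕ, b ^ n • y = 0

/-- joint injectivity of the base change to `B` of a given family -/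
def JointInjFor (A B : Type u) [CommRing A] [CommRing B] [Algebra A B] {ι : Type u}
    (M : Type u) [AddCommGroup M] [Module A M] (N : ι → Type u) [∀ i, AddCommGroup (N i)]
    [∀ i, Module A (N i)] (v : ∀ i, M →ₗ[A] N i) : Prop :=
  ∀ z : B ⊗[A] M, (∀ i, (v i).lTensor B z = 0) → z = 0

variable {A P₁ P₂ : Type u} [CommRing A] [CommRing P₁] [CommRing P₂] [Algebra A P₁] [Algebra A P₂]
  {ι : Type u} {M : Type u} [AddCommGroup M] [Module A M] {N : ι → Type u}
  [∀ i, AddCommGroup (N i)] [∀ i, Module A (N i)] {v : ∀ i, M →ₗ[A] N i}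

lemma rTensor_symm_rTensor (e : P₁ ≃ₐ[A] P₂) (L : Type u) [AddCommGroup L] [Module A L]
    (x : P₂ ⊗[A] L) :
    e.toAlgHom.toLinearMap.rTensor L (e.symm.toAlgHom.toLinearMap.rTensor L x) = x := by
  rw [← LinearMap.comp_apply, ← LinearMap.rTensor_comp]
  have h3 : e.toAlgHom.toLinearMap ∘ₗ e.symm.toAlgHom.toLinearMap = LinearMap.id := by
    ext x; simp
  rw [h3, LinearMap.rTensor_id, LinearMap.id_apply]

theorem TorsionSep.of_algEquiv (e : P₁ ≃ₐ[A] P₂) (h : TorsionSep A P₁ M N v) :
    TorsionSep A P₂ M N v := by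
  intro b y hy
  obtain ⟨n, hn⟩ := h (e.symm b) (e.symm.toAlgHom.toLinearMap.rTensor M y) (by
    intro i
    obtain ⟨n, hn⟩ := hy i
    refine ⟨n, ?_⟩
    have := congrArg (e.symm.toAlgHom.toLinearMap.rTensor (N i)) hn
    rw [rTensor_algHom_smul, map_pow, rTensor_comp_lTensor_apply, map_zero] at this
    exact this)
  refine ⟨n, ?_⟩
  have := congrArg (e.toAlgHom.toLinearMap.rTensor M) hn
  rw [rTensor_algHom_smul, map_pow, map_zero, rTensor_symm_rTensor] at this
  simpa using this

theorem JointInjFor.of_algEquiv (e : P₁ ≃ₐ[A] P₂) (h : JointInjFor A P₁ M N v) :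
    JointInjFor A P₂ M N v := by
  intro z hz
  have h1 : (e.symm.toAlgHom.toLinearMap.rTensor M) z = 0 := by
    apply h
    intro i
    rw [← rTensor_comp_lTensor_apply, hz i, map_zero]
  have h2 := congrArg (e.toAlgHom.toLinearMap.rTensor M) h1
  rw [rTensor_symm_rTensor, map_zero] at h2
  exact h2

end Defs

section Loc

variable {A P : Type u} [CommRing A] [CommRing P] [Algebra A P]

/-- the localization map `P ⊗[A] M ⟶ P_b ⊗[A] M` -/
noncomputable abbrev loc (b : P) (M : Type u) [AddCommGroup M] [Module A M] :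
    P ⊗[A] M →ₗ[P] (Localization.Away b) ⊗[A] M :=
  AlgebraTensorModule.rTensor A M (Algebra.linearMap P (Localization.Away b))

lemma loc_tmul (b : P) (M : Type u) [AddCommGroup M] [Module A M] (r : P) (m : M) :
    loc (A := A) b M (r ⊗ₜ m) = algebraMap P (Localization.Away b) r ⊗ₜ m := rfl

lemma loc_natural (b : P) {M N : Type u} [AddCommGroup M] [Module A M] [AddCommGroup N]
    [Module A N] (v : M →ₗ[A] N) (x : P ⊗[A] M) :
    v.lTensor (Localization.Away b) (loc b M x) = loc b N (v.lTensor P x) := by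
  induction x using TensorProduct.induction_on with
  | zero => simp
  | tmul r m => rw [loc_tmul, LinearMap.lTensor_tmul, LinearMap.lTensor_tmul, loc_tmul]
  | add x y hx hy => rw [map_add, map_add, hx, hy, map_add, map_add]

theorem jointInjFor_away {ι : Type u} {M : Type u} [AddCommGroup M] [Module A M] {N : ι → Type u}
    [∀ i, AddCommGroup (N i)] [∀ i, Module A (N i)] {v : ∀ i, M →ₗ[A] N i}
    (h : TorsionSep A P M N v) (b : P) : JointInjFor A (Localization.Away b) M N v := by
  intro z hz
  obtain ⟨⟨y, s⟩, hs⟩ := IsLocalizedModule.surj (Submonoid.powers b) (loc (A := A) b M) z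
  have hs' : s • z = loc b M y := hs
  have hy : ∀ i, ∃ n : ℕ, b ^ n • (v i).lTensor P y = 0 := by
    intro i
    have h1 : loc b (N i) ((v i).lTensor P y) = 0 := by
      rw [← loc_natural, ← hs']
      have h2 : s • z = (algebraMap P (Localization.Away b) (s : P)) • z := by
        rw [algebraMap_smul]; rfl
      rw [h2, ← LinearMap.baseChange_eq_ltensor, map_smul, LinearMap.baseChange_eq_ltensor, hz i,
        smul_zero]
    obtain ⟨⟨_, n, rfl⟩, hn⟩ :=
      (IsLocalizedModule.eq_zero_iff (Submonoid.powers b) (loc b (N i))).1 h1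
    exact ⟨n, hn⟩
  obtain ⟨n, hn⟩ := h b y hy
  have h3 : loc b M y = 0 :=
    (IsLocalizedModule.eq_zero_iff (Submonoid.powers b) (loc b M)).2 ⟨⟨b ^ n, n, rfl⟩, hn⟩
  rw [h3] at hs'
  exact (IsLocalizedModule.smul_injective (loc b M) s)
    (show s • z = s • (0 : (Localization.Away b) ⊗[A] M) by rw [smul_zero]; exact hs')

/-- version for an arbitrary localization away from `b` -/
theorem jointInjFor_of_isLocalization {ι : Type u} {M : Type u} [AddCommGroup M] [Module A M]
    {N : ι → Type u}
    [∀ i, AddCommGroup (N i)] [∀ i, Module A (N i)] {v : ∀ i, M →ₗ[A] N i}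
    (h : TorsionSep A P M N v) (b : P) (B : Type u) [CommRing B] [Algebra P B] [Algebra A B]
    [IsScalarTower A P B] [IsLocalization.Away b B] : JointInjFor A B M N v :=
  JointInjFor.of_algEquiv
    ((IsLocalization.algEquiv (Submonoid.powers b) (Localization.Away b) B).restrictScalars A)
    (jointInjFor_away h b)

end Loc

end Groth.Agent.H3.SepCol
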