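import Mathlib
import Groth.Agent.Lib.Helper3.SepCol1

set_option autoImplicit false

universe u

open TensorProduct

namespace Groth.Agent.H3.SepCol

variable {k A C : Type u} [CommRing k] [CommRing A] [CommRing C] [Algebra k A] [Algebra k C]

/-- the comparison map `A ⊗ C₀ ⟶ A ⊗ C` for a subalgebra `C₀` of `C` -/
noncomputable def ψ (A : Type u) [CommRing A] [Algebra k A] (C₀ : Subalgebra k C) :
    A ⊗[k] C₀ →ₐ[A] A ⊗[k] C :=
  Algebra.TensorProduct.map (AlgHom.id A A) C₀.val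

lemma ψ_tmul (C₀ : Subalgebra k C) (a : A) (c : C₀) : ψ A C₀ (a ⊗ₜ c) = a ⊗ₜ (c : C) := rfl

lemma ψ_comp_inclusion {C₀ C₁ : Subalgebra k C} (h : C₀ ≤ C₁) :
    (ψ A C₁).comp (Algebra.TensorProduct.map (AlgHom.id A A) (Subalgebra.inclusion h)) = ψ A C₀ := by
  apply Algebra.TensorProduct.ext
  · ext
  · ext c
    rfl

lemma range_ψ_mono {C₀ C₁ : Subalgebra k C} (h : C₀ ≤ C₁) :
    (ψ A C₀).range ≤ (ψ A C₁).range := by
  rw [← ψ_comp_inclusion h]
  exact AlgHom.range_comp_le_range _ _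

lemma range_rTensor_ψ_mono {C₀ C₁ : Subalgebra k C} (h : C₀ ≤ C₁) (M : Type u) [AddCommGroup M]
    [Module A M] :
    LinearMap.range ((ψ A C₀).toLinearMap.rTensor M) ≤
      LinearMap.range ((ψ A C₁).toLinearMap.rTensor M) := by
  have : (ψ A C₀).toLinearMap = (ψ A C₁).toLinearMap ∘ₗ
      (Algebra.TensorProduct.map (AlgHom.id A A) (Subalgebra.inclusion h)).toLinearMap := by
    rw [← ψ_comp_inclusion h]
    rfl
  rw [this, LinearMap.rTensor_comp]
  exact LinearMap.range_comp_le_range _ _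

lemma exists_fg_mem_range_ψ (r : A ⊗[k] C) :
    ∃ C₀ : Subalgebra k C, C₀.FG ∧ r ∈ (ψ A C₀).range := by
  induction r using TensorProduct.induction_on with
  | zero => exact ⟨⊥, Subalgebra.fg_bot, zero_mem _⟩
  | tmul a c =>
    refine ⟨Algebra.adjoin k {c}, ?_, ?_⟩
    · have := Subalgebra.fg_adjoin_finset (R := k) ({c} : Finset C)
      simpa using this
    · exact ⟨a ⊗ₜ ⟨c, Algebra.subset_adjoin rfl⟩, rfl⟩
  | add x y hx hy =>
    obtain ⟨C₁, h1, hx⟩ := hx
    obtain ⟨C₂, h2, hy⟩ := hy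
    exact ⟨C₁ ⊔ C₂, h1.sup h2, add_mem (range_ψ_mono le_sup_left hx) (range_ψ_mono le_sup_right hy)⟩

lemma exists_fg_mem_range_rTensor_ψ (M : Type u) [AddCommGroup M] [Module A M]
    (y : (A ⊗[k] C) ⊗[A] M) :
    ∃ C₀ : Subalgebra k C, C₀.FG ∧ y ∈ LinearMap.range ((ψ A C₀).toLinearMap.rTensor M) := by
  induction y using TensorProduct.induction_on with
  | zero => exact ⟨⊥, Subalgebra.fg_bot, zero_mem _⟩
  | tmul r m =>
    obtain ⟨C₀, h0, r₀, rfl⟩ := exists_fg_mem_range_ψ r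
    exact ⟨C₀, h0, r₀ ⊗ₜ m, rfl⟩
  | add x y hx hy =>
    obtain ⟨C₁, h1, hx⟩ := hx
    obtain ⟨C₂, h2, hy⟩ := hy
    exact ⟨C₁ ⊔ C₂, h1.sup h2, add_mem (range_rTensor_ψ_mono le_sup_left M hx)
      (range_rTensor_ψ_mono le_sup_right M hy)⟩

section Flat

variable (N : Type u) [AddCommGroup N] [Module A N] [Module k N] [IsScalarTower k A N]

/-- `(A ⊗[k] D) ⊗[A] N ≃ N ⊗[k] D` -/
noncomputable def E (D : Type u) [AddCommGroup D] [Module k D] :
    (A ⊗[k] D) ⊗[A] N ≃ₗ[A] N ⊗[k] D :=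
  (TensorProduct.comm A (A ⊗[k] D) N) ≪≫ₗ (AlgebraTensorModule.cancelBaseChange k A A N D)

lemma E_tmul (D : Type u) [AddCommGroup D] [Module k D] (a : A) (d : D) (n : N) :
    E (A := A) N D ((a ⊗ₜ[k] d) ⊗ₜ[A] n) = (a • n) ⊗ₜ[k] d := by
  simp [E]

lemma E_natural (C₀ : Subalgebra k C) (x : (A ⊗[k] C₀) ⊗[A] N) :
    E N C ((ψ A C₀).toLinearMap.rTensor N x) = C₀.val.toLinearMap.lTensor N (E N C₀ x) := by
  induction x using TensorProduct.induction_on with
  | zero => simp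
  | tmul r n =>
    induction r using TensorProduct.induction_on with
    | zero => simp
    | tmul a c =>
      rw [LinearMap.rTensor_tmul, AlgHom.toLinearMap_apply, ψ_tmul, E_tmul, E_tmul,
        LinearMap.lTensor_tmul]
      rfl
    | add r s hr hs => rw [add_tmul, map_add, map_add, hr, hs, map_add, map_add]
  | add x y hx hy => rw [map_add, map_add, hx, hy, map_add, map_add]

lemma rTensor_ψ_injective [Module.Flat k N] (C₀ : Subalgebra k C) :
    Function.Injective ((ψ A C₀).toLinearMap.rTensor N) := by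
  intro x y hxy
  have h1 := congrArg (E N C) hxy
  rw [E_natural, E_natural] at h1
  have hinj : Function.Injective (C₀.val.toLinearMap.lTensor N) :=
    Module.Flat.lTensor_preserves_injective_linearMap _ Subtype.val_injective
  exact (E N C₀).injective (hinj h1)

end Flat

/-- if the family is torsion-separating after base change to every finitely generated subalgebra of
`C`, and the targets are flat over `k`, it is torsion-separating after base change to `C`. -/
theorem torsionSep_of_fg {ι : Type u} (M : Type u) [AddCommGroup M] [Module A M] (N : ι → Type u)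
    [∀ i, AddCommGroup (N i)] [∀ i, Module A (N i)] [∀ i, Module k (N i)]
    [∀ i, IsScalarTower k A (N i)] [∀ i, Module.Flat k (N i)] (v : ∀ i, M →ₗ[A] N i)
    (h : ∀ C₀ : Subalgebra k C, C₀.FG → TorsionSep A (A ⊗[k] C₀) M N v) :
    TorsionSep A (A ⊗[k] C) M N v := by
  intro b y hy
  obtain ⟨C₁, h1, hb⟩ := exists_fg_mem_range_ψ b
  obtain ⟨C₂, h2, hy2⟩ := exists_fg_mem_range_rTensor_ψ M y
  obtain ⟨b₀, rfl⟩ := range_ψ_mono (le_sup_left : C₁ ≤ C₁ ⊔ C₂) hb
  obtain ⟨y₀, rfl⟩ := range_rTensor_ψ_mono (le_sup_right : C₂ ≤ C₁ ⊔ C₂) M hy2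
  obtain ⟨n, hn⟩ := h (C₁ ⊔ C₂) (h1.sup h2) b₀ y₀ (by
    intro i
    obtain ⟨n, hn⟩ := hy i
    refine ⟨n, rTensor_ψ_injective (N i) (C₁ ⊔ C₂) ?_⟩
    rw [map_zero, rTensor_algHom_smul, map_pow, rTensor_comp_lTensor_apply]
    exact hn)
  refine ⟨n, ?_⟩
  have := congrArg ((ψ A (C₁ ⊔ C₂)).toLinearMap.rTensor M) hn
  rw [rTensor_algHom_smul, map_pow, map_zero] at this
  exact this

end Groth.Agent.H3.SepCol
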