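import Mathlib
import Groth.Agent.Lib.Helper3.SepCol2

set_option autoImplicit false

universe u

open TensorProduct

namespace Groth.Agent.H3.SepNil

open Groth.Agent.H3.SepCol

section L1

variable {A : Type u} [CommRing A] {D L : Type u} [AddCommGroup D] [Module A D] [AddCommGroup L]
  [Module A L] {κ : Type u}

/-- joint injectivity after `- ⊗ D` implies joint injectivity after `- ⊗ L` when `L` is a direct sum
of copies of `D`. -/
theorem eq_zero_of_finsupp (e : L ≃ₗ[A] (κ →₀ D)) {ι : Type u} {M : Type u} [AddCommGroup M]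
    [Module A M] (N : ι → Type u) [∀ i, AddCommGroup (N i)] [∀ i, Module A (N i)]
    (v : ∀ i, M →ₗ[A] N i)
    (H : ∀ y : M ⊗[A] D, (∀ i, (v i).rTensor D y = 0) → y = 0)
    (z : M ⊗[A] L) (hz : ∀ i, (v i).rTensor L z = 0) : z = 0 := by
  have hy : ∀ j : κ, ((Finsupp.lapply j ∘ₗ e.toLinearMap).lTensor M) z = 0 := by
    intro j
    apply H
    intro i
    rw [← LinearMap.comp_apply, LinearMap.rTensor_comp_lTensor, ← LinearMap.lTensor_comp_rTensor,
      LinearMap.comp_apply, hz i, map_zero]
  classical
  have h1 : (e.lTensor M) z = 0 := by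
    apply (TensorProduct.finsuppRight A A M D κ).injective
    rw [map_zero]
    refine Finsupp.ext fun j => ?_
    rw [TensorProduct.finsuppRight_apply, Finsupp.zero_apply]
    have := hy j
    rw [LinearMap.lTensor_comp, LinearMap.comp_apply] at this
    exact this
  exact (e.lTensor M).injective (by rw [h1, map_zero])

end L1

section Core

variable {A : Type u} [CommRing A] (J : Ideal A)

/-- multiplication `M ⊗ I ⟶ M` -/
noncomputable def μ (I : Ideal A) (M : Type u) [AddCommGroup M] [Module A M] : M ⊗[A] I →ₗ[A] M :=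
  (TensorProduct.rid A M).toLinearMap ∘ₗ (I.subtype.restrictScalars A).lTensor M

lemma μ_tmul (I : Ideal A) (M : Type u) [AddCommGroup M] [Module A M] (m : M) (x : I) :
    μ I M (m ⊗ₜ x) = (x : A) • m := by
  simp [μ]

lemma μ_natural (I : Ideal A) {M N : Type u} [AddCommGroup M] [Module A M] [AddCommGroup N]
    [Module A N] (v : M →ₗ[A] N) (w : M ⊗[A] I) : μ I N (v.rTensor I w) = v (μ I M w) := by
  induction w using TensorProduct.induction_on with
  | zero => simp
  | tmul m x => rw [LinearMap.rTensor_tmul, μ_tmul, μ_tmul, map_smul]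
  | add x y hx hy => rw [map_add, map_add, hx, hy, map_add, map_add]

lemma μ_injective (I : Ideal A) (N : Type u) [AddCommGroup N] [Module A N] [Module.Flat A N] :
    Function.Injective (μ I N) := by
  unfold μ
  rw [LinearMap.coe_comp]
  exact (TensorProduct.rid A N).injective.comp
    (Module.Flat.lTensor_preserves_injective_linearMap _ Subtype.val_injective)

lemma exists_μ_eq (I : Ideal A) (M : Type u) [AddCommGroup M] [Module A M] (m : M)
    (hm : m ∈ I • (⊤ : Submodule A M)) : ∃ w : M ⊗[A] I, μ I M w = m := by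
  refine Submodule.smul_induction_on hm ?_ ?_
  · intro r hr n _
    exact ⟨n ⊗ₜ ⟨r, hr⟩, by rw [μ_tmul]⟩
  · rintro x y ⟨w₁, h₁⟩ ⟨w₂, h₂⟩
    exact ⟨w₁ + w₂, by rw [map_add, h₁, h₂]⟩

lemma μ_mem (I : Ideal A) (M : Type u) [AddCommGroup M] [Module A M] (t : M ⊗[A] I) :
    μ I M t ∈ I • (⊤ : Submodule A M) := by
  induction t using TensorProduct.induction_on with
  | zero => rw [map_zero]; exact zero_mem _
  | tmul m x =>
    rw [μ_tmul]
    exact Submodule.smul_mem_smul x.2 Submodule.mem_top
  | add x y hx hy => rw [map_add]; exact add_mem hx hy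

lemma μ_mem_of_mem (I : Ideal A) (M : Type u) [AddCommGroup M] [Module A M] (w : M ⊗[A] I)
    (hw : w ∈ J • (⊤ : Submodule A (M ⊗[A] I))) : μ I M w ∈ (J * I) • (⊤ : Submodule A M) := by
  refine Submodule.smul_induction_on hw ?_ ?_
  · intro r hr t _
    rw [map_smul, Submodule.mul_smul]
    exact Submodule.smul_mem_smul hr (μ_mem I M t)
  · intro x y hx hy
    rw [map_add]; exact add_mem hx hy

lemma leftComm_lTensor_mk (I : Ideal A) (M : Type u) [AddCommGroup M] [Module A M]
    (w : M ⊗[A] I) :
    TensorProduct.leftComm A M (A ⧸ J) I ((TensorProduct.mk A (A ⧸ J) I 1).lTensor M w) =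
      (1 : A ⧸ J) ⊗ₜ[A] w := by
  induction w using TensorProduct.induction_on with
  | zero => simp
  | tmul m x => rw [LinearMap.lTensor_tmul, TensorProduct.mk_apply, TensorProduct.leftComm_tmul]
  | add x y hx hy => rw [map_add, map_add, hx, hy, tmul_add]

theorem core_nil (hJ : IsNilpotent J)
    (hfree : ∀ k : ℕ, Module.Free (A ⧸ J) ((A ⧸ J) ⊗[A] ↥(J ^ k)))
    {ι : Type u} (M : Type u) [AddCommGroup M] [Module A M] (N : ι → Type u)
    [∀ i, AddCommGroup (N i)] [∀ i, Module A (N i)] [∀ i, Module.Flat A (N i)]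
    (v : ∀ i, M →ₗ[A] N i)
    (H : ∀ y : M ⊗[A] (A ⧸ J), (∀ i, (v i).rTensor (A ⧸ J) y = 0) → y = 0)
    (m : M) (hm : ∀ i, v i m = 0) : m = 0 := by
  have key : ∀ n : ℕ, m ∈ (J ^ n) • (⊤ : Submodule A M) := by
    intro n
    induction n with
    | zero =>
      rw [pow_zero, Ideal.one_eq_top, Submodule.top_smul]
      exact Submodule.mem_top
    | succ n ih =>
      obtain ⟨w, hw⟩ := exists_μ_eq (J ^ n) M m ih
      have hvw : ∀ i, (v i).rTensor ↥(J ^ n) w = 0 := by
        intro i
        apply μ_injective (J ^ n) (N i)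
        rw [μ_natural, hw, hm i, map_zero]
      haveI := hfree n
      have hz : (TensorProduct.mk A (A ⧸ J) ↥(J ^ n) 1).lTensor M w = 0 := by
        refine eq_zero_of_finsupp
          ((Module.Free.chooseBasis (A ⧸ J) ((A ⧸ J) ⊗[A] ↥(J ^ n))).repr.restrictScalars A)
          N v H _ ?_
        intro i
        rw [← LinearMap.comp_apply, LinearMap.rTensor_comp_lTensor,
          ← LinearMap.lTensor_comp_rTensor, LinearMap.comp_apply, hvw i, map_zero]
      have h1 : (1 : A ⧸ J) ⊗ₜ[A] w = 0 := by
        rw [← leftComm_lTensor_mk, hz, map_zero]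
      have h2 : w ∈ J • (⊤ : Submodule A (M ⊗[A] ↥(J ^ n))) := by
        have := congrArg (TensorProduct.quotTensorEquivQuotSMul (M ⊗[A] ↥(J ^ n)) J) h1
        rw [TensorProduct.quotTensorEquivQuotSMul_mk_one_tmul, map_zero,
          Submodule.Quotient.mk_eq_zero] at this
        exact this
      have h3 := μ_mem_of_mem J (J ^ n) M w h2
      rw [hw, ← pow_succ'] at h3
      exact h3
  obtain ⟨n, hn⟩ := hJ
  have := key n
  rw [hn, Ideal.zero_eq_bot, Submodule.bot_smul] at this
  exact (Submodule.mem_bot A).1 this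

end Core

section EN

variable {k A : Type u} [CommRing k] [CommRing A] [Algebra k A]

lemma E_natural' (D : Type u) [AddCommGroup D] [Module k D] {M N : Type u} [AddCommGroup M]
    [Module A M] [Module k M] [IsScalarTower k A M] [AddCommGroup N] [Module A N] [Module k N]
    [IsScalarTower k A N] (v : M →ₗ[A] N) (x : (A ⊗[k] D) ⊗[A] M) :
    E N D (v.lTensor (A ⊗[k] D) x) = (v.restrictScalars k).rTensor D (E M D x) := by
  induction x using TensorProduct.induction_on with
  | zero => simp
  | tmul r n =>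
    induction r using TensorProduct.induction_on with
    | zero => simp
    | tmul a c =>
      rw [LinearMap.lTensor_tmul, E_tmul, E_tmul, LinearMap.rTensor_tmul,
        LinearMap.restrictScalars_apply, map_smul]
    | add r s hr hs => rw [add_tmul, map_add, map_add, hr, hs, map_add, map_add]
  | add x y hx hy => rw [map_add, map_add, hx, hy, map_add, map_add]

/-- joint injectivity after `(A ⊗[k] D) ⊗[A] -` in the form `- ⊗[k] D` -/
theorem rTensor_form {D : Type u} [CommRing D] [Algebra k D] {ι : Type u} {M : Type u}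
    [AddCommGroup M]
    [Module A M] [Module k M] [IsScalarTower k A M] {N : ι → Type u} [∀ i, AddCommGroup (N i)]
    [∀ i, Module A (N i)] [∀ i, Module k (N i)] [∀ i, IsScalarTower k A (N i)]
    {v : ∀ i, M →ₗ[A] N i} (h : JointInjFor A (A ⊗[k] D) M N v)
    (y : M ⊗[k] D) (hy : ∀ i, ((v i).restrictScalars k).rTensor D y = 0) : y = 0 := by
  have h1 : (E (A := A) M D).symm y = 0 := by
    apply h
    intro i
    apply (E (A := A) (N i) D).injective
    rw [E_natural', LinearEquiv.apply_symm_apply, hy i, map_zero]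
  have := congrArg (E (A := A) M D) h1
  rwa [LinearEquiv.apply_symm_apply, map_zero] at this

end EN

end Groth.Agent.H3.SepNil
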