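import Mathlib
import Groth.Agent.Lib.Helper3.SepCol1
import Groth.Agent.Lib.Helper3.SepGF7
import Groth.Agent.Lib.Lead.QC.Pullback

set_option autoImplicit false

universe u

open AlgebraicGeometry CategoryTheory CategoryTheory.Limits Opposite TensorProduct TopologicalSpace

namespace Groth.Agent.H3.SepCol

open Groth.Agent.H3.SepGF Groth.Agent.LD.QC Groth.Agent.H5.Lim Groth.Agent.H3.SepArt

variable {X : Scheme.{u}}

/-- sections over the preimage of an affine open of `X` in `X ×_{Spec A} Spec B` -/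
theorem nonempty_algEquiv (A B : CommRingCat.{u}) (a : A ⟶ B) (p : X ⟶ Spec A) {U : X.Opens}
    (hU : IsAffineOpen U) [Algebra Γ(Spec A, ⊤) B]
    (hab : algebraMap Γ(Spec A, ⊤) B = ((Scheme.ΓSpecIso A).hom ≫ a).hom) :
    letI : Algebra Γ(Spec A, ⊤) Γ(X, U) := (p.appLE ⊤ U le_top).hom.toAlgebra
    letI : Algebra Γ(X, U) Γ(pullback p (Spec.map a), (pullback.fst p (Spec.map a)) ⁻¹ᵁ U) :=
      ((pullback.fst p (Spec.map a)).appLE U _ le_rfl).hom.toAlgebra
    IsAffineOpen ((pullback.fst p (Spec.map a)) ⁻¹ᵁ U) ∧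
    Nonempty (Γ(pullback p (Spec.map a), (pullback.fst p (Spec.map a)) ⁻¹ᵁ U) ≃ₐ[Γ(X, U)]
      Γ(X, U) ⊗[Γ(Spec A, ⊤)] B) := by
  have H : IsPullback (pullback.fst p (Spec.map a)) (pullback.snd p (Spec.map a)) p (Spec.map a) :=
    IsPullback.of_hasPullback p (Spec.map a)
  have hUST : (⊤ : (Spec B).Opens) ≤ (Spec.map a) ⁻¹ᵁ ⊤ := le_top
  have hUSX : U ≤ p ⁻¹ᵁ ⊤ := le_top
  have hUY : (pullback.fst p (Spec.map a)) ⁻¹ᵁ U =
      (pullback.fst p (Spec.map a)) ⁻¹ᵁ U ⊓ (pullback.snd p (Spec.map a)) ⁻¹ᵁ ⊤ := by simp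
  have hUS : IsAffineOpen (⊤ : (Spec A).Opens) := isAffineOpen_top _
  have hUT : IsAffineOpen (⊤ : (Spec B).Opens) := isAffineOpen_top _
  have hUY' : IsAffineOpen ((pullback.fst p (Spec.map a)) ⁻¹ᵁ U) := by
    have : IsAffine _ := hUS
    have : IsAffine _ := hUT
    have : IsAffine _ := hU
    exact .of_isIso (Scheme.Hom.isPullback_resLE H hUST hUSX hUY).isoPullback.hom
  refine ⟨hUY', ?_⟩
  letI algkR : Algebra Γ(Spec A, ⊤) Γ(X, U) := (p.appLE ⊤ U le_top).hom.toAlgebra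
  letI algRP : Algebra Γ(X, U) Γ(pullback p (Spec.map a), (pullback.fst p (Spec.map a)) ⁻¹ᵁ U) :=
      ((pullback.fst p (Spec.map a)).appLE U _ le_rfl).hom.toAlgebra
  letI algBP : Algebra B Γ(pullback p (Spec.map a), (pullback.fst p (Spec.map a)) ⁻¹ᵁ U) :=
    ((Scheme.ΓSpecIso B).inv ≫ (pullback.snd p (Spec.map a)).appLE ⊤ _ le_top).hom.toAlgebra
  letI algkP : Algebra Γ(Spec A, ⊤)
      Γ(pullback p (Spec.map a), (pullback.fst p (Spec.map a)) ⁻¹ᵁ U) :=
    (p.appLE ⊤ U le_top ≫ (pullback.fst p (Spec.map a)).appLE U _ le_rfl).hom.toAlgebra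
  haveI : IsScalarTower Γ(Spec A, ⊤) Γ(X, U)
      Γ(pullback p (Spec.map a), (pullback.fst p (Spec.map a)) ⁻¹ᵁ U) := .of_algebraMap_eq' rfl
  have hnat : (Spec.map a).appLE ⊤ ⊤ hUST ≫ (Scheme.ΓSpecIso B).hom =
      (Scheme.ΓSpecIso A).hom ≫ a := by
    rw [← Scheme.ΓSpecIso_naturality]
    congr 1
  have hkB : CommRingCat.ofHom (algebraMap Γ(Spec A, ⊤) B) = (Scheme.ΓSpecIso A).hom ≫ a := by
    ext x
    rw [CommRingCat.hom_ofHom, hab]
  haveI : IsScalarTower Γ(Spec A, ⊤) B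
      Γ(pullback p (Spec.map a), (pullback.fst p (Spec.map a)) ⁻¹ᵁ U) := by
    refine .of_algebraMap_eq' ?_
    rw [hab]
    change (p.appLE ⊤ U le_top ≫ (pullback.fst p (Spec.map a)).appLE U _ le_rfl).hom =
      (((Scheme.ΓSpecIso A).hom ≫ a) ≫ ((Scheme.ΓSpecIso B).inv ≫
        (pullback.snd p (Spec.map a)).appLE ⊤ _ le_top)).hom
    congr 1
    rw [← hnat]
    simp only [Category.assoc, Iso.hom_inv_id_assoc, Scheme.Hom.appLE_comp_appLE, H.w]
  have hiso := isIso_pushoutSection_of_isAffineOpen H hUST hUSX hUY hUS hUT hU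
  have hpo := (isIso_pushoutSection_iff H hUST hUSX hUY).1 hiso
  have hpo' : IsPushout (CommRingCat.ofHom (algebraMap Γ(Spec A, ⊤) Γ(X, U)))
      (CommRingCat.ofHom (algebraMap Γ(Spec A, ⊤) B))
      (CommRingCat.ofHom (algebraMap Γ(X, U)
        Γ(pullback p (Spec.map a), (pullback.fst p (Spec.map a)) ⁻¹ᵁ U)))
      (CommRingCat.ofHom (algebraMap B
        Γ(pullback p (Spec.map a), (pullback.fst p (Spec.map a)) ⁻¹ᵁ U))) := by
    refine hpo.of_iso (Iso.refl _) (Iso.refl _) (Scheme.ΓSpecIso B) (Iso.refl _) ?_ ?_ ?_ ?_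
    · simp only [Iso.refl_hom, Category.comp_id, Category.id_comp]
      rfl
    · rw [hkB, hnat]
      simp
    · simp only [Iso.refl_hom, Category.comp_id, Category.id_comp]
      rfl
    · simp only [Iso.refl_hom, Category.comp_id]
      change _ = (Scheme.ΓSpecIso B).hom ≫ ((Scheme.ΓSpecIso B).inv ≫
        (pullback.snd p (Spec.map a)).appLE ⊤ _ le_top)
      rw [Iso.hom_inv_id_assoc]
  haveI hP : Algebra.IsPushout Γ(Spec A, ⊤) Γ(X, U) B
      Γ(pullback p (Spec.map a), (pullback.fst p (Spec.map a)) ⁻¹ᵁ U) :=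
    (CommRingCat.isPushout_iff_isPushout).1 hpo'
  exact ⟨(Algebra.IsPushout.equiv Γ(Spec A, ⊤) Γ(X, U) B
      Γ(pullback p (Spec.map a), (pullback.fst p (Spec.map a)) ⁻¹ᵁ U)).symm⟩

/-- a separating pulled-back family gives torsion separation on sections over affine opens -/
theorem torsionSep_of_separating {X' : Scheme.{u}} (g : X' ⟶ X) (F : X.Modules) [F.IsQuasicoherent]
    {ι : Type u} (G : ι → X.Modules) [∀ i, (G i).IsQuasicoherent] (u : ∀ i, F ⟶ G i)
    (h' : ∀ (V : X'.Opens) (t : Γ((Scheme.Modules.pullback g).obj F, V)),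
      (∀ i, ((Scheme.Modules.pullback g).map (u i)).app V t = 0) → t = 0)
    {U : X.Opens} {U' : X'.Opens} (hU : IsAffineOpen U) (hU' : IsAffineOpen U')
    (e : U' ≤ g ⁻¹ᵁ U) :
    letI := (g.appLE U U' e).hom.toAlgebra
    TorsionSep Γ(X, U) Γ(X', U') Γ(F, U) (fun i => Γ(G i, U)) (fun i => appLinear (u i) U) := by
  letI : Algebra Γ(X, U) Γ(X', U') := (g.appLE U U' e).hom.toAlgebra
  haveI := qc_pullback g F
  haveI : ∀ i, ((Scheme.Modules.pullback g).obj (G i)).IsQuasicoherent := fun i =>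
    qc_pullback g (G i)
  have S := sep_sections ((Scheme.Modules.pullback g).obj F)
    (fun i => (Scheme.Modules.pullback g).obj (G i))
    (fun i => (Scheme.Modules.pullback g).map (u i)) h' hU'
  obtain ⟨e₀, -, h₀, -, -⟩ := pullback_map_app_equiv g hU' hU e (𝟙 F)
  intro b y hy
  obtain ⟨k, hk⟩ := S b (e₀ y) (by
    intro i
    obtain ⟨n, hn⟩ := hy i
    obtain ⟨e₁, e₂, h₁, -, hα⟩ := pullback_map_app_equiv g hU' hU e (u i)
    have he : ∀ w, e₁ w = e₀ w := by
      intro w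
      induction w using TensorProduct.induction_on with
      | zero => simp
      | tmul a m => rw [h₁, h₀]
      | add x y hx hy => rw [map_add, map_add, hx, hy]
    refine ⟨n, ?_⟩
    change b ^ n • ((Scheme.Modules.pullback g).map (u i)).app U' (e₀ y) = 0
    rw [← he, hα, ← map_smul, LinearMap.baseChange_eq_ltensor, hn, map_zero])
  refine ⟨k, e₀.injective ?_⟩
  rw [map_smul, map_zero]
  exact hk

end Groth.Agent.H3.SepCol
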