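import Mathlib
import Groth.Agent.Lib.Helper3.SepCol3

set_option autoImplicit false

universe u

open AlgebraicGeometry CategoryTheory CategoryTheory.Limits Opposite TensorProduct TopologicalSpace

namespace Groth.Agent.H3.SepNil

variable {X : Scheme.{u}}

/-- sections over the preimage of an affine open of `X` in `X ×_{Spec A} Spec B`, base ring `A` -/
theorem nonempty_algEquiv' (A B : CommRingCat.{u}) (a : A ⟶ B) (p : X ⟶ Spec A) {U : X.Opens}
    (hU : IsAffineOpen U) [Algebra A B] (hab : algebraMap A B = a.hom) :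
    letI : Algebra A Γ(X, U) := ((Scheme.ΓSpecIso A).inv ≫ p.appLE ⊤ U le_top).hom.toAlgebra
    letI : Algebra Γ(X, U) Γ(pullback p (Spec.map a), (pullback.fst p (Spec.map a)) ⁻¹ᵁ U) :=
      ((pullback.fst p (Spec.map a)).appLE U _ le_rfl).hom.toAlgebra
    IsAffineOpen ((pullback.fst p (Spec.map a)) ⁻¹ᵁ U) ∧
    Nonempty (Γ(pullback p (Spec.map a), (pullback.fst p (Spec.map a)) ⁻¹ᵁ U) ≃ₐ[Γ(X, U)]
      Γ(X, U) ⊗[A] B) := by
  have H : IsPullback (pullback.fst p (Spec.map a)) (pullback.snd p (Spec.map a)) p (Spec.map a) :=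
    IsPullback.of_hasPullback p (Spec.map a)
  have hUST : (⊤ : (Spec B).Opens) ≤ (Spec.map a) ⁻¹ᵁ ⊤ := le_top
  have hUSX : U ≤ p ⁻¹ᵁ ⊤ := le_top
  have hUY : (pullback.fst p (Spec.map a)) ⁻¹ᵁ U =
      (pullback.fst p (Spec.map a)) ⁻¹ᵁ U ⊓ (pullback.snd p (Spec.map a)) ⁻¹ᵁ ⊤ := by simp
  have hUS : IsAffineOpen (⊤ : (Spec A).Opens) := isAffineOpen_top _
  have hUT : IsAffineOpen (⊤ : (Spec B).Opens) := isAffineOpen_top _
  have hUY' : IsAffineOpen ((pullback.fst p (Spec.map a)) ⁻¹ᵁ U) := by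
    have : IsAffine _ := hUS
    have : IsAffine _ := hUT
    have : IsAffine _ := hU
    exact .of_isIso (Scheme.Hom.isPullback_resLE H hUST hUSX hUY).isoPullback.hom
  refine ⟨hUY', ?_⟩
  letI algkR : Algebra A Γ(X, U) := ((Scheme.ΓSpecIso A).inv ≫ p.appLE ⊤ U le_top).hom.toAlgebra
  letI algRP : Algebra Γ(X, U) Γ(pullback p (Spec.map a), (pullback.fst p (Spec.map a)) ⁻¹ᵁ U) :=
      ((pullback.fst p (Spec.map a)).appLE U _ le_rfl).hom.toAlgebra
  letI algBP : Algebra B Γ(pullback p (Spec.map a), (pullback.fst p (Spec.map a)) ⁻¹ᵁ U) :=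
    ((Scheme.ΓSpecIso B).inv ≫ (pullback.snd p (Spec.map a)).appLE ⊤ _ le_top).hom.toAlgebra
  letI algkP : Algebra A
      Γ(pullback p (Spec.map a), (pullback.fst p (Spec.map a)) ⁻¹ᵁ U) :=
    (((Scheme.ΓSpecIso A).inv ≫ p.appLE ⊤ U le_top) ≫
      (pullback.fst p (Spec.map a)).appLE U _ le_rfl).hom.toAlgebra
  haveI : IsScalarTower A Γ(X, U)
      Γ(pullback p (Spec.map a), (pullback.fst p (Spec.map a)) ⁻¹ᵁ U) := .of_algebraMap_eq' rfl
  have hnat : (Spec.map a).appLE ⊤ ⊤ hUST ≫ (Scheme.ΓSpecIso B).hom =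
      (Scheme.ΓSpecIso A).hom ≫ a := by
    rw [← Scheme.ΓSpecIso_naturality]
    congr 1
  have hnat' : (Scheme.ΓSpecIso A).inv ≫ (Spec.map a).appLE ⊤ ⊤ hUST =
      a ≫ (Scheme.ΓSpecIso B).inv := by
    rw [Iso.inv_comp_eq, ← Category.assoc, Iso.eq_comp_inv]
    exact hnat
  have hkB : CommRingCat.ofHom (algebraMap A B) = a := by
    ext x
    rw [CommRingCat.hom_ofHom, hab]
  haveI : IsScalarTower A B
      Γ(pullback p (Spec.map a), (pullback.fst p (Spec.map a)) ⁻¹ᵁ U) := by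
    refine .of_algebraMap_eq' ?_
    rw [hab]
    change (((Scheme.ΓSpecIso A).inv ≫ p.appLE ⊤ U le_top) ≫
      (pullback.fst p (Spec.map a)).appLE U _ le_rfl).hom =
      (a ≫ ((Scheme.ΓSpecIso B).inv ≫
        (pullback.snd p (Spec.map a)).appLE ⊤ _ le_top)).hom
    congr 1
    rw [← Category.assoc a, ← hnat']
    simp only [Category.assoc, Scheme.Hom.appLE_comp_appLE, H.w]
  have hiso := isIso_pushoutSection_of_isAffineOpen H hUST hUSX hUY hUS hUT hU
  have hpo := (isIso_pushoutSection_iff H hUST hUSX hUY).1 hiso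
  have hpo' : IsPushout (CommRingCat.ofHom (algebraMap A Γ(X, U)))
      (CommRingCat.ofHom (algebraMap A B))
      (CommRingCat.ofHom (algebraMap Γ(X, U)
        Γ(pullback p (Spec.map a), (pullback.fst p (Spec.map a)) ⁻¹ᵁ U)))
      (CommRingCat.ofHom (algebraMap B
        Γ(pullback p (Spec.map a), (pullback.fst p (Spec.map a)) ⁻¹ᵁ U))) := by
    refine hpo.of_iso (Scheme.ΓSpecIso A) (Iso.refl _) (Scheme.ΓSpecIso B) (Iso.refl _) ?_ ?_ ?_ ?_
    · simp only [Iso.refl_hom, Category.comp_id]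
      change _ = (Scheme.ΓSpecIso A).hom ≫ ((Scheme.ΓSpecIso A).inv ≫ p.appLE ⊤ U le_top)
      rw [Iso.hom_inv_id_assoc]
    · rw [hkB, hnat]
    · simp only [Iso.refl_hom, Category.comp_id, Category.id_comp]
      rfl
    · simp only [Iso.refl_hom, Category.comp_id]
      change _ = (Scheme.ΓSpecIso B).hom ≫ ((Scheme.ΓSpecIso B).inv ≫
        (pullback.snd p (Spec.map a)).appLE ⊤ _ le_top)
      rw [Iso.hom_inv_id_assoc]
  haveI hP : Algebra.IsPushout A Γ(X, U) B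
      Γ(pullback p (Spec.map a), (pullback.fst p (Spec.map a)) ⁻¹ᵁ U) :=
    (CommRingCat.isPushout_iff_isPushout).1 hpo'
  exact ⟨(Algebra.IsPushout.equiv A Γ(X, U) B
      Γ(pullback p (Spec.map a), (pullback.fst p (Spec.map a)) ⁻¹ᵁ U)).symm⟩

end Groth.Agent.H3.SepNil
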