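import Mathlib
import Groth.Agent.Lib.Helper3.SepNil1
import Groth.Agent.Lib.Helper3.SepNil2
import Groth.Agent.Lib.Lead.QC.Flat
import Groth.Prelude.Def_FlatMod2

set_option autoImplicit false

universe u

open AlgebraicGeometry CategoryTheory CategoryTheory.Limits Opposite TensorProduct TopologicalSpace

namespace Groth.Agent.H3.SepNil

open Groth.Agent.H3.SepGF Groth.Agent.LD.QC Groth.Agent.H5.Lim Groth.Agent.H3.SepArt
  Groth.Agent.H3.SepCol

lemma flat_of_bijective_comp {A k R N : Type u} [CommRing A] [CommRing k] [CommRing R]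
    (σ : A →+* k) (hσ : Function.Bijective σ) (τ : k →+* R) [AddCommGroup N] [Module R N]
    (h : @Module.Flat k N _ _ (Module.compHom N τ)) :
    @Module.Flat A N _ _ (Module.compHom N (τ.comp σ)) := by
  letI : Algebra A k := σ.toAlgebra
  letI : Module k N := Module.compHom N τ
  letI : Module A N := Module.compHom N (τ.comp σ)
  haveI : IsScalarTower A k N := IsScalarTower.of_algebraMap_smul fun r m => rfl
  haveI : Module.Flat A k :=
    Module.Flat.of_linearEquiv (LinearEquiv.ofBijective (Algebra.linearMap A k) hσ).symm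
  exact Module.Flat.trans A k N

variable {X : Scheme.{u}}

theorem main (A : CommRingCat.{u}) (p : X ⟶ Spec A) (J : Ideal ↑A) (hJ : IsNilpotent J)
    (hfree : ∀ k : ℕ, Module.Free (↑A ⧸ J) ((↑A ⧸ J) ⊗[↑A] ↥(J ^ k)))
    (F : X.Modules) [F.IsQuasicoherent] {ι : Type u} (G : ι → X.Modules)
    [∀ i, (G i).IsQuasicoherent]
    (hG : ∀ i, FlatMod.IsFlatOver p (G i)) (u : ∀ i, F ⟶ G i)
    (h0 : ∀ (V : (pullback p (Spec.map (CommRingCat.ofHom (Ideal.Quotient.mk J)))).Opens)
      (t : Γ((Scheme.Modules.pullback (pullback.fst p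
        (Spec.map (CommRingCat.ofHom (Ideal.Quotient.mk J))))).obj F, V)),
      (∀ i, ((Scheme.Modules.pullback (pullback.fst p
        (Spec.map (CommRingCat.ofHom (Ideal.Quotient.mk J))))).map (u i)).app V t = 0) → t = 0)
    (V : X.Opens) (t : Γ(F, V)) (ht : ∀ i, (u i).app V t = 0) : t = 0 := by
  have hpt : ∀ x : V, ∃ W : X.Opens, ∃ hle : W ≤ V, x.1 ∈ W ∧
      F.presheaf.map (homOfLE hle).op t = 0 := by
    intro x
    obtain ⟨U, hU, hxU, hUV⟩ := exists_isAffineOpen_mem_and_subset (x := x.1) (U := V) x.2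
    have hUV' : U ≤ V := hUV
    refine ⟨U, hUV', hxU, ?_⟩
    set m : Γ(F, U) := F.presheaf.map (homOfLE hUV').op t with hm
    have hum : ∀ i, (u i).app U m = 0 := by
      intro i
      rw [hm, app_res, ht i, map_zero]
    letI algAR : Algebra A Γ(X, U) :=
      ((Scheme.ΓSpecIso A).inv ≫ p.appLE ⊤ U le_top).hom.toAlgebra
    letI modAM : Module A Γ(F, U) := Module.compHom Γ(F, U) (algebraMap A Γ(X, U))
    haveI : IsScalarTower A Γ(X, U) Γ(F, U) := IsScalarTower.of_algebraMap_smul fun r m => rfl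
    letI modAN : ∀ i, Module A Γ(G i, U) := fun i =>
      Module.compHom Γ(G i, U) (algebraMap A Γ(X, U))
    haveI : ∀ i, IsScalarTower A Γ(X, U) Γ(G i, U) := fun i =>
      IsScalarTower.of_algebraMap_smul fun r m => rfl
    haveI : ∀ i, Module.Flat A Γ(G i, U) := fun i =>
      flat_of_bijective_comp (Scheme.ΓSpecIso A).inv.hom
        (ConcreteCategory.bijective_of_isIso (Scheme.ΓSpecIso A).inv) (p.appLE ⊤ U le_top).hom
        (flat_sections_of_isFlatOverAt p (G i) hU (isAffineOpen_top _) le_top (fun x _ => hG i x))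
    obtain ⟨hUB, ⟨ε⟩⟩ := nonempty_algEquiv' A (CommRingCat.of (↑A ⧸ J))
      (CommRingCat.ofHom (Ideal.Quotient.mk J)) p hU rfl
    letI algRPB : Algebra Γ(X, U) Γ(pullback p (Spec.map (CommRingCat.ofHom (Ideal.Quotient.mk J))),
        (pullback.fst p (Spec.map (CommRingCat.ofHom (Ideal.Quotient.mk J)))) ⁻¹ᵁ U) :=
      ((pullback.fst p (Spec.map (CommRingCat.ofHom (Ideal.Quotient.mk J)))).appLE U _
        le_rfl).hom.toAlgebra
    have hT := torsionSep_of_separating
      (pullback.fst p (Spec.map (CommRingCat.ofHom (Ideal.Quotient.mk J)))) F G u h0 hU hUB le_rfl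
    have hT' : TorsionSep Γ(X, U) (Γ(X, U) ⊗[↑A] (↑A ⧸ J)) Γ(F, U) (fun i => Γ(G i, U))
        (fun i => appLinear (u i) U) := hT.of_algEquiv ε
    have hJI : JointInjFor Γ(X, U) (Γ(X, U) ⊗[↑A] (↑A ⧸ J)) Γ(F, U) (fun i => Γ(G i, U))
        (fun i => appLinear (u i) U) := by
      intro z hz
      obtain ⟨n, hn⟩ := hT' 1 z (fun i => ⟨0, by rw [hz i, smul_zero]⟩)
      rwa [one_pow, one_smul] at hn
    exact core_nil J hJ hfree Γ(F, U) (fun i => Γ(G i, U))
      (fun i => (appLinear (u i) U).restrictScalars A) (rTensor_form hJI) m hum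
  choose W hle hxW hres using hpt
  apply section_ext_of_cover F W hle ?_ t 0
  · intro x
    rw [hres x, map_zero]
  · intro x hx
    exact TopologicalSpace.Opens.mem_iSup.2 ⟨⟨x, hx⟩, hxW ⟨x, hx⟩⟩

end Groth.Agent.H3.SepNil
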