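import Mathlib
import Groth.Agent.Lib.Helper3.SepNil3
import Groth.Agent.Lib.Helper3.SchDomField

set_option autoImplicit false

universe u

open AlgebraicGeometry CategoryTheory CategoryTheory.Limits Opposite TensorProduct TopologicalSpace

namespace Groth.Agent.H3.SchDomNil

open Groth.Agent.H2.SchDense Groth.Agent.H3.SepGF Groth.Agent.H3.SchDomLfp Groth.Agent.H3.SepCol
  Groth.Agent.H3.SepNil Groth.Agent.H3.SepField

section Pushout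

variable {X Y S T : Scheme.{u}} {f : T ⟶ S} {g : Y ⟶ X} {iX : X ⟶ S} {iY : Y ⟶ T}

/-- converse of `tmul_one_eq_zero` -/
theorem appLE_eq_zero_of_tmul_one (H : IsPullback g iY iX f) {US : S.Opens} {UT : T.Opens}
    {UX : X.Opens}
    (hUST : UT ≤ f ⁻¹ᵁ US) (hUSX : UX ≤ iX ⁻¹ᵁ US)
    (hUS : IsAffineOpen US) (hUT : IsAffineOpen UT) (hUX : IsAffineOpen UX) (b : Γ(T, UT))
    (hb : letI := (f.appLE US UT hUST).hom.toAlgebra
      letI := (iX.appLE US UX hUSX).hom.toAlgebra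
      (b ⊗ₜ[Γ(S, US)] (1 : Γ(X, UX))) = 0) :
    iY.appLE UT (g ⁻¹ᵁ UX ⊓ iY ⁻¹ᵁ UT) inf_le_right b = 0 := by
  letI algST : Algebra Γ(S, US) Γ(T, UT) := (f.appLE US UT hUST).hom.toAlgebra
  letI algSX : Algebra Γ(S, US) Γ(X, UX) := (iX.appLE US UX hUSX).hom.toAlgebra
  letI algTY : Algebra Γ(T, UT) Γ(Y, g ⁻¹ᵁ UX ⊓ iY ⁻¹ᵁ UT) :=
    (iY.appLE UT (g ⁻¹ᵁ UX ⊓ iY ⁻¹ᵁ UT) inf_le_right).hom.toAlgebra
  letI algXY : Algebra Γ(X, UX) Γ(Y, g ⁻¹ᵁ UX ⊓ iY ⁻¹ᵁ UT) :=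
    (g.appLE UX (g ⁻¹ᵁ UX ⊓ iY ⁻¹ᵁ UT) inf_le_left).hom.toAlgebra
  letI algSY : Algebra Γ(S, US) Γ(Y, g ⁻¹ᵁ UX ⊓ iY ⁻¹ᵁ UT) :=
    ((iX.appLE US UX hUSX) ≫ (g.appLE UX (g ⁻¹ᵁ UX ⊓ iY ⁻¹ᵁ UT) inf_le_left)).hom.toAlgebra
  haveI : IsScalarTower Γ(S, US) Γ(X, UX) Γ(Y, g ⁻¹ᵁ UX ⊓ iY ⁻¹ᵁ UT) := .of_algebraMap_eq' rfl
  haveI : IsScalarTower Γ(S, US) Γ(T, UT) Γ(Y, g ⁻¹ᵁ UX ⊓ iY ⁻¹ᵁ UT) := by
    refine .of_algebraMap_eq' ?_
    change ((iX.appLE US UX hUSX) ≫ (g.appLE UX (g ⁻¹ᵁ UX ⊓ iY ⁻¹ᵁ UT) inf_le_left)).hom =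
      ((f.appLE US UT hUST) ≫ (iY.appLE UT (g ⁻¹ᵁ UX ⊓ iY ⁻¹ᵁ UT) inf_le_right)).hom
    congr 1
    simp only [Scheme.Hom.appLE_comp_appLE, H.w]
  have hiso := isIso_pushoutSection_of_isAffineOpen H hUST hUSX rfl hUS hUT hUX
  have hpo := (isIso_pushoutSection_iff H hUST hUSX rfl).1 hiso
  have hP : Algebra.IsPushout Γ(S, US) Γ(X, UX) Γ(T, UT) Γ(Y, g ⁻¹ᵁ UX ⊓ iY ⁻¹ᵁ UT) :=
    (CommRingCat.isPushout_iff_isPushout).1 hpo
  haveI hP' : Algebra.IsPushout Γ(S, US) Γ(T, UT) Γ(X, UX) Γ(Y, g ⁻¹ᵁ UX ⊓ iY ⁻¹ᵁ UT) := hP.symm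
  have := congrArg (Algebra.IsPushout.equiv Γ(S, US) Γ(T, UT) Γ(X, UX)
    Γ(Y, g ⁻¹ᵁ UX ⊓ iY ⁻¹ᵁ UT)) hb
  rw [Algebra.IsPushout.equiv_tmul, map_one, mul_one, map_zero] at this
  exact this

end Pushout

section Alg

variable {k A : Type u} [CommRing k] [CommRing A] [Algebra k A]

lemma E_tmul_one (D : Type u) [AddCommGroup D] [Module k D] (N : Type u) [CommRing N]
    [Algebra A N] [Algebra k N] [IsScalarTower k A N] (y : A ⊗[k] D) :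
    E N D (y ⊗ₜ[A] (1 : N)) = ((Algebra.linearMap A N).restrictScalars k).rTensor D y := by
  induction y using TensorProduct.induction_on with
  | zero => simp
  | tmul a d =>
    rw [E_tmul, LinearMap.rTensor_tmul, LinearMap.restrictScalars_apply, Algebra.linearMap_apply,
      Algebra.smul_def, mul_one]
  | add x y hx hy => rw [add_tmul, map_add, hx, hy, map_add]

end Alg

section Main

variable {X : Scheme.{u}}

theorem main (A : CommRingCat.{u}) (p : X ⟶ Spec A) (J : Ideal ↑A) (hJ : IsNilpotent J)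
    (hfree : ∀ k : ℕ, Module.Free (↑A ⧸ J) ((↑A ⧸ J) ⊗[↑A] ↥(J ^ k)))
    {ι : Type u} (Z : ι → Scheme.{u}) (v : ∀ i, Z i ⟶ X) [∀ i, Flat (v i ≫ p)]
    (h0 : ∀ (V : (pullback p (Spec.map (CommRingCat.ofHom (Ideal.Quotient.mk J)))).Opens)
      (t : Γ(pullback p (Spec.map (CommRingCat.ofHom (Ideal.Quotient.mk J))), V)),
      (∀ i, (pullback.map (v i ≫ p) (Spec.map (CommRingCat.ofHom (Ideal.Quotient.mk J))) p
        (Spec.map (CommRingCat.ofHom (Ideal.Quotient.mk J))) (v i) (𝟙 _) (𝟙 _)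
        (Category.comp_id _) ((Category.comp_id _).trans (Category.id_comp _).symm)).app V t = 0) →
        t = 0)
    (V : X.Opens) (t : Γ(X, V)) (ht : ∀ i, (v i).app V t = 0) : t = 0 := by
  apply eq_zero_of_locally
  intro x hx
  obtain ⟨U, hU, hxU, hUV⟩ := exists_isAffineOpen_mem_and_subset (x := x) (U := V) hx
  have hUV' : U ≤ V := hUV
  refine ⟨U, hUV', hxU, ?_⟩
  set m : Γ(X, U) := X.presheaf.map (homOfLE hUV').op t with hm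
  letI algAR : Algebra A Γ(X, U) :=
    ((Scheme.ΓSpecIso A).inv ≫ p.appLE ⊤ U le_top).hom.toAlgebra
  letI algRN : ∀ j : (Σ i : ι, {Z₀ : (Z i).Opens // IsAffineOpen Z₀ ∧ Z₀ ≤ (v i) ⁻¹ᵁ U}),
      Algebra Γ(X, U) Γ(Z j.1, j.2.1) :=
    fun j => ((v j.1).appLE U j.2.1 j.2.2.2).hom.toAlgebra
  letI algAN : ∀ j : (Σ i : ι, {Z₀ : (Z i).Opens // IsAffineOpen Z₀ ∧ Z₀ ≤ (v i) ⁻¹ᵁ U}),
      Algebra A Γ(Z j.1, j.2.1) :=
    fun j => (((Scheme.ΓSpecIso A).inv ≫ p.appLE ⊤ U le_top) ≫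
      (v j.1).appLE U j.2.1 j.2.2.2).hom.toAlgebra
  haveI : ∀ j : (Σ i : ι, {Z₀ : (Z i).Opens // IsAffineOpen Z₀ ∧ Z₀ ≤ (v i) ⁻¹ᵁ U}),
      IsScalarTower A Γ(X, U) Γ(Z j.1, j.2.1) := fun j => .of_algebraMap_eq' rfl
  haveI : ∀ j : (Σ i : ι, {Z₀ : (Z i).Opens // IsAffineOpen Z₀ ∧ Z₀ ≤ (v i) ⁻¹ᵁ U}),
      Module.Flat A Γ(Z j.1, j.2.1) := by
    rintro ⟨i, Z₀, hZ₀, hZ₀U⟩
    have h1 : ((v i ≫ p).appLE ⊤ Z₀ le_top).hom.Flat :=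
      HasRingHomProperty.appLE @Flat (v i ≫ p) inferInstance ⟨⊤, isAffineOpen_top _⟩ ⟨Z₀, hZ₀⟩
        le_top
    have h2 : (Scheme.ΓSpecIso A).inv.hom.Flat :=
      RingHom.Flat.of_bijective (ConcreteCategory.bijective_of_isIso (Scheme.ΓSpecIso A).inv)
    have h3 := RingHom.Flat.comp h2 h1
    have h4 : (p.appLE ⊤ U le_top ≫ (v i).appLE U Z₀ hZ₀U) = (v i ≫ p).appLE ⊤ Z₀ le_top := by
      rw [Scheme.Hom.appLE_comp_appLE]
    rw [← h4] at h3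
    exact h3
  have hvm : ∀ j : (Σ i : ι, {Z₀ : (Z i).Opens // IsAffineOpen Z₀ ∧ Z₀ ≤ (v i) ⁻¹ᵁ U}),
      ((Algebra.linearMap Γ(X, U) Γ(Z j.1, j.2.1)).restrictScalars A) m = 0 := by
    rintro ⟨i, Z₀, hZ₀, hZ₀U⟩
    change (v i).appLE U Z₀ hZ₀U m = 0
    rw [hm, ← ConcreteCategory.comp_apply, Scheme.Hom.map_appLE]
    have h1 : (v i).appLE V Z₀ (hZ₀U.trans ((v i).preimage_mono hUV')) =
        (v i).app V ≫ (Z i).presheaf.map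
          (homOfLE (hZ₀U.trans ((v i).preimage_mono hUV'))).op := rfl
    rw [h1, ConcreteCategory.comp_apply, ht i, map_zero]
  obtain ⟨hUB, ⟨ε⟩⟩ := nonempty_algEquiv' A (CommRingCat.of (↑A ⧸ J))
    (CommRingCat.ofHom (Ideal.Quotient.mk J)) p hU rfl
  letI algRPB : Algebra Γ(X, U) Γ(pullback p (Spec.map (CommRingCat.ofHom (Ideal.Quotient.mk J))),
      (pullback.fst p (Spec.map (CommRingCat.ofHom (Ideal.Quotient.mk J)))) ⁻¹ᵁ U) :=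
    ((pullback.fst p (Spec.map (CommRingCat.ofHom (Ideal.Quotient.mk J)))).appLE U _
      le_rfl).hom.toAlgebra
  refine core_nil J hJ hfree
    (ι := (Σ i : ι, {Z₀ : (Z i).Opens // IsAffineOpen Z₀ ∧ Z₀ ≤ (v i) ⁻¹ᵁ U})) Γ(X, U)
    (fun j => Γ(Z j.1, j.2.1))
    (fun j => (Algebra.linearMap Γ(X, U) Γ(Z j.1, j.2.1)).restrictScalars A) ?_ m hvm
  intro y hy
  have hs : ε.symm y = 0 := by
    apply h0
    intro i
    apply eq_zero_of_locally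
    intro z hz
    set mp := pullback.map (v i ≫ p) (Spec.map (CommRingCat.ofHom (Ideal.Quotient.mk J))) p
        (Spec.map (CommRingCat.ofHom (Ideal.Quotient.mk J))) (v i) (𝟙 _) (𝟙 _)
        (Category.comp_id _) ((Category.comp_id _).trans (Category.id_comp _).symm) with hmp
    have Hpb := isPullback_map p (Spec.map (CommRingCat.ofHom (Ideal.Quotient.mk J))) (v i)
    have hzU : (v i) (pullback.fst (v i ≫ p)
        (Spec.map (CommRingCat.ofHom (Ideal.Quotient.mk J))) z) ∈ U := by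
      have h1 : mp z ∈ (pullback.fst p (Spec.map (CommRingCat.ofHom (Ideal.Quotient.mk J)))) ⁻¹ᵁ U :=
        hz
      have h2 : (pullback.fst (v i ≫ p) (Spec.map (CommRingCat.ofHom (Ideal.Quotient.mk J))) ≫
          v i) z = (mp ≫ pullback.fst p (Spec.map (CommRingCat.ofHom (Ideal.Quotient.mk J)))) z := by
        rw [Hpb.w]
      rw [Scheme.Hom.comp_apply, Scheme.Hom.comp_apply] at h2
      rw [h2]
      exact h1
    obtain ⟨Z₀, hZ₀, hzZ₀, hZ₀U⟩ := exists_isAffineOpen_mem_and_subset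
      (x := pullback.fst (v i ≫ p) (Spec.map (CommRingCat.ofHom (Ideal.Quotient.mk J))) z)
      (U := (v i) ⁻¹ᵁ U) hzU
    refine ⟨(pullback.fst (v i ≫ p) (Spec.map (CommRingCat.ofHom (Ideal.Quotient.mk J)))) ⁻¹ᵁ Z₀ ⊓
      mp ⁻¹ᵁ ((pullback.fst p (Spec.map (CommRingCat.ofHom (Ideal.Quotient.mk J)))) ⁻¹ᵁ U),
      inf_le_right, ⟨hzZ₀, hz⟩, ?_⟩
    have hZ₀U' : Z₀ ≤ (v i) ⁻¹ᵁ U := hZ₀U
    letI algRN0 : Algebra Γ(X, U) Γ(Z i, Z₀) := ((v i).appLE U Z₀ hZ₀U').hom.toAlgebra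
    letI algAN0 : Algebra A Γ(Z i, Z₀) := (((Scheme.ΓSpecIso A).inv ≫ p.appLE ⊤ U le_top) ≫
      (v i).appLE U Z₀ hZ₀U').hom.toAlgebra
    haveI : IsScalarTower A Γ(X, U) Γ(Z i, Z₀) := .of_algebraMap_eq' rfl
    have key := appLE_eq_zero_of_tmul_one Hpb (le_rfl : (pullback.fst p
      (Spec.map (CommRingCat.ofHom (Ideal.Quotient.mk J)))) ⁻¹ᵁ U ≤ _) hZ₀U' hU hUB hZ₀ (ε.symm y) (by
        have hE := E_tmul_one (A := Γ(X, U)) (k := A) (↑A ⧸ J) Γ(Z i, Z₀) y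
        have hy' := hy ⟨i, Z₀, hZ₀, hZ₀U'⟩
        rw [hy'] at hE
        have h5 : (ε.toAlgHom.toLinearMap.rTensor Γ(Z i, Z₀))
            (ε.symm y ⊗ₜ[Γ(X, U)] (1 : Γ(Z i, Z₀))) = y ⊗ₜ[Γ(X, U)] (1 : Γ(Z i, Z₀)) := by
          rw [LinearMap.rTensor_tmul]
          simp
        have h6 : y ⊗ₜ[Γ(X, U)] (1 : Γ(Z i, Z₀)) = 0 :=
          (E (A := Γ(X, U)) Γ(Z i, Z₀) (↑A ⧸ J)).injective (by rw [hE, map_zero])
        rw [h6] at h5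
        have h7 : Function.Injective (ε.toAlgHom.toLinearMap.rTensor Γ(Z i, Z₀)) :=
          (LinearEquiv.rTensor Γ(Z i, Z₀) ε.toLinearEquiv).injective
        exact h7 (by rw [h5, map_zero]))
    exact key
  have := congrArg ε hs
  rwa [AlgEquiv.apply_symm_apply, map_zero] at this

end Main

end Groth.Agent.H3.SchDomNil
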