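import Mathlib
import Groth.Agent.Lib.Helper3.SepCol2
import Groth.Agent.Lib.Helper3.SepCol3
import Groth.Agent.Lib.Lead.QC.Flat
import Groth.Prelude.Def_FlatMod2

set_option autoImplicit false

universe u

open AlgebraicGeometry CategoryTheory CategoryTheory.Limits Opposite TensorProduct TopologicalSpace

namespace Groth.Agent.H3.SepCol

open Groth.Agent.H3.SepGF Groth.Agent.LD.QC Groth.Agent.H5.Lim Groth.Agent.H3.SepArt

variable {X : Scheme.{u}}

theorem main (A A' : CommRingCat.{u}) (φ : A ⟶ A') (p : X ⟶ Spec A) (F : X.Modules)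
    [F.IsQuasicoherent] {ι : Type u} (G : ι → X.Modules) [∀ i, (G i).IsQuasicoherent]
    (hG : ∀ i, FlatMod.IsFlatOver p (G i)) (u : ∀ i, F ⟶ G i)
    (hfg : ∀ (B : CommRingCat.{u}) (a : A ⟶ B) (b : B ⟶ A'), a ≫ b = φ →
      Function.Injective b.hom → a.hom.FiniteType →
      ∀ (V : (pullback p (Spec.map a)).Opens)
        (t : Γ((Scheme.Modules.pullback (pullback.fst p (Spec.map a))).obj F, V)),
        (∀ i, ((Scheme.Modules.pullback (pullback.fst p (Spec.map a))).map (u i)).app V t = 0) →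
          t = 0)
    (V : (pullback p (Spec.map φ)).Opens)
    (t : Γ((Scheme.Modules.pullback (pullback.fst p (Spec.map φ))).obj F, V))
    (ht : ∀ i, ((Scheme.Modules.pullback (pullback.fst p (Spec.map φ))).map (u i)).app V t = 0) :
    t = 0 := by
  refine sep_of_local (pullback.fst p (Spec.map φ)) F G u ?_ V t ht
  intro x' V' hx'
  obtain ⟨U, hU, hxU, -⟩ := exists_isAffineOpen_mem_and_subset
    (x := pullback.fst p (Spec.map φ) x') (U := ⊤) (TopologicalSpace.Opens.mem_top _)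
  letI algkA' : Algebra Γ(Spec A, ⊤) A' := ((Scheme.ΓSpecIso A).hom ≫ φ).hom.toAlgebra
  obtain ⟨hUY, ⟨εφ⟩⟩ := nonempty_algEquiv A A' φ p hU rfl
  have hx'UY : x' ∈ (pullback.fst p (Spec.map φ)) ⁻¹ᵁ U := hxU
  obtain ⟨b', hb'le, hxb'⟩ := hUY.exists_basicOpen_le (V := V') ⟨x', hx'⟩ hx'UY
  refine ⟨(pullback p (Spec.map φ)).basicOpen b', U, hUY.basicOpen b', hU,
    ((pullback p (Spec.map φ)).basicOpen_le b'), hxb', hb'le, ?_⟩
  letI algkR : Algebra Γ(Spec A, ⊤) Γ(X, U) := (p.appLE ⊤ U le_top).hom.toAlgebra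
  letI algRP : Algebra Γ(X, U) Γ(pullback p (Spec.map φ), (pullback.fst p (Spec.map φ)) ⁻¹ᵁ U) :=
      ((pullback.fst p (Spec.map φ)).appLE U _ le_rfl).hom.toAlgebra
  letI algRB : Algebra Γ(X, U) Γ(pullback p (Spec.map φ), (pullback p (Spec.map φ)).basicOpen b') :=
    ((pullback.fst p (Spec.map φ)).appLE U _
      ((pullback p (Spec.map φ)).basicOpen_le b')).hom.toAlgebra
  haveI : IsScalarTower Γ(X, U) Γ(pullback p (Spec.map φ), (pullback.fst p (Spec.map φ)) ⁻¹ᵁ U)
      Γ(pullback p (Spec.map φ), (pullback p (Spec.map φ)).basicOpen b') := by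
    refine .of_algebraMap_eq' ?_
    change ((pullback.fst p (Spec.map φ)).appLE U _
      ((pullback p (Spec.map φ)).basicOpen_le b')).hom =
      (((pullback.fst p (Spec.map φ)).appLE U _ le_rfl) ≫
        (pullback p (Spec.map φ)).presheaf.map
          (homOfLE ((pullback p (Spec.map φ)).basicOpen_le b')).op).hom
    congr 1
    rw [Scheme.Hom.appLE_map]
  haveI : IsLocalization.Away b'
      Γ(pullback p (Spec.map φ), (pullback p (Spec.map φ)).basicOpen b') :=
    hUY.isLocalization_basicOpen b'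
  letI modk : ∀ i, Module Γ(Spec A, ⊤) Γ(G i, U) := fun i => sectionsModuleOver p (G i) le_top
  haveI : ∀ i, IsScalarTower Γ(Spec A, ⊤) Γ(X, U) Γ(G i, U) := fun i =>
    IsScalarTower.of_algebraMap_smul fun r m => rfl
  haveI : ∀ i, Module.Flat Γ(Spec A, ⊤) Γ(G i, U) := fun i =>
    flat_sections_of_isFlatOverAt p (G i) hU (isAffineOpen_top _) le_top (fun x _ => hG i x)
  have hT' : TorsionSep Γ(X, U) (Γ(X, U) ⊗[Γ(Spec A, ⊤)] A') Γ(F, U) (fun i => Γ(G i, U))
      (fun i => appLinear (u i) U) := by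
    refine torsionSep_of_fg Γ(F, U) (fun i => Γ(G i, U)) (fun i => appLinear (u i) U) ?_
    intro C₀ hC₀
    have hab : (Scheme.ΓSpecIso A).inv ≫ CommRingCat.ofHom (algebraMap Γ(Spec A, ⊤) C₀) ≫
        CommRingCat.ofHom (C₀.val : C₀ →+* A') = φ := by
      have : CommRingCat.ofHom (algebraMap Γ(Spec A, ⊤) C₀) ≫
          CommRingCat.ofHom (C₀.val : C₀ →+* A') = (Scheme.ΓSpecIso A).hom ≫ φ := by
        ext x
        rfl
      exact (Iso.inv_comp_eq _).2 this
    have ha : ((Scheme.ΓSpecIso A).inv ≫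
        CommRingCat.ofHom (algebraMap Γ(Spec A, ⊤) C₀)).hom.FiniteType := by
      rw [CommRingCat.hom_comp]
      refine RingHom.FiniteType.comp ?_ ?_
      · change (algebraMap Γ(Spec A, ⊤) C₀).FiniteType
        rw [RingHom.finiteType_algebraMap]
        exact (Subalgebra.fg_iff_finiteType _).1 hC₀
      · apply RingHom.FiniteType.of_surjective
        exact (ConcreteCategory.bijective_of_isIso (Scheme.ΓSpecIso A).inv).2
    have hsepB := hfg (CommRingCat.of C₀)
      ((Scheme.ΓSpecIso A).inv ≫ CommRingCat.ofHom (algebraMap Γ(Spec A, ⊤) C₀))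
      (CommRingCat.ofHom (C₀.val : C₀ →+* A')) (by rw [Category.assoc]; exact hab)
      Subtype.val_injective ha
    obtain ⟨hUB, ⟨εB⟩⟩ := nonempty_algEquiv A (CommRingCat.of C₀)
      ((Scheme.ΓSpecIso A).inv ≫ CommRingCat.ofHom (algebraMap Γ(Spec A, ⊤) C₀)) p hU (by
        rw [Iso.hom_inv_id_assoc]; rfl)
    letI algRPB : Algebra Γ(X, U) Γ(pullback p (Spec.map ((Scheme.ΓSpecIso A).inv ≫
        CommRingCat.ofHom (algebraMap Γ(Spec A, ⊤) C₀))), (pullback.fst p (Spec.map
        ((Scheme.ΓSpecIso A).inv ≫ CommRingCat.ofHom (algebraMap Γ(Spec A, ⊤) C₀)))) ⁻¹ᵁ U) :=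
      ((pullback.fst p (Spec.map ((Scheme.ΓSpecIso A).inv ≫
        CommRingCat.ofHom (algebraMap Γ(Spec A, ⊤) C₀)))).appLE U _ le_rfl).hom.toAlgebra
    have hTB := torsionSep_of_separating (pullback.fst p (Spec.map ((Scheme.ΓSpecIso A).inv ≫
      CommRingCat.ofHom (algebraMap Γ(Spec A, ⊤) C₀)))) F G u hsepB hU hUB le_rfl
    exact hTB.of_algEquiv εB
  have hT := hT'.of_algEquiv εφ.symm
  have hJ := jointInjFor_of_isLocalization hT b'
    Γ(pullback p (Spec.map φ), (pullback p (Spec.map φ)).basicOpen b')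
  intro z hz
  exact hJ z (fun i => by rw [← LinearMap.baseChange_eq_ltensor]; exact hz i)

end Groth.Agent.H3.SepCol
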