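import Mathlib
import Groth.Agent.Lib.Helper3.SepNil1

set_option autoImplicit false

universe u

open TensorProduct

namespace Groth.Agent.H3.SepKrull

open Groth.Agent.H3.SepCol Groth.Agent.H3.SepNil

/-- flatness: if `1 ⊗ m = 0` in `B ⊗[A] M` then `1 ∈ Ann(m) B`, in equational form -/
theorem exists_of_one_tmul_eq_zero {A B M : Type u} [CommRing A] [CommRing B] [Algebra A B]
    [Module.Flat A B] [AddCommGroup M] [Module A M] (m : M)
    (h : (1 : B) ⊗ₜ[A] m = 0) :
    ∃ (k : ℕ) (a : Fin k → A) (y : Fin k → B), (1 : B) = ∑ j, a j • y j ∧ ∀ j, a j • m = 0 := by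
  have h' : ∑ i : Fin 1, (fun _ => m) i ⊗ₜ[A] (fun _ => (1 : B)) i = (0 : M ⊗[A] B) := by
    simp only [Finset.univ_unique, Finset.sum_singleton]
    have := congrArg (TensorProduct.comm A B M) h
    rw [TensorProduct.comm_tmul, map_zero] at this
    exact this
  have hinj : Function.Injective
      (LinearMap.rTensor B (Submodule.span A (Set.range (fun _ : Fin 1 => m))).subtype) :=
    Module.Flat.rTensor_preserves_injective_linearMap _ (Submodule.injective_subtype _)
  obtain ⟨k, a, y, h1, h2⟩ :=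
    TensorProduct.vanishesTrivially_of_sum_tmul_eq_zero_of_rTensor_injective A hinj h'
  refine ⟨k, a 0, y, h1 0, fun j => ?_⟩
  have := h2 j
  simpa using this

/-- vanishing of `1 ⊗ w` in `κ(𝔭) ⊗ T` -/
theorem exists_smul_mem_of_one_tmul_eq_zero {C : Type u} [CommRing C] (𝔭 : Ideal C) [𝔭.IsPrime]
    {T : Type u} [AddCommGroup T] [Module C T] (w : T)
    (h : (1 : 𝔭.ResidueField) ⊗ₜ[C] w = 0) :
    ∃ s : C, s ∉ 𝔭 ∧ s • w ∈ 𝔭 • (⊤ : Submodule C T) := by
  haveI : Module.Flat (C ⧸ 𝔭) 𝔭.ResidueField :=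
    IsLocalization.flat 𝔭.ResidueField (nonZeroDivisors (C ⧸ 𝔭))
  have h1 : (1 : 𝔭.ResidueField) ⊗ₜ[C ⧸ 𝔭] ((1 : C ⧸ 𝔭) ⊗ₜ[C] w) = 0 := by
    apply (AlgebraTensorModule.cancelBaseChange C (C ⧸ 𝔭) 𝔭.ResidueField 𝔭.ResidueField T).injective
    rw [AlgebraTensorModule.cancelBaseChange_tmul, one_smul, h, map_zero]
  obtain ⟨k, a, y, hsum, ha⟩ := exists_of_one_tmul_eq_zero (A := C ⧸ 𝔭) (B := 𝔭.ResidueField)
    ((1 : C ⧸ 𝔭) ⊗ₜ[C] w) h1
  have hex : ∃ j, a j ≠ 0 := by
    by_contra hcon
    push Not at hcon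
    have : (1 : 𝔭.ResidueField) = 0 := by
      rw [hsum]
      apply Finset.sum_eq_zero
      intro j _
      rw [hcon j, zero_smul]
    exact one_ne_zero this
  obtain ⟨j, hj⟩ := hex
  obtain ⟨s, hs⟩ := Ideal.Quotient.mk_surjective (a j)
  refine ⟨s, ?_, ?_⟩
  · intro hmem
    apply hj
    rw [← hs]
    exact Ideal.Quotient.eq_zero_iff_mem.2 hmem
  · have h2 := ha j
    rw [← hs, TensorProduct.smul_tmul', smul_eq_mul, mul_one] at h2
    have h3 := congrArg (TensorProduct.quotTensorEquivQuotSMul T 𝔭) h2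
    rw [TensorProduct.quotTensorEquivQuotSMul_mk_tmul, map_zero,
      Submodule.Quotient.mk_eq_zero] at h3
    exact h3

section Action

variable {C P : Type u} [CommRing C] [CommRing P] [Algebra C P]
  {M : Type u} [AddCommGroup M] [Module C M] [Module P M] [IsScalarTower C P M]

lemma lTensor_smul {Q Q' : Type u} [AddCommGroup Q] [Module C Q] [AddCommGroup Q'] [Module C Q']
    (f : Q →ₗ[C] Q') (b : P) (x : M ⊗[C] Q) : f.lTensor M (b • x) = b • f.lTensor M x := by
  induction x using TensorProduct.induction_on with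
  | zero => simp
  | tmul m q => rw [TensorProduct.smul_tmul', LinearMap.lTensor_tmul, LinearMap.lTensor_tmul,
      TensorProduct.smul_tmul']
  | add x y hx hy => rw [smul_add, map_add, hx, hy, map_add, smul_add]

lemma rTensor_smul {N : Type u} [AddCommGroup N] [Module C N] [Module P N] [IsScalarTower C P N]
    (v : M →ₗ[P] N) (Q : Type u) [AddCommGroup Q] [Module C Q] (b : P) (x : M ⊗[C] Q) :
    (v.restrictScalars C).rTensor Q (b • x) = b • (v.restrictScalars C).rTensor Q x := by
  induction x using TensorProduct.induction_on with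
  | zero => simp
  | tmul m q => rw [TensorProduct.smul_tmul', LinearMap.rTensor_tmul, LinearMap.rTensor_tmul,
      TensorProduct.smul_tmul', LinearMap.restrictScalars_apply, LinearMap.restrictScalars_apply,
      map_smul]
  | add x y hx hy => rw [smul_add, map_add, hx, hy, map_add, smul_add]

lemma μ_smul (I : Ideal C) (b : P) (w : M ⊗[C] I) : μ I M (b • w) = b • μ I M w := by
  induction w using TensorProduct.induction_on with
  | zero => simp
  | tmul m x => rw [TensorProduct.smul_tmul', μ_tmul, μ_tmul, smul_comm]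
  | add x y hx hy => rw [smul_add, map_add, hx, hy, map_add, smul_add]

end Action

end Groth.Agent.H3.SepKrull
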