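import Mathlib
import Groth.Agent.Lib.Helper3.SepKrull1

set_option autoImplicit false

universe u

open TensorProduct

namespace Groth.Agent.H3.SepKrull

open Groth.Agent.H3.SepCol Groth.Agent.H3.SepNil

lemma leftComm_lTensor_mk' {C : Type u} [CommRing C] (K : Type u) [AddCommGroup K] [Module C K]
    (k₀ : K) (I : Ideal C) (M : Type u) [AddCommGroup M] [Module C M] (w : M ⊗[C] I) :
    TensorProduct.leftComm C M K I ((TensorProduct.mk C K I k₀).lTensor M w) = k₀ ⊗ₜ[C] w := by
  induction w using TensorProduct.induction_on with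
  | zero => simp
  | tmul m x => rw [LinearMap.lTensor_tmul, TensorProduct.mk_apply, TensorProduct.leftComm_tmul]
  | add x y hx hy => rw [map_add, map_add, hx, hy, tmul_add]

section Core

variable {C P : Type u} [CommRing C] [CommRing P] [Algebra C P]
  {ι : Type u} {M : Type u} [AddCommGroup M] [Module C M] [Module P M] [IsScalarTower C P M]
  {N : ι → Type u} [∀ i, AddCommGroup (N i)] [∀ i, Module C (N i)] [∀ i, Module P (N i)]
  [∀ i, IsScalarTower C P (N i)]
  (v : ∀ i, M →ₗ[P] N i)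

/-- torsion separation on `M ⊗[C] K`, for the action of `P` on the left factor -/
def FormR (C : Type u) [CommRing C] [Algebra C P] [Module C M] [IsScalarTower C P M]
    [∀ i, Module C (N i)] [∀ i, IsScalarTower C P (N i)]
    (K : Type u) [AddCommGroup K] [Module C K] : Prop :=
  ∀ (b : P) (y : M ⊗[C] K),
    (∀ i, ∃ n : ℕ, b ^ n • ((v i).restrictScalars C).rTensor K y = 0) → ∃ n : ℕ, b ^ n • y = 0

variable {v}

theorem step [∀ i, Module.Flat C (N i)] (𝔭 : Ideal C) [𝔭.IsPrime]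
    (hF : FormR v C 𝔭.ResidueField) (b : P) (I : Ideal C)
    (m' : M) (hm' : m' ∈ I • (⊤ : Submodule C M)) (hv : ∀ i, ∃ n : ℕ, b ^ n • v i m' = 0) :
    ∃ s : C, s ∉ 𝔭 ∧ ∃ n : ℕ, s • b ^ n • m' ∈ (𝔭 * I) • (⊤ : Submodule C M) := by
  classical
  obtain ⟨w, hw⟩ := exists_μ_eq I M m' hm'
  have hvw : ∀ i, ∃ n : ℕ, b ^ n • ((v i).restrictScalars C).rTensor I w = 0 := by
    intro i
    obtain ⟨n, hn⟩ := hv i
    refine ⟨n, μ_injective I (N i) ?_⟩
    rw [μ_smul, μ_natural, hw, map_zero]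
    exact hn
  set z := (TensorProduct.mk C 𝔭.ResidueField I 1).lTensor M w with hzdef
  have hz : ∀ i, ∃ n : ℕ,
      b ^ n • ((v i).restrictScalars C).rTensor (𝔭.ResidueField ⊗[C] I) z = 0 := by
    intro i
    obtain ⟨n, hn⟩ := hvw i
    refine ⟨n, ?_⟩
    rw [hzdef, ← LinearMap.comp_apply, LinearMap.rTensor_comp_lTensor,
      ← LinearMap.lTensor_comp_rTensor, LinearMap.comp_apply, ← lTensor_smul, hn, map_zero]
  let e : 𝔭.ResidueField ⊗[C] I ≃ₗ[C]
      (Module.Free.ChooseBasisIndex 𝔭.ResidueField (𝔭.ResidueField ⊗[C] I) →₀ 𝔭.ResidueField) :=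
    (Module.Free.chooseBasis 𝔭.ResidueField (𝔭.ResidueField ⊗[C] I)).repr.restrictScalars C
  have hyj : ∀ j, ∃ n : ℕ, b ^ n • ((Finsupp.lapply j ∘ₗ e.toLinearMap).lTensor M) z = 0 := by
    intro j
    apply hF
    intro i
    obtain ⟨n, hn⟩ := hz i
    refine ⟨n, ?_⟩
    rw [← LinearMap.comp_apply, LinearMap.rTensor_comp_lTensor, ← LinearMap.lTensor_comp_rTensor,
      LinearMap.comp_apply, ← lTensor_smul, hn, map_zero]
  choose nj hnj using hyj
  set θ := TensorProduct.finsuppRight C C M 𝔭.ResidueField _ ((e.lTensor M) z) with hθ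
  have hθj : ∀ j, θ j = ((Finsupp.lapply j ∘ₗ e.toLinearMap).lTensor M) z := by
    intro j
    rw [hθ, TensorProduct.finsuppRight_apply, LinearMap.lTensor_comp, LinearMap.comp_apply]
    rfl
  set n := θ.support.sup nj with hn
  have hall : ∀ j, b ^ n • ((Finsupp.lapply j ∘ₗ e.toLinearMap).lTensor M) z = 0 := by
    intro j
    by_cases hj : j ∈ θ.support
    · have hle : nj j ≤ n := Finset.le_sup hj
      obtain ⟨d, hd⟩ := Nat.exists_eq_add_of_le hle
      rw [hd, pow_add, mul_comm, mul_smul, hnj j, smul_zero]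
    · rw [Finsupp.notMem_support_iff] at hj
      rw [← hθj, hj, smul_zero]
  have hbz : b ^ n • z = 0 := by
    apply (e.lTensor M).injective
    apply (TensorProduct.finsuppRight C C M 𝔭.ResidueField _).injective
    rw [map_zero, map_zero]
    refine Finsupp.ext fun j => ?_
    rw [TensorProduct.finsuppRight_apply, Finsupp.zero_apply]
    have h1 : (e.lTensor M) (b ^ n • z) = b ^ n • (e.lTensor M) z := lTensor_smul _ _ _
    rw [h1, lTensor_smul]
    have := hall j
    rw [LinearMap.lTensor_comp, LinearMap.comp_apply] at this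
    exact this
  have h1 : (1 : 𝔭.ResidueField) ⊗ₜ[C] (b ^ n • w) = 0 := by
    rw [← leftComm_lTensor_mk', lTensor_smul, ← hzdef, hbz, map_zero]
  obtain ⟨s, hs, hsw⟩ := exists_smul_mem_of_one_tmul_eq_zero 𝔭 (b ^ n • w) h1
  refine ⟨s, hs, n, ?_⟩
  have h2 := μ_mem_of_mem 𝔭 I M _ hsw
  rw [map_smul, μ_smul, hw] at h2
  exact h2

end Core

end Groth.Agent.H3.SepKrull
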