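import Mathlib
import Groth.Agent.Lib.Helper3.SepKrull2

set_option autoImplicit false

universe u

open TensorProduct

namespace Groth.Agent.H3.SepKrull

open Groth.Agent.H3.SepCol Groth.Agent.H3.SepNil

section Core

variable {C P : Type u} [CommRing C] [CommRing P] [Algebra C P]
  {ι : Type u} {M : Type u} [AddCommGroup M] [Module C M] [Module P M] [IsScalarTower C P M]
  {N : ι → Type u} [∀ i, AddCommGroup (N i)] [∀ i, Module C (N i)] [∀ i, Module P (N i)]
  [∀ i, IsScalarTower C P (N i)]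
  {v : ∀ i, M →ₗ[P] N i}

/-- the filtration statement obtained by induction -/
theorem exists_smul_mem_pow [∀ i, Module.Flat C (N i)] (𝔭 : Ideal C) [𝔭.IsPrime]
    (hF : FormR v C 𝔭.ResidueField) (b : P) (m : M) (hv : ∀ i, ∃ n : ℕ, b ^ n • v i m = 0)
    (n : ℕ) :
    ∃ s : C, s ∉ 𝔭 ∧ ∃ k : ℕ, s • b ^ k • m ∈ (𝔭 ^ n) • (⊤ : Submodule C M) := by
  induction n with
  | zero =>
    refine ⟨1, ?_, 0, ?_⟩
    · exact fun h => (inferInstance : 𝔭.IsPrime).ne_top ((Ideal.eq_top_iff_one 𝔭).2 h)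
    · rw [pow_zero, Ideal.one_eq_top, Submodule.top_smul]
      exact Submodule.mem_top
  | succ n ih =>
    obtain ⟨s, hs, k, hk⟩ := ih
    have hv' : ∀ i, ∃ n' : ℕ, b ^ n' • v i (s • b ^ k • m) = 0 := by
      intro i
      obtain ⟨n', hn'⟩ := hv i
      refine ⟨n', ?_⟩
      rw [LinearMap.map_smul_of_tower, map_smul, smul_comm (b ^ n') s, smul_comm (b ^ n') (b ^ k),
        hn', smul_zero, smul_zero]
    obtain ⟨s', hs', n', hn'⟩ := step 𝔭 hF b (𝔭 ^ n) (s • b ^ k • m) hk hv'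
    refine ⟨s' * s, ?_, n' + k, ?_⟩
    · intro h
      rcases (inferInstance : 𝔭.IsPrime).mem_or_mem h with h | h
      · exact hs' h
      · exact hs h
    · rw [← pow_succ'] at hn'
      have : (s' * s) • b ^ (n' + k) • m = s' • b ^ n' • s • b ^ k • m := by
        rw [mul_smul, pow_add, mul_smul, smul_comm (b ^ n') s]
      rw [this]
      exact hn'

theorem krull_core [∀ i, Module.Flat C (N i)] [IsNoetherianRing P] [Module.Finite P M]
    (hF : ∀ (𝔭 : Ideal C) [𝔭.IsPrime], FormR v C 𝔭.ResidueField) (b : P) (m : M)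
    (hv : ∀ i, ∃ n : ℕ, b ^ n • v i m = 0) : ∃ n : ℕ, b ^ n • m = 0 := by
  by_contra hcon
  push Not at hcon
  set J : Ideal P := LinearMap.ker (LinearMap.toSpanSingleton P M m) with hJ
  have hJmem : ∀ r : P, r ∈ J ↔ r • m = 0 := by
    intro r
    rw [hJ, LinearMap.mem_ker, LinearMap.toSpanSingleton_apply]
  have hb : b ∉ J.radical := by
    rintro ⟨n, hn⟩
    exact hcon n ((hJmem _).1 hn)
  obtain ⟨𝔮, h𝔮, hJ𝔮, hb𝔮⟩ : ∃ 𝔮 : Ideal P, 𝔮.IsPrime ∧ J ≤ 𝔮 ∧ b ∉ 𝔮 := by
    rw [Ideal.radical_eq_sInf, Submodule.mem_sInf] at hb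
    push Not at hb
    obtain ⟨𝔮, ⟨hJ𝔮, h𝔮⟩, hb𝔮⟩ := hb
    exact ⟨𝔮, h𝔮, hJ𝔮, hb𝔮⟩
  haveI := h𝔮
  set 𝔭 : Ideal C := Ideal.comap (algebraMap C P) 𝔮 with h𝔭
  haveI : 𝔭.IsPrime := Ideal.comap_isPrime _ _
  -- the localized module
  let f : M →ₗ[P] LocalizedModule 𝔮.primeCompl M := LocalizedModule.mkLinearMap 𝔮.primeCompl M
  have hmem : ∀ (n : ℕ) (x : M), x ∈ (𝔭 ^ n) • (⊤ : Submodule C M) →
      f x ∈ (IsLocalRing.maximalIdeal (Localization.AtPrime 𝔮)) ^ n •
        (⊤ : Submodule (Localization.AtPrime 𝔮) (LocalizedModule 𝔮.primeCompl M)) := by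
    intro n x hx
    refine Submodule.smul_induction_on hx ?_ ?_
    · intro a ha m₀ _
      have h1 : f (a • m₀) = algebraMap P (Localization.AtPrime 𝔮) (algebraMap C P a) • f m₀ := by
        have e1 : a • m₀ = (algebraMap C P a) • m₀ := (algebraMap_smul P a m₀).symm
        rw [e1, map_smul]
        exact (algebraMap_smul (Localization.AtPrime 𝔮) _ _).symm
      rw [h1]
      refine Submodule.smul_mem_smul ?_ Submodule.mem_top
      rw [← Localization.AtPrime.map_eq_maximalIdeal, ← Ideal.map_pow]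
      apply Ideal.mem_map_of_mem
      have h2 : 𝔭.map (algebraMap C P) ≤ 𝔮 := Ideal.map_comap_le
      have h3 : (𝔭 ^ n).map (algebraMap C P) ≤ 𝔮 ^ n := by
        rw [Ideal.map_pow]
        exact Ideal.pow_right_mono h2 n
      exact h3 (Ideal.mem_map_of_mem _ ha)
    · intro x y hx hy
      rw [map_add]
      exact add_mem hx hy
  have hall : ∀ n : ℕ, f m ∈ (IsLocalRing.maximalIdeal (Localization.AtPrime 𝔮)) ^ n •
        (⊤ : Submodule (Localization.AtPrime 𝔮) (LocalizedModule 𝔮.primeCompl M)) := by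
    intro n
    obtain ⟨s, hs, k, hk⟩ := exists_smul_mem_pow 𝔭 (hF 𝔭) b m hv n
    have h1 := hmem n _ hk
    have hu : algebraMap C P s * b ^ k ∈ 𝔮.primeCompl := by
      refine 𝔮.primeCompl.mul_mem ?_ (𝔮.primeCompl.pow_mem hb𝔮 k)
      exact fun h => hs h
    have h2 : f (s • b ^ k • m) =
        algebraMap P (Localization.AtPrime 𝔮) (algebraMap C P s * b ^ k) • f m := by
      have e1 : s • b ^ k • m = (algebraMap C P s * b ^ k) • m := by
        rw [mul_smul, algebraMap_smul]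
      rw [e1, map_smul]
      exact (algebraMap_smul (Localization.AtPrime 𝔮) _ _).symm
    rw [h2] at h1
    obtain ⟨u, hu'⟩ := IsLocalization.map_units (Localization.AtPrime 𝔮) ⟨_, hu⟩
    have h3 := Submodule.smul_mem _ (↑u⁻¹ : Localization.AtPrime 𝔮) h1
    rw [← hu', smul_smul, Units.inv_mul, one_smul] at h3
    exact h3
  haveI : IsNoetherianRing (Localization.AtPrime 𝔮) :=
    IsLocalization.isNoetherianRing 𝔮.primeCompl _ inferInstance
  have hK := Ideal.iInf_pow_smul_eq_bot_of_isLocalRing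
    (R := Localization.AtPrime 𝔮) (M := LocalizedModule 𝔮.primeCompl M)
    (IsLocalRing.maximalIdeal (Localization.AtPrime 𝔮)) Ideal.IsPrime.ne_top'
  have hfm : f m = 0 := by
    have : f m ∈ (⨅ i : ℕ, (IsLocalRing.maximalIdeal (Localization.AtPrime 𝔮)) ^ i • ⊤ :
        Submodule (Localization.AtPrime 𝔮) (LocalizedModule 𝔮.primeCompl M)) :=
      (Submodule.mem_iInf _).2 hall
    rw [hK] at this
    exact (Submodule.mem_bot _).1 this
  obtain ⟨t, ht⟩ := (IsLocalizedModule.eq_zero_iff 𝔮.primeCompl f).1 hfm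
  exact t.2 (hJ𝔮 ((hJmem _).2 ht))

end Core

end Groth.Agent.H3.SepKrull
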