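import Mathlib
import Groth.Agent.Lib.Helper3.SepKrull3
import Groth.Agent.Lib.Helper3.SepField2

set_option autoImplicit false

universe u

open TensorProduct

namespace Groth.Agent.H3.SepKrull

open Groth.Agent.H3.SepCol Groth.Agent.H3.SepNil

section Trans

variable {R P Q : Type u} [CommRing R] [CommRing P] [CommRing Q] [Algebra R P] [Algebra P Q]
  [Algebra R Q] [IsScalarTower R P Q]
  {ι : Type u} {M : Type u} [AddCommGroup M] [Module R M] {N : ι → Type u}
  [∀ i, AddCommGroup (N i)] [∀ i, Module R (N i)] {v : ∀ i, M →ₗ[R] N i}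

lemma cancel_natural {M N : Type u} [AddCommGroup M] [Module R M] [AddCommGroup N] [Module R N]
    (v : M →ₗ[R] N) (x : Q ⊗[P] (P ⊗[R] M)) :
    AlgebraTensorModule.cancelBaseChange R P Q Q N ((v.baseChange P).lTensor Q x) =
      v.lTensor Q (AlgebraTensorModule.cancelBaseChange R P Q Q M x) := by
  induction x using TensorProduct.induction_on with
  | zero => simp
  | tmul q y =>
    induction y using TensorProduct.induction_on with
    | zero => simp
    | tmul p m =>
      rw [LinearMap.lTensor_tmul, LinearMap.baseChange_tmul,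
        AlgebraTensorModule.cancelBaseChange_tmul, AlgebraTensorModule.cancelBaseChange_tmul,
        LinearMap.lTensor_tmul]
    | add y z hy hz => rw [tmul_add, map_add, map_add, hy, hz, map_add, map_add]
  | add x y hx hy => rw [map_add, map_add, hx, hy, map_add, map_add]

theorem torsionSep_baseChange (h : TorsionSep R Q M N v) :
    TorsionSep P Q (P ⊗[R] M) (fun i => P ⊗[R] N i) (fun i => (v i).baseChange P) := by
  intro b y hy
  obtain ⟨n, hn⟩ := h b (AlgebraTensorModule.cancelBaseChange R P Q Q M y) (by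
    intro i
    obtain ⟨n, hn⟩ := hy i
    refine ⟨n, ?_⟩
    rw [← cancel_natural, ← map_smul, hn, map_zero])
  refine ⟨n, (AlgebraTensorModule.cancelBaseChange R P Q Q M).injective ?_⟩
  rw [map_smul, hn, map_zero]

theorem torsionSep_of_baseChange
    (h : TorsionSep P Q (P ⊗[R] M) (fun i => P ⊗[R] N i) (fun i => (v i).baseChange P)) :
    TorsionSep R Q M N v := by
  intro b y hy
  obtain ⟨n, hn⟩ := h b ((AlgebraTensorModule.cancelBaseChange R P Q Q M).symm y) (by
    intro i
    obtain ⟨n, hn⟩ := hy i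
    refine ⟨n, (AlgebraTensorModule.cancelBaseChange R P Q Q (N i)).injective ?_⟩
    rw [map_smul, cancel_natural, LinearEquiv.apply_symm_apply, hn, map_zero])
  refine ⟨n, ?_⟩
  have := congrArg (AlgebraTensorModule.cancelBaseChange R P Q Q M) hn
  rwa [map_smul, LinearEquiv.apply_symm_apply, map_zero] at this

end Trans

section FormRSec

variable {C P K : Type u} [CommRing C] [CommRing P] [Algebra C P] [CommRing K] [Algebra C K]
  {ι : Type u} {M : Type u} [AddCommGroup M] [Module C M] [Module P M] [IsScalarTower C P M]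
  {N : ι → Type u} [∀ i, AddCommGroup (N i)] [∀ i, Module C (N i)] [∀ i, Module P (N i)]
  [∀ i, IsScalarTower C P (N i)]
  {v : ∀ i, M →ₗ[P] N i}

theorem formR_of_torsionSep (h : TorsionSep P (P ⊗[C] K) M N v) : FormR v C K := by
  intro b y hy
  obtain ⟨n, hn⟩ := h (algebraMap P (P ⊗[C] K) b) ((E (A := P) M K).symm y) (by
    intro i
    obtain ⟨n, hn⟩ := hy i
    refine ⟨n, (E (A := P) (N i) K).injective ?_⟩
    rw [← map_pow, algebraMap_smul, map_smul, E_natural', LinearEquiv.apply_symm_apply, hn,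
      map_zero])
  refine ⟨n, ?_⟩
  have := congrArg (E (A := P) M K) hn
  rwa [← map_pow, algebraMap_smul, map_smul, LinearEquiv.apply_symm_apply, map_zero] at this

end FormRSec

section FieldExt

open Groth.Agent.H3.SepGF in
theorem torsionSep_fieldExt {R K A₁ K' : Type u} [CommRing R] [Field K] [CommRing A₁]
    [Algebra R A₁] [Algebra K A₁] [CommRing K'] [Algebra K K']
    {ι : Type u} {M : Type u} [AddCommGroup M] [Module R M] {N : ι → Type u}
    [∀ i, AddCommGroup (N i)] [∀ i, Module R (N i)] {v : ∀ i, M →ₗ[R] N i}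
    (h : TorsionSep R A₁ M N v) : TorsionSep R (A₁ ⊗[K] K') M N v := by
  have hsep : Sep (fun i => A₁ ⊗[R] N i) (fun i => (v i).baseChange A₁) := by
    intro f m hm
    exact h f m hm
  have h2 : TorsionSep A₁ (A₁ ⊗[K] K') (A₁ ⊗[R] M) (fun i => A₁ ⊗[R] N i)
      (fun i => (v i).baseChange A₁) :=
    fun b y hy => Groth.Agent.H3.SepField.core b _ _ _ hsep y hy
  exact torsionSep_of_baseChange h2

theorem torsionSep_descent {A R K K₀ : Type u} [CommRing A] [CommRing R] [Algebra A R] [Field K]
    [Field K₀] [Algebra A K] [Algebra A K₀] [Algebra K K₀] [IsScalarTower A K K₀]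
    {ι : Type u} {M : Type u} [AddCommGroup M] [Module R M] {N : ι → Type u}
    [∀ i, AddCommGroup (N i)] [∀ i, Module R (N i)] {v : ∀ i, M →ₗ[R] N i}
    (h : TorsionSep R (R ⊗[A] K₀) M N v) : TorsionSep R (R ⊗[A] K) M N v := by
  let ψ : R ⊗[A] K →ₐ[R] R ⊗[A] K₀ :=
    Algebra.TensorProduct.map (AlgHom.id R R) (IsScalarTower.toAlgHom A K K₀)
  obtain ⟨ρ₀, hρ₀⟩ := LinearMap.exists_leftInverse_of_injective (Algebra.linearMap K K₀)
    (LinearMap.ker_eq_bot.2 (algebraMap K K₀).injective)
  let ρ : R ⊗[A] K₀ →ₗ[R] R ⊗[A] K :=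
    AlgebraTensorModule.map (LinearMap.id : R →ₗ[R] R) (ρ₀.restrictScalars A)
  have hρψ : ρ ∘ₗ ψ.toLinearMap = LinearMap.id := by
    ext c
    simp only [AlgebraTensorModule.curry_apply, LinearMap.restrictScalars_comp, curry_apply,
      LinearMap.coe_comp, LinearMap.coe_restrictScalars, Function.comp_apply,
      AlgHom.toLinearMap_apply, LinearMap.id_coe, id_eq]
    have h1 : ψ ((1 : R) ⊗ₜ[A] c) = (1 : R) ⊗ₜ[A] (algebraMap K K₀ c) := rfl
    rw [h1, AlgebraTensorModule.map_tmul, LinearMap.id_apply, LinearMap.restrictScalars_apply]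
    have := congrArg (fun g => g c) hρ₀
    simp only [LinearMap.coe_comp, Function.comp_apply, Algebra.linearMap_apply, LinearMap.id_coe,
      id_eq] at this
    rw [this]
  have hinj : ∀ (L : Type u) [AddCommGroup L] [Module R L],
      Function.Injective (ψ.toLinearMap.rTensor L) := by
    intro L _ _ x y hxy
    have h1 : (ρ.rTensor L) ∘ₗ (ψ.toLinearMap.rTensor L) = LinearMap.id := by
      rw [← LinearMap.rTensor_comp, hρψ, LinearMap.rTensor_id]
    have := congrArg (ρ.rTensor L) hxy
    rwa [← LinearMap.comp_apply, ← LinearMap.comp_apply, h1] at this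
  intro b y hy
  obtain ⟨n, hn⟩ := h (ψ b) (ψ.toLinearMap.rTensor M y) (by
    intro i
    obtain ⟨n, hn⟩ := hy i
    refine ⟨n, ?_⟩
    rw [← rTensor_comp_lTensor_apply, ← map_pow, ← rTensor_algHom_smul, hn, map_zero])
  refine ⟨n, hinj M ?_⟩
  rw [rTensor_algHom_smul, map_pow, hn, map_zero]

end FieldExt

end Groth.Agent.H3.SepKrull
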