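import Mathlib
import Groth.Agent.Lib.Helper3.SepKrull4

set_option autoImplicit false

universe u

open TensorProduct

namespace Groth.Agent.H3.SepKrull

open Groth.Agent.H3.SepCol Groth.Agent.H3.SepNil

section LidSec

variable {P : Type u} [CommRing P]

lemma lid_lTensor {M N : Type u} [AddCommGroup M] [Module P M] [AddCommGroup N] [Module P N]
    (v : M →ₗ[P] N) (y : P ⊗[P] M) :
    TensorProduct.lid P N (v.lTensor P y) = v (TensorProduct.lid P M y) := by
  induction y using TensorProduct.induction_on with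
  | zero => simp
  | tmul p m => rw [LinearMap.lTensor_tmul, TensorProduct.lid_tmul, TensorProduct.lid_tmul, map_smul]
  | add x y hx hy => rw [map_add, map_add, hx, hy, map_add, map_add]

end LidSec

section Interface

theorem torsionSep_residueField_of_field {A R K₀ : Type u} [CommRing A] [CommRing R] [Algebra A R]
    [Field K₀] [Algebra A K₀] (𝔭 : Ideal A) [𝔭.IsPrime]
    (hker : ∀ a, algebraMap A K₀ a = 0 ↔ a ∈ 𝔭)
    {ι : Type u} {M : Type u} [AddCommGroup M] [Module R M] {N : ι → Type u}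
    [∀ i, AddCommGroup (N i)] [∀ i, Module R (N i)] {v : ∀ i, M →ₗ[R] N i}
    (h : TorsionSep R (R ⊗[A] K₀) M N v) : TorsionSep R (R ⊗[A] 𝔭.ResidueField) M N v := by
  have h₁ : 𝔭 ≤ RingHom.ker (algebraMap A K₀) := fun a ha => (hker a).2 ha
  have h₂ : 𝔭.primeCompl ≤ (IsUnit.submonoid K₀).comap (algebraMap A K₀) := by
    intro a ha
    change IsUnit (algebraMap A K₀ a)
    rw [isUnit_iff_ne_zero]
    exact fun h0 => ha ((hker a).1 h0)
  letI : Algebra 𝔭.ResidueField K₀ :=
    (Ideal.ResidueField.lift 𝔭 (algebraMap A K₀) h₁ h₂).toAlgebra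
  haveI : IsScalarTower A 𝔭.ResidueField K₀ := by
    refine IsScalarTower.of_algebraMap_eq fun a => ?_
    change _ = Ideal.ResidueField.lift 𝔭 (algebraMap A K₀) h₁ h₂ (algebraMap A _ a)
    rw [Ideal.ResidueField.lift_algebraMap]
  exact torsionSep_descent (K := 𝔭.ResidueField) (K₀ := K₀) h

theorem torsionSep_residueField_of_isField {A R K₀ : Type u} [CommRing A] [CommRing R]
    [Algebra A R]
    [CommRing K₀] (hK₀ : IsField K₀) [Algebra A K₀] (𝔭 : Ideal A) [𝔭.IsPrime]
    (hker : ∀ a, algebraMap A K₀ a = 0 ↔ a ∈ 𝔭)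
    {ι : Type u} {M : Type u} [AddCommGroup M] [Module R M] {N : ι → Type u}
    [∀ i, AddCommGroup (N i)] [∀ i, Module R (N i)] {v : ∀ i, M →ₗ[R] N i}
    (h : TorsionSep R (R ⊗[A] K₀) M N v) : TorsionSep R (R ⊗[A] 𝔭.ResidueField) M N v := by
  letI : Field K₀ := hK₀.toField
  exact torsionSep_residueField_of_field (K₀ := K₀) 𝔭 hker h

end Interface

section Abstract

attribute [local instance] Algebra.TensorProduct.rightAlgebra

theorem torsionSep_of_fibres_abstract {A R : Type u} (C₀ : Type u) {P : Type u} [CommRing A]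
    [CommRing R] [CommRing C₀] [CommRing P]
    [Algebra A R] [Algebra A C₀] [Algebra R P] [Algebra C₀ P] [Algebra A P] [IsScalarTower A R P]
    [IsScalarTower A C₀ P] [Algebra.IsPushout A R C₀ P] [IsNoetherianRing P]
    {ι : Type u} {M : Type u} [AddCommGroup M] [Module R M] [Module A M] [IsScalarTower A R M]
    [Module.Finite R M]
    {N : ι → Type u} [∀ i, AddCommGroup (N i)] [∀ i, Module R (N i)] [∀ i, Module A (N i)]
    [∀ i, IsScalarTower A R (N i)] [∀ i, Module.Flat A (N i)]
    {v : ∀ i, M →ₗ[R] N i}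
    (hF : ∀ (𝔭 : Ideal A) [𝔭.IsPrime], TorsionSep R (R ⊗[A] 𝔭.ResidueField) M N v) :
    TorsionSep R P M N v := by
  apply torsionSep_of_baseChange (P := P) (Q := P)
  haveI hflat : ∀ i, Module.Flat C₀ (P ⊗[R] N i) := by
    intro i
    haveI : Algebra.IsPushout A C₀ R P := Algebra.IsPushout.symm inferInstance
    exact Module.Flat.of_linearEquiv (Algebra.IsPushout.cancelBaseChange A C₀ R P (N i))
  have hFR : ∀ (𝔭' : Ideal C₀) [𝔭'.IsPrime],
      FormR (fun i => (v i).baseChange P) C₀ 𝔭'.ResidueField := by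
    intro 𝔭' _
    haveI : (Ideal.comap (algebraMap A C₀) 𝔭').IsPrime := Ideal.comap_isPrime _ _
    have h1 := hF (Ideal.comap (algebraMap A C₀) 𝔭')
    letI algKK' : Algebra (Ideal.comap (algebraMap A C₀) 𝔭').ResidueField 𝔭'.ResidueField :=
      (Ideal.ResidueField.map (Ideal.comap (algebraMap A C₀) 𝔭') 𝔭' (algebraMap A C₀)
        rfl).toAlgebra
    haveI : IsScalarTower A (Ideal.comap (algebraMap A C₀) 𝔭').ResidueField 𝔭'.ResidueField := by
      refine IsScalarTower.of_algebraMap_eq fun a => ?_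
      change _ = Ideal.ResidueField.map (Ideal.comap (algebraMap A C₀) 𝔭') 𝔭' (algebraMap A C₀)
        rfl (algebraMap A _ a)
      rw [Ideal.ResidueField.map_algebraMap, ← IsScalarTower.algebraMap_apply]
    have h2 : TorsionSep R ((R ⊗[A] (Ideal.comap (algebraMap A C₀) 𝔭').ResidueField)
        ⊗[(Ideal.comap (algebraMap A C₀) 𝔭').ResidueField] 𝔭'.ResidueField) M N v :=
      torsionSep_fieldExt h1
    have h3 : TorsionSep R (R ⊗[A] 𝔭'.ResidueField) M N v :=
      h2.of_algEquiv (Algebra.IsPushout.cancelBaseChangeAlg A R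
        (Ideal.comap (algebraMap A C₀) 𝔭').ResidueField
        (R ⊗[A] (Ideal.comap (algebraMap A C₀) 𝔭').ResidueField) 𝔭'.ResidueField)
    have h4 : TorsionSep R (P ⊗[C₀] 𝔭'.ResidueField) M N v :=
      h3.of_algEquiv (Algebra.IsPushout.cancelBaseChangeAlg A R C₀ P 𝔭'.ResidueField).symm
    have h5 := torsionSep_baseChange (P := P) (Q := P ⊗[C₀] 𝔭'.ResidueField) h4
    exact formR_of_torsionSep h5
  intro b y hy
  obtain ⟨n, hn⟩ := krull_core (C := C₀) (P := P) (v := fun i => (v i).baseChange P) hFR b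
    (TensorProduct.lid P (P ⊗[R] M) y) (by
      intro i
      obtain ⟨n, hn⟩ := hy i
      refine ⟨n, ?_⟩
      rw [← lid_lTensor, ← map_smul, hn, map_zero])
  refine ⟨n, (TensorProduct.lid P (P ⊗[R] M)).injective ?_⟩
  rw [map_smul, hn, map_zero]

/-- **fibrewise criterion**, algebraic form: a family which is torsion separating on all fibres over
`A` (residue fields of primes) is universally torsion separating, when `R` is noetherian, `M` finite
and the `N i` flat over `A`. -/
theorem torsionSep_of_fibres {A R A' : Type u} [CommRing A] [CommRing R] [CommRing A']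
    [Algebra A R] [Algebra A A'] [IsNoetherianRing R]
    {ι : Type u} {M : Type u} [AddCommGroup M] [Module R M] [Module A M] [IsScalarTower A R M]
    [Module.Finite R M]
    {N : ι → Type u} [∀ i, AddCommGroup (N i)] [∀ i, Module R (N i)] [∀ i, Module A (N i)]
    [∀ i, IsScalarTower A R (N i)] [∀ i, Module.Flat A (N i)]
    {v : ∀ i, M →ₗ[R] N i}
    (hF : ∀ (𝔭 : Ideal A) [𝔭.IsPrime], TorsionSep R (R ⊗[A] 𝔭.ResidueField) M N v) :
    TorsionSep R (R ⊗[A] A') M N v := by
  refine torsionSep_of_fg M N v (fun C₀ hC₀ => ?_)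
  haveI : Algebra.FiniteType A C₀ := (Subalgebra.fg_iff_finiteType _).1 hC₀
  haveI : IsNoetherianRing (R ⊗[A] C₀) := Algebra.FiniteType.isNoetherianRing R _
  exact torsionSep_of_fibres_abstract (↥C₀) hF

end Abstract

end Groth.Agent.H3.SepKrull
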