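import Mathlib
import Groth.Agent.Lib.Helper3.SepKrull5
import Groth.Agent.Lib.Helper3.SepField4
import Groth.Agent.Lib.Helper3.SepCol3

set_option autoImplicit false

universe u

open AlgebraicGeometry CategoryTheory CategoryTheory.Limits Opposite TensorProduct TopologicalSpace

namespace Groth.Agent.H3.SepKrull

open Groth.Agent.H3.SepGF Groth.Agent.LD.QC Groth.Agent.H5.Lim Groth.Agent.H3.SepArt
  Groth.Agent.H3.SepCol Groth.Agent.H3.SepField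

section Pushout

variable {X Y S T : Scheme.{u}} {f : T ⟶ S} {g : Y ⟶ X} {iX : X ⟶ S} {iY : Y ⟶ T}

/-- sections over a product chart of a pullback square -/
theorem nonempty_algEquiv_of_isPullback (H : IsPullback g iY iX f) {US : S.Opens} {UT : T.Opens}
    {UX : X.Opens} (hUST : UT ≤ f ⁻¹ᵁ US) (hUSX : UX ≤ iX ⁻¹ᵁ US)
    (hUS : IsAffineOpen US) (hUT : IsAffineOpen UT) (hUX : IsAffineOpen UX) :
    letI := (f.appLE US UT hUST).hom.toAlgebra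
    letI := (iX.appLE US UX hUSX).hom.toAlgebra
    letI := (g.appLE UX (g ⁻¹ᵁ UX ⊓ iY ⁻¹ᵁ UT) inf_le_left).hom.toAlgebra
    Nonempty (Γ(Y, g ⁻¹ᵁ UX ⊓ iY ⁻¹ᵁ UT) ≃ₐ[Γ(X, UX)] Γ(X, UX) ⊗[Γ(S, US)] Γ(T, UT)) := by
  letI algST : Algebra Γ(S, US) Γ(T, UT) := (f.appLE US UT hUST).hom.toAlgebra
  letI algSX : Algebra Γ(S, US) Γ(X, UX) := (iX.appLE US UX hUSX).hom.toAlgebra
  letI algTY : Algebra Γ(T, UT) Γ(Y, g ⁻¹ᵁ UX ⊓ iY ⁻¹ᵁ UT) :=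
    (iY.appLE UT (g ⁻¹ᵁ UX ⊓ iY ⁻¹ᵁ UT) inf_le_right).hom.toAlgebra
  letI algXY : Algebra Γ(X, UX) Γ(Y, g ⁻¹ᵁ UX ⊓ iY ⁻¹ᵁ UT) :=
    (g.appLE UX (g ⁻¹ᵁ UX ⊓ iY ⁻¹ᵁ UT) inf_le_left).hom.toAlgebra
  letI algSY : Algebra Γ(S, US) Γ(Y, g ⁻¹ᵁ UX ⊓ iY ⁻¹ᵁ UT) :=
    ((iX.appLE US UX hUSX) ≫ (g.appLE UX (g ⁻¹ᵁ UX ⊓ iY ⁻¹ᵁ UT) inf_le_left)).hom.toAlgebra
  haveI : IsScalarTower Γ(S, US) Γ(X, UX) Γ(Y, g ⁻¹ᵁ UX ⊓ iY ⁻¹ᵁ UT) := .of_algebraMap_eq' rfl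
  haveI : IsScalarTower Γ(S, US) Γ(T, UT) Γ(Y, g ⁻¹ᵁ UX ⊓ iY ⁻¹ᵁ UT) := by
    refine .of_algebraMap_eq' ?_
    change ((iX.appLE US UX hUSX) ≫ (g.appLE UX (g ⁻¹ᵁ UX ⊓ iY ⁻¹ᵁ UT) inf_le_left)).hom =
      ((f.appLE US UT hUST) ≫ (iY.appLE UT (g ⁻¹ᵁ UX ⊓ iY ⁻¹ᵁ UT) inf_le_right)).hom
    congr 1
    simp only [Scheme.Hom.appLE_comp_appLE, H.w]
  have hiso := isIso_pushoutSection_of_isAffineOpen H hUST hUSX rfl hUS hUT hUX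
  have hpo := (isIso_pushoutSection_iff H hUST hUSX rfl).1 hiso
  haveI hP : Algebra.IsPushout Γ(S, US) Γ(X, UX) Γ(T, UT) Γ(Y, g ⁻¹ᵁ UX ⊓ iY ⁻¹ᵁ UT) :=
    (CommRingCat.isPushout_iff_isPushout).1 hpo
  exact ⟨(Algebra.IsPushout.equiv Γ(S, US) Γ(X, UX) Γ(T, UT)
    Γ(Y, g ⁻¹ᵁ UX ⊓ iY ⁻¹ᵁ UT)).symm⟩

end Pushout

section Residue

variable {S : Scheme.{u}}

theorem isField_Γ_Spec' (K : CommRingCat.{u}) (hK : IsField K) : IsField Γ(Spec K, ⊤) :=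
  MulEquiv.isField hK (Scheme.ΓSpecIso K).commRingCatIsoToRingEquiv.toMulEquiv

theorem fromSpecResidueField_preimage_eq_top (s : S) {V : S.Opens} (hs : s ∈ V) :
    (S.fromSpecResidueField s) ⁻¹ᵁ V = ⊤ := by
  ext z
  simp only [Scheme.Hom.mem_preimage, Scheme.fromSpecResidueField_apply, hs,
    Opens.coe_top, Set.mem_univ, SetLike.mem_coe]

theorem fromSpecResidueField_preimage_eq_bot (s : S) {V : S.Opens} (hs : s ∉ V) :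
    (S.fromSpecResidueField s) ⁻¹ᵁ V = ⊥ := by
  ext z
  simp only [Scheme.Hom.mem_preimage, Scheme.fromSpecResidueField_apply, hs,
    SetLike.mem_coe, Opens.coe_bot, Set.mem_empty_iff_false]

theorem appLE_fromSpecResidueField_eq_zero_iff (s : S) {V : S.Opens}
    (e : (⊤ : (Spec (S.residueField s)).Opens) ≤ (S.fromSpecResidueField s) ⁻¹ᵁ V)
    (a : Γ(S, V)) :
    (S.fromSpecResidueField s).appLE V ⊤ e a = 0 ↔ s ∉ S.basicOpen a := by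
  rw [← AlgebraicGeometry.basicOpen_eq_bot_iff, Scheme.basicOpen_appLE]
  constructor
  · intro h hs
    rw [fromSpecResidueField_preimage_eq_top s hs] at h
    simp at h
  · intro hs
    rw [fromSpecResidueField_preimage_eq_bot s hs]
    simp

theorem mem_basicOpen_fromSpec_iff {V : S.Opens} (hV : IsAffineOpen V) (𝔭 : Ideal Γ(S, V))
    [𝔭.IsPrime] (a : Γ(S, V)) :
    hV.fromSpec ⟨𝔭, inferInstance⟩ ∈ S.basicOpen a ↔ a ∉ 𝔭 := by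
  have := hV.fromSpec_preimage_basicOpen a
  have h2 : (⟨𝔭, inferInstance⟩ : PrimeSpectrum Γ(S, V)) ∈ hV.fromSpec ⁻¹ᵁ S.basicOpen a ↔
      hV.fromSpec ⟨𝔭, inferInstance⟩ ∈ S.basicOpen a := Iff.rfl
  rw [← h2, this]
  exact Iff.rfl

theorem fromSpec_mem {V : S.Opens} (hV : IsAffineOpen V) (z : Spec Γ(S, V)) :
    hV.fromSpec z ∈ V := by
  have := hV.range_fromSpec
  have h2 : hV.fromSpec z ∈ Set.range hV.fromSpec := ⟨z, rfl⟩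
  rw [this] at h2
  exact h2

end Residue

end Groth.Agent.H3.SepKrull
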