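import Mathlib
import Groth.Agent.Lib.Helper3.SepKrull6
import Groth.Agent.Lib.Helper3.SepCol4
import Groth.Agent.Lib.Lead.QC.FinType

set_option autoImplicit false

universe u

open AlgebraicGeometry CategoryTheory CategoryTheory.Limits Opposite TensorProduct TopologicalSpace

namespace Groth.Agent.H3.SepKrull

open Groth.Agent.H3.SepGF Groth.Agent.LD.QC Groth.Agent.H5.Lim Groth.Agent.H3.SepArt
  Groth.Agent.H3.SepCol Groth.Agent.H3.SepField

variable {X S : Scheme.{u}}

/-- the fibre hypothesis gives torsion separation over the residue field of each prime -/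
theorem torsionSep_residueField_of_fibre (p : X ⟶ S) (F : X.Modules) [F.IsQuasicoherent]
    {ι : Type u} (G : ι → X.Modules) [∀ i, (G i).IsQuasicoherent] (u : ∀ i, F ⟶ G i)
    (hfib : ∀ s : S, ∀ (V : (p.fiber s).Opens)
      (t : Γ((Scheme.Modules.pullback (p.fiberι s)).obj F, V)),
      (∀ i, ((Scheme.Modules.pullback (p.fiberι s)).map (u i)).app V t = 0) → t = 0)
    {VS : S.Opens} {U : X.Opens} (hVS : IsAffineOpen VS) (hU : IsAffineOpen U)
    (hUSX : U ≤ p ⁻¹ᵁ VS) (𝔭 : Ideal Γ(S, VS)) [𝔭.IsPrime] :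
    letI := (p.appLE VS U hUSX).hom.toAlgebra
    TorsionSep Γ(X, U) (Γ(X, U) ⊗[Γ(S, VS)] 𝔭.ResidueField) Γ(F, U) (fun i => Γ(G i, U))
      (fun i => appLinear (u i) U) := by
  letI algAR : Algebra Γ(S, VS) Γ(X, U) := (p.appLE VS U hUSX).hom.toAlgebra
  set s : S := hVS.fromSpec ⟨𝔭, inferInstance⟩ with hs
  have hsV : s ∈ VS := fromSpec_mem hVS _
  have H : IsPullback (pullback.fst p (S.fromSpecResidueField s))
      (pullback.snd p (S.fromSpecResidueField s)) p (S.fromSpecResidueField s) :=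
    IsPullback.of_hasPullback p (S.fromSpecResidueField s)
  have hUST : (⊤ : (Spec (S.residueField s)).Opens) ≤ (S.fromSpecResidueField s) ⁻¹ᵁ VS := by
    rw [fromSpecResidueField_preimage_eq_top s hsV]
  have hT : IsAffineOpen (⊤ : (Spec (S.residueField s)).Opens) := isAffineOpen_top _
  have hUs := isAffineOpen_inf H hUST hUSX hVS hT hU
  obtain ⟨ε⟩ := nonempty_algEquiv_of_isPullback H hUST hUSX hVS hT hU
  letI algAK : Algebra Γ(S, VS) Γ(Spec (S.residueField s), ⊤) :=
    ((S.fromSpecResidueField s).appLE VS ⊤ hUST).hom.toAlgebra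
  letI algRP : Algebra Γ(X, U) Γ(pullback p (S.fromSpecResidueField s),
      (pullback.fst p (S.fromSpecResidueField s)) ⁻¹ᵁ U ⊓
        (pullback.snd p (S.fromSpecResidueField s)) ⁻¹ᵁ ⊤) :=
    ((pullback.fst p (S.fromSpecResidueField s)).appLE U _ inf_le_left).hom.toAlgebra
  have h1 := torsionSep_of_separating (p.fiberι s) F G u (hfib s) hU hUs inf_le_left
  have h2 : TorsionSep Γ(X, U) (Γ(X, U) ⊗[Γ(S, VS)] Γ(Spec (S.residueField s), ⊤)) Γ(F, U)
      (fun i => Γ(G i, U)) (fun i => appLinear (u i) U) := TorsionSep.of_algEquiv ε h1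
  refine torsionSep_residueField_of_isField
    (isField_Γ_Spec' _ (Field.toIsField (S.residueField s))) 𝔭 ?_ h2
  intro a
  change (S.fromSpecResidueField s).appLE VS ⊤ hUST a = 0 ↔ _
  rw [appLE_fromSpecResidueField_eq_zero_iff, hs, mem_basicOpen_fromSpec_iff, not_not]

theorem main_sep [IsLocallyNoetherian X] (p : X ⟶ S) (F : X.Modules) [F.IsQuasicoherent]
    (hFT : F.IsFiniteType)
    {ι : Type u} (G : ι → X.Modules) [∀ i, (G i).IsQuasicoherent]
    (hG : ∀ i, FlatMod.IsFlatOver p (G i)) (u : ∀ i, F ⟶ G i)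
    (hfib : ∀ s : S, ∀ (V : (p.fiber s).Opens)
      (t : Γ((Scheme.Modules.pullback (p.fiberι s)).obj F, V)),
      (∀ i, ((Scheme.Modules.pullback (p.fiberι s)).map (u i)).app V t = 0) → t = 0)
    {S' : Scheme.{u}} (g : S' ⟶ S) (V : (pullback p g).Opens)
    (t : Γ((Scheme.Modules.pullback (pullback.fst p g)).obj F, V))
    (ht : ∀ i, ((Scheme.Modules.pullback (pullback.fst p g)).map (u i)).app V t = 0) :
    t = 0 := by
  refine sep_of_local (pullback.fst p g) F G u ?_ V t ht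
  intro x' V' hx'
  have H : IsPullback (pullback.fst p g) (pullback.snd p g) p g := IsPullback.of_hasPullback p g
  have hw : p (pullback.fst p g x') = g (pullback.snd p g x') := by
    rw [← Scheme.Hom.comp_apply, ← Scheme.Hom.comp_apply, pullback.condition]
  obtain ⟨VS, hVS, hsVS, -⟩ := exists_isAffineOpen_mem_and_subset
    (x := p (pullback.fst p g x')) (U := ⊤) (TopologicalSpace.Opens.mem_top _)
  obtain ⟨W, hW, hxW, hWle⟩ := exists_isAffineOpen_mem_and_subset
    (x := pullback.snd p g x') (U := g ⁻¹ᵁ VS) (by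
      change g (pullback.snd p g x') ∈ VS
      rw [← hw]; exact hsVS)
  obtain ⟨U, hU, hxU, hUle⟩ := exists_isAffineOpen_mem_and_subset
    (x := pullback.fst p g x') (U := p ⁻¹ᵁ VS) hsVS
  have hUST : W ≤ g ⁻¹ᵁ VS := hWle
  have hUSX : U ≤ p ⁻¹ᵁ VS := hUle
  have hUY := isAffineOpen_inf H hUST hUSX hVS hW hU
  obtain ⟨εφ⟩ := nonempty_algEquiv_of_isPullback H hUST hUSX hVS hW hU
  have hx'UY : x' ∈ (pullback.fst p g) ⁻¹ᵁ U ⊓ (pullback.snd p g) ⁻¹ᵁ W := ⟨hxU, hxW⟩
  obtain ⟨b', hb'le, hxb'⟩ := hUY.exists_basicOpen_le (V := V') ⟨x', hx'⟩ hx'UY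
  refine ⟨(pullback p g).basicOpen b', U, hUY.basicOpen b', hU,
    ((pullback p g).basicOpen_le b').trans inf_le_left, hxb', hb'le, ?_⟩
  letI algAA' : Algebra Γ(S, VS) Γ(S', W) := (g.appLE VS W hUST).hom.toAlgebra
  letI algAR : Algebra Γ(S, VS) Γ(X, U) := (p.appLE VS U hUSX).hom.toAlgebra
  letI algRP : Algebra Γ(X, U) Γ(pullback p g,
      (pullback.fst p g) ⁻¹ᵁ U ⊓ (pullback.snd p g) ⁻¹ᵁ W) :=
    ((pullback.fst p g).appLE U _ inf_le_left).hom.toAlgebra
  letI algRB : Algebra Γ(X, U) Γ(pullback p g, (pullback p g).basicOpen b') :=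
    ((pullback.fst p g).appLE U _
      (((pullback p g).basicOpen_le b').trans inf_le_left)).hom.toAlgebra
  haveI : IsScalarTower Γ(X, U) Γ(pullback p g,
      (pullback.fst p g) ⁻¹ᵁ U ⊓ (pullback.snd p g) ⁻¹ᵁ W)
      Γ(pullback p g, (pullback p g).basicOpen b') := by
    refine .of_algebraMap_eq' ?_
    change ((pullback.fst p g).appLE U _
      (((pullback p g).basicOpen_le b').trans inf_le_left)).hom =
      (((pullback.fst p g).appLE U _ inf_le_left) ≫
        (pullback p g).presheaf.map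
          (homOfLE ((pullback p g).basicOpen_le b')).op).hom
    congr 1
    rw [Scheme.Hom.appLE_map]
  haveI : IsLocalization.Away b' Γ(pullback p g, (pullback p g).basicOpen b') :=
    hUY.isLocalization_basicOpen b'
  letI modk : ∀ i, Module Γ(S, VS) Γ(G i, U) := fun i => sectionsModuleOver p (G i) hUSX
  haveI : ∀ i, IsScalarTower Γ(S, VS) Γ(X, U) Γ(G i, U) := fun i =>
    IsScalarTower.of_algebraMap_smul fun r m => rfl
  haveI : ∀ i, Module.Flat Γ(S, VS) Γ(G i, U) := fun i =>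
    flat_sections_of_isFlatOverAt p (G i) hU hVS hUSX (fun x _ => hG i x)
  letI modkF : Module Γ(S, VS) Γ(F, U) := sectionsModuleOver p F hUSX
  haveI : IsScalarTower Γ(S, VS) Γ(X, U) Γ(F, U) :=
    IsScalarTower.of_algebraMap_smul fun r m => rfl
  haveI : IsNoetherianRing Γ(X, U) := IsLocallyNoetherian.component_noetherian ⟨U, hU⟩
  haveI : Module.Finite Γ(X, U) Γ(F, U) := finite_sections_of_isFiniteType F hFT hU
  have hT' : TorsionSep Γ(X, U) (Γ(X, U) ⊗[Γ(S, VS)] Γ(S', W)) Γ(F, U) (fun i => Γ(G i, U))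
      (fun i => appLinear (u i) U) := by
    refine torsionSep_of_fibres (fun 𝔭 _ => ?_)
    exact torsionSep_residueField_of_fibre p F G u hfib hVS hU hUSX 𝔭
  have hT := hT'.of_algEquiv εφ.symm
  have hJ := jointInjFor_of_isLocalization hT b'
    Γ(pullback p g, (pullback p g).basicOpen b')
  intro z hz
  exact hJ z (fun i => by rw [← LinearMap.baseChange_eq_ltensor]; exact hz i)

end Groth.Agent.H3.SepKrull
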