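import Mathlib
import Groth.Agent.Lib.Helper3.SepKrull7
import Groth.Agent.Lib.Helper3.SchDomNil

set_option autoImplicit false

universe u

open AlgebraicGeometry CategoryTheory CategoryTheory.Limits Opposite TensorProduct TopologicalSpace

namespace Groth.Agent.H3.SchDomKrull

open Groth.Agent.H2.SchDense Groth.Agent.H3.SepGF Groth.Agent.H3.SchDomLfp Groth.Agent.H3.SepCol
  Groth.Agent.H3.SepNil Groth.Agent.H3.SepField Groth.Agent.H3.SchDomNil Groth.Agent.H3.SepKrull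

/-- a schematically dominant pulled-back family gives torsion separation of the structure sheaf
sections over affine charts. -/
theorem torsionSep_of_schDom {X X' : Scheme.{u}} (g : X' ⟶ X) {ι : Type u} (Z : ι → Scheme.{u})
    (f : ∀ i, Z i ⟶ X) (Z' : ι → Scheme.{u}) (f' : ∀ i, Z' i ⟶ X') (g' : ∀ i, Z' i ⟶ Z i)
    (H : ∀ i, IsPullback (g' i) (f' i) (f i) g)
    (h' : ∀ (V : X'.Opens) (t : Γ(X', V)), (∀ i, (f' i).app V t = 0) → t = 0)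
    {U : X.Opens} {U' : X'.Opens} (hU : IsAffineOpen U) (hU' : IsAffineOpen U')
    (e : U' ≤ g ⁻¹ᵁ U) :
    letI := (g.appLE U U' e).hom.toAlgebra
    letI : ∀ j : (Σ i : ι, {Z₀ : (Z i).Opens // IsAffineOpen Z₀ ∧ Z₀ ≤ (f i) ⁻¹ᵁ U}),
        Algebra Γ(X, U) Γ(Z j.1, j.2.1) := fun j => ((f j.1).appLE U j.2.1 j.2.2.2).hom.toAlgebra
    TorsionSep Γ(X, U) Γ(X', U') Γ(X, U)
      (ι := Σ i : ι, {Z₀ : (Z i).Opens // IsAffineOpen Z₀ ∧ Z₀ ≤ (f i) ⁻¹ᵁ U})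
      (fun j => Γ(Z j.1, j.2.1)) (fun j => Algebra.linearMap Γ(X, U) Γ(Z j.1, j.2.1)) := by
  letI algRP : Algebra Γ(X, U) Γ(X', U') := (g.appLE U U' e).hom.toAlgebra
  letI algRN : ∀ j : (Σ i : ι, {Z₀ : (Z i).Opens // IsAffineOpen Z₀ ∧ Z₀ ≤ (f i) ⁻¹ᵁ U}),
      Algebra Γ(X, U) Γ(Z j.1, j.2.1) := fun j => ((f j.1).appLE U j.2.1 j.2.2.2).hom.toAlgebra
  intro b y hy
  set t₀ : Γ(X', U') := TensorProduct.rid Γ(X, U) Γ(X', U') y with ht₀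
  have hy0 : y = t₀ ⊗ₜ[Γ(X, U)] (1 : Γ(X, U)) := by
    have := (TensorProduct.rid Γ(X, U) Γ(X', U')).symm_apply_apply y
    rw [← ht₀, TensorProduct.rid_symm_apply] at this
    exact this.symm
  have hres : X'.presheaf.map (homOfLE (X'.basicOpen_le b)).op t₀ = 0 := by
    apply h'
    intro i
    apply eq_zero_of_locally
    intro z hz
    have hzb : f' i z ∈ X'.basicOpen b := hz
    have hzU : f i (g' i z) ∈ U := by
      have h2 : (g' i ≫ f i) z = (f' i ≫ g) z := by rw [(H i).w]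
      rw [Scheme.Hom.comp_apply, Scheme.Hom.comp_apply] at h2
      rw [h2]
      exact e (X'.basicOpen_le b hzb)
    obtain ⟨Z₀, hZ₀, hzZ₀, hZ₀U⟩ := exists_isAffineOpen_mem_and_subset
      (x := g' i z) (U := (f i) ⁻¹ᵁ U) hzU
    have hZ₀U' : Z₀ ≤ (f i) ⁻¹ᵁ U := hZ₀U
    refine ⟨(g' i) ⁻¹ᵁ Z₀ ⊓ (f' i) ⁻¹ᵁ (X'.basicOpen b), inf_le_right, ⟨hzZ₀, hz⟩, ?_⟩
    letI algRN0 : Algebra Γ(X, U) Γ(Z i, Z₀) := ((f i).appLE U Z₀ hZ₀U').hom.toAlgebra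
    obtain ⟨n, hn⟩ := hy ⟨i, Z₀, hZ₀, hZ₀U'⟩
    have h1 : ((b ^ n * t₀) ⊗ₜ[Γ(X, U)] (1 : Γ(Z i, Z₀))) = 0 := by
      rw [hy0, LinearMap.lTensor_tmul, Algebra.linearMap_apply, map_one, smul_tmul',
        smul_eq_mul] at hn
      exact hn
    have key := appLE_eq_zero_of_tmul_one (H i) e hZ₀U' hU hU' hZ₀ (b ^ n * t₀) h1
    -- restrict to the smaller open
    have hO : (g' i) ⁻¹ᵁ Z₀ ⊓ (f' i) ⁻¹ᵁ (X'.basicOpen b) ≤
        (g' i) ⁻¹ᵁ Z₀ ⊓ (f' i) ⁻¹ᵁ U' :=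
      inf_le_inf le_rfl ((f' i).preimage_mono (X'.basicOpen_le b))
    have hOU' : (g' i) ⁻¹ᵁ Z₀ ⊓ (f' i) ⁻¹ᵁ (X'.basicOpen b) ≤ (f' i) ⁻¹ᵁ U' :=
      hO.trans inf_le_right
    have key2 : (f' i).appLE U' ((g' i) ⁻¹ᵁ Z₀ ⊓ (f' i) ⁻¹ᵁ (X'.basicOpen b)) hOU'
        (b ^ n * t₀) = 0 := by
      have := congrArg ((Z' i).presheaf.map (homOfLE hO).op) key
      rw [map_zero, ← ConcreteCategory.comp_apply, Scheme.Hom.appLE_map] at this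
      exact this
    rw [map_mul, map_pow] at key2
    have hunit : IsUnit ((f' i).appLE U' ((g' i) ⁻¹ᵁ Z₀ ⊓ (f' i) ⁻¹ᵁ (X'.basicOpen b)) hOU' b) := by
      have h3 : (f' i).appLE U' ((g' i) ⁻¹ᵁ Z₀ ⊓ (f' i) ⁻¹ᵁ (X'.basicOpen b)) hOU' b =
          (f' i).appLE (X'.basicOpen b) ((g' i) ⁻¹ᵁ Z₀ ⊓ (f' i) ⁻¹ᵁ (X'.basicOpen b)) inf_le_right
            (X'.presheaf.map (homOfLE (X'.basicOpen_le b)).op b) := by
        rw [← ConcreteCategory.comp_apply, Scheme.Hom.map_appLE]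
      rw [h3]
      exact (X'.toRingedSpace.isUnit_res_basicOpen b).map _
    have key3 := (hunit.pow n).mul_right_eq_zero.1 key2
    -- identify the goal
    rw [← ConcreteCategory.comp_apply, ← ConcreteCategory.comp_apply]
    have h4 : X'.presheaf.map (homOfLE (X'.basicOpen_le b)).op ≫ (f' i).app (X'.basicOpen b) ≫
        (Z' i).presheaf.map (homOfLE (inf_le_right :
          (g' i) ⁻¹ᵁ Z₀ ⊓ (f' i) ⁻¹ᵁ (X'.basicOpen b) ≤ (f' i) ⁻¹ᵁ (X'.basicOpen b))).op =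
        (f' i).appLE U' ((g' i) ⁻¹ᵁ Z₀ ⊓ (f' i) ⁻¹ᵁ (X'.basicOpen b)) hOU' := by
      have : (f' i).app (X'.basicOpen b) ≫
        (Z' i).presheaf.map (homOfLE (inf_le_right :
          (g' i) ⁻¹ᵁ Z₀ ⊓ (f' i) ⁻¹ᵁ (X'.basicOpen b) ≤ (f' i) ⁻¹ᵁ (X'.basicOpen b))).op =
          (f' i).appLE (X'.basicOpen b) ((g' i) ⁻¹ᵁ Z₀ ⊓ (f' i) ⁻¹ᵁ (X'.basicOpen b))
            inf_le_right := rfl
      rw [this, Scheme.Hom.map_appLE]
    refine Eq.trans ?_ key3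
    exact congrArg (fun φ => (ConcreteCategory.hom φ) t₀) h4
  obtain ⟨n, hn⟩ := exists_pow_mul_eq_zero_of_res_basicOpen_eq_zero_of_isAffineOpen X' hU' t₀ b hres
  refine ⟨n, ?_⟩
  rw [hy0, smul_tmul', smul_eq_mul, hn, zero_tmul]

end Groth.Agent.H3.SchDomKrull
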