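import Mathlib
import Groth.Agent.Lib.Helper3.SchDomKrull1

set_option autoImplicit false

universe u

open AlgebraicGeometry CategoryTheory CategoryTheory.Limits Opposite TensorProduct TopologicalSpace

namespace Groth.Agent.H3.SchDomKrull

open Groth.Agent.H2.SchDense Groth.Agent.H3.SepGF Groth.Agent.H3.SchDomLfp Groth.Agent.H3.SepCol
  Groth.Agent.H3.SepNil Groth.Agent.H3.SepField Groth.Agent.H3.SchDomNil Groth.Agent.H3.SepKrull

variable {X S : Scheme.{u}}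

/-- the fibre hypothesis gives torsion separation over the residue field of each prime -/
theorem torsionSep_residueField_of_fibre_schDom (p : X ⟶ S) {ι : Type u} (Z : ι → Scheme.{u})
    (f : ∀ i, Z i ⟶ X)
    (hfib : ∀ s : S, ∀ (V : (pullback p (S.fromSpecResidueField s)).Opens)
      (t : Γ(pullback p (S.fromSpecResidueField s), V)),
      (∀ i, (pullback.map (f i ≫ p) (S.fromSpecResidueField s) p (S.fromSpecResidueField s) (f i)
        (𝟙 _) (𝟙 _) (Category.comp_id _)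
        ((Category.comp_id _).trans (Category.id_comp _).symm)).app V t = 0) → t = 0)
    {VS : S.Opens} {U : X.Opens} (hVS : IsAffineOpen VS) (hU : IsAffineOpen U)
    (hUSX : U ≤ p ⁻¹ᵁ VS) (𝔭 : Ideal Γ(S, VS)) [𝔭.IsPrime] :
    letI := (p.appLE VS U hUSX).hom.toAlgebra
    letI : ∀ j : (Σ i : ι, {Z₀ : (Z i).Opens // IsAffineOpen Z₀ ∧ Z₀ ≤ (f i) ⁻¹ᵁ U}),
        Algebra Γ(X, U) Γ(Z j.1, j.2.1) := fun j => ((f j.1).appLE U j.2.1 j.2.2.2).hom.toAlgebra
    TorsionSep Γ(X, U) (Γ(X, U) ⊗[Γ(S, VS)] 𝔭.ResidueField) Γ(X, U)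
      (ι := Σ i : ι, {Z₀ : (Z i).Opens // IsAffineOpen Z₀ ∧ Z₀ ≤ (f i) ⁻¹ᵁ U})
      (fun j => Γ(Z j.1, j.2.1)) (fun j => Algebra.linearMap Γ(X, U) Γ(Z j.1, j.2.1)) := by
  letI algAR : Algebra Γ(S, VS) Γ(X, U) := (p.appLE VS U hUSX).hom.toAlgebra
  letI algRN : ∀ j : (Σ i : ι, {Z₀ : (Z i).Opens // IsAffineOpen Z₀ ∧ Z₀ ≤ (f i) ⁻¹ᵁ U}),
      Algebra Γ(X, U) Γ(Z j.1, j.2.1) := fun j => ((f j.1).appLE U j.2.1 j.2.2.2).hom.toAlgebra
  set s : S := hVS.fromSpec ⟨𝔭, inferInstance⟩ with hs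
  have hsV : s ∈ VS := fromSpec_mem hVS _
  have H : IsPullback (pullback.fst p (S.fromSpecResidueField s))
      (pullback.snd p (S.fromSpecResidueField s)) p (S.fromSpecResidueField s) :=
    IsPullback.of_hasPullback p (S.fromSpecResidueField s)
  have hUST : (⊤ : (Spec (S.residueField s)).Opens) ≤ (S.fromSpecResidueField s) ⁻¹ᵁ VS := by
    rw [fromSpecResidueField_preimage_eq_top s hsV]
  have hT : IsAffineOpen (⊤ : (Spec (S.residueField s)).Opens) := isAffineOpen_top _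
  have hUs := isAffineOpen_inf H hUST hUSX hVS hT hU
  obtain ⟨ε⟩ := nonempty_algEquiv_of_isPullback H hUST hUSX hVS hT hU
  letI algAK : Algebra Γ(S, VS) Γ(Spec (S.residueField s), ⊤) :=
    ((S.fromSpecResidueField s).appLE VS ⊤ hUST).hom.toAlgebra
  letI algRP : Algebra Γ(X, U) Γ(pullback p (S.fromSpecResidueField s),
      (pullback.fst p (S.fromSpecResidueField s)) ⁻¹ᵁ U ⊓
        (pullback.snd p (S.fromSpecResidueField s)) ⁻¹ᵁ ⊤) :=
    ((pullback.fst p (S.fromSpecResidueField s)).appLE U _ inf_le_left).hom.toAlgebra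
  have h1 := torsionSep_of_schDom (pullback.fst p (S.fromSpecResidueField s)) Z f
    (fun i => pullback (f i ≫ p) (S.fromSpecResidueField s))
    (fun i => pullback.map (f i ≫ p) (S.fromSpecResidueField s) p (S.fromSpecResidueField s) (f i)
        (𝟙 _) (𝟙 _) (Category.comp_id _)
        ((Category.comp_id _).trans (Category.id_comp _).symm))
    (fun i => pullback.fst (f i ≫ p) (S.fromSpecResidueField s))
    (fun i => isPullback_map p (S.fromSpecResidueField s) (f i)) (hfib s) hU hUs inf_le_left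
  have h2 : TorsionSep Γ(X, U) (Γ(X, U) ⊗[Γ(S, VS)] Γ(Spec (S.residueField s), ⊤)) Γ(X, U)
      (ι := Σ i : ι, {Z₀ : (Z i).Opens // IsAffineOpen Z₀ ∧ Z₀ ≤ (f i) ⁻¹ᵁ U})
      (fun j => Γ(Z j.1, j.2.1)) (fun j => Algebra.linearMap Γ(X, U) Γ(Z j.1, j.2.1)) :=
    TorsionSep.of_algEquiv ε h1
  refine torsionSep_residueField_of_isField
    (isField_Γ_Spec' _ (Field.toIsField (S.residueField s))) 𝔭 ?_ h2
  intro a
  change (S.fromSpecResidueField s).appLE VS ⊤ hUST a = 0 ↔ _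
  rw [appLE_fromSpecResidueField_eq_zero_iff, hs, mem_basicOpen_fromSpec_iff, not_not]

theorem main_schDom [IsLocallyNoetherian X] (p : X ⟶ S) {ι : Type u} (Z : ι → Scheme.{u})
    (f : ∀ i, Z i ⟶ X) [∀ i, Flat (f i ≫ p)]
    (hfib : ∀ s : S, ∀ (V : (pullback p (S.fromSpecResidueField s)).Opens)
      (t : Γ(pullback p (S.fromSpecResidueField s), V)),
      (∀ i, (pullback.map (f i ≫ p) (S.fromSpecResidueField s) p (S.fromSpecResidueField s) (f i)
        (𝟙 _) (𝟙 _) (Category.comp_id _)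
        ((Category.comp_id _).trans (Category.id_comp _).symm)).app V t = 0) → t = 0)
    {S' : Scheme.{u}} (g : S' ⟶ S) (V : (pullback p g).Opens) (t : Γ(pullback p g, V))
    (ht : ∀ i, (pullback.map (f i ≫ p) g p g (f i) (𝟙 S') (𝟙 _) (Category.comp_id _)
      ((Category.comp_id _).trans (Category.id_comp _).symm)).app V t = 0) : t = 0 := by
  apply eq_zero_of_locally
  intro x' hx'
  have H : IsPullback (pullback.fst p g) (pullback.snd p g) p g := IsPullback.of_hasPullback p g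
  have hw : p (pullback.fst p g x') = g (pullback.snd p g x') := by
    rw [← Scheme.Hom.comp_apply, ← Scheme.Hom.comp_apply, pullback.condition]
  obtain ⟨VS, hVS, hsVS, -⟩ := exists_isAffineOpen_mem_and_subset
    (x := p (pullback.fst p g x')) (U := ⊤) (TopologicalSpace.Opens.mem_top _)
  obtain ⟨W, hW, hxW, hWle⟩ := exists_isAffineOpen_mem_and_subset
    (x := pullback.snd p g x') (U := g ⁻¹ᵁ VS) (by
      change g (pullback.snd p g x') ∈ VS
      rw [← hw]; exact hsVS)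
  obtain ⟨U, hU, hxU, hUle⟩ := exists_isAffineOpen_mem_and_subset
    (x := pullback.fst p g x') (U := p ⁻¹ᵁ VS) hsVS
  have hUST : W ≤ g ⁻¹ᵁ VS := hWle
  have hUSX : U ≤ p ⁻¹ᵁ VS := hUle
  have hUY := isAffineOpen_inf H hUST hUSX hVS hW hU
  obtain ⟨εφ⟩ := nonempty_algEquiv_of_isPullback H hUST hUSX hVS hW hU
  have hx'UY : x' ∈ (pullback.fst p g) ⁻¹ᵁ U ⊓ (pullback.snd p g) ⁻¹ᵁ W := ⟨hxU, hxW⟩
  obtain ⟨b', hb'le, hxb'⟩ := hUY.exists_basicOpen_le (V := V) ⟨x', hx'⟩ hx'UY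
  refine ⟨(pullback p g).basicOpen b', hb'le, hxb', ?_⟩
  have e : (pullback p g).basicOpen b' ≤ (pullback.fst p g) ⁻¹ᵁ U :=
    ((pullback p g).basicOpen_le b').trans inf_le_left
  letI algAA' : Algebra Γ(S, VS) Γ(S', W) := (g.appLE VS W hUST).hom.toAlgebra
  letI algAR : Algebra Γ(S, VS) Γ(X, U) := (p.appLE VS U hUSX).hom.toAlgebra
  letI algRP : Algebra Γ(X, U) Γ(pullback p g,
      (pullback.fst p g) ⁻¹ᵁ U ⊓ (pullback.snd p g) ⁻¹ᵁ W) :=
    ((pullback.fst p g).appLE U _ inf_le_left).hom.toAlgebra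
  letI algRB : Algebra Γ(X, U) Γ(pullback p g, (pullback p g).basicOpen b') :=
    ((pullback.fst p g).appLE U _ e).hom.toAlgebra
  haveI : IsScalarTower Γ(X, U) Γ(pullback p g,
      (pullback.fst p g) ⁻¹ᵁ U ⊓ (pullback.snd p g) ⁻¹ᵁ W)
      Γ(pullback p g, (pullback p g).basicOpen b') := by
    refine .of_algebraMap_eq' ?_
    change ((pullback.fst p g).appLE U _ e).hom =
      (((pullback.fst p g).appLE U _ inf_le_left) ≫
        (pullback p g).presheaf.map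
          (homOfLE ((pullback p g).basicOpen_le b')).op).hom
    congr 1
    rw [Scheme.Hom.appLE_map]
  haveI : IsLocalization.Away b' Γ(pullback p g, (pullback p g).basicOpen b') :=
    hUY.isLocalization_basicOpen b'
  letI algRN : ∀ j : (Σ i : ι, {Z₀ : (Z i).Opens // IsAffineOpen Z₀ ∧ Z₀ ≤ (f i) ⁻¹ᵁ U}),
      Algebra Γ(X, U) Γ(Z j.1, j.2.1) :=
    fun j => ((f j.1).appLE U j.2.1 j.2.2.2).hom.toAlgebra
  letI algAN : ∀ j : (Σ i : ι, {Z₀ : (Z i).Opens // IsAffineOpen Z₀ ∧ Z₀ ≤ (f i) ⁻¹ᵁ U}),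
      Algebra Γ(S, VS) Γ(Z j.1, j.2.1) :=
    fun j => (p.appLE VS U hUSX ≫ (f j.1).appLE U j.2.1 j.2.2.2).hom.toAlgebra
  haveI : ∀ j : (Σ i : ι, {Z₀ : (Z i).Opens // IsAffineOpen Z₀ ∧ Z₀ ≤ (f i) ⁻¹ᵁ U}),
      IsScalarTower Γ(S, VS) Γ(X, U) Γ(Z j.1, j.2.1) := fun j => .of_algebraMap_eq' rfl
  haveI : ∀ j : (Σ i : ι, {Z₀ : (Z i).Opens // IsAffineOpen Z₀ ∧ Z₀ ≤ (f i) ⁻¹ᵁ U}),
      Module.Flat Γ(S, VS) Γ(Z j.1, j.2.1) := by
    rintro ⟨i, Z₀, hZ₀, hZ₀U⟩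
    have hle : Z₀ ≤ (f i ≫ p) ⁻¹ᵁ VS := hZ₀U.trans ((f i).preimage_mono hUSX)
    have h1 : ((f i ≫ p).appLE VS Z₀ hle).hom.Flat :=
      HasRingHomProperty.appLE @Flat (f i ≫ p) inferInstance ⟨VS, hVS⟩ ⟨Z₀, hZ₀⟩ hle
    have h4 : (p.appLE VS U hUSX ≫ (f i).appLE U Z₀ hZ₀U) = (f i ≫ p).appLE VS Z₀ hle := by
      rw [Scheme.Hom.appLE_comp_appLE]
    rw [← h4] at h1
    exact h1
  haveI : IsNoetherianRing Γ(X, U) := IsLocallyNoetherian.component_noetherian ⟨U, hU⟩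
  have hT' : TorsionSep Γ(X, U) (Γ(X, U) ⊗[Γ(S, VS)] Γ(S', W)) Γ(X, U)
      (ι := Σ i : ι, {Z₀ : (Z i).Opens // IsAffineOpen Z₀ ∧ Z₀ ≤ (f i) ⁻¹ᵁ U})
      (fun j => Γ(Z j.1, j.2.1)) (fun j => Algebra.linearMap Γ(X, U) Γ(Z j.1, j.2.1)) := by
    refine torsionSep_of_fibres (fun 𝔭 _ => ?_)
    exact torsionSep_residueField_of_fibre_schDom p Z f hfib hVS hU hUSX 𝔭
  have hT := hT'.of_algEquiv εφ.symm
  have hJ := jointInjFor_of_isLocalization hT b'
    Γ(pullback p g, (pullback p g).basicOpen b')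
  set t' : Γ(pullback p g, (pullback p g).basicOpen b') :=
    (pullback p g).presheaf.map (homOfLE hb'le).op t with ht'
  have hz : ∀ j : (Σ i : ι, {Z₀ : (Z i).Opens // IsAffineOpen Z₀ ∧ Z₀ ≤ (f i) ⁻¹ᵁ U}),
      (Algebra.linearMap Γ(X, U) Γ(Z j.1, j.2.1)).lTensor
        Γ(pullback p g, (pullback p g).basicOpen b')
        (t' ⊗ₜ[Γ(X, U)] (1 : Γ(X, U))) = 0 := by
    rintro ⟨i, Z₀, hZ₀, hZ₀U⟩
    rw [LinearMap.lTensor_tmul, Algebra.linearMap_apply, map_one]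
    refine tmul_one_eq_zero (isPullback_map p g (f i)) e hZ₀U hU (hUY.basicOpen b') hZ₀ t' ?_
    rw [ht', ← ConcreteCategory.comp_apply, Scheme.Hom.map_appLE]
    set m := pullback.map (f i ≫ p) g p g (f i) (𝟙 S') (𝟙 _) (Category.comp_id _)
      ((Category.comp_id _).trans (Category.id_comp _).symm) with hm
    have h1 : m.appLE V
        ((pullback.fst (f i ≫ p) g) ⁻¹ᵁ Z₀ ⊓ m ⁻¹ᵁ ((pullback p g).basicOpen b'))
        (inf_le_right.trans (m.preimage_mono hb'le)) =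
        m.app V ≫ (pullback (f i ≫ p) g).presheaf.map
          (homOfLE (inf_le_right.trans (m.preimage_mono hb'le))).op := rfl
    rw [h1, ConcreteCategory.comp_apply, ht i, map_zero]
  have hzero := hJ (t' ⊗ₜ[Γ(X, U)] (1 : Γ(X, U))) hz
  have h3 := congrArg (TensorProduct.rid Γ(X, U) Γ(pullback p g, (pullback p g).basicOpen b')) hzero
  rw [TensorProduct.rid_tmul, one_smul, map_zero] at h3
  exact h3

end Groth.Agent.H3.SchDomKrull
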