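import Groth.Agent.Lib.Helper3.ConsDim

set_option autoImplicit false
universe u
open CategoryTheory Limits AlgebraicGeometry TopologicalSpace Opposite

namespace Groth.Agent.H3.ConsFin

theorem isLocallyArtinian_of_subsingleton (T : Scheme.{u}) [IsIntegral T] [Subsingleton T] :
    IsLocallyArtinian T := by
  haveI := ConsDim.isAffine_of_subsingleton T
  letI : Field ↑Γ(T, ⊤) := (ConsDim.isField_of_subsingleton T).toField
  haveI : IsLocallyNoetherian (Spec Γ(T, ⊤)) := inferInstance
  haveI : IsLocallyNoetherian T := isLocallyNoetherian_of_isOpenImmersion T.isoSpec.hom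
  haveI : DiscreteTopology T := inferInstance
  exact IsLocallyArtinian.of_isLocallyNoetherian_of_discreteTopology

theorem isFinite_iff_dim_le_zero {Y T : Scheme.{u}} (g : Y ⟶ T) [IsIntegral T] [Subsingleton T]
    [LocallyOfFiniteType g] [QuasiCompact g] :
    IsFinite g ↔ topologicalKrullDim ↥Y ≤ 0 := by
  haveI := isLocallyArtinian_of_subsingleton T
  constructor
  · intro h
    haveI : LocallyQuasiFinite g := inferInstance
    haveI : IsLocallyArtinian Y := IsLocallyArtinian.of_locallyQuasiFinite g
    haveI : DiscreteTopology Y := inferInstance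
    exact topologicalKrullDim_zero_of_discreteTopology Y
  · intro h
    haveI : IsLocallyNoetherian Y := LocallyOfFiniteType.isLocallyNoetherian g
    haveI : IsLocallyArtinian Y := IsLocallyArtinian.of_topologicalKrullDim_le_zero h
    haveI : DiscreteTopology Y := inferInstance
    haveI : CompactSpace T := inferInstance
    haveI : CompactSpace Y := QuasiCompact.compactSpace_of_compactSpace g
    haveI : Finite Y := finite_of_compact_of_discrete
    haveI : LocallyQuasiFinite g :=
      LocallyQuasiFinite.of_finite_preimage_singleton g fun x => Set.toFinite _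
    exact IsFinite.of_locallyQuasiFinite g

theorem isCons_isFinite : ConsProp.IsCons (fun Y T g => AlgebraicGeometry.IsFinite g) := by
  have h0 := ConsDim.isCons_dim_mem {d : WithBot ℕ∞ | d ≤ 0}
  constructor
  · intro Y Y' T T' g g' e h _ _ _ _ _ _ sq
    haveI : LocallyOfFiniteType g' := MorphismProperty.of_isPullback sq ‹LocallyOfFiniteType g›
    haveI : QuasiCompact g' := MorphismProperty.of_isPullback sq ‹QuasiCompact g›
    change IsFinite g ↔ IsFinite g'
    rw [isFinite_iff_dim_le_zero, isFinite_iff_dim_le_zero]
    exact h0.1 g g' e h sq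
  · intro X S u _ _ _ _
    have h1 := h0.2 u
    have hl : ConsProp.locus (fun Y T g => AlgebraicGeometry.IsFinite g) u =
        ConsProp.locus (fun Y T g => topologicalKrullDim ↥Y ∈ {d : WithBot ℕ∞ | d ≤ 0}) u := by
      ext s
      exact isFinite_iff_dim_le_zero (u.fiberToSpecResidueField s)
    rw [hl]
    exact h1

end Groth.Agent.H3.ConsFin
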