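import Groth.Agent.Lib.Helper3.FibDimIrr
import Groth.Agent.Lib.Helper1.DimLocF
import Groth.Agent.Lib.Helper1.JacDim

/-!
# Dimension of the total space of a dominant morphism of irreducible schemes (S4690, S4692)
-/

set_option autoImplicit false

universe u

open CategoryTheory Limits AlgebraicGeometry TopologicalSpace Opposite

namespace Groth.Agent.H3.FibDimIrr

open Groth.Agent.H1.FibDimTot Groth.Agent.H3.FBaseDim Groth.Agent.H1.DimIneq
  Groth.Agent.H1.DimFormula Groth.Agent.H1.Chev Groth.Agent.H1.DimLoc

variable {X Y : Scheme.{u}}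

/-- sup plus a natural number is bounded as soon as all members are -/
theorem iSup_add_natCast_le {ι : Sort*} (g : ι → WithBot ℕ∞) (t : ℕ) (D : WithBot ℕ∞)
    (h : ∀ i, g i + (t : WithBot ℕ∞) ≤ D) : (⨆ i, g i) + (t : WithBot ℕ∞) ≤ D := by
  induction D with
  | bot =>
    have h1 : ∀ i, g i = ⊥ := by
      intro i
      have := le_bot_iff.mp (h i)
      rcases WithBot.add_eq_bot.1 this with h' | h'
      · exact h'
      · exact absurd h' (WithBot.natCast_ne_bot t)
    have h2 : (⨆ i, g i) = ⊥ := by
      rw [eq_bot_iff]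
      exact iSup_le fun i => (h1 i).le
    rw [h2, WithBot.bot_add]
  | coe D =>
    induction D with
    | top => exact le_top
    | coe n =>
      by_cases htn : t ≤ n
      · have h1 : ∀ i, g i ≤ (((n - t : ℕ) : ℕ∞) : WithBot ℕ∞) := by
          intro i
          have hi := h i
          generalize g i = a at hi
          induction a with
          | bot => exact bot_le
          | coe a =>
            induction a with
            | top =>
              exfalso
              have : ((⊤ : ℕ∞) : WithBot ℕ∞) + (t : WithBot ℕ∞) = ((⊤ : ℕ∞) : WithBot ℕ∞) := by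
                have : ((⊤ : ℕ∞) + (t : ℕ∞)) = ⊤ := top_add _
                exact_mod_cast congrArg (fun z : ℕ∞ => (z : WithBot ℕ∞)) this
              rw [this] at hi
              have : (⊤ : ℕ∞) ≤ (n : ℕ∞) := by exact_mod_cast hi
              exact absurd this (by simp)
            | coe m =>
              have hi' : ((((m + t : ℕ) : ℕ∞)) : WithBot ℕ∞) ≤ (((n : ℕ) : ℕ∞) : WithBot ℕ∞) := by
                have e : ((((m + t : ℕ) : ℕ∞)) : WithBot ℕ∞) =
                    (((m : ℕ) : ℕ∞) : WithBot ℕ∞) + (t : WithBot ℕ∞) := by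
                  push_cast; rfl
                rw [e]; exact hi
              have : m + t ≤ n := by exact_mod_cast hi'
              have : m ≤ n - t := by omega
              exact_mod_cast this
        have h2 : (⨆ i, g i) ≤ (((n - t : ℕ) : ℕ∞) : WithBot ℕ∞) := iSup_le h1
        calc (⨆ i, g i) + (t : WithBot ℕ∞)
            ≤ (((n - t : ℕ) : ℕ∞) : WithBot ℕ∞) + (t : WithBot ℕ∞) := add_le_add_left h2 _
          _ = (((n : ℕ) : ℕ∞) : WithBot ℕ∞) := by
              have : n - t + t = n := by omega
              have e : (((n - t : ℕ) : ℕ∞) : WithBot ℕ∞) + (t : WithBot ℕ∞) =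
                  ((((n - t + t : ℕ) : ℕ∞)) : WithBot ℕ∞) := by
                push_cast; rfl
              rw [e, this]
      · have h1 : ∀ i, g i = ⊥ := by
          intro i
          have hi := h i
          generalize g i = a at hi
          induction a with
          | bot => rfl
          | coe a =>
            exfalso
            have h3 : ((t : ℕ∞) : WithBot ℕ∞) ≤ ((a + (t : ℕ∞) : ℕ∞) : WithBot ℕ∞) := by
              have : (t : ℕ∞) ≤ a + (t : ℕ∞) := le_add_self
              exact_mod_cast this
            have h4 : ((a + (t : ℕ∞) : ℕ∞) : WithBot ℕ∞) ≤ ((n : ℕ∞) : WithBot ℕ∞) := by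
              exact_mod_cast hi
            have : (t : ℕ∞) ≤ (n : ℕ∞) := by exact_mod_cast h3.trans h4
            have : t ≤ n := by exact_mod_cast this
            exact htn this
        have h2 : (⨆ i, g i) = ⊥ := by
          rw [eq_bot_iff]
          exact iSup_le fun i => (h1 i).le
        rw [h2, WithBot.bot_add]
        exact bot_le

/-- the residue field extension at a point closed in its fibre has transcendence degree zero -/
theorem trdeg_eq_zero_of_isClosed_fiber (h : X ⟶ Y) [LocallyOfFiniteType h] (x : X) (y : Y)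
    (hy : h x = y) (xT : h.fiber y) (hxT : h.fiberι y xT = x)
    (hcl : IsClosed ({xT} : Set (h.fiber y))) :
    @Algebra.trdeg (Y.residueField (h x)) (X.residueField x) _ _
      (h.residueFieldMap x).hom.toAlgebra = 0 := by
  subst hy
  have hxT' : xT = h.asFiber x := by
    apply (h.fiberι (h x)).isEmbedding.injective
    rw [hxT, h.fiberι_asFiber]
  subst hxT'
  obtain ⟨t, ht, hdim⟩ := @Groth.Agent.H1.ClosureDim.exists_trdeg_eq_dim_closure
    (Y.residueField (h x)) _ _ (h.fiberToSpecResidueField (h x))
    (Groth.Agent.H1.Chev.locallyOfFiniteType_fiberToSpecResidueField h (h x)) (h.asFiber x)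
  rw [hcl.closure_eq, Groth.Agent.H1.JacDim.topologicalKrullDim_singleton] at hdim
  have ht0 : t = 0 := by exact_mod_cast hdim.symm
  obtain ⟨θ⟩ := Groth.Agent.H1.DimFormula.exists_residueField_fiber_equiv h x
  letI a1 := (h.residueFieldMap x).hom.toAlgebra
  letI a2 := (Groth.Agent.H1.DimFormula.toResidueField (k := Y.residueField (h x))
      (h.fiberToSpecResidueField (h x)) (h.asFiber x)).hom.toAlgebra
  rw [θ.trdeg_eq, ht, ht0]
  rfl

/-- every nonempty fibre of a morphism locally of finite type has a point closed in the fibre -/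
theorem exists_closed_in_fiber (f : X ⟶ Y) [LocallyOfFiniteType f] (x₀ : X) :
    ∃ (xT : f.fiber (f x₀)), IsClosed ({xT} : Set (f.fiber (f x₀))) := by
  have h1 : closure (closedPoints (f.fiber (f x₀))) = Set.univ := closure_closedPoints
  haveI : Nonempty ↥(f.fiber (f x₀)) := ⟨f.asFiber x₀⟩
  have h2 : (closedPoints (f.fiber (f x₀))).Nonempty := by
    by_contra hne
    rw [Set.not_nonempty_iff_eq_empty] at hne
    rw [hne, closure_empty] at h1
    exact Set.empty_ne_univ h1
  obtain ⟨xT, hxT⟩ := h2
  exact ⟨xT, hxT⟩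

/-- the dimension formula: dimension of the total space -/
theorem dim_eq_iSup_add [IrreducibleSpace X] [IrreducibleSpace Y] [IsLocallyNoetherian Y]
    (f : X ⟶ Y) [LocallyOfFiniteType f] [IsDominant f]
    (hcat : ∀ y : Y, CAlg.IsUniversallyCatenary (Y.presheaf.stalk y)) :
    topologicalKrullDim X = (⨆ x : X, ringKrullDim (Y.presheaf.stalk (f x))) +
      topologicalKrullDim ↥(f.fiber (genericPoint Y)) := by
  obtain ⟨tξ, htξ, hdimξ⟩ := exists_trdeg_generic f
  rw [hdimξ]
  apply le_antisymm
  · rw [Groth.Agent.H3.FibreDim.scheme_dim_eq_iSup_stalk X]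
    apply iSup_le
    intro x
    obtain ⟨t, ht, -⟩ := exists_fibreDimAt_eq_stalk_add_trdeg f x
    have key := stalk_dim_add_le f x t tξ ht htξ
    calc ringKrullDim (X.presheaf.stalk x)
        ≤ ringKrullDim (X.presheaf.stalk x) + (t : WithBot ℕ∞) :=
          le_add_of_nonneg_right (Nat.cast_nonneg t)
      _ ≤ ringKrullDim (Y.presheaf.stalk (f x)) + (tξ : WithBot ℕ∞) := key
      _ ≤ _ := add_le_add_left (le_iSup (fun x : X => ringKrullDim (Y.presheaf.stalk (f x))) x) _
  · apply iSup_add_natCast_le
    intro x₀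
    obtain ⟨xT, hxT⟩ := exists_closed_in_fiber f x₀
    set x : X := f.fiberι (f x₀) xT with hx
    have hfx : f x = f x₀ := by
      have : x ∈ Set.range (f.fiberι (f x₀)) := ⟨xT, rfl⟩
      rwa [Scheme.Hom.range_fiberι] at this
    have ht := trdeg_eq_zero_of_isClosed_fiber f x (f x₀) hfx xT rfl hxT
    have key := stalk_dim_add_le f x 0 tξ (by rw [ht]; rfl) htξ
    have hfinY : ringKrullDim (Y.presheaf.stalk (f x)) ≠ ⊤ := ringKrullDim_ne_top
    have hfin : ringKrullDim (X.presheaf.stalk x) ≠ ⊤ := by
      intro htop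
      rw [htop] at key
      generalize ringKrullDim (Y.presheaf.stalk (f x)) = a at key hfinY
      induction a with
      | bot => simp at key
      | coe a =>
        induction a with
        | top => exact hfinY rfl
        | coe m =>
          have e1 : (⊤ : WithBot ℕ∞) + ((0 : ℕ) : WithBot ℕ∞) = ⊤ := by simp
          have e2 : (((m : ℕ) : ℕ∞) : WithBot ℕ∞) + (tξ : WithBot ℕ∞) =
              ((((m + tξ : ℕ) : ℕ∞)) : WithBot ℕ∞) := by
            push_cast; rfl
          rw [e1, e2, top_le_iff] at key
          have : (((m + tξ : ℕ) : ℕ∞)) = ⊤ := by exact_mod_cast key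
          exact absurd this (ENat.natCast_ne_top _)
    have heq := stalk_dim_add_resTrdeg_eq_of_irreducible f x (hcat _) hfin
    rw [toENat_resTrdeg_of_eq_natCast f x 0 (by rw [ht]; rfl),
      toENat_resTrdeg_of_eq_natCast f (genericPoint X) tξ htξ] at heq
    have h0 : (((0 : ℕ) : ℕ∞) : WithBot ℕ∞) = 0 := rfl
    rw [h0, add_zero, hfx] at heq
    have : (((tξ : ℕ) : ℕ∞) : WithBot ℕ∞) = (tξ : WithBot ℕ∞) := rfl
    rw [this] at heq
    rw [← heq]
    exact Groth.Agent.H3.FibreDim.stalk_dim_le X x

/-- S4690 -/
theorem topologicalKrullDim_le_add_genericFibre (f : X ⟶ Y) [IsLocallyNoetherian Y]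
    [LocallyOfFiniteType f] [IrreducibleSpace X] [IrreducibleSpace Y] (hf : DenseRange f.base) :
    topologicalKrullDim X ≤ topologicalKrullDim Y + topologicalKrullDim (f.fiber (genericPoint Y)) ∧
      ((∀ y : Y, CAlg.IsUniversallyCatenary (Y.presheaf.stalk y)) →
        (topologicalKrullDim X = topologicalKrullDim Y +
            topologicalKrullDim (f.fiber (genericPoint Y)) ↔
          topologicalKrullDim Y = ⨆ y ∈ Set.range f.base, ringKrullDim (Y.presheaf.stalk y))) := by
  haveI : IsDominant f := ⟨hf⟩
  obtain ⟨tξ, htξ, hdimξ⟩ := exists_trdeg_generic f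
  constructor
  · rw [hdimξ, Groth.Agent.H3.FibreDim.scheme_dim_eq_iSup_stalk X]
    apply iSup_le
    intro x
    obtain ⟨t, ht, -⟩ := exists_fibreDimAt_eq_stalk_add_trdeg f x
    have key := stalk_dim_add_le f x t tξ ht htξ
    calc ringKrullDim (X.presheaf.stalk x)
        ≤ ringKrullDim (X.presheaf.stalk x) + (t : WithBot ℕ∞) :=
          le_add_of_nonneg_right (Nat.cast_nonneg t)
      _ ≤ ringKrullDim (Y.presheaf.stalk (f x)) + (tξ : WithBot ℕ∞) := key
      _ ≤ _ := add_le_add_left (Groth.Agent.H3.FibreDim.stalk_dim_le Y (f x)) _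
  · intro hcat
    have key := dim_eq_iSup_add f hcat
    have hs : (⨆ y ∈ Set.range f.base, ringKrullDim (Y.presheaf.stalk y)) =
        ⨆ x : X, ringKrullDim (Y.presheaf.stalk (f x)) := iSup_range
    rw [hs, key, hdimξ]
    constructor
    · intro h
      exact (withBot_add_natCast_cancel tξ h).symm
    · intro h
      rw [← h]

theorem irreducibleSpace_of_surjective {A B : Type*} [TopologicalSpace A] [TopologicalSpace B]
    [IrreducibleSpace A] (g : A → B) (hg : Continuous g) (hs : Function.Surjective g) :
    IrreducibleSpace B := by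
  have h1 : IsIrreducible (g '' Set.univ) :=
    (IrreducibleSpace.isIrreducible_univ A).image g hg.continuousOn
  rw [Set.image_univ, hs.range_eq] at h1
  exact { isPreirreducible_univ := h1.2, toNonempty := ⟨g (Classical.arbitrary A)⟩ }

/-- S4692 -/
theorem topologicalKrullDim_eq_add_of_fibre_dim_eq (f : X ⟶ Y) [IsLocallyNoetherian Y]
    [LocallyOfFiniteType f] [IrreducibleSpace X]
    (hY : ∀ y : Y, CAlg.IsUniversallyCatenary (Y.presheaf.stalk y)) (n : ℕ) :
    ((∀ y : Y, (n : WithBot ℕ∞) ≤ topologicalKrullDim (f.fiber y)) →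
        topologicalKrullDim Y + n ≤ topologicalKrullDim X) ∧
      ((∀ y : Y, topologicalKrullDim (f.fiber y) = n) →
        topologicalKrullDim X = topologicalKrullDim Y + n) := by
  have main : (∀ y : Y, (n : WithBot ℕ∞) ≤ topologicalKrullDim (f.fiber y)) →
      ∃ (_ : IrreducibleSpace Y), topologicalKrullDim X = topologicalKrullDim Y +
        topologicalKrullDim ↥(f.fiber (genericPoint Y)) := by
    intro h
    have hsurj : Function.Surjective f := by
      intro y
      by_contra hne
      have hempty : IsEmpty ↥(f.fiber y) := by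
        constructor
        intro z
        apply hne
        have : f.fiberι y z ∈ Set.range (f.fiberι y) := ⟨z, rfl⟩
        rw [Scheme.Hom.range_fiberι] at this
        exact ⟨_, this⟩
      have h1 := h y
      rw [Groth.Agent.H3.FBaseDim.dim_eq_bot_of_isEmpty] at h1
      simp at h1
    haveI : IrreducibleSpace Y := irreducibleSpace_of_surjective f f.continuous hsurj
    haveI : IsDominant f := ⟨hsurj.denseRange⟩
    refine ⟨inferInstance, ?_⟩
    rw [dim_eq_iSup_add f hY, Groth.Agent.H3.FibreDim.scheme_dim_eq_iSup_stalk Y]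
    congr 1
    exact hsurj.iSup_comp (fun y => ringKrullDim (Y.presheaf.stalk y))
  constructor
  · intro h
    obtain ⟨_, hm⟩ := main h
    rw [hm]
    exact add_le_add_right (h _) _
  · intro h
    obtain ⟨_, hm⟩ := main (fun y => (h y).ge)
    rw [hm, h]

end Groth.Agent.H3.FibDimIrr
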