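import Mathlib
import Groth.Prelude.Def_MoreMor
import Groth.Agent.Lib.Helper5.AG.FormalEtRes

set_option autoImplicit false
universe u
open AlgebraicGeometry CategoryTheory TopologicalSpace Opposite CategoryTheory.Limits

namespace Groth.Agent.H3.Om

variable {X Y : Scheme.{u}}

/-- scheme-level formal smoothness (lifting against affine first-order thickenings) gives
ring-level formal smoothness on affine pieces. -/
theorem formallySmooth_appLE {f : X ⟶ Y} (hf : MoreMor.IsFormallySmoothHom f) {U : X.Opens}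
    (hU : IsAffineOpen U) {V : Y.Opens} (hV : IsAffineOpen V) (e : U ≤ f ⁻¹ᵁ V) :
    (f.appLE V U e).hom.FormallySmooth := by
  letI := (f.appLE V U e).hom.toAlgebra
  change Algebra.FormallySmooth Γ(Y, V) Γ(X, U)
  apply Algebra.FormallySmooth.of_comp_surjective
  intro C _ _ I hI g
  let a : Spec (CommRingCat.of (C ⧸ I)) ⟶ X :=
    Spec.map (CommRingCat.ofHom g.toRingHom) ≫ hU.fromSpec
  let b : Spec (CommRingCat.of C) ⟶ Y :=
    Spec.map (CommRingCat.ofHom (algebraMap Γ(Y, V) C)) ≫ hV.fromSpec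
  have hφ : f.appLE V U e = CommRingCat.ofHom (algebraMap Γ(Y, V) Γ(X, U)) := rfl
  have hab : Spec.map (CommRingCat.ofHom (Ideal.Quotient.mk I)) ≫ b = a ≫ f := by
    simp only [a, b]
    rw [Category.assoc, ← IsAffineOpen.SpecMap_appLE_fromSpec f hV hU e, ← Category.assoc,
      ← Category.assoc, ← Spec.map_comp, ← Spec.map_comp]
    congr 2
    ext x
    exact (g.commutes x).symm
  obtain ⟨l, hl1, hl2⟩ := hf C I hI a b hab
  have hr : Set.range l ⊆ Set.range hU.fromSpec := by
    rintro _ ⟨y, rfl⟩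
    obtain ⟨z, rfl⟩ := Groth.Agent.H5.AG.specMap_mk_surjective C I hI y
    rw [← Scheme.Hom.comp_apply, hl1, Scheme.Hom.comp_apply]
    exact ⟨_, rfl⟩
  let l' := IsOpenImmersion.lift hU.fromSpec l hr
  have hl' : l' ≫ hU.fromSpec = l := IsOpenImmersion.lift_fac _ _ _
  obtain ⟨ψ, hψ⟩ : ∃ ψ : Γ(X, U) ⟶ CommRingCat.of C, Spec.map ψ = l' :=
    ⟨Spec.preimage l', Spec.map_preimage l'⟩
  have h1 : Spec.map (ψ ≫ CommRingCat.ofHom (Ideal.Quotient.mk I)) =
      Spec.map (CommRingCat.ofHom g.toRingHom) := by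
    rw [Spec.map_comp, hψ, ← cancel_mono hU.fromSpec, Category.assoc, hl', hl1]
  have h2 : Spec.map (f.appLE V U e ≫ ψ) =
      Spec.map (CommRingCat.ofHom (algebraMap Γ(Y, V) C)) := by
    rw [Spec.map_comp, hψ, ← cancel_mono hV.fromSpec, Category.assoc,
      IsAffineOpen.SpecMap_appLE_fromSpec f hV hU e, ← Category.assoc, hl', hl2]
  have h1' := Spec.map_injective h1
  have h2' := Spec.map_injective h2
  refine ⟨⟨ψ.hom, fun r => ?_⟩, ?_⟩
  · exact congr($h2' r)
  · ext x
    exact congr($h1' x)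

end Groth.Agent.H3.Om
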