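import Mathlib
import Groth.Agent.Lib.Helper8.SmoothNormalRing

set_option autoImplicit false
universe u
open TensorProduct AlgebraicGeometry CategoryTheory

namespace Groth.Agent.H3.SmStalk

attribute [local instance] Algebra.TensorProduct.rightAlgebra in
/-- If `B` is smooth over `A`, `q` is a prime of `B` over `p`, and `A_p` is reduced, then
`B_q` is reduced. -/
theorem reduced_localization_of_smooth (A B : Type u) [CommRing A] [CommRing B] [Algebra A B]
    [Algebra.Smooth A B] (q : Ideal B) [q.IsPrime] (p : Ideal A) [p.IsPrime]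
    (hpq : q.comap (algebraMap A B) = p) [IsReduced (Localization.AtPrime p)] :
    IsReduced (Localization.AtPrime q) := by
  let A' := Localization.AtPrime p
  let B' := A' ⊗[A] B
  let M := Algebra.algebraMapSubmonoid B p.primeCompl
  have hloc : IsLocalization M B' := inferInstance
  have hdisj : Disjoint (M : Set B) (q : Set B) := by
    rw [Set.disjoint_left]
    rintro _ ⟨a, ha, rfl⟩ haq
    apply ha
    rw [← hpq]
    exact haq
  let q' : Ideal B' := q.map (algebraMap B B')
  haveI hq' : q'.IsPrime := IsLocalization.isPrime_of_isPrime_disjoint M _ _ ‹_› hdisj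
  have hq'c : q'.comap (algebraMap B B') = q :=
    IsLocalization.under_map_of_isPrime_disjoint M _ ‹_› hdisj
  haveI hR : IsReduced B' := Groth.Agent.H8.Hens.isReduced_of_smooth A' B'
  haveI hR' : IsReduced (Localization.AtPrime q') :=
    isReduced_localizationPreserves q'.primeCompl (Localization.AtPrime q') hR
  have h2 : IsLocalization.AtPrime (Localization.AtPrime q') q := by
    have := IsLocalization.isLocalization_isLocalization_atPrime_isLocalization M (Localization.AtPrime q') q'
    have hpc : (q'.comap (algebraMap B B')).primeCompl = q.primeCompl := by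
      ext x
      simp only [Ideal.primeCompl, Submonoid.mem_mk, Subsemigroup.mem_mk, Set.mem_compl_iff,
        SetLike.mem_coe, hq'c]
    change IsLocalization q.primeCompl _
    rw [← hpc]
    exact this
  let e := IsLocalization.algEquiv q.primeCompl (Localization.AtPrime q) (Localization.AtPrime q')
  exact isReduced_of_injective e.toRingEquiv.toRingHom e.injective

/-- Reducedness of local rings descends along flat maps. -/
theorem reduced_localization_of_flat (A B : Type u) [CommRing A] [CommRing B] [Algebra A B]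
    [Module.Flat A B] (q : Ideal B) [q.IsPrime] (p : Ideal A) [p.IsPrime] [q.LiesOver p]
    [IsReduced (Localization.AtPrime q)] :
    IsReduced (Localization.AtPrime p) := by
  letI := Localization.AtPrime.algebraOfLiesOver p q
  haveI : IsLocalHom (algebraMap (Localization.AtPrime p) (Localization.AtPrime q)) :=
    Localization.isLocalHom_localRingHom _ _ _ Ideal.LiesOver.over
  haveI : Module.FaithfullyFlat (Localization.AtPrime p) (Localization.AtPrime q) :=
    Module.FaithfullyFlat.of_flat_of_isLocalHom
  exact isReduced_of_injective (algebraMap (Localization.AtPrime p) (Localization.AtPrime q))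
    (FaithfulSMul.algebraMap_injective _ _)

theorem main {X Y : Scheme.{u}} (f : X ⟶ Y)
    [LocallyOfFinitePresentation f] (x : ↥X) (hx : x ∈ f.smoothLocus) :
    (IsReduced ↑(X.presheaf.stalk x) ↔ IsReduced ↑(Y.presheaf.stalk (f.base x))) ∧
    ((IsDomain ↑(X.presheaf.stalk x) ∧ IsIntegrallyClosed ↑(X.presheaf.stalk x)) ↔
      (IsDomain ↑(Y.presheaf.stalk (f.base x)) ∧ IsIntegrallyClosed ↑(Y.presheaf.stalk (f.base x)))) := by
  obtain ⟨U, hU, V, hV, hVU, hxV, H⟩ := exists_smooth_of_formallySmooth_stalk f x hx
  algebraize [(f.appLE U V hVU).hom]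
  let p := (hU.primeIdealOf ⟨f x, hVU hxV⟩).asIdeal
  let q := (hV.primeIdealOf ⟨x, hxV⟩).asIdeal
  have hqp : q.comap (algebraMap Γ(Y, U) Γ(X, V)) = p :=
    congr($(IsAffineOpen.comap_primeIdealOf_appLE U hU V hV hVU hxV).1)
  haveI : q.LiesOver p := ⟨hqp.symm⟩
  haveI : Module.Flat Γ(Y, U) Γ(X, V) := inferInstance
  letI := Y.presheaf.algebra_section_stalk ⟨f x, hVU hxV⟩
  haveI := hU.isLocalization_stalk ⟨f x, hVU hxV⟩
  letI := X.presheaf.algebra_section_stalk ⟨x, hxV⟩
  haveI := hV.isLocalization_stalk ⟨x, hxV⟩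
  let eY := IsLocalization.algEquiv p.primeCompl (Y.presheaf.stalk (f x)) (Localization.AtPrime p)
  let eX := IsLocalization.algEquiv q.primeCompl (X.presheaf.stalk x) (Localization.AtPrime q)
  have redX : IsReduced (X.presheaf.stalk x) ↔ IsReduced (Localization.AtPrime q) :=
    ⟨fun h => isReduced_of_injective eX.symm.toRingEquiv.toRingHom eX.symm.injective,
     fun h => isReduced_of_injective eX.toRingEquiv.toRingHom eX.injective⟩
  have redY : IsReduced (Y.presheaf.stalk (f x)) ↔ IsReduced (Localization.AtPrime p) :=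
    ⟨fun h => isReduced_of_injective eY.symm.toRingEquiv.toRingHom eY.symm.injective,
     fun h => isReduced_of_injective eY.toRingEquiv.toRingHom eY.injective⟩
  have norX : (IsDomain (X.presheaf.stalk x) ∧ IsIntegrallyClosed (X.presheaf.stalk x)) ↔
      (IsDomain (Localization.AtPrime q) ∧ IsIntegrallyClosed (Localization.AtPrime q)) :=
    ⟨fun h => ⟨haveI := h.1; eX.symm.toMulEquiv.isDomain _,
        @IsIntegrallyClosed.of_equiv _ _ _ _ eX.toRingEquiv h.2⟩,
     fun h => ⟨haveI := h.1; eX.toMulEquiv.isDomain _,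
        @IsIntegrallyClosed.of_equiv _ _ _ _ eX.symm.toRingEquiv h.2⟩⟩
  have norY : (IsDomain (Y.presheaf.stalk (f x)) ∧ IsIntegrallyClosed (Y.presheaf.stalk (f x))) ↔
      (IsDomain (Localization.AtPrime p) ∧ IsIntegrallyClosed (Localization.AtPrime p)) :=
    ⟨fun h => ⟨haveI := h.1; eY.symm.toMulEquiv.isDomain _,
        @IsIntegrallyClosed.of_equiv _ _ _ _ eY.toRingEquiv h.2⟩,
     fun h => ⟨haveI := h.1; eY.toMulEquiv.isDomain _,
        @IsIntegrallyClosed.of_equiv _ _ _ _ eY.symm.toRingEquiv h.2⟩⟩
  refine ⟨?_, ?_⟩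
  · rw [redX, redY]
    exact ⟨fun h => reduced_localization_of_flat Γ(Y, U) Γ(X, V) q p,
      fun h => reduced_localization_of_smooth Γ(Y, U) Γ(X, V) q p hqp⟩
  · rw [norX, norY]
    exact ⟨fun h => haveI := h.1; haveI := h.2;
        Groth.Agent.H8.SmNR.normal_localization_of_flat Γ(Y, U) Γ(X, V) q p,
      fun h => haveI := h.1; haveI := h.2;
        Groth.Agent.H8.SmNR.normal_localization_of_smooth Γ(Y, U) Γ(X, V) q p hqp⟩

end Groth.Agent.H3.SmStalk
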