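import Mathlib
import Groth.Prelude.Def_Omega3

set_option autoImplicit false
universe u
open AlgebraicGeometry CategoryTheory TopologicalSpace Opposite

namespace Groth.Agent.H3.Om

variable {X Y : Scheme.{u}}

theorem Der.app_map {f : X ⟶ Y} {F : X.Modules} (D : OmegaSh.Der f F) {U V : X.Opens} (i : V ⟶ U)
    (s : Γ(X, U)) :
    D.app V (X.presheaf.map i.op s) = F.presheaf.map i.op (D.app U s) :=
  D.d_map i.op s

theorem Der.app_mul {f : X ⟶ Y} {F : X.Modules} (D : OmegaSh.Der f F) (U : X.Opens)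
    (a b : Γ(X, U)) :
    D.app U (a * b) = a • D.app U b + b • D.app U a :=
  D.d_mul a b

/-- On a basic open of an affine scheme, a derivation is determined by its global values. -/
theorem der_basicOpen_eq [IsAffine X] {f : X ⟶ Y} {F : X.Modules} (D D' : OmegaSh.Der f F)
    (h : ∀ t : Γ(X, ⊤), D.app ⊤ t = D'.app ⊤ t) (g : Γ(X, ⊤)) (s : Γ(X, X.basicOpen g)) :
    D.app (X.basicOpen g) s = D'.app (X.basicOpen g) s := by
  letI : Algebra Γ(X, ⊤) Γ(X, X.basicOpen g) :=
    (X.presheaf.map (homOfLE (le_top : X.basicOpen g ≤ ⊤)).op).hom.toAlgebra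
  haveI : IsLocalization.Away g Γ(X, X.basicOpen g) :=
    (isAffineOpen_top X).isLocalization_basicOpen g
  obtain ⟨⟨a, m⟩, hm⟩ := IsLocalization.surj (Submonoid.powers g) s
  have hu : IsUnit (algebraMap Γ(X, ⊤) Γ(X, X.basicOpen g) m) := IsLocalization.map_units _ m
  have key : ∀ E : OmegaSh.Der f F,
      algebraMap Γ(X, ⊤) Γ(X, X.basicOpen g) m • E.app (X.basicOpen g) s =
        F.presheaf.map (homOfLE (le_top : X.basicOpen g ≤ ⊤)).op (E.app ⊤ a) -
          s • F.presheaf.map (homOfLE (le_top : X.basicOpen g ≤ ⊤)).op (E.app ⊤ (m : Γ(X, ⊤))) := by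
    intro E
    have h1 := congrArg (E.app (X.basicOpen g)) hm
    rw [Der.app_mul] at h1
    have h2 : E.app (X.basicOpen g) (algebraMap Γ(X, ⊤) Γ(X, X.basicOpen g) a) =
        F.presheaf.map (homOfLE (le_top : X.basicOpen g ≤ ⊤)).op (E.app ⊤ a) :=
      Der.app_map E (homOfLE le_top) a
    have h3 : E.app (X.basicOpen g) (algebraMap Γ(X, ⊤) Γ(X, X.basicOpen g) (m : Γ(X, ⊤))) =
        F.presheaf.map (homOfLE (le_top : X.basicOpen g ≤ ⊤)).op (E.app ⊤ (m : Γ(X, ⊤))) :=
      Der.app_map E (homOfLE le_top) _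
    rw [h2, h3] at h1
    rw [← h1]
    abel
  have e := (key D).trans ((by rw [h a, h m]) : _ = _) |>.trans (key D').symm
  exact hu.smul_left_cancel.1 e

theorem der_ext_of_affine [IsAffine X] {f : X ⟶ Y} {F : X.Modules} (D D' : OmegaSh.Der f F)
    (h : ∀ t : Γ(X, ⊤), D.app ⊤ t = D'.app ⊤ t) : D = D' := by
  have hW : ∀ (W : X.Opens) (s : Γ(X, W)), D.app W s = D'.app W s := by
    intro W s
    -- cover `W` by basic opens
    have hB := isBasis_basicOpen X
    have hex : ∀ x : W, ∃ g : Γ(X, ⊤), x.1 ∈ X.basicOpen g ∧ X.basicOpen g ≤ W := by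
      intro x
      obtain ⟨_, ⟨g, rfl⟩, hxg, hgW⟩ := Opens.isBasis_iff_nbhd.1 hB x.2
      exact ⟨g, hxg, hgW⟩
    choose g hxg hgW using hex
    refine TopCat.Sheaf.eq_of_locally_eq' ⟨_, F.isSheaf⟩
      (fun x : W => X.basicOpen (g x)) W (fun x => homOfLE (hgW x)) ?_ _ _ ?_
    · intro y hy
      exact Opens.mem_iSup.2 ⟨⟨y, hy⟩, hxg ⟨y, hy⟩⟩
    · intro x
      have e1 := Der.app_map D (homOfLE (hgW x)) s
      have e2 := Der.app_map D' (homOfLE (hgW x)) s
      have e3 := der_basicOpen_eq D D' h (g x) (X.presheaf.map (homOfLE (hgW x)).op s)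
      exact e1.symm.trans (e3.trans e2)
  apply PresheafOfModules.Derivation.ext
  funext W
  ext s
  exact hW W.unop s

end Groth.Agent.H3.Om
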