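import Mathlib
import Groth.Prelude.Def_Omega3
import Groth.Agent.Lib.Helper3.OmUniq

set_option autoImplicit false
universe u
open AlgebraicGeometry CategoryTheory TopologicalSpace Opposite

namespace Groth.Agent.H3.Om

variable {X Y : Scheme.{u}}

/-- constructor for sheaf derivations from section-level data -/
def Der.mk' (f : X ⟶ Y) (F : X.Modules) (δ : ∀ U : X.Opens, Γ(X, U) →+ Γ(F, U))
    (hmul : ∀ (U : X.Opens) (a b : Γ(X, U)), δ U (a * b) = a • δ U b + b • δ U a)
    (hmap : ∀ {U V : X.Opens} (i : V ⟶ U) (s : Γ(X, U)),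
      δ V (X.presheaf.map i.op s) = F.presheaf.map i.op (δ U s))
    (happ : ∀ (V : Y.Opens) (a : Γ(Y, V)), δ (f ⁻¹ᵁ V) (f.app V a) = 0) : OmegaSh.Der f F where
  d {W} := δ W.unop
  d_mul {W} a b := hmul W.unop a b
  d_map {W W'} i s := hmap i.unop s
  d_app {V} a := happ V.unop a

theorem Der.mk'_app (f : X ⟶ Y) (F : X.Modules) (δ : ∀ U : X.Opens, Γ(X, U) →+ Γ(F, U))
    (hmul hmap happ) (U : X.Opens) : (Der.mk' f F δ hmul hmap happ).app U = δ U := rfl

theorem Der.ext' {f : X ⟶ Y} {F : X.Modules} {D D' : OmegaSh.Der f F}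
    (h : ∀ (U : X.Opens) (s : Γ(X, U)), D.app U s = D'.app U s) : D = D' := by
  apply PresheafOfModules.Derivation.ext
  funext W
  ext s
  exact h W.unop s

theorem Der.app_comp {f : X ⟶ Y} {F : X.Modules} (D : OmegaSh.Der f F) (V : Y.Opens) (a : Γ(Y, V)) :
    D.app (f ⁻¹ᵁ V) (f.app V a) = 0 :=
  D.d_app (X := op V) a

theorem Der.postcomp_app {f : X ⟶ Y} {F G : X.Modules} (D : OmegaSh.Der f F) (α : F ⟶ G)
    (U : X.Opens) (s : Γ(X, U)) :
    OmegaSh.Der.app (D.postcomp α.val) U s = α.app U (D.app U s) := rfl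


/-- push a derivation forward along any morphism -/
noncomputable def Der.push {X' : Scheme.{u}} (j : X' ⟶ X) {f : X ⟶ Y} {G : X'.Modules}
    (D : OmegaSh.Der (j ≫ f) G) : OmegaSh.Der f ((Scheme.Modules.pushforward j).obj G) :=
  Der.mk' f _ (fun V => (D.app (j ⁻¹ᵁ V)).comp (j.app V).hom.toAddMonoidHom)
    (fun V a b => by
      change D.app (j ⁻¹ᵁ V) (j.app V (a * b)) = _
      rw [map_mul, Der.app_mul]
      rfl)
    (fun {U V} i s => by
      change D.app (j ⁻¹ᵁ V) (j.app V (X.presheaf.map i.op s)) = _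
      have h := j.naturality i.op
      have h' : j.app V (X.presheaf.map i.op s) =
          X'.presheaf.map ((Opens.map j.base).map i).op (j.app U s) := congr($h s)
      rw [h', Der.app_map]
      rfl)
    (fun V a => by
      change D.app (j ⁻¹ᵁ (f ⁻¹ᵁ V)) (j.app (f ⁻¹ᵁ V) (f.app V a)) = 0
      exact Der.app_comp D V a)

theorem Der.push_app {X' : Scheme.{u}} (j : X' ⟶ X) {f : X ⟶ Y} {G : X'.Modules}
    (D : OmegaSh.Der (j ≫ f) G) (V : X.Opens) (s : Γ(X, V)) :
    (Der.push j D).app V s = D.app (j ⁻¹ᵁ V) (j.app V s) := rfl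


/-- restrict a derivation along an open immersion -/
noncomputable def Der.restrict {f : X ⟶ Y} {F : X.Modules} (D : OmegaSh.Der f F)
    {X' : Scheme.{u}} (j : X' ⟶ X) [IsOpenImmersion j] :
    OmegaSh.Der (j ≫ f) (F.restrict j) :=
  Der.mk' (j ≫ f) (F.restrict j)
    (fun W => (D.app (j ''ᵁ W)).comp ((j.appIso W).inv).hom.toAddMonoidHom)
    (fun W a b => by
      change D.app (j ''ᵁ W) ((j.appIso W).inv (a * b)) = _
      rw [map_mul, Der.app_mul]
      rfl)
    (fun {U V} i s => by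
      change D.app (j ''ᵁ V) ((j.appIso V).inv (X'.presheaf.map i.op s)) = _
      have h := j.appIso_inv_naturality i.op
      have h' : (j.appIso V).inv (X'.presheaf.map i.op s) =
          X.presheaf.map (j.opensFunctor.op.map i.op) ((j.appIso U).inv s) := congr($h s)
      rw [h']
      exact Der.app_map D (j.opensFunctor.map i) _)
    (fun V a => by
      change D.app (j ''ᵁ (j ⁻¹ᵁ (f ⁻¹ᵁ V)))
        ((j.appIso (j ⁻¹ᵁ (f ⁻¹ᵁ V))).inv (j.app (f ⁻¹ᵁ V) (f.app V a))) = 0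
      have h := j.app_appIso_inv (f ⁻¹ᵁ V)
      have h' : (j.appIso (j ⁻¹ᵁ (f ⁻¹ᵁ V))).inv (j.app (f ⁻¹ᵁ V) (f.app V a)) =
          X.presheaf.map (homOfLE (j.image_preimage_le (f ⁻¹ᵁ V))).op (f.app V a) := congr($h (f.app V a))
      rw [h', Der.app_map, Der.app_comp, map_zero])

theorem Der.restrict_app {f : X ⟶ Y} {F : X.Modules} (D : OmegaSh.Der f F)
    {X' : Scheme.{u}} (j : X' ⟶ X) [IsOpenImmersion j] (W : X'.Opens) (s : Γ(X', W)) :
    (Der.restrict D j).app W s = D.app (j ''ᵁ W) ((j.appIso W).inv s) := rfl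

end Groth.Agent.H3.Om
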