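import Mathlib
import Groth.Prelude.Def_Omega3
import Groth.Agent.Lib.Helper3.OmApi

set_option autoImplicit false
universe u
open AlgebraicGeometry CategoryTheory TopologicalSpace Opposite CategoryTheory.Limits

namespace Groth.Agent.H3.Om

variable {X : Scheme.{u}}

theorem pullbackId_hom_pullSect (M : X.Modules) (U : X.Opens) (m : Γ(M, U)) :
    ((Scheme.Modules.pullbackId X).hom.app M).app ((𝟙 X) ⁻¹ᵁ U) (OmegaSh.pullSect (𝟙 X) M U m) = m := by
  have h := Scheme.Modules.conjugateEquiv_pullbackId_hom X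
  have h1 := congrArg (fun (t : 𝟭 X.Modules ⟶ Scheme.Modules.pushforward (𝟙 X)) => (t.app M).app U m) h
  simp only [conjugateEquiv_apply_app] at h1
  exact h1

theorem pullbackId_inv_app (M : X.Modules) (U : X.Opens) (m : Γ(M, U)) :
    ((Scheme.Modules.pullbackId X).inv.app M).app ((𝟙 X) ⁻¹ᵁ U) m = OmegaSh.pullSect (𝟙 X) M U m := by
  have h := pullbackId_hom_pullSect M U m
  have h2 := congrArg (((Scheme.Modules.pullbackId X).inv.app M).app ((𝟙 X) ⁻¹ᵁ U)) h
  rw [← h2, ← ConcreteCategory.comp_apply, ← Scheme.Modules.Hom.comp_app, Iso.hom_inv_id_app]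
  rfl

end Groth.Agent.H3.Om
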