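import Mathlib
import Groth.Prelude.Def_Omega3
import Groth.Agent.Lib.Helper3.OmApi

set_option autoImplicit false
universe u
open AlgebraicGeometry CategoryTheory TopologicalSpace Opposite

namespace Groth.Agent.H3.Om

variable {X Y : Scheme.{u}}

/-- Same underlying maps, different base. -/
noncomputable def Der.changeBase {f : X ⟶ Y} {F : X.Modules} (D : OmegaSh.Der f F) {Y' : Scheme.{u}}
    (f' : X ⟶ Y')
    (h : ∀ (V' : Y'.Opens) (a : Γ(Y', V')), D.app (f' ⁻¹ᵁ V') (f'.app V' a) = 0) :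
    OmegaSh.Der f' F :=
  Der.mk' f' F (fun U => D.app U) (Der.app_mul D) (fun i s => Der.app_map D i s) h

theorem Der.changeBase_app {f : X ⟶ Y} {F : X.Modules} (D : OmegaSh.Der f F) {Y' : Scheme.{u}}
    (f' : X ⟶ Y') (h) (U : X.Opens) (s : Γ(X, U)) :
    (Der.changeBase D f' h).app U s = D.app U s := rfl

theorem isUniversal_changeBase {f : X ⟶ Y} {Ω' : X.Modules} {d : OmegaSh.Der f Ω'}
    (hd : OmegaSh.IsUniversal d) {Y' : Scheme.{u}} (f' : X ⟶ Y')
    (h : ∀ (V' : Y'.Opens) (a : Γ(Y', V')), d.app (f' ⁻¹ᵁ V') (f'.app V' a) = 0)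
    (h' : ∀ (G : X.Modules) (E : OmegaSh.Der f' G) (V : Y.Opens) (a : Γ(Y, V)),
      E.app (f ⁻¹ᵁ V) (f.app V a) = 0) :
    OmegaSh.IsUniversal (Der.changeBase d f' h) := by
  intro G E
  obtain ⟨α, hα, huniq⟩ := hd G (Der.changeBase E f (h' G E))
  refine ⟨α, ?_, fun β hβ => huniq β ?_⟩
  · apply Der.ext'
    intro U s
    have := congrArg (fun D => OmegaSh.Der.app D U s) hα
    exact this
  · apply Der.ext'
    intro U s
    have := congrArg (fun D => OmegaSh.Der.app D U s) hβ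
    exact this

/-- A derivation relative to `f'` is a derivation relative to `f' ≫ g`. -/
theorem Der.app_comp_of_comp {Y' : Scheme.{u}} (f' : X ⟶ Y') (g : Y' ⟶ Y) {G : X.Modules}
    (E : OmegaSh.Der f' G) (V : Y.Opens) (a : Γ(Y, V)) :
    E.app ((f' ≫ g) ⁻¹ᵁ V) ((f' ≫ g).app V a) = 0 :=
  Der.app_comp E (g ⁻¹ᵁ V) (g.app V a)

/-- A derivation relative to `f' ≫ g` with `g` an open immersion is a derivation relative to `f'`. -/
theorem Der.app_comp_of_openImmersion {Y' : Scheme.{u}} (f' : X ⟶ Y') (g : Y' ⟶ Y)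
    [IsOpenImmersion g] {G : X.Modules}
    (E : OmegaSh.Der (f' ≫ g) G) (V' : Y'.Opens) (a : Γ(Y', V')) :
    E.app (f' ⁻¹ᵁ V') (f'.app V' a) = 0 := by
  have e : g ⁻¹ᵁ (g ''ᵁ V') = V' := g.preimage_image_eq V'
  have h0 := Der.app_comp E (g ''ᵁ V') ((g.appIso V').inv a)
  have h1 := g.appIso_inv_app V'
  have h2 : g.app (g ''ᵁ V') ((g.appIso V').inv a) =
      Y'.presheaf.map (eqToHom e).op a := congr($h1 a)
  have h3 : (f' ≫ g).app (g ''ᵁ V') ((g.appIso V').inv a) =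
      f'.app (g ⁻¹ᵁ (g ''ᵁ V')) (g.app (g ''ᵁ V') ((g.appIso V').inv a)) := rfl
  rw [h3, h2] at h0
  have h4 := f'.naturality (eqToHom e).op
  have h5 : f'.app (g ⁻¹ᵁ (g ''ᵁ V')) (Y'.presheaf.map (eqToHom e).op a) =
      X.presheaf.map ((Opens.map f'.base).map (eqToHom e)).op (f'.app V' a) := congr($h4 a)
  have h6 : E.app (f' ⁻¹ᵁ (g ⁻¹ᵁ (g ''ᵁ V')))
      (X.presheaf.map ((Opens.map f'.base).map (eqToHom e)).op (f'.app V' a)) = 0 := by
    rw [← h5]; exact h0
  rw [Der.app_map] at h6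
  have h7 := congrArg (G.presheaf.map ((Opens.map f'.base).map (eqToHom e.symm)).op) h6
  rw [map_zero, ← ConcreteCategory.comp_apply, ← Functor.map_comp, ← op_comp, ← Functor.map_comp,
    eqToHom_trans, eqToHom_refl, CategoryTheory.Functor.map_id, op_id,
    CategoryTheory.Functor.map_id] at h7
  exact h7

end Groth.Agent.H3.Om
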