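import Mathlib
import Groth.Prelude.Def_Omega3
import Groth.Agent.Lib.Helper3.OmApi

set_option autoImplicit false
universe u
open AlgebraicGeometry CategoryTheory TopologicalSpace Opposite

namespace Groth.Agent.H3.Om

variable {X Y : Scheme.{u}}

theorem restrict_postcomp_of_push {f : X ⟶ Y} {Ω' : X.Modules} (d : OmegaSh.Der f Ω')
    {X' : Scheme.{u}} (j : X' ⟶ X) [IsOpenImmersion j] {G : X'.Modules} (D : OmegaSh.Der (j ≫ f) G)
    (α : Ω' ⟶ (Scheme.Modules.pushforward j).obj G)
    (h : d.postcomp α.val = Der.push j D) :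
    (Der.restrict d j).postcomp
      (((Scheme.Modules.restrictAdjunction j).homEquiv Ω' G).symm α).val = D := by
  apply Der.ext'
  intro W s
  rw [Der.postcomp_app, Adjunction.homEquiv_counit, Scheme.Modules.Hom.comp_app]
  rw [Scheme.Modules.restrictAdjunction_counit_app_app, Der.restrict_app]
  change G.presheaf.map (eqToHom (j.preimage_image_eq W).symm).op
    (α.app (j ''ᵁ W) (d.app (j ''ᵁ W) ((j.appIso W).inv s))) = _
  rw [← Der.postcomp_app, h, Der.push_app, ← Der.app_map]
  congr 1
  have h1 := j.appIso_inv_app W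
  have h2 : j.app (j ''ᵁ W) ((j.appIso W).inv s) =
      X'.presheaf.map (eqToHom (j.preimage_image_eq W)).op s := congr($h1 s)
  rw [h2, ← ConcreteCategory.comp_apply, ← Functor.map_comp, ← op_comp, eqToHom_trans, eqToHom_refl,
    op_id, CategoryTheory.Functor.map_id]
  rfl


theorem push_of_restrict_postcomp {f : X ⟶ Y} {Ω' : X.Modules} (d : OmegaSh.Der f Ω')
    {X' : Scheme.{u}} (j : X' ⟶ X) [IsOpenImmersion j] {G : X'.Modules} (D : OmegaSh.Der (j ≫ f) G)
    (β : Ω'.restrict j ⟶ G)
    (h : (Der.restrict d j).postcomp β.val = D) :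
    d.postcomp (((Scheme.Modules.restrictAdjunction j).homEquiv Ω' G) β).val = Der.push j D := by
  apply Der.ext'
  intro V s
  rw [Der.postcomp_app, Adjunction.homEquiv_unit, Scheme.Modules.Hom.comp_app]
  rw [Scheme.Modules.restrictAdjunction_unit_app_app, Der.push_app, ← h, Der.postcomp_app,
    Der.restrict_app]
  change β.app (j ⁻¹ᵁ V) (Ω'.presheaf.map (homOfLE (j.image_preimage_le V)).op (d.app V s)) = _
  rw [← Der.app_map]
  have h1 := j.app_appIso_inv V
  have h2 : (j.appIso (j ⁻¹ᵁ V)).inv (j.app V s) =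
      X.presheaf.map (homOfLE (j.image_preimage_le V)).op s := congr($h1 s)
  rw [h2]

/-- The restriction of a universal derivation along an open immersion is universal. -/
theorem isUniversal_restrict {f : X ⟶ Y} {Ω' : X.Modules} {d : OmegaSh.Der f Ω'}
    (hd : OmegaSh.IsUniversal d) {X' : Scheme.{u}} (j : X' ⟶ X) [IsOpenImmersion j] :
    OmegaSh.IsUniversal (Der.restrict d j) := by
  intro G D
  obtain ⟨α, hα, huniq⟩ := hd _ (Der.push j D)
  refine ⟨((Scheme.Modules.restrictAdjunction j).homEquiv Ω' G).symm α,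
    restrict_postcomp_of_push d j D α hα, fun β hβ => ?_⟩
  have := huniq _ (push_of_restrict_postcomp d j D β hβ)
  rw [← this, Equiv.symm_apply_apply]

end Groth.Agent.H3.Om
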