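import Mathlib

set_option autoImplicit false
universe u

namespace Groth.Agent.H3.Om

variable {A B : Type u} [CommRing A] [CommRing B] [Algebra A B]
  {L : Type u} [AddCommGroup L] [Module B L] [Module A L] [IsScalarTower A B L]

/-- The localized derivation `S⁻¹B → S⁻¹L`. -/
noncomputable def locDer (δ : Derivation A B L) (S : Submonoid B) :
    Derivation A (Localization S) (LocalizedModule S L) :=
  (LinearMap.extendScalarsOfIsLocalization S (Localization S)
    (IsLocalizedModule.map S (KaehlerDifferential.map A A B (Localization S))
      (LocalizedModule.mkLinearMap S L) δ.liftKaehlerDifferential)).compDer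
    (KaehlerDifferential.D A (Localization S))

theorem locDer_algebraMap (δ : Derivation A B L) (S : Submonoid B) (b : B) :
    locDer δ S (algebraMap B (Localization S) b) = LocalizedModule.mk (δ b) 1 := by
  unfold locDer
  rw [Derivation.coe_comp]
  change (IsLocalizedModule.map S (KaehlerDifferential.map A A B (Localization S))
      (LocalizedModule.mkLinearMap S L) δ.liftKaehlerDifferential)
    (KaehlerDifferential.D A (Localization S) (algebraMap B (Localization S) b)) = _
  rw [← KaehlerDifferential.map_D A A B (Localization S), IsLocalizedModule.map_apply]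
  simp

theorem locDer_mk (δ : Derivation A B L) (S : Submonoid B) (a : B) (g : S) :
    locDer δ S (Localization.mk a g) =
      LocalizedModule.mk ((g : B) • δ a - a • δ (g : B)) (g * g) := by
  have h1 : Localization.mk a g * algebraMap B (Localization S) g = algebraMap B (Localization S) a := by
    rw [← Localization.mk_one_eq_algebraMap, ← Localization.mk_one_eq_algebraMap, Localization.mk_mul,
      Localization.mk_eq_mk_iff, Localization.r_iff_exists]
    exact ⟨1, by simp [mul_comm]⟩
  have h2 := congrArg (locDer δ S) h1
  rw [Derivation.leibniz, locDer_algebraMap, locDer_algebraMap] at h2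
  have hu : IsUnit (algebraMap B (Localization S) (g : B)) := IsLocalization.map_units _ g
  rw [← hu.smul_left_cancel]
  have h3 : algebraMap B (Localization S) (g : B) • locDer δ S (Localization.mk a g) =
      LocalizedModule.mk (δ a) 1 - Localization.mk a g • LocalizedModule.mk (δ (g : B)) 1 := by
    rw [← h2]; abel
  rw [h3, algebraMap_smul, LocalizedModule.smul'_mk, LocalizedModule.mk_smul_mk, mul_one,
    sub_eq_add_neg, ← LocalizedModule.mk_neg, LocalizedModule.mk_add_mk, one_smul, one_mul]
  rw [LocalizedModule.mk_eq]
  refine ⟨1, ?_⟩
  simp only [one_smul, Submonoid.smul_def, Submonoid.coe_mul, smul_add, smul_neg, smul_sub, mul_smul]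
  abel

end Groth.Agent.H3.Om
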