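import Mathlib
import Groth.Prelude.Def_Omega3
import Groth.Agent.Lib.Helper3.OmLoc

set_option autoImplicit false
universe u
open AlgebraicGeometry CategoryTheory TopologicalSpace Opposite

namespace Groth.Agent.H3.Om

variable {A B : Type u} [CommRing A] [CommRing B] [Algebra A B]
  {L : Type u} [AddCommGroup L] [Module B L] [Module A L] [IsScalarTower A B L]

theorem mk_eq_mk (S : Submonoid B) (a : B) (g : S) :
    (Localization.mk a g : Localization S) = (LocalizedModule.mk a g : LocalizedModule S B) := rfl

/-- The derivation on sections over `U`. -/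
noncomputable def dSec (δ : Derivation A B L) (U : Opens (PrimeSpectrum.Top B)) :
    (structureSheafInType B B).1.obj (op U) →+ (structureSheafInType B L).1.obj (op U) where
  toFun s := ⟨fun x => locDer δ x.1.asIdeal.primeCompl (s.1 x), by
    intro x
    obtain ⟨V, hxV, i, r, g, hrg⟩ := s.2 x
    refine ⟨V, hxV, i, (g • δ r - r • δ g), g * g, fun y => ?_⟩
    obtain ⟨hs, hy⟩ := hrg y
    refine ⟨(y.1.asIdeal.primeCompl.mul_mem hs hs : g * g ∈ y.1.asIdeal.primeCompl), ?_⟩
    have hy' : s.1 (i y) = LocalizedModule.mk r ⟨g, hs⟩ := hy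
    change locDer δ _ (s.1 (i y)) = _
    rw [hy']
    exact locDer_mk δ _ r ⟨g, hs⟩⟩
  map_zero' := by
    apply Subtype.ext
    funext x
    exact map_zero (locDer δ x.1.asIdeal.primeCompl)
  map_add' a b := by
    apply Subtype.ext
    funext x
    exact map_add (locDer δ x.1.asIdeal.primeCompl) _ _

theorem dSec_apply (δ : Derivation A B L) (U : Opens (PrimeSpectrum.Top B))
    (s : (structureSheafInType B B).1.obj (op U)) (x : U) :
    (dSec δ U s).1 x = locDer δ x.1.asIdeal.primeCompl (s.1 x) := rfl

end Groth.Agent.H3.Om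

namespace Groth.Agent.H3.Om

variable {A B : Type u} [CommRing A] [CommRing B] [Algebra A B]
  {L : Type u} [AddCommGroup L] [Module B L] [Module A L] [IsScalarTower A B L]

/-- pre-derivation data: no `d_app` yet -/
noncomputable def specDerAux (δ : Derivation A B L) {Y : Scheme.{u}} (f : Spec (CommRingCat.of B) ⟶ Y)
    (h : ∀ (V : (Opens Y)ᵒᵖ) (a : Y.presheaf.obj V), dSec δ ((Opens.map f.base).op.obj V).unop (f.c.app V a) = 0) :
    OmegaSh.Der f (tilde (ModuleCat.of (CommRingCat.of B) L)) where
  d {X} := dSec δ X.unop
  d_mul {X} a b := by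
    apply Subtype.ext
    funext x
    exact (locDer δ x.1.asIdeal.primeCompl).leibniz (a.1 x) (b.1 x)
  d_map {X Y} f x := rfl
  d_app {X} a := h X a

end Groth.Agent.H3.Om

namespace Groth.Agent.H3.Om

variable {A B : Type u} [CommRing A] [CommRing B] [Algebra A B]
  {L : Type u} [AddCommGroup L] [Module B L] [Module A L] [IsScalarTower A B L]

theorem locDer_localRingHom (δ : Derivation A B L) (I : Ideal A) [I.IsPrime] (J : Ideal B) [J.IsPrime]
    (hIJ : I = J.comap (algebraMap A B)) (t : Localization.AtPrime I) :
    locDer δ J.primeCompl (Localization.localRingHom I J (algebraMap A B) hIJ t) = 0 := by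
  induction t using Localization.induction_on with
  | H y =>
    obtain ⟨a, s⟩ := y
    rw [Localization.localRingHom_mk, locDer_mk]
    simp only [Derivation.map_algebraMap, smul_zero, sub_self, LocalizedModule.zero_mk]

theorem dSec_comap (δ : Derivation A B L) (V : (Spec (CommRingCat.of A)).Opens)
    (a : (Spec (CommRingCat.of A)).presheaf.obj (op V)) :
    dSec δ ((Opens.map (Spec.map (CommRingCat.ofHom (algebraMap A B))).base).obj V)
      ((Spec.map (CommRingCat.ofHom (algebraMap A B))).c.app (op V) a) = 0 := by
  apply Subtype.ext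
  funext p
  change locDer δ _ ((StructureSheaf.comap (algebraMap A B) V
    ((Opens.map (Spec.map (CommRingCat.ofHom (algebraMap A B))).base).obj V) (fun _ h => h) a).1 p) = 0
  rw [StructureSheaf.comap_apply]
  exact locDer_localRingHom δ _ _ rfl _

/-- The sheaf derivation on `Spec B` attached to a ring derivation. -/
noncomputable def specDer (δ : Derivation A B L) :
    OmegaSh.Der (Spec.map (CommRingCat.ofHom (algebraMap A B)))
      (tilde (ModuleCat.of (CommRingCat.of B) L)) :=
  specDerAux δ _ (fun V a => dSec_comap δ V.unop a)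

end Groth.Agent.H3.Om

namespace Groth.Agent.H3.Om

variable {A B : Type u} [CommRing A] [CommRing B] [Algebra A B]
  {L : Type u} [AddCommGroup L] [Module B L] [Module A L] [IsScalarTower A B L]

theorem specDer_top (δ : Derivation A B L) (t : B) :
    (specDer δ).app ⊤ ((Scheme.ΓSpecIso (CommRingCat.of B)).inv t) =
      (tilde.isoTop (ModuleCat.of (CommRingCat.of B) L)).hom (δ t) := by
  apply Subtype.ext
  funext x
  change locDer δ _ (algebraMap B (Localization x.1.asIdeal.primeCompl) t) = LocalizedModule.mk (δ t) 1
  exact locDer_algebraMap δ _ t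

end Groth.Agent.H3.Om
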