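import Mathlib
import Groth.Prelude.Def_Omega3
import Groth.Agent.Lib.Helper3.OmSpec
import Groth.Agent.Lib.Helper3.OmUniq

set_option autoImplicit false
universe u
open AlgebraicGeometry CategoryTheory TopologicalSpace Opposite

namespace Groth.Agent.H3.Om

variable {A B : Type u} [CommRing A] [CommRing B] [Algebra A B]
  {L : Type u} [AddCommGroup L] [Module B L] [Module A L] [IsScalarTower A B L]

variable (B L) in
/-- inverse of `isoTop` as an additive map on `Γ(tilde L, ⊤)` -/
noncomputable def topInv : Γ(tilde (ModuleCat.of (CommRingCat.of B) L), ⊤) →+ L :=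
  ((tilde.isoTop (ModuleCat.of (CommRingCat.of B) L)).inv).hom.toAddMonoidHom

theorem topInv_apply (m : Γ(tilde (ModuleCat.of (CommRingCat.of B) L), ⊤)) :
    topInv B L m = (tilde.isoTop (ModuleCat.of (CommRingCat.of B) L)).inv m := rfl

/-- `isoTop.inv` is compatible with scalars coming from `B`. -/
theorem topInv_smul (b : B) (m : Γ(tilde (ModuleCat.of (CommRingCat.of B) L), ⊤)) :
    topInv B L
      (((Scheme.ΓSpecIso (CommRingCat.of B)).inv b : Γ(Spec (CommRingCat.of B), ⊤)) • m) =
      b • topInv B L m := by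
  have := ((tilde.isoTop (ModuleCat.of (CommRingCat.of B) L)).inv).hom.map_smul b m
  rw [topInv_apply, topInv_apply, ← this]
  rfl

theorem hom_topInv (m : Γ(tilde (ModuleCat.of (CommRingCat.of B) L), ⊤)) :
    (tilde.isoTop (ModuleCat.of (CommRingCat.of B) L)).hom (topInv B L m) = m := by
  rw [topInv_apply]
  exact Iso.inv_hom_id_apply (tilde.isoTop (ModuleCat.of (CommRingCat.of B) L)) m

/-- global-section map of a sheaf derivation -/
noncomputable def globFun
    (D : OmegaSh.Der (Spec.map (CommRingCat.ofHom (algebraMap A B)))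
      (tilde (ModuleCat.of (CommRingCat.of B) L))) (t : B) : L :=
  topInv B L (D.app ⊤ ((Scheme.ΓSpecIso (CommRingCat.of B)).inv t))

theorem globFun_add (D : OmegaSh.Der (Spec.map (CommRingCat.ofHom (algebraMap A B)))
      (tilde (ModuleCat.of (CommRingCat.of B) L))) (s t : B) :
    globFun D (s + t) = globFun D s + globFun D t := by
  unfold globFun
  rw [map_add, map_add, map_add]

theorem globFun_mul (D : OmegaSh.Der (Spec.map (CommRingCat.ofHom (algebraMap A B)))
      (tilde (ModuleCat.of (CommRingCat.of B) L))) (s t : B) :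
    globFun D (s * t) = s • globFun D t + t • globFun D s := by
  unfold globFun
  rw [map_mul, Der.app_mul, map_add, topInv_smul, topInv_smul]

theorem globFun_algebraMap (D : OmegaSh.Der (Spec.map (CommRingCat.ofHom (algebraMap A B)))
      (tilde (ModuleCat.of (CommRingCat.of B) L))) (a : A) :
    globFun D (algebraMap A B a) = 0 := by
  unfold globFun
  have h1 : (Scheme.ΓSpecIso (CommRingCat.of B)).inv (algebraMap A B a) =
      (Spec.map (CommRingCat.ofHom (algebraMap A B))).c.app (op ⊤)
        ((Scheme.ΓSpecIso (CommRingCat.of A)).inv a) := by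
    have := Scheme.ΓSpecIso_inv_naturality (CommRingCat.ofHom (algebraMap A B))
    exact congr($this a)
  rw [h1]
  have h2 : D.app ⊤ ((Spec.map (CommRingCat.ofHom (algebraMap A B))).c.app (op ⊤)
        ((Scheme.ΓSpecIso (CommRingCat.of A)).inv a)) = 0 :=
    D.d_app (X := op ⊤) ((Scheme.ΓSpecIso (CommRingCat.of A)).inv a)
  rw [h2, map_zero]

noncomputable def globDer (D : OmegaSh.Der (Spec.map (CommRingCat.ofHom (algebraMap A B)))
      (tilde (ModuleCat.of (CommRingCat.of B) L))) : Derivation A B L where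
  toFun := globFun D
  map_add' := globFun_add D
  map_smul' a t := by
    rw [Algebra.smul_def, globFun_mul, globFun_algebraMap, smul_zero, add_zero, RingHom.id_apply,
      algebraMap_smul]
  map_one_eq_zero' := by
    have := globFun_algebraMap D (1 : A)
    rwa [map_one] at this
  leibniz' s t := globFun_mul D s t

theorem globDer_apply (D : OmegaSh.Der (Spec.map (CommRingCat.ofHom (algebraMap A B)))
      (tilde (ModuleCat.of (CommRingCat.of B) L))) (t : B) :
    (tilde.isoTop (ModuleCat.of (CommRingCat.of B) L)).hom (globDer D t) =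
      D.app ⊤ ((Scheme.ΓSpecIso (CommRingCat.of B)).inv t) :=
  hom_topInv _

/-- S5947 -/
theorem der_tilde_bijective :
    (∀ D : OmegaSh.Der (Spec.map (CommRingCat.ofHom (algebraMap A B))) (tilde (ModuleCat.of (CommRingCat.of B) L)),
      ∃ δ : Derivation A B L, ∀ t : B, D.app ⊤ ((Scheme.ΓSpecIso (CommRingCat.of B)).inv t) =
        (tilde.isoTop (ModuleCat.of (CommRingCat.of B) L)).hom (δ t)) ∧
    ∀ δ : Derivation A B L,
      ∃! D : OmegaSh.Der (Spec.map (CommRingCat.ofHom (algebraMap A B))) (tilde (ModuleCat.of (CommRingCat.of B) L)),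
        ∀ t : B, D.app ⊤ ((Scheme.ΓSpecIso (CommRingCat.of B)).inv t) =
          (tilde.isoTop (ModuleCat.of (CommRingCat.of B) L)).hom (δ t) := by
  refine ⟨fun D => ⟨globDer D, fun t => (globDer_apply D t).symm⟩, fun δ => ?_⟩
  refine ⟨specDer δ, specDer_top δ, fun D' hD' => ?_⟩
  apply der_ext_of_affine
  intro t
  obtain ⟨t', rfl⟩ : ∃ t', (Scheme.ΓSpecIso (CommRingCat.of B)).inv t' = t :=
    ⟨(Scheme.ΓSpecIso (CommRingCat.of B)).hom t, by rw [Iso.hom_inv_id_apply]⟩
  rw [hD', specDer_top]

end Groth.Agent.H3.Om
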