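import Mathlib
import Groth.Prelude.Def_Omega3
import Groth.Agent.Lib.Helper3.OmApi
import Groth.Agent.Lib.Helper3.OmGlob

set_option autoImplicit false
universe u
open AlgebraicGeometry CategoryTheory TopologicalSpace Opposite

namespace Groth.Agent.H3.Om

variable {A B : Type u} [CommRing A] [CommRing B] [Algebra A B]

/-- global sections of a module on `Spec B`, as a `B`-module and `A`-module -/
def GMod (A : Type u) {B : Type u} [CommRing A] [CommRing B] [Algebra A B]
    (F : (Spec (CommRingCat.of B)).Modules) : Type u :=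
  ((moduleSpecΓFunctor (R := CommRingCat.of B)).obj F : ModuleCat B)

variable (F : (Spec (CommRingCat.of B)).Modules)

noncomputable instance : AddCommGroup (GMod A F) :=
  inferInstanceAs (AddCommGroup ((moduleSpecΓFunctor (R := CommRingCat.of B)).obj F : ModuleCat B))

noncomputable instance : Module B (GMod A F) :=
  inferInstanceAs (Module B ((moduleSpecΓFunctor (R := CommRingCat.of B)).obj F : ModuleCat B))

noncomputable instance : Module A (GMod A F) := Module.compHom _ (algebraMap A B)

instance : IsScalarTower A B (GMod A F) := IsScalarTower.of_compHom A B (GMod A F)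

/-- view a section over `⊤` as an element of `GMod` -/
def toG (x : Γ(F, ⊤)) : GMod A F := x

theorem toG_smul (b : B) (m : Γ(F, ⊤)) :
    toG (A := A) F (((Scheme.ΓSpecIso (CommRingCat.of B)).inv b : Γ(Spec (CommRingCat.of B), ⊤)) • m) =
      b • toG (A := A) F m := rfl


variable {F}

/-- global-sections derivation of a sheaf derivation on `Spec B` over `Spec A`, any target. -/
noncomputable def gDer (E : OmegaSh.Der (Spec.map (CommRingCat.ofHom (algebraMap A B))) F) :
    Derivation A B (GMod A F) where
  toFun t := toG F (E.app ⊤ ((Scheme.ΓSpecIso (CommRingCat.of B)).inv t))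
  map_add' s t := by
    rw [map_add, map_add]; rfl
  map_smul' a t := by
    have h1 : (Scheme.ΓSpecIso (CommRingCat.of B)).inv (algebraMap A B a) =
        (Spec.map (CommRingCat.ofHom (algebraMap A B))).c.app (op ⊤)
          ((Scheme.ΓSpecIso (CommRingCat.of A)).inv a) := by
      have := Scheme.ΓSpecIso_inv_naturality (CommRingCat.ofHom (algebraMap A B))
      exact congr($this a)
    have h2 : E.app ⊤ ((Spec.map (CommRingCat.ofHom (algebraMap A B))).c.app (op ⊤)
          ((Scheme.ΓSpecIso (CommRingCat.of A)).inv a)) = 0 :=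
      E.d_app (X := op ⊤) ((Scheme.ΓSpecIso (CommRingCat.of A)).inv a)
    rw [Algebra.smul_def, map_mul, Der.app_mul, h1, h2, smul_zero, add_zero, ← h1, toG_smul,
      RingHom.id_apply, algebraMap_smul]
  map_one_eq_zero' := by
    have h1 : (Scheme.ΓSpecIso (CommRingCat.of B)).inv (algebraMap A B 1) =
        (Spec.map (CommRingCat.ofHom (algebraMap A B))).c.app (op ⊤)
          ((Scheme.ΓSpecIso (CommRingCat.of A)).inv 1) := by
      have := Scheme.ΓSpecIso_inv_naturality (CommRingCat.ofHom (algebraMap A B))
      exact congr($this 1)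
    have h2 : E.app ⊤ ((Spec.map (CommRingCat.ofHom (algebraMap A B))).c.app (op ⊤)
          ((Scheme.ΓSpecIso (CommRingCat.of A)).inv 1)) = 0 :=
      E.d_app (X := op ⊤) ((Scheme.ΓSpecIso (CommRingCat.of A)).inv 1)
    rw [map_one] at h1
    change toG F (E.app ⊤ ((Scheme.ΓSpecIso (CommRingCat.of B)).inv 1)) = 0
    rw [h1, h2]; rfl
  leibniz' s t := by
    change toG F (E.app ⊤ ((Scheme.ΓSpecIso (CommRingCat.of B)).inv (s * t))) = _
    rw [map_mul, Der.app_mul]
    rfl

theorem gDer_apply (E : OmegaSh.Der (Spec.map (CommRingCat.ofHom (algebraMap A B))) F) (t : B) :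
    gDer E t = toG F (E.app ⊤ ((Scheme.ΓSpecIso (CommRingCat.of B)).inv t)) := rfl


variable (A B) in
/-- the Kähler module as an object of `ModuleCat B` -/
noncomputable abbrev OmMod : ModuleCat.{u} (CommRingCat.of B) :=
  ModuleCat.of (CommRingCat.of B) (Ω[B⁄A])

/-- the linear map `Ω[B/A] → Γ(F)` attached to a sheaf derivation -/
noncomputable def gLift (E : OmegaSh.Der (Spec.map (CommRingCat.ofHom (algebraMap A B))) F) :
    OmMod A B ⟶ (moduleSpecΓFunctor (R := CommRingCat.of B)).obj F :=
  ModuleCat.ofHom (Y := (moduleSpecΓFunctor (R := CommRingCat.of B)).obj F)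
    (gDer E).liftKaehlerDifferential

theorem gLift_D (E : OmegaSh.Der (Spec.map (CommRingCat.ofHom (algebraMap A B))) F) (t : B) :
    (gLift E).hom (KaehlerDifferential.D A B t) =
      E.app ⊤ ((Scheme.ΓSpecIso (CommRingCat.of B)).inv t) :=
  (gDer E).liftKaehlerDifferential_comp_D t

theorem homEquiv_D (α : tilde (OmMod A B) ⟶ F) (t : B) :
    ((tilde.adjunction (R := CommRingCat.of B)).homEquiv (OmMod A B) F α).hom
        (KaehlerDifferential.D A B t) =
      α.app ⊤ ((specDer (KaehlerDifferential.D A B)).app ⊤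
        ((Scheme.ΓSpecIso (CommRingCat.of B)).inv t)) := by
  rw [specDer_top, Adjunction.homEquiv_unit]
  rfl

/-- `(tilde Ω[B/A], specDer D)` is a universal derivation of `Spec B` over `Spec A`. -/
theorem isUniversal_specDer :
    OmegaSh.IsUniversal (specDer (KaehlerDifferential.D A B)) := by
  intro F E
  refine ⟨((tilde.adjunction (R := CommRingCat.of B)).homEquiv (OmMod A B) F).symm (gLift E),
    ?_, fun α' hα' => ?_⟩
  · apply der_ext_of_affine
    intro t
    obtain ⟨t', rfl⟩ : ∃ t', (Scheme.ΓSpecIso (CommRingCat.of B)).inv t' = t :=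
      ⟨(Scheme.ΓSpecIso (CommRingCat.of B)).hom t, by rw [Iso.hom_inv_id_apply]⟩
    rw [Der.postcomp_app, ← homEquiv_D, Equiv.apply_symm_apply, gLift_D]
  · apply ((tilde.adjunction (R := CommRingCat.of B)).homEquiv (OmMod A B) F).injective
    rw [Equiv.apply_symm_apply]
    apply ModuleCat.hom_ext
    apply LinearMap.ext_on (KaehlerDifferential.span_range_derivation A B)
    rintro _ ⟨t, rfl⟩
    change ((tilde.adjunction (R := CommRingCat.of B)).homEquiv (OmMod A B) F α').hom
        (KaehlerDifferential.D A B t) = (gLift E).hom (KaehlerDifferential.D A B t)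
    rw [homEquiv_D, gLift_D, ← Der.postcomp_app, hα']

end Groth.Agent.H3.Om
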