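import Mathlib
import Groth.Prelude.Def_Omega3
import Groth.Agent.Lib.Helper3.OmApi
import Groth.Agent.Lib.Helper3.OmRes
import Groth.Agent.Lib.Helper3.OmBase
import Groth.Agent.Lib.Helper3.OmUniv

set_option autoImplicit false
universe u
open AlgebraicGeometry CategoryTheory TopologicalSpace Opposite

namespace Groth.Agent.H3.Om

variable {X Y : Scheme.{u}}

theorem Der.postcomp_comp {f : X ⟶ Y} {F G H : X.Modules} (D : OmegaSh.Der f F) (α : F ⟶ G)
    (β : G ⟶ H) :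
    D.postcomp (α ≫ β).val = (D.postcomp α.val).postcomp β.val := by
  apply Der.ext'
  intro U s
  rfl

theorem Der.postcomp_id {f : X ⟶ Y} {F : X.Modules} (D : OmegaSh.Der f F) :
    D.postcomp (𝟙 F : F ⟶ F).val = D := by
  apply Der.ext'
  intro U s
  rfl

/-- Two universal derivations of the same morphism are isomorphic, compatibly with the
derivations. -/
theorem exists_iso_of_isUniversal {f : X ⟶ Y} {Ω₁ Ω₂ : X.Modules} {d₁ : OmegaSh.Der f Ω₁}
    {d₂ : OmegaSh.Der f Ω₂} (h₁ : OmegaSh.IsUniversal d₁) (h₂ : OmegaSh.IsUniversal d₂) :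
    ∃ e : Ω₁ ≅ Ω₂, d₁.postcomp e.hom.val = d₂ := by
  obtain ⟨α, hα, -⟩ := h₁ Ω₂ d₂
  obtain ⟨β, hβ, -⟩ := h₂ Ω₁ d₁
  refine ⟨⟨α, β, ?_, ?_⟩, hα⟩
  · obtain ⟨γ, -, hγ⟩ := h₁ Ω₁ d₁
    rw [hγ (α ≫ β) ((Der.postcomp_comp d₁ α β).trans (by rw [hα, hβ])),
      hγ (𝟙 _) (Der.postcomp_id d₁)]
  · obtain ⟨γ, -, hγ⟩ := h₂ Ω₂ d₂
    rw [hγ (β ≫ α) ((Der.postcomp_comp d₂ β α).trans (by rw [hβ, hα])),
      hγ (𝟙 _) (Der.postcomp_id d₂)]

theorem isUniversal_changeBase_of_eq {f : X ⟶ Y} {Ω' : X.Modules} {d : OmegaSh.Der f Ω'}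
    (hd : OmegaSh.IsUniversal d) {Y' : Scheme.{u}} (f' : X ⟶ Y') (g : Y' ⟶ Y) [IsOpenImmersion g]
    (hfg : f = f' ≫ g) :
    ∃ h, OmegaSh.IsUniversal (Der.changeBase d f' h) := by
  subst hfg
  exact ⟨_, isUniversal_changeBase hd f' (Der.app_comp_of_openImmersion f' g d)
    (fun G E => Der.app_comp_of_comp f' g E)⟩


/-- **Structure theorem**: on an affine open `U` mapping into an affine open `V`, a sheaf of
differentials is the tilde of the module of Kähler differentials, compatibly with `d`. -/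
theorem exists_iso_tilde {f : X ⟶ Y} {Ω' : X.Modules} {d : OmegaSh.Der f Ω'}
    (hd : OmegaSh.IsUniversal d) {U : X.Opens} (hU : IsAffineOpen U) {V : Y.Opens}
    (hV : IsAffineOpen V) (e : U ≤ f ⁻¹ᵁ V) :
    letI := (f.appLE V U e).hom.toAlgebra
    ∃ ι : Ω'.restrict hU.fromSpec ≅ tilde (OmMod Γ(Y, V) Γ(X, U)),
      ∀ (W : (Spec Γ(X, U)).Opens) (s : Γ(Spec Γ(X, U), W)),
        ι.hom.app W (d.app (hU.fromSpec ''ᵁ W) ((hU.fromSpec.appIso W).inv s)) =
          (specDer (KaehlerDifferential.D Γ(Y, V) Γ(X, U))).app W s := by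
  letI := (f.appLE V U e).hom.toAlgebra
  have h1 := isUniversal_restrict hd hU.fromSpec
  have heq : hU.fromSpec ≫ f = Spec.map (CommRingCat.ofHom (algebraMap Γ(Y, V) Γ(X, U))) ≫
      hV.fromSpec := (IsAffineOpen.SpecMap_appLE_fromSpec f hV hU e).symm
  obtain ⟨h, h2⟩ := isUniversal_changeBase_of_eq h1 _ hV.fromSpec heq
  obtain ⟨ι, hι⟩ := exists_iso_of_isUniversal h2 (isUniversal_specDer (A := Γ(Y, V)) (B := Γ(X, U)))
  refine ⟨ι, fun W s => ?_⟩
  have := congrArg (fun D => OmegaSh.Der.app D W s) hι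
  exact this

end Groth.Agent.H3.Om
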