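import Mathlib
import Groth.Prelude.Def_Omega3
import Groth.Agent.Lib.Helper3.OmST
import Groth.Agent.Lib.Lead.QC.Closure

set_option autoImplicit false
universe u
open AlgebraicGeometry CategoryTheory TopologicalSpace Opposite

namespace Groth.Agent.H3.Om

variable {X Y : Scheme.{u}}

theorem exists_affine_le_preimage (f : X ⟶ Y) (x : X) :
    ∃ (U : X.Opens) (V : Y.Opens), IsAffineOpen U ∧ IsAffineOpen V ∧ x ∈ U ∧ U ≤ f ⁻¹ᵁ V := by
  obtain ⟨_, ⟨V, hV : IsAffineOpen V, rfl⟩, hxV, -⟩ :=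
    Y.isBasis_affineOpens.exists_subset_of_mem_open (Set.mem_univ (f x)) isOpen_univ
  obtain ⟨_, ⟨U, hU : IsAffineOpen U, rfl⟩, hxU, hUV⟩ :=
    X.isBasis_affineOpens.exists_subset_of_mem_open (show x ∈ ((f ⁻¹ᵁ V : X.Opens) : Set X) from hxV)
      (f ⁻¹ᵁ V).2
  exact ⟨U, V, hU, hV, hxU, hUV⟩

/-- A sheaf of differentials is quasi-coherent. -/
theorem isQuasicoherent_of_isUniversal {f : X ⟶ Y} {Ω' : X.Modules} {d : OmegaSh.Der f Ω'}
    (hd : OmegaSh.IsUniversal d) : Ω'.IsQuasicoherent := by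
  let J := {p : X.affineOpens × Y.affineOpens // p.1.1 ≤ f ⁻¹ᵁ p.2.1}
  let 𝒰 : Scheme.OpenCover.{u} X :=
    Scheme.Cover.mkOfCovers J (fun p => Spec Γ(X, p.1.1.1)) (fun p => p.1.1.2.fromSpec)
      (fun x => by
        obtain ⟨U, V, hU, hV, hxU, hUV⟩ := exists_affine_le_preimage f x
        have : x ∈ Set.range hU.fromSpec := by rw [hU.range_fromSpec]; exact hxU
        obtain ⟨y, hy⟩ := this
        exact ⟨⟨(⟨U, hU⟩, ⟨V, hV⟩), hUV⟩, y, hy⟩)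
  refine Groth.Agent.LD.QC.qc_of_openCover Ω' 𝒰 fun p => ?_
  letI := (f.appLE p.1.2.1 p.1.1.1 p.2).hom.toAlgebra
  obtain ⟨ι, -⟩ := exists_iso_tilde hd p.1.1.2 p.1.2.2 p.2
  have hq : (tilde (OmMod Γ(Y, p.1.2.1) Γ(X, p.1.1.1))).IsQuasicoherent :=
    inferInstanceAs (tilde (R := Γ(X, p.1.1.1)) (OmMod Γ(Y, p.1.2.1) Γ(X, p.1.1.1))).IsQuasicoherent
  exact Groth.Agent.LD.QC.qc_of_iso ι.symm hq

end Groth.Agent.H3.Om
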