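import Mathlib
import Groth.Prelude.Def_Omega3
import Groth.Agent.Lib.Helper3.OmST
import Groth.Agent.Lib.Lead.QC.Affine

set_option autoImplicit false
universe u
open AlgebraicGeometry CategoryTheory TopologicalSpace Opposite

namespace Groth.Agent.H3.Om

variable {X Y : Scheme.{u}}

section
variable {A B : Type u} [CommRing A] [CommRing B] [Algebra A B]
  {L : Type u} [AddCommGroup L] [Module B L] [Module A L] [IsScalarTower A B L]

theorem topInv_hom (l : L) :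
    topInv B L ((tilde.isoTop (ModuleCat.of (CommRingCat.of B) L)).hom l) = l := by
  rw [topInv_apply]
  exact Iso.hom_inv_id_apply (tilde.isoTop (ModuleCat.of (CommRingCat.of B) L)) l

theorem topInv_bijective : Function.Bijective (topInv B L) := by
  refine ⟨fun a b h => ?_, fun l => ⟨_, topInv_hom l⟩⟩
  rw [← hom_topInv a, ← hom_topInv b, h]

end

theorem fromSpec_image_top {U : X.Opens} (hU : IsAffineOpen U) : hU.fromSpec ''ᵁ ⊤ = U :=
  (Scheme.Hom.image_top_eq_opensRange _).trans hU.opensRange_fromSpec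

theorem fromSpec_appIso_top_inv {U : X.Opens} (hU : IsAffineOpen U) (r : Γ(X, U)) :
    (hU.fromSpec.appIso ⊤).inv ((Scheme.ΓSpecIso Γ(X, U)).inv r) =
      X.presheaf.map (homOfLE (fromSpec_image_top hU).le).op r := by
  have h := Groth.Agent.LD.QC.fromSpec_appIso_inv hU ⊤ r
  have h1 : ((⊤ : (Spec Γ(X, U)).Opens).leTop) = 𝟙 _ := Subsingleton.elim _ _
  rw [h1, op_id, CategoryTheory.Functor.map_id] at h
  exact h

theorem res_bijective_of_eq (M : X.Modules) {V V' : X.Opens} (h : V = V') :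
    Function.Bijective (M.presheaf.map (homOfLE h.le).op) := by
  subst h
  have : (homOfLE (le_refl V)).op = 𝟙 (op V) := rfl
  rw [this, M.presheaf.map_id]
  exact Function.bijective_id


/-- **Sections of a sheaf of differentials over an affine open** are the Kähler differentials. -/
theorem exists_linearEquiv_sections {f : X ⟶ Y} {Ω' : X.Modules} {d : OmegaSh.Der f Ω'}
    (hd : OmegaSh.IsUniversal d) {U : X.Opens} (hU : IsAffineOpen U) {V : Y.Opens}
    (hV : IsAffineOpen V) (e : U ≤ f ⁻¹ᵁ V) :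
    letI := (f.appLE V U e).hom.toAlgebra
    ∃ ε : Ω[Γ(X, U)⁄Γ(Y, V)] ≃ₗ[Γ(X, U)] Γ(Ω', U),
      ∀ s : Γ(X, U), ε (KaehlerDifferential.D Γ(Y, V) Γ(X, U) s) = d.app U s := by
  letI := (f.appLE V U e).hom.toAlgebra
  obtain ⟨ι, hι⟩ := exists_iso_tilde hd hU hV e
  have hT := fromSpec_image_top hU
  -- the map `Γ(Ω', U) → Ω`
  let r : Γ(Ω', U) →+ Γ(Ω'.restrict hU.fromSpec, ⊤) := (Ω'.presheaf.map (homOfLE hT.le).op).hom
  let g₀ : Γ(Ω', U) → Ω[Γ(X, U)⁄Γ(Y, V)] := fun m =>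
    topInv Γ(X, U) (Ω[Γ(X, U)⁄Γ(Y, V)]) (ι.hom.app ⊤ (r m))
  have g_add : ∀ m m', g₀ (m + m') = g₀ m + g₀ m' := by
    intro m m'
    simp only [g₀]
    rw [map_add, map_add, map_add]
  have g_smul : ∀ (b : Γ(X, U)) (m : Γ(Ω', U)), g₀ (b • m) = b • g₀ m := by
    intro b m
    simp only [g₀]
    change topInv Γ(X, U) (Ω[Γ(X, U)⁄Γ(Y, V)]) (ι.hom.app ⊤
      (Ω'.presheaf.map (homOfLE hT.le).op (b • m))) = _
    rw [Scheme.Modules.map_smul, ← fromSpec_appIso_top_inv hU b]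
    have h1 : ι.hom.app ⊤ (show Γ(Ω'.restrict hU.fromSpec, ⊤) from
        ((hU.fromSpec.appIso ⊤).inv ((Scheme.ΓSpecIso Γ(X, U)).inv b) •
          (Ω'.presheaf.map (homOfLE hT.le).op m : Γ(Ω', hU.fromSpec ''ᵁ ⊤)))) =
        ((Scheme.ΓSpecIso Γ(X, U)).inv b : Γ(Spec Γ(X, U), ⊤)) •
          ι.hom.app ⊤ (Ω'.presheaf.map (homOfLE hT.le).op m) :=
      Scheme.Modules.Hom.app_smul ι.hom ((Scheme.ΓSpecIso Γ(X, U)).inv b)
        (show Γ(Ω'.restrict hU.fromSpec, ⊤) from Ω'.presheaf.map (homOfLE hT.le).op m)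
    exact (congrArg (topInv Γ(X, U) (Ω[Γ(X, U)⁄Γ(Y, V)])) h1).trans (topInv_smul b _)
  have g_D : ∀ s : Γ(X, U), g₀ (d.app U s) = KaehlerDifferential.D Γ(Y, V) Γ(X, U) s := by
    intro s
    simp only [g₀]
    change topInv Γ(X, U) (Ω[Γ(X, U)⁄Γ(Y, V)]) (ι.hom.app ⊤
      (Ω'.presheaf.map (homOfLE hT.le).op (d.app U s))) = _
    rw [← Der.app_map, ← fromSpec_appIso_top_inv hU s, hι ⊤]
    exact (congrArg (topInv Γ(X, U) (Ω[Γ(X, U)⁄Γ(Y, V)]))
      (specDer_top (KaehlerDifferential.D Γ(Y, V) Γ(X, U)) s)).trans (topInv_hom _)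
  have g_bij : Function.Bijective g₀ := by
    have hb1 := res_bijective_of_eq Ω' hT
    have hb2 : Function.Bijective (ι.hom.app ⊤) :=
      (ConcreteCategory.isIso_iff_bijective _).1 inferInstance
    exact (topInv_bijective.comp hb2).comp hb1
  let g : Γ(Ω', U) →ₗ[Γ(X, U)] Ω[Γ(X, U)⁄Γ(Y, V)] :=
    { toFun := g₀, map_add' := g_add, map_smul' := g_smul }
  refine ⟨(LinearEquiv.ofBijective g g_bij).symm, fun s => ?_⟩
  rw [LinearEquiv.symm_apply_eq]
  exact (g_D s).symm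

end Groth.Agent.H3.Om
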