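import Mathlib
import Groth.Prelude.Def_Omega3
import Groth.Agent.Lib.Helper3.OmSec
import Groth.Agent.Lib.Helper3.OmQC
import Groth.Agent.Lib.Lead.QC.PullbackUnit

set_option autoImplicit false
universe u
open AlgebraicGeometry CategoryTheory TopologicalSpace Opposite CategoryTheory.Limits

namespace Groth.Agent.H3.Om

variable {X Y : Scheme.{u}}

/-- the compatibility `IsDiffCompat`, read on sections over `U' ≤ h⁻¹ U`. -/
theorem IsDiffCompat.app_pbSec {X' S S' : Scheme.{u}} {f : X ⟶ S} {f' : X' ⟶ S'} {h : X' ⟶ X}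
    {Ω : X.Modules} {d : OmegaSh.Der f Ω} {Ω' : X'.Modules} {d' : OmegaSh.Der f' Ω'}
    {c : (Scheme.Modules.pullback h).obj Ω ⟶ Ω'} (hc : OmegaSh.IsDiffCompat h d d' c)
    {U : X.Opens} {U' : X'.Opens} (e : U' ≤ h ⁻¹ᵁ U) (x : Γ(X, U)) :
    c.app U' (Groth.Agent.LD.QC.pbSec h Ω e (d.app U x)) = d'.app U' (h.appLE U U' e x) := by
  unfold Groth.Agent.LD.QC.pbSec
  rw [Groth.Agent.LD.QC.app_res]
  have h1 : c.app (h ⁻¹ᵁ U) (Groth.Agent.LD.QC.unitSec h Ω U (d.app U x)) =
      d'.app (h ⁻¹ᵁ U) (h.app U x) := hc U x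
  rw [h1, ← Der.app_map]
  rfl


/-- sections of a sheaf of differentials over a good affine open are spanned by the `d s`. -/
theorem span_range_app {f : X ⟶ Y} {Ω' : X.Modules} {d : OmegaSh.Der f Ω'}
    (hd : OmegaSh.IsUniversal d) {U : X.Opens} (hU : IsAffineOpen U) {V : Y.Opens}
    (hV : IsAffineOpen V) (e : U ≤ f ⁻¹ᵁ V) :
    Submodule.span Γ(X, U) (Set.range (d.app U)) = ⊤ := by
  letI := (f.appLE V U e).hom.toAlgebra
  obtain ⟨ε, hε⟩ := exists_linearEquiv_sections hd hU hV e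
  have h1 := KaehlerDifferential.span_range_derivation Γ(Y, V) Γ(X, U)
  have h2 : Submodule.map ε.toLinearMap (Submodule.span Γ(X, U)
      (Set.range (KaehlerDifferential.D Γ(Y, V) Γ(X, U)))) = ⊤ := by
    rw [h1, Submodule.map_top, LinearEquiv.range]
  rw [Submodule.map_span, ← Set.range_comp] at h2
  rw [← h2]
  congr 1
  ext m
  constructor
  · rintro ⟨s, rfl⟩
    exact ⟨s, hε s⟩
  · rintro ⟨s, rfl⟩
    exact ⟨s, (hε s).symm⟩


/-- the image of `c` on sections over a good affine lies in the span of the `d' (h♯ x)`. -/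
theorem IsDiffCompat.app_mem_span {X' S S' : Scheme.{u}} {f : X ⟶ S} {f' : X' ⟶ S'} {h : X' ⟶ X}
    {Ω : X.Modules} {d : OmegaSh.Der f Ω} (hd : OmegaSh.IsUniversal d) {Ω' : X'.Modules}
    {d' : OmegaSh.Der f' Ω'}
    {c : (Scheme.Modules.pullback h).obj Ω ⟶ Ω'} (hc : OmegaSh.IsDiffCompat h d d' c)
    {U : X.Opens} (hU : IsAffineOpen U) {W : S.Opens} (hW : IsAffineOpen W) (eW : U ≤ f ⁻¹ᵁ W)
    {U' : X'.Opens} (hU' : IsAffineOpen U') (e : U' ≤ h ⁻¹ᵁ U)
    (t : Γ((Scheme.Modules.pullback h).obj Ω, U')) :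
    c.app U' t ∈ Submodule.span Γ(X', U')
      (Set.range fun x : Γ(X, U) => d'.app U' (h.appLE U U' e x)) := by
  haveI := isQuasicoherent_of_isUniversal hd
  have h1 := Groth.Agent.LD.QC.span_range_pbSec h hU' hU e Ω
  have ht : t ∈ Submodule.span Γ(X', U') (Set.range (Groth.Agent.LD.QC.pbSec h Ω e)) := by
    rw [h1]; trivial
  induction ht using Submodule.span_induction with
  | mem t ht =>
    obtain ⟨m, rfl⟩ := ht
    have hm : m ∈ Submodule.span Γ(X, U) (Set.range (d.app U)) := by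
      rw [span_range_app hd hU hW eW]; trivial
    induction hm using Submodule.span_induction with
    | mem m hm =>
      obtain ⟨x, rfl⟩ := hm
      rw [IsDiffCompat.app_pbSec hc e x]
      exact Submodule.subset_span ⟨x, rfl⟩
    | zero =>
      rw [Groth.Agent.LD.QC.pbSec_zero, map_zero]
      exact Submodule.zero_mem _
    | add m m' _ _ hm hm' =>
      rw [Groth.Agent.LD.QC.pbSec_add, map_add]
      exact Submodule.add_mem _ hm hm'
    | smul b m _ hm =>
      rw [Groth.Agent.LD.QC.pbSec_smul, Scheme.Modules.Hom.app_smul]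
      exact Submodule.smul_mem _ _ hm
  | zero =>
    rw [map_zero]
    exact Submodule.zero_mem _
  | add t t' _ _ ht ht' =>
    rw [map_add]
    exact Submodule.add_mem _ ht ht'
  | smul b t _ ht =>
    rw [Scheme.Modules.Hom.app_smul]
    exact Submodule.smul_mem _ _ ht

/-- surjectivity criterion for `c` on sections over a good affine. -/
theorem IsDiffCompat.app_surjective_iff {X' S S' : Scheme.{u}} {f : X ⟶ S} {f' : X' ⟶ S'}
    {h : X' ⟶ X}
    {Ω : X.Modules} {d : OmegaSh.Der f Ω} (hd : OmegaSh.IsUniversal d) {Ω' : X'.Modules}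
    {d' : OmegaSh.Der f' Ω'}
    {c : (Scheme.Modules.pullback h).obj Ω ⟶ Ω'} (hc : OmegaSh.IsDiffCompat h d d' c)
    {U : X.Opens} (hU : IsAffineOpen U) {W : S.Opens} (hW : IsAffineOpen W) (eW : U ≤ f ⁻¹ᵁ W)
    {U' : X'.Opens} (hU' : IsAffineOpen U') (e : U' ≤ h ⁻¹ᵁ U) :
    Function.Surjective (c.app U') ↔
      Submodule.span Γ(X', U')
        (Set.range fun x : Γ(X, U) => d'.app U' (h.appLE U U' e x)) = ⊤ := by
  constructor
  · intro hs
    rw [eq_top_iff]
    intro m _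
    obtain ⟨t, rfl⟩ := hs m
    exact IsDiffCompat.app_mem_span hd hc hU hW eW hU' e t
  · intro hs m
    have hm : m ∈ Submodule.span Γ(X', U')
        (Set.range fun x : Γ(X, U) => d'.app U' (h.appLE U U' e x)) := by rw [hs]; trivial
    induction hm using Submodule.span_induction with
    | mem m hm =>
      obtain ⟨x, rfl⟩ := hm
      exact ⟨_, IsDiffCompat.app_pbSec hc e x⟩
    | zero => exact ⟨0, map_zero _⟩
    | add m m' _ _ hm hm' =>
      obtain ⟨t, rfl⟩ := hm
      obtain ⟨t', rfl⟩ := hm'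
      exact ⟨t + t', map_add _ _ _⟩
    | smul b m _ hm =>
      obtain ⟨t, rfl⟩ := hm
      exact ⟨b • t, Scheme.Modules.Hom.app_smul _ _ _⟩

end Groth.Agent.H3.Om
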