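import Mathlib
import Groth.Prelude.Def_Omega3
import Groth.Agent.Lib.Helper3.OmSq
import Groth.Agent.Lib.Helper3.OmId
import Groth.Agent.Lib.Helper3.ZClosCover

set_option autoImplicit false
universe u
open AlgebraicGeometry CategoryTheory TopologicalSpace Opposite CategoryTheory.Limits TensorProduct

namespace Groth.Agent.H3.Om

/-- If `φ : M ⟶ N` is a map of quasi-coherent modules on `Y` which is bijective on the sections over
an affine open `V`, then the pullback of `φ` along any `f : X ⟶ Y` is bijective on sections over any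
affine `U ≤ f⁻¹ V`. -/
theorem pullback_map_app_bijective {X Y : Scheme.{u}} (f : X ⟶ Y) {M N : Y.Modules}
    [M.IsQuasicoherent] [N.IsQuasicoherent] (φ : M ⟶ N) {U : X.Opens} {V : Y.Opens}
    (hU : IsAffineOpen U) (hV : IsAffineOpen V) (e : U ≤ f ⁻¹ᵁ V)
    (hφ : Function.Bijective (φ.app V)) :
    Function.Bijective (((Scheme.Modules.pullback f).map φ).app U) := by
  letI := (f.appLE V U e).hom.toAlgebra
  letI := Groth.Agent.LD.QC.pbModule f M e
  haveI := Groth.Agent.LD.QC.pbModule_isScalarTower f M e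
  letI := Groth.Agent.LD.QC.pbModule f N e
  haveI := Groth.Agent.LD.QC.pbModule_isScalarTower f N e
  have hM := Groth.Agent.LD.QC.isBaseChange_pbSec f hU hV e M
  have hN := Groth.Agent.LD.QC.isBaseChange_pbSec f hU hV e N
  let φ₀ : Γ(M, V) →ₗ[Γ(Y, V)] Γ(N, V) :=
    { toFun := fun m => φ.app V m
      map_add' := fun m m' => map_add (φ.app V).hom m m'
      map_smul' := fun a m => Scheme.Modules.Hom.app_smul φ a m }
  let eφ : Γ(M, V) ≃ₗ[Γ(Y, V)] Γ(N, V) := LinearEquiv.ofBijective φ₀ hφ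
  let Ψ : Γ((Scheme.Modules.pullback f).obj M, U) ≃ₗ[Γ(X, U)]
      Γ((Scheme.Modules.pullback f).obj N, U) :=
    hM.equiv.symm ≪≫ₗ
      (TensorProduct.AlgebraTensorModule.congr (LinearEquiv.refl Γ(X, U) Γ(X, U)) eφ) ≪≫ₗ hN.equiv
  let ψ₀ : Γ((Scheme.Modules.pullback f).obj M, U) →ₗ[Γ(X, U)]
      Γ((Scheme.Modules.pullback f).obj N, U) :=
    { toFun := fun m => ((Scheme.Modules.pullback f).map φ).app U m
      map_add' := fun m m' => map_add (((Scheme.Modules.pullback f).map φ).app U).hom m m'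
      map_smul' := fun a m => Scheme.Modules.Hom.app_smul ((Scheme.Modules.pullback f).map φ) a m }
  have hΨ : ψ₀ = Ψ.toLinearMap := by
    apply hM.algHom_ext
    intro m
    change ((Scheme.Modules.pullback f).map φ).app U (Groth.Agent.LD.QC.pbSec f M e m) =
      hN.equiv ((TensorProduct.AlgebraTensorModule.congr (LinearEquiv.refl Γ(X, U) Γ(X, U)) eφ)
        (hM.equiv.symm (Groth.Agent.LD.QC.pbSecₗ f M e m)))
    rw [Groth.Agent.LD.QC.pbSec_naturality, hM.equiv_symm_apply]
    change _ = hN.equiv ((1 : Γ(X, U)) ⊗ₜ (φ.app V m))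
    rw [hN.equiv_tmul, one_smul]
    rfl
  have : ⇑(((Scheme.Modules.pullback f).map φ).app U) = ⇑Ψ := by
    ext x
    exact congrArg (fun l => l x) hΨ
  rw [this]
  exact Ψ.bijective

/-- A map of quasi-coherent modules that is bijective on sections over the members of an affine open
cover is an isomorphism. -/
theorem isIso_of_bijective_affine_cover {X : Scheme.{u}} {M N : X.Modules}
    [M.IsQuasicoherent] [N.IsQuasicoherent] (φ : M ⟶ N)
    (h : ∀ x : X, ∃ U : X.Opens, IsAffineOpen U ∧ x ∈ U ∧ Function.Bijective (φ.app U)) :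
    IsIso φ := by
  have hψ : IsIso ((Scheme.Modules.pullback (𝟙 X)).map φ) := by
    apply Groth.Agent.H3.ZClosCover.isIso_of_bijective_basis _
      {V : X.Opens | IsAffineOpen V ∧ ∃ U : X.Opens, IsAffineOpen U ∧ V ≤ U ∧
        Function.Bijective (φ.app U)}
    · rw [Opens.isBasis_iff_nbhd]
      intro W x hxW
      obtain ⟨U, hU, hxU, hb⟩ := h x
      obtain ⟨_, ⟨V, hV : IsAffineOpen V, rfl⟩, hxV, hVW⟩ :=
        X.isBasis_affineOpens.exists_subset_of_mem_open
          (show x ∈ ((W ⊓ U : X.Opens) : Set X) from ⟨hxW, hxU⟩) (W ⊓ U).2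
      exact ⟨V, ⟨hV, U, hU, fun y hy => (hVW hy).2, hb⟩, hxV, fun y hy => (hVW hy).1⟩
    · rintro V ⟨hV, U, hU, hVU, hb⟩
      exact pullback_map_app_bijective (𝟙 X) φ hV hU hVU hb
  exact (NatIso.isIso_map_iff (Scheme.Modules.pullbackId X) φ).1 hψ

end Groth.Agent.H3.Om
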