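import Mathlib
import Groth.Prelude.Def_Omega3
import Groth.Agent.Lib.Helper3.OmIsoCover

set_option autoImplicit false
universe u
open AlgebraicGeometry CategoryTheory TopologicalSpace Opposite CategoryTheory.Limits TensorProduct

namespace Groth.Agent.H3.Om

/-- On charts, the compatibility map `c : h^*Ω₁ ⟶ Ω₂` between two sheaves of differentials is
bijective as soon as the ring-level map `B₂ ⊗[B₁] Ω[B₁/R₁] → Ω[B₂/R₂]` is. -/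
theorem sq_app_bijective {X₁ S₁ X₂ S₂ : Scheme.{u}} {p₁ : X₁ ⟶ S₁} {p₂ : X₂ ⟶ S₂} {h : X₂ ⟶ X₁}
    {Ω₁ : X₁.Modules} {d₁ : OmegaSh.Der p₁ Ω₁} (hd₁ : OmegaSh.IsUniversal d₁)
    {Ω₂ : X₂.Modules} {d₂ : OmegaSh.Der p₂ Ω₂} (hd₂ : OmegaSh.IsUniversal d₂)
    {c : (Scheme.Modules.pullback h).obj Ω₁ ⟶ Ω₂} (hc : OmegaSh.IsDiffCompat h d₁ d₂ c)
    {U₁ : X₁.Opens} (hU₁ : IsAffineOpen U₁) {W₁ : S₁.Opens} (hW₁ : IsAffineOpen W₁)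
    (e₁ : U₁ ≤ p₁ ⁻¹ᵁ W₁) {U₂ : X₂.Opens} (hU₂ : IsAffineOpen U₂) {W₂ : S₂.Opens}
    (hW₂ : IsAffineOpen W₂) (e₂ : U₂ ≤ p₂ ⁻¹ᵁ W₂) (eh : U₂ ≤ h ⁻¹ᵁ U₁) :
    letI := (p₁.appLE W₁ U₁ e₁).hom.toAlgebra
    letI := (p₂.appLE W₂ U₂ e₂).hom.toAlgebra
    letI := (h.appLE U₁ U₂ eh).hom.toAlgebra
    ∀ (T : Γ(X₂, U₂) ⊗[Γ(X₁, U₁)] Ω[Γ(X₁, U₁)⁄Γ(S₁, W₁)] →ₗ[Γ(X₂, U₂)] Ω[Γ(X₂, U₂)⁄Γ(S₂, W₂)]),
      (∀ s : Γ(X₁, U₁), T (1 ⊗ₜ KaehlerDifferential.D Γ(S₁, W₁) Γ(X₁, U₁) s) =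
        KaehlerDifferential.D Γ(S₂, W₂) Γ(X₂, U₂) (h.appLE U₁ U₂ eh s)) →
      Function.Bijective T → Function.Bijective (c.app U₂) := by
  letI := (p₁.appLE W₁ U₁ e₁).hom.toAlgebra
  letI := (p₂.appLE W₂ U₂ e₂).hom.toAlgebra
  letI := (h.appLE U₁ U₂ eh).hom.toAlgebra
  intro T hT hTb
  obtain ⟨Φ, hΦ⟩ := sq_chart hd₁ hc hU₁ hW₁ e₁ hU₂ eh
  obtain ⟨ε₂, hε₂⟩ := exists_linearEquiv_sections hd₂ hU₂ hW₂ e₂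
  have key := hΦ (ε₂.toLinearMap ∘ₗ T) (fun s => by
    rw [LinearMap.comp_apply, hT]
    exact hε₂ _)
  have : ⇑(c.app U₂) = fun m => ε₂ (T (Φ.symm m)) := by
    ext m
    have := key (Φ.symm m)
    rw [LinearEquiv.apply_symm_apply] at this
    exact this
  rw [this]
  exact ε₂.bijective.comp (hTb.comp Φ.symm.bijective)

end Groth.Agent.H3.Om
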