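import Mathlib
import Groth.Prelude.Def_Omega3
import Groth.Agent.Lib.Helper3.OmSq2

set_option autoImplicit false
universe u
open AlgebraicGeometry CategoryTheory TopologicalSpace Opposite CategoryTheory.Limits TensorProduct

namespace Groth.Agent.H3.Om

/-- In a cartesian square the product chart `g'⁻¹ U ⊓ f'⁻¹ W'` of affine charts is affine. -/
theorem isAffineOpen_prodChart {X S X' S' : Scheme.{u}} {f : X ⟶ S} {g : S' ⟶ S} {g' : X' ⟶ X}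
    {f' : X' ⟶ S'} (hsq : IsPullback g' f' f g) {U : X.Opens} (hU : IsAffineOpen U)
    {W : S.Opens} (hW : IsAffineOpen W) {W' : S'.Opens} (hW' : IsAffineOpen W')
    (eU : U ≤ f ⁻¹ᵁ W) (eW' : W' ≤ g ⁻¹ᵁ W) :
    IsAffineOpen (g' ⁻¹ᵁ U ⊓ f' ⁻¹ᵁ W') := by
  have : IsAffine _ := hW
  have : IsAffine _ := hW'
  have : IsAffine _ := hU
  exact .of_isIso (Scheme.Hom.isPullback_resLE hsq eW' eU rfl).isoPullback.hom

theorem isPushout_prodChart {X S X' S' : Scheme.{u}} {f : X ⟶ S} {g : S' ⟶ S} {g' : X' ⟶ X}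
    {f' : X' ⟶ S'} (hsq : IsPullback g' f' f g) {U : X.Opens} (hU : IsAffineOpen U)
    {W : S.Opens} (hW : IsAffineOpen W) {W' : S'.Opens} (hW' : IsAffineOpen W')
    (eU : U ≤ f ⁻¹ᵁ W) (eW' : W' ≤ g ⁻¹ᵁ W) :
    IsPushout (f.appLE W U eU) (g.appLE W W' eW')
      (g'.appLE U (g' ⁻¹ᵁ U ⊓ f' ⁻¹ᵁ W') inf_le_left)
      (f'.appLE W' (g' ⁻¹ᵁ U ⊓ f' ⁻¹ᵁ W') inf_le_right) := by
  haveI := isIso_pushoutSection_of_isAffineOpen hsq eW' eU rfl hW hW' hU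
  exact (isIso_pushoutSection_iff hsq eW' eU rfl).1 inferInstance

end Groth.Agent.H3.Om

namespace Groth.Agent.H3.Om

/-- base change of differentials on a product chart -/
theorem app_bijective_of_isPullback {X S X' S' : Scheme.{u}} {f : X ⟶ S} {g : S' ⟶ S}
    {g' : X' ⟶ X} {f' : X' ⟶ S'} (hsq : IsPullback g' f' f g)
    {Ω : X.Modules} {d : OmegaSh.Der f Ω} (hd : OmegaSh.IsUniversal d)
    {Ω' : X'.Modules} {d' : OmegaSh.Der f' Ω'} (hd' : OmegaSh.IsUniversal d')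
    {c : (Scheme.Modules.pullback g').obj Ω ⟶ Ω'} (hc : OmegaSh.IsDiffCompat g' d d' c)
    {U : X.Opens} (hU : IsAffineOpen U)
    {W : S.Opens} (hW : IsAffineOpen W) {W' : S'.Opens} (hW' : IsAffineOpen W')
    (eU : U ≤ f ⁻¹ᵁ W) (eW' : W' ≤ g ⁻¹ᵁ W) :
    Function.Bijective (c.app (g' ⁻¹ᵁ U ⊓ f' ⁻¹ᵁ W')) := by
  have hU' := isAffineOpen_prodChart hsq hU hW hW' eU eW'
  have hpo := isPushout_prodChart hsq hU hW hW' eU eW'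
  letI := (f.appLE W U eU).hom.toAlgebra
  letI := (f'.appLE W' (g' ⁻¹ᵁ U ⊓ f' ⁻¹ᵁ W') inf_le_right).hom.toAlgebra
  letI := (g'.appLE U (g' ⁻¹ᵁ U ⊓ f' ⁻¹ᵁ W') inf_le_left).hom.toAlgebra
  letI := (g.appLE W W' eW').hom.toAlgebra
  letI : Algebra Γ(S, W) Γ(X', g' ⁻¹ᵁ U ⊓ f' ⁻¹ᵁ W') :=
    (f.appLE W U eU ≫ g'.appLE U (g' ⁻¹ᵁ U ⊓ f' ⁻¹ᵁ W') inf_le_left).hom.toAlgebra
  haveI : IsScalarTower Γ(S, W) Γ(X, U) Γ(X', g' ⁻¹ᵁ U ⊓ f' ⁻¹ᵁ W') :=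
    IsScalarTower.of_algebraMap_eq' rfl
  haveI : IsScalarTower Γ(S, W) Γ(S', W') Γ(X', g' ⁻¹ᵁ U ⊓ f' ⁻¹ᵁ W') :=
    IsScalarTower.of_algebraMap_eq' (congrArg CommRingCat.Hom.hom hpo.w)
  have hP : Algebra.IsPushout Γ(S, W) Γ(X, U) Γ(S', W') Γ(X', g' ⁻¹ᵁ U ⊓ f' ⁻¹ᵁ W') :=
    CommRingCat.isPushout_iff_isPushout.1 hpo
  haveI : Algebra.IsPushout Γ(S, W) Γ(S', W') Γ(X, U) Γ(X', g' ⁻¹ᵁ U ⊓ f' ⁻¹ᵁ W') := hP.symm
  refine sq_app_bijective hd hd' hc hU hW eU hU' hW' inf_le_right inf_le_left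
    (KaehlerDifferential.tensorKaehlerEquiv Γ(S, W) Γ(S', W') Γ(X, U)
      Γ(X', g' ⁻¹ᵁ U ⊓ f' ⁻¹ᵁ W')).toLinearMap (fun s => ?_)
    (KaehlerDifferential.tensorKaehlerEquiv Γ(S, W) Γ(S', W') Γ(X, U)
      Γ(X', g' ⁻¹ᵁ U ⊓ f' ⁻¹ᵁ W')).bijective
  rw [LinearEquiv.coe_coe, KaehlerDifferential.tensorKaehlerEquiv_tmul_D, one_smul]
  rfl

end Groth.Agent.H3.Om

namespace Groth.Agent.H3.Om

/-- base change of differentials (S9386) -/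
theorem isIso_diffCompat_of_isPullback {X S X' S' : Scheme.{u}} {f : X ⟶ S} {g : S' ⟶ S}
    {g' : X' ⟶ X} {f' : X' ⟶ S'} (hsq : IsPullback g' f' f g)
    {Ω : X.Modules} {d : OmegaSh.Der f Ω} (hd : OmegaSh.IsUniversal d)
    {Ω' : X'.Modules} {d' : OmegaSh.Der f' Ω'} (hd' : OmegaSh.IsUniversal d')
    {c : (Scheme.Modules.pullback g').obj Ω ⟶ Ω'} (hc : OmegaSh.IsDiffCompat g' d d' c) :
    IsIso c := by
  haveI := isQuasicoherent_of_isUniversal hd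
  haveI := isQuasicoherent_of_isUniversal hd'
  haveI : ((Scheme.Modules.pullback g').obj Ω).IsQuasicoherent :=
    Groth.Agent.LD.QC.qc_pullback g' Ω
  apply isIso_of_bijective_affine_cover
  intro x'
  obtain ⟨_, ⟨W, hW : IsAffineOpen W, rfl⟩, hxW, -⟩ :=
    S.isBasis_affineOpens.exists_subset_of_mem_open (Set.mem_univ (f (g' x'))) isOpen_univ
  obtain ⟨_, ⟨U, hU : IsAffineOpen U, rfl⟩, hxU, hUW⟩ :=
    X.isBasis_affineOpens.exists_subset_of_mem_open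
      (show g' x' ∈ ((f ⁻¹ᵁ W : X.Opens) : Set X) from hxW) (f ⁻¹ᵁ W).2
  have hx2 : g (f' x') ∈ W := by
    have := congrArg (fun φ : X' ⟶ S => φ x') hsq.w
    simp only [Scheme.Hom.comp_apply] at this
    rw [← this]; exact hxW
  obtain ⟨_, ⟨W', hW' : IsAffineOpen W', rfl⟩, hxW', hW'W⟩ :=
    S'.isBasis_affineOpens.exists_subset_of_mem_open
      (show f' x' ∈ ((g ⁻¹ᵁ W : S'.Opens) : Set S') from hx2) (g ⁻¹ᵁ W).2
  exact ⟨g' ⁻¹ᵁ U ⊓ f' ⁻¹ᵁ W', isAffineOpen_prodChart hsq hU hW hW' hUW hW'W, ⟨hxU, hxW'⟩,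
    app_bijective_of_isPullback hsq hd hd' hc hU hW hW' hUW hW'W⟩

end Groth.Agent.H3.Om
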