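import Mathlib
import Groth.Prelude.Def_Omega3

set_option autoImplicit false
universe u
open AlgebraicGeometry CategoryTheory TopologicalSpace Opposite CategoryTheory.Limits TensorProduct

namespace Groth.Agent.H3.Om

variable {Z X : Scheme.{u}} (i : Z ⟶ X) [IsImmersion i]

theorem image_preimage_coborder {U : X.Opens} (hle : U ≤ i.coborderRange) :
    i.coborderRange.ι ''ᵁ (i.coborderRange.ι ⁻¹ᵁ U) = U := by
  rw [Scheme.Hom.image_preimage_eq_opensRange_inf, Scheme.Opens.opensRange_ι]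
  exact inf_eq_right.2 hle

theorem preimage_eq_liftCoborder_preimage {U : X.Opens} (hle : U ≤ i.coborderRange) :
    i ⁻¹ᵁ U = i.liftCoborder ⁻¹ᵁ (i.coborderRange.ι ⁻¹ᵁ U) := by
  rw [Scheme.Hom.liftCoborder_preimage, image_preimage_coborder i hle]

/-- the preimage of a good chart is affine -/
theorem good_preimage_affine {U : X.Opens} (hU : IsAffineOpen U) (hle : U ≤ i.coborderRange) :
    IsAffineOpen (i ⁻¹ᵁ U) := by
  have hU' : IsAffineOpen (i.coborderRange.ι ⁻¹ᵁ U) :=
    hU.preimage_of_isOpenImmersion i.coborderRange.ι (by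
      rw [Scheme.Opens.opensRange_ι]; exact hle)
  rw [preimage_eq_liftCoborder_preimage i hle]
  exact hU'.preimage i.liftCoborder

/-- on a good chart the map on sections is surjective -/
theorem good_app_surjective {U : X.Opens} (hU : IsAffineOpen U) (hle : U ≤ i.coborderRange) :
    Function.Surjective (i.app U) := by
  have hU' : IsAffineOpen (i.coborderRange.ι ⁻¹ᵁ U) :=
    hU.preimage_of_isOpenImmersion i.coborderRange.ι (by
      rw [Scheme.Opens.opensRange_ι]; exact hle)
  have h1 := Scheme.Hom.app_surjective i.liftCoborder _ hU'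
  have e1 := AlgebraicGeometry.liftCoborder_app (f := i) (i.coborderRange.ι ⁻¹ᵁ U)
  have h2 : Function.Surjective
      (i.app (i.coborderRange.ι ''ᵁ (i.coborderRange.ι ⁻¹ᵁ U))) := by
    intro t
    obtain ⟨s, hs⟩ := h1 (Z.presheaf.map (eqToHom
      (i.liftCoborder_preimage (i.coborderRange.ι ⁻¹ᵁ U))).op t)
    refine ⟨s, ?_⟩
    have e2 := congrArg (fun φ => φ.hom s) e1
    have hinj : Function.Injective (Z.presheaf.map (eqToHom
      (i.liftCoborder_preimage (i.coborderRange.ι ⁻¹ᵁ U))).op) :=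
      (ConcreteCategory.bijective_of_isIso _).1
    apply hinj
    exact e2.symm.trans hs
  have e := image_preimage_coborder i hle
  revert h2
  generalize i.coborderRange.ι ''ᵁ (i.coborderRange.ι ⁻¹ᵁ U) = U₀ at e
  subst e
  exact id

/-- the kernel on a chart -/
theorem good_ker [QuasiCompact i] {U : X.Opens} (hU : IsAffineOpen U) :
    RingHom.ker (i.app U).hom = i.ker.ideal ⟨U, hU⟩ :=
  (Scheme.Hom.ker_apply i ⟨U, hU⟩).symm

/-- good charts give a basis of `Z` -/
theorem exists_good_chart (z : Z) (N : Z.Opens) (hz : z ∈ N) :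
    ∃ U : X.Opens, IsAffineOpen U ∧ U ≤ i.coborderRange ∧ z ∈ i ⁻¹ᵁ U ∧ i ⁻¹ᵁ U ≤ N := by
  obtain ⟨N', hN'o, hN'⟩ := i.isEmbedding.isInducing.isOpen_iff.1 N.2
  have hz1 : i z ∈ N' := by
    have : z ∈ (i.base ⁻¹' N') := by rw [hN']; exact hz
    exact this
  have hz2 : i z ∈ i.coborderRange := by
    have := i.liftCoborder_ι
    have h3 := congrArg (fun φ : Z ⟶ X => φ z) this
    simp only [Scheme.Hom.comp_apply] at h3
    rw [← h3]
    exact (i.liftCoborder z).2
  obtain ⟨_, ⟨U, hU : IsAffineOpen U, rfl⟩, hzU, hUle⟩ :=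
    X.isBasis_affineOpens.exists_subset_of_mem_open
      (show i z ∈ ((⟨N', hN'o⟩ : X.Opens) ⊓ i.coborderRange : X.Opens).1 from ⟨hz1, hz2⟩)
      ((⟨N', hN'o⟩ : X.Opens) ⊓ i.coborderRange).2
  refine ⟨U, hU, fun y hy => (hUle hy).2, hzU, fun y hy => ?_⟩
  have : y ∈ i.base ⁻¹' N' := (hUle hy).1
  rw [hN'] at this
  exact this

end Groth.Agent.H3.Om
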