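import Mathlib
import Groth.Prelude.Def_Omega3
import Groth.Agent.Lib.Helper3.OmSq2

set_option autoImplicit false
universe u
open AlgebraicGeometry CategoryTheory TopologicalSpace Opposite CategoryTheory.Limits TensorProduct

namespace Groth.Agent.H3.Om

/-- `pbSec` along `le_rfl` is `pullSect`. -/
theorem pbSec_le_rfl {X Y : Scheme.{u}} (f : X ⟶ Y) (M : Y.Modules) (V : Y.Opens) (m : Γ(M, V)) :
    Groth.Agent.LD.QC.pbSec f M (le_refl (f ⁻¹ᵁ V)) m = OmegaSh.pullSect f M V m := by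
  unfold Groth.Agent.LD.QC.pbSec Groth.Agent.LD.QC.unitSec
  have : (homOfLE (le_refl (f ⁻¹ᵁ V))).op = 𝟙 (op (f ⁻¹ᵁ V)) := rfl
  rw [this, CategoryTheory.Functor.map_id]
  rfl

/-- **General chart lemma for `IsDiffCompat`**, strengthened form of `sq_chart`: it also records the
value of the chart isomorphism on `1 ⊗ D s`. -/
theorem sq_chart' {X₁ S₁ X₂ S₂ : Scheme.{u}} {p₁ : X₁ ⟶ S₁} {p₂ : X₂ ⟶ S₂} {h : X₂ ⟶ X₁}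
    {Ω₁ : X₁.Modules} {d₁ : OmegaSh.Der p₁ Ω₁} (hd₁ : OmegaSh.IsUniversal d₁)
    {Ω₂ : X₂.Modules} {d₂ : OmegaSh.Der p₂ Ω₂}
    {c : (Scheme.Modules.pullback h).obj Ω₁ ⟶ Ω₂} (hc : OmegaSh.IsDiffCompat h d₁ d₂ c)
    {U₁ : X₁.Opens} (hU₁ : IsAffineOpen U₁) {W₁ : S₁.Opens} (hW₁ : IsAffineOpen W₁)
    (e₁ : U₁ ≤ p₁ ⁻¹ᵁ W₁) {U₂ : X₂.Opens} (hU₂ : IsAffineOpen U₂) (eh : U₂ ≤ h ⁻¹ᵁ U₁) :
    letI := (p₁.appLE W₁ U₁ e₁).hom.toAlgebra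
    letI := (h.appLE U₁ U₂ eh).hom.toAlgebra
    ∃ (Φ : Γ(X₂, U₂) ⊗[Γ(X₁, U₁)] Ω[Γ(X₁, U₁)⁄Γ(S₁, W₁)] ≃ₗ[Γ(X₂, U₂)]
        Γ((Scheme.Modules.pullback h).obj Ω₁, U₂)),
      (∀ (b : Γ(X₂, U₂)) (s : Γ(X₁, U₁)),
        Φ (b ⊗ₜ KaehlerDifferential.D Γ(S₁, W₁) Γ(X₁, U₁) s) =
          b • Groth.Agent.LD.QC.pbSec h Ω₁ eh (d₁.app U₁ s)) ∧
      ∀ (L : Γ(X₂, U₂) ⊗[Γ(X₁, U₁)] Ω[Γ(X₁, U₁)⁄Γ(S₁, W₁)] →ₗ[Γ(X₂, U₂)] Γ(Ω₂, U₂)),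
        (∀ s : Γ(X₁, U₁), L (1 ⊗ₜ KaehlerDifferential.D Γ(S₁, W₁) Γ(X₁, U₁) s) =
          d₂.app U₂ (h.appLE U₁ U₂ eh s)) →
        ∀ t, c.app U₂ (Φ t) = L t := by
  letI := (p₁.appLE W₁ U₁ e₁).hom.toAlgebra
  letI := (h.appLE U₁ U₂ eh).hom.toAlgebra
  haveI := isQuasicoherent_of_isUniversal hd₁
  obtain ⟨ε₁, hε₁⟩ := exists_linearEquiv_sections hd₁ hU₁ hW₁ e₁
  letI := Groth.Agent.LD.QC.pbModule h Ω₁ eh
  haveI := Groth.Agent.LD.QC.pbModule_isScalarTower h Ω₁ eh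
  have hbc := Groth.Agent.LD.QC.isBaseChange_pbSec h hU₂ hU₁ eh Ω₁
  let Φ : Γ(X₂, U₂) ⊗[Γ(X₁, U₁)] Ω[Γ(X₁, U₁)⁄Γ(S₁, W₁)] ≃ₗ[Γ(X₂, U₂)]
      Γ((Scheme.Modules.pullback h).obj Ω₁, U₂) :=
    (TensorProduct.AlgebraTensorModule.congr (LinearEquiv.refl Γ(X₂, U₂) Γ(X₂, U₂)) ε₁) ≪≫ₗ
      hbc.equiv
  have hΦ : ∀ (b : Γ(X₂, U₂)) (ω : Ω[Γ(X₁, U₁)⁄Γ(S₁, W₁)]),
      Φ (b ⊗ₜ ω) = b • Groth.Agent.LD.QC.pbSec h Ω₁ eh (ε₁ ω) := by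
    intro b ω
    change hbc.equiv (b ⊗ₜ ε₁ ω) = _
    rw [IsBaseChange.equiv_tmul]
    rfl
  refine ⟨Φ, fun b s => by rw [hΦ, hε₁], fun L hL => ?_⟩
  have key : ∀ ω : Ω[Γ(X₁, U₁)⁄Γ(S₁, W₁)],
      c.app U₂ (Groth.Agent.LD.QC.pbSec h Ω₁ eh (ε₁ ω)) = L (1 ⊗ₜ ω) := by
    intro ω
    have hω : ω ∈ Submodule.span Γ(X₁, U₁)
        (Set.range (KaehlerDifferential.D Γ(S₁, W₁) Γ(X₁, U₁))) := by
      rw [KaehlerDifferential.span_range_derivation]; trivial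
    induction hω using Submodule.span_induction with
    | mem ω hω =>
      obtain ⟨a, rfl⟩ := hω
      rw [hε₁, IsDiffCompat.app_pbSec hc eh a, hL]
    | zero =>
      rw [map_zero, Groth.Agent.LD.QC.pbSec_zero, map_zero, TensorProduct.tmul_zero, map_zero]
    | add ω ω' _ _ h1 h2 =>
      rw [map_add, Groth.Agent.LD.QC.pbSec_add, map_add, h1, h2, TensorProduct.tmul_add, map_add]
    | smul a ω _ h1 =>
      rw [map_smul, Groth.Agent.LD.QC.pbSec_smul, Scheme.Modules.Hom.app_smul, h1,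
        TensorProduct.tmul_smul, ← map_smul]
      congr 1
  intro t
  induction t with
  | zero => rw [map_zero, map_zero, map_zero]
  | add t t' h1 h2 => rw [map_add, map_add, h1, h2, map_add]
  | tmul b ω =>
    rw [hΦ, Scheme.Modules.Hom.app_smul, key]
    rw [← map_smul, TensorProduct.smul_tmul', smul_eq_mul, mul_one]

end Groth.Agent.H3.Om
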