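import Mathlib
import Groth.Prelude.Def_Omega3
import Groth.Agent.Lib.Helper3.OmSq3
import Groth.Agent.Lib.Helper3.OmImm
import Groth.Agent.Lib.Lead.QC.IdealMod

set_option autoImplicit false
universe u
open AlgebraicGeometry CategoryTheory TopologicalSpace Opposite CategoryTheory.Limits TensorProduct

namespace Groth.Agent.H3.Om

/-- **Chart description of the conormal sheaf** of a quasi-compact immersion. -/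
theorem conormal_chart {Z X : Scheme.{u}} (i : Z ⟶ X) [IsImmersion i] [QuasiCompact i]
    {U : X.Opens} (hU : IsAffineOpen U) (hle : U ≤ i.coborderRange) :
    letI := (i.appLE U (i ⁻¹ᵁ U) le_rfl).hom.toAlgebra
    Function.Surjective (algebraMap Γ(X, U) Γ(Z, i ⁻¹ᵁ U)) ∧
    ∃ (σ : Γ(ClSub.idealMod i.ker, U) ≃ₗ[Γ(X, U)]
          RingHom.ker (algebraMap Γ(X, U) Γ(Z, i ⁻¹ᵁ U)))
      (Ξ : Γ(Z, i ⁻¹ᵁ U) ⊗[Γ(X, U)] (RingHom.ker (algebraMap Γ(X, U) Γ(Z, i ⁻¹ᵁ U)))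
          ≃ₗ[Γ(Z, i ⁻¹ᵁ U)] Γ(Omega.conormal i, i ⁻¹ᵁ U)),
      (∀ s, ((σ s : RingHom.ker (algebraMap Γ(X, U) Γ(Z, i ⁻¹ᵁ U))) : Γ(X, U)) =
        OmegaSh.idealSect i.ker U s) ∧
      ∀ (b : Γ(Z, i ⁻¹ᵁ U)) (s : Γ(ClSub.idealMod i.ker, U)),
        Ξ (b ⊗ₜ σ s) = b • OmegaSh.conormalSect i U s := by
  letI := (i.appLE U (i ⁻¹ᵁ U) le_rfl).hom.toAlgebra
  have hV := good_preimage_affine i hU hle
  have hmap : algebraMap Γ(X, U) Γ(Z, i ⁻¹ᵁ U) = (i.app U).hom :=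
    congrArg CommRingCat.Hom.hom (Scheme.Hom.appLE_eq_app i)
  refine ⟨by rw [hmap]; exact good_app_surjective i hU hle, ?_⟩
  have hker : i.ker.ideal ⟨U, hU⟩ = RingHom.ker (algebraMap Γ(X, U) Γ(Z, i ⁻¹ᵁ U)) := by
    rw [hmap]; exact Scheme.Hom.ker_apply i ⟨U, hU⟩
  let σ : Γ(ClSub.idealMod i.ker, U) ≃ₗ[Γ(X, U)]
      RingHom.ker (algebraMap Γ(X, U) Γ(Z, i ⁻¹ᵁ U)) :=
    (Groth.Agent.LD.QC.idealModSectionsEquiv i.ker ⟨U, hU⟩) ≪≫ₗ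
      (LinearEquiv.ofEq (i.ker.ideal ⟨U, hU⟩)
        (RingHom.ker (algebraMap Γ(X, U) Γ(Z, i ⁻¹ᵁ U))) hker)
  letI := Groth.Agent.LD.QC.pbModule i (ClSub.idealMod i.ker) (le_refl (i ⁻¹ᵁ U))
  haveI := Groth.Agent.LD.QC.pbModule_isScalarTower i (ClSub.idealMod i.ker) (le_refl (i ⁻¹ᵁ U))
  have hbc := Groth.Agent.LD.QC.isBaseChange_pbSec i hV hU (le_refl (i ⁻¹ᵁ U))
    (ClSub.idealMod i.ker)
  let Ξ : Γ(Z, i ⁻¹ᵁ U) ⊗[Γ(X, U)] (RingHom.ker (algebraMap Γ(X, U) Γ(Z, i ⁻¹ᵁ U)))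
      ≃ₗ[Γ(Z, i ⁻¹ᵁ U)] Γ(Omega.conormal i, i ⁻¹ᵁ U) :=
    (TensorProduct.AlgebraTensorModule.congr
      (LinearEquiv.refl Γ(Z, i ⁻¹ᵁ U) Γ(Z, i ⁻¹ᵁ U)) σ.symm) ≪≫ₗ hbc.equiv
  refine ⟨σ, Ξ, fun s => rfl, fun b s => ?_⟩
  change hbc.equiv (b ⊗ₜ σ.symm (σ s)) = _
  rw [LinearEquiv.symm_apply_apply, IsBaseChange.equiv_tmul]
  congr 1
  exact pbSec_le_rfl i (ClSub.idealMod i.ker) U s

end Groth.Agent.H3.Om
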