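import Mathlib
import Groth.Prelude.Def_Omega3
import Groth.Agent.Lib.Helper3.OmGood

set_option autoImplicit false
universe u
open AlgebraicGeometry CategoryTheory TopologicalSpace Opposite CategoryTheory.Limits TensorProduct

namespace Groth.Agent.H3.Om

/-- `f♯` commutes with restriction -/
theorem app_res_fn {Z X : Scheme.{u}} (f : Z ⟶ X) {N U : X.Opens} (hUN : U ≤ N) (a : Γ(X, N)) :
    f.app U (X.presheaf.map (homOfLE hUN).op a) =
      Z.presheaf.map (homOfLE (f.preimage_mono hUN)).op (f.app N a) :=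
  congr($(f.naturality (homOfLE hUN).op) a)

/-- vanishing of `f♯ a` is local on the target -/
theorem app_eq_zero_iff_forall_affine {Z X : Scheme.{u}} (f : Z ⟶ X) (N : X.Opens) (a : Γ(X, N)) :
    f.app N a = 0 ↔ ∀ (U : X.Opens) (_ : IsAffineOpen U) (hUN : U ≤ N),
      f.app U (X.presheaf.map (homOfLE hUN).op a) = 0 := by
  constructor
  · intro h U _ hUN
    rw [app_res_fn, h, map_zero]
  · intro h
    apply TopCat.Sheaf.eq_of_locally_eq' Z.sheaf
      (fun U : {U : X.Opens // IsAffineOpen U ∧ U ≤ N} => f ⁻¹ᵁ U.1) (f ⁻¹ᵁ N)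
      (fun U => homOfLE (f.preimage_mono U.2.2))
    · intro z hz
      obtain ⟨U, hU, hzU, hUN⟩ := exists_isAffineOpen_mem_and_subset (x := f z) (U := N) hz
      exact Opens.mem_iSup.2 ⟨⟨U, hU, hUN⟩, hzU⟩
    · rintro ⟨U, hU, hUN⟩
      have h1 := h U hU hUN
      rw [app_res_fn] at h1
      refine h1.trans ?_
      exact (map_zero _).symm

theorem subschemeι_app_eq_zero_iff {Z X : Scheme.{u}} (i : Z ⟶ X) [QuasiCompact i] (N : X.Opens)
    (a : Γ(X, N)) : i.ker.subschemeι.app N a = 0 ↔ i.app N a = 0 := by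
  rw [app_eq_zero_iff_forall_affine, app_eq_zero_iff_forall_affine i]
  refine forall_congr' fun U => forall_congr' fun hU => forall_congr' fun hUN => ?_
  have h1 : i.ker.subschemeι.app U (X.presheaf.map (homOfLE hUN).op a) = 0 ↔
      X.presheaf.map (homOfLE hUN).op a ∈ RingHom.ker (i.ker.subschemeι.app U).hom := Iff.rfl
  have h2 : i.app U (X.presheaf.map (homOfLE hUN).op a) = 0 ↔
      X.presheaf.map (homOfLE hUN).op a ∈ RingHom.ker (i.app U).hom := Iff.rfl
  rw [h1, h2, i.ker.ker_subschemeι_app ⟨U, hU⟩, Scheme.Hom.ker_apply i ⟨U, hU⟩]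

theorem idealSect_injective {X : Scheme.{u}} (I : X.IdealSheafData) (N : X.Opens) :
    Function.Injective (OmegaSh.idealSect I N) :=
  Groth.Agent.LD.QC.idealModι_app_injective I N

theorem idealSect_res {X : Scheme.{u}} (I : X.IdealSheafData) {N U : X.Opens} (hUN : U ≤ N)
    (s : Γ(ClSub.idealMod I, N)) :
    OmegaSh.idealSect I U ((ClSub.idealMod I).presheaf.map (homOfLE hUN).op s) =
      X.presheaf.map (homOfLE hUN).op (OmegaSh.idealSect I N s) :=
  Groth.Agent.LD.QC.app_res (ClSub.idealModι I) hUN s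

/-- sections of the ideal of a quasi-compact morphism over an arbitrary open: the local functions
killed by `i♯`. -/
theorem exists_idealSect_eq_iff {Z X : Scheme.{u}} (i : Z ⟶ X) [QuasiCompact i] (N : X.Opens)
    (a : Γ(X, N)) :
    (∃ s : Γ(ClSub.idealMod i.ker, N), OmegaSh.idealSect i.ker N s = a) ↔ i.app N a = 0 := by
  rw [← subschemeι_app_eq_zero_iff]
  constructor
  · rintro ⟨t, rfl⟩
    have h := kernel.condition (ClSub.toSubscheme i.ker)
    exact congr($(h).app N t)
  · intro hs
    let S : ShortComplex X.Modules :=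
      ShortComplex.mk (ClSub.idealModι i.ker) (ClSub.toSubscheme i.ker) (kernel.condition _)
    have hS : S.Exact := ShortComplex.exact_of_f_is_kernel S (kernelIsKernel _)
    haveI : Mono S.f := inferInstanceAs (Mono (ClSub.idealModι i.ker))
    exact Groth.Agent.LD.QC.exact_sections' S hS N a hs

/-- a local section of an ideal module is killed by `i♯` (no quasi-compactness needed). -/
theorem app_idealSect_eq_zero {Z X : Scheme.{u}} (i : Z ⟶ X) (N : X.Opens)
    (s : Γ(ClSub.idealMod i.ker, N)) : i.app N (OmegaSh.idealSect i.ker N s) = 0 := by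
  have h := kernel.condition (ClSub.toSubscheme i.ker)
  have h1 : i.ker.subschemeι.app N (OmegaSh.idealSect i.ker N s) = 0 := congr($(h).app N s)
  have h2 := Scheme.Hom.congr_app i.toImage_imageι N
  have h3 : (i.toImage ≫ i.imageι).app N (OmegaSh.idealSect i.ker N s) = 0 := by
    have h4 : (i.toImage ≫ i.imageι).app N (OmegaSh.idealSect i.ker N s) =
        i.toImage.app (i.imageι ⁻¹ᵁ N) (i.imageι.app N (OmegaSh.idealSect i.ker N s)) := rfl
    rw [h4]
    exact (congrArg _ h1).trans (map_zero _)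
  rw [h2, CommRingCat.comp_apply] at h3
  have hinj : Function.Injective (Z.presheaf.map (eqToHom (by rw [i.toImage_imageι]) :
      (i.toImage ≫ i.imageι) ⁻¹ᵁ N ⟶ i ⁻¹ᵁ N).op) := by
    have : IsIso (Z.presheaf.map (eqToHom (by rw [i.toImage_imageι]) :
      (i.toImage ≫ i.imageι) ⁻¹ᵁ N ⟶ i ⁻¹ᵁ N).op) := inferInstance
    exact ((ConcreteCategory.isIso_iff_bijective _).1 this).1
  apply hinj
  rw [map_zero]
  exact h3

end Groth.Agent.H3.Om
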