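import Mathlib
import Groth.Prelude.Def_Omega3
import Groth.Agent.Lib.Helper3.OmCM1

set_option autoImplicit false
universe u
open AlgebraicGeometry CategoryTheory TopologicalSpace Opposite CategoryTheory.Limits TensorProduct

namespace Groth.Agent.H3.Om

theorem app_eq_zero_of_eq {Z X : Scheme.{u}} {f g : Z ⟶ X} (h : f = g) (U : X.Opens) (a : Γ(X, U))
    (h0 : f.app U a = 0) : g.app U a = 0 := by
  subst h
  exact h0

/-- the map of ideal modules `𝓘' → g_* 𝓘` attached to a commutative square. -/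
theorem exists_idealPush {Z X Z' X' : Scheme.{u}} (i : Z ⟶ X) (i' : Z' ⟶ X') [QuasiCompact i]
    (g : X ⟶ X') (gZ : Z ⟶ Z') (hsq : gZ ≫ i' = i ≫ g) :
    ∃ ρ : ClSub.idealMod i'.ker ⟶ (Scheme.Modules.pushforward g).obj (ClSub.idealMod i.ker),
      ∀ (U' : X'.Opens) (s' : Γ(ClSub.idealMod i'.ker, U')),
        OmegaSh.idealSect i.ker (g ⁻¹ᵁ U') (ρ.app U' s') =
          g.app U' (OmegaSh.idealSect i'.ker U' s') := by
  let G := Scheme.Modules.pushforward g
  let f := ClSub.toSubscheme i.ker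
  let k : ClSub.idealMod i'.ker ⟶ G.obj (Coh.structureModule X) :=
    ClSub.idealModι i'.ker ≫ ClSub.unitToPush g
  have hk : ∀ (U' : X'.Opens) (s' : Γ(ClSub.idealMod i'.ker, U')),
      k.app U' s' = g.app U' (OmegaSh.idealSect i'.ker U' s') := fun U' s' => rfl
  have hzero : ∀ (U' : X'.Opens) (s' : Γ(ClSub.idealMod i'.ker, U')),
      i.app (g ⁻¹ᵁ U') (g.app U' (OmegaSh.idealSect i'.ker U' s')) = 0 := by
    intro U' s'
    have h1 := app_idealSect_eq_zero i' U' s'
    have h2 : (gZ ≫ i').app U' (OmegaSh.idealSect i'.ker U' s') = 0 := by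
      have h4 : (gZ ≫ i').app U' (OmegaSh.idealSect i'.ker U' s') =
          gZ.app (i' ⁻¹ᵁ U') (i'.app U' (OmegaSh.idealSect i'.ker U' s')) := rfl
      rw [h4]
      exact (congrArg _ h1).trans (map_zero _)
    exact app_eq_zero_of_eq hsq U' _ h2
  have w : k ≫ G.map f = 0 := by
    apply Scheme.Modules.hom_ext
    intro U'
    ext s'
    have h1 : (k ≫ G.map f).app U' s' = f.app (g ⁻¹ᵁ U') (k.app U' s') := rfl
    rw [h1, hk]
    exact (subschemeι_app_eq_zero_iff i _ _).2 (hzero U' s')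
  let ρ : ClSub.idealMod i'.ker ⟶ G.obj (kernel f) :=
    kernel.lift (G.map f) k w ≫ inv (kernelComparison f G)
  have hρ : ρ ≫ G.map (kernel.ι f) = k := by
    have h1 : inv (kernelComparison f G) ≫ G.map (kernel.ι f) = kernel.ι (G.map f) := by
      rw [IsIso.inv_comp_eq, kernelComparison_comp_ι]
    change (kernel.lift (G.map f) k w ≫ inv (kernelComparison f G)) ≫ G.map (kernel.ι f) = k
    rw [Category.assoc, h1, kernel.lift_ι]
  refine ⟨ρ, fun U' s' => ?_⟩
  rw [← hk, ← hρ]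
  rfl

end Groth.Agent.H3.Om
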