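import Mathlib

set_option autoImplicit false
universe u
open TensorProduct

namespace Groth.Agent.H3.Om

variable (R A B : Type u) [CommRing R] [CommRing A] [CommRing B] [Algebra R A] [Algebra A B]
  [Algebra R B] [IsScalarTower R A B]

theorem range_mapBaseChange_eq_span :
    LinearMap.range (KaehlerDifferential.mapBaseChange R A B) =
      Submodule.span B (Set.range fun a : A => KaehlerDifferential.D R B (algebraMap A B a)) := by
  apply le_antisymm
  · rintro _ ⟨t, rfl⟩
    induction t with
    | zero => rw [map_zero]; exact Submodule.zero_mem _
    | add t t' ht ht' => rw [map_add]; exact Submodule.add_mem _ ht ht'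
    | tmul b ω =>
      rw [KaehlerDifferential.mapBaseChange_tmul]
      apply Submodule.smul_mem
      have hω : ω ∈ Submodule.span A (Set.range (KaehlerDifferential.D R A)) := by
        rw [KaehlerDifferential.span_range_derivation]; trivial
      induction hω using Submodule.span_induction with
      | mem ω hω =>
        obtain ⟨a, rfl⟩ := hω
        rw [KaehlerDifferential.map_D]
        exact Submodule.subset_span ⟨a, rfl⟩
      | zero => rw [map_zero]; exact Submodule.zero_mem _
      | add ω ω' _ _ h h' => rw [map_add]; exact Submodule.add_mem _ h h'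
      | smul a ω _ h =>
        rw [map_smul, ← algebraMap_smul B a]
        exact Submodule.smul_mem _ _ h
  · rw [Submodule.span_le]
    rintro _ ⟨a, rfl⟩
    refine ⟨1 ⊗ₜ KaehlerDifferential.D R A a, ?_⟩
    rw [KaehlerDifferential.mapBaseChange_tmul, one_smul, KaehlerDifferential.map_D]

theorem span_D_algebraMap_eq_top_iff :
    Submodule.span B (Set.range fun a : A => KaehlerDifferential.D R B (algebraMap A B a)) = ⊤ ↔
      Subsingleton (Ω[B⁄A]) := by
  rw [← range_mapBaseChange_eq_span, KaehlerDifferential.range_mapBaseChange]
  constructor
  · intro h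
    refine ⟨fun x y => ?_⟩
    obtain ⟨x', rfl⟩ := KaehlerDifferential.map_surjective R A B x
    obtain ⟨y', rfl⟩ := KaehlerDifferential.map_surjective R A B y
    have hx : x' ∈ LinearMap.ker (KaehlerDifferential.map R A B B) := by rw [h]; trivial
    have hy : y' ∈ LinearMap.ker (KaehlerDifferential.map R A B B) := by rw [h]; trivial
    rw [LinearMap.mem_ker.1 hx, LinearMap.mem_ker.1 hy]
  · intro h
    rw [eq_top_iff]
    intro x _
    rw [LinearMap.mem_ker]
    exact Subsingleton.elim _ _

end Groth.Agent.H3.Om
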