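import Mathlib
import Groth.Prelude.Def_Omega3
import Groth.Agent.Lib.Helper3.OmChart
import Groth.Agent.Lib.Helper3.OmRing
import Groth.Agent.Lib.Lead.QC.EpiLocal
import Groth.Agent.Lib.Lead.QC.Gen

set_option autoImplicit false
universe u
open AlgebraicGeometry CategoryTheory TopologicalSpace Opposite CategoryTheory.Limits

namespace Groth.Agent.H3.Om

variable {X Y S : Scheme.{u}}

theorem exists_chart3 (g : Y ⟶ S) (f : X ⟶ Y) (x : X) (N : X.Opens) (hxN : x ∈ N) :
    ∃ (U : X.Opens) (V : Y.Opens) (W : S.Opens), IsAffineOpen U ∧ IsAffineOpen V ∧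
      IsAffineOpen W ∧ x ∈ U ∧ U ≤ N ∧ U ≤ f ⁻¹ᵁ V ∧ V ≤ g ⁻¹ᵁ W := by
  obtain ⟨_, ⟨W, hW : IsAffineOpen W, rfl⟩, hxW, -⟩ :=
    S.isBasis_affineOpens.exists_subset_of_mem_open (Set.mem_univ (g (f x))) isOpen_univ
  obtain ⟨_, ⟨V, hV : IsAffineOpen V, rfl⟩, hxV, hVW⟩ :=
    Y.isBasis_affineOpens.exists_subset_of_mem_open
      (show f x ∈ ((g ⁻¹ᵁ W : Y.Opens) : Set Y) from hxW) (g ⁻¹ᵁ W).2
  obtain ⟨_, ⟨U, hU : IsAffineOpen U, rfl⟩, hxU, hUV⟩ :=
    X.isBasis_affineOpens.exists_subset_of_mem_open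
      (show x ∈ ((f ⁻¹ᵁ V ⊓ N : X.Opens) : Set X) from ⟨hxV, hxN⟩) (f ⁻¹ᵁ V ⊓ N).2
  exact ⟨U, V, W, hU, hV, hW, hxU, fun y hy => (hUV hy).2, fun y hy => (hUV hy).1, hVW⟩

/-- transport of a spanning family along a linear equivalence -/
theorem span_range_comp_equiv_eq_top_iff {B M N ι : Type*} [CommRing B] [AddCommGroup M]
    [AddCommGroup N] [Module B M] [Module B N] (ε : M ≃ₗ[B] N) (v : ι → M) :
    Submodule.span B (Set.range fun i => ε (v i)) = ⊤ ↔ Submodule.span B (Set.range v) = ⊤ := by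
  have h : Submodule.span B (Set.range fun i => ε (v i)) =
      Submodule.map ε.toLinearMap (Submodule.span B (Set.range v)) := by
    rw [Submodule.map_span, ← Set.range_comp]
    rfl
  rw [h]
  constructor
  · intro h1
    rw [eq_top_iff]
    intro m _
    have : ε m ∈ Submodule.map ε.toLinearMap (Submodule.span B (Set.range v)) := by
      rw [h1]; trivial
    obtain ⟨m', hm', hmm⟩ := this
    have : m' = m := ε.injective hmm
    rwa [this] at hm'
  · intro h1
    rw [h1, Submodule.map_top, LinearEquiv.range]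

/-- on a chart of a triangle `X → Y → S`: `c` is surjective on sections iff `Ω[B/A] = 0`. -/
theorem tri_app_surjective_iff (g : Y ⟶ S) (f : X ⟶ Y)
    {ΩY : Y.Modules} {dY : OmegaSh.Der g ΩY} (hY : OmegaSh.IsUniversal dY)
    {ΩX : X.Modules} {dX : OmegaSh.Der (f ≫ g) ΩX} (hX : OmegaSh.IsUniversal dX)
    {c : (Scheme.Modules.pullback f).obj ΩY ⟶ ΩX} (hc : OmegaSh.IsDiffCompat f dY dX c)
    {U : X.Opens} {V : Y.Opens} {W : S.Opens} (hU : IsAffineOpen U) (hV : IsAffineOpen V)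
    (hW : IsAffineOpen W) (eU : U ≤ f ⁻¹ᵁ V) (eV : V ≤ g ⁻¹ᵁ W) :
    Function.Surjective (c.app U) ↔ (f.appLE V U eU).hom.FormallyUnramified := by
  have eUW : U ≤ (f ≫ g) ⁻¹ᵁ W := fun y hy => eV (eU hy)
  rw [IsDiffCompat.app_surjective_iff hY hc hV hW eV hU eU]
  letI := (g.appLE W V eV).hom.toAlgebra
  letI := (f.appLE V U eU).hom.toAlgebra
  letI := ((f ≫ g).appLE W U eUW).hom.toAlgebra
  haveI : IsScalarTower Γ(S, W) Γ(Y, V) Γ(X, U) := by
    refine IsScalarTower.of_algebraMap_eq' ?_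
    have := Scheme.Hom.appLE_comp_appLE f g W V U eV eU
    exact congrArg CommRingCat.Hom.hom this.symm
  obtain ⟨εX, hεX⟩ := exists_linearEquiv_sections hX hU hW eUW
  have h1 : (fun x : Γ(Y, V) => dX.app U (f.appLE V U eU x)) =
      fun x : Γ(Y, V) => εX (KaehlerDifferential.D Γ(S, W) Γ(X, U) (algebraMap Γ(Y, V) Γ(X, U) x)) := by
    funext x
    exact (hεX _).symm
  rw [h1, span_range_comp_equiv_eq_top_iff εX, span_D_algebraMap_eq_top_iff]
  exact (Algebra.formallyUnramified_iff _ _).symm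


/-- S5015 -/
theorem formallyUnramified_iff_epi (g : Y ⟶ S) (h : X ⟶ S) (f : X ⟶ Y) (w : f ≫ g = h)
    {ΩY : Y.Modules} {dY : OmegaSh.Der g ΩY} (hY : OmegaSh.IsUniversal dY)
    {ΩX : X.Modules} {dX : OmegaSh.Der h ΩX} (hX : OmegaSh.IsUniversal dX)
    {c : (Scheme.Modules.pullback f).obj ΩY ⟶ ΩX} (hc : OmegaSh.IsDiffCompat f dY dX c) :
    FormallyUnramified f ↔ Epi c := by
  subst w
  haveI := isQuasicoherent_of_isUniversal hY
  haveI := isQuasicoherent_of_isUniversal hX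
  haveI : ((Scheme.Modules.pullback f).obj ΩY).IsQuasicoherent :=
    Groth.Agent.LD.QC.qc_pullback f ΩY
  constructor
  · intro hf
    apply Groth.Agent.LD.QC.epi_of_local_lift
    intro N t x hxN
    obtain ⟨U, V, W, hU, hV, hW, hxU, hUN, eU, eV⟩ := exists_chart3 g f x N hxN
    have hs := (tri_app_surjective_iff g f hY hX hc hU hV hW eU eV).2
      (hf.formallyUnramified_appLE hV hU eU)
    obtain ⟨s, hs⟩ := hs (ΩX.presheaf.map (homOfLE hUN).op t)
    exact ⟨U, hUN, hxU, s, hs⟩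
  · intro he
    rw [HasRingHomProperty.iff_exists_appLE (P := @FormallyUnramified)
      (RingHom.FormallyUnramified.stableUnderComposition.stableUnderCompositionWithLocalizationAway
        RingHom.FormallyUnramified.holdsForLocalizationAway).1]
    intro x
    obtain ⟨U, V, W, hU, hV, hW, hxU, -, eU, eV⟩ := exists_chart3 g f x ⊤ trivial
    refine ⟨⟨V, hV⟩, ⟨U, hU⟩, hxU, eU, ?_⟩
    exact (tri_app_surjective_iff g f hY hX hc hU hV hW eU eV).1
      (Groth.Agent.LD.QC.epi_app_affine inferInstance inferInstance c hU)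

end Groth.Agent.H3.Om
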