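import Mathlib
import Groth.Prelude.Def_Omega3
import Groth.Prelude.Def_MoreMor
import Groth.Agent.Lib.Helper3.OmTri2
import Groth.Agent.Lib.Helper3.OmSm1
import Groth.Agent.Lib.Helper3.ZClosCover

set_option autoImplicit false
universe u
open AlgebraicGeometry CategoryTheory TopologicalSpace Opposite CategoryTheory.Limits TensorProduct

namespace Groth.Agent.H3.Om

variable {X Y S : Scheme.{u}}

/-- the affine opens of `X` sitting in a chart of `X → Y → S` form a basis. -/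
def chartBasis (g : Y ⟶ S) (f : X ⟶ Y) : Set X.Opens :=
  {U | IsAffineOpen U ∧ ∃ (V : Y.Opens) (W : S.Opens), IsAffineOpen V ∧ IsAffineOpen W ∧
    U ≤ f ⁻¹ᵁ V ∧ V ≤ g ⁻¹ᵁ W}

theorem isBasis_chartBasis (g : Y ⟶ S) (f : X ⟶ Y) : Opens.IsBasis (chartBasis g f) := by
  rw [Opens.isBasis_iff_nbhd]
  intro N x hxN
  obtain ⟨U, V, W, hU, hV, hW, hxU, hUN, eU, eV⟩ := exists_chart3 g f x N hxN
  exact ⟨U, ⟨hU, V, W, hV, hW, eU, eV⟩, hxU, hUN⟩

/-- ring level: `mapBaseChange` is injective when `H¹(L_{B/A}) = 0`. -/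
theorem mapBaseChange_injective (R A B : Type u) [CommRing R] [CommRing A] [CommRing B]
    [Algebra R A] [Algebra A B] [Algebra R B] [IsScalarTower R A B]
    [Subsingleton (Algebra.H1Cotangent A B)] :
    Function.Injective (KaehlerDifferential.mapBaseChange R A B) := by
  rw [← LinearMap.ker_eq_bot, eq_bot_iff]
  intro t ht
  have hex := Algebra.H1Cotangent.exact_δ_mapBaseChange R A B
  obtain ⟨z, rfl⟩ := (hex t).1 ht
  rw [Subsingleton.elim z 0, map_zero]
  exact Submodule.zero_mem _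

/-- S5016 -/
theorem mono_of_formallySmooth (g : Y ⟶ S) (h : X ⟶ S) (f : X ⟶ Y) (w : f ≫ g = h)
    (hf : MoreMor.IsFormallySmoothHom f)
    {ΩY : Y.Modules} {dY : OmegaSh.Der g ΩY} (hY : OmegaSh.IsUniversal dY)
    {ΩX : X.Modules} {dX : OmegaSh.Der h ΩX} (hX : OmegaSh.IsUniversal dX)
    {c : (Scheme.Modules.pullback f).obj ΩY ⟶ ΩX} (hc : OmegaSh.IsDiffCompat f dY dX c) :
    Mono c := by
  subst w
  apply Groth.Agent.H3.ZClosCover.mono_of_injective_basis c (chartBasis g f)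
    (isBasis_chartBasis g f)
  rintro U ⟨hU, V, W, hV, hW, eU, eV⟩
  letI := (g.appLE W V eV).hom.toAlgebra
  letI := (f.appLE V U eU).hom.toAlgebra
  letI := ((f ≫ g).appLE W U (fun y hy => eV (eU hy))).hom.toAlgebra
  obtain ⟨hT, Φ, εX, hΦ⟩ := tri_app_eq_mapBaseChange g f hY hX hc hU hV hW eU eV
  have hsm : Algebra.FormallySmooth Γ(Y, V) Γ(X, U) := formallySmooth_appLE hf hU hV eU
  have hinj := mapBaseChange_injective Γ(S, W) Γ(Y, V) Γ(X, U)
  intro a b hab
  obtain ⟨a', rfl⟩ := Φ.surjective a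
  obtain ⟨b', rfl⟩ := Φ.surjective b
  rw [hΦ, hΦ] at hab
  rw [hinj (εX.injective hab)]

end Groth.Agent.H3.Om
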