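import Mathlib
import Groth.Prelude.Def_Omega3
import Groth.Agent.Lib.Helper3.OmTri3
import Groth.Agent.Lib.Helper3.OmId
import Groth.Agent.Lib.Lead.QC.BiprodSec

set_option autoImplicit false
universe u
open AlgebraicGeometry CategoryTheory TopologicalSpace Opposite CategoryTheory.Limits TensorProduct

namespace Groth.Agent.H3.Om

variable {X Y Z : Scheme.{u}}

/-- two morphisms of modules agreeing on a basis of opens are equal -/
theorem hom_ext_basis {M N : X.Modules} (φ ψ : M ⟶ N) (B : Set X.Opens) (hB : Opens.IsBasis B)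
    (h : ∀ V ∈ B, ∀ s : Γ(M, V), φ.app V s = ψ.app V s) : φ = ψ := by
  apply Scheme.Modules.hom_ext
  intro V
  ext s
  obtain ⟨W, hWa, hWV, hcov⟩ := Groth.Agent.H3.ZClosCover.exists_basis_cover B hB V
  apply Groth.Agent.LD.QC.section_ext_of_cover N W hWV hcov
  intro x
  rw [← Groth.Agent.LD.QC.app_res, ← Groth.Agent.LD.QC.app_res]
  exact h (W x) (hWa x) _

/-- the map `Ω_{X/Z} → Ω_{X/Y}` on `d`-sections -/
theorem idCompat_app (f : X ⟶ Y) (g : Y ⟶ Z)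
    {ΩX : X.Modules} {dX : OmegaSh.Der (f ≫ g) ΩX}
    {ΩXY : X.Modules} {dXY : OmegaSh.Der f ΩXY}
    {c₂ : (Scheme.Modules.pullback (𝟙 X)).obj ΩX ⟶ ΩXY}
    (hc₂ : OmegaSh.IsDiffCompat (𝟙 X) dX dXY c₂) (U : X.Opens) (s : Γ(X, U)) :
    ((Scheme.Modules.pullbackId X).inv.app ΩX ≫ c₂).app U (dX.app U s) = dXY.app U s := by
  have h1 := hc₂ U s
  have h2 := pullbackId_inv_app ΩX U (dX.app U s)
  rw [Scheme.Modules.Hom.comp_app]
  change c₂.app ((𝟙 X) ⁻¹ᵁ U) (((Scheme.Modules.pullbackId X).inv.app ΩX).app ((𝟙 X) ⁻¹ᵁ U)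
    (dX.app U s)) = _
  rw [h2, h1]
  rfl

end Groth.Agent.H3.Om
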