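import Mathlib
import Groth.Prelude.Def_Omega3
import Groth.Agent.Lib.Helper3.OmCM2
import Groth.Agent.Lib.Helper3.OmSq3
import Groth.Agent.Lib.Helper3.OmSeq1

set_option autoImplicit false
universe u
open AlgebraicGeometry CategoryTheory TopologicalSpace Opposite CategoryTheory.Limits TensorProduct
open Groth.Agent.LD.QC

namespace Groth.Agent.H3.Om

/-- for a commutative square, `i♯ g♯` kills the sections of the ideal of `i'`. -/
theorem app_app_idealSect_eq_zero {Z X Z' X' : Scheme.{u}} (i : Z ⟶ X) (i' : Z' ⟶ X')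
    (g : X ⟶ X') (gZ : Z ⟶ Z') (hsq : gZ ≫ i' = i ≫ g) (U' : X'.Opens)
    (s' : Γ(ClSub.idealMod i'.ker, U')) :
    i.app (g ⁻¹ᵁ U') (g.app U' (OmegaSh.idealSect i'.ker U' s')) = 0 := by
  have h1 := app_idealSect_eq_zero i' U' s'
  have h2 : (gZ ≫ i').app U' (OmegaSh.idealSect i'.ker U' s') = 0 := by
    have h4 : (gZ ≫ i').app U' (OmegaSh.idealSect i'.ker U' s') =
        gZ.app (i' ⁻¹ᵁ U') (i'.app U' (OmegaSh.idealSect i'.ker U' s')) := rfl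
    rw [h4]
    exact (congrArg _ h1).trans (map_zero _)
  exact app_eq_zero_of_eq hsq U' _ h2

/-- **section formula for a conormal map**, over arbitrary opens. -/
theorem IsConormalMap.app_pbSec {Z X Z' X' : Scheme.{u}} {i : Z ⟶ X} {i' : Z' ⟶ X'}
    [QuasiCompact i] {g : X ⟶ X'} {gZ : Z ⟶ Z'}
    {φ : (Scheme.Modules.pullback gZ).obj (Omega.conormal i') ⟶ Omega.conormal i}
    (hφ : OmegaSh.IsConormalMap i i' g gZ φ) {U' : X'.Opens} {N : X.Opens} (eN : N ≤ g ⁻¹ᵁ U')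
    {V : Z.Opens} (eV : V ≤ gZ ⁻¹ᵁ (i' ⁻¹ᵁ U')) (eV' : V ≤ i ⁻¹ᵁ N)
    (s' : Γ(ClSub.idealMod i'.ker, U')) (s₁ : Γ(ClSub.idealMod i.ker, N))
    (hs : OmegaSh.idealSect i.ker N s₁ = g.appLE U' N eN (OmegaSh.idealSect i'.ker U' s')) :
    φ.app V (pbSec gZ (Omega.conormal i') eV (OmegaSh.conormalSect i' U' s')) =
      (pbSec i (ClSub.idealMod i.ker) eV' s₁ : Γ(Omega.conormal i, V)) := by
  obtain ⟨s, hs0⟩ := (exists_idealSect_eq_iff i (g ⁻¹ᵁ U') _).2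
    (app_app_idealSect_eq_zero i i' g gZ hφ.1 U' s')
  have hs1 : s₁ = (ClSub.idealMod i.ker).presheaf.map (homOfLE eN).op s := by
    apply idealSect_injective
    rw [hs, idealSect_res, hs0, Scheme.Hom.appLE]
    rfl
  have h := hφ.2 U' s' s hs0 V eV (eV'.trans (i.preimage_mono eN))
  have e1 : φ.app V (pbSec gZ (Omega.conormal i') eV (OmegaSh.conormalSect i' U' s')) =
      (Omega.conormal i).presheaf.map (homOfLE eV).op
        (φ.app (gZ ⁻¹ᵁ (i' ⁻¹ᵁ U'))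
          (OmegaSh.pullSect gZ (Omega.conormal i') (i' ⁻¹ᵁ U')
            (OmegaSh.conormalSect i' U' s'))) := app_res φ eV _
  rw [e1, h, hs1]
  have e2 := pbSec_res i (ClSub.idealMod i.ker) (le_refl (i ⁻¹ᵁ (g ⁻¹ᵁ U'))) eV'
    (eV'.trans (i.preimage_mono eN)) eN s
  rw [e2, pbSec_le_rfl]
  rfl

/-- the map `gZ^* i'^* M' → i^* M` attached to a commutative square and `g^* M' → M`, with its
section formula. -/
theorem exists_pullback_sq_map {Z X Z' X' : Scheme.{u}} (i : Z ⟶ X) (i' : Z' ⟶ X')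
    (g : X ⟶ X') (gZ : Z ⟶ Z') (hsq : gZ ≫ i' = i ≫ g) (M' : X'.Modules) (M : X.Modules)
    (ρb : (Scheme.Modules.pullback g).obj M' ⟶ M) :
    ∃ φ : (Scheme.Modules.pullback gZ).obj ((Scheme.Modules.pullback i').obj M') ⟶
        (Scheme.Modules.pullback i).obj M,
      ∀ (U' : X'.Opens) (V : Z.Opens) (h₁ : V ≤ gZ ⁻¹ᵁ (i' ⁻¹ᵁ U')) (h₂ : V ≤ i ⁻¹ᵁ (g ⁻¹ᵁ U'))
        (m : Γ(M', U')),
        φ.app V (pbSec gZ ((Scheme.Modules.pullback i').obj M') h₁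
          (pbSec i' M' (le_refl (i' ⁻¹ᵁ U')) m)) =
        pbSec i M h₂ (ρb.app (g ⁻¹ᵁ U') (pbSec g M' (le_refl (g ⁻¹ᵁ U')) m)) := by
  refine ⟨(Scheme.Modules.pullbackComp gZ i').hom.app M' ≫
      (Scheme.Modules.pullbackCongr hsq).hom.app M' ≫
      (Scheme.Modules.pullbackComp i g).inv.app M' ≫
      (Scheme.Modules.pullback i).map ρb, fun U' V h₁ h₂ m => ?_⟩
  rw [Scheme.Modules.Hom.comp_app, ConcreteCategory.comp_apply,
    Scheme.Modules.Hom.comp_app, ConcreteCategory.comp_apply,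
    Scheme.Modules.Hom.comp_app, ConcreteCategory.comp_apply,
    pbSec_comp' gZ i' M' h₁ (le_refl (i' ⁻¹ᵁ U')) h₁ m,
    pbSec_congr hsq M' h₁ h₂ m,
    pbSec_comp i g M' h₂ (le_refl (g ⁻¹ᵁ U')) h₂ m,
    pbSec_naturality i ρb h₂]

/-- existence of a conormal map for a commutative square. -/
theorem exists_isConormalMap {Z X Z' X' : Scheme.{u}} (i : Z ⟶ X) (i' : Z' ⟶ X')
    [QuasiCompact i] (g : X ⟶ X') (gZ : Z ⟶ Z') (hsq : gZ ≫ i' = i ≫ g) :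
    ∃ φ : (Scheme.Modules.pullback gZ).obj (Omega.conormal i') ⟶ Omega.conormal i,
      OmegaSh.IsConormalMap i i' g gZ φ := by
  obtain ⟨ρ, hρ⟩ := exists_idealPush i i' g gZ hsq
  obtain ⟨ρb, hρb⟩ : ∃ ρb : (Scheme.Modules.pullback g).obj (ClSub.idealMod i'.ker) ⟶
      ClSub.idealMod i.ker,
      ρ = (Scheme.Modules.pullbackPushforwardAdjunction g).unit.app (ClSub.idealMod i'.ker) ≫
        (Scheme.Modules.pushforward g).map ρb := by
    refine ⟨((Scheme.Modules.pullbackPushforwardAdjunction g).homEquiv _ _).symm ρ, ?_⟩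
    exact ((Equiv.apply_symm_apply _ ρ).symm).trans (Adjunction.homEquiv_unit _ _ _ _)
  have hρb' : ∀ (U' : X'.Opens) (s' : Γ(ClSub.idealMod i'.ker, U')),
      ρb.app (g ⁻¹ᵁ U') (pbSec g (ClSub.idealMod i'.ker) (le_refl (g ⁻¹ᵁ U')) s') = ρ.app U' s' := by
    intro U' s'
    rw [pbSec_le_rfl]
    exact congr($(hρb).app U' s').symm
  obtain ⟨φ, hφ⟩ : ∃ φ : (Scheme.Modules.pullback gZ).obj (Omega.conormal i') ⟶ Omega.conormal i,
      ∀ (U' : X'.Opens) (V : Z.Opens) (h₁ : V ≤ gZ ⁻¹ᵁ (i' ⁻¹ᵁ U')) (h₂ : V ≤ i ⁻¹ᵁ (g ⁻¹ᵁ U'))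
        (m : Γ(ClSub.idealMod i'.ker, U')),
        φ.app V (pbSec gZ (Omega.conormal i') h₁ (OmegaSh.conormalSect i' U' m)) =
          (pbSec i (ClSub.idealMod i.ker) h₂ (ρb.app (g ⁻¹ᵁ U')
            (pbSec g (ClSub.idealMod i'.ker) (le_refl (g ⁻¹ᵁ U')) m)) :
              Γ(Omega.conormal i, V)) := by
    obtain ⟨φ, hφ⟩ := exists_pullback_sq_map i i' g gZ hsq (ClSub.idealMod i'.ker)
      (ClSub.idealMod i.ker) ρb
    refine ⟨φ, fun U' V h₁ h₂ m => ?_⟩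
    have h := hφ U' V h₁ h₂ m
    rw [pbSec_le_rfl i'] at h
    exact h
  refine ⟨φ, hsq, fun U' s' s hs V h₁ h₂ => ?_⟩
  have e1 : (Omega.conormal i).presheaf.map (homOfLE h₁).op
        (φ.app (gZ ⁻¹ᵁ (i' ⁻¹ᵁ U'))
          (OmegaSh.pullSect gZ (Omega.conormal i') (i' ⁻¹ᵁ U')
            (OmegaSh.conormalSect i' U' s'))) =
      φ.app V (pbSec gZ (Omega.conormal i') h₁ (OmegaSh.conormalSect i' U' s')) :=
    (app_res φ h₁ _).symm
  have e3 : ρ.app U' s' = s :=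
    idealSect_injective i.ker (g ⁻¹ᵁ U') ((hρ U' s').trans hs.symm)
  refine e1.trans ?_
  rw [hφ U' V h₁ h₂ s', hρb', e3]
  rfl

end Groth.Agent.H3.Om
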