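import Mathlib

set_option autoImplicit false
universe u
open CategoryTheory CategoryTheory.Limits

namespace Groth.Agent.H3.Om

section DiagDer

variable {A B C : CommRingCat.{u}} {φ : A ⟶ B} {ι₁ ι₂ : B ⟶ C}

/-- "differentiate along the second factor, then restrict to the diagonal": for the pushout
`C = B ⊗_A B` with multiplication `μ : C → B`, an `A`-derivation `D : B → M` extends to an additive
`Dt : C → M`, `x ⊗ y ↦ x • D y`, which is `μ`-semilinear on `ker μ`. -/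
theorem exists_diagDer (hpo : IsPushout φ φ ι₁ ι₂) (μ : C ⟶ B) (h₁ : ι₁ ≫ μ = 𝟙 B)
    (h₂ : ι₂ ≫ μ = 𝟙 B) {M : Type u} [AddCommGroup M] [Module B M]
    (D : B →+ M) (hD : ∀ a b : B, D (a * b) = a • D b + b • D a)
    (hDφ : ∀ a : A, D (φ.hom a) = 0) :
    ∃ Dt : C →+ M, (∀ x y : C, μ.hom y = 0 → Dt (x * y) = μ.hom x • Dt y) ∧
      (∀ b : B, Dt (ι₂.hom b) = D b) ∧ (∀ b : B, Dt (ι₁.hom b) = 0) := by
  letI : Module Bᵐᵒᵖ M := Module.compHom M ((RingHom.id B).fromOpposite fun _ _ => mul_comm _ _)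
  haveI : IsCentralScalar B M := ⟨fun r m => rfl⟩
  have hD1 : D 1 = 0 := by
    have := hDφ 1
    rwa [map_one] at this
  let ψ₁ : B →+* TrivSqZeroExt B M := TrivSqZeroExt.inlHom B M
  let ψ₂ : B →+* TrivSqZeroExt B M :=
    { toFun := fun b => TrivSqZeroExt.inl b + TrivSqZeroExt.inr (D b)
      map_one' := by
        rw [hD1, TrivSqZeroExt.inr_zero, add_zero, TrivSqZeroExt.inl_one]
      map_mul' := fun a b => by
        apply TrivSqZeroExt.ext
        · simp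
        · simp [hD, add_comm]
      map_zero' := by simp
      map_add' := fun a b => by
        apply TrivSqZeroExt.ext
        · simp
        · simp }
  have hψ : φ ≫ CommRingCat.ofHom ψ₁ = φ ≫ CommRingCat.ofHom ψ₂ := by
    refine CommRingCat.hom_ext (RingHom.ext fun a => ?_)
    change TrivSqZeroExt.inl (φ.hom a) = TrivSqZeroExt.inl (φ.hom a) + TrivSqZeroExt.inr (D (φ.hom a))
    rw [hDφ, TrivSqZeroExt.inr_zero, add_zero]
  let ψ : C ⟶ CommRingCat.of (TrivSqZeroExt B M) :=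
    hpo.desc (CommRingCat.ofHom ψ₁) (CommRingCat.ofHom ψ₂) hψ
  have hψ₁ : ι₁ ≫ ψ = CommRingCat.ofHom ψ₁ := hpo.inl_desc _ _ _
  have hψ₂ : ι₂ ≫ ψ = CommRingCat.ofHom ψ₂ := hpo.inr_desc _ _ _
  let π : CommRingCat.of (TrivSqZeroExt B M) ⟶ B :=
    CommRingCat.ofHom (TrivSqZeroExt.fstHom B B M).toRingHom
  have hπ : ψ ≫ π = μ := by
    apply hpo.hom_ext
    · rw [← Category.assoc, hψ₁, h₁]
      ext b
      change TrivSqZeroExt.fst (TrivSqZeroExt.inl b : TrivSqZeroExt B M) = b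
      simp
    · rw [← Category.assoc, hψ₂, h₂]
      ext b
      change TrivSqZeroExt.fst (TrivSqZeroExt.inl b + TrivSqZeroExt.inr (D b)) = b
      simp
  have hfst : ∀ c : C, TrivSqZeroExt.fst (ψ.hom c) = μ.hom c := fun c => congr($hπ c)
  refine ⟨(TrivSqZeroExt.sndHom B M).toAddMonoidHom.comp ψ.hom.toAddMonoidHom, ?_, ?_, ?_⟩
  · intro x y hy
    change TrivSqZeroExt.snd (ψ.hom (x * y)) = μ.hom x • TrivSqZeroExt.snd (ψ.hom y)
    rw [map_mul, TrivSqZeroExt.snd_mul, hfst, hfst, hy, MulOpposite.op_zero, zero_smul, add_zero]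
  · intro b
    change TrivSqZeroExt.snd (ψ.hom (ι₂.hom b)) = D b
    have : ψ.hom (ι₂.hom b) = ψ₂ b := congr($hψ₂ b)
    rw [this]
    change TrivSqZeroExt.snd (TrivSqZeroExt.inl b + TrivSqZeroExt.inr (D b)) = D b
    simp
  · intro b
    change TrivSqZeroExt.snd (ψ.hom (ι₁.hom b)) = 0
    have : ψ.hom (ι₁.hom b) = ψ₁ b := congr($hψ₁ b)
    rw [this]
    change TrivSqZeroExt.snd (TrivSqZeroExt.inl b : TrivSqZeroExt B M) = 0
    simp

/-- the kernel of the multiplication `B ⊗_A B → B` is generated by the `1 ⊗ a - a ⊗ 1`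
(pushout form). -/
theorem ker_le_span_diff (hpo : IsPushout φ φ ι₁ ι₂) (μ : C ⟶ B) (h₁ : ι₁ ≫ μ = 𝟙 B)
    (h₂ : ι₂ ≫ μ = 𝟙 B) :
    RingHom.ker μ.hom ≤ Ideal.span (Set.range fun a : B => ι₂.hom a - ι₁.hom a) := by
  set J : Ideal C := Ideal.span (Set.range fun a : B => ι₂.hom a - ι₁.hom a) with hJ
  let π : C ⟶ CommRingCat.of (C ⧸ J) := CommRingCat.ofHom (Ideal.Quotient.mk J)
  have h12 : ι₂ ≫ π = ι₁ ≫ π := by
    ext a
    change Ideal.Quotient.mk J (ι₂.hom a) = Ideal.Quotient.mk J (ι₁.hom a)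
    rw [Ideal.Quotient.eq]
    exact Ideal.subset_span ⟨a, rfl⟩
  have hπ : μ ≫ ι₁ ≫ π = π := by
    apply hpo.hom_ext
    · rw [← Category.assoc, h₁, Category.id_comp]
    · rw [← Category.assoc, h₂, Category.id_comp, h12]
  intro x hx
  have h1 : π.hom x = π.hom (ι₁.hom (μ.hom x)) := (congr($hπ x)).symm
  rw [(RingHom.mem_ker).1 hx, map_zero, map_zero] at h1
  exact Ideal.Quotient.eq_zero_iff_mem.1 h1

end DiagDer

end Groth.Agent.H3.Om
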