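import Mathlib
import Groth.Prelude.Def_Omega4
import Groth.Agent.Lib.Helper3.OmU1
import Groth.Agent.Lib.Helper3.OmBC
import Groth.Agent.Lib.Helper3.OmCM1
import Groth.Agent.Lib.Helper5.Lim.ModuleGlue

set_option autoImplicit false
universe u
open AlgebraicGeometry CategoryTheory TopologicalSpace Opposite CategoryTheory.Limits TensorProduct

namespace Groth.Agent.H3.Om

open Groth.Agent.LD.QC

variable {X Y : Scheme.{u}} (f : X ⟶ Y)

theorem isAffineOpen_diagNbhd {U : X.Opens} (hU : IsAffineOpen U) {W : Y.Opens}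
    (hW : IsAffineOpen W) (eU : U ≤ f ⁻¹ᵁ W) : IsAffineOpen (OmegaSh.diagNbhd f U) :=
  isAffineOpen_prodChart (IsPullback.of_hasPullback f f) hU hW hU eU eU

theorem isPushout_diagNbhd {U : X.Opens} (hU : IsAffineOpen U) {W : Y.Opens}
    (hW : IsAffineOpen W) (eU : U ≤ f ⁻¹ᵁ W) :
    IsPushout (f.appLE W U eU) (f.appLE W U eU)
      ((pullback.fst f f).appLE U (OmegaSh.diagNbhd f U) inf_le_left)
      ((pullback.snd f f).appLE U (OmegaSh.diagNbhd f U) inf_le_right) :=
  isPushout_prodChart (IsPullback.of_hasPullback f f) hU hW hU eU eU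

theorem fst_appLE_diag (U : X.Opens) :
    (pullback.fst f f).appLE U (OmegaSh.diagNbhd f U) inf_le_left ≫
      (pullback.diagonal f).appLE (OmegaSh.diagNbhd f U) U (OmegaSh.le_preimage_diagNbhd f U) =
        𝟙 _ := by
  rw [Scheme.Hom.appLE_comp_appLE, OmegaSh.id_appLE_eq_id (pullback.diagonal_fst f)]

theorem snd_appLE_diag (U : X.Opens) :
    (pullback.snd f f).appLE U (OmegaSh.diagNbhd f U) inf_le_right ≫
      (pullback.diagonal f).appLE (OmegaSh.diagNbhd f U) U (OmegaSh.le_preimage_diagNbhd f U) =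
        𝟙 _ := by
  rw [Scheme.Hom.appLE_comp_appLE, OmegaSh.id_appLE_eq_id (pullback.diagonal_snd f)]

theorem idealSect_smul {P : Scheme.{u}} (I : P.IdealSheafData) (N : P.Opens) (c : Γ(P, N))
    (s : Γ(ClSub.idealMod I, N)) :
    OmegaSh.idealSect I N (c • s) = c * OmegaSh.idealSect I N s := by
  rw [OmegaSh.idealSect_apply, Scheme.Modules.Hom.app_smul]
  rfl

variable [QuasiSeparated f]

theorem dSect_eq_pbSec (U : X.Opens) (s : Γ(X, U)) :
    OmegaSh.dSect f U s = pbSec (pullback.diagonal f) (ClSub.idealMod (pullback.diagonal f).ker)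
      (OmegaSh.le_preimage_diagNbhd f U) (OmegaSh.idealLift f U s) := rfl

theorem idealSect_idealLift (U : X.Opens) (s : Γ(X, U)) :
    OmegaSh.idealSect (pullback.diagonal f).ker (OmegaSh.diagNbhd f U) (OmegaSh.idealLift f U s) =
      OmegaSh.diagDiff f U s := by
  rw [OmegaSh.idealSect_apply, OmegaSh.ι_idealLift]
  rfl

theorem diag_appLE_idealSect (U : X.Opens)
    (s : Γ(ClSub.idealMod (pullback.diagonal f).ker, OmegaSh.diagNbhd f U)) :
    (pullback.diagonal f).appLE (OmegaSh.diagNbhd f U) U (OmegaSh.le_preimage_diagNbhd f U)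
      (OmegaSh.idealSect (pullback.diagonal f).ker (OmegaSh.diagNbhd f U) s) = 0 := by
  rw [Scheme.Hom.appLE, CommRingCat.comp_apply, app_idealSect_eq_zero, map_zero]

/-- on a chart, the sheaf of differentials is generated by the `d a`. -/
theorem span_range_dSect {U : X.Opens} (hU : IsAffineOpen U) {W : Y.Opens}
    (hW : IsAffineOpen W) (eU : U ≤ f ⁻¹ᵁ W) :
    Submodule.span Γ(X, U) (Set.range (OmegaSh.dSect f U)) = ⊤ := by
  have hN := isAffineOpen_diagNbhd f hU hW eU
  have hpo := isPushout_diagNbhd f hU hW eU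
  have hspan := span_range_pbSec (pullback.diagonal f) hU hN (OmegaSh.le_preimage_diagNbhd f U)
    (ClSub.idealMod (pullback.diagonal f).ker)
  rw [eq_top_iff]
  intro ω _
  have hω : (show Γ((Scheme.Modules.pullback (pullback.diagonal f)).obj
      (ClSub.idealMod (pullback.diagonal f).ker), U) from ω) ∈
      (⊤ : Submodule Γ(X, U) Γ((Scheme.Modules.pullback (pullback.diagonal f)).obj
      (ClSub.idealMod (pullback.diagonal f).ker), U)) := Submodule.mem_top
  rw [← hspan] at hω
  refine (Submodule.span_le (p := Submodule.span Γ(X, U) (Set.range (OmegaSh.dSect f U)))).2 ?_ hω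
  rintro _ ⟨s, rfl⟩
  have hker := ker_le_span_diff hpo
    ((pullback.diagonal f).appLE (OmegaSh.diagNbhd f U) U (OmegaSh.le_preimage_diagNbhd f U))
    (fst_appLE_diag f U) (snd_appLE_diag f U)
  have hx := hker ((RingHom.mem_ker).2 (diag_appLE_idealSect f U s))
  have key : ∀ x ∈ Ideal.span (Set.range fun a : Γ(X, U) =>
        ((pullback.snd f f).appLE U (OmegaSh.diagNbhd f U) inf_le_right).hom a -
          ((pullback.fst f f).appLE U (OmegaSh.diagNbhd f U) inf_le_left).hom a),
      ∃ s' : Γ(ClSub.idealMod (pullback.diagonal f).ker, OmegaSh.diagNbhd f U),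
        OmegaSh.idealSect (pullback.diagonal f).ker (OmegaSh.diagNbhd f U) s' = x ∧
        pbSec (pullback.diagonal f) (ClSub.idealMod (pullback.diagonal f).ker)
          (OmegaSh.le_preimage_diagNbhd f U) s' ∈
            Submodule.span Γ(X, U) (Set.range (OmegaSh.dSect f U)) := by
    intro x hx
    induction hx using Submodule.span_induction with
    | mem x hx =>
      obtain ⟨a, rfl⟩ := hx
      exact ⟨OmegaSh.idealLift f U a, idealSect_idealLift f U a,
        Submodule.subset_span ⟨a, rfl⟩⟩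
    | zero => exact ⟨0, map_zero _, by rw [pbSec_zero]; exact Submodule.zero_mem _⟩
    | add x y _ _ hx hy =>
      obtain ⟨sx, hsx, hsx'⟩ := hx
      obtain ⟨sy, hsy, hsy'⟩ := hy
      exact ⟨sx + sy, by rw [map_add, hsx, hsy], by
        rw [pbSec_add]; exact Submodule.add_mem _ hsx' hsy'⟩
    | smul c x _ hx =>
      obtain ⟨sx, hsx, hsx'⟩ := hx
      refine ⟨c • sx, by rw [idealSect_smul, hsx]; rfl, ?_⟩
      rw [pbSec_smul]
      exact Submodule.smul_mem _ _ hsx'
  obtain ⟨s', hs', hmem⟩ := key _ hx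
  rw [idealSect_injective _ _ hs'] at hmem
  exact hmem

end Groth.Agent.H3.Om
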