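import Mathlib
import Groth.Prelude.Def_Omega4
import Groth.Agent.Lib.Helper3.OmCM3
import Groth.Agent.Lib.Helper3.OmApi
import Groth.Agent.Lib.Helper3.OmU2

set_option autoImplicit false
universe u
open AlgebraicGeometry CategoryTheory TopologicalSpace Opposite CategoryTheory.Limits TensorProduct
open Groth.Agent.LD.QC

namespace Groth.Agent.H3.Om

/-- **existence of the conormal-to-differentials map** `C_{Z/X} → i^* Ω'` attached to a derivation. -/
theorem exists_isConormalDiff {Z X Y : Scheme.{u}} (i : Z ⟶ X) {f : X ⟶ Y} {Ω' : X.Modules}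
    (d : OmegaSh.Der f Ω') :
    ∃ φ : Omega.conormal i ⟶ (Scheme.Modules.pullback i).obj Ω', OmegaSh.IsConormalDiff i d φ := by
  let G := Scheme.Modules.pushforward i
  let N := (Scheme.Modules.pullback i).obj Ω'
  let ρfun : ∀ U : X.Opens, Γ(ClSub.idealMod i.ker, U) →+ Γ(G.obj N, U) := fun U =>
    ((OmegaSh.pullSect i Ω' U).hom).comp ((d.app U).comp (OmegaSh.idealSect i.ker U))
  have hρfun : ∀ (U : X.Opens) (s : Γ(ClSub.idealMod i.ker, U)),
      ρfun U s = OmegaSh.pullSect i Ω' U (d.app U (OmegaSh.idealSect i.ker U s)) := fun U s => rfl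
  have hnat : ∀ {U V : X.Opens} (e : V ≤ U) (s : Γ(ClSub.idealMod i.ker, U)),
      ρfun V ((ClSub.idealMod i.ker).presheaf.map (homOfLE e).op s) =
        (G.obj N).presheaf.map (homOfLE e).op (ρfun U s) := by
    intro U V e s
    rw [hρfun, hρfun, idealSect_res, Der.app_map, OmegaSh.pullSect_map]
    rfl
  let ρpre : (ClSub.idealMod i.ker).presheaf ⟶ (G.obj N).presheaf :=
    { app := fun U => AddCommGrpCat.ofHom (ρfun U.unop)
      naturality := fun U V j => by
        ext s
        have hj : j = (homOfLE (leOfHom j.unop)).op := Subsingleton.elim _ _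
        rw [hj]
        exact hnat (leOfHom j.unop) s }
  have hlin : ∀ (U : X.Opens) (a : Γ(X, U)) (s : Γ(ClSub.idealMod i.ker, U)),
      ρfun U (a • s) = a • ρfun U s := by
    intro U a s
    rw [hρfun, hρfun, idealSect_smul, Der.app_mul, map_add, OmegaSh.pullSect_smul,
      OmegaSh.pullSect_smul, app_idealSect_eq_zero, zero_smul, add_zero]
    rfl
  let ρ : ClSub.idealMod i.ker ⟶ G.obj N :=
    ⟨PresheafOfModules.homMk ρpre (fun U a s => hlin U.unop a s)⟩
  have hρ : ∀ (U : X.Opens) (s : Γ(ClSub.idealMod i.ker, U)), ρ.app U s = ρfun U s :=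
    fun U s => rfl
  refine ⟨((Scheme.Modules.pullbackPushforwardAdjunction i).homEquiv _ _).symm ρ, fun U s => ?_⟩
  have h1 : ρ = (Scheme.Modules.pullbackPushforwardAdjunction i).unit.app (ClSub.idealMod i.ker) ≫
        (Scheme.Modules.pushforward i).map
          (((Scheme.Modules.pullbackPushforwardAdjunction i).homEquiv _ _).symm ρ) :=
    ((Equiv.apply_symm_apply _ ρ).symm).trans (Adjunction.homEquiv_unit _ _ _ _)
  have h2 := congr($(h1).app U s)
  rw [hρ, hρfun] at h2
  exact h2.symm

end Groth.Agent.H3.Om
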