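import Mathlib
import Groth.Prelude.Def_Omega3
import Groth.Agent.Lib.Helper3.OmApi
import Groth.Agent.Lib.Helper3.OmBase

set_option autoImplicit false
universe u
open AlgebraicGeometry CategoryTheory TopologicalSpace Opposite CategoryTheory.Limits

namespace Groth.Agent.H3.Om

variable {X Y : Scheme.{u}}

/-- vanishing condition transported along an equality of morphisms -/
theorem Der.app_comp_of_eq {f g : X ⟶ Y} (hfg : f = g) {F : X.Modules} (E : OmegaSh.Der f F)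
    (V : Y.Opens) (a : Γ(Y, V)) : E.app (g ⁻¹ᵁ V) (g.app V a) = 0 := by
  subst hfg
  exact Der.app_comp E V a

/-- the derivation `s ↦ d' (h♯ s)` of `O_X` into `h_* Ω'` attached to a commutative square -/
noncomputable def Der.pushSq {X' S S' : Scheme.{u}} {f : X ⟶ S} {f' : X' ⟶ S'} (h : X' ⟶ X) (b : S' ⟶ S)
    (hsq : f' ≫ b = h ≫ f) {Ω' : X'.Modules} (d' : OmegaSh.Der f' Ω') :
    OmegaSh.Der f ((Scheme.Modules.pushforward h).obj Ω') :=
  Der.push h (Der.changeBase d' (h ≫ f) (fun V a => by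
    have h1 : ∀ (V : S.Opens) (a : Γ(S, V)),
        d'.app ((f' ≫ b) ⁻¹ᵁ V) ((f' ≫ b).app V a) = 0 := fun V a => Der.app_comp_of_comp f' b d' V a
    have E : OmegaSh.Der (f' ≫ b) Ω' := Der.changeBase d' (f' ≫ b) h1
    exact Der.app_comp_of_eq hsq (Der.changeBase d' (f' ≫ b) h1) V a))

theorem Der.pushSq_app {X' S S' : Scheme.{u}} {f : X ⟶ S} {f' : X' ⟶ S'} (h : X' ⟶ X) (b : S' ⟶ S)
    (hsq : f' ≫ b = h ≫ f) {Ω' : X'.Modules} (d' : OmegaSh.Der f' Ω') (U : X.Opens) (s : Γ(X, U)) :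
    (Der.pushSq h b hsq d').app U s = d'.app (h ⁻¹ᵁ U) (h.app U s) := rfl

/-- `IsDiffCompat` in adjoint form -/
theorem isDiffCompat_iff {X' S S' : Scheme.{u}} {f : X ⟶ S} {f' : X' ⟶ S'} (h : X' ⟶ X) (b : S' ⟶ S)
    (hsq : f' ≫ b = h ≫ f) {Ω : X.Modules} (d : OmegaSh.Der f Ω) {Ω' : X'.Modules}
    (d' : OmegaSh.Der f' Ω') (c : (Scheme.Modules.pullback h).obj Ω ⟶ Ω') :
    OmegaSh.IsDiffCompat h d d' c ↔
      d.postcomp (((Scheme.Modules.pullbackPushforwardAdjunction h).homEquiv Ω Ω') c).val =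
        Der.pushSq h b hsq d' := by
  constructor
  · intro hc
    apply Der.ext'
    intro U s
    rw [Der.postcomp_app, Der.pushSq_app, ← hc U s, Adjunction.homEquiv_unit]
    rfl
  · intro hc U s
    have := congrArg (fun D => OmegaSh.Der.app D U s) hc
    simp only [Der.postcomp_app, Der.pushSq_app] at this
    rw [← this, Adjunction.homEquiv_unit]
    rfl

/-- S9370: existence and uniqueness of the canonical map `h^* Ω_{X/S} → Ω_{X'/S'}`. -/
theorem existsUnique_isDiffCompat {X' S S' : Scheme.{u}} {f : X ⟶ S} {f' : X' ⟶ S'} (h : X' ⟶ X)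
    (b : S' ⟶ S) (hsq : f' ≫ b = h ≫ f) {Ω : X.Modules} {d : OmegaSh.Der f Ω}
    (hd : OmegaSh.IsUniversal d) {Ω' : X'.Modules} (d' : OmegaSh.Der f' Ω') :
    ∃! c : (Scheme.Modules.pullback h).obj Ω ⟶ Ω', OmegaSh.IsDiffCompat h d d' c := by
  obtain ⟨α, hα, huniq⟩ := hd _ (Der.pushSq h b hsq d')
  refine ⟨((Scheme.Modules.pullbackPushforwardAdjunction h).homEquiv Ω Ω').symm α, ?_, ?_⟩
  · show OmegaSh.IsDiffCompat h d d' _
    rw [isDiffCompat_iff h b hsq, Equiv.apply_symm_apply]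
    exact hα
  · intro c hc
    replace hc : OmegaSh.IsDiffCompat h d d' c := hc
    rw [isDiffCompat_iff h b hsq] at hc
    rw [← huniq _ hc, Equiv.symm_apply_apply]

end Groth.Agent.H3.Om
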