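import Mathlib
import Groth.Prelude.Def_Omega3
import Groth.Agent.Lib.Helper3.OmSeq1
import Groth.Agent.Lib.Lead.QC.BiprodSec
import Groth.Agent.Lib.Lead.QC.EpiLocal

set_option autoImplicit false
universe u
open AlgebraicGeometry CategoryTheory TopologicalSpace Opposite CategoryTheory.Limits TensorProduct

namespace Groth.Agent.H3.Om

variable {X : Scheme.{u}}

/-- surjectivity on a basis gives an epimorphism -/
theorem epi_of_surjective_basis {M N : X.Modules} (p : M ⟶ N) (B : Set X.Opens)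
    (hB : Opens.IsBasis B) (h : ∀ V ∈ B, Function.Surjective (p.app V)) : Epi p := by
  apply Groth.Agent.LD.QC.epi_of_local_lift
  intro N' t x hxN
  obtain ⟨U, hUB, hxU, hUN⟩ := Opens.isBasis_iff_nbhd.1 hB hxN
  obtain ⟨s, hs⟩ := h U hUB (N.presheaf.map (homOfLE hUN).op t)
  exact ⟨U, hUN, hxU, s, hs⟩

/-- exactness checked on a basis -/
theorem exact_of_basis {A₁ A₂ A₃ : X.Modules} (f : A₁ ⟶ A₂) (g : A₂ ⟶ A₃) (B : Set X.Opens)
    (hB : Opens.IsBasis B)
    (h0 : ∀ V ∈ B, ∀ t : Γ(A₁, V), g.app V (f.app V t) = 0)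
    (hex : ∀ V ∈ B, ∀ m : Γ(A₂, V), g.app V m = 0 → ∃ t : Γ(A₁, V), f.app V t = m) :
    ∃ w : f ≫ g = 0, (ShortComplex.mk f g w).Exact := by
  have w : f ≫ g = 0 := by
    apply hom_ext_basis _ _ B hB
    intro U hUB s
    rw [Scheme.Modules.Hom.comp_app, ConcreteCategory.comp_apply, h0 U hUB]
    rfl
  refine ⟨w, ?_⟩
  apply Groth.Agent.LD.QC.exact_of_local
  intro N t ht x hxN
  obtain ⟨U, hUB, hxU, hUN⟩ := Opens.isBasis_iff_nbhd.1 hB hxN
  have ht0 : g.app N t = 0 := ht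
  have e := Groth.Agent.LD.QC.app_res g hUN t
  have ht' : g.app U (A₂.presheaf.map (homOfLE hUN).op t) = 0 := by
    refine e.trans ?_
    rw [ht0, map_zero]
  obtain ⟨s, hs⟩ := hex U hUB _ ht'
  exact ⟨U, hUN, hxU, s, hs⟩

end Groth.Agent.H3.Om
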