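import Mathlib

set_option autoImplicit false
open TensorProduct KaehlerDifferential

namespace Groth.Agent.H3.Om

section
variable (R A B : Type*) [CommRing R] [CommRing A] [CommRing B]
  [Algebra R A] [Algebra A B]

/-- the map `B ⊗[A] I → B ⊗[A] Ω[A/R]`, `b ⊗ a ↦ b ⊗ D a`, for `I = ker (A → B)`. -/
noncomputable def kerPsi : B ⊗[A] (RingHom.ker (algebraMap A B)) →ₗ[B] B ⊗[A] Ω[A⁄R] :=
  (KaehlerDifferential.kerToTensor R A B).liftBaseChange B

theorem kerPsi_tmul (b : B) (a : RingHom.ker (algebraMap A B)) :
    kerPsi R A B (b ⊗ₜ a) = b ⊗ₜ KaehlerDifferential.D R A (a : A) := by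
  unfold kerPsi
  rw [LinearMap.liftBaseChange_tmul, KaehlerDifferential.kerToTensor_apply,
    TensorProduct.smul_tmul', smul_eq_mul, mul_one]

variable {A B} in
theorem exists_one_tmul (hs : Function.Surjective (algebraMap A B))
    (x : B ⊗[A] (RingHom.ker (algebraMap A B))) :
    ∃ a : RingHom.ker (algebraMap A B), x = (1 : B) ⊗ₜ a := by
  induction x with
  | zero => exact ⟨0, (TensorProduct.tmul_zero _ _).symm⟩
  | add x y hx hy =>
    obtain ⟨a, rfl⟩ := hx
    obtain ⟨a', rfl⟩ := hy
    exact ⟨a + a', (TensorProduct.tmul_add _ _ _).symm⟩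
  | tmul b a =>
    obtain ⟨a₀, rfl⟩ := hs b
    refine ⟨a₀ • a, ?_⟩
    rw [← TensorProduct.smul_tmul, Algebra.smul_def, mul_one]

variable [Algebra R B] [IsScalarTower R A B]

theorem mapBaseChange_kerPsi (x : B ⊗[A] (RingHom.ker (algebraMap A B))) :
    KaehlerDifferential.mapBaseChange R A B (kerPsi R A B x) = 0 := by
  induction x with
  | zero => rw [map_zero, map_zero]
  | add x y hx hy => rw [map_add, map_add, hx, hy, add_zero]
  | tmul b a =>
    rw [kerPsi_tmul, KaehlerDifferential.mapBaseChange_tmul, KaehlerDifferential.map_D,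
      RingHom.mem_ker.1 a.2, map_zero, smul_zero]

variable {A B} in
theorem exists_of_mapBaseChange_eq_zero (hs : Function.Surjective (algebraMap A B))
    (t : B ⊗[A] Ω[A⁄R]) (ht : KaehlerDifferential.mapBaseChange R A B t = 0) :
    ∃ a : RingHom.ker (algebraMap A B), t = kerPsi R A B ((1 : B) ⊗ₜ a) := by
  obtain ⟨y, rfl⟩ := (KaehlerDifferential.exact_kerCotangentToTensor_mapBaseChange R A B hs t).1 ht
  obtain ⟨a, rfl⟩ := Ideal.toCotangent_surjective _ y
  exact ⟨a, by rw [kerPsi_tmul, KaehlerDifferential.kerCotangentToTensor_toCotangent]⟩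

variable {A B} in
theorem kerPsi_injective_of_injective (hs : Function.Surjective (algebraMap A B))
    (hinj : Function.Injective (KaehlerDifferential.kerCotangentToTensor R A B)) :
    Function.Injective (kerPsi R A B) := by
  rw [injective_iff_map_eq_zero]
  intro x hx
  obtain ⟨a, rfl⟩ := exists_one_tmul hs x
  rw [kerPsi_tmul, ← KaehlerDifferential.kerCotangentToTensor_toCotangent] at hx
  have h0 : Ideal.toCotangent _ a = 0 := hinj (hx.trans (map_zero _).symm)
  have hmem : a ∈ (RingHom.ker (algebraMap A B) • ⊤ :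
      Submodule A (RingHom.ker (algebraMap A B))) :=
    (Submodule.Quotient.mk_eq_zero _).1 h0
  refine Submodule.smul_induction_on hmem ?_ ?_
  · intro r hr n _
    rw [← TensorProduct.smul_tmul, Algebra.smul_def, RingHom.mem_ker.1 hr, zero_mul,
      TensorProduct.zero_tmul]
  · intro x y hx hy
    rw [TensorProduct.tmul_add, hx, hy, add_zero]

end

section
universe u
variable (R A B : Type u) [CommRing R] [CommRing A] [CommRing B]
  [Algebra R A] [Algebra A B] [Algebra R B] [IsScalarTower R A B]

variable {A B} in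
/-- if `B` is formally smooth over `R` then `I/I² → B ⊗ Ω[A/R]` is (split) injective, for any
`R`-algebra `A` surjecting onto `B`. -/
theorem kerCotangentToTensor_injective_of_formallySmooth [Algebra.FormallySmooth R B]
    (hs : Function.Surjective (algebraMap A B)) :
    Function.Injective (KaehlerDifferential.kerCotangentToTensor R A B) := by
  have hsurj : Function.Surjective (IsScalarTower.toAlgHom R A B).kerSquareLift := by
    intro b
    obtain ⟨a, rfl⟩ := hs b
    exact ⟨Ideal.Quotient.mk _ a, rfl⟩
  have hnil : IsNilpotent (RingHom.ker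
      (IsScalarTower.toAlgHom R A B).kerSquareLift.toRingHom) := by
    refine ⟨2, ?_⟩
    rw [(IsScalarTower.toAlgHom R A B).ker_kerSquareLift]
    exact Ideal.cotangentIdeal_square _
  let g := Algebra.FormallySmooth.liftOfSurjective (AlgHom.id R B)
    (IsScalarTower.toAlgHom R A B).kerSquareLift hsurj hnil
  have hg : (IsScalarTower.toAlgHom R A B).kerSquareLift.comp g = AlgHom.id R B :=
    Algebra.FormallySmooth.comp_liftOfSurjective _ _ hsurj hnil
  obtain ⟨l, hl⟩ := (retractionKerCotangentToTensorEquivSection (R := R) hs).symm ⟨g, hg⟩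
  intro x y hxy
  have := congrArg l hxy
  rw [← LinearMap.comp_apply, ← LinearMap.comp_apply, hl] at this
  exact this

variable {A B} in
theorem kerPsi_injective_of_formallySmooth [Algebra.FormallySmooth R B]
    (hs : Function.Surjective (algebraMap A B)) : Function.Injective (kerPsi R A B) :=
  kerPsi_injective_of_injective R hs (kerCotangentToTensor_injective_of_formallySmooth R hs)

end

end Groth.Agent.H3.Om
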