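import Mathlib
import Groth.Prelude.Def_Omega3
import Groth.Agent.Lib.Helper3.OmCon
import Groth.Agent.Lib.Helper3.OmConRing

set_option autoImplicit false
universe u
open AlgebraicGeometry CategoryTheory TopologicalSpace Opposite CategoryTheory.Limits TensorProduct

namespace Groth.Agent.H3.Om

/-- sections of the pullback of a sheaf of differentials on a chart (no compatibility map needed) -/
theorem pullback_chart {X₁ S₁ X₂ : Scheme.{u}} {p₁ : X₁ ⟶ S₁} (h : X₂ ⟶ X₁)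
    {Ω₁ : X₁.Modules} {d₁ : OmegaSh.Der p₁ Ω₁} (hd₁ : OmegaSh.IsUniversal d₁)
    {U₁ : X₁.Opens} (hU₁ : IsAffineOpen U₁) {W₁ : S₁.Opens} (hW₁ : IsAffineOpen W₁)
    (e₁ : U₁ ≤ p₁ ⁻¹ᵁ W₁) {U₂ : X₂.Opens} (hU₂ : IsAffineOpen U₂) (eh : U₂ ≤ h ⁻¹ᵁ U₁) :
    letI := (p₁.appLE W₁ U₁ e₁).hom.toAlgebra
    letI := (h.appLE U₁ U₂ eh).hom.toAlgebra
    ∃ (Φ : Γ(X₂, U₂) ⊗[Γ(X₁, U₁)] Ω[Γ(X₁, U₁)⁄Γ(S₁, W₁)] ≃ₗ[Γ(X₂, U₂)]
        Γ((Scheme.Modules.pullback h).obj Ω₁, U₂)),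
      ∀ (b : Γ(X₂, U₂)) (s : Γ(X₁, U₁)),
        Φ (b ⊗ₜ KaehlerDifferential.D Γ(S₁, W₁) Γ(X₁, U₁) s) =
          b • Groth.Agent.LD.QC.pbSec h Ω₁ eh (d₁.app U₁ s) := by
  letI := (p₁.appLE W₁ U₁ e₁).hom.toAlgebra
  letI := (h.appLE U₁ U₂ eh).hom.toAlgebra
  haveI := isQuasicoherent_of_isUniversal hd₁
  obtain ⟨ε₁, hε₁⟩ := exists_linearEquiv_sections hd₁ hU₁ hW₁ e₁
  letI := Groth.Agent.LD.QC.pbModule h Ω₁ eh
  haveI := Groth.Agent.LD.QC.pbModule_isScalarTower h Ω₁ eh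
  have hbc := Groth.Agent.LD.QC.isBaseChange_pbSec h hU₂ hU₁ eh Ω₁
  refine ⟨(TensorProduct.AlgebraTensorModule.congr (LinearEquiv.refl Γ(X₂, U₂) Γ(X₂, U₂)) ε₁) ≪≫ₗ
      hbc.equiv, fun b s => ?_⟩
  change hbc.equiv (b ⊗ₜ ε₁ _) = _
  rw [IsBaseChange.equiv_tmul, hε₁]
  rfl

/-- two linear maps out of `B ⊗ Ω[A/R]` agreeing on the `b ⊗ D s` are equal -/
theorem tensorKaehler_ext {R A B M : Type*} [CommRing R] [CommRing A] [CommRing B]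
    [Algebra R A] [Algebra A B] [AddCommGroup M] [Module B M]
    (Φ Φ' : B ⊗[A] Ω[A⁄R] →ₗ[B] M)
    (h : ∀ (b : B) (s : A), Φ (b ⊗ₜ KaehlerDifferential.D R A s) =
      Φ' (b ⊗ₜ KaehlerDifferential.D R A s)) : Φ = Φ' := by
  letI : Module A M := Module.compHom M (algebraMap A B)
  haveI : IsScalarTower A B M := ⟨fun a b m => by
    change (a • b) • m = algebraMap A B a • (b • m)
    rw [Algebra.smul_def, mul_smul]⟩
  apply LinearMap.ext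
  intro t
  induction t with
  | zero => rw [map_zero, map_zero]
  | add t t' h1 h2 => rw [map_add, map_add, h1, h2]
  | tmul b ω =>
    have hω : ω ∈ Submodule.span A (Set.range (KaehlerDifferential.D R A)) := by
      rw [KaehlerDifferential.span_range_derivation]; trivial
    induction hω using Submodule.span_induction generalizing b with
    | mem ω hω => obtain ⟨s, rfl⟩ := hω; exact h b s
    | zero => rw [TensorProduct.tmul_zero, map_zero, map_zero]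
    | add ω ω' _ _ h1 h2 => rw [TensorProduct.tmul_add, map_add, map_add, h1, h2]
    | smul a ω _ h1 =>
      have e : b ⊗ₜ[A] (a • ω) = (b * algebraMap A B a) ⊗ₜ[A] ω := by
        rw [← TensorProduct.smul_tmul, Algebra.smul_def, mul_comm]
      rw [e, h1]

/-- **chart formula for a conormal differential map** `φ : C_{Z/X} → i^*Ω'`. -/
theorem conormalDiff_chart {Z X Y : Scheme.{u}} (i : Z ⟶ X) [IsImmersion i] [QuasiCompact i]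
    {f : X ⟶ Y} {Ω' : X.Modules} {d : OmegaSh.Der f Ω'}
    {φ : Omega.conormal i ⟶ (Scheme.Modules.pullback i).obj Ω'}
    (hφ : OmegaSh.IsConormalDiff i d φ)
    {U : X.Opens} (hU : IsAffineOpen U) (hle : U ≤ i.coborderRange) {W : Y.Opens}
    (eU : U ≤ f ⁻¹ᵁ W) :
    letI := (f.appLE W U eU).hom.toAlgebra
    letI := (i.appLE U (i ⁻¹ᵁ U) le_rfl).hom.toAlgebra
    Function.Surjective (algebraMap Γ(X, U) Γ(Z, i ⁻¹ᵁ U)) ∧
    ∃ (Ξ : Γ(Z, i ⁻¹ᵁ U) ⊗[Γ(X, U)] (RingHom.ker (algebraMap Γ(X, U) Γ(Z, i ⁻¹ᵁ U)))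
          ≃ₗ[Γ(Z, i ⁻¹ᵁ U)] Γ(Omega.conormal i, i ⁻¹ᵁ U)),
      ∀ (Φ : Γ(Z, i ⁻¹ᵁ U) ⊗[Γ(X, U)] Ω[Γ(X, U)⁄Γ(Y, W)] →ₗ[Γ(Z, i ⁻¹ᵁ U)]
          Γ((Scheme.Modules.pullback i).obj Ω', i ⁻¹ᵁ U)),
        (∀ (b : Γ(Z, i ⁻¹ᵁ U)) (s : Γ(X, U)),
          Φ (b ⊗ₜ KaehlerDifferential.D Γ(Y, W) Γ(X, U) s) =
            b • Groth.Agent.LD.QC.pbSec i Ω' (le_refl (i ⁻¹ᵁ U)) (d.app U s)) →
        ∀ x, φ.app (i ⁻¹ᵁ U) (Ξ x) = Φ (kerPsi Γ(Y, W) Γ(X, U) Γ(Z, i ⁻¹ᵁ U) x) := by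
  letI := (f.appLE W U eU).hom.toAlgebra
  letI := (i.appLE U (i ⁻¹ᵁ U) le_rfl).hom.toAlgebra
  obtain ⟨hs, σ, Ξ, hσ, hΞ⟩ := conormal_chart i hU hle
  refine ⟨hs, Ξ, fun Φ hΦ x => ?_⟩
  induction x with
  | zero => rw [map_zero, map_zero, map_zero, map_zero]
  | add x y hx hy => rw [map_add, map_add, hx, hy, map_add, map_add]
  | tmul b a =>
    obtain ⟨s, rfl⟩ := σ.surjective a
    rw [hΞ, Scheme.Modules.Hom.app_smul, hφ U s, kerPsi_tmul, hΦ, hσ, pbSec_le_rfl]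

end Groth.Agent.H3.Om
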