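import Mathlib
import Groth.Prelude.Def_Omega3
import Groth.Agent.Lib.Helper3.OmCon2
import Groth.Agent.Lib.Helper3.OmSm1

set_option autoImplicit false
universe u
open AlgebraicGeometry CategoryTheory TopologicalSpace Opposite CategoryTheory.Limits TensorProduct

namespace Groth.Agent.H3.Om

/-- good charts, refined: inside a given open of `Z` and a given open of `X`. -/
theorem exists_good_chart' {Z X : Scheme.{u}} (i : Z ⟶ X) [IsImmersion i] (z : Z) (N : Z.Opens)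
    (hz : z ∈ N) (M : X.Opens) (hzM : i z ∈ M) :
    ∃ U : X.Opens, IsAffineOpen U ∧ U ≤ i.coborderRange ∧ U ≤ M ∧ z ∈ i ⁻¹ᵁ U ∧ i ⁻¹ᵁ U ≤ N := by
  obtain ⟨U₀, hU₀, hle₀, hz₀, hN₀⟩ := exists_good_chart i z N hz
  obtain ⟨_, ⟨U, hU : IsAffineOpen U, rfl⟩, hzU, hUle⟩ :=
    X.isBasis_affineOpens.exists_subset_of_mem_open
      (show i z ∈ ((U₀ ⊓ M : X.Opens) : Set X) from ⟨hz₀, hzM⟩) (U₀ ⊓ M).2
  exact ⟨U, hU, fun y hy => hle₀ (hUle hy).1, fun y hy => (hUle hy).2, hzU,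
    fun y hy => hN₀ (hUle hy).1⟩

/-- the basis of `Z` given by preimages of good charts over affine opens of the base -/
def conChartBasis {Z X Y : Scheme.{u}} (i : Z ⟶ X) [IsImmersion i] (f : X ⟶ Y) : Set Z.Opens :=
  {V | ∃ (U : X.Opens) (W : Y.Opens), IsAffineOpen U ∧ U ≤ i.coborderRange ∧ IsAffineOpen W ∧
    U ≤ f ⁻¹ᵁ W ∧ V = i ⁻¹ᵁ U}

theorem isBasis_conChartBasis {Z X Y : Scheme.{u}} (i : Z ⟶ X) [IsImmersion i] (f : X ⟶ Y) :
    Opens.IsBasis (conChartBasis i f) := by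
  rw [Opens.isBasis_iff_nbhd]
  intro N z hz
  obtain ⟨_, ⟨W, hW : IsAffineOpen W, rfl⟩, hxW, -⟩ :=
    Y.isBasis_affineOpens.exists_subset_of_mem_open (Set.mem_univ (f (i z))) isOpen_univ
  obtain ⟨U, hU, hle, hUM, hzU, hUN⟩ := exists_good_chart' i z N hz (f ⁻¹ᵁ W) hxW
  exact ⟨i ⁻¹ᵁ U, ⟨U, W, hU, hle, hW, hUM, rfl⟩, hzU, hUN⟩

/-- S5020: if `j ≫ f` is formally smooth, the conormal differential map is a monomorphism. -/
theorem mono_conormalDiff_of_formallySmooth {X' X Y : Scheme.{u}} (j : X' ⟶ X) [IsImmersion j]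
    [QuasiCompact j] (f : X ⟶ Y) (hf : MoreMor.IsFormallySmoothHom (j ≫ f))
    {Ω' : X.Modules} {d : OmegaSh.Der f Ω'} (hd : OmegaSh.IsUniversal d)
    {φ : Omega.conormal j ⟶ (Scheme.Modules.pullback j).obj Ω'}
    (hφ : OmegaSh.IsConormalDiff j d φ) : Mono φ := by
  apply Groth.Agent.H3.ZClosCover.mono_of_injective_basis φ (conChartBasis j f)
    (isBasis_conChartBasis j f)
  rintro V ⟨U, W, hU, hle, hW, eU, rfl⟩
  have hV := good_preimage_affine j hU hle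
  have eV : j ⁻¹ᵁ U ≤ (j ≫ f) ⁻¹ᵁ W := fun y hy => eU hy
  letI := (f.appLE W U eU).hom.toAlgebra
  letI := (j.appLE U (j ⁻¹ᵁ U) le_rfl).hom.toAlgebra
  letI := ((j ≫ f).appLE W (j ⁻¹ᵁ U) eV).hom.toAlgebra
  haveI : IsScalarTower Γ(Y, W) Γ(X, U) Γ(X', j ⁻¹ᵁ U) := by
    refine IsScalarTower.of_algebraMap_eq' ?_
    have := Scheme.Hom.appLE_comp_appLE j f W U (j ⁻¹ᵁ U) eU le_rfl
    exact congrArg CommRingCat.Hom.hom this.symm
  haveI : Algebra.FormallySmooth Γ(Y, W) Γ(X', j ⁻¹ᵁ U) := formallySmooth_appLE hf hV hW eV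
  obtain ⟨Φ, hΦ⟩ := pullback_chart j hd hU hW eU hV (le_refl (j ⁻¹ᵁ U))
  obtain ⟨hs, Ξ, hΞ⟩ := conormalDiff_chart j hφ hU hle eU
  have key := hΞ Φ.toLinearMap hΦ
  have hinj := kerPsi_injective_of_formallySmooth Γ(Y, W) hs
  intro t t' htt
  obtain ⟨x, rfl⟩ := Ξ.surjective t
  obtain ⟨x', rfl⟩ := Ξ.surjective t'
  rw [key, key] at htt
  rw [hinj (Φ.injective htt)]

end Groth.Agent.H3.Om
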