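import Mathlib
import Groth.Prelude.Def_Omega3
import Groth.Agent.Lib.Helper3.OmCon3
import Groth.Agent.Lib.Helper3.OmBasis

set_option autoImplicit false
universe u
open AlgebraicGeometry CategoryTheory TopologicalSpace Opposite CategoryTheory.Limits TensorProduct

namespace Groth.Agent.H3.Om

/-- the chart data of the conormal sequence `C_{X/Y} → j^*Ω_{Y/Z} → Ω_{X/Z} → 0`. -/
theorem conormalSeq_chart {X Y Z : Scheme.{u}} (f : Y ⟶ Z) (j : X ⟶ Y) [IsImmersion j]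
    [QuasiCompact j]
    {ΩY : Y.Modules} {dY : OmegaSh.Der f ΩY} (hY : OmegaSh.IsUniversal dY)
    {ΩX : X.Modules} {dX : OmegaSh.Der (j ≫ f) ΩX} (hX : OmegaSh.IsUniversal dX)
    {φ : Omega.conormal j ⟶ (Scheme.Modules.pullback j).obj ΩY}
    (hφ : OmegaSh.IsConormalDiff j dY φ)
    {c : (Scheme.Modules.pullback j).obj ΩY ⟶ ΩX} (hc : OmegaSh.IsDiffCompat j dY dX c)
    {U : Y.Opens} (hU : IsAffineOpen U) (hle : U ≤ j.coborderRange) {W : Z.Opens}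
    (hW : IsAffineOpen W) (eU : U ≤ f ⁻¹ᵁ W) :
    (∀ t, c.app (j ⁻¹ᵁ U) (φ.app (j ⁻¹ᵁ U) t) = 0) ∧
    (∀ m, c.app (j ⁻¹ᵁ U) m = 0 → ∃ t, φ.app (j ⁻¹ᵁ U) t = m) ∧
    Function.Surjective (c.app (j ⁻¹ᵁ U)) := by
  have hV := good_preimage_affine j hU hle
  have eV : j ⁻¹ᵁ U ≤ (j ≫ f) ⁻¹ᵁ W := fun y hy => eU hy
  letI := (f.appLE W U eU).hom.toAlgebra
  letI := (j.appLE U (j ⁻¹ᵁ U) le_rfl).hom.toAlgebra
  letI := ((j ≫ f).appLE W (j ⁻¹ᵁ U) eV).hom.toAlgebra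
  haveI : IsScalarTower Γ(Z, W) Γ(Y, U) Γ(X, j ⁻¹ᵁ U) := by
    refine IsScalarTower.of_algebraMap_eq' ?_
    have := Scheme.Hom.appLE_comp_appLE j f W U (j ⁻¹ᵁ U) eU le_rfl
    exact congrArg CommRingCat.Hom.hom this.symm
  obtain ⟨Φ, hΦ, hΦc⟩ := sq_chart' hY hc hU hW eU hV (le_refl (j ⁻¹ᵁ U))
  obtain ⟨εX, hεX⟩ := exists_linearEquiv_sections hX hV hW eV
  obtain ⟨hs, Ξ, hΞ⟩ := conormalDiff_chart j hφ hU hle eU
  have key := hΞ Φ.toLinearMap hΦ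
  have hL := hΦc (εX.toLinearMap ∘ₗ KaehlerDifferential.mapBaseChange Γ(Z, W) Γ(Y, U)
    Γ(X, j ⁻¹ᵁ U)) (fun s => by
      rw [LinearMap.comp_apply, KaehlerDifferential.mapBaseChange_tmul, one_smul,
        KaehlerDifferential.map_D]
      exact hεX _)
  refine ⟨fun t => ?_, fun m hm => ?_, fun m => ?_⟩
  · obtain ⟨x, rfl⟩ := Ξ.surjective t
    rw [key]
    refine (hL _).trans ?_
    rw [LinearMap.comp_apply, mapBaseChange_kerPsi]
    exact map_zero _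
  · obtain ⟨t₀, rfl⟩ := Φ.surjective m
    have h1 := (hL t₀).symm.trans hm
    rw [LinearMap.comp_apply] at h1
    have h2 : KaehlerDifferential.mapBaseChange Γ(Z, W) Γ(Y, U) Γ(X, j ⁻¹ᵁ U) t₀ = 0 := by
      apply εX.injective
      rw [map_zero]
      exact h1
    obtain ⟨a, rfl⟩ := exists_of_mapBaseChange_eq_zero Γ(Z, W) hs t₀ h2
    exact ⟨Ξ ((1 : Γ(X, j ⁻¹ᵁ U)) ⊗ₜ a), key _⟩
  · obtain ⟨ω, rfl⟩ := εX.surjective m
    obtain ⟨t, rfl⟩ := KaehlerDifferential.mapBaseChange_surjective Γ(Z, W) Γ(Y, U)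
      Γ(X, j ⁻¹ᵁ U) hs ω
    exact ⟨Φ t, hL t⟩

/-- S5976: the conormal sequence `C_{X/Y} → j^*Ω_{Y/Z} → Ω_{X/Z} → 0` is exact. -/
theorem conormal_exact_sequence {X Y Z : Scheme.{u}} (f : Y ⟶ Z) (j : X ⟶ Y) [IsImmersion j]
    [QuasiCompact j]
    {ΩY : Y.Modules} {dY : OmegaSh.Der f ΩY} (hY : OmegaSh.IsUniversal dY)
    {ΩX : X.Modules} {dX : OmegaSh.Der (j ≫ f) ΩX} (hX : OmegaSh.IsUniversal dX)
    {φ : Omega.conormal j ⟶ (Scheme.Modules.pullback j).obj ΩY}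
    (hφ : OmegaSh.IsConormalDiff j dY φ)
    {c : (Scheme.Modules.pullback j).obj ΩY ⟶ ΩX} (hc : OmegaSh.IsDiffCompat j dY dX c) :
    Epi c ∧ ∃ w : φ ≫ c = 0, (ShortComplex.mk φ c w).Exact := by
  have chart : ∀ V ∈ conChartBasis j f, (∀ t, c.app V (φ.app V t) = 0) ∧
      (∀ m, c.app V m = 0 → ∃ t, φ.app V t = m) ∧ Function.Surjective (c.app V) := by
    rintro V ⟨U, W, hU, hle, hW, eU, rfl⟩
    exact conormalSeq_chart f j hY hX hφ hc hU hle hW eU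
  have hB := isBasis_conChartBasis j f
  exact ⟨epi_of_surjective_basis c _ hB (fun V hV => (chart V hV).2.2),
    exact_of_basis φ c _ hB (fun V hV => (chart V hV).1) (fun V hV => (chart V hV).2.1)⟩

end Groth.Agent.H3.Om
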