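import Mathlib
import Groth.Agent.Lib.Helper3.OmConRing

set_option autoImplicit false
open TensorProduct KaehlerDifferential

namespace Groth.Agent.H3.Om

section
variable (R : Type*) {A B : Type*} [CommRing R] [CommRing A] [CommRing B]
  [Algebra R A] [Algebra A B] [Algebra R B] [IsScalarTower R A B]

/-- if `A → B` has an `R`-algebra section then `I/I² → B ⊗ Ω[A/R]` is (split) injective. -/
theorem kerCotangentToTensor_injective_of_section (s : B →ₐ[R] A)
    (hs : ∀ b, algebraMap A B (s b) = b) :
    Function.Injective (KaehlerDifferential.kerCotangentToTensor R A B) := by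
  have hsurj : Function.Surjective (algebraMap A B) := fun b => ⟨s b, hs b⟩
  let g : B →ₐ[R] A ⧸ (RingHom.ker (IsScalarTower.toAlgHom R A B).toRingHom ^ 2) :=
    (Ideal.Quotient.mkₐ R _).comp s
  have hg : (IsScalarTower.toAlgHom R A B).kerSquareLift.comp g = AlgHom.id R B := by
    ext b
    exact hs b
  obtain ⟨l, hl⟩ := (retractionKerCotangentToTensorEquivSection (R := R) hsurj).symm ⟨g, hg⟩
  intro x y hxy
  have := congrArg l hxy
  rw [← LinearMap.comp_apply, ← LinearMap.comp_apply, hl] at this
  exact this

theorem kerPsi_injective_of_section (s : B →ₐ[R] A) (hs : ∀ b, algebraMap A B (s b) = b) :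
    Function.Injective (kerPsi R A B) :=
  kerPsi_injective_of_injective R (fun b => ⟨s b, hs b⟩)
    (kerCotangentToTensor_injective_of_section R s hs)

end

end Groth.Agent.H3.Om
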