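import Mathlib
import Groth.Prelude.Def_Omega3
import Groth.Agent.Lib.Helper3.OmCon4
import Groth.Agent.Lib.Helper3.OmConRing2

set_option autoImplicit false
universe u
open AlgebraicGeometry CategoryTheory TopologicalSpace Opposite CategoryTheory.Limits TensorProduct

namespace Groth.Agent.H3.Om

/-- charts adapted to a retraction `g` of an immersion `i`. -/
theorem exists_retract_chart {Z X S : Scheme.{u}} (f : X ⟶ S) (i : Z ⟶ X) [IsImmersion i]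
    (g : X ⟶ Z) (hgi : i ≫ g = 𝟙 Z) (z : Z) (N : Z.Opens) (hz : z ∈ N) :
    ∃ (U : X.Opens) (W : S.Opens), IsAffineOpen U ∧ U ≤ i.coborderRange ∧ IsAffineOpen W ∧
      U ≤ f ⁻¹ᵁ W ∧ U ≤ g ⁻¹ᵁ (i ⁻¹ᵁ U) ∧ z ∈ i ⁻¹ᵁ U ∧ i ⁻¹ᵁ U ≤ N := by
  have hgi' : ∀ y : Z, g (i y) = y := fun y => by
    have := congrArg (fun φ : Z ⟶ Z => φ y) hgi
    simp only [Scheme.Hom.comp_apply] at this
    exact this
  obtain ⟨_, ⟨W, hW : IsAffineOpen W, rfl⟩, hxW, -⟩ :=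
    S.isBasis_affineOpens.exists_subset_of_mem_open (Set.mem_univ (f (i z))) isOpen_univ
  obtain ⟨U₀, hU₀, hle₀, hUW₀, hzU₀, hUN₀⟩ := exists_good_chart' i z N hz (f ⁻¹ᵁ W) hxW
  have hz1 : i z ∈ U₀ ⊓ g ⁻¹ᵁ (i ⁻¹ᵁ U₀) := ⟨hzU₀, by
    change i (g (i z)) ∈ U₀
    rw [hgi']; exact hzU₀⟩
  obtain ⟨h, hh1, hh2⟩ := hU₀.exists_basicOpen_le (V := U₀ ⊓ g ⁻¹ᵁ (i ⁻¹ᵁ U₀)) ⟨i z, hz1⟩ hzU₀
  have hU₁ : IsAffineOpen (X.basicOpen h) := hU₀.basicOpen h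
  have e₁ : X.basicOpen h ≤ g ⁻¹ᵁ (i ⁻¹ᵁ U₀) := fun y hy => (hh1 hy).2
  -- the second basic open
  let h₂ : Γ(X, X.basicOpen h) := g.appLE (i ⁻¹ᵁ U₀) (X.basicOpen h) e₁ (i.app U₀ h)
  have hmem : ∀ x : X, x ∈ X.basicOpen h₂ ↔ x ∈ X.basicOpen h ∧ g x ∈ i ⁻¹ᵁ (X.basicOpen h) := by
    intro x
    have e2 : X.basicOpen h₂ = X.basicOpen h ⊓ g ⁻¹ᵁ (i ⁻¹ᵁ (X.basicOpen h)) := by
      change X.basicOpen (X.presheaf.map (homOfLE e₁).op (g.app (i ⁻¹ᵁ U₀) (i.app U₀ h))) = _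
      rw [Scheme.basicOpen_res, ← Scheme.preimage_basicOpen, ← Scheme.preimage_basicOpen]
    rw [e2]
    rfl
  refine ⟨X.basicOpen h₂, W, hU₁.basicOpen h₂, ?_, hW, ?_, ?_, ?_, ?_⟩
  · intro y hy
    exact hle₀ (hh1 ((hmem y).1 hy).1).1
  · intro y hy
    exact hUW₀ (hh1 ((hmem y).1 hy).1).1
  · intro y hy
    obtain ⟨hy1, hy2⟩ := (hmem y).1 hy
    change i (g y) ∈ X.basicOpen h₂
    rw [hmem]
    refine ⟨hy2, ?_⟩
    rw [hgi']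
    exact hy2
  · change i z ∈ X.basicOpen h₂
    rw [hmem]
    refine ⟨hh2, ?_⟩
    rw [hgi']
    exact hh2
  · intro y hy
    have : i y ∈ X.basicOpen h₂ := hy
    exact hUN₀ (hh1 ((hmem _).1 this).1).1

end Groth.Agent.H3.Om

namespace Groth.Agent.H3.Om

theorem appLE_eq_id_of_eq_id {Z : Scheme.{u}} (φ : Z ⟶ Z) (h : φ = 𝟙 Z) (V : Z.Opens)
    (e : V ≤ φ ⁻¹ᵁ V) : φ.appLE V V e = 𝟙 _ := by
  subst h
  rw [Scheme.Hom.appLE, Scheme.Hom.id_app]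
  exact (Category.id_comp _).trans (Z.presheaf.map_id _)

theorem appLE_congr_of_eq {X Y : Scheme.{u}} {φ ψ : X ⟶ Y} (h : φ = ψ) (W : Y.Opens)
    (U : X.Opens) (e : U ≤ φ ⁻¹ᵁ W) (e' : U ≤ ψ ⁻¹ᵁ W) : φ.appLE W U e = ψ.appLE W U e' := by
  subst h
  rfl

/-- on a chart adapted to a retraction, the conormal differential map is injective -/
theorem conormalDiff_app_injective_of_retract {Z X S : Scheme.{u}} (f : X ⟶ S) (i : Z ⟶ X)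
    [IsImmersion i] [QuasiCompact i] (g : X ⟶ Z) (hgi : i ≫ g = 𝟙 Z) (hgS : g ≫ i ≫ f = f)
    {ΩX : X.Modules} {dX : OmegaSh.Der f ΩX} (hX : OmegaSh.IsUniversal dX)
    {φ : Omega.conormal i ⟶ (Scheme.Modules.pullback i).obj ΩX}
    (hφ : OmegaSh.IsConormalDiff i dX φ)
    {U : X.Opens} (hU : IsAffineOpen U) (hle : U ≤ i.coborderRange) {W : S.Opens}
    (hW : IsAffineOpen W) (eU : U ≤ f ⁻¹ᵁ W) (eg : U ≤ g ⁻¹ᵁ (i ⁻¹ᵁ U)) :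
    Function.Injective (φ.app (i ⁻¹ᵁ U)) := by
  have hV := good_preimage_affine i hU hle
  have eV : i ⁻¹ᵁ U ≤ (i ≫ f) ⁻¹ᵁ W := fun y hy => eU hy
  letI := (f.appLE W U eU).hom.toAlgebra
  letI := (i.appLE U (i ⁻¹ᵁ U) le_rfl).hom.toAlgebra
  letI := ((i ≫ f).appLE W (i ⁻¹ᵁ U) eV).hom.toAlgebra
  haveI : IsScalarTower Γ(S, W) Γ(X, U) Γ(Z, i ⁻¹ᵁ U) := by
    refine IsScalarTower.of_algebraMap_eq' ?_
    have := Scheme.Hom.appLE_comp_appLE i f W U (i ⁻¹ᵁ U) eU le_rfl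
    exact congrArg CommRingCat.Hom.hom this.symm
  -- the ring section
  have h1 : g.appLE (i ⁻¹ᵁ U) U eg ≫ i.appLE U (i ⁻¹ᵁ U) le_rfl = 𝟙 _ := by
    rw [Scheme.Hom.appLE_comp_appLE]
    exact appLE_eq_id_of_eq_id _ hgi _ _
  have h2 : (i ≫ f).appLE W (i ⁻¹ᵁ U) eV ≫ g.appLE (i ⁻¹ᵁ U) U eg = f.appLE W U eU := by
    rw [Scheme.Hom.appLE_comp_appLE]
    exact appLE_congr_of_eq hgS _ _ _ _
  let s : Γ(Z, i ⁻¹ᵁ U) →ₐ[Γ(S, W)] Γ(X, U) :=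
    { (g.appLE (i ⁻¹ᵁ U) U eg).hom with
      commutes' := fun r => congrArg (fun ψ => ψ.hom r) h2 }
  have hs : ∀ b, algebraMap Γ(X, U) Γ(Z, i ⁻¹ᵁ U) (s b) = b := fun b =>
    congrArg (fun ψ => ψ.hom b) h1
  obtain ⟨Φ, hΦ⟩ := pullback_chart i hX hU hW eU hV (le_refl (i ⁻¹ᵁ U))
  obtain ⟨-, Ξ, hΞ⟩ := conormalDiff_chart i hφ hU hle eU
  have key := hΞ Φ.toLinearMap hΦ
  have hinj := kerPsi_injective_of_section Γ(S, W) s hs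
  intro t t' htt
  obtain ⟨x, rfl⟩ := Ξ.surjective t
  obtain ⟨x', rfl⟩ := Ξ.surjective t'
  rw [key, key] at htt
  rw [hinj (Φ.injective htt)]

/-- an immersion with a retraction: the conormal differential map is a monomorphism -/
theorem mono_conormalDiff_of_retract {Z X S : Scheme.{u}} (f : X ⟶ S) (i : Z ⟶ X)
    [IsImmersion i] [QuasiCompact i] (g : X ⟶ Z) (hgi : i ≫ g = 𝟙 Z) (hgS : g ≫ i ≫ f = f)
    {ΩX : X.Modules} {dX : OmegaSh.Der f ΩX} (hX : OmegaSh.IsUniversal dX)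
    {φ : Omega.conormal i ⟶ (Scheme.Modules.pullback i).obj ΩX}
    (hφ : OmegaSh.IsConormalDiff i dX φ) : Mono φ := by
  apply Groth.Agent.H3.ZClosCover.mono_of_injective_basis φ
    {V | ∃ (U : X.Opens) (W : S.Opens), IsAffineOpen U ∧ U ≤ i.coborderRange ∧ IsAffineOpen W ∧
      U ≤ f ⁻¹ᵁ W ∧ U ≤ g ⁻¹ᵁ (i ⁻¹ᵁ U) ∧ V = i ⁻¹ᵁ U}
  · rw [Opens.isBasis_iff_nbhd]
    intro N z hz
    obtain ⟨U, W, hU, hle, hW, eU, eg, hzU, hUN⟩ := exists_retract_chart f i g hgi z N hz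
    exact ⟨i ⁻¹ᵁ U, ⟨U, W, hU, hle, hW, eU, eg, rfl⟩, hzU, hUN⟩
  · rintro V ⟨U, W, hU, hle, hW, eU, eg, rfl⟩
    exact conormalDiff_app_injective_of_retract f i g hgi hgS hX hφ hU hle hW eU eg

end Groth.Agent.H3.Om
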