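import Mathlib
import Groth.Prelude.Def_Omega4
import Groth.Agent.Lib.Helper3.OmU2
import Groth.Agent.Lib.Helper3.OmApi
import Groth.Agent.Lib.Helper3.OmSeq1

set_option autoImplicit false
universe u
open AlgebraicGeometry CategoryTheory TopologicalSpace Opposite CategoryTheory.Limits TensorProduct

namespace Groth.Agent.H3.Om

open Groth.Agent.LD.QC Groth.Agent.H5.Lim

variable {X Y : Scheme.{u}} (f : X ⟶ Y) [QuasiSeparated f]

theorem dOmega_app (U : X.Opens) (s : Γ(X, U)) :
    (OmegaSh.dOmega f).app U s = OmegaSh.dSect f U s := rfl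

theorem dSect_res {U V : X.Opens} (e : V ≤ U) (s : Γ(X, U)) :
    (Omega.sheaf f).presheaf.map (homOfLE e).op (OmegaSh.dSect f U s) =
      OmegaSh.dSect f V (X.presheaf.map (homOfLE e).op s) := (OmegaSh.dSect_map f e s).symm

theorem Der.app_appLE {F : X.Modules} (D : OmegaSh.Der f F) {U : X.Opens} {W : Y.Opens}
    (eU : U ≤ f ⁻¹ᵁ W) (a : Γ(Y, W)) : D.app U ((f.appLE W U eU).hom a) = 0 := by
  have h : (f.appLE W U eU).hom a = X.presheaf.map (homOfLE eU).op (f.app W a) := rfl
  rw [h, Der.app_map, Der.app_comp, map_zero]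

/-- the chart-level lift of a derivation through `d`. -/
theorem exists_chart_lift {F : X.Modules} (D : OmegaSh.Der f F) {U : X.Opens}
    (hU : IsAffineOpen U) {W : Y.Opens} (hW : IsAffineOpen W) (eU : U ≤ f ⁻¹ᵁ W) :
    ∃ α : Γ(Omega.sheaf f, U) →ₗ[Γ(X, U)] Γ(F, U),
      ∀ a : Γ(X, U), α (OmegaSh.dSect f U a) = D.app U a := by
  have hN := isAffineOpen_diagNbhd f hU hW eU
  have hpo := isPushout_diagNbhd f hU hW eU
  obtain ⟨Dt, hDt1, hDt2, hDt3⟩ := exists_diagDer hpo
    ((pullback.diagonal f).appLE (OmegaSh.diagNbhd f U) U (OmegaSh.le_preimage_diagNbhd f U))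
    (fst_appLE_diag f U) (snd_appLE_diag f U) (D.app U) (Der.app_mul D U)
    (fun a => Der.app_appLE f D eU a)
  let ν : Γ(ClSub.idealMod (pullback.diagonal f).ker, OmegaSh.diagNbhd f U) →+ Γ(F, U) :=
    Dt.comp (OmegaSh.idealSect (pullback.diagonal f).ker (OmegaSh.diagNbhd f U))
  have hν : ∀ (r : Γ(pullback f f, OmegaSh.diagNbhd f U))
      (m : Γ(ClSub.idealMod (pullback.diagonal f).ker, OmegaSh.diagNbhd f U)),
      ν (r • m) = ((pullback.diagonal f).appLE (OmegaSh.diagNbhd f U) U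
        (OmegaSh.le_preimage_diagNbhd f U)).hom r • ν m := by
    intro r m
    change Dt (OmegaSh.idealSect _ _ (r • m)) = _ • Dt (OmegaSh.idealSect _ _ m)
    rw [idealSect_smul, hDt1 _ _ (diag_appLE_idealSect f U m)]
  letI : Algebra Γ(pullback f f, OmegaSh.diagNbhd f U) Γ(X, U) :=
    ((pullback.diagonal f).appLE (OmegaSh.diagNbhd f U) U
      (OmegaSh.le_preimage_diagNbhd f U)).hom.toAlgebra
  letI := pbModule (pullback.diagonal f) (ClSub.idealMod (pullback.diagonal f).ker)
    (OmegaSh.le_preimage_diagNbhd f U)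
  haveI : IsScalarTower Γ(pullback f f, OmegaSh.diagNbhd f U) Γ(X, U)
      Γ((Scheme.Modules.pullback (pullback.diagonal f)).obj
        (ClSub.idealMod (pullback.diagonal f).ker), U) :=
    pbModule_isScalarTower (pullback.diagonal f) (ClSub.idealMod (pullback.diagonal f).ker)
      (OmegaSh.le_preimage_diagNbhd f U)
  letI := srcModule (pullback.diagonal f) F U (OmegaSh.le_preimage_diagNbhd f U)
  haveI : IsScalarTower Γ(pullback f f, OmegaSh.diagNbhd f U) Γ(X, U) Γ(F, U) :=
    srcModule_isScalarTower (pullback.diagonal f) F U (OmegaSh.le_preimage_diagNbhd f U)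
  have hbc := isBaseChange_pbSec (pullback.diagonal f) hU hN (OmegaSh.le_preimage_diagNbhd f U)
    (ClSub.idealMod (pullback.diagonal f).ker)
  let g : Γ(ClSub.idealMod (pullback.diagonal f).ker, OmegaSh.diagNbhd f U)
      →ₗ[Γ(pullback f f, OmegaSh.diagNbhd f U)] Γ(F, U) :=
    { toFun := ν
      map_add' := map_add ν
      map_smul' := fun r m => hν r m }
  refine ⟨hbc.lift g, fun a => ?_⟩
  rw [dSect_eq_pbSec]
  have h1 := hbc.lift_eq g (OmegaSh.idealLift f U a)
  refine h1.trans ?_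
  change Dt (OmegaSh.idealSect _ _ (OmegaSh.idealLift f U a)) = _
  rw [idealSect_idealLift, OmegaSh.diagDiff, map_sub, hDt2, hDt3, sub_zero]

/-- **the differential `d_{X/Y}` into the conormal sheaf of the diagonal is universal.** -/
theorem isUniversal_dOmega : OmegaSh.IsUniversal (OmegaSh.dOmega f) := by
  intro F D
  let P : X.affineOpens → Prop := fun U => ∃ W : Y.Opens, IsAffineOpen W ∧ U.1 ≤ f ⁻¹ᵁ W
  have hPcov : ∀ x : X, ∃ U : X.affineOpens, P U ∧ x ∈ U.1 := by
    intro x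
    obtain ⟨W, hW, hxW, -⟩ := exists_isAffineOpen_mem_and_subset (x := f x) (U := ⊤) trivial
    obtain ⟨U, hU, hxU, hUle⟩ := exists_isAffineOpen_mem_and_subset (x := x) (U := f ⁻¹ᵁ W) hxW
    exact ⟨⟨U, hU⟩, ⟨W, hW, hUle⟩, hxU⟩
  have hPdown : ∀ U U' : X.affineOpens, P U → U'.1 ≤ U.1 → P U' := by
    rintro U U' ⟨W, hW, e⟩ h
    exact ⟨W, hW, h.trans e⟩
  have hE : ∀ U : {U : X.affineOpens // P U},
      ∃ α : Γ(Omega.sheaf f, U.1.1) →ₗ[Γ(X, U.1.1)] Γ(F, U.1.1),
        ∀ a : Γ(X, U.1.1), α (OmegaSh.dSect f U.1.1 a) = D.app U.1.1 a := fun U => by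
    obtain ⟨W, hW, e⟩ := U.2
    exact exists_chart_lift f D U.1.2 hW e
  choose φ hφ using hE
  have nat : ∀ (U V : {U : X.affineOpens // P U}) (h : V.1.1 ≤ U.1.1)
      (s : Γ(Omega.sheaf f, U.1.1)),
      F.presheaf.map (homOfLE h).op (φ U s) =
        φ V ((Omega.sheaf f).presheaf.map (homOfLE h).op s) := by
    intro U V h s
    obtain ⟨W, hW, e⟩ := U.2
    refine eq_of_semilinear_of_span (X.presheaf.map (homOfLE h).op).hom
      (fun s => F.presheaf.map (homOfLE h).op (φ U s))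
      (fun s => φ V ((Omega.sheaf f).presheaf.map (homOfLE h).op s))
      (fun x y => by simp only [map_add]) (fun r x => by rw [map_smul, smul_res])
      (fun x y => by simp only [map_add]) (fun r x => by rw [smul_res, map_smul])
      (Set.range (OmegaSh.dSect f U.1.1)) (span_range_dSect f U.1.2 hW e) ?_ s
    rintro _ ⟨a, rfl⟩
    dsimp only
    rw [hφ, dSect_res f h a, hφ, Der.app_map]
  refine ⟨homOfBasis P hPcov hPdown (Omega.sheaf f) F φ nat, ?_, ?_⟩
  · apply Der.ext'
    intro V s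
    rw [Der.postcomp_app]
    apply section_ext_of_cover F
      (fun U : {U : {U : X.affineOpens // P U} // U.1.1 ≤ V} => U.1.1.1)
      (fun U => U.2) (le_iSup_PFam P hPcov hPdown V)
    intro U
    rw [← app_res, dOmega_app, dSect_res f U.2 s, ← Der.app_map,
      homOfBasis_app P hPcov hPdown (Omega.sheaf f) F φ nat U.1, hφ]
  · intro β hβ
    apply hom_ext_basis β _ (Set.range (PFam P)) (isBasis_PFam P hPcov hPdown)
    rintro _ ⟨U, rfl⟩ s
    obtain ⟨W, hW, e⟩ := U.2
    refine eq_of_semilinear_of_span (RingHom.id Γ(X, U.1.1))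
      (fun s => β.app U.1.1 s)
      (fun s => (homOfBasis P hPcov hPdown (Omega.sheaf f) F φ nat).app U.1.1 s)
      (fun x y => by simp only [map_add])
      (fun r x => by rw [Scheme.Modules.Hom.app_smul]; rfl)
      (fun x y => by simp only [map_add])
      (fun r x => by rw [Scheme.Modules.Hom.app_smul]; rfl)
      (Set.range (OmegaSh.dSect f U.1.1)) (span_range_dSect f U.1.2 hW e) ?_ s
    rintro _ ⟨a, rfl⟩
    dsimp only
    rw [homOfBasis_app P hPcov hPdown (Omega.sheaf f) F φ nat U, hφ, ← hβ]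
    rfl

end Groth.Agent.H3.Om
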