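import Mathlib
import Groth.Prelude.Def_Omega3
import Groth.Agent.Lib.Helper3.OmSec
import Groth.Agent.Lib.Helper3.OmQC
import Groth.Agent.Lib.Lead.QC.Iso

set_option autoImplicit false
universe u
open AlgebraicGeometry CategoryTheory TopologicalSpace Opposite CategoryTheory.Limits

namespace Groth.Agent.H3.Om

variable {X Y : Scheme.{u}}

theorem subsingleton_sections_of_isZero {M : X.Modules} (h : IsZero M) (U : X.Opens) :
    Subsingleton Γ(M, U) := by
  refine ⟨fun a b => ?_⟩
  have h0 : (𝟙 M : M ⟶ M) = 0 := (IsZero.iff_id_eq_zero M).1 h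
  have ha : (𝟙 M : M ⟶ M).app U a = (0 : M ⟶ M).app U a := by rw [h0]
  have hb : (𝟙 M : M ⟶ M).app U b = (0 : M ⟶ M).app U b := by rw [h0]
  have ha' : a = 0 := ha
  have hb' : b = 0 := hb
  rw [ha', hb']

/-- S5937: `f` is formally unramified iff its sheaf of differentials vanishes. -/
theorem formallyUnramified_iff_isZero {f : X ⟶ Y} {Ω' : X.Modules} {d : OmegaSh.Der f Ω'}
    (hd : OmegaSh.IsUniversal d) : FormallyUnramified f ↔ IsZero Ω' := by
  constructor
  · intro hf
    haveI := isQuasicoherent_of_isUniversal hd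
    apply Groth.Agent.LD.QC.isZero_of_affine_cover
    intro x
    obtain ⟨U, V, hU, hV, hxU, hUV⟩ := exists_affine_le_preimage f x
    refine ⟨U, hU, hxU, fun s => ?_⟩
    letI := (f.appLE V U hUV).hom.toAlgebra
    obtain ⟨ε, -⟩ := exists_linearEquiv_sections hd hU hV hUV
    have h1 : Algebra.FormallyUnramified Γ(Y, V) Γ(X, U) := hf.formallyUnramified_appLE hV hU hUV
    have h2 : Subsingleton (Ω[Γ(X, U)⁄Γ(Y, V)]) := inferInstance
    have h3 : Subsingleton Γ(Ω', U) := ε.symm.toEquiv.subsingleton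
    exact Subsingleton.elim _ _
  · intro hz
    refine ⟨fun {V} hV {U} hU e => ?_⟩
    letI := (f.appLE V U e).hom.toAlgebra
    obtain ⟨ε, -⟩ := exists_linearEquiv_sections hd hU hV e
    have h3 : Subsingleton Γ(Ω', U) := subsingleton_sections_of_isZero hz U
    have h2 : Subsingleton (Ω[Γ(X, U)⁄Γ(Y, V)]) := ε.toEquiv.subsingleton
    have h1 : Algebra.FormallyUnramified Γ(Y, V) Γ(X, U) := ⟨h2⟩
    exact h1

end Groth.Agent.H3.Om
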