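import Mathlib
import Groth.Prelude.Def_Omega4
import Groth.Agent.Lib.Helper3.OmCD
import Groth.Agent.Lib.Helper3.OmU3
import Groth.Agent.Lib.Helper3.OmCon4
import Groth.Agent.Lib.Helper3.OmRetr
import Groth.Agent.Lib.Helper3.OmUnram
import Groth.Agent.Lib.Helper3.OmCompat
import Groth.Agent.Lib.Helper3.OmBC

set_option autoImplicit false
universe u
open AlgebraicGeometry CategoryTheory TopologicalSpace Opposite CategoryTheory.Limits TensorProduct
open Groth.Agent.LD.QC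

namespace Groth.Agent.H3.Om

/-- a section of a morphism is an immersion. -/
theorem isImmersion_of_section {X S : Scheme.{u}} (f : X ⟶ S) (e : S ⟶ X) (he : e ≫ f = 𝟙 S) :
    IsImmersion e := by
  haveI : IsImmersion (e ≫ f) := by rw [he]; infer_instance
  exact IsImmersion.of_comp e f

/-- a section of a quasi-separated morphism is quasi-compact. -/
theorem quasiCompact_of_section {X S : Scheme.{u}} (f : X ⟶ S) [QuasiSeparated f] (e : S ⟶ X)
    (he : e ≫ f = 𝟙 S) : QuasiCompact e := by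
  haveI : QuasiCompact (e ≫ f) := by rw [he]; infer_instance
  exact QuasiCompact.of_comp e f

/-- the conormal sheaf of a section `e` of `f` is `e^* Ω_{X/S}`. -/
theorem nonempty_conormal_iso_of_section {X S : Scheme.{u}} (f : X ⟶ S) [QuasiSeparated f]
    (e : S ⟶ X) (he : e ≫ f = 𝟙 S) {Ω : X.Modules} {d : OmegaSh.Der f Ω}
    (hd : OmegaSh.IsUniversal d) :
    Nonempty (Omega.conormal e ≅ (Scheme.Modules.pullback e).obj Ω) := by
  haveI := isImmersion_of_section f e he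
  haveI := quasiCompact_of_section f e he
  haveI : QuasiSeparated (e ≫ f) := by rw [he]; infer_instance
  haveI : FormallyUnramified (e ≫ f) := by rw [he]; infer_instance
  obtain ⟨φ, hφ⟩ := exists_isConormalDiff e d
  have hZ := isUniversal_dOmega (e ≫ f)
  have hzero : IsZero (Omega.sheaf (e ≫ f)) := (formallyUnramified_iff_isZero hZ).1 inferInstance
  obtain ⟨c, hc, -⟩ := existsUnique_isDiffCompat (f := f) (f' := e ≫ f) e (𝟙 S)
    (by rw [Category.comp_id]) hd (OmegaSh.dOmega (e ≫ f))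
  replace hc : OmegaSh.IsDiffCompat e d (OmegaSh.dOmega (e ≫ f)) c := hc
  obtain ⟨-, w, hex⟩ := conormal_exact_sequence f e hd hZ hφ hc
  haveI : Mono φ := mono_conormalDiff_of_retract f e f he (by rw [← Category.assoc f e f,
    Category.assoc, he, Category.comp_id]) hd hφ
  haveI : Epi φ := hex.epi_f (hzero.eq_of_tgt _ _)
  haveI : IsIso φ := isIso_of_mono_of_epi φ
  exact ⟨asIso φ⟩

/-- two ways of exhibiting `p` as a base change of `t` give isomorphic pullbacks of `Ω_t`. -/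
theorem nonempty_pullback_iso_of_isPullback {R U R' P : Scheme.{u}} {t : R ⟶ U} {p : P ⟶ R'}
    [QuasiSeparated p]
    {q₁ q₂ : P ⟶ R} {s₁ s₂ : R' ⟶ U} (h₁ : IsPullback q₁ p t s₁) (h₂ : IsPullback q₂ p t s₂)
    {Ω : R.Modules} {d : OmegaSh.Der t Ω} (hd : OmegaSh.IsUniversal d) :
    Nonempty ((Scheme.Modules.pullback q₁).obj Ω ≅ (Scheme.Modules.pullback q₂).obj Ω) := by
  have hp := isUniversal_dOmega p
  obtain ⟨c₁, hc₁, -⟩ := existsUnique_isDiffCompat (f := t) (f' := p) q₁ s₁ h₁.w.symm hd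
    (OmegaSh.dOmega p)
  obtain ⟨c₂, hc₂, -⟩ := existsUnique_isDiffCompat (f := t) (f' := p) q₂ s₂ h₂.w.symm hd
    (OmegaSh.dOmega p)
  replace hc₁ : OmegaSh.IsDiffCompat q₁ d (OmegaSh.dOmega p) c₁ := hc₁
  replace hc₂ : OmegaSh.IsDiffCompat q₂ d (OmegaSh.dOmega p) c₂ := hc₂
  haveI := isIso_diffCompat_of_isPullback h₁ hd hp hc₁
  haveI := isIso_diffCompat_of_isPullback h₂ hd hp hc₂
  exact ⟨asIso c₁ ≪≫ (asIso c₂).symm⟩

/-- **core lemma for group(oid) schemes**: if `(pr₁, ψ)` exhibits `R ×_{t,U,t} R` as a base change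
of `t` along `s`, and `e` is a section of `t` with `Δ ≫ ψ = s ≫ e`, then
`Ω_{R/U} ≅ s^* C_{U/R}`. -/
theorem nonempty_omega_iso_pullback_conormal {R U : Scheme.{u}} (t s : R ⟶ U) [QuasiSeparated t]
    (e : U ⟶ R) (he : e ≫ t = 𝟙 U) (ψ : pullback t t ⟶ R)
    (hψ : IsPullback ψ (pullback.fst t t) t s) (hΔ : pullback.diagonal t ≫ ψ = s ≫ e) :
    Nonempty (Omega.sheaf t ≅ (Scheme.Modules.pullback s).obj (Omega.conormal e)) := by
  have hd := isUniversal_dOmega t
  obtain ⟨θ⟩ := nonempty_pullback_iso_of_isPullback (IsPullback.of_hasPullback t t).flip hψ hd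
  obtain ⟨κ⟩ := nonempty_conormal_iso_of_section t e he hd
  let Δ := pullback.diagonal t
  -- Ω ≅ (Δ ≫ snd)^* Ω ≅ Δ^* snd^* Ω ≅ Δ^* ψ^* Ω ≅ (Δ ≫ ψ)^* Ω = (s ≫ e)^* Ω ≅ s^* e^* Ω ≅ s^* C
  refine ⟨((Scheme.Modules.pullbackId R).symm.app (Omega.sheaf t)) ≪≫
    ((Scheme.Modules.pullbackCongr (pullback.diagonal_snd t).symm).app (Omega.sheaf t)) ≪≫
    ((Scheme.Modules.pullbackComp Δ (pullback.snd t t)).symm.app (Omega.sheaf t)) ≪≫
    ((Scheme.Modules.pullback Δ).mapIso θ) ≪≫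
    ((Scheme.Modules.pullbackComp Δ ψ).app (Omega.sheaf t)) ≪≫
    ((Scheme.Modules.pullbackCongr hΔ).app (Omega.sheaf t)) ≪≫
    ((Scheme.Modules.pullbackComp s e).symm.app (Omega.sheaf t)) ≪≫
    ((Scheme.Modules.pullback s).mapIso κ.symm)⟩

end Groth.Agent.H3.Om
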