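import Mathlib
import Groth.Prelude.Def_Omega4
import Groth.Prelude.Def_Grpd
import Groth.Agent.Lib.Helper3.OmGrp1

set_option autoImplicit false
universe u
open CategoryTheory Limits AlgebraicGeometry TopologicalSpace Opposite

namespace Groth.Agent.H3.Om

theorem comp_pullback_lift {C : Type*} [Category C] {X Y Z W W' : C} {f : X ⟶ Z} {g : Y ⟶ Z}
    [HasPullback f g] (m : W' ⟶ W) (x : W ⟶ X) (y : W ⟶ Y) (h : x ≫ f = y ≫ g) :
    m ≫ pullback.lift x y h = pullback.lift (m ≫ x) (m ≫ y)
      (by rw [Category.assoc, Category.assoc, h]) := by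
  apply pullback.hom_ext
  · rw [Category.assoc, pullback.lift_fst, pullback.lift_fst]
  · rw [Category.assoc, pullback.lift_snd, pullback.lift_snd]

theorem pullback_lift_congr {C : Type*} [Category C] {X Y Z W : C} {f : X ⟶ Z} {g : Y ⟶ Z}
    [HasPullback f g] {x x' : W ⟶ X} {y y' : W ⟶ Y} (hx : x = x') (hy : y = y')
    (h : x ≫ f = y ≫ g) (h' : x' ≫ f = y' ≫ g) :
    pullback.lift x y h = pullback.lift x' y' h' := by
  subst hx hy; rfl

variable {S : Scheme.{u}} (G : Grpd.GroupoidScheme S)

/-- `(α, β) ↦ α⁻¹ ∘ β` on pairs of arrows with the same target. -/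
noncomputable def grpdDiv : pullback G.t G.t ⟶ G.R :=
  pullback.lift (pullback.fst G.t G.t ≫ G.i) (pullback.snd G.t G.t)
    (by rw [Category.assoc, G.i_s, pullback.condition]) ≫ G.c

theorem lift_grpdDiv {T : Scheme.{u}} (b β : T ⟶ G.R) (h : b ≫ G.t = β ≫ G.t) :
    pullback.lift b β h ≫ grpdDiv G =
      pullback.lift (b ≫ G.i) β (by rw [Category.assoc, G.i_s, h]) ≫ G.c := by
  rw [grpdDiv, ← Category.assoc, comp_pullback_lift]
  congr 1
  apply pullback_lift_congr
  · rw [← Category.assoc, pullback.lift_fst]
  · rw [pullback.lift_snd]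

theorem isPullback_grpdDiv : IsPullback (grpdDiv G) (pullback.fst G.t G.t) G.t G.s where
  w := by
    rw [grpdDiv, G.comp_t, Category.assoc, G.i_t]
  isLimit' := ⟨PullbackCone.IsLimit.mk _
    (fun s => pullback.lift s.snd
      (pullback.lift s.snd s.fst s.condition.symm ≫ G.c)
      (G.comp_t s.snd s.fst s.condition.symm).symm)
    (fun s => by
      rw [lift_grpdDiv]
      have h1 := G.assoc (s.snd ≫ G.i) s.snd s.fst (by rw [Category.assoc, G.i_s])
        s.condition.symm
      rw [← h1]
      have h2 := G.i_comp s.snd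
      have h3 := G.e_comp s.fst
      refine Eq.trans ?_ h3
      congr 1
      apply pullback_lift_congr
      · rw [h2, ← Category.assoc, ← s.condition, Category.assoc]
      · rfl)
    (fun s => pullback.lift_fst _ _ _)
    (fun s m hm₁ hm₂ => by
      apply pullback.hom_ext
      · rw [pullback.lift_fst]; exact hm₂
      · rw [pullback.lift_snd]
        have hm : m = pullback.lift s.snd (m ≫ pullback.snd G.t G.t)
            (by rw [← hm₂, Category.assoc, Category.assoc, pullback.condition]) := by
          apply pullback.hom_ext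
          · rw [pullback.lift_fst]; exact hm₂
          · rw [pullback.lift_snd]
        set β := m ≫ pullback.snd G.t G.t with hβ
        have hcond : s.snd ≫ G.t = β ≫ G.t := by
          rw [← hm₂, Category.assoc, Category.assoc, pullback.condition]
        have ha : s.fst = pullback.lift (s.snd ≫ G.i) β
            (by rw [Category.assoc, G.i_s, hcond]) ≫ G.c := by
          rw [← hm₁, ← lift_grpdDiv G s.snd β hcond, ← hm]
        have h1 := G.assoc s.snd (s.snd ≫ G.i) β (by rw [Category.assoc, G.i_t])
          (by rw [Category.assoc, G.i_s, hcond])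
        have h2 := G.comp_i s.snd
        have h3 := G.e_comp β
        rw [← h3]
        have h4 : pullback.lift s.snd s.fst s.condition.symm =
            pullback.lift s.snd (pullback.lift (s.snd ≫ G.i) β
              (by rw [Category.assoc, G.i_s, hcond]) ≫ G.c)
              (by rw [G.comp_t, Category.assoc, G.i_t]) :=
          pullback_lift_congr rfl ha _ _
        rw [h4, ← h1]
        congr 1
        apply pullback_lift_congr
        · rw [h2, ← Category.assoc, ← Category.assoc, hcond]
        · rfl)⟩

theorem diagonal_grpdDiv : pullback.diagonal G.t ≫ grpdDiv G = G.s ≫ G.e := by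
  exact (lift_grpdDiv G (𝟙 G.R) (𝟙 G.R) rfl).trans
    ((G.i_comp (𝟙 G.R)).trans (Category.id_comp _))

/-- **Ω of a groupoid scheme**: `Ω_{R/U}` (via `t`) is `s^* C_{U/R}`. -/
theorem nonempty_omega_iso_of_groupoid [QuasiSeparated G.t] :
    Nonempty (Omega.sheaf G.t ≅ (Scheme.Modules.pullback G.s).obj (Omega.conormal G.e)) :=
  nonempty_omega_iso_pullback_conormal G.t G.s G.e G.e_t (grpdDiv G) (isPullback_grpdDiv G)
    (diagonal_grpdDiv G)

end Groth.Agent.H3.Om
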