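import Mathlib
import Groth.Agent.Lib.Helper5.FSm.FlatReg

/-! Helper3: local homomorphisms of regular local rings with injective cotangent map
(Hartshorne III.10.4, algebra part). -/

set_option autoImplicit false
universe u
open IsLocalRing

namespace Groth.Agent.H3.CotSm

/-- elementary form of injectivity of the cotangent map `m_A/m_A² → m_B/m_B²`. -/
def CotInj (A B : Type u) [CommRing A] [CommRing B] [IsLocalRing A] [IsLocalRing B]
    (φ : A →+* B) : Prop :=
  ∀ a ∈ maximalIdeal A, φ a ∈ maximalIdeal B ^ 2 → a ∈ maximalIdeal A ^ 2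

theorem injective_mapCotangent_iff {A B : Type u} [CommRing A] [CommRing B] [IsLocalRing A]
    [IsLocalRing B] (φ : A →+* B)
    (h : maximalIdeal A ≤ (maximalIdeal B).comap φ.toIntAlgHom) :
    Function.Injective (Ideal.mapCotangent (maximalIdeal A) (maximalIdeal B) φ.toIntAlgHom h) ↔
      CotInj A B φ := by
  constructor
  · intro hinj a ha h2
    have h3 : Ideal.mapCotangent (maximalIdeal A) (maximalIdeal B) φ.toIntAlgHom h
        ((maximalIdeal A).toCotangent ⟨a, ha⟩) = 0 := by
      rw [Ideal.mapCotangent_toCotangent, Ideal.toCotangent_eq_zero]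
      exact h2
    have h4 := hinj (h3.trans (map_zero _).symm)
    rwa [Ideal.toCotangent_eq_zero] at h4
  · intro hc
    rw [injective_iff_map_eq_zero]
    intro v hv
    obtain ⟨a, rfl⟩ := Ideal.toCotangent_surjective _ v
    rw [Ideal.mapCotangent_toCotangent, Ideal.toCotangent_eq_zero] at hv
    rw [Ideal.toCotangent_eq_zero]
    exact hc a.1 a.2 hv

section Params

variable {A B : Type u} [CommRing A] [CommRing B] [IsRegularLocalRing A] [IsRegularLocalRing B]
  [Algebra A B] [IsLocalHom (algebraMap A B)]

theorem exists_params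
    (hres : ∀ b : B, ∃ a : A, b - algebraMap A B a ∈ maximalIdeal B)
    (hinj : CotInj A B (algebraMap A B)) :
    ∃ (r : ℕ) (y : Fin r → B),
      maximalIdeal B = (maximalIdeal A).map (algebraMap A B) ⊔ Ideal.span (Set.range y) ∧
      ringKrullDim A + (r : WithBot ℕ∞) ≤ ringKrullDim B := by
  classical
  have hle : maximalIdeal A ≤ (maximalIdeal B).comap (algebraMap A B) :=
    (IsLocalRing.maximalIdeal_comap (algebraMap A B)).ge
  set I : Ideal B := (maximalIdeal A).map (algebraMap A B) with hI
  have hIle : I ≤ maximalIdeal B := IsLocalRing.map_maximalIdeal_le (algebraMap A B)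
  -- the cotangent map as a function
  let cot : CotangentSpace A → CotangentSpace B :=
    Ideal.mapCotangent (maximalIdeal A) (maximalIdeal B) (algebraMap A B).toIntAlgHom hle
  have hcot_inj : Function.Injective cot :=
    (injective_mapCotangent_iff (algebraMap A B) hle).mpr hinj
  have hcot_mk : ∀ a : maximalIdeal A, cot ((maximalIdeal A).toCotangent a) =
      (maximalIdeal B).toCotangent ⟨algebraMap A B a, hle a.2⟩ := fun a => rfl
  have hsmul : ∀ (b : B) (t : maximalIdeal B),
      residue B b • (maximalIdeal B).toCotangent t = (maximalIdeal B).toCotangent (b • t) := by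
    intro b t
    rw [map_smul]
    exact IsScalarTower.algebraMap_smul (ResidueField B) b _
  have hsmulA : ∀ (a : A) (t : maximalIdeal A),
      residue A a • (maximalIdeal A).toCotangent t = (maximalIdeal A).toCotangent (a • t) := by
    intro b t
    rw [map_smul]
    exact IsScalarTower.algebraMap_smul (ResidueField A) b _
  let W : Submodule (ResidueField B) (CotangentSpace B) :=
    Submodule.span (ResidueField B) (Set.range cot)
  -- elements of `W` are classes of elements of `I`
  have hW : ∀ w ∈ W, ∃ (t : B) (ht : t ∈ maximalIdeal B), t ∈ I ∧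
      (maximalIdeal B).toCotangent ⟨t, ht⟩ = w := by
    intro w hw
    induction hw using Submodule.span_induction with
    | mem x hx =>
      obtain ⟨v, rfl⟩ := hx
      obtain ⟨a, rfl⟩ := Ideal.toCotangent_surjective _ v
      exact ⟨algebraMap A B a, hle a.2, Ideal.mem_map_of_mem _ a.2, (hcot_mk a).symm⟩
    | zero => exact ⟨0, zero_mem _, zero_mem _, map_zero _⟩
    | add x y _ _ hx hy =>
      obtain ⟨t1, h1, h1', rfl⟩ := hx
      obtain ⟨t2, h2, h2', rfl⟩ := hy
      exact ⟨t1 + t2, add_mem h1 h2, add_mem h1' h2', by rw [← map_add]; rfl⟩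
    | smul c x _ hx =>
      obtain ⟨t, h1, h1', rfl⟩ := hx
      obtain ⟨b, rfl⟩ := residue_surjective c
      refine ⟨b * t, Ideal.mul_mem_left _ _ h1, Ideal.mul_mem_left _ _ h1', ?_⟩
      rw [hsmul]
      rfl
  -- rank inequality
  have hressurj : Function.Surjective (ResidueField.map (algebraMap A B)) := by
    intro z
    obtain ⟨b, rfl⟩ := residue_surjective z
    obtain ⟨a, ha⟩ := hres b
    refine ⟨residue A a, ?_⟩
    rw [ResidueField.map_residue]
    symm
    rw [← sub_eq_zero, ← map_sub, residue_eq_zero_iff]
    exact ha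
  have h1 : Module.finrank (ResidueField A) (CotangentSpace A) ≤
      Module.finrank (ResidueField B) W := by
    let j : CotangentSpace A →+ W :=
      { toFun := fun v => ⟨cot v, Submodule.subset_span ⟨v, rfl⟩⟩
        map_zero' := Subtype.ext (map_zero _)
        map_add' := fun v w => Subtype.ext (map_add _ v w) }
    have hj : Function.Injective j := fun v w hvw => hcot_inj (congrArg Subtype.val hvw)
    have hc : ∀ (r : ResidueField A) (m : CotangentSpace A),
        j (r • m) = ResidueField.map (algebraMap A B) r • j m := by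
      intro r m
      obtain ⟨a, rfl⟩ := residue_surjective r
      obtain ⟨t, rfl⟩ := Ideal.toCotangent_surjective _ m
      apply Subtype.ext
      show cot (residue A a • (maximalIdeal A).toCotangent t) =
        ResidueField.map (algebraMap A B) (residue A a) • cot ((maximalIdeal A).toCotangent t)
      rw [hsmulA, hcot_mk, hcot_mk, ResidueField.map_residue, hsmul]
      congr 1
      apply Subtype.ext
      show algebraMap A B (a * t.1) = algebraMap A B a * algebraMap A B t.1
      exact map_mul _ _ _
    have hrk := rank_le_of_surjective_injective (ResidueField.map (algebraMap A B)) j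
      hressurj hj hc
    exact Cardinal.toNat_le_toNat hrk (Module.rank_lt_aleph0 _ _)
  -- complement
  set r := Module.finrank (ResidueField B) (CotangentSpace B ⧸ W) with hr
  let bs : Module.Basis (Fin r) (ResidueField B) (CotangentSpace B ⧸ W) :=
    Module.finBasis (ResidueField B) (CotangentSpace B ⧸ W)
  have hy : ∀ j : Fin r, ∃ (t : B) (ht : t ∈ maximalIdeal B),
      W.mkQ ((maximalIdeal B).toCotangent ⟨t, ht⟩) = bs j := by
    intro j
    obtain ⟨v, hv⟩ := W.mkQ_surjective (bs j)
    obtain ⟨t, rfl⟩ := Ideal.toCotangent_surjective _ v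
    exact ⟨t.1, t.2, hv⟩
  choose y hym hyb using hy
  refine ⟨r, y, ?_, ?_⟩
  · apply le_antisymm
    · -- Nakayama
      have hfg : (maximalIdeal B : Submodule B B).FG := (maximalIdeal B).fg_of_isNoetherianRing
      have hjac : maximalIdeal B ≤ Ideal.jacobson (⊥ : Ideal B) :=
        (IsLocalRing.jacobson_eq_maximalIdeal ⊥ bot_ne_top).ge
      refine Submodule.le_of_le_smul_of_le_jacobson_bot (I := maximalIdeal B)
        (N := I ⊔ Ideal.span (Set.range y)) (N' := maximalIdeal B) hfg hjac ?_
      intro z hz
      set q := W.mkQ ((maximalIdeal B).toCotangent ⟨z, hz⟩) with hq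
      have hc : ∀ j : Fin r, ∃ c : B, residue B c = bs.repr q j :=
        fun j => residue_surjective _
      choose c hcj using hc
      let zz : maximalIdeal B := ⟨z, hz⟩ - ∑ j, c j • (⟨y j, hym j⟩ : maximalIdeal B)
      have hzz : W.mkQ ((maximalIdeal B).toCotangent zz) = 0 := by
        show W.mkQ ((maximalIdeal B).toCotangent
          (⟨z, hz⟩ - ∑ j, c j • (⟨y j, hym j⟩ : maximalIdeal B))) = 0
        rw [map_sub, map_sum, map_sub, map_sum, ← hq]
        have : ∀ j : Fin r, W.mkQ ((maximalIdeal B).toCotangent
            (c j • (⟨y j, hym j⟩ : maximalIdeal B))) = bs.repr q j • bs j := by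
          intro j
          rw [← hsmul, map_smul, hyb, hcj]
        rw [Finset.sum_congr rfl (fun j _ => this j), bs.sum_repr, sub_self]
      have hzzW : (maximalIdeal B).toCotangent zz ∈ W := by
        rwa [Submodule.mkQ_apply, Submodule.Quotient.mk_eq_zero] at hzz
      obtain ⟨t, ht, htI, hteq⟩ := hW _ hzzW
      rw [Ideal.toCotangent_eq] at hteq
      have hzval : (zz : B) = z - ∑ j, c j * y j := by
        show ((⟨z, hz⟩ - ∑ j, c j • (⟨y j, hym j⟩ : maximalIdeal B) : maximalIdeal B) : B) = _
        rw [Submodule.coe_sub, Submodule.coe_sum]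
        rfl
      have hdecomp : z = (t + ∑ j, c j * y j) + ((zz : B) - t) := by
        rw [hzval]; ring
      rw [hdecomp]
      refine Submodule.add_mem_sup (Submodule.add_mem_sup htI ?_) ?_
      · refine Ideal.sum_mem _ fun j _ => Ideal.mul_mem_left _ _ (Ideal.subset_span ⟨j, rfl⟩)
      · have : (zz : B) - t = -(((⟨t, ht⟩ : maximalIdeal B) : B) - (zz : B)) := by ring
        rw [smul_eq_mul, ← pow_two, this]
        exact neg_mem hteq
    · refine sup_le hIle ?_
      rw [Ideal.span_le]
      rintro _ ⟨j, rfl⟩
      exact hym j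
  · have hA := (IsRegularLocalRing.iff_finrank_cotangentSpace A).mp inferInstance
    have hB := (IsRegularLocalRing.iff_finrank_cotangentSpace B).mp inferInstance
    have h2 := Submodule.finrank_quotient_add_finrank W
    rw [← hA, ← hB]
    have h3 : Module.finrank (ResidueField A) (CotangentSpace A) + r ≤
        Module.finrank (ResidueField B) (CotangentSpace B) := by
      rw [← h2, hr]; omega
    exact_mod_cast h3

/-- a local homomorphism of regular local rings which is surjective on residue fields and
injective on cotangent spaces is flat with regular closed fibre. -/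
theorem flat_and_regular_fibre
    (hres : ∀ b : B, ∃ a : A, b - algebraMap A B a ∈ maximalIdeal B)
    (hinj : CotInj A B (algebraMap A B)) :
    Module.Flat A B ∧
      ∃ (_ : IsLocalRing (B ⧸ (maximalIdeal A).map (algebraMap A B))),
        IsRegularLocalRing (B ⧸ (maximalIdeal A).map (algebraMap A B)) := by
  obtain ⟨r, y, hy, hdim⟩ := exists_params hres hinj
  obtain ⟨h1, h2, h3, -⟩ := Groth.Agent.H5.FSm.flat_of_regular_of_dim y hy hdim
  exact ⟨h1, h2, h3⟩

end Params

/-- formally smooth local homomorphisms, surjective on residue fields, are injective on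
cotangent spaces. -/
theorem cotInj_of_formallySmooth {A B : Type u} [CommRing A] [CommRing B] [IsLocalRing A]
    [IsLocalRing B] [Algebra A B] [IsLocalHom (algebraMap A B)] [Algebra.FormallySmooth A B]
    (hres : ∀ b : B, ∃ a : A, b - algebraMap A B a ∈ maximalIdeal B) :
    CotInj A B (algebraMap A B) := by
  intro a ha h2
  set A' := A ⧸ (maximalIdeal A ^ 2) with hA'
  -- the map `A' → κ(B)`
  have hg0 : ∀ a ∈ maximalIdeal A ^ 2, (Algebra.ofId A (ResidueField B)) a = 0 := by
    intro a ha
    have h1 : a ∈ maximalIdeal A := Ideal.pow_le_self two_ne_zero ha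
    show algebraMap A (ResidueField B) a = 0
    rw [IsScalarTower.algebraMap_apply A B (ResidueField B)]
    show residue B (algebraMap A B a) = 0
    rw [residue_eq_zero_iff]
    exact (IsLocalRing.maximalIdeal_comap (algebraMap A B)).ge h1
  let g : A' →ₐ[A] ResidueField B :=
    Ideal.Quotient.liftₐ (maximalIdeal A ^ 2) (Algebra.ofId A (ResidueField B)) hg0
  have hg_mk : ∀ a : A, g (Ideal.Quotient.mk _ a) = residue B (algebraMap A B a) := by
    intro a
    show algebraMap A (ResidueField B) a = _
    rw [IsScalarTower.algebraMap_apply A B (ResidueField B)]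
    rfl
  have hgsurj : Function.Surjective g := by
    intro z
    obtain ⟨b, rfl⟩ := residue_surjective z
    obtain ⟨a, ha⟩ := hres b
    refine ⟨Ideal.Quotient.mk _ a, ?_⟩
    rw [hg_mk]
    symm
    rw [← sub_eq_zero, ← map_sub, residue_eq_zero_iff]
    exact ha
  have hker : RingHom.ker (g : A' →+* ResidueField B) ≤
      (maximalIdeal A).map (Ideal.Quotient.mk (maximalIdeal A ^ 2)) := by
    intro z hz
    obtain ⟨a, rfl⟩ := Ideal.Quotient.mk_surjective z
    rw [RingHom.mem_ker] at hz
    have hz' : g (Ideal.Quotient.mk _ a) = 0 := hz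
    rw [hg_mk, residue_eq_zero_iff] at hz'
    refine Ideal.mem_map_of_mem _ ?_
    rw [← IsLocalRing.maximalIdeal_comap (algebraMap A B)]
    exact hz'
  have hnil : IsNilpotent (RingHom.ker (g : A' →+* ResidueField B)) := by
    refine ⟨2, ?_⟩
    rw [Ideal.zero_eq_bot, eq_bot_iff]
    refine (Ideal.pow_right_mono hker 2).trans ?_
    rw [← Ideal.map_pow, Ideal.map_quotient_self]
  let f : B →ₐ[A] ResidueField B := IsScalarTower.toAlgHom A B (ResidueField B)
  let ψ : B →ₐ[A] A' := Algebra.FormallySmooth.liftOfSurjective f g hgsurj hnil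
  have hψ : ∀ b : B, g (ψ b) = residue B b := fun b =>
    Algebra.FormallySmooth.liftOfSurjective_apply f g hgsurj hnil b
  have h3 : maximalIdeal B ≤ ((maximalIdeal A).map (Ideal.Quotient.mk (maximalIdeal A ^ 2))).comap
      (ψ : B →+* A') := by
    intro b hb
    rw [Ideal.mem_comap]
    apply hker
    rw [RingHom.mem_ker]
    show g (ψ b) = 0
    rw [hψ, residue_eq_zero_iff]
    exact hb
  have h4 : (ψ : B →+* A') (algebraMap A B a) = 0 := by
    have h5 : maximalIdeal B ^ 2 ≤
        (((maximalIdeal A).map (Ideal.Quotient.mk (maximalIdeal A ^ 2))) ^ 2).comap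
          (ψ : B →+* A') :=
      (Ideal.pow_right_mono h3 2).trans (Ideal.le_comap_pow _ 2)
    have h6 := h5 h2
    rw [Ideal.mem_comap, ← Ideal.map_pow, Ideal.map_quotient_self] at h6
    exact h6
  have h7 : (ψ : B →+* A') (algebraMap A B a) = Ideal.Quotient.mk _ a := ψ.commutes a
  rw [h7, Ideal.Quotient.eq_zero_iff_mem] at h4
  exact h4

end Groth.Agent.H3.CotSm
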