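import Mathlib
import Groth.Prelude.Def_FixPt
import Groth.Agent.Lib.Helper3.CotSmAlg
import Groth.Agent.Lib.Helper1.FibreStalk
import Groth.Agent.Lib.Helper1.SmoothReg
import Groth.Agent.Lib.Helper1.SmoothDepth
import Groth.Agent.Lib.Helper5.DF.DF11
import Groth.Agent.Lib.Helper1.SmoothDim
import Groth.Agent.Lib.Helper1.FlatFibDim
import Groth.Agent.Lib.Helper1.RelDim

/-! Helper3: smoothness of morphisms of smooth varieties over an algebraically closed field and
the cotangent maps at closed points (Hartshorne III.10.4, 10.5). -/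

set_option autoImplicit false
universe u
open AlgebraicGeometry CategoryTheory CategoryTheory.Limits IsLocalRing

namespace Groth.Agent.H3.CotSm

theorem exists_sub_mem_of_section {T X : Scheme.{u}} (s : T ⟶ X) (q : X ⟶ T) (h : s ≫ q = 𝟙 T)
    (t : T) (b : X.presheaf.stalk (s t)) :
    ∃ c : T.presheaf.stalk (q (s t)),
      b - (q.stalkMap (s t)).hom c ∈ maximalIdeal (X.presheaf.stalk (s t)) := by
  haveI : IsIso (s ≫ q) := by rw [h]; infer_instance
  haveI : IsIso ((s ≫ q).stalkMap t) := inferInstance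
  have hcomp : (s ≫ q).stalkMap t = q.stalkMap (s t) ≫ s.stalkMap t :=
    Scheme.Hom.stalkMap_comp s q t
  have hbij : Function.Bijective ((s ≫ q).stalkMap t).hom :=
    (ConcreteCategory.isIso_iff_bijective _).mp inferInstance
  obtain ⟨c, hc⟩ := hbij.2 ((s.stalkMap t).hom b)
  refine ⟨c, ?_⟩
  rw [mem_maximalIdeal, mem_nonunits_iff]
  intro hu
  have h1 := hu.map (s.stalkMap t).hom
  rw [map_sub] at h1
  have h2 : (s.stalkMap t).hom ((q.stalkMap (s t)).hom c) = (s.stalkMap t).hom b := by
    rw [← hc, hcomp]; rfl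
  rw [h2, sub_self] at h1
  exact not_isUnit_zero h1

section Field

variable (k : Type u) [Field k] [IsAlgClosed k] {X Y : Scheme.{u}}
  (qX : X ⟶ Spec (CommRingCat.of k)) (qY : Y ⟶ Spec (CommRingCat.of k))
  [LocallyOfFiniteType qX] [LocallyOfFiniteType qY]

omit [LocallyOfFiniteType qY] in
theorem residue_surj (f : X ⟶ Y) (hf : f ≫ qY = qX) (x : X) (hx : IsClosed ({x} : Set X))
    (b : X.presheaf.stalk x) :
    ∃ a : Y.presheaf.stalk (f x),
      b - (f.stalkMap x).hom a ∈ maximalIdeal (X.presheaf.stalk x) := by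
  subst hf
  obtain ⟨s, hs, hpt⟩ : ∃ s : Spec (CommRingCat.of k) ⟶ X,
      s ≫ (f ≫ qY) = 𝟙 _ ∧ s (closedPoint k) = x :=
    ⟨_, pointOfClosedPoint_comp (f ≫ qY) x hx, pointOfClosedPoint_apply (f ≫ qY) x hx _⟩
  subst hpt
  obtain ⟨c, hc⟩ := exists_sub_mem_of_section s (f ≫ qY) hs (closedPoint k) b
  have hcomp : (f ≫ qY).stalkMap (s (closedPoint k)) =
      qY.stalkMap (f (s (closedPoint k))) ≫ f.stalkMap (s (closedPoint k)) :=
    Scheme.Hom.stalkMap_comp f qY _
  refine ⟨(qY.stalkMap (f (s (closedPoint k)))).hom c, ?_⟩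
  rw [hcomp] at hc
  exact hc

theorem isClosed_image (f : X ⟶ Y) (hf : f ≫ qY = qX) (x : X) (hx : IsClosed ({x} : Set X)) :
    IsClosed ({f x} : Set Y) := by
  subst hf
  have h1 := (pointEquivClosedPoint qY ⟨pointOfClosedPoint (f ≫ qY) x hx ≫ f, by
    rw [Category.assoc]; exact pointOfClosedPoint_comp (f ≫ qY) x hx⟩).2
  have h2 : (pointOfClosedPoint (f ≫ qY) x hx ≫ f) (closedPoint k) = f x := by
    rw [Scheme.Hom.comp_apply, pointOfClosedPoint_apply]
  rw [← h2]
  exact h1

include k qY in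
theorem perfectField_residueField (y : Y) (hy : IsClosed ({y} : Set Y)) :
    PerfectField (Y.residueField y) := by
  let e : Y.residueField y ≃+* k := (residueFieldIsoBase qY y hy).commRingCatIsoToRingEquiv
  haveI : IsAlgClosed (Y.residueField y) := IsAlgClosed.of_ringEquiv (k := k) _ e.symm
  infer_instance

/-- **Hartshorne III.10.4 (c) ⇒ (a), pointwise.** -/
theorem formallySmooth_stalkMap_of_cotInj [Smooth qX] [Smooth qY] (f : X ⟶ Y)
    (hf : f ≫ qY = qX) (x : X) (hx : IsClosed ({x} : Set X))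
    (hinj : CotInj _ _ (f.stalkMap x).hom) : (f.stalkMap x).hom.FormallySmooth := by
  haveI : IsLocallyNoetherian Y := LocallyOfFiniteType.isLocallyNoetherian qY
  haveI : LocallyOfFiniteType f := by
    have : LocallyOfFiniteType (f ≫ qY) := hf ▸ inferInstance
    exact locallyOfFiniteType_of_comp f qY
  haveI : LocallyOfFinitePresentation f := inferInstance
  haveI hA : IsRegularLocalRing (Y.presheaf.stalk (f x)) :=
    Groth.Agent.H1.SmoothDepth.isRegularLocalRing_stalk_of_smooth k qY (f x)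
  haveI hB : IsRegularLocalRing (X.presheaf.stalk x) :=
    Groth.Agent.H1.SmoothDepth.isRegularLocalRing_stalk_of_smooth k qX x
  have hy : IsClosed ({f x} : Set Y) := isClosed_image k qX qY f hf x hx
  haveI : PerfectField (Y.residueField (f x)) := perfectField_residueField k qY (f x) hy
  haveI : LocallyOfFinitePresentation (f.fiberToSpecResidueField (f x)) :=
    inferInstanceAs (LocallyOfFinitePresentation (pullback.snd f (Y.fromSpecResidueField (f x))))
  have hres := residue_surj k qX qY f hf x hx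
  algebraize [(f.stalkMap x).hom]
  haveI : IsLocalHom (algebraMap (Y.presheaf.stalk (f x)) (X.presheaf.stalk x)) :=
    (inferInstance : IsLocalHom (f.stalkMap x).hom)
  obtain ⟨hflat, hloc, hreg⟩ := flat_and_regular_fibre
    (A := Y.presheaf.stalk (f x)) (B := X.presheaf.stalk x) hres hinj
  have hregF : IsRegularLocalRing ((f.fiber (f x)).presheaf.stalk (f.asFiber x)) :=
    IsRegularLocalRing.of_ringEquiv (Groth.Agent.H1.FibreStalk.fiberStalkEquiv f x)
  have hz := Groth.Agent.H1.SmoothReg.mem_smoothLocus_of_isRegularLocalRing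
    (Y.residueField (f x)) (f.fiberToSpecResidueField (f x)) (f.asFiber x) hregF
  exact Scheme.Hom.mem_smoothLocus.mp
    ((H5.DF.mem_smoothLocus_iff_fiber f x (f x) rfl (f.asFiber x) (f.fiberι_asFiber x)).mpr
      ⟨hflat, hz⟩)

omit [LocallyOfFiniteType qY] in
/-- **Hartshorne III.10.4 (a) ⇒ (c), pointwise.** -/
theorem cotInj_of_formallySmooth_stalkMap (f : X ⟶ Y) (hf : f ≫ qY = qX) (x : X)
    (hx : IsClosed ({x} : Set X)) (hsm : (f.stalkMap x).hom.FormallySmooth) :
    CotInj _ _ (f.stalkMap x).hom := by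
  have hres := residue_surj k qX qY f hf x hx
  letI := (f.stalkMap x).hom.toAlgebra
  haveI : IsLocalHom (algebraMap (Y.presheaf.stalk (f x)) (X.presheaf.stalk x)) :=
    (inferInstance : IsLocalHom (f.stalkMap x).hom)
  haveI : Algebra.FormallySmooth (Y.presheaf.stalk (f x)) (X.presheaf.stalk x) := hsm
  exact cotInj_of_formallySmooth (A := Y.presheaf.stalk (f x)) (B := X.presheaf.stalk x) hres

end Field

/-- a smooth morphism all of whose local fibre dimensions are `n` is smooth of relative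
dimension `n`. -/
theorem smoothOfRelativeDimension_of_fibreDimAt {X Y : Scheme.{u}} (f : X ⟶ Y) [Smooth f] (n : ℕ)
    (h : ∀ x : X, FlatMor.fibreDimAt f x = (n : WithBot ℕ∞)) : SmoothOfRelativeDimension n f := by
  constructor
  intro x
  obtain ⟨U, hU, V, hV, hxV, e, hstd⟩ :=
    (Smooth.iff_forall_exists_isStandardSmooth (f := f)).mp inferInstance x
  refine ⟨U, hU, V, hV, hxV, e, ?_⟩
  letI := (f.appLE U V e).hom.toAlgebra
  obtain ⟨ι, σ, hσ, hι, ⟨P⟩⟩ := (show Algebra.IsStandardSmooth Γ(Y, U) Γ(X, V) from hstd).out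
  have hm : (f.appLE U V e).hom.IsStandardSmoothOfRelativeDimension P.dimension :=
    P.isStandardSmoothOfRelativeDimension rfl
  haveI : SmoothOfRelativeDimension P.dimension (Spec.map (f.appLE U V e)) := by
    rw [HasRingHomProperty.Spec_iff (P := @SmoothOfRelativeDimension P.dimension)]
    exact RingHom.locally_of
      RingHom.isStandardSmoothOfRelativeDimension_respectsIso _ hm
  have h1 := Groth.Agent.H1.SmoothDim.fibreDimAt_of_smoothOfRelativeDimension P.dimension
    (Spec.map (f.appLE U V e)) (hV.primeIdealOf ⟨x, hxV⟩)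
  rw [← Groth.Agent.H1.FibDimFP.fibreDimAt_fromSpec f hV hU e, hV.fromSpec_primeIdealOf ⟨x, hxV⟩,
    h x] at h1
  have h2 : n = P.dimension := by exact_mod_cast h1
  rw [h2]
  exact hm

theorem stalkMapAt_rfl {X Y : Scheme.{u}} (f : X ⟶ Y) (x : X) :
    FixPt.stalkMapAt f x (f x) rfl = (f.stalkMap x).hom := by
  unfold FixPt.stalkMapAt
  have h : (Y.presheaf.stalkCongr (Inseparable.of_eq (rfl : f x = f x))).inv = 𝟙 _ :=
    TopCat.Presheaf.stalkSpecializes_refl _ _
  rw [h, Category.id_comp]

theorem injective_cotangentMapAt_iff {X Y : Scheme.{u}} (f : X ⟶ Y) (x : X) :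
    Function.Injective (FixPt.cotangentMapAt f x (f x) rfl) ↔
      CotInj _ _ (f.stalkMap x).hom := by
  rw [← stalkMapAt_rfl]
  exact injective_mapCotangent_iff (FixPt.stalkMapAt f x (f x) rfl)
    (FixPt.maximalIdeal_le_comap_stalkMapAt f x (f x) rfl)

section Main

variable (k : Type u) [Field k] [IsAlgClosed k] {X Y : Scheme.{u}}
  (qX : X ⟶ Spec (CommRingCat.of k)) (qY : Y ⟶ Spec (CommRingCat.of k))
  [LocallyOfFiniteType qX] [LocallyOfFiniteType qY]

theorem smooth_of_cotInj [Smooth qX] [Smooth qY] (f : X ⟶ Y) (hf : f ≫ qY = qX)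
    (h : ∀ x : X, IsClosed ({x} : Set X) → CotInj _ _ (f.stalkMap x).hom) : Smooth f := by
  haveI : IsLocallyNoetherian Y := LocallyOfFiniteType.isLocallyNoetherian qY
  haveI : LocallyOfFiniteType f := by
    have : LocallyOfFiniteType (f ≫ qY) := hf ▸ inferInstance
    exact locallyOfFiniteType_of_comp f qY
  haveI : LocallyOfFinitePresentation f := inferInstance
  haveI : JacobsonSpace X := LocallyOfFiniteType.jacobsonSpace qX
  rw [← Scheme.Hom.smoothLocus_eq_top_iff]
  by_contra hne
  have hne' : ((f.smoothLocus : Set X)ᶜ).Nonempty := by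
    rw [Set.nonempty_compl]
    intro h2
    exact hne (TopologicalSpace.Opens.ext h2)
  obtain ⟨x, hx1, hx2⟩ := nonempty_inter_closedPoints hne'
    (f.smoothLocus.isOpen.isClosed_compl.isLocallyClosed)
  exact hx1 (Scheme.Hom.mem_smoothLocus.mpr
    (formallySmooth_stalkMap_of_cotInj k qX qY f hf x hx2 (h x hx2)))

omit [IsAlgClosed k] in
theorem fibreDimAt_eq_of_dim [IsIntegral X] [IsIntegral Y] (f : X ⟶ Y) [Flat f]
    (hf : f ≫ qY = qX) (n dY : ℕ) (hY : topologicalKrullDim Y = dY)
    (hX : topologicalKrullDim X = ((dY + n : ℕ) : WithBot ℕ∞)) (x : X) :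
    FlatMor.fibreDimAt f x = (n : WithBot ℕ∞) := by
  haveI : LocallyOfFiniteType f := by
    have : LocallyOfFiniteType (f ≫ qY) := hf ▸ inferInstance
    exact locallyOfFiniteType_of_comp f qY
  obtain ⟨m, hm1, hm2⟩ := Groth.Agent.H1.FlatFibDim.exists_forall_fibreDimAt_eq qY f
  rw [hX, hY] at hm2
  have h3 : ((dY : ℕ) : WithBot ℕ∞) + (n : WithBot ℕ∞) = (dY : WithBot ℕ∞) + (m : WithBot ℕ∞) := by
    rw [← hm2]; push_cast; rfl
  have h4 := Groth.Agent.H1.FlatFibDim.natCast_add_cancel h3
  rw [hm1 x]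
  exact h4.symm

/-- **Hartshorne III.10.4 (a) ⇔ (c).** -/
theorem smoothOfRelativeDimension_iff [Smooth qX] [Smooth qY] [IsIntegral X] [IsIntegral Y]
    (f : X ⟶ Y) (hf : f ≫ qY = qX) (n dY : ℕ) (hY : topologicalKrullDim Y = dY)
    (hX : topologicalKrullDim X = ((dY + n : ℕ) : WithBot ℕ∞)) :
    SmoothOfRelativeDimension n f ↔
      ∀ x : X, IsClosed ({x} : Set X) →
        Function.Injective (FixPt.cotangentMapAt f x (f x) rfl) := by
  haveI : IsLocallyNoetherian Y := LocallyOfFiniteType.isLocallyNoetherian qY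
  haveI : LocallyOfFiniteType f := by
    have : LocallyOfFiniteType (f ≫ qY) := hf ▸ inferInstance
    exact locallyOfFiniteType_of_comp f qY
  haveI : LocallyOfFinitePresentation f := inferInstance
  constructor
  · intro hsm x hx
    haveI : Smooth f := SmoothOfRelativeDimension.smooth n f
    rw [injective_cotangentMapAt_iff]
    refine cotInj_of_formallySmooth_stalkMap k qX qY f hf x hx ?_
    rw [← Scheme.Hom.mem_smoothLocus, Scheme.Hom.smoothLocus_eq_top]
    trivial
  · intro h
    haveI : Smooth f := smooth_of_cotInj k qX qY f hf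
      (fun x hx => (injective_cotangentMapAt_iff f x).mp (h x hx))
    exact smoothOfRelativeDimension_of_fibreDimAt f n
      (fibreDimAt_eq_of_dim k qX qY f hf n dY hY hX)

/-- **Hartshorne III.10.5-type statement.** -/
theorem denseRange_and_fibres [Smooth qX] [Smooth qY] [IsIntegral X] [IsIntegral Y]
    (f : X ⟶ Y) (hf : f ≫ qY = qX) (dX dY : ℕ) (hX : topologicalKrullDim X = dX)
    (hY : topologicalKrullDim Y = dY)
    (hT : ∀ x : X, IsClosed ({x} : Set X) →
      Function.Injective (FixPt.cotangentMapAt f x (f x) rfl)) :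
    DenseRange f ∧ dY ≤ dX ∧
      ∀ y : Y, Smooth (f.fiberToSpecResidueField y) ∧
        ∀ Z ∈ irreducibleComponents (f.fiber y),
          topologicalKrullDim Z = ((dX - dY : ℕ) : WithBot ℕ∞) := by
  haveI : IsLocallyNoetherian Y := LocallyOfFiniteType.isLocallyNoetherian qY
  haveI : LocallyOfFiniteType f := by
    have : LocallyOfFiniteType (f ≫ qY) := hf ▸ inferInstance
    exact locallyOfFiniteType_of_comp f qY
  haveI : LocallyOfFinitePresentation f := inferInstance
  haveI : Smooth f := smooth_of_cotInj k qX qY f hf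
    (fun x hx => (injective_cotangentMapAt_iff f x).mp (hT x hx))
  obtain ⟨m, hm1, hm2⟩ := Groth.Agent.H1.FlatFibDim.exists_forall_fibreDimAt_eq qY f
  rw [hX, hY] at hm2
  have hdim : dX = dY + m := by exact_mod_cast hm2
  refine ⟨?_, by omega, fun y => ⟨?_, ?_⟩⟩
  · have hopen : IsOpen (Set.range f) := f.isOpenMap.isOpen_range
    exact hopen.dense (Set.range_nonempty _)
  · exact inferInstanceAs (Smooth (pullback.snd f (Y.fromSpecResidueField y)))
  · intro Z hZ
    have h1 := (Groth.Agent.H1.RelDim.hasRelDim_iff f m).mpr hm1 y Z hZ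
    rw [h1]
    have : dX - dY = m := by omega
    rw [this]

end Main

end Groth.Agent.H3.CotSm
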