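import Mathlib

set_option autoImplicit false
universe u
open Function

namespace Groth.Agent.H3.CMPt

/-- dimension of a localization is at most the dimension. -/
theorem ringKrullDim_le_of_isLocalization {R : Type*} [CommRing R] (M : Submonoid R)
    (S : Type*) [CommRing S] [Algebra R S] [IsLocalization M S] :
    ringKrullDim S ≤ ringKrullDim R := by
  refine Order.krullDim_le_of_strictMono (PrimeSpectrum.comap (algebraMap R S)) ?_
  intro P Q hPQ
  refine lt_of_le_of_ne ?_ ?_
  · exact Ideal.comap_mono hPQ.le
  · intro h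
    have h' : P.asIdeal.under R = Q.asIdeal.under R :=
      congrArg PrimeSpectrum.asIdeal h
    have h1 : P.asIdeal = Q.asIdeal := by
      rw [← IsLocalization.map_under M S P.asIdeal, h', IsLocalization.map_under M S Q.asIdeal]
    exact hPQ.ne (PrimeSpectrum.ext h1)

variable (B : Type u) [CommRing B] [IsNoetherianRing B] [Nontrivial B]

/-- after inverting a suitable element, the zero-divisors of a Noetherian ring are contained in a
single minimal prime. -/
theorem exists_away_nzd :
    ∃ (g : B) (p : Ideal B), p ∈ minimalPrimes B ∧ g ∉ p ∧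
      ∀ z : Localization.Away g, z ∉ p.map (algebraMap B (Localization.Away g)) →
        z ∈ nonZeroDivisors (Localization.Away g) := by
  classical
  obtain ⟨p, hp⟩ : ∃ p : Ideal B, p ∈ minimalPrimes B := by
    obtain ⟨⟨p, hp⟩⟩ := Ideal.nonempty_minimalPrimes (I := (⊥ : Ideal B)) bot_ne_top
    exact ⟨p, hp⟩
  haveI hpp : p.IsPrime := hp.1.1
  have hfin : (associatedPrimes B B).Finite := associatedPrimes.finite B B
  have hex : ∀ q : Ideal B, q ∈ associatedPrimes B B → q ≠ p → ∃ g : B, g ∈ q ∧ g ∉ p := by
    intro q hq hqp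
    by_contra hcon
    push Not at hcon
    have hle : q ≤ p := hcon
    haveI : q.IsPrime := hq.isPrime
    exact hqp (le_antisymm hle (hp.2 ⟨hq.isPrime, bot_le⟩ hle))
  let gq : Ideal B → B := fun q =>
    if h : q ∈ associatedPrimes B B ∧ q ≠ p then (hex q h.1 h.2).choose else 1
  have hgq1 : ∀ q, gq q ∉ p := by
    intro q
    by_cases h : q ∈ associatedPrimes B B ∧ q ≠ p
    · simp only [gq, dif_pos h]; exact (hex q h.1 h.2).choose_spec.2
    · simp only [gq, dif_neg h]
      exact fun h1 => hpp.ne_top ((Ideal.eq_top_iff_one p).mpr h1)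
  have hgq2 : ∀ q, q ∈ associatedPrimes B B → q ≠ p → gq q ∈ q := by
    intro q hq hqp
    simp only [gq, dif_pos (And.intro hq hqp)]
    exact (hex q hq hqp).choose_spec.1
  let g : B := ∏ q ∈ hfin.toFinset, gq q
  have hg1 : g ∉ p := by
    intro h
    obtain ⟨q, -, hq⟩ := (Ideal.IsPrime.prod_mem_iff).mp h
    exact hgq1 q hq
  have hg2 : ∀ q, q ∈ associatedPrimes B B → q ≠ p → g ∈ q := by
    intro q hq hqp
    exact Ideal.prod_mem q (hfin.mem_toFinset.mpr hq) (hgq2 q hq hqp)
  refine ⟨g, p, hp, hg1, ?_⟩
  intro z hz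
  by_contra hnz
  have h1 : z ∈ (⋃ P ∈ associatedPrimes (Localization.Away g) (Localization.Away g), (P : Set _)) := by
    rw [biUnion_associatedPrimes_eq_compl_nonZeroDivisors]
    exact hnz
  simp only [Set.mem_iUnion] at h1
  obtain ⟨P, hP, hzP⟩ := h1
  haveI : P.IsPrime := hP.isPrime
  have h2 : P.comap (algebraMap B (Localization.Away g)) ∈ associatedPrimes B B := by
    have := Module.associatedPrimes.preimage_comap_associatedPrimes_eq_associatedPrimes_of_isLocalizedModule
      (Submonoid.powers g) (Localization.Away g) (M := B) (M' := Localization.Away g)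
      (Algebra.linearMap B (Localization.Away g))
    rw [← this] at hP
    exact hP
  have h3 : g ∉ P.comap (algebraMap B (Localization.Away g)) := by
    intro hg
    rw [Ideal.mem_comap] at hg
    exact ‹P.IsPrime›.ne_top (Ideal.eq_top_of_isUnit_mem _ hg
      (IsLocalization.map_units _ (⟨g, Submonoid.mem_powers g⟩ : Submonoid.powers g)))
  have h4 : P.comap (algebraMap B (Localization.Away g)) = p := by
    by_contra hne
    exact h3 (hg2 _ h2 hne)
  apply hz
  rw [← h4, ← Ideal.under_def, IsLocalization.map_under (Submonoid.powers g)]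
  exact hzP

end Groth.Agent.H3.CMPt
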