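import Mathlib
import Groth.Agent.Lib.Helper3.CMPt1
import Groth.Agent.Lib.Helper2.QuotRegShift
import Groth.Agent.Lib.Helper6.GrCMCrit3
import Groth.Agent.Lib.Helper6.Liai3
import Groth.Agent.Lib.Helper2.TenCM1

set_option autoImplicit false
universe u
open Function

namespace Groth.Agent.H3.CMPt

/-- localization at a prime of height zero of a Noetherian ring is Cohen–Macaulay. -/
theorem cm_atPrime_of_height_zero {B : Type u} [CommRing B] [IsNoetherianRing B] (n : Ideal B)
    [n.IsPrime] (h : n.height = 0) :
    LocCoh.IsCohenMacaulayLocalRing (Localization.AtPrime n) := by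
  haveI : IsNoetherianRing (Localization.AtPrime n) :=
    IsLocalization.isNoetherianRing n.primeCompl _ inferInstance
  have hd : ringKrullDim (Localization.AtPrime n) = 0 := by
    rw [IsLocalization.AtPrime.ringKrullDim_eq_height n, h]; rfl
  haveI : Ring.KrullDimLE 0 (Localization.AtPrime n) := Ring.krullDimLE_iff.mpr hd.le
  haveI : IsArtinianRing (Localization.AtPrime n) :=
    isArtinianRing_iff_isNoetherianRing_krullDimLE_zero.mpr ⟨‹_›, ‹_›⟩
  exact Groth.Agent.H2.TenCM.cmLocal_of_isArtinianRing _

/-- transfer a Cohen–Macaulay maximal ideal from `B_g` to a Jacobson ring `B`. -/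
theorem exists_of_away {B : Type u} [CommRing B] [IsJacobsonRing B] (g : B)
    (Q : Ideal (Localization.Away g)) (hQ : Q.IsMaximal)
    (hcm : haveI := hQ.isPrime; LocCoh.IsCohenMacaulayLocalRing (Localization.AtPrime Q)) :
    ∃ n : Ideal B, ∃ _ : n.IsMaximal, LocCoh.IsCohenMacaulayLocalRing (Localization.AtPrime n) := by
  haveI := hQ.isPrime
  have h1 := (IsLocalization.isMaximal_iff_isMaximal_disjoint (Localization.Away g) g Q).mp hQ
  refine ⟨Q.comap (algebraMap B (Localization.Away g)), h1.1, ?_⟩
  let e := IsLocalization.localizationLocalizationAtPrimeIsoLocalization (Submonoid.powers g) Q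
  haveI := hcm
  exact Groth.Agent.H6.Liai.cmLocal_of_ringEquiv e.symm.toRingEquiv

/-- lifting Cohen–Macaulayness through a quotient by a regular element. -/
theorem cm_of_quotient_regular {R : Type u} [CommRing R] [IsNoetherianRing R] (f : R)
    (hf : f ∈ nonZeroDivisors R) (P : Ideal (R ⧸ Ideal.span {f})) [P.IsPrime]
    [hcm : LocCoh.IsCohenMacaulayLocalRing (Localization.AtPrime P)] :
    LocCoh.IsCohenMacaulayLocalRing
      (Localization.AtPrime (P.comap (Ideal.Quotient.mk (Ideal.span {f})))) := by
  have hreg : IsSMulRegular R f :=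
    (le_nonZeroDivisors_iff_isRegular.mp (le_refl _) ⟨f, hf⟩).left.isSMulRegular
  obtain ⟨h1, h2⟩ := Groth.Agent.H2.QuotRegShift.depth_dim_of_surjective_regular
    (Ideal.Quotient.mk (Ideal.span {f})) Ideal.Quotient.mk_surjective f Ideal.mk_ker hreg P
  rw [Groth.Agent.H6.GrCM.cmLocal_iff_module] at hcm ⊢
  unfold LocCoh.IsCohenMacaulayModule at hcm ⊢
  rw [h1, h2, hcm]
  push_cast
  rfl

theorem exists_maximal_cm : ∀ (d : ℕ) (B : Type u) [CommRing B] [IsNoetherianRing B]
    [IsJacobsonRing B] [Nontrivial B], ringKrullDim B ≤ d →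
    ∃ n : Ideal B, ∃ _ : n.IsMaximal,
      LocCoh.IsCohenMacaulayLocalRing (Localization.AtPrime n) := by
  intro d
  induction d with
  | zero =>
    intro B _ _ _ _ hd
    obtain ⟨n, hn⟩ := Ideal.exists_maximal B
    haveI := hn.isPrime
    refine ⟨n, hn, cm_atPrime_of_height_zero n ?_⟩
    have h1 := Ideal.height_le_ringKrullDim_of_ne_top hn.ne_top
    have h2 : (n.height : WithBot ℕ∞) ≤ 0 := h1.trans (by simpa using hd)
    have h3 : n.height ≤ 0 := by exact_mod_cast h2
    exact le_antisymm h3 zero_le
  | succ d ih =>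
    intro B _ _ _ _ hd
    obtain ⟨g, p, hp, hgp, hnzd⟩ := exists_away_nzd B
    haveI hpp : p.IsPrime := hp.1.1
    have hdisj : Disjoint (Submonoid.powers g : Set B) (p : Set B) := by
      rwa [Ideal.disjoint_powers_iff_notMem_of_isPrime]
    haveI hp'prime : (p.map (algebraMap B (Localization.Away g))).IsPrime :=
      IsLocalization.isPrime_of_isPrime_disjoint (Submonoid.powers g) _ p hpp hdisj
    haveI : Nontrivial (Localization.Away g) := by
      by_contra hnt
      rw [not_nontrivial_iff_subsingleton] at hnt
      exact hp'prime.ne_top (Subsingleton.elim _ _)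
    haveI : IsNoetherianRing (Localization.Away g) :=
      IsLocalization.isNoetherianRing (Submonoid.powers g) _ inferInstance
    haveI : IsJacobsonRing (Localization.Away g) := isJacobsonRing_localization g
    have hdB' : ringKrullDim (Localization.Away g) ≤ ((d + 1 : ℕ) : WithBot ℕ∞) :=
      (ringKrullDim_le_of_isLocalization (Submonoid.powers g) (Localization.Away g)).trans hd
    suffices hsuff : ∃ Q : Ideal (Localization.Away g), ∃ hQ : Q.IsMaximal,
        (haveI := hQ.isPrime; LocCoh.IsCohenMacaulayLocalRing (Localization.AtPrime Q)) by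
      obtain ⟨Q, hQ, hcm⟩ := hsuff
      exact exists_of_away g Q hQ hcm
    obtain ⟨n', hn'max, hpn'⟩ := Ideal.exists_le_maximal _ hp'prime.ne_top
    by_cases hcase : n' ≤ p.map (algebraMap B (Localization.Away g))
    · have hn'p' : n' = p.map (algebraMap B (Localization.Away g)) := le_antisymm hcase hpn'
      have hmin : p.map (algebraMap B (Localization.Away g)) ∈ minimalPrimes (Localization.Away g) := by
        have h1 := IsLocalization.minimalPrimes_map (Submonoid.powers g) (Localization.Away g)
          (⊥ : Ideal B)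
        rw [Ideal.map_bot] at h1
        change _ ∈ (⊥ : Ideal (Localization.Away g)).minimalPrimes
        rw [h1, Set.mem_preimage,
          IsLocalization.under_map_of_isPrime_disjoint (Submonoid.powers g) _ hpp hdisj]
        exact hp
      refine ⟨n', hn'max, ?_⟩
      haveI := hn'max.isPrime
      apply cm_atPrime_of_height_zero
      rw [Ideal.height_eq_zero_iff, hn'p']
      exact hmin
    · obtain ⟨f, hfn', hfp'⟩ := SetLike.not_le_iff_exists.mp hcase
      have hfnzd := hnzd f hfp'
      haveI : Nontrivial (Localization.Away g ⧸ Ideal.span {f}) := by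
        rw [Ideal.Quotient.nontrivial_iff]
        intro htop
        apply hn'max.ne_top
        rw [eq_top_iff, ← htop, Ideal.span_singleton_le_iff_mem]
        exact hfn'
      have hdC : ringKrullDim (Localization.Away g ⧸ Ideal.span {f}) ≤ (d : WithBot ℕ∞) := by
        have h1 := ringKrullDim_quotient_succ_le_of_nonZeroDivisor hfnzd
        have h2 := h1.trans hdB'
        push_cast at h2
        exact Groth.Agent.H6.CM.withBot_le_of_add_one_le h2
      obtain ⟨P, hPmax, hPcm⟩ := ih (Localization.Away g ⧸ Ideal.span {f}) hdC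
      haveI := hPmax.isPrime
      refine ⟨P.comap (Ideal.Quotient.mk (Ideal.span {f})),
        Ideal.comap_isMaximal_of_surjective _ Ideal.Quotient.mk_surjective, ?_⟩
      exact cm_of_quotient_regular f hfnzd P

end Groth.Agent.H3.CMPt
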