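import Mathlib

set_option autoImplicit false

universe u

open CategoryTheory CategoryTheory.Limits AlgebraicGeometry TopologicalSpace

namespace Groth.Agent.H3.SepCrit

open Scheme

/-- the reduced induced closed subscheme structure is reduced -/
instance isReduced_vanishingIdeal {X : Scheme.{u}} (Z : Closeds X) :
    IsReduced (IdealSheafData.vanishingIdeal Z).subscheme := by
  haveI : ∀ i, IsReduced ((IdealSheafData.vanishingIdeal Z).subschemeCover.openCover.X i) := by
    intro U
    change IsReduced (Spec _)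
    rw [AlgebraicGeometry.affine_isReduced_iff]
    change _root_.IsReduced (Γ(X, U.1) ⧸ (IdealSheafData.vanishingIdeal Z).ideal U)
    rw [← Ideal.isRadical_iff_quotient_reduced, IdealSheafData.vanishingIdeal_ideal]
    exact PrimeSpectrum.isRadical_vanishingIdeal _
  exact IsReduced.of_openCover _ (IdealSheafData.vanishingIdeal Z).subschemeCover.openCover

/-- a morphism from a reduced scheme landing set-theoretically in a closed subscheme factors
through it -/
lemma exists_lift_of_isReduced {X Y Z : Scheme.{u}} (c : X ⟶ Z) [IsClosedImmersion c]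
    (r : Y ⟶ Z) [IsReduced Y] (h : Set.range r ⊆ Set.range c) :
    ∃ l : Y ⟶ X, l ≫ c = r := by
  have H : c.ker ≤ r.ker := by
    have e1 : r.ker = IdealSheafData.vanishingIdeal (.closure (r '' (⊤ : Closeds Y))) := by
      rw [← IdealSheafData.map_vanishingIdeal, IdealSheafData.vanishingIdeal_top,
        Scheme.nilradical_eq_bot, IdealSheafData.map_bot]
    rw [e1, ← IdealSheafData.le_support_iff_le_vanishingIdeal]
    rw [← SetLike.coe_subset_coe, Scheme.Hom.support_ker]
    change closure (r '' Set.univ) ⊆ closure (Set.range c)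
    rw [Set.image_univ]
    exact closure_mono h
  exact ⟨IsClosedImmersion.lift c r H, IsClosedImmersion.lift_fac c r H⟩


variable {X S : Scheme.{u}} (f : X ⟶ S)

lemma isSeparated_iff_isClosed_range_diagonal :
    IsSeparated f ↔ IsClosed (Set.range (pullback.diagonal f)) := by
  constructor
  · intro h
    exact (pullback.diagonal f).isClosedEmbedding.isClosed_range
  · intro h
    exact ⟨IsClosedImmersion.of_isPreimmersion _ h⟩

/-- (i) ⇒ (iii) -/
lemma unique_of_isSeparated [IsSeparated f] (T : Scheme.{u}) [IsReduced T] (g₁ g₂ : T ⟶ X)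
    (U : T.Opens) (h : g₁ ≫ f = g₂ ≫ f) (hU : Dense (U : Set T)) (hg : U.ι ≫ g₁ = U.ι ≫ g₂) :
    g₁ = g₂ := by
  haveI : IsDominant U.ι := ⟨by
    rw [DenseRange, Scheme.Opens.range_ι]; exact hU⟩
  exact ext_of_isDominant_of_isSeparated f h U.ι hg

/-- (iii) ⇒ (i) -/
lemma isSeparated_of_unique
    (H : ∀ (T : Scheme.{u}) [IsReduced T] (g₁ g₂ : T ⟶ X) (U : T.Opens), g₁ ≫ f = g₂ ≫ f →
      Dense (U : Set T) → U.ι ≫ g₁ = U.ι ≫ g₂ → g₁ = g₂) : IsSeparated f := by
  rw [isSeparated_iff_isClosed_range_diagonal]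
  obtain ⟨D, hD⟩ : ∃ D : X ⟶ pullback f f, D = pullback.diagonal f := ⟨_, rfl⟩
  haveI : IsImmersion D := by rw [hD]; infer_instance
  rw [← hD]
  let Z : Closeds ↥(pullback f f) := .closure (Set.range D)
  let I := IdealSheafData.vanishingIdeal Z
  let T := I.subscheme
  let ιT : T ⟶ pullback f f := I.subschemeι
  have hrange : Set.range ιT = closure (Set.range D) := by
    change Set.range I.subschemeι = _
    rw [IdealSheafData.range_subschemeι]
    rfl
  let O := D.coborderRange
  let c : X ⟶ O := D.liftCoborder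
  have hc : c ≫ O.ι = D := D.liftCoborder_ι
  let U : T.Opens := ιT ⁻¹ᵁ O
  let r : (U : Scheme.{u}) ⟶ O := ιT ∣_ O
  have hr : r ≫ O.ι = U.ι ≫ ιT := morphismRestrict_ι ιT O
  -- range r ⊆ range c
  have hrc : Set.range r ⊆ Set.range c := by
    rintro _ ⟨u, rfl⟩
    have h1 : O.ι (r u) ∈ closure (Set.range D) := by
      have : O.ι (r u) = ιT (U.ι u) := by
        have := congrArg (fun φ : (U : Scheme.{u}) ⟶ pullback f f => φ u) hr
        simpa using this
      rw [this, ← hrange]; exact ⟨_, rfl⟩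
    have h2 : O.ι (r u) ∈ coborder (Set.range D) := by
      have : O.ι (r u) ∈ (O : Set ↥(pullback f f)) := by
        have := (r u).2
        simpa using this
      exact this
    have h3 : O.ι (r u) ∈ Set.range D := by
      have := (closure_inter_coborder (s := Set.range D)).le ⟨h1, h2⟩
      exact this
    obtain ⟨x, hx⟩ := h3
    refine ⟨x, ?_⟩
    apply O.ι.isOpenEmbedding.injective
    rw [← hx, ← hc]; simp
  obtain ⟨l, hl⟩ := exists_lift_of_isReduced c r hrc
  -- the two maps
  have hU1 : U.ι ≫ (ιT ≫ pullback.fst f f) = l := by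
    rw [← Category.assoc, ← hr, ← hl, Category.assoc, Category.assoc, reassoc_of% hc, hD,
      pullback.diagonal_fst, Category.comp_id]
  have hU2 : U.ι ≫ (ιT ≫ pullback.snd f f) = l := by
    rw [← Category.assoc, ← hr, ← hl, Category.assoc, Category.assoc, reassoc_of% hc, hD,
      pullback.diagonal_snd, Category.comp_id]
  -- density
  have hdense : Dense (U : Set T) := by
    intro t
    rw [mem_closure_iff]
    intro N hN htN
    obtain ⟨N', hN', rfl⟩ := ιT.isEmbedding.isOpen_iff.mp hN
    have ht : ιT t ∈ closure (Set.range D) := by rw [← hrange]; exact ⟨t, rfl⟩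
    obtain ⟨_, hz1, ⟨x, rfl⟩⟩ := mem_closure_iff.mp ht N' hN' htN
    have hx : D x ∈ Set.range ιT := by rw [hrange]; exact subset_closure ⟨x, rfl⟩
    obtain ⟨t', ht'⟩ := hx
    refine ⟨t', ?_, ?_⟩
    · change ιT t' ∈ N'
      rw [ht']; exact hz1
    · change ιT t' ∈ (O : Set ↥(pullback f f))
      rw [ht']
      exact subset_coborder ⟨x, rfl⟩
  have key := H T (ιT ≫ pullback.fst f f) (ιT ≫ pullback.snd f f) U
    (by rw [Category.assoc, Category.assoc, pullback.condition]) hdense (hU1.trans hU2.symm)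
  -- conclude: ιT factors through the diagonal
  have hfac : (ιT ≫ pullback.fst f f) ≫ D = ιT := by
    rw [hD]
    apply pullback.hom_ext
    · rw [Category.assoc, pullback.diagonal_fst, Category.comp_id]
    · rw [Category.assoc, pullback.diagonal_snd, Category.comp_id, key]
  have hsub : closure (Set.range D) ⊆ Set.range D := by
    rw [← hrange]
    rintro _ ⟨t, rfl⟩
    refine ⟨(ιT ≫ pullback.fst f f) t, ?_⟩
    have := congrArg (fun φ : T ⟶ pullback f f => φ t) hfac
    simpa using this
  exact closure_subset_iff_isClosed.mp hsub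


/-- (iv') ⇒ (i) -/
lemma isSeparated_of_local
    (H : ∀ x₁ x₂ : X, f.base x₁ = f.base x₂ →
      ∃ V : X.Opens, x₁ ∈ V ∧ x₂ ∈ V ∧ IsSeparated (V.ι ≫ f)) : IsSeparated f := by
  rw [isSeparated_iff_isClosed_range_diagonal]
  rw [← closure_subset_iff_isClosed]
  intro z hz
  have hfib : f.base (pullback.fst f f z) = f.base (pullback.snd f f z) := by
    have := congrArg (fun φ : pullback f f ⟶ S => φ z) (pullback.condition (f := f) (g := f))
    simpa using this
  obtain ⟨V, h1, h2, hV⟩ := H _ _ hfib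
  let j : pullback (V.ι ≫ f) (V.ι ≫ f) ⟶ pullback f f :=
    pullback.map (V.ι ≫ f) (V.ι ≫ f) f f V.ι V.ι (𝟙 S) (by simp) (by simp)
  haveI : IsOpenImmersion j := by infer_instance
  have hjrange : Set.range j =
      pullback.fst f f ⁻¹' Set.range V.ι ∩ pullback.snd f f ⁻¹' Set.range V.ι :=
    Scheme.Pullback.range_map _ _ _ _ _ _ _ _ _
  have hzj : z ∈ Set.range j := by
    rw [hjrange, Scheme.Opens.range_ι]
    exact ⟨h1, h2⟩
  obtain ⟨w, rfl⟩ := hzj
  have hDV : pullback.diagonal (V.ι ≫ f) ≫ j = V.ι ≫ pullback.diagonal f := by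
    apply pullback.hom_ext
    · simp only [j, pullback.map, Category.assoc, pullback.lift_fst, pullback.diagonal_fst_assoc,
        pullback.diagonal_fst, Category.comp_id]
    · simp only [j, pullback.map, Category.assoc, pullback.lift_snd, pullback.diagonal_snd_assoc,
        pullback.diagonal_snd, Category.comp_id]
  have hw : w ∈ closure (Set.range (pullback.diagonal (V.ι ≫ f))) := by
    rw [mem_closure_iff]
    intro M hM hwM
    have hjM : IsOpen (j '' M) := j.isOpenEmbedding.isOpenMap M hM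
    obtain ⟨_, ⟨m, hm, rfl⟩, ⟨x, hx⟩⟩ := mem_closure_iff.mp hz (j '' M) hjM ⟨w, hwM, rfl⟩
    -- x ∈ V
    have hxV : x ∈ V := by
      have h3 : pullback.fst f f (j m) ∈ Set.range V.ι := by
        have : j m ∈ Set.range j := ⟨m, rfl⟩
        rw [hjrange] at this
        exact this.1
      rw [Scheme.Opens.range_ι] at h3
      have h4 : pullback.fst f f (j m) = x := by
        rw [← hx, ← Scheme.Hom.comp_apply, pullback.diagonal_fst]
        rfl
      rw [h4] at h3
      exact h3
    refine ⟨m, hm, ⟨⟨x, hxV⟩, ?_⟩⟩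
    apply j.isOpenEmbedding.injective
    have := congrArg (fun φ : (V : Scheme.{u}) ⟶ pullback f f => φ ⟨x, hxV⟩) hDV
    simp only [Scheme.Hom.comp_apply] at this
    rw [this, ← hx]
    rfl
  have hcl : IsClosed (Set.range (pullback.diagonal (V.ι ≫ f))) :=
    (pullback.diagonal (V.ι ≫ f)).isClosedEmbedding.isClosed_range
  rw [hcl.closure_eq] at hw
  obtain ⟨v, rfl⟩ := hw
  refine ⟨V.ι v, ?_⟩
  have := congrArg (fun φ : (V : Scheme.{u}) ⟶ pullback f f => φ v) hDV
  simp only [Scheme.Hom.comp_apply] at this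
  exact this.symm

theorem main (X S : Scheme.{u}) (f : X ⟶ S) :
    (IsSeparated f ↔ ∀ (T : Scheme.{u}) [IsReduced T] (g₁ g₂ : T ⟶ X) (U : T.Opens), g₁ ≫ f = g₂ ≫ f →
      Dense (U : Set T) → U.ι ≫ g₁ = U.ι ≫ g₂ → g₁ = g₂) ∧
    (IsSeparated f ↔ ∀ x₁ x₂ : X, f.base x₁ = f.base x₂ →
      ∃ V : X.Opens, x₁ ∈ V ∧ x₂ ∈ V ∧ IsSeparated (V.ι ≫ f)) := by
  refine ⟨⟨fun h T _ g₁ g₂ U hg hU hgU => unique_of_isSeparated f T g₁ g₂ U hg hU hgU,
    isSeparated_of_unique f⟩, ⟨fun h x₁ x₂ _ => ⟨⊤, trivial, trivial, inferInstance⟩,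
    isSeparated_of_local f⟩⟩

end Groth.Agent.H3.SepCrit
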