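import Groth.Agent.Lib.Helper3.FBaseDim
import Groth.Agent.Lib.Helper1.GenFibDim1
import Groth.Prelude.Def_EGA4Misc

/-!
# `dim ∈ Φ` is a constructible property of algebraic schemes (S5888)
-/

set_option autoImplicit false

universe u

open CategoryTheory Limits AlgebraicGeometry TopologicalSpace Opposite

namespace Groth.Agent.H3.ConsDim

/-- a one-point integral scheme is affine -/
theorem isAffine_of_subsingleton (T : Scheme.{u}) [IsIntegral T] [Subsingleton T] : IsAffine T := by
  obtain ⟨x⟩ : Nonempty T := inferInstance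
  obtain ⟨U, hU, hxU⟩ : ∃ U : T.Opens, IsAffineOpen U ∧ x ∈ U := by
    obtain ⟨_, ⟨U, hU, rfl⟩, hz, -⟩ :=
      T.isBasis_affineOpens.exists_subset_of_mem_open (Set.mem_univ x) isOpen_univ
    exact ⟨U, hU, hz⟩
  have hUtop : U = ⊤ := by
    rw [eq_top_iff]
    intro y _
    rw [Subsingleton.elim y x]
    exact hxU
  subst hUtop
  haveI : IsAffine (⊤ : T.Opens).toScheme := hU
  exact .of_isIso (Scheme.topIso T).inv

/-- the ring of global sections of a one-point integral scheme is a field -/
theorem isField_of_subsingleton (T : Scheme.{u}) [IsIntegral T] [Subsingleton T] :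
    IsField Γ(T, ⊤) := by
  haveI := isAffine_of_subsingleton T
  by_contra hne
  obtain ⟨p, hp0, hp⟩ := Ring.not_isField_iff_exists_prime.mp hne
  have e : T ≃ₜ PrimeSpectrum Γ(T, ⊤) := Scheme.homeoOfIso T.isoSpec
  haveI : Subsingleton (PrimeSpectrum Γ(T, ⊤)) := e.symm.injective.subsingleton
  have h1 : (⟨p, hp⟩ : PrimeSpectrum Γ(T, ⊤)) = ⟨⊥, Ideal.isPrime_bot⟩ := Subsingleton.elim _ _
  exact hp0 (congrArg PrimeSpectrum.asIdeal h1)

/-- dimension is invariant under extension of the base field, for abstract one-point bases -/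
theorem dim_eq_of_isPullback {Y Y' T T' : Scheme.{u}} (g : Y ⟶ T) (g' : Y' ⟶ T') (e : Y' ⟶ Y)
    (h : T' ⟶ T) [IsIntegral T] [Subsingleton T] [IsIntegral T'] [Subsingleton T']
    [LocallyOfFiniteType g] (sq : IsPullback e g' g h) :
    topologicalKrullDim ↥Y' = topologicalKrullDim ↥Y := by
  haveI := isAffine_of_subsingleton T
  haveI := isAffine_of_subsingleton T'
  letI : Field ↑Γ(T, ⊤) := (isField_of_subsingleton T).toField
  letI : Field ↑Γ(T', ⊤) := (isField_of_subsingleton T').toField
  have hnat : h ≫ T.isoSpec.hom = T'.isoSpec.hom ≫ Spec.map h.appTop :=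
    (Scheme.isoSpec_hom_naturality h).symm
  have low : IsPullback h T'.isoSpec.hom T.isoSpec.hom (Spec.map h.appTop) :=
    IsPullback.of_vert_isIso ⟨hnat⟩
  have big := sq.paste_vert low
  exact Groth.Agent.H3.FBaseDim.dim_of_isPullback_field (K := ↑Γ(T, ⊤)) (L := ↑Γ(T', ⊤))
    h.appTop (g ≫ T.isoSpec.hom) (g' ≫ T'.isoSpec.hom) e big

/-- S5888 -/
theorem isCons_dim_mem (Φ : Set (WithBot ℕ∞)) :
    ConsProp.IsCons (fun Y T g => topologicalKrullDim ↥Y ∈ Φ) := by
  constructor
  · intro Y Y' T T' g g' e h _ _ _ _ _ _ sq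
    change topologicalKrullDim ↥Y ∈ Φ ↔ topologicalKrullDim ↥Y' ∈ Φ
    rw [dim_eq_of_isPullback g g' e h sq]
  · intro X S u _ _ _ _
    obtain ⟨V, hηV, hV⟩ := Groth.Agent.H1.GenFib.exists_open_forall_fiber_dim_eq u
    by_cases hΦ : topologicalKrullDim (u.fiber (genericPoint S)) ∈ Φ
    · left
      refine ⟨genericPoint S, ?_⟩
      apply interior_maximal _ V.isOpen hηV
      intro y hy
      change topologicalKrullDim ↥(u.fiber y) ∈ Φ
      rw [hV y hy]
      exact hΦ
    · right
      refine ⟨genericPoint S, ?_⟩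
      apply interior_maximal _ V.isOpen hηV
      intro y hy hmem
      apply hΦ
      rw [← hV y hy]
      exact hmem

end Groth.Agent.H3.ConsDim
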