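import Mathlib

set_option autoImplicit false

open Topology TopologicalSpace Set

namespace Groth.Agent.H3.DimMap

variable {X Y : Type*} [TopologicalSpace X] [TopologicalSpace Y]

/-- locally Noetherian topological spaces -/
def LocNoeth (X : Type*) [TopologicalSpace X] : Prop :=
  ∀ x : X, ∃ U : Set X, IsOpen U ∧ x ∈ U ∧ NoetherianSpace U

/-- relative irreducible components -/
def IsComp (T W : Set X) : Prop :=
  IsIrreducible W ∧ W ⊆ T ∧ ∀ W', IsIrreducible W' → W' ⊆ T → W ⊆ W' → W' ⊆ W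

lemma exists_isComp (T V : Set X) (hV : IsIrreducible V) (hVT : V ⊆ T) :
    ∃ W, IsComp T W ∧ V ⊆ W := by
  obtain ⟨m, hsm, hm⟩ :=
    zorn_subset_nonempty { t : Set X | IsPreirreducible t ∧ t ⊆ T }
      (fun c hc hcc _ =>
        ⟨⋃₀ c, ⟨fun u v hu hv ⟨y, hy, hyu⟩ ⟨x, hx, hxv⟩ =>
          let ⟨p, hpc, hyp⟩ := mem_sUnion.1 hy
          let ⟨q, hqc, hxq⟩ := mem_sUnion.1 hx
          Or.casesOn (hcc.total hpc hqc)
            (fun hpq : p ⊆ q =>
              let ⟨x, hxp, hxuv⟩ := (hc hqc).1 u v hu hv ⟨y, hpq hyp, hyu⟩ ⟨x, hxq, hxv⟩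
              ⟨x, mem_sUnion_of_mem hxp hqc, hxuv⟩)
            fun hqp : q ⊆ p =>
            let ⟨x, hxp, hxuv⟩ := (hc hpc).1 u v hu hv ⟨y, hyp, hyu⟩ ⟨x, hqp hxq, hxv⟩
            ⟨x, mem_sUnion_of_mem hxp hpc, hxuv⟩, sUnion_subset fun t ht => (hc ht).2⟩,
          fun _ hxc => subset_sUnion_of_mem hxc⟩)
      V ⟨hV.isPreirreducible, hVT⟩
  refine ⟨m, ⟨⟨hV.nonempty.mono hsm, hm.prop.1⟩, hm.prop.2, fun W' hW' hW'T hmW' => ?_⟩, hsm⟩
  exact (hm.eq_of_subset ⟨hW'.isPreirreducible, hW'T⟩ hmW').symm.subset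

lemma IsComp.isClosed {T W : Set X} (hT : IsClosed T) (h : IsComp T W) : IsClosed W := by
  rw [← closure_eq_iff_isClosed]
  exact (h.2.2 _ h.1.closure (closure_minimal h.2.1 hT) subset_closure).antisymm subset_closure

/-- a relative irreducible component of a closed subset of a locally Noetherian space contains a
nonempty relatively open subset -/
lemma IsComp.exists_open (hX : LocNoeth X) {T W : Set X} (hT : IsClosed T) (h : IsComp T W) :
    ∃ O : Set X, IsOpen O ∧ (O ∩ T).Nonempty ∧ O ∩ T ⊆ W := by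
  classical
  obtain ⟨w, hw⟩ := h.1.nonempty
  obtain ⟨N, hNo, hwN, hNn⟩ := hX w
  obtain ⟨S, hSf, hSc, hSi, hSU⟩ :=
    NoetherianSpace.exists_finite_set_isClosed_irreducible (α := ↥N)
      (s := Subtype.val ⁻¹' T) (hT.preimage continuous_subtype_val)
  -- the closures in `X` of the pieces
  let c : Set ↥N → Set X := fun t => closure (Subtype.val '' t)
  have hc_irr : ∀ t ∈ S, IsIrreducible (c t) := fun t ht =>
    ((hSi t ht).image _ continuous_subtype_val.continuousOn).closure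
  have hc_T : ∀ t ∈ S, c t ⊆ T := fun t ht => closure_minimal (by
    rintro _ ⟨x, hx, rfl⟩
    have : x ∈ Subtype.val ⁻¹' T := by rw [hSU]; exact ⟨t, ht, hx⟩
    exact this) hT
  let S' : Set (Set ↥N) := {t ∈ S | ¬ c t ⊆ W}
  have hS'f : S'.Finite := hSf.subset (fun t ht => ht.1)
  have hclosed : IsClosed (⋃ t ∈ S', c t) := hS'f.isClosed_biUnion fun t _ => isClosed_closure
  have hNT : ∀ x ∈ N ∩ T, x ∉ (⋃ t ∈ S', c t) → x ∈ W := by
    rintro x ⟨hxN, hxT⟩ hx
    have : (⟨x, hxN⟩ : ↥N) ∈ Subtype.val ⁻¹' T := hxT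
    rw [hSU] at this
    obtain ⟨t, ht, hxt⟩ := this
    have hxc : x ∈ c t := subset_closure ⟨⟨x, hxN⟩, hxt, rfl⟩
    by_cases hcW : c t ⊆ W
    · exact hcW hxc
    · exact absurd (mem_biUnion (show t ∈ S' from ⟨ht, hcW⟩) hxc) hx
  refine ⟨N ∩ (⋃ t ∈ S', c t)ᶜ, hNo.inter hclosed.isOpen_compl, ?_, ?_⟩
  · by_contra hne
    rw [not_nonempty_iff_eq_empty] at hne
    have h1 : W ∩ N ⊆ ⋃ t ∈ S', c t := by
      rintro x ⟨hxW, hxN⟩
      by_contra hx
      have : x ∈ (N ∩ (⋃ t ∈ S', c t)ᶜ) ∩ T := ⟨⟨hxN, hx⟩, h.2.1 hxW⟩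
      rw [hne] at this
      exact this
    have h2 : W ⊆ ⋃ t ∈ S', c t :=
      (subset_closure_inter_of_isPreirreducible_of_isOpen h.1.isPreirreducible hNo
        ⟨w, hw, hwN⟩).trans (closure_minimal h1 hclosed)
    lift S' to Finset (Set ↥N) using hS'f with S'' hS''
    have h3 : W ⊆ ⋃₀ (↑(S''.image c) : Set (Set X)) := by
      intro x hx
      obtain ⟨t, ht, hxt⟩ := mem_iUnion₂.1 (h2 hx)
      exact ⟨c t, by simpa using ⟨t, ht, rfl⟩, hxt⟩
    obtain ⟨z, hz, hWz⟩ := isIrreducible_iff_sUnion_isClosed.1 h.1 (S''.image c) (by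
      intro z hz
      obtain ⟨t, -, rfl⟩ := Finset.mem_image.1 hz
      exact isClosed_closure) h3
    obtain ⟨t, ht, rfl⟩ := Finset.mem_image.1 hz
    have htS' : t ∈ {t ∈ S | ¬ c t ⊆ W} := by
      have : t ∈ (↑S'' : Set (Set ↥N)) := ht
      rwa [hS''] at this
    exact htS'.2 (h.2.2 _ (hc_irr t htS'.1) (hc_T t htS'.1) hWz)
  · rintro x ⟨⟨hxN, hx⟩, hxT⟩
    exact hNT x ⟨hxN, hxT⟩ hx

lemma IsComp.closure_image (hX : LocNoeth X) {f : X → Y} (hc : Continuous f) (ho : IsOpenMap f)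
    {Z : Set Y} (hZ : IsIrreducible Z) (hZc : IsClosed Z) {W : Set X}
    (h : IsComp (f ⁻¹' Z) W) : closure (f '' W) = Z := by
  apply subset_antisymm (closure_minimal (image_subset_iff.2 h.2.1) hZc)
  obtain ⟨O, hO, hne, hOW⟩ := h.exists_open hX (hZc.preimage hc)
  have h1 : (Z ∩ f '' O).Nonempty := by
    obtain ⟨x, hxO, hxT⟩ := hne
    exact ⟨f x, hxT, x, hxO, rfl⟩
  refine (subset_closure_inter_of_isPreirreducible_of_isOpen hZ.isPreirreducible (ho O hO) h1).trans
    (closure_mono ?_)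
  rintro _ ⟨hyZ, x, hxO, rfl⟩
  exact ⟨x, hOW ⟨hxO, hyZ⟩, rfl⟩

/-- the general principle: lifting chains bounds the dimension -/
theorem dim_le_of_lift (f : X → Y)
    (H : ∀ p : LTSeries (IrreducibleCloseds Y), ∃ W : ℕ → IrreducibleCloseds X,
      (∀ i, W i ≤ W (i + 1)) ∧ ∀ i (hi : i ≤ p.length),
        closure (f '' (W i : Set X)) = (p ⟨i, Nat.lt_succ_of_le hi⟩ : Set Y)) :
    topologicalKrullDim Y ≤ topologicalKrullDim X := by
  unfold topologicalKrullDim Order.krullDim
  refine iSup_le fun p => ?_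
  obtain ⟨W, hmono, himg⟩ := H p
  have hstrict : StrictMono (fun i : Fin (p.length + 1) => W i.val) := by
    rw [Fin.strictMono_iff_lt_succ]
    intro i
    refine lt_of_le_of_ne (hmono i.val) fun heq => ?_
    have h1 := himg i.val (Nat.le_of_lt i.isLt)
    have h2 := himg (i.val + 1) i.isLt
    have heq' : W i.val = W (i.val + 1) := heq
    rw [heq', h2] at h1
    have hlt : p ⟨i.val, Nat.lt_succ_of_le (Nat.le_of_lt i.isLt)⟩ < p ⟨i.val + 1, Nat.lt_succ_of_le i.isLt⟩ :=
      p.strictMono (by simp [Fin.lt_def])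
    exact hlt.ne (SetLike.coe_injective h1.symm)
  exact le_iSup_of_le (LTSeries.mk p.length _ hstrict) le_rfl

section OpenCase

variable (hX : LocNoeth X) (f : X → Y) (hc : Continuous f) (ho : IsOpenMap f)
  (hs : Function.Surjective f) (p : LTSeries (IrreducibleCloseds Y))

/-- the clamped chain -/
def Zs (i : ℕ) : IrreducibleCloseds Y := p ⟨min i p.length, Nat.lt_succ_of_le (min_le_right _ _)⟩

lemma Zs_mono (i : ℕ) : Zs p i ≤ Zs p (i + 1) :=
  p.strictMono.monotone (by simp only [Fin.le_def]; omega)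

lemma Zs_eq (i : ℕ) (hi : i ≤ p.length) : Zs p i = p ⟨i, Nat.lt_succ_of_le hi⟩ := by
  unfold Zs
  congr 1
  ext
  simp [hi]

include hs in
lemma exists_start : ∃ W, IsComp (f ⁻¹' (Zs p 0 : Set Y)) W := by
  obtain ⟨y, hy⟩ := (Zs p 0).isIrreducible'.nonempty
  obtain ⟨x, rfl⟩ := hs y
  obtain ⟨W, hW, -⟩ := exists_isComp (f ⁻¹' (Zs p 0 : Set Y)) {x} isIrreducible_singleton
    (singleton_subset_iff.2 hy)
  exact ⟨W, hW⟩

lemma exists_next (i : ℕ) (W : Set X) (hW : IsComp (f ⁻¹' (Zs p i : Set Y)) W) :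
    ∃ W', IsComp (f ⁻¹' (Zs p (i + 1) : Set Y)) W' ∧ W ⊆ W' :=
  exists_isComp _ W hW.1 (hW.2.1.trans (preimage_mono (Zs_mono p i)))

/-- the lifted chain, as sets -/
noncomputable def Wseq : ∀ i : ℕ, {W : Set X // IsComp (f ⁻¹' (Zs p i : Set Y)) W}
  | 0 => ⟨(exists_start f hs p).choose, (exists_start f hs p).choose_spec⟩
  | i + 1 => ⟨(exists_next f p i (Wseq i).1 (Wseq i).2).choose,
      (exists_next f p i (Wseq i).1 (Wseq i).2).choose_spec.1⟩

lemma Wseq_mono (i : ℕ) : (Wseq f hs p i).1 ⊆ (Wseq f hs p (i + 1)).1 :=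
  (exists_next f p i (Wseq f hs p i).1 (Wseq f hs p i).2).choose_spec.2

include hX hc ho hs in
theorem dim_le_of_open : topologicalKrullDim Y ≤ topologicalKrullDim X := by
  apply dim_le_of_lift f
  intro p
  refine ⟨fun i => ⟨(Wseq f hs p i).1, (Wseq f hs p i).2.1,
    (Wseq f hs p i).2.isClosed ((Zs p i).isClosed'.preimage hc)⟩, fun i => Wseq_mono f hs p i,
    fun i hi => ?_⟩
  rw [← Zs_eq p i hi]
  exact (Wseq f hs p i).2.closure_image hX hc ho (Zs p i).isIrreducible' (Zs p i).isClosed'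

end OpenCase

section ClosedCase

variable [QuasiSober Y] (f : X → Y) (hc : Continuous f) (hcl : IsClosedMap f)
  (hs : Function.Surjective f) (p : LTSeries (IrreducibleCloseds Y))

/-- the reversed chain -/
def Zr (i : ℕ) : IrreducibleCloseds Y := p ⟨p.length - i, Nat.lt_succ_of_le (Nat.sub_le _ _)⟩

lemma Zr_anti (i : ℕ) : Zr p (i + 1) ≤ Zr p i :=
  p.strictMono.monotone (by simp only [Fin.le_def]; omega)

/-- generic points of the reversed chain -/
noncomputable def η (i : ℕ) : Y := (Zr p i).isIrreducible'.genericPoint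

lemma closure_η (i : ℕ) : closure {η p i} = (Zr p i : Set Y) :=
  ((Zr p i).isIrreducible'.isGenericPoint_genericPoint (Zr p i).isClosed').def

lemma η_spec (i : ℕ) : η p i ⤳ η p (i + 1) := by
  rw [specializes_iff_mem_closure, closure_η]
  apply Zr_anti p i
  change η p (i + 1) ∈ (Zr p (i + 1) : Set Y)
  rw [← closure_η]
  exact subset_closure rfl

include hcl in
lemma exists_next_pt (i : ℕ) (x : X) (hx : f x = η p i) :
    ∃ x', x ⤳ x' ∧ f x' = η p (i + 1) :=
  hcl.specializingMap (by rw [hx]; exact η_spec p i)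

/-- the lifted points -/
noncomputable def ζ : ∀ i : ℕ, {x : X // f x = η p i}
  | 0 => ⟨(hs (η p 0)).choose, (hs (η p 0)).choose_spec⟩
  | i + 1 => ⟨(exists_next_pt f hcl p i (ζ i).1 (ζ i).2).choose,
      (exists_next_pt f hcl p i (ζ i).1 (ζ i).2).choose_spec.2⟩

lemma ζ_spec (i : ℕ) : (ζ f hcl hs p i).1 ⤳ (ζ f hcl hs p (i + 1)).1 :=
  (exists_next_pt f hcl p i (ζ f hcl hs p i).1 (ζ f hcl hs p i).2).choose_spec.1

include hc hcl hs in
theorem dim_le_of_closed : topologicalKrullDim Y ≤ topologicalKrullDim X := by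
  apply dim_le_of_lift f
  intro p
  refine ⟨fun i => ⟨closure {(ζ f hcl hs p (p.length - i)).1}, isIrreducible_singleton.closure,
    isClosed_closure⟩, fun i => ?_, fun i hi => ?_⟩
  · change closure {(ζ f hcl hs p (p.length - i)).1} ⊆ closure {(ζ f hcl hs p (p.length - (i + 1))).1}
    by_cases h : i < p.length
    · have e : p.length - i = (p.length - (i + 1)) + 1 := by omega
      rw [e]
      exact closure_minimal (singleton_subset_iff.2 (ζ_spec f hcl hs p _).mem_closure)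
        isClosed_closure
    · have e : p.length - i = p.length - (i + 1) := by omega
      rw [e]
  · change closure (f '' closure {(ζ f hcl hs p (p.length - i)).1}) = _
    rw [closure_image_closure hc, image_singleton, (ζ f hcl hs p (p.length - i)).2, closure_η]
    unfold Zr
    congr 2
    ext
    simp only
    omega

end ClosedCase

/-- closed maps with no specializations in the fibres do not lower the dimension -/
theorem dim_le_of_incomparable [QuasiSober X] (g : X → Y) (hc : Continuous g)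
    (hcl : IsClosedMap g) (hinc : ∀ x x' : X, x' ⤳ x → g x' = g x → x' = x) :
    topologicalKrullDim X ≤ topologicalKrullDim Y := by
  unfold topologicalKrullDim
  refine Order.krullDim_le_of_strictMono (fun W : IrreducibleCloseds X =>
    (⟨g '' (W : Set X), W.isIrreducible'.image g hc.continuousOn, hcl _ W.isClosed'⟩ :
      IrreducibleCloseds Y)) ?_
  intro W W' hlt
  refine lt_of_le_of_ne (image_mono (show (W : Set X) ⊆ W' from hlt.le)) fun heq => ?_
  have heq' : g '' (W : Set X) = g '' (W' : Set X) := congrArg IrreducibleCloseds.carrier heq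
  have hgen : closure {W'.isIrreducible'.genericPoint} = (W' : Set X) :=
    (W'.isIrreducible'.isGenericPoint_genericPoint W'.isClosed').def
  have hmem : W'.isIrreducible'.genericPoint ∈ (W' : Set X) := by
    rw [← hgen]; exact subset_closure rfl
  obtain ⟨w, hwW, hw⟩ : g W'.isIrreducible'.genericPoint ∈ g '' (W : Set X) := by
    rw [heq']; exact ⟨_, hmem, rfl⟩
  have hsp : W'.isIrreducible'.genericPoint ⤳ w := by
    rw [specializes_iff_mem_closure, hgen]
    exact hlt.le hwW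
  have := hinc w _ hsp hw.symm
  have hle : (W' : Set X) ⊆ W := by
    rw [← hgen, this]
    exact closure_minimal (singleton_subset_iff.2 hwW) W.isClosed'
  exact hlt.not_ge hle

end Groth.Agent.H3.DimMap
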