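import Mathlib
import Groth.Agent.Lib.Helper3.DimMap

set_option autoImplicit false

universe u

open Topology TopologicalSpace Set AlgebraicGeometry CategoryTheory

namespace Groth.Agent.H3.DimSch

open Groth.Agent.H3.DimMap

variable {X Y : Scheme.{u}}

lemma locNoeth [IsLocallyNoetherian X] : LocNoeth X := by
  intro x
  obtain ⟨U, hU, hx, -⟩ := exists_isAffineOpen_mem_and_subset (x := x) (U := ⊤) trivial
  haveI : IsNoetherianRing Γ(X, U) := IsLocallyNoetherian.component_noetherian ⟨U, hU⟩
  exact ⟨U, U.isOpen, hx, noetherianSpace_of_isAffineOpen U hU⟩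

theorem dim_le (f : X ⟶ Y) [IsLocallyNoetherian X]
    (hs : Function.Surjective f.base) (h : IsOpenMap f.base ∨ IsClosedMap f.base) :
    topologicalKrullDim Y ≤ topologicalKrullDim X := by
  rcases h with h | h
  · exact dim_le_of_open locNoeth f.base f.continuous h hs
  · exact dim_le_of_closed f.base f.continuous h hs

/-- no specializations in the fibres of a finite morphism -/
lemma hinc_of_isFinite (f : X ⟶ Y) [IsFinite f] (x x' : X) (hsp : x' ⤳ x)
    (he : f.base x' = f.base x) : x' = x := by
  have hd : _root_.IsDiscrete (f.base ⁻¹' {f.base x}) := f.isDiscrete_preimage_singleton (f.base x)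
  haveI : DiscreteTopology ↥(f.base ⁻¹' {f.base x}) := hd.to_subtype
  let a : ↥(f.base ⁻¹' {f.base x}) := ⟨x, rfl⟩
  let a' : ↥(f.base ⁻¹' {f.base x}) := ⟨x', he⟩
  have : a' ⤳ a := by
    exact (Topology.IsInducing.subtypeVal.specializes_iff (x := a') (y := a)).1 hsp
  exact congrArg Subtype.val this.eq

theorem dim_eq_of_isFinite (f : X ⟶ Y) [IsFinite f] :
    topologicalKrullDim X = topologicalKrullDim (Set.range f.base) ∧
      (Function.Surjective f.base → topologicalKrullDim X = topologicalKrullDim Y) := by
  have hcl : IsClosedMap f.base := f.isClosedMap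
  refine ⟨?_, fun hs => le_antisymm
    (dim_le_of_incomparable f.base f.continuous hcl (hinc_of_isFinite f))
    (dim_le_of_closed f.base f.continuous hcl hs)⟩
  let r : X → ↥(Set.range f.base) := Set.rangeFactorization f.base
  have hrc : Continuous r := f.continuous.subtype_mk _
  have hrs : Function.Surjective r := Set.rangeFactorization_surjective
  have hrcl : IsClosedMap r := by
    intro C hC
    have : r '' C = Subtype.val ⁻¹' (f.base '' C) := by
      ext ⟨y, hy⟩
      constructor
      · rintro ⟨c, hc, h⟩
        exact ⟨c, hc, congrArg Subtype.val h⟩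
      · rintro ⟨c, hc, h⟩
        exact ⟨c, hc, Subtype.ext h⟩
    rw [this]
    exact (hcl C hC).preimage continuous_subtype_val
  have hrange : IsClosed (Set.range f.base) := hcl.isClosed_range
  haveI : QuasiSober ↥(Set.range f.base) :=
    (hrange.isClosedEmbedding_subtypeVal).quasiSober
  refine le_antisymm (dim_le_of_incomparable r hrc hrcl ?_) (dim_le_of_closed r hrc hrcl hrs)
  intro x x' hsp he
  exact hinc_of_isFinite f x x' hsp (congrArg Subtype.val he)

end Groth.Agent.H3.DimSch
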