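import Groth.Agent.Lib.Helper3.FibDimIrr2
import Groth.Agent.Lib.Helper1.ClosedDim
import Groth.Agent.Lib.Helper1.EquiDim
import Groth.Agent.Lib.Lead.QC.CartierHeight

/-!
# Dimension of the zero locus of a function (S4714)
-/

set_option autoImplicit false

universe u

open CategoryTheory Limits AlgebraicGeometry TopologicalSpace Opposite

namespace Groth.Agent.H3.ZeroLocDim

open Groth.Agent.H1.DimIneq Groth.Agent.H1.DimFormula Groth.Agent.H3.FibDimIrr

variable {k : Type u} [Field k]

theorem add_one_le_of_lt {a b : WithBot ℕ∞} (h : a < b) : a + 1 ≤ b := by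
  induction a with
  | bot => rw [WithBot.bot_add]; exact bot_le
  | coe a =>
    induction b with
    | bot => simp at h
    | coe b =>
      have h' : a < b := by exact_mod_cast h
      have : a + 1 ≤ b := Order.add_one_le_of_lt h'
      exact_mod_cast this

/-- a hypersurface in an irreducible scheme locally of finite type over a field has a component
of codimension one through every one of its points -/
theorem exists_hypersurface_point {T : Scheme.{u}} (g : T ⟶ Spec (CommRingCat.of k))
    [LocallyOfFiniteType g] [IrreducibleSpace T]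
    (a : Γ(T, ⊤)) (y : T) (hy : y ∉ T.basicOpen a) (hgen : genericPoint T ∈ T.basicOpen a) :
    ∃ w : T, w ∉ T.basicOpen a ∧ w ⤳ y ∧
      topologicalKrullDim ↥(closure ({w} : Set T)) + 1 = topologicalKrullDim T := by
  haveI : IsLocallyNoetherian T := LocallyOfFiniteType.isLocallyNoetherian g
  obtain ⟨U, hU, hyU⟩ : ∃ U : T.Opens, IsAffineOpen U ∧ y ∈ U := by
    obtain ⟨_, ⟨U, hU, rfl⟩, hz, -⟩ :=
      T.isBasis_affineOpens.exists_subset_of_mem_open (Set.mem_univ y) isOpen_univ
    exact ⟨U, hU, hz⟩
  haveI : IsNoetherianRing Γ(T, U) := IsLocallyNoetherian.component_noetherian ⟨U, hU⟩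
  set aU : Γ(T, U) := T.presheaf.map (homOfLE le_top).op a with haU
  have hbo : T.basicOpen aU = U ⊓ T.basicOpen a := Scheme.basicOpen_res _ _ _
  have haq : aU ∈ (hU.primeIdealOf ⟨y, hyU⟩).asIdeal := by
    rw [Groth.Agent.LD.QC.mem_primeIdealOf_iff hU y hyU, hbo]
    exact fun h => hy h.2
  obtain ⟨p, hp, hpq⟩ := Ideal.exists_minimalPrimes_le
    (I := Ideal.span {aU}) (J := (hU.primeIdealOf ⟨y, hyU⟩).asIdeal)
    ((Ideal.span_singleton_le_iff_mem _).mpr haq)
  haveI : p.IsPrime := hp.1.1
  set P : Spec Γ(T, U) := ⟨p, inferInstance⟩ with hP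
  set w : T := hU.fromSpec P with hw
  have hwU : w ∈ U := by
    rw [← SetLike.mem_coe, ← hU.range_fromSpec]; exact ⟨P, rfl⟩
  have hprime : hU.primeIdealOf ⟨w, hwU⟩ = P := primeIdealOf_fromSpec hU P hwU
  have hwa : w ∉ T.basicOpen a := by
    have h1 : aU ∈ (hU.primeIdealOf ⟨w, hwU⟩).asIdeal := by
      rw [hprime]
      exact hp.1.2 (Ideal.subset_span (Set.mem_singleton aU))
    rw [Groth.Agent.LD.QC.mem_primeIdealOf_iff hU w hwU, hbo] at h1
    exact fun h => h1 ⟨hwU, h⟩
  have hspec : w ⤳ y := by
    have h1 : P ⤳ hU.primeIdealOf ⟨y, hyU⟩ :=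
      (PrimeSpectrum.le_iff_specializes (R := Γ(T, U)) P (hU.primeIdealOf ⟨y, hyU⟩)).1 hpq
    have := h1.map hU.fromSpec.continuous
    rwa [hU.fromSpec_primeIdealOf] at this
  refine ⟨w, hwa, hspec, ?_⟩
  -- the local ring at `w` has dimension one
  have hht : p.height ≤ 1 := Ideal.height_le_one_of_isPrincipal_of_mem_minimalPrimes _ p hp
  have hdim : ringKrullDim (T.presheaf.stalk w) = 1 := by
    have h1 : ringKrullDim (T.presheaf.stalk w) = ((p.height : ℕ∞) : WithBot ℕ∞) := by
      rw [ringKrullDim_stalk_eq_height hU w hwU, hprime]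
    apply le_antisymm
    · rw [h1]
      exact_mod_cast hht
    · apply one_le_of_ne_zero ringKrullDim_nonneg_of_nontrivial
      intro h0
      have := eq_of_specializes_of_stalk_dim_eq_zero w (genericPoint T) h0
        (genericPoint_specializes w)
      rw [this] at hgen
      exact hwa hgen
  obtain ⟨t, ht, h1⟩ := exists_localDim_eq_stalk_add_trdeg g w
  obtain ⟨t', ht', h2⟩ := Groth.Agent.H1.ClosureDim.exists_trdeg_eq_dim_closure g w
  have htt : t = t' := by
    have := ht.symm.trans ht'
    exact_mod_cast this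
  rw [h2, ← Groth.Agent.H1.EquiDim.localDim_eq_dim g w, h1, hdim, htt, add_comm]

/-- S4714 -/
theorem dim_zeroLocus_of_nowhereDense (X : Scheme.{u}) (p : X ⟶ Spec (CommRingCat.of k))
    [LocallyOfFiniteType p] (f : Γ(X, ⊤)) (hY : interior (X.zeroLocus (U := ⊤) {f}) = ∅) :
    topologicalKrullDim (X.zeroLocus (U := ⊤) {f}) + 1 ≤ topologicalKrullDim X ∧
      ((∃ Z ∈ irreducibleComponents (X : Type u), topologicalKrullDim Z = topologicalKrullDim X) →
        (∀ Z ∈ irreducibleComponents (X : Type u), topologicalKrullDim Z = topologicalKrullDim X →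
          (Z ∩ X.zeroLocus (U := ⊤) {f}).Nonempty) →
        topologicalKrullDim (X.zeroLocus (U := ⊤) {f}) + 1 = topologicalKrullDim X) := by
  haveI : IsLocallyNoetherian X := LocallyOfFiniteType.isLocallyNoetherian p
  have hYc : IsClosed (X.zeroLocus (U := ⊤) {f}) := X.zeroLocus_isClosed _
  -- components are not contained in the zero locus
  have hnot : ∀ Z ∈ irreducibleComponents (X : Type u), ¬ Z ⊆ X.zeroLocus (U := ⊤) {f} := by
    intro Z hZ hsub
    obtain ⟨o, ⟨w, hw⟩, hoT⟩ :=
      Groth.Agent.H1.RelDim.exists_open_subset_irreducibleComponent _ hZ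
    have h2 : w ∈ interior (X.zeroLocus (U := ⊤) {f}) :=
      interior_maximal (hoT.trans hsub) o.isOpen hw
    rw [hY] at h2
    exact h2
  have part1 : topologicalKrullDim (X.zeroLocus (U := ⊤) {f}) + 1 ≤ topologicalKrullDim X := by
    refine (add_le_add_left
      (Groth.Agent.H1.ClosedDim.dim_le_iSup_closure _ hYc) 1).trans ?_
    have := iSup_add_natCast_le
      (fun x : X.zeroLocus (U := ⊤) {f} => topologicalKrullDim ↥(closure ({x.1} : Set X))) 1
      (topologicalKrullDim X) ?_
    · simpa using this
    rintro ⟨y, hy⟩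
    have hT := irreducibleComponent_mem_irreducibleComponents y
    have hTc := isClosed_of_mem_irreducibleComponents _ hT
    have hlt := Groth.Agent.H1.ClosedDim.dim_closure_lt_of_ne p hT.1 hTc y
      mem_irreducibleComponent (by
        intro he
        apply hnot _ hT
        rw [← he]
        exact closure_minimal (Set.singleton_subset_iff.mpr hy) hYc)
    have h1 := add_one_le_of_lt hlt
    have h2 : topologicalKrullDim ↥(irreducibleComponent y) ≤ topologicalKrullDim X :=
      topologicalKrullDim_subspace_le X _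
    simpa using h1.trans h2
  refine ⟨part1, ?_⟩
  rintro ⟨Z, hZ, hZdim⟩ hmeet
  apply le_antisymm part1
  obtain ⟨y, hyZ, hyY⟩ := hmeet Z hZ hZdim
  have hZc := isClosed_of_mem_irreducibleComponents _ hZ
  -- scheme structure on Z
  let I := Scheme.IdealSheafData.vanishingIdeal ⟨Z, hZc⟩
  let i : I.subscheme ⟶ X := I.subschemeι
  have hri : Set.range i = Z := by
    rw [Scheme.IdealSheafData.range_subschemeι, Scheme.IdealSheafData.coe_support_vanishingIdeal]
    rfl
  have e : ↥I.subscheme ≃ₜ ↥(Set.range i) := i.isEmbedding.toHomeomorph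
  haveI : IrreducibleSpace ↥I.subscheme := by
    rw [e.irreducibleSpace_iff, hri]
    exact Subtype.irreducibleSpace hZ.1
  have hdimT : topologicalKrullDim ↥I.subscheme = topologicalKrullDim X := by
    rw [← hZdim, IsHomeomorph.topologicalKrullDim_eq _ e.isHomeomorph, hri]
  haveI : LocallyOfFiniteType (i ≫ p) := inferInstance
  obtain ⟨y', hy'⟩ : y ∈ Set.range i := hri ▸ hyZ
  have hpre : i ⁻¹ᵁ X.basicOpen f = I.subscheme.basicOpen (i.appTop f) :=
    Scheme.preimage_basicOpen_top i f
  have hy'a : y' ∉ I.subscheme.basicOpen (i.appTop f) := by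
    rw [← hpre]
    intro h
    have h1 : i y' ∈ X.basicOpen f := h
    rw [hy', ← SetLike.mem_coe] at h1
    rw [Scheme.zeroLocus_singleton] at hyY
    exact hyY h1
  have hgen : genericPoint ↥I.subscheme ∈ I.subscheme.basicOpen (i.appTop f) := by
    rw [← hpre]
    by_contra hne
    apply hnot Z hZ
    -- Z = closure of the image of the generic point
    have h1 : i (genericPoint ↥I.subscheme) ∈ X.zeroLocus (U := ⊤) {f} := by
      rw [Scheme.zeroLocus_singleton]
      exact hne
    have h2 : closure ({i (genericPoint ↥I.subscheme)} : Set X) = Z := by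
      rw [← Set.image_singleton, i.isClosedEmbedding.closure_image_eq,
        (genericPoint_spec ↥I.subscheme).def, Set.image_univ, hri]
    rw [← h2]
    exact closure_minimal (Set.singleton_subset_iff.mpr h1) hYc
  obtain ⟨w, hwa, -, hwdim⟩ := exists_hypersurface_point (i ≫ p) (i.appTop f) y' hy'a hgen
  rw [← hdimT, ← hwdim]
  apply add_le_add_left
  -- closure of `w` maps into the zero locus
  have hiw : i w ∈ X.zeroLocus (U := ⊤) {f} := by
    rw [Scheme.zeroLocus_singleton]
    intro h
    apply hwa
    rw [← hpre]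
    exact h
  exact Groth.Agent.H3.TopDim.dim_le_of_inducing_mapsTo i.isEmbedding.isInducing (by
    intro z hz
    have : i z ∈ closure ({i w} : Set X) := by
      rw [← Set.image_singleton]
      exact image_closure_subset_closure_image i.continuous ⟨z, hz, rfl⟩
    exact closure_minimal (Set.singleton_subset_iff.mpr hiw) hYc this)

end Groth.Agent.H3.ZeroLocDim
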