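import Mathlib
import Groth.Prelude.Def_OmAff
import Groth.Agent.Lib.Helper3.OmU3

set_option autoImplicit false
universe u
open AlgebraicGeometry CategoryTheory TopologicalSpace Opposite CategoryTheory.Limits TensorProduct

namespace Groth.Agent.H3.Om

open Groth.Agent.LD.QC Groth.Agent.H5.Lim

variable {X Y : Scheme.{u}} (f : X ⟶ Y) [QuasiSeparated f]

/-- the chart-level lift of a ring-level derivation through `d`, with values in an arbitrary
module over the ring of sections. -/
theorem exists_chart_lift' {U : X.Opens}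
    (hU : IsAffineOpen U) {W : Y.Opens} (hW : IsAffineOpen W) (eU : U ≤ f ⁻¹ᵁ W)
    {M : Type u} [AddCommGroup M] [Module Γ(X, U) M] (D : Γ(X, U) →+ M)
    (hD : ∀ a b : Γ(X, U), D (a * b) = a • D b + b • D a)
    (hDφ : ∀ a : Γ(Y, W), D ((f.appLE W U eU).hom a) = 0) :
    ∃ α : Γ(Omega.sheaf f, U) →ₗ[Γ(X, U)] M,
      ∀ a : Γ(X, U), α (OmegaSh.dSect f U a) = D a := by
  have hN := isAffineOpen_diagNbhd f hU hW eU
  have hpo := isPushout_diagNbhd f hU hW eU
  obtain ⟨Dt, hDt1, hDt2, hDt3⟩ := exists_diagDer hpo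
    ((pullback.diagonal f).appLE (OmegaSh.diagNbhd f U) U (OmegaSh.le_preimage_diagNbhd f U))
    (fst_appLE_diag f U) (snd_appLE_diag f U) D hD hDφ
  let ν : Γ(ClSub.idealMod (pullback.diagonal f).ker, OmegaSh.diagNbhd f U) →+ M :=
    Dt.comp (OmegaSh.idealSect (pullback.diagonal f).ker (OmegaSh.diagNbhd f U))
  have hν : ∀ (r : Γ(pullback f f, OmegaSh.diagNbhd f U))
      (m : Γ(ClSub.idealMod (pullback.diagonal f).ker, OmegaSh.diagNbhd f U)),
      ν (r • m) = ((pullback.diagonal f).appLE (OmegaSh.diagNbhd f U) U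
        (OmegaSh.le_preimage_diagNbhd f U)).hom r • ν m := by
    intro r m
    change Dt (OmegaSh.idealSect _ _ (r • m)) = _ • Dt (OmegaSh.idealSect _ _ m)
    rw [idealSect_smul, hDt1 _ _ (diag_appLE_idealSect f U m)]
  letI : Algebra Γ(pullback f f, OmegaSh.diagNbhd f U) Γ(X, U) :=
    ((pullback.diagonal f).appLE (OmegaSh.diagNbhd f U) U
      (OmegaSh.le_preimage_diagNbhd f U)).hom.toAlgebra
  letI := pbModule (pullback.diagonal f) (ClSub.idealMod (pullback.diagonal f).ker)
    (OmegaSh.le_preimage_diagNbhd f U)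
  haveI : IsScalarTower Γ(pullback f f, OmegaSh.diagNbhd f U) Γ(X, U)
      Γ((Scheme.Modules.pullback (pullback.diagonal f)).obj
        (ClSub.idealMod (pullback.diagonal f).ker), U) :=
    pbModule_isScalarTower (pullback.diagonal f) (ClSub.idealMod (pullback.diagonal f).ker)
      (OmegaSh.le_preimage_diagNbhd f U)
  letI : Module Γ(pullback f f, OmegaSh.diagNbhd f U) M :=
    Module.compHom M ((pullback.diagonal f).appLE (OmegaSh.diagNbhd f U) U
      (OmegaSh.le_preimage_diagNbhd f U)).hom
  haveI : IsScalarTower Γ(pullback f f, OmegaSh.diagNbhd f U) Γ(X, U) M :=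
    ⟨fun a b x => by
      change (a • b) • x = ((pullback.diagonal f).appLE (OmegaSh.diagNbhd f U) U
        (OmegaSh.le_preimage_diagNbhd f U)).hom a • (b • x)
      rw [Algebra.smul_def, mul_smul]
      rfl⟩
  have hbc := isBaseChange_pbSec (pullback.diagonal f) hU hN (OmegaSh.le_preimage_diagNbhd f U)
    (ClSub.idealMod (pullback.diagonal f).ker)
  let g : Γ(ClSub.idealMod (pullback.diagonal f).ker, OmegaSh.diagNbhd f U)
      →ₗ[Γ(pullback f f, OmegaSh.diagNbhd f U)] M :=
    { toFun := ν
      map_add' := map_add ν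
      map_smul' := fun r m => hν r m }
  refine ⟨hbc.lift g, fun a => ?_⟩
  rw [dSect_eq_pbSec]
  have h1 := hbc.lift_eq g (OmegaSh.idealLift f U a)
  refine h1.trans ?_
  change Dt (OmegaSh.idealSect _ _ (OmegaSh.idealLift f U a)) = _
  rw [idealSect_idealLift, OmegaSh.diagDiff, map_sub, hDt2, hDt3, sub_zero]

/-- **affine sections of the sheaf of differentials are the Kähler differentials** (category
form). -/
theorem isIso_toSect {U : X.Opens} (hU : IsAffineOpen U) {V : Y.Opens} (hV : IsAffineOpen V)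
    (h : U ≤ f ⁻¹ᵁ V) : IsIso (OmAff.toSect f V U h) := by
  obtain ⟨α, hα⟩ := exists_chart_lift' f hU hV h
    (M := (CommRingCat.KaehlerDifferential (f.appLE V U h)))
    (AddMonoidHom.mk' (fun b => CommRingCat.KaehlerDifferential.d b)
      (fun a b => ModuleCat.Derivation.d_add _ a b))
    (fun a b => ModuleCat.Derivation.d_mul (CommRingCat.KaehlerDifferential.D (f.appLE V U h)) a b)
    (fun a => ModuleCat.Derivation.d_map (CommRingCat.KaehlerDifferential.D (f.appLE V U h)) a)
  have h1 : OmAff.toSect f V U h ≫ ModuleCat.ofHom α = 𝟙 _ := by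
    apply CommRingCat.KaehlerDifferential.ext
    intro b
    change α (OmAff.toSect f V U h (CommRingCat.KaehlerDifferential.d b)) = _
    rw [OmAff.toSect_d, hα]
    rfl
  haveI : Mono (OmAff.toSect f V U h) := mono_of_mono_fac h1
  have hsurj : Function.Surjective (OmAff.toSect f V U h) := by
    intro x
    have hx : x ∈ Submodule.span Γ(X, U) (Set.range (OmegaSh.dSect f U)) := by
      rw [span_range_dSect f hU hV h]; trivial
    induction hx using Submodule.span_induction with
    | mem y hy =>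
      obtain ⟨b, rfl⟩ := hy
      exact ⟨CommRingCat.KaehlerDifferential.d b, OmAff.toSect_d f V U h b⟩
    | zero => exact ⟨0, map_zero _⟩
    | add y z _ _ hy hz =>
      obtain ⟨y', rfl⟩ := hy
      obtain ⟨z', rfl⟩ := hz
      exact ⟨y' + z', map_add _ _ _⟩
    | smul b y _ hy =>
      obtain ⟨y', rfl⟩ := hy
      exact ⟨b • y', map_smul _ _ _⟩
  haveI : Epi (OmAff.toSect f V U h) := (ModuleCat.epi_iff_surjective _).2 hsurj
  exact isIso_of_mono_of_epi _

/-- **global sections of the sheaf of differentials of `Spec B → Spec A` are `Ω[B⁄A]`**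
(type-class form). -/
theorem bijective_toSpec (A B : Type u) [CommRing A] [CommRing B] [Algebra A B] :
    Function.Bijective (OmAff.toSpec A B) := by
  have hU : IsAffineOpen (⊤ : (Spec (CommRingCat.of B)).Opens) := isAffineOpen_top _
  have hV : IsAffineOpen (⊤ : (Spec (CommRingCat.of A)).Opens) := isAffineOpen_top _
  have e : (⊤ : (Spec (CommRingCat.of B)).Opens) ≤
      (Spec.map (CommRingCat.ofHom (algebraMap A B))) ⁻¹ᵁ ⊤ := le_of_eq rfl
  letI : Module Γ(Spec (CommRingCat.of B), ⊤) Ω[B⁄A] :=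
    Module.compHom _ (Scheme.ΓSpecIso (CommRingCat.of B)).hom.hom
  have hsm : ∀ (γ : Γ(Spec (CommRingCat.of B), ⊤)) (x : Ω[B⁄A]),
      γ • x = (Scheme.ΓSpecIso (CommRingCat.of B)).hom.hom γ • x := fun γ x => rfl
  have hinv : ∀ b : B, (Scheme.ΓSpecIso (CommRingCat.of B)).hom.hom (OmAff.toΓ B b) = b :=
    fun b => Iso.inv_hom_id_apply (Scheme.ΓSpecIso (CommRingCat.of B)) b
  have hinv' : ∀ γ : Γ(Spec (CommRingCat.of B), ⊤),
      OmAff.toΓ B ((Scheme.ΓSpecIso (CommRingCat.of B)).hom.hom γ) = γ :=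
    fun γ => Iso.hom_inv_id_apply (Scheme.ΓSpecIso (CommRingCat.of B)) γ
  obtain ⟨α, hα⟩ := exists_chart_lift' (Spec.map (CommRingCat.ofHom (algebraMap A B))) hU hV e
    (M := Ω[B⁄A])
    (AddMonoidHom.mk' (fun γ => KaehlerDifferential.D A B
      ((Scheme.ΓSpecIso (CommRingCat.of B)).hom.hom γ)) (fun a b => by rw [map_add, map_add]))
    (fun a b => by
      change KaehlerDifferential.D A B ((Scheme.ΓSpecIso (CommRingCat.of B)).hom.hom (a * b)) = _
      rw [map_mul, Derivation.leibniz, hsm, hsm]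
      rfl)
    (fun a => by
      change KaehlerDifferential.D A B ((Scheme.ΓSpecIso (CommRingCat.of B)).hom.hom
        (((Spec.map (CommRingCat.ofHom (algebraMap A B))).appLE ⊤ ⊤ e).hom a)) = 0
      have h1 : (Scheme.ΓSpecIso (CommRingCat.of B)).hom.hom
          (((Spec.map (CommRingCat.ofHom (algebraMap A B))).appLE ⊤ ⊤ e).hom a) =
          algebraMap A B ((Scheme.ΓSpecIso (CommRingCat.of A)).hom.hom a) := by
        have := Scheme.ΓSpecIso_naturality (CommRingCat.ofHom (algebraMap A B))
        have h2 := congrArg (fun ψ => ψ.hom a) this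
        simp only [CommRingCat.hom_comp, RingHom.comp_apply] at h2
        have h3 : (Spec.map (CommRingCat.ofHom (algebraMap A B))).appLE ⊤ ⊤ e =
            (Spec.map (CommRingCat.ofHom (algebraMap A B))).appTop :=
          Scheme.Hom.appLE_eq_app _
        rw [h3]
        exact h2
      rw [h1, Derivation.map_algebraMap])
  have hα' : ∀ γ, α (OmegaSh.dSect (Spec.map (CommRingCat.ofHom (algebraMap A B))) ⊤ γ) =
      KaehlerDifferential.D A B ((Scheme.ΓSpecIso (CommRingCat.of B)).hom.hom γ) := hα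
  have hretr : ∀ x : Ω[B⁄A], α (OmAff.toSpec A B x) = x := by
    intro x
    have hx : x ∈ Submodule.span B (Set.range (KaehlerDifferential.D A B)) := by
      rw [KaehlerDifferential.span_range_derivation]; trivial
    induction hx using Submodule.span_induction with
    | mem y hy =>
      obtain ⟨b, rfl⟩ := hy
      rw [OmAff.toSpec_D, hα', hinv]
    | zero => rw [map_zero, map_zero]
    | add y z _ _ hy hz => rw [map_add, map_add, hy, hz]
    | smul b y _ hy => rw [LinearMap.map_smulₛₗ, map_smul, hy, hsm, hinv]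
  constructor
  · intro x y hxy
    rw [← hretr x, ← hretr y, hxy]
  · intro ω
    have hω : ω ∈ Submodule.span Γ(Spec (CommRingCat.of B), ⊤)
        (Set.range (OmegaSh.dSect (Spec.map (CommRingCat.ofHom (algebraMap A B))) ⊤)) := by
      rw [span_range_dSect _ hU hV e]; trivial
    induction hω using Submodule.span_induction with
    | mem y hy =>
      obtain ⟨γ, rfl⟩ := hy
      exact ⟨KaehlerDifferential.D A B ((Scheme.ΓSpecIso (CommRingCat.of B)).hom.hom γ), by
        rw [OmAff.toSpec_D, hinv']⟩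
    | zero => exact ⟨0, map_zero _⟩
    | add y z _ _ hy hz =>
      obtain ⟨y', rfl⟩ := hy
      obtain ⟨z', rfl⟩ := hz
      exact ⟨y' + z', map_add _ _ _⟩
    | smul γ y _ hy =>
      obtain ⟨y', rfl⟩ := hy
      exact ⟨(Scheme.ΓSpecIso (CommRingCat.of B)).hom.hom γ • y', by
        rw [LinearMap.map_smulₛₗ, hinv']⟩

end Groth.Agent.H3.Om
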