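import Mathlib
import Groth.Prelude.Def_Omega3
import Groth.Agent.Lib.Helper3.OmCM3

set_option autoImplicit false
universe u
open AlgebraicGeometry CategoryTheory TopologicalSpace Opposite CategoryTheory.Limits TensorProduct
open Groth.Agent.LD.QC

namespace Groth.Agent.H3.Om

/-- **Chart description of the conormal sheaf**, `σ`-free form. -/
theorem conormal_chart_g' {Z X : Scheme.{u}} (i : Z ⟶ X) [QuasiCompact i]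
    {U : X.Opens} (hg : IsGoodChart i U) :
    letI := (i.appLE U (i ⁻¹ᵁ U) le_rfl).hom.toAlgebra
    Function.Surjective (algebraMap Γ(X, U) Γ(Z, i ⁻¹ᵁ U)) ∧
    (∀ x : RingHom.ker (algebraMap Γ(X, U) Γ(Z, i ⁻¹ᵁ U)),
      ∃ s : Γ(ClSub.idealMod i.ker, U), OmegaSh.idealSect i.ker U s = x) ∧
    (∀ s : Γ(ClSub.idealMod i.ker, U),
      OmegaSh.idealSect i.ker U s ∈ RingHom.ker (algebraMap Γ(X, U) Γ(Z, i ⁻¹ᵁ U))) ∧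
    ∃ (Ξ : Γ(Z, i ⁻¹ᵁ U) ⊗[Γ(X, U)] (RingHom.ker (algebraMap Γ(X, U) Γ(Z, i ⁻¹ᵁ U)))
          ≃ₗ[Γ(Z, i ⁻¹ᵁ U)] Γ(Omega.conormal i, i ⁻¹ᵁ U)),
      ∀ (b : Γ(Z, i ⁻¹ᵁ U)) (x : RingHom.ker (algebraMap Γ(X, U) Γ(Z, i ⁻¹ᵁ U)))
        (s : Γ(ClSub.idealMod i.ker, U)), OmegaSh.idealSect i.ker U s = x →
        Ξ (b ⊗ₜ x) = b • OmegaSh.conormalSect i U s := by
  letI := (i.appLE U (i ⁻¹ᵁ U) le_rfl).hom.toAlgebra
  obtain ⟨hs, σ, Ξ, hσ, hΞ⟩ := conormal_chart_g i hg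
  refine ⟨hs, fun x => ⟨σ.symm x, ?_⟩, fun s => ?_, Ξ, fun b x s hsx => ?_⟩
  · rw [← hσ, LinearEquiv.apply_symm_apply]
  · rw [← hσ]; exact (σ s).2
  · have : σ s = x := Subtype.ext ((hσ s).trans hsx)
    rw [← this, hΞ]

/-- chart description of the pullback of a conormal sheaf -/
theorem pullback_conormal_chart {Z Z' X' : Scheme.{u}} (i' : Z' ⟶ X') [QuasiCompact i']
    (gZ : Z ⟶ Z') {U' : X'.Opens} (hg' : IsGoodChart i' U') {V : Z.Opens} (hV : IsAffineOpen V)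
    (eV : V ≤ gZ ⁻¹ᵁ (i' ⁻¹ᵁ U')) (ψ : Γ(X', U') →+* Γ(Z, V))
    (hψ : ψ = (i'.appLE U' (i' ⁻¹ᵁ U') le_rfl ≫ gZ.appLE (i' ⁻¹ᵁ U') V eV).hom) :
    letI := (i'.appLE U' (i' ⁻¹ᵁ U') le_rfl).hom.toAlgebra
    letI := ψ.toAlgebra
    ∃ (Θ : Γ(Z, V) ⊗[Γ(X', U')] (RingHom.ker (algebraMap Γ(X', U') Γ(Z', i' ⁻¹ᵁ U')))
          ≃ₗ[Γ(Z, V)] Γ((Scheme.Modules.pullback gZ).obj (Omega.conormal i'), V)),
      ∀ (b : Γ(Z, V)) (x' : RingHom.ker (algebraMap Γ(X', U') Γ(Z', i' ⁻¹ᵁ U')))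
        (s' : Γ(ClSub.idealMod i'.ker, U')), OmegaSh.idealSect i'.ker U' s' = x' →
        Θ (b ⊗ₜ x') = b • pbSec gZ (Omega.conormal i') eV (OmegaSh.conormalSect i' U' s') := by
  letI := (i'.appLE U' (i' ⁻¹ᵁ U') le_rfl).hom.toAlgebra
  letI := ψ.toAlgebra
  letI := (gZ.appLE (i' ⁻¹ᵁ U') V eV).hom.toAlgebra
  haveI : IsScalarTower Γ(X', U') Γ(Z', i' ⁻¹ᵁ U') Γ(Z, V) :=
    IsScalarTower.of_algebraMap_eq' hψ
  obtain ⟨-, -, -, Ξ', hΞ'⟩ := conormal_chart_g' i' hg'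
  haveI : (Omega.conormal i').IsQuasicoherent :=
    qc_pullback i' (ClSub.idealMod i'.ker)
  letI := pbModule gZ (Omega.conormal i') eV
  haveI := pbModule_isScalarTower gZ (Omega.conormal i') eV
  have hbc := isBaseChange_pbSec gZ hV hg'.preimage_affine eV (Omega.conormal i')
  let Θ : Γ(Z, V) ⊗[Γ(X', U')] (RingHom.ker (algebraMap Γ(X', U') Γ(Z', i' ⁻¹ᵁ U')))
      ≃ₗ[Γ(Z, V)] Γ((Scheme.Modules.pullback gZ).obj (Omega.conormal i'), V) :=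
    (TensorProduct.AlgebraTensorModule.cancelBaseChange Γ(X', U') Γ(Z', i' ⁻¹ᵁ U') Γ(Z, V) Γ(Z, V)
      (RingHom.ker (algebraMap Γ(X', U') Γ(Z', i' ⁻¹ᵁ U')))).symm ≪≫ₗ
    (TensorProduct.AlgebraTensorModule.congr (LinearEquiv.refl Γ(Z, V) Γ(Z, V)) Ξ') ≪≫ₗ hbc.equiv
  refine ⟨Θ, fun b x' s' hs' => ?_⟩
  change hbc.equiv (b ⊗ₜ Ξ' (1 ⊗ₜ x')) = _
  rw [IsBaseChange.equiv_tmul, hΞ' 1 x' s' hs', one_smul]
  rfl

end Groth.Agent.H3.Om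

namespace Groth.Agent.H3.Om

theorem preimage_le_of_sq {Z X Z' X' : Scheme.{u}} {i : Z ⟶ X} {i' : Z' ⟶ X'} {g : X ⟶ X'}
    {gZ : Z ⟶ Z'} (hsq : gZ ≫ i' = i ≫ g) {V : Z.Opens} {U' : X'.Opens}
    (eV : V ≤ gZ ⁻¹ᵁ (i' ⁻¹ᵁ U')) : V ≤ i ⁻¹ᵁ (g ⁻¹ᵁ U') := by
  intro z hz
  have h1 : (gZ ≫ i') z ∈ U' := eV hz
  rw [hsq] at h1
  exact h1

theorem preimage_le_of_sq' {Z X Z' X' : Scheme.{u}} {i : Z ⟶ X} {i' : Z' ⟶ X'} {g : X ⟶ X'}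
    {gZ : Z ⟶ Z'} (hsq : gZ ≫ i' = i ≫ g) {V : Z.Opens} {U' : X'.Opens}
    (eV : V ≤ i ⁻¹ᵁ (g ⁻¹ᵁ U')) : V ≤ gZ ⁻¹ᵁ (i' ⁻¹ᵁ U') := by
  intro z hz
  have h1 : (i ≫ g) z ∈ U' := eV hz
  rw [← hsq] at h1
  exact h1

/-- the basis of affine opens of `Z` lying over good charts of `i'`. -/
def cmBasis {Z Z' X' : Scheme.{u}} (i' : Z' ⟶ X') [IsImmersion i'] (gZ : Z ⟶ Z') : Set Z.Opens :=
  {V | IsAffineOpen V ∧ ∃ U' : X'.Opens, IsAffineOpen U' ∧ U' ≤ i'.coborderRange ∧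
    V ≤ gZ ⁻¹ᵁ (i' ⁻¹ᵁ U')}

theorem isBasis_cmBasis {Z Z' X' : Scheme.{u}} (i' : Z' ⟶ X') [IsImmersion i'] (gZ : Z ⟶ Z') :
    Opens.IsBasis (cmBasis i' gZ) := by
  rw [Opens.isBasis_iff_nbhd]
  intro N z hz
  obtain ⟨U', hU', hle', hzU', -⟩ := exists_good_chart i' (gZ z) ⊤ trivial
  obtain ⟨_, ⟨V, hV : IsAffineOpen V, rfl⟩, hzV, hVle⟩ :=
    Z.isBasis_affineOpens.exists_subset_of_mem_open
      (show z ∈ ((N ⊓ gZ ⁻¹ᵁ (i' ⁻¹ᵁ U') : Z.Opens) : Set Z) from ⟨hz, hzU'⟩)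
      (N ⊓ gZ ⁻¹ᵁ (i' ⁻¹ᵁ U')).2
  exact ⟨V, ⟨hV, U', hU', hle', fun y hy => (hVle hy).2⟩, hzV, fun y hy => (hVle hy).1⟩

/-- uniqueness of the conormal map -/
theorem isConormalMap_unique {Z X Z' X' : Scheme.{u}} {i : Z ⟶ X} {i' : Z' ⟶ X'}
    [IsImmersion i'] [QuasiCompact i'] [QuasiCompact i] {g : X ⟶ X'} {gZ : Z ⟶ Z'}
    {φ φ' : (Scheme.Modules.pullback gZ).obj (Omega.conormal i') ⟶ Omega.conormal i}
    (hφ : OmegaSh.IsConormalMap i i' g gZ φ) (hφ' : OmegaSh.IsConormalMap i i' g gZ φ') :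
    φ = φ' := by
  apply hom_ext_basis φ φ' (cmBasis i' gZ) (isBasis_cmBasis i' gZ)
  rintro V ⟨hV, U', hU', hle', eV⟩ t
  have hg' := isGoodChart_of_le_coborder i' hU' hle'
  letI := (i'.appLE U' (i' ⁻¹ᵁ U') le_rfl).hom.toAlgebra
  letI := ((i'.appLE U' (i' ⁻¹ᵁ U') le_rfl ≫ gZ.appLE (i' ⁻¹ᵁ U') V eV).hom).toAlgebra
  obtain ⟨-, hex, -, -⟩ := conormal_chart_g' i' hg'
  obtain ⟨Θ, hΘ⟩ := pullback_conormal_chart i' gZ hg' hV eV _ rfl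
  obtain ⟨x, rfl⟩ := Θ.surjective t
  induction x with
  | zero => rw [map_zero, map_zero, map_zero]
  | add x y hx hy => rw [map_add, map_add, map_add, hx, hy]
  | tmul b x' =>
    obtain ⟨s', hs'⟩ := hex x'
    obtain ⟨s, hs⟩ := (exists_idealSect_eq_iff i (g ⁻¹ᵁ U') _).2
      (app_app_idealSect_eq_zero i i' g gZ hφ.1 U' s')
    have hs2 : OmegaSh.idealSect i.ker (g ⁻¹ᵁ U') s =
        g.appLE U' (g ⁻¹ᵁ U') (le_refl _) (OmegaSh.idealSect i'.ker U' s') := by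
      rw [hs, Scheme.Hom.appLE_eq_app]
    rw [hΘ b x' s' hs', Scheme.Modules.Hom.app_smul, Scheme.Modules.Hom.app_smul,
      IsConormalMap.app_pbSec hφ (le_refl _) eV (preimage_le_of_sq hφ.1 eV) s' s hs2,
      IsConormalMap.app_pbSec hφ' (le_refl _) eV (preimage_le_of_sq hφ.1 eV) s' s hs2]

/-- **S9371**: existence and uniqueness of the conormal map of a commutative square. -/
theorem existsUnique_isConormalMap {Z X Z' X' : Scheme.{u}} (i : Z ⟶ X) (i' : Z' ⟶ X')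
    [IsImmersion i'] [QuasiCompact i] [QuasiCompact i'] (g : X ⟶ X') (gZ : Z ⟶ Z')
    (hsq : gZ ≫ i' = i ≫ g) :
    ∃! φ : (Scheme.Modules.pullback gZ).obj (Omega.conormal i') ⟶ Omega.conormal i,
      OmegaSh.IsConormalMap i i' g gZ φ := by
  obtain ⟨φ, hφ⟩ := exists_isConormalMap i i' g gZ hsq
  exact ⟨φ, hφ, fun φ' hφ' => isConormalMap_unique hφ' hφ⟩

end Groth.Agent.H3.Om
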