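import Mathlib

set_option autoImplicit false
universe u
open CategoryTheory CategoryTheory.Limits TensorProduct

namespace Groth.Agent.H3.Om

/-- kernel of the base change of a surjection, in pushout form. -/
theorem ker_of_isPushout_of_surjective {A' A B' P : CommRingCat.{u}} {f : A' ⟶ A} {q' : A' ⟶ B'}
    {q : A ⟶ P} {h : B' ⟶ P} (hpo : IsPushout f q' q h) (hq' : Function.Surjective q'.hom) :
    RingHom.ker q.hom = Ideal.map f.hom (RingHom.ker q'.hom) := by
  apply le_antisymm
  · intro x hx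
    set J := Ideal.map f.hom (RingHom.ker q'.hom) with hJ
    let π : A ⟶ CommRingCat.of (A ⧸ J) := CommRingCat.ofHom (Ideal.Quotient.mk J)
    have hker : RingHom.ker q'.hom ≤ RingHom.ker (f ≫ π).hom := by
      intro x' hx'
      rw [RingHom.mem_ker]
      change Ideal.Quotient.mk J (f.hom x') = 0
      rw [Ideal.Quotient.eq_zero_iff_mem]
      exact Ideal.mem_map_of_mem _ hx'
    let β : B' ⟶ CommRingCat.of (A ⧸ J) :=
      CommRingCat.ofHom (RingHom.liftOfSurjective q'.hom hq' ⟨(f ≫ π).hom, hker⟩)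
    have hβ : q' ≫ β = f ≫ π := by
      ext a'
      exact RingHom.liftOfSurjective_comp_apply q'.hom hq' ⟨(f ≫ π).hom, hker⟩ a'
    have hd : q ≫ hpo.desc π β hβ.symm = π := hpo.inl_desc _ _ _
    have h1 : π.hom x = 0 := by
      rw [← hd]
      change (hpo.desc π β hβ.symm).hom (q.hom x) = 0
      rw [(RingHom.mem_ker).1 hx, map_zero]
    exact Ideal.Quotient.eq_zero_iff_mem.1 h1
  · rw [Ideal.map_le_iff_le_comap]
    intro x' hx'
    rw [Ideal.mem_comap, RingHom.mem_ker]
    have h1 : q.hom (f.hom x') = h.hom (q'.hom x') := congr($(hpo.w) x')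
    rw [h1, (RingHom.mem_ker).1 hx', map_zero]

/-- for a flat base change `A' → A`, `B ⊗[A'] I' ≃ B ⊗[A] (I'A)`. -/
theorem exists_tensorIdealEquiv {A' A B : Type u} [CommRing A'] [CommRing A] [CommRing B]
    [Algebra A' A] [Algebra A B] [Algebra A' B] [IsScalarTower A' A B] [Module.Flat A' A]
    (I' : Ideal A') (I : Ideal A) (hI : I = Ideal.map (algebraMap A' A) I') :
    ∃ T : B ⊗[A'] I' ≃ₗ[B] B ⊗[A] I, ∀ (b : B) (x' : I') (x : I),
      (x : A) = algebraMap A' A x' → T (b ⊗ₜ x') = b ⊗ₜ x := by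
  have hmem : ∀ x' : I', algebraMap A' A x' ∈ I := fun x' => by
    rw [hI]; exact Ideal.mem_map_of_mem _ x'.2
  let κ : I' →ₗ[A'] I :=
    { toFun := fun x' => ⟨algebraMap A' A x', hmem x'⟩
      map_add' := fun x y => Subtype.ext (by simp)
      map_smul' := fun a x => Subtype.ext (by
        simp only [SetLike.val_smul, smul_eq_mul, map_mul, RingHom.id_apply]
        exact (Algebra.smul_def _ _).symm) }
  let τ₀ : A ⊗[A'] I' →ₗ[A] I := LinearMap.liftBaseChange A κ
  have hτ₀ : ∀ (a : A) (x' : I'), τ₀ (a ⊗ₜ x') = a • κ x' := fun a x' =>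
    LinearMap.liftBaseChange_tmul _ _ _ _
  have hcomp : ∀ t : A ⊗[A'] I', ((τ₀ t : I) : A) =
      TensorProduct.rid A' A (LinearMap.lTensor A (Submodule.subtype I') t) := by
    intro t
    induction t with
    | zero => simp
    | add x y hx hy => simp only [map_add, Submodule.coe_add, hx, hy]
    | tmul a x' =>
      rw [hτ₀, LinearMap.lTensor_tmul, TensorProduct.rid_tmul]
      change a * algebraMap A' A x' = _
      rw [Algebra.smul_def, mul_comm]
      rfl
  have hinj : Function.Injective τ₀ := by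
    intro t t' htt
    have h1 := Module.Flat.lTensor_preserves_injective_linearMap (M := A) (Submodule.subtype I')
      (Submodule.injective_subtype I')
    apply h1
    apply (TensorProduct.rid A' A).injective
    rw [← hcomp, ← hcomp, htt]
  have hsurj : Function.Surjective τ₀ := by
    rintro ⟨x, hx⟩
    have hx' : x ∈ Ideal.span (algebraMap A' A '' (I' : Set A')) := by
      rw [hI] at hx; exact hx
    suffices h : ∃ t, ((τ₀ t : I) : A) = x by
      obtain ⟨t, ht⟩ := h
      exact ⟨t, Subtype.ext ht⟩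
    induction hx' using Submodule.span_induction with
    | mem y hy =>
      obtain ⟨x', hx'I, rfl⟩ := hy
      refine ⟨(1 : A) ⊗ₜ ⟨x', hx'I⟩, ?_⟩
      rw [hτ₀, one_smul]
      rfl
    | zero => exact ⟨0, by simp⟩
    | add y z _ _ hy hz =>
      obtain ⟨t, ht⟩ := hy (by rw [hI]; assumption)
      obtain ⟨t', ht'⟩ := hz (by rw [hI]; assumption)
      exact ⟨t + t', by rw [map_add, Submodule.coe_add, ht, ht']⟩
    | smul a y _ hy =>
      obtain ⟨t, ht⟩ := hy (by rw [hI]; assumption)
      exact ⟨a • t, by rw [map_smul, Submodule.coe_smul, ht]⟩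
  let τ : A ⊗[A'] I' ≃ₗ[A] I := LinearEquiv.ofBijective τ₀ ⟨hinj, hsurj⟩
  refine ⟨(TensorProduct.AlgebraTensorModule.cancelBaseChange A' A B B I').symm ≪≫ₗ
    (TensorProduct.AlgebraTensorModule.congr (LinearEquiv.refl B B) τ), fun b x' x hx => ?_⟩
  change b ⊗ₜ[A] τ₀ ((1 : A) ⊗ₜ x') = _
  rw [hτ₀, one_smul]
  congr 1
  exact Subtype.ext hx.symm

end Groth.Agent.H3.Om
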