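import Mathlib
import Groth.Prelude.Def_Omega3
import Groth.Agent.Lib.Helper3.OmCM4
import Groth.Agent.Lib.Helper3.OmCMRing
import Groth.Agent.Lib.Helper3.OmBC
import Groth.Agent.Lib.Helper3.OmRetr
import Groth.Agent.Lib.Helper3.OmBasis
import Groth.Agent.Lib.Helper3.OmIsoCover

set_option autoImplicit false
universe u
open AlgebraicGeometry CategoryTheory TopologicalSpace Opposite CategoryTheory.Limits TensorProduct
open Groth.Agent.LD.QC

namespace Groth.Agent.H3.Om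

theorem res_injective_of_le {Z : Scheme.{u}} {W₁ W₂ : Z.Opens} (h : W₁ ≤ W₂) (h' : W₂ ≤ W₁) :
    Function.Injective (Z.presheaf.map (homOfLE h).op) := by
  obtain rfl := le_antisymm h h'
  have : (homOfLE h).op = 𝟙 (op W₁) := rfl
  rw [this, CategoryTheory.Functor.map_id]
  exact fun a b hab => hab

/-- general formula on charts for a conormal map (good charts on both sides). -/
theorem conormalMap_chart_formula {Z X Z' X' : Scheme.{u}} {i : Z ⟶ X} {i' : Z' ⟶ X'}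
    [QuasiCompact i] [QuasiCompact i'] {g : X ⟶ X'} {gZ : Z ⟶ Z'}
    {φ : (Scheme.Modules.pullback gZ).obj (Omega.conormal i') ⟶ Omega.conormal i}
    (hφ : OmegaSh.IsConormalMap i i' g gZ φ) {U' : X'.Opens} {U : X.Opens}
    (eU : U ≤ g ⁻¹ᵁ U') (eV : i ⁻¹ᵁ U ≤ gZ ⁻¹ᵁ (i' ⁻¹ᵁ U'))
    (s' : Γ(ClSub.idealMod i'.ker, U')) (s : Γ(ClSub.idealMod i.ker, U))
    (hs : OmegaSh.idealSect i.ker U s = g.appLE U' U eU (OmegaSh.idealSect i'.ker U' s')) :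
    φ.app (i ⁻¹ᵁ U) (pbSec gZ (Omega.conormal i') eV (OmegaSh.conormalSect i' U' s')) =
      OmegaSh.conormalSect i U s := by
  rw [IsConormalMap.app_pbSec hφ eU eV (le_refl _) s' s hs, pbSec_le_rfl]
  rfl

/-- the chart statement behind S9372. -/
theorem conormalMap_cartesian_chart {Z X Z' X' : Scheme.{u}} {i : Z ⟶ X} {i' : Z' ⟶ X'}
    [IsImmersion i] [IsImmersion i'] [QuasiCompact i] [QuasiCompact i'] {g : X ⟶ X'}
    {gZ : Z ⟶ Z'} (hsq : IsPullback i gZ g i')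
    {φ : (Scheme.Modules.pullback gZ).obj (Omega.conormal i') ⟶ Omega.conormal i}
    (hφ : OmegaSh.IsConormalMap i i' g gZ φ) {U' : X'.Opens} {U : X.Opens}
    (hU' : IsAffineOpen U') (hle' : U' ≤ i'.coborderRange) (hU : IsAffineOpen U)
    (hle : U ≤ i.coborderRange) (eU : U ≤ g ⁻¹ᵁ U') :
    Function.Surjective (φ.app (i ⁻¹ᵁ U)) ∧ (Flat g → Function.Bijective (φ.app (i ⁻¹ᵁ U))) := by
  have hg' := isGoodChart_of_le_coborder i' hU' hle'
  have hg := isGoodChart_of_le_coborder i hU hle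
  have eV : i ⁻¹ᵁ U ≤ gZ ⁻¹ᵁ (i' ⁻¹ᵁ U') :=
    preimage_le_of_sq' hφ.1 (i.preimage_mono eU)
  letI algA'A := (g.appLE U' U eU).hom.toAlgebra
  letI algAB := (i.appLE U (i ⁻¹ᵁ U) le_rfl).hom.toAlgebra
  letI algA'B' := (i'.appLE U' (i' ⁻¹ᵁ U') le_rfl).hom.toAlgebra
  letI algA'B := ((i'.appLE U' (i' ⁻¹ᵁ U') le_rfl ≫ gZ.appLE (i' ⁻¹ᵁ U') (i ⁻¹ᵁ U) eV).hom).toAlgebra
  have hcomm : i'.appLE U' (i' ⁻¹ᵁ U') le_rfl ≫ gZ.appLE (i' ⁻¹ᵁ U') (i ⁻¹ᵁ U) eV =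
      g.appLE U' U eU ≫ i.appLE U (i ⁻¹ᵁ U) le_rfl := by
    rw [Scheme.Hom.appLE_comp_appLE, Scheme.Hom.appLE_comp_appLE]
    exact appLE_congr_of_eq hφ.1 _ _ _ _
  haveI : IsScalarTower Γ(X', U') Γ(X, U) Γ(Z, i ⁻¹ᵁ U) :=
    IsScalarTower.of_algebraMap_eq' (congrArg CommRingCat.Hom.hom hcomm)
  obtain ⟨-, hex', hmem', -⟩ := conormal_chart_g' i' hg'
  obtain ⟨-, hex, hmem, Ξ, hΞ⟩ := conormal_chart_g' i hg
  obtain ⟨Θ, hΘ⟩ := pullback_conormal_chart i' gZ hg' hg.preimage_affine eV _ rfl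
  -- the kernel of `A → B` is generated by the kernel of `A' → B'`
  have hI : RingHom.ker (algebraMap Γ(X, U) Γ(Z, i ⁻¹ᵁ U)) =
      Ideal.map (algebraMap Γ(X', U') Γ(X, U))
        (RingHom.ker (algebraMap Γ(X', U') Γ(Z', i' ⁻¹ᵁ U'))) := by
    have hpo := isPushout_prodChart hsq hU hU' hg'.preimage_affine eU (le_refl (i' ⁻¹ᵁ U'))
    have hsurj' : Function.Surjective (i'.appLE U' (i' ⁻¹ᵁ U') (le_refl _)).hom := by
      rw [Scheme.Hom.appLE_eq_app]; exact hg'.surj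
    have h1 := ker_of_isPushout_of_surjective hpo hsurj'
    refine Eq.trans ?_ h1
    have h2 : i.appLE U (i ⁻¹ᵁ U ⊓ gZ ⁻¹ᵁ (i' ⁻¹ᵁ U')) inf_le_left =
        i.appLE U (i ⁻¹ᵁ U) le_rfl ≫ Z.presheaf.map (homOfLE inf_le_left).op :=
      (Scheme.Hom.appLE_map i le_rfl (homOfLE inf_le_left).op).symm
    rw [h2]
    ext x
    rw [RingHom.mem_ker, RingHom.mem_ker]
    change _ ↔ (Z.presheaf.map (homOfLE inf_le_left).op) ((i.appLE U (i ⁻¹ᵁ U) le_rfl) x) = 0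
    constructor
    · intro h; rw [show (i.appLE U (i ⁻¹ᵁ U) le_rfl) x = 0 from h, map_zero]
    · intro h
      exact res_injective_of_le inf_le_left (le_inf le_rfl eV) (h.trans (map_zero _).symm)
  -- the formula on pure tensors
  have hmemκ : ∀ x' : RingHom.ker (algebraMap Γ(X', U') Γ(Z', i' ⁻¹ᵁ U')),
      algebraMap Γ(X', U') Γ(X, U) x' ∈ RingHom.ker (algebraMap Γ(X, U) Γ(Z, i ⁻¹ᵁ U)) := by
    intro x'
    rw [hI]
    exact Ideal.mem_map_of_mem _ x'.2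
  have hF : ∀ (b : Γ(Z, i ⁻¹ᵁ U)) (x' : RingHom.ker (algebraMap Γ(X', U') Γ(Z', i' ⁻¹ᵁ U')))
      (x : RingHom.ker (algebraMap Γ(X, U) Γ(Z, i ⁻¹ᵁ U))),
      (x : Γ(X, U)) = algebraMap Γ(X', U') Γ(X, U) x' →
      φ.app (i ⁻¹ᵁ U) (Θ (b ⊗ₜ x')) = Ξ (b ⊗ₜ x) := by
    intro b x' x hx
    obtain ⟨s', hs'⟩ := hex' x'
    obtain ⟨s, hs⟩ := hex x
    have hs2 : OmegaSh.idealSect i.ker U s =
        g.appLE U' U eU (OmegaSh.idealSect i'.ker U' s') := by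
      rw [hs, hs', hx]; rfl
    rw [hΘ b x' s' hs', Scheme.Modules.Hom.app_smul,
      conormalMap_chart_formula hφ eU eV s' s hs2, hΞ b x s hs]
  constructor
  · intro m
    obtain ⟨y, rfl⟩ := Ξ.surjective m
    induction y with
    | zero => exact ⟨0, by rw [map_zero, map_zero]⟩
    | add y z hy hz =>
      obtain ⟨t, ht⟩ := hy
      obtain ⟨t', ht'⟩ := hz
      exact ⟨t + t', by rw [map_add, map_add, ht, ht']⟩
    | tmul b x =>
      obtain ⟨x, hx⟩ := x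
      have hx' : x ∈ Ideal.span (algebraMap Γ(X', U') Γ(X, U) ''
          (RingHom.ker (algebraMap Γ(X', U') Γ(Z', i' ⁻¹ᵁ U')) : Set Γ(X', U'))) := by
        rw [hI] at hx; exact hx
      suffices h : ∀ (b : Γ(Z, i ⁻¹ᵁ U))
          (hx : x ∈ RingHom.ker (algebraMap Γ(X, U) Γ(Z, i ⁻¹ᵁ U))),
          ∃ t, φ.app (i ⁻¹ᵁ U) t = Ξ (b ⊗ₜ ⟨x, hx⟩) from h b hx
      clear hx
      induction hx' using Submodule.span_induction with
      | mem y hy =>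
        obtain ⟨x', hx'I, rfl⟩ := hy
        intro b hx
        exact ⟨Θ (b ⊗ₜ ⟨x', hx'I⟩), hF b ⟨x', hx'I⟩ ⟨_, hx⟩ rfl⟩
      | zero =>
        intro b hx
        refine ⟨0, ?_⟩
        have : (⟨0, hx⟩ : RingHom.ker (algebraMap Γ(X, U) Γ(Z, i ⁻¹ᵁ U))) = 0 := rfl
        rw [this, TensorProduct.tmul_zero, map_zero, map_zero]
      | add y z hy0 hz0 hy hz =>
        intro b hx
        have hy1 : y ∈ RingHom.ker (algebraMap Γ(X, U) Γ(Z, i ⁻¹ᵁ U)) := by rw [hI]; exact hy0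
        have hz1 : z ∈ RingHom.ker (algebraMap Γ(X, U) Γ(Z, i ⁻¹ᵁ U)) := by rw [hI]; exact hz0
        obtain ⟨t, ht⟩ := hy b hy1
        obtain ⟨t', ht'⟩ := hz b hz1
        refine ⟨t + t', ?_⟩
        have : (⟨y + z, hx⟩ : RingHom.ker (algebraMap Γ(X, U) Γ(Z, i ⁻¹ᵁ U))) =
            ⟨y, hy1⟩ + ⟨z, hz1⟩ := rfl
        rw [map_add, ht, ht', this, TensorProduct.tmul_add, map_add]
      | smul a y hy0 hy =>
        intro b hx
        have hy1 : y ∈ RingHom.ker (algebraMap Γ(X, U) Γ(Z, i ⁻¹ᵁ U)) := by rw [hI]; exact hy0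
        obtain ⟨t, ht⟩ := hy (a • b) hy1
        refine ⟨t, ?_⟩
        have : (⟨a • y, hx⟩ : RingHom.ker (algebraMap Γ(X, U) Γ(Z, i ⁻¹ᵁ U))) =
            a • ⟨y, hy1⟩ := rfl
        rw [ht, this, TensorProduct.smul_tmul]
  · intro hflat
    haveI : Module.Flat Γ(X', U') Γ(X, U) := by
      have := HasRingHomProperty.appLE (P := @Flat) g hflat ⟨U', hU'⟩ ⟨U, hU⟩ eU
      exact this
    obtain ⟨T, hT⟩ := exists_tensorIdealEquiv (B := Γ(Z, i ⁻¹ᵁ U))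
      (RingHom.ker (algebraMap Γ(X', U') Γ(Z', i' ⁻¹ᵁ U')))
      (RingHom.ker (algebraMap Γ(X, U) Γ(Z, i ⁻¹ᵁ U))) hI
    have hall : ∀ y, φ.app (i ⁻¹ᵁ U) (Θ y) = Ξ (T y) := by
      intro y
      induction y with
      | zero => rw [map_zero, map_zero, map_zero, map_zero]
      | add y z hy hz => rw [map_add, map_add, hy, hz, map_add, map_add]
      | tmul b x' =>
        rw [hF b x' ⟨_, hmemκ x'⟩ rfl, hT b x' ⟨_, hmemκ x'⟩ rfl]
    constructor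
    · intro t t' htt
      obtain ⟨y, rfl⟩ := Θ.surjective t
      obtain ⟨y', rfl⟩ := Θ.surjective t'
      rw [hall, hall] at htt
      rw [T.injective (Ξ.injective htt)]
    · intro m
      obtain ⟨y, rfl⟩ := Ξ.surjective m
      obtain ⟨y', rfl⟩ := T.surjective y
      exact ⟨Θ y', hall y'⟩

end Groth.Agent.H3.Om

namespace Groth.Agent.H3.Om

instance qc_conormal {Z X : Scheme.{u}} (i : Z ⟶ X) : (Omega.conormal i).IsQuasicoherent :=
  qc_pullback i (ClSub.idealMod i.ker)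

/-- a good chart of `i` inside the preimage of a good chart of `i'`, around a given point. -/
theorem exists_good_chart_pair {Z X Z' X' : Scheme.{u}} (i : Z ⟶ X) (i' : Z' ⟶ X')
    [IsImmersion i] [IsImmersion i'] (g : X ⟶ X') (gZ : Z ⟶ Z') (hsq : gZ ≫ i' = i ≫ g)
    (z : Z) (N : Z.Opens) (hz : z ∈ N) :
    ∃ (U : X.Opens) (U' : X'.Opens), IsAffineOpen U ∧ U ≤ i.coborderRange ∧ IsAffineOpen U' ∧
      U' ≤ i'.coborderRange ∧ U ≤ g ⁻¹ᵁ U' ∧ z ∈ i ⁻¹ᵁ U ∧ i ⁻¹ᵁ U ≤ N := by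
  obtain ⟨U', hU', hle', hzU', -⟩ := exists_good_chart i' (gZ z) ⊤ trivial
  have hzM : i z ∈ g ⁻¹ᵁ U' := by
    have h1 : (gZ ≫ i') z ∈ U' := hzU'
    rw [hsq] at h1
    exact h1
  obtain ⟨U, hU, hle, hUM, hzU, hUN⟩ := exists_good_chart' i z N hz (g ⁻¹ᵁ U') hzM
  exact ⟨U, U', hU, hle, hU', hle', hUM, hzU, hUN⟩

/-- **S9372**: in a cartesian square the conormal map is an epimorphism, and an isomorphism when
`g` is flat. -/
theorem conormalMap_cartesian {Z X Z' X' : Scheme.{u}} {i : Z ⟶ X} {i' : Z' ⟶ X'}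
    [IsImmersion i] [IsImmersion i'] [QuasiCompact i] [QuasiCompact i'] {g : X ⟶ X'}
    {gZ : Z ⟶ Z'} (hsq : IsPullback i gZ g i')
    {φ : (Scheme.Modules.pullback gZ).obj (Omega.conormal i') ⟶ Omega.conormal i}
    (hφ : OmegaSh.IsConormalMap i i' g gZ φ) : Epi φ ∧ (Flat g → IsIso φ) := by
  constructor
  · apply epi_of_surjective_basis φ
      {V | ∃ (U : X.Opens) (U' : X'.Opens), IsAffineOpen U ∧ U ≤ i.coborderRange ∧
        IsAffineOpen U' ∧ U' ≤ i'.coborderRange ∧ U ≤ g ⁻¹ᵁ U' ∧ V = i ⁻¹ᵁ U}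
    · rw [Opens.isBasis_iff_nbhd]
      intro N z hz
      obtain ⟨U, U', hU, hle, hU', hle', hUM, hzU, hUN⟩ :=
        exists_good_chart_pair i i' g gZ hφ.1 z N hz
      exact ⟨i ⁻¹ᵁ U, ⟨U, U', hU, hle, hU', hle', hUM, rfl⟩, hzU, hUN⟩
    · rintro V ⟨U, U', hU, hle, hU', hle', hUM, rfl⟩
      exact (conormalMap_cartesian_chart hsq hφ hU' hle' hU hle hUM).1
  · intro hflat
    haveI : ((Scheme.Modules.pullback gZ).obj (Omega.conormal i')).IsQuasicoherent :=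
      qc_pullback gZ _
    apply isIso_of_bijective_affine_cover
    intro z
    obtain ⟨U, U', hU, hle, hU', hle', hUM, hzU, -⟩ :=
      exists_good_chart_pair i i' g gZ hφ.1 z ⊤ trivial
    exact ⟨i ⁻¹ᵁ U, good_preimage_affine i hU hle, hzU,
      (conormalMap_cartesian_chart hsq hφ hU' hle' hU hle hUM).2 hflat⟩

end Groth.Agent.H3.Om
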