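import Mathlib
import Groth.Prelude.Def_OmAff
import Groth.Prelude.Def_Fitting
import Groth.Agent.Lib.Helper3.OmAff1
import Groth.Agent.Lib.Helper3.OmCM5
import Groth.Agent.Lib.Helper3.OmCompat
import Groth.Agent.Lib.Helper3.OmBC
import Groth.Agent.Lib.Lead.QC.FinType

set_option autoImplicit false
universe u
open AlgebraicGeometry CategoryTheory TopologicalSpace Opposite CategoryTheory.Limits TensorProduct

namespace Groth.Agent.H3.Om

open Groth.Agent.LD.QC

variable {X Y : Scheme.{u}} (f : X ⟶ Y) [QuasiSeparated f]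

instance qc_omega : (Omega.sheaf f).IsQuasicoherent :=
  inferInstanceAs (Omega.conormal (pullback.diagonal f)).IsQuasicoherent

/-- **affine sections of `Ω_{X/Y}` are the Kähler differentials**, as a linear equivalence. -/
theorem exists_linearEquiv_kaehler {U : X.Opens} (hU : IsAffineOpen U) {V : Y.Opens}
    (hV : IsAffineOpen V) (h : U ≤ f ⁻¹ᵁ V) :
    letI := (f.appLE V U h).hom.toAlgebra
    ∃ e : Ω[Γ(X, U)⁄Γ(Y, V)] ≃ₗ[Γ(X, U)] Γ(Omega.sheaf f, U),
      ∀ b : Γ(X, U), e (KaehlerDifferential.D Γ(Y, V) Γ(X, U) b) = OmegaSh.dSect f U b := by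
  letI := (f.appLE V U h).hom.toAlgebra
  haveI := isIso_toSect f hU hV h
  refine ⟨(asIso (OmAff.toSect f V U h)).toLinearEquiv, fun b => ?_⟩
  exact OmAff.toSect_d f V U h b

/-- for `f` locally of finite type, the sections of `Ω_{X/Y}` over a chart are a finite module. -/
theorem finite_sections_omega [LocallyOfFiniteType f] {U : X.Opens} (hU : IsAffineOpen U)
    {V : Y.Opens} (hV : IsAffineOpen V) (h : U ≤ f ⁻¹ᵁ V) :
    Module.Finite Γ(X, U) Γ(Omega.sheaf f, U) := by
  letI := (f.appLE V U h).hom.toAlgebra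
  obtain ⟨e, -⟩ := exists_linearEquiv_kaehler f hU hV h
  have hft : RingHom.FiniteType (f.appLE V U h).hom :=
    HasRingHomProperty.appLE @LocallyOfFiniteType f inferInstance ⟨V, hV⟩ ⟨U, hU⟩ h
  haveI : Algebra.FiniteType Γ(Y, V) Γ(X, U) := hft
  exact Module.Finite.equiv e

theorem exists_chart (x : X) : ∃ (U : X.Opens) (V : Y.Opens), IsAffineOpen U ∧ IsAffineOpen V ∧
    x ∈ U ∧ U ≤ f ⁻¹ᵁ V := by
  obtain ⟨V, hV, hxV, -⟩ := exists_isAffineOpen_mem_and_subset (x := f x) (U := ⊤) trivial
  obtain ⟨U, hU, hxU, hUV⟩ := exists_isAffineOpen_mem_and_subset (x := x) (U := f ⁻¹ᵁ V) hxV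
  exact ⟨U, V, hU, hV, hxU, hUV⟩

/-- for `f` locally of finite type, `Ω_{X/Y}` is of finite type. -/
theorem isFiniteType_omega [LocallyOfFiniteType f] : (Omega.sheaf f).IsFiniteType := by
  refine isFiniteType_of_finite_sections _ fun x => ?_
  obtain ⟨U, V, hU, hV, hxU, hUV⟩ := exists_chart f x
  exact ⟨U, hU, hxU, finite_sections_omega f hU hV hUV⟩

omit [QuasiSeparated f] in
/-- base change of the sheaf of differentials. -/
theorem nonempty_pullback_omega_iso {X' Y' : Scheme.{u}} {g : Y' ⟶ Y} {g' : X' ⟶ X} {f' : X' ⟶ Y'}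
    (hsq : IsPullback g' f' f g) [QuasiSeparated f] [QuasiSeparated f'] :
    Nonempty ((Scheme.Modules.pullback g').obj (Omega.sheaf f) ≅ Omega.sheaf f') := by
  obtain ⟨c, hc, -⟩ := existsUnique_isDiffCompat (f := f) (f' := f') g' g hsq.w.symm
    (isUniversal_dOmega f) (OmegaSh.dOmega f')
  replace hc : OmegaSh.IsDiffCompat g' (OmegaSh.dOmega f) (OmegaSh.dOmega f') c := hc
  haveI := isIso_diffCompat_of_isPullback hsq (isUniversal_dOmega f) (isUniversal_dOmega f') hc
  exact ⟨asIso c⟩

end Groth.Agent.H3.Om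

namespace Groth.Agent.H3.Om

/-- Fitting ideals are invariant under linear equivalence. -/
theorem fitt_ideal_le_of_linearEquiv {R : Type u} [CommRing R] {M N : Type u} [AddCommGroup M]
    [Module R M] [AddCommGroup N] [Module R N] (e : M ≃ₗ[R] N) (r : ℕ) :
    Fitt.ideal R M r ≤ Fitt.ideal R N r := by
  unfold Fitt.ideal
  apply Ideal.span_mono
  rintro d ⟨n, x, a, hx, hrel, rfl⟩
  refine ⟨n, fun j => e (x j), a, ?_, fun i hi => ?_, rfl⟩
  · have : Set.range (fun j => e (x j)) = e '' Set.range x := by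
      rw [← Set.range_comp]; rfl
    rw [this]
    have h2 := Submodule.map_span e.toLinearMap (Set.range x)
    rw [hx, Submodule.map_top] at h2
    rw [← LinearMap.range_eq_top.2 e.surjective]
    exact h2.symm
  · have := congrArg e (hrel i hi)
    simpa using this

theorem fitt_ideal_eq_of_linearEquiv {R : Type u} [CommRing R] {M N : Type u} [AddCommGroup M]
    [Module R M] [AddCommGroup N] [Module R N] (e : M ≃ₗ[R] N) (r : ℕ) :
    Fitt.ideal R M r = Fitt.ideal R N r :=
  le_antisymm (fitt_ideal_le_of_linearEquiv e r) (fitt_ideal_le_of_linearEquiv e.symm r)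

/-- an isomorphism of modules induces linear equivalences on sections. -/
noncomputable def sectionsLinearEquiv {X : Scheme.{u}} {F G : X.Modules} (e : F ≅ G)
    (U : X.Opens) : Γ(F, U) ≃ₗ[Γ(X, U)] Γ(G, U) where
  toFun := e.hom.app U
  invFun := e.inv.app U
  map_add' := map_add _
  map_smul' a m := Scheme.Modules.Hom.app_smul e.hom a m
  left_inv m := by
    have h := congrArg (fun φ => Scheme.Modules.Hom.app φ U m) e.hom_inv_id
    exact h
  right_inv m := by
    have h := congrArg (fun φ => Scheme.Modules.Hom.app φ U m) e.inv_hom_id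
    exact h

/-- the Fitting ideal sheaf is invariant under isomorphism. -/
theorem fitt_sheafIdeal_eq_of_iso {X : Scheme.{u}} {F G : X.Modules} (e : F ≅ G) (r : ℕ) :
    Fitt.sheafIdeal F r = Fitt.sheafIdeal G r := by
  unfold Fitt.sheafIdeal
  congr 1
  funext U
  exact fitt_ideal_eq_of_linearEquiv (sectionsLinearEquiv e U.1) r

end Groth.Agent.H3.Om
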