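import Mathlib
import Groth.Prelude.Def_Omega3
import Groth.Prelude.Def_MoreMor
import Groth.Agent.Lib.Helper3.OmFin
import Groth.Agent.Lib.Lead.QC.LocFree
import Groth.Agent.Lib.Helper1.SmoothDim

set_option autoImplicit false
universe u
open AlgebraicGeometry CategoryTheory TopologicalSpace Opposite CategoryTheory.Limits

namespace Groth.Agent.H3.Om

variable {X Y : Scheme.{u}}

/-- (after helper1's S2768) fibre dimension from a standard smooth chart of relative dimension `n`. -/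
theorem fibreDimAt_of_chart (f : X ⟶ Y) {U : X.Opens} (hU : IsAffineOpen U) {V : Y.Opens}
    (hV : IsAffineOpen V) (e : U ≤ f ⁻¹ᵁ V) (n : ℕ)
    (hf : (f.appLE V U e).hom.IsStandardSmoothOfRelativeDimension n) (x : X) (hx : x ∈ U) :
    FlatMor.fibreDimAt f x = (n : WithBot ℕ∞) := by
  obtain ⟨g, hg1, hg2⟩ := hf.exists_etale_mvPolynomial
  have hxy : hU.fromSpec (hU.primeIdealOf ⟨x, hx⟩) = x := hU.fromSpec_primeIdealOf ⟨x, hx⟩
  rw [← hxy, Groth.Agent.H1.FibDimFP.fibreDimAt_fromSpec f hU hV e]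
  have hfac : Spec.map (f.appLE V U e) = Spec.map (CommRingCat.ofHom g) ≫
      Spec.map (CommRingCat.ofHom (algebraMap Γ(Y, V) (MvPolynomial (Fin n) Γ(Y, V)))) := by
    rw [← Spec.map_comp]
    congr 1
    ext1
    rw [CommRingCat.hom_comp, CommRingCat.hom_ofHom, CommRingCat.hom_ofHom,
      MvPolynomial.algebraMap_eq]
    exact hg1.symm
  haveI : Etale (Spec.map (CommRingCat.ofHom g)) :=
    (HasRingHomProperty.Spec_iff (P := @Etale)).mpr hg2
  rw [hfac, Groth.Agent.H1.FibDimEt.fibreDimAt_comp_of_etale,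
    Groth.Agent.H1.SmoothDim.fibreDimAt_SpecMap_mvPolynomial]

/-- free of rank `n` sections over an affine give a trivialization on that open -/
theorem restrict_iso_freeMod_of_sections (M : X.Modules) [M.IsQuasicoherent] {U : X.Opens}
    (hU : IsAffineOpen U) (n : ℕ) (ℓ : Γ(M, U) ≃ₗ[Γ(X, U)] (Fin n → Γ(X, U))) :
    Nonempty (M.restrict U.ι ≅ FlatMod.freeMod (↑U) n) := by
  obtain ⟨e⟩ := (Groth.Agent.LD.QC.restrict_fromSpec_iso_freeMod_iff M hU n).mpr ⟨ℓ⟩
  exact Groth.Agent.LD.QC.freeMod_of_range_subset M hU.fromSpec U.ι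
    (Groth.Agent.LD.QC.range_ι_subset_range_fromSpec hU) n e

/-- S5019 -/
theorem exists_free_of_smooth {f : X ⟶ Y} [Smooth f] {Ω' : X.Modules} {d : OmegaSh.Der f Ω'}
    (hd : OmegaSh.IsUniversal d) (x : X) :
    ∃ (U : X.Opens) (n : ℕ), x ∈ U ∧ Nonempty (Ω'.restrict U.ι ≅ FlatMod.freeMod (↑U) n) ∧
      FlatMor.fibreDimAt f x = (n : WithBot ℕ∞) := by
  haveI := isQuasicoherent_of_isUniversal hd
  obtain ⟨V, hV, U, hU, hxU, e, hstd⟩ := Smooth.exists_isStandardSmooth f x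
  letI := (f.appLE V U e).hom.toAlgebra
  have hstd' : Algebra.IsStandardSmooth Γ(Y, V) Γ(X, U) := hstd
  obtain ⟨ι, σ, _, _, ⟨P⟩⟩ := hstd'.out
  have hn : Algebra.IsStandardSmoothOfRelativeDimension P.dimension Γ(Y, V) Γ(X, U) :=
    P.isStandardSmoothOfRelativeDimension rfl
  haveI : Nontrivial Γ(X, U) := by
    have : Nonempty (Spec Γ(X, U)) := ⟨hU.primeIdealOf ⟨x, hxU⟩⟩
    by_contra hnt
    rw [not_nontrivial_iff_subsingleton] at hnt
    exact (PrimeSpectrum.instIsEmptyOfSubsingleton (R := Γ(X, U))).false (hU.primeIdealOf ⟨x, hxU⟩)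
  have hrank := Algebra.IsStandardSmoothOfRelativeDimension.rank_kaehlerDifferential
    (R := Γ(Y, V)) (S := Γ(X, U)) P.dimension
  have hfin : Module.Finite Γ(X, U) (Ω[Γ(X, U)⁄Γ(Y, V)]) := by
    haveI : Algebra.FinitePresentation Γ(Y, V) Γ(X, U) := inferInstance
    infer_instance
  have hfr : Module.finrank Γ(X, U) (Ω[Γ(X, U)⁄Γ(Y, V)]) = P.dimension :=
    Module.finrank_eq_of_rank_eq hrank
  obtain ⟨ε, -⟩ := exists_linearEquiv_sections hd hU hV e
  let b := Module.finBasisOfFinrankEq Γ(X, U) (Ω[Γ(X, U)⁄Γ(Y, V)]) hfr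
  refine ⟨U, P.dimension, hxU,
    restrict_iso_freeMod_of_sections Ω' hU P.dimension (ε.symm ≪≫ₗ b.equivFun), ?_⟩
  exact fibreDimAt_of_chart f hU hV e P.dimension hn x hxU

end Groth.Agent.H3.Om
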