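import Mathlib
import Groth.Prelude.Def_Fitting
import Groth.Agent.H4.Fitting4
import Groth.Agent.H4.Fitting5

/-! Helper3: a finite type algebra is, locally around a prime `q`, a quotient of a standard smooth
algebra of relative dimension `dim Ω ⊗ κ(q)`. -/

set_option autoImplicit false
universe u
open TensorProduct KaehlerDifferential MvPolynomial

namespace Groth.Agent.H3.ClImmSm

variable {A B : Type u} [CommRing A] [CommRing B] [Algebra A B]

/-- relations among the differentials of the generators come from elements of the kernel. -/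
theorem exists_mem_ker_pderiv {n : ℕ} (π : MvPolynomial (Fin n) A →ₐ[A] B)
    (hπ : Function.Surjective π) (z : Fin n → B)
    (hz : ∑ i, z i • D A B (π (X i)) = 0) :
    ∃ v : MvPolynomial (Fin n) A, π v = 0 ∧ ∀ i, π (pderiv i v) = z i := by
  letI algPB : Algebra (MvPolynomial (Fin n) A) B := π.toRingHom.toAlgebra
  haveI : IsScalarTower A (MvPolynomial (Fin n) A) B :=
    IsScalarTower.of_algebraMap_eq' π.comp_algebraMap.symm
  have hsurj : Function.Surjective (algebraMap (MvPolynomial (Fin n) A) B) := hπ
  have hex := KaehlerDifferential.exact_kerCotangentToTensor_mapBaseChange A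
    (MvPolynomial (Fin n) A) B hsurj
  let ω : B ⊗[MvPolynomial (Fin n) A] Ω[MvPolynomial (Fin n) A⁄A] :=
    ∑ i, z i ⊗ₜ[MvPolynomial (Fin n) A] D A (MvPolynomial (Fin n) A) (X i)
  have hω : mapBaseChange A (MvPolynomial (Fin n) A) B ω = 0 := by
    rw [map_sum]
    rw [← hz]
    refine Finset.sum_congr rfl fun i _ => ?_
    rw [mapBaseChange_tmul, map_D]
    rfl
  obtain ⟨c, hc⟩ := (hex ω).mp hω
  obtain ⟨v, rfl⟩ := Ideal.toCotangent_surjective _ c
  refine ⟨v.1, (RingHom.mem_ker).mp v.2, fun i => ?_⟩
  let ℓ : B ⊗[MvPolynomial (Fin n) A] Ω[MvPolynomial (Fin n) A⁄A] →ₗ[B] B :=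
    LinearMap.liftBaseChange B ((Algebra.linearMap (MvPolynomial (Fin n) A) B) ∘ₗ
      (mvPolynomialBasis A (Fin n)).coord i)
  have h1 : ℓ (kerCotangentToTensor A (MvPolynomial (Fin n) A) B (Ideal.toCotangent _ v)) =
      π (pderiv i v.1) := by
    rw [kerCotangentToTensor_toCotangent]
    change (1 : B) • algebraMap (MvPolynomial (Fin n) A) B
      ((mvPolynomialBasis A (Fin n)).repr (D A _ v.1) i) = _
    rw [mvPolynomialBasis_repr_apply, one_smul]
    rfl
  have h2 : ℓ ω = z i := by
    rw [map_sum]
    rw [Finset.sum_eq_single i]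
    · change z i • algebraMap (MvPolynomial (Fin n) A) B
        ((mvPolynomialBasis A (Fin n)).repr (D A _ (X i)) i) = _
      rw [mvPolynomialBasis_repr_D_X, Finsupp.single_eq_same, map_one, smul_eq_mul, mul_one]
    · intro j _ hji
      change z j • algebraMap (MvPolynomial (Fin n) A) B
        ((mvPolynomialBasis A (Fin n)).repr (D A _ (X j)) i) = _
      rw [mvPolynomialBasis_repr_D_X, Finsupp.single_eq_of_ne hji.symm, map_zero, smul_zero]
    · intro h; exact absurd (Finset.mem_univ i) h
  rw [← h1, hc, h2]

/-- the differentials of the generators span. -/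
theorem span_D_eq_top {n : ℕ} (π : MvPolynomial (Fin n) A →ₐ[A] B)
    (hπ : Function.Surjective π) :
    Submodule.span B (Set.range fun i : Fin n => D A B (π (X i))) = ⊤ := by
  letI algPB : Algebra (MvPolynomial (Fin n) A) B := π.toRingHom.toAlgebra
  haveI : IsScalarTower A (MvPolynomial (Fin n) A) B :=
    IsScalarTower.of_algebraMap_eq' π.comp_algebraMap.symm
  have hsurj : Function.Surjective (algebraMap (MvPolynomial (Fin n) A) B) := hπ
  rw [eq_top_iff]
  rintro ω -
  obtain ⟨η, rfl⟩ := KaehlerDifferential.map_surjective_of_surjective A A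
    (MvPolynomial (Fin n) A) B hsurj ω
  rw [← (mvPolynomialBasis A (Fin n)).sum_repr η, map_sum]
  refine Submodule.sum_mem _ fun i _ => ?_
  rw [mvPolynomialBasis_apply, LinearMap.map_smul_of_tower, map_D,
    ← algebraMap_smul B ((mvPolynomialBasis A (Fin n)).repr η i)]
  exact Submodule.smul_mem _ _ (Submodule.subset_span ⟨i, rfl⟩)


/-- localization of a surjection, with prescribed target. -/
theorem exists_awayMap_surjective {D' : Type u} [CommRing D'] [Algebra A D'] (ψ : D' →ₐ[A] B)
    (hψ : Function.Surjective ψ) (a : D') (g : B) (h : ψ a = g) :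
    ∃ φ : Localization.Away a →ₐ[A] Localization.Away g, Function.Surjective φ := by
  subst h
  exact ⟨Localization.awayMapₐ ψ a, IsLocalization.Away.mapₐ_surjective_of_surjective a hψ⟩

/-- **the construction**: relations with a nonvanishing Jacobian minor give a standard smooth
algebra surjecting onto a principal localization. -/
theorem exists_standardSmooth_of_minor {n m : ℕ} (π : MvPolynomial (Fin n) A →ₐ[A] B)
    (hπ : Function.Surjective π) (v : Fin m → MvPolynomial (Fin n) A) (hv : ∀ j, π (v j) = 0)
    (e : Fin m → Fin n) (he : Function.Injective e) (g : B)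
    (hg : π (Matrix.det (Matrix.of fun a b => pderiv (e a) (v b))) = g) :
    ∃ (D : Type u) (_ : CommRing D) (_ : Algebra A D),
      Algebra.IsStandardSmoothOfRelativeDimension (n - m) A D ∧
        ∃ φ : D →ₐ[A] Localization.Away g, Function.Surjective φ := by
  classical
  let P' : Algebra.PreSubmersivePresentation A
      (MvPolynomial (Fin n) A ⧸ Ideal.span (Set.range v)) (Fin n) (Fin m) :=
    Algebra.PreSubmersivePresentation.naive e he
  have hle : Ideal.span (Set.range v) ≤ RingHom.ker π.toRingHom := by
    rw [Ideal.span_le]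
    rintro _ ⟨j, rfl⟩
    exact hv j
  let ψ : (MvPolynomial (Fin n) A ⧸ Ideal.span (Set.range v)) →ₐ[A] B :=
    Ideal.Quotient.liftₐ (Ideal.span (Set.range v)) π (fun a ha => hle ha)
  have hψmk : ∀ p, ψ (Ideal.Quotient.mk _ p) = π p := fun p => rfl
  have hψ : Function.Surjective ψ := by
    intro b
    obtain ⟨p, rfl⟩ := hπ b
    exact ⟨Ideal.Quotient.mk _ p, rfl⟩
  have halg : ∀ p : MvPolynomial (Fin n) A,
      ψ (algebraMap P'.Ring (MvPolynomial (Fin n) A ⧸ Ideal.span (Set.range v)) p) = π p := by
    intro p
    have h1 : (ψ.comp (IsScalarTower.toAlgHom A P'.Ring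
        (MvPolynomial (Fin n) A ⧸ Ideal.span (Set.range v)))) = π := by
      apply MvPolynomial.algHom_ext
      intro i
      change ψ (algebraMap P'.Ring _ (X i)) = π (X i)
      rw [Algebra.Generators.algebraMap_apply, aeval_X]
      rfl
    exact congrArg (fun F => F p) h1
  have hjac : ψ P'.jacobian = g := by
    rw [Algebra.PreSubmersivePresentation.jacobian_eq_jacobiMatrix_det, halg, ← hg]
    congr 2
    refine Matrix.ext fun i j => ?_
    exact (Algebra.PreSubmersivePresentation.jacobiMatrix_apply P' i j).trans rfl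
  obtain ⟨φ, hφ⟩ := exists_awayMap_surjective ψ hψ P'.jacobian g hjac
  let Q : Algebra.PreSubmersivePresentation
      (MvPolynomial (Fin n) A ⧸ Ideal.span (Set.range v)) (Localization.Away P'.jacobian)
      Unit Unit :=
    Algebra.PreSubmersivePresentation.localizationAway (Localization.Away P'.jacobian) P'.jacobian
  have hR : IsUnit (Q.comp P').jacobian := by
    rw [Algebra.PreSubmersivePresentation.comp_jacobian_eq_jacobian_smul_jacobian,
      Algebra.PreSubmersivePresentation.localizationAway_jacobian, Algebra.smul_def]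
    exact (IsLocalization.Away.algebraMap_isUnit _).mul (IsLocalization.Away.algebraMap_isUnit _)
  let S : Algebra.SubmersivePresentation A (Localization.Away P'.jacobian)
      (Unit ⊕ Fin n) (Unit ⊕ Fin m) := ⟨Q.comp P', hR⟩
  have hdim : S.dimension = n - m := by
    simp only [Algebra.Presentation.dimension, Nat.card_eq_fintype_card, Fintype.card_sum,
      Fintype.card_unit, Fintype.card_fin]
    omega
  exact ⟨Localization.Away P'.jacobian, inferInstance, inferInstance,
    S.isStandardSmoothOfRelativeDimension hdim, φ, hφ⟩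


open Groth.Agent.H4.Fitting in
/-- Fitting ideals over a field (as in helper4's `S6894`). -/
theorem fitt_field_case {K : Type u} [Field K] {V : Type u} [AddCommGroup V] [Module K V]
    [Module.Finite K V] (k : ℕ) :
    Fitt.ideal K V k = ⊤ ↔ Module.finrank K V ≤ k := by
  rw [ideal_eq_top_iff_of_isLocalRing]
  constructor
  · rintro ⟨g, hg⟩
    simpa using finrank_le_of_span_eq_top hg
  · intro h
    have hb := (Module.finBasis K V).span_eq
    have : Fitt.ideal K V k = ⊤ :=
      ideal_eq_top_of_span _ hb (by simpa using h)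
    exact (ideal_eq_top_iff_of_isLocalRing k).mp this

open Groth.Agent.H4.Fitting in
/-- the Fitting ideal criterion for the dimension of the fibre (as in helper4's `S6894`). -/
theorem not_fitt_le_iff_finrank_le {R : Type u} [CommRing R] (M : Type u) [AddCommGroup M]
    [Module R M] [Module.Finite R M] (k : ℕ) (p : Ideal R) [p.IsPrime] :
    (¬ Fitt.ideal R M k ≤ p ↔ Module.finrank p.ResidueField (p.ResidueField ⊗[R] M) ≤ k) := by
  rw [not_le_iff_baseChange_eq_top (M := M) p.ResidueField p ?_ k, fitt_field_case]
  rw [IsLocalRing.maximalIdeal_eq_bot]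
  exact Ideal.ker_algebraMap_residueField p

/-- **a finite type algebra is locally a quotient of a standard smooth algebra of relative
dimension any `r ≥ dim Ω ⊗ κ(q)`.** -/
theorem main (A B : Type u) [CommRing A] [CommRing B] [Algebra A B] [Algebra.FiniteType A B]
    (q : Ideal B) [q.IsPrime] (r : ℕ)
    (hr : Module.finrank q.ResidueField (q.ResidueField ⊗[B] Ω[B⁄A]) ≤ r) :
    ∃ g : B, g ∉ q ∧ ∃ (D : Type u) (_ : CommRing D) (_ : Algebra A D),
      Algebra.IsStandardSmoothOfRelativeDimension r A D ∧
        ∃ φ : D →ₐ[A] Localization.Away g, Function.Surjective φ := by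
  classical
  obtain ⟨n₀, f, hf⟩ := Algebra.FiniteType.iff_quotient_mvPolynomial''.mp
    (inferInstance : Algebra.FiniteType A B)
  let π : MvPolynomial (Fin (n₀ + r)) A →ₐ[A] B :=
    aeval (Fin.addCases (fun i => f (X i)) (fun _ => 0))
  have hπ : Function.Surjective π := by
    intro b
    obtain ⟨p, rfl⟩ := hf b
    refine ⟨rename (Fin.castAdd r) p, ?_⟩
    change aeval _ (rename (Fin.castAdd r) p) = f p
    rw [aeval_rename]
    have h1 : (Fin.addCases (fun i => f (X i)) (fun _ => 0) : Fin (n₀ + r) → B) ∘
        Fin.castAdd r = fun i => f (X i) := by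
      funext i
      simp [Fin.addCases_left]
    rw [h1]
    exact (congrArg (fun F => F p) (aeval_unique f)).symm
  have hx : Submodule.span B (Set.range fun i : Fin (n₀ + r) => D A B (π (X i))) = ⊤ :=
    span_D_eq_top π hπ
  have hnot : ¬ Fitt.ideal B Ω[B⁄A] r ≤ q := (not_fitt_le_iff_finrank_le _ r q).mpr hr
  rw [Groth.Agent.H4.Fitting.ideal_eq_Mi r _ hx] at hnot
  unfold Groth.Agent.H4.Fitting.Mi at hnot
  rw [Ideal.span_le] at hnot
  obtain ⟨d, ⟨z, e, hz, rfl⟩, hd⟩ := Set.not_subset.mp hnot
  have he : Function.Injective e := by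
    intro a a' haa'
    by_contra hne
    apply hd
    rw [Matrix.det_zero_of_row_eq hne (by ext b; simp [haa'])]
    exact q.zero_mem
  choose v hv0 hv using fun j => exists_mem_ker_pderiv π hπ (z j) (hz j)
  have hg : π (Matrix.det (Matrix.of fun a b => pderiv (e a) (v b))) =
      (Matrix.of fun a b => z b (e a)).det := by
    rw [AlgHom.map_det]
    congr 1
    ext a b
    simp [hv]
  obtain ⟨D, i1, i2, hD, φ, hφ⟩ := exists_standardSmooth_of_minor π hπ v hv0 e he _ hg
  have hnm : n₀ + r - (n₀ + r - r) = r := by omega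
  rw [hnm] at hD
  exact ⟨_, hd, D, i1, i2, hD, φ, hφ⟩

end Groth.Agent.H3.ClImmSm
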