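import Mathlib
import Groth.Prelude.Def_Fitting
import Groth.Prelude.Def_Omega2
import Groth.Agent.Lib.Helper3.ClImmSm
import Groth.Agent.Lib.Helper3.OmFin
import Groth.Agent.H4.FittSheaf

/-! Helper3: the Jacobian locus `V(Fit_p Ω_{X/Y})` and closed immersions into smooth schemes. -/

set_option autoImplicit false
universe u
open AlgebraicGeometry CategoryTheory CategoryTheory.Limits TensorProduct KaehlerDifferential

namespace Groth.Agent.H3.JacLocus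

open Groth.Agent.H3.Om Groth.Agent.LD.QC

/-- membership in the Fitting support on an affine chart. -/
theorem mem_support_sheafIdeal_iff {X : Scheme.{u}} (F : X.Modules) [F.IsQuasicoherent]
    (hF : F.IsFiniteType) (r : ℕ) {U : X.Opens} (hU : IsAffineOpen U) (x : X) (hx : x ∈ U) :
    x ∈ (Fitt.sheafIdeal F r).support ↔
      Fitt.ideal Γ(X, U) Γ(F, U) r ≤ (hU.primeIdealOf ⟨x, hx⟩).asIdeal := by
  rw [Scheme.IdealSheafData.mem_support_iff_of_mem (U := ⟨U, hU⟩) hx,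
    Groth.Agent.H4.FittSheaf.sheafIdeal_ideal F hF r ⟨U, hU⟩, Scheme.mem_zeroLocus_iff]
  constructor
  · intro h s hs
    by_contra hnot
    exact h s hs ((X.mem_basicOpen s x hx).mpr (isUnit_germ_of_notMem hU x hx s hnot))
  · intro h s hs hxs
    exact (mem_primeCompl_of_mem_basicOpen hU x hx s hxs) (h hs)

/-- outside the `p`-th Jacobian locus, `X` is locally a closed subscheme of a scheme smooth of
relative dimension `p`. -/
theorem exists_closedImmersion_of_not_mem {X Y : Scheme.{u}} (f : X ⟶ Y)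
    [LocallyOfFinitePresentation f] [QuasiSeparated f] (p : ℕ) (x : X)
    (hx : x ∉ (Fitt.sheafIdeal (Omega.sheaf f) p).support) :
    ∃ (U : X.Opens) (U' : Scheme.{u}) (i : (U : Scheme.{u}) ⟶ U') (g : U' ⟶ Y),
      x ∈ U ∧ IsClosedImmersion i ∧ SmoothOfRelativeDimension p g ∧ i ≫ g = U.ι ≫ f := by
  obtain ⟨U₀, V, hU₀, hV, hxU₀, hle⟩ := exists_chart f x
  letI algAB : Algebra Γ(Y, V) Γ(X, U₀) := (f.appLE V U₀ hle).hom.toAlgebra
  have hfp : RingHom.FinitePresentation (f.appLE V U₀ hle).hom :=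
    HasRingHomProperty.appLE @LocallyOfFinitePresentation f inferInstance ⟨V, hV⟩ ⟨U₀, hU₀⟩ hle
  haveI : Algebra.FinitePresentation Γ(Y, V) Γ(X, U₀) := hfp
  haveI : Algebra.FiniteType Γ(Y, V) Γ(X, U₀) := inferInstance
  haveI : LocallyOfFiniteType f := inferInstance
  obtain ⟨ε, -⟩ := exists_linearEquiv_kaehler f hU₀ hV hle
  have h1 : ¬ Fitt.ideal Γ(X, U₀) Γ(Omega.sheaf f, U₀) p ≤
      (hU₀.primeIdealOf ⟨x, hxU₀⟩).asIdeal := by
    rwa [← mem_support_sheafIdeal_iff (Omega.sheaf f) (isFiniteType_omega f) p hU₀ x hxU₀]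
  haveI : Module.Finite Γ(X, U₀) Γ(Omega.sheaf f, U₀) := finite_sections_omega f hU₀ hV hle
  rw [← Groth.Agent.H4.Fitting.ideal_congr p ε] at h1
  have h2 := (ClImmSm.not_fitt_le_iff_finrank_le Ω[Γ(X, U₀)⁄Γ(Y, V)] p
    (hU₀.primeIdealOf ⟨x, hxU₀⟩).asIdeal).mp h1
  obtain ⟨g₀, hg₀, D, instD, algD, hD, φ, hφ⟩ := ClImmSm.main Γ(Y, V) Γ(X, U₀)
    (hU₀.primeIdealOf ⟨x, hxU₀⟩).asIdeal p h2
  have hU : IsAffineOpen (X.basicOpen g₀) := hU₀.basicOpen g₀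
  haveI locU : IsLocalization.Away g₀ Γ(X, X.basicOpen g₀) := hU₀.isLocalization_basicOpen g₀
  have hxU : x ∈ X.basicOpen g₀ :=
    (X.mem_basicOpen g₀ x hxU₀).mpr (isUnit_germ_of_notMem hU₀ x hxU₀ g₀ hg₀)
  let κ : Localization.Away g₀ ≃ₐ[Γ(X, U₀)] Γ(X, X.basicOpen g₀) :=
    IsLocalization.algEquiv (Submonoid.powers g₀) _ _
  let ρ : D →+* Γ(X, X.basicOpen g₀) :=
    (κ : Localization.Away g₀ →+* Γ(X, X.basicOpen g₀)).comp (φ : D →+* Localization.Away g₀)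
  have hρ : Function.Surjective ρ := κ.surjective.comp hφ
  have hle' : X.basicOpen g₀ ≤ f ⁻¹ᵁ V := (X.basicOpen_le g₀).trans hle
  have hρA : ρ.comp (algebraMap Γ(Y, V) D) = (f.appLE V (X.basicOpen g₀) hle').hom := by
    ext a
    change κ (φ (algebraMap Γ(Y, V) D a)) = _
    rw [φ.commutes, IsScalarTower.algebraMap_apply Γ(Y, V) Γ(X, U₀) (Localization.Away g₀),
      κ.commutes]
    change (X.presheaf.map (homOfLE (X.basicOpen_le g₀)).op).hom ((f.appLE V U₀ hle).hom a) = _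
    rw [← Scheme.Hom.appLE_map f hle (homOfLE (X.basicOpen_le g₀)).op]
    rfl
  refine ⟨X.basicOpen g₀, Spec (CommRingCat.of D),
    hU.isoSpec.hom ≫ Spec.map (CommRingCat.ofHom ρ),
    Spec.map (CommRingCat.ofHom (algebraMap Γ(Y, V) D)) ≫ hV.fromSpec, hxU, ?_, ?_, ?_⟩
  · haveI : IsClosedImmersion (Spec.map (CommRingCat.ofHom ρ)) :=
      IsClosedImmersion.spec_of_surjective _ hρ
    infer_instance
  · haveI : SmoothOfRelativeDimension p
        (Spec.map (CommRingCat.ofHom (algebraMap Γ(Y, V) D))) := by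
      rw [HasRingHomProperty.Spec_iff (P := @SmoothOfRelativeDimension p)]
      exact RingHom.locally_of RingHom.isStandardSmoothOfRelativeDimension_respectsIso _
        ((RingHom.isStandardSmoothOfRelativeDimension_algebraMap p).mpr hD)
    exact inferInstanceAs (SmoothOfRelativeDimension (p + 0) _)
  · rw [Category.assoc, ← Spec.map_comp_assoc, ← CommRingCat.ofHom_comp, hρA,
      CommRingCat.ofHom_hom, IsAffineOpen.SpecMap_appLE_fromSpec f hV hU hle',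
      ← Category.assoc, hU.isoSpec_hom_fromSpec]


/-- `appLE` only depends on the morphism. -/
theorem appLE_eq_of_eq {X Y : Scheme.{u}} {φ ψ : X ⟶ Y} (h : φ = ψ) (V : Y.Opens) (W : X.Opens)
    (e₁ : W ≤ φ ⁻¹ᵁ V) (e₂ : W ≤ ψ ⁻¹ᵁ V) : φ.appLE V W e₁ = ψ.appLE V W e₂ := by
  subst h
  rfl

/-- a point with a neighbourhood that is a closed subscheme of a scheme smooth of relative
dimension `p` lies outside the `p`-th Jacobian locus. -/
theorem not_mem_of_closedImmersion {X Y : Scheme.{u}} (f : X ⟶ Y)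
    [LocallyOfFinitePresentation f] [QuasiSeparated f] (p : ℕ) (x : X)
    (U : X.Opens) (U' : Scheme.{u}) (i : (U : Scheme.{u}) ⟶ U') (g : U' ⟶ Y) (hxU : x ∈ U)
    [IsClosedImmersion i] [SmoothOfRelativeDimension p g] (comm : i ≫ g = U.ι ≫ f) :
    x ∉ (Fitt.sheafIdeal (Omega.sheaf f) p).support := by
  haveI : LocallyOfFiniteType f := inferInstance
  obtain ⟨V, hV, W', hW', hx'W', e, hstd⟩ :=
    SmoothOfRelativeDimension.exists_isStandardSmoothOfRelativeDimension (n := p) (f := g)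
      (i ⟨x, hxU⟩)
  have hW : IsAffineOpen (i ⁻¹ᵁ W') := hW'.preimage i
  have hWX : IsAffineOpen (U.ι ''ᵁ (i ⁻¹ᵁ W')) := hW.image_of_isOpenImmersion U.ι
  have hxWX : x ∈ U.ι ''ᵁ (i ⁻¹ᵁ W') := ⟨⟨x, hxU⟩, hx'W', rfl⟩
  have hle : U.ι ''ᵁ (i ⁻¹ᵁ W') ≤ f ⁻¹ᵁ V := by
    rintro _ ⟨z, hz, rfl⟩
    have h1 : f (U.ι z) = g (i z) := by
      rw [← Scheme.Hom.comp_apply, ← comm, Scheme.Hom.comp_apply]
    show f (U.ι z) ∈ V
    rw [h1]
    exact e hz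
  -- the ring maps
  let ρ : Γ(U', W') →+* Γ(X, U.ι ''ᵁ (i ⁻¹ᵁ W')) :=
    ((U.ι.appIso (i ⁻¹ᵁ W')).inv).hom.comp (i.app W').hom
  have hρ : Function.Surjective ρ := by
    have h1 : Function.Surjective (i.app W').hom := i.app_surjective W' hW'
    have h2 : Function.Surjective ((U.ι.appIso (i ⁻¹ᵁ W')).inv).hom :=
      ((U.ι.appIso (i ⁻¹ᵁ W')).symm.commRingCatIsoToRingEquiv).surjective
    exact h2.comp h1
  have hcompat : g.appLE V W' e ≫ i.app W' ≫ (U.ι.appIso (i ⁻¹ᵁ W')).inv =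
      f.appLE V (U.ι ''ᵁ (i ⁻¹ᵁ W')) hle := by
    have h1 : g.appLE V W' e ≫ i.app W' = (i ≫ g).appLE V (i ⁻¹ᵁ W')
        (fun z hz => e hz) := by
      rw [Scheme.Hom.app_eq_appLE, Scheme.Hom.appLE_comp_appLE]
    have h2 : f.appLE V (U.ι ''ᵁ (i ⁻¹ᵁ W')) hle ≫ (U.ι.appIso (i ⁻¹ᵁ W')).hom =
        (U.ι ≫ f).appLE V (i ⁻¹ᵁ W') (fun z hz => hle ⟨z, hz, rfl⟩) := by
      rw [Scheme.Hom.appIso_hom', Scheme.Hom.appLE_comp_appLE]
    have h3 : (i ≫ g).appLE V (i ⁻¹ᵁ W') (fun z hz => e hz) =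
        (U.ι ≫ f).appLE V (i ⁻¹ᵁ W') (fun z hz => hle ⟨z, hz, rfl⟩) :=
      appLE_eq_of_eq comm V _ _ _
    rw [← Category.assoc, h1, h3, ← h2, Category.assoc, Iso.hom_inv_id, Category.comp_id]
  letI algAC : Algebra Γ(Y, V) Γ(U', W') := (g.appLE V W' e).hom.toAlgebra
  letI algAB : Algebra Γ(Y, V) Γ(X, U.ι ''ᵁ (i ⁻¹ᵁ W')) :=
    (f.appLE V (U.ι ''ᵁ (i ⁻¹ᵁ W')) hle).hom.toAlgebra
  letI algCB : Algebra Γ(U', W') Γ(X, U.ι ''ᵁ (i ⁻¹ᵁ W')) := ρ.toAlgebra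
  haveI tw : IsScalarTower Γ(Y, V) Γ(U', W') Γ(X, U.ι ''ᵁ (i ⁻¹ᵁ W')) := by
    refine IsScalarTower.of_algebraMap_eq' ?_
    ext a
    exact (congr($(hcompat).hom a)).symm
  haveI hstd' : Algebra.IsStandardSmoothOfRelativeDimension p Γ(Y, V) Γ(U', W') := hstd
  haveI : Nonempty W' := ⟨⟨i ⟨x, hxU⟩, hx'W'⟩⟩
  haveI : Nontrivial Γ(U', W') := Scheme.component_nontrivial U' W'
  have hrank : Module.rank Γ(U', W') Ω[Γ(U', W')⁄Γ(Y, V)] = p :=
    Algebra.IsStandardSmoothOfRelativeDimension.rank_kaehlerDifferential p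
  haveI : Algebra.IsStandardSmooth Γ(Y, V) Γ(U', W') :=
    Algebra.IsStandardSmoothOfRelativeDimension.isStandardSmooth p
  haveI : Module.Free Γ(U', W') Ω[Γ(U', W')⁄Γ(Y, V)] := inferInstance
  haveI : Module.Finite Γ(U', W') Ω[Γ(U', W')⁄Γ(Y, V)] := Module.finite_of_rank_eq_nat hrank
  have hfr : Module.finrank Γ(U', W') Ω[Γ(U', W')⁄Γ(Y, V)] = p :=
    Module.finrank_eq_of_rank_eq hrank
  let b : Module.Basis (Fin p) Γ(U', W') Ω[Γ(U', W')⁄Γ(Y, V)] := Module.finBasisOfFinrankEq _ _ hfr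
  have hρ' : Function.Surjective (algebraMap Γ(U', W') Γ(X, U.ι ''ᵁ (i ⁻¹ᵁ W'))) := hρ
  have hy : Submodule.span Γ(X, U.ι ''ᵁ (i ⁻¹ᵁ W')) (Set.range fun k : Fin p =>
      KaehlerDifferential.map Γ(Y, V) Γ(Y, V) Γ(U', W') Γ(X, U.ι ''ᵁ (i ⁻¹ᵁ W')) (b k)) = ⊤ := by
    rw [eq_top_iff]
    rintro ω -
    obtain ⟨η, rfl⟩ := KaehlerDifferential.map_surjective_of_surjective Γ(Y, V) Γ(Y, V)
      Γ(U', W') Γ(X, U.ι ''ᵁ (i ⁻¹ᵁ W')) hρ' ω
    rw [← b.sum_repr η, map_sum]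
    refine Submodule.sum_mem _ fun k _ => ?_
    rw [LinearMap.map_smul, ← algebraMap_smul Γ(X, U.ι ''ᵁ (i ⁻¹ᵁ W')) (b.repr η k)]
    exact Submodule.smul_mem _ _ (Submodule.subset_span ⟨k, rfl⟩)
  have hF : Fitt.ideal Γ(X, U.ι ''ᵁ (i ⁻¹ᵁ W'))
      Ω[Γ(X, U.ι ''ᵁ (i ⁻¹ᵁ W'))⁄Γ(Y, V)] p = ⊤ :=
    Groth.Agent.H4.Fitting.ideal_eq_top_of_span _ hy (by simp)
  obtain ⟨ε, -⟩ := exists_linearEquiv_kaehler f hWX hV hle
  rw [Groth.Agent.H4.Fitting.ideal_congr p ε] at hF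
  intro hmem
  rw [mem_support_sheafIdeal_iff (Omega.sheaf f) (isFiniteType_omega f) p hWX x hxWX, hF] at hmem
  exact (hWX.primeIdealOf ⟨x, hxWX⟩).isPrime.ne_top (top_le_iff.mp hmem)

end Groth.Agent.H3.JacLocus
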