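import Mathlib
/-! helper3: commutative algebra lemmas for the CAlg cluster. -/
universe u
open TensorProduct

namespace Groth.Agent.H3.CAlgAux

theorem atPrime_of_forall_prime_le {R S : Type*} [CommRing R] [CommRing S] [Algebra R S]
    (p : Ideal R) [p.IsPrime] (q : Ideal S) [q.IsPrime] [q.LiesOver p]
    (h : ∀ q' : Ideal S, q'.IsPrime → q'.under R ≤ p → q' ≤ q) :
    IsLocalization.AtPrime (Localization (Algebra.algebraMapSubmonoid S p.primeCompl)) q := by
  set M := Algebra.algebraMapSubmonoid S p.primeCompl with hM
  refine IsLocalization.of_le M q.primeCompl ?_ ?_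
  · rintro _ ⟨r, hr, rfl⟩
    intro hmem
    apply hr
    rw [q.over_def p]
    exact hmem
  · intro s hs
    by_contra hnu
    obtain ⟨m, hm, hsm⟩ := exists_max_ideal_of_mem_nonunits (mem_nonunits_iff.mpr hnu)
    have hq' : (m.comap (algebraMap S (Localization M))).IsPrime := Ideal.comap_isPrime _ _
    have hle := h _ hq' (by
      intro r hr
      by_contra hrp
      have hu : IsUnit (algebraMap S (Localization M) (algebraMap R S r)) :=
        IsLocalization.map_units (Localization M) (⟨algebraMap R S r, ⟨r, hrp, rfl⟩⟩ : M)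
      have : algebraMap S (Localization M) (algebraMap R S r) ∈ m := hr
      exact hm.ne_top (Ideal.eq_top_of_isUnit_mem _ this hu))
    exact hs (hle hsm)

theorem isFiniteLength_of_maximal_smul_top_eq_bot {R : Type*} [CommRing R] (m : Ideal R) [hmax : m.IsMaximal]
    (Q : Type*) [AddCommGroup Q] [Module R Q] [Module.Finite R Q]
    (h : m • (⊤ : Submodule R Q) = ⊥) : IsFiniteLength R Q := by
  have hT : Module.IsTorsionBySet R Q m := by
    intro x a
    have : (a : R) • x ∈ m • (⊤ : Submodule R Q) := Submodule.smul_mem_smul a.2 trivial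
    rw [h] at this
    exact this
  letI := hT.module
  haveI : IsScalarTower R (R ⧸ m) Q := hT.isScalarTower
  letI : Field (R ⧸ m) := Ideal.Quotient.field m
  haveI : Module.Finite (R ⧸ m) Q := Module.Finite.of_restrictScalars_finite R (R ⧸ m) Q
  have h1 := Module.length_eq_finrank (R ⧸ m) Q
  have h2 := Module.length_eq_of_surjective (S := R) (R := R ⧸ m) (M := Q) Ideal.Quotient.mk_surjective
  rw [← Module.length_ne_top_iff, h2, h1]
  exact ENat.natCast_ne_top _

/-- A "snake lemma" for tensor products: rows `M₁ → M₂ → M₃ → 0` and `N' → N → Q → 0`. -/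
theorem lTensor_injective_of_exact {R : Type*} [CommRing R] {M₁ M₂ M₃ N' N Q : Type*}
    [AddCommGroup M₁] [Module R M₁] [AddCommGroup M₂] [Module R M₂] [AddCommGroup M₃] [Module R M₃]
    [AddCommGroup N'] [Module R N'] [AddCommGroup N] [Module R N] [AddCommGroup Q] [Module R Q]
    (f : M₁ →ₗ[R] M₂) (g : M₂ →ₗ[R] M₃) (hexact : Function.Exact f g) (hg : Function.Surjective g)
    (i : N' →ₗ[R] N) (π : N →ₗ[R] Q) (hiπ : Function.Exact i π) (hπs : Function.Surjective π)
    (hM₂ : Function.Injective (i.lTensor M₂)) (hfQ : Function.Injective (f.rTensor Q)) :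
    Function.Injective (i.lTensor M₃) := by
  rw [injective_iff_map_eq_zero]
  intro x hx
  obtain ⟨y, rfl⟩ := LinearMap.rTensor_surjective N' hg x
  have e2 : (g.rTensor N) ((i.lTensor M₂) y) = 0 := by
    rw [← LinearMap.comp_apply, LinearMap.rTensor_comp_lTensor, ← LinearMap.lTensor_comp_rTensor,
      LinearMap.comp_apply, hx]
  obtain ⟨z, hz⟩ := (rTensor_exact N hexact hg _).mp e2
  have e3 : (f.rTensor Q) ((π.lTensor M₁) z) = 0 := by
    rw [← LinearMap.comp_apply, LinearMap.rTensor_comp_lTensor, ← LinearMap.lTensor_comp_rTensor,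
      LinearMap.comp_apply, hz, ← LinearMap.comp_apply, ← LinearMap.lTensor_comp]
    have : π ∘ₗ i = 0 := hiπ.linearMap_comp_eq_zero
    rw [this, LinearMap.lTensor_zero, LinearMap.zero_apply]
  have e3' : (π.lTensor M₁) z = 0 := hfQ (by rw [e3, map_zero])
  obtain ⟨w, hw⟩ := (lTensor_exact M₁ hiπ hπs _).mp e3'
  have e4 : (i.lTensor M₂) ((f.rTensor N') w) = (i.lTensor M₂) y := by
    rw [← LinearMap.comp_apply, LinearMap.lTensor_comp_rTensor, ← LinearMap.rTensor_comp_lTensor,
      LinearMap.comp_apply, hw, hz]
  have e4' : (f.rTensor N') w = y := hM₂ e4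
  rw [← e4', ← LinearMap.comp_apply, ← LinearMap.rTensor_comp]
  have : g ∘ₗ f = 0 := hexact.linearMap_comp_eq_zero
  rw [this, LinearMap.rTensor_zero, LinearMap.zero_apply]

/-- If `0 → M → M' → N → 0` is exact with `N` flat then `M → M'` is universally injective. -/
theorem rTensor_injective_of_flat_coker {R : Type u} [CommRing R] {M M' N : Type*}
    [AddCommGroup M] [Module R M] [AddCommGroup M'] [Module R M'] [AddCommGroup N] [Module R N]
    (f : M →ₗ[R] M') (g : M' →ₗ[R] N) (hinj : Function.Injective f) (hexact : Function.Exact f g)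
    (hg : Function.Surjective g) [Module.Flat R N]
    (Q : Type*) [AddCommGroup Q] [Module R Q] : Function.Injective (f.rTensor Q) := by
  rw [← LinearMap.lTensor_inj_iff_rTensor_inj]
  -- presentation of Q
  let p : (Q →₀ R) →ₗ[R] Q := Finsupp.linearCombination R id
  have hp : Function.Surjective p := Finsupp.linearCombination_id_surjective R Q
  let K := LinearMap.ker p
  have hKp : Function.Exact K.subtype p := LinearMap.exact_subtype_ker_map p
  refine lTensor_injective_of_exact (R := R) (M₁ := K) (M₂ := Q →₀ R) (M₃ := Q) (N' := M) (N := M') (Q := N)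
    K.subtype p hKp hp f g hexact hg ?_ ?_
  · exact Module.Flat.lTensor_preserves_injective_linearMap f hinj
  · exact Module.Flat.rTensor_preserves_injective_linearMap K.subtype (Submodule.injective_subtype K)

section BaseChangeFlat
variable {R S S' : Type u} [CommRing R] [CommRing S] [CommRing S'] [Algebra R S] [Algebra R S'] [Algebra S S'] [IsScalarTower R S S'] (M : Type u) [AddCommGroup M] [Module S M] [Module R M] [IsScalarTower R S M]

theorem key6282 {N' N : Type u} [AddCommGroup N'] [AddCommGroup N] [Module R N'] [Module R N]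
    (i : N' →ₗ[R] N) (t : (S' ⊗[S] M) ⊗[R] N') :
    (AlgebraTensorModule.assoc R S S S' M N) ((i.lTensor (S' ⊗[S] M)) t) =
      ((AlgebraTensorModule.lTensor S M i).lTensor S') ((AlgebraTensorModule.assoc R S S S' M N') t) := by
  induction t using TensorProduct.induction_on with
  | zero => simp
  | add x y hx hy => simp only [map_add, hx, hy]
  | tmul y n =>
    induction y using TensorProduct.induction_on with
    | zero => simp
    | add x y hx hy => simp only [add_tmul, map_add, hx, hy]
    | tmul s m => simp

theorem flat_baseChange_of_flat [Module.Flat S S'] [Module.Flat R M] : Module.Flat R (S' ⊗[S] M) := by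
  rw [Module.Flat.iff_lTensor_preserves_injective_linearMap'.{u}]
  intro N' N _ _ _ _ i hi
  have h1 : Function.Injective (AlgebraTensorModule.lTensor S M i) := by
    have := Module.Flat.lTensor_preserves_injective_linearMap (M := M) i hi
    exact this
  have h2 : Function.Injective ((AlgebraTensorModule.lTensor S M i).lTensor S') :=
    Module.Flat.lTensor_preserves_injective_linearMap _ h1
  intro a b hab
  have h3 := congrArg (AlgebraTensorModule.assoc R S S S' M N) hab
  rw [key6282, key6282] at h3
  exact (AlgebraTensorModule.assoc R S S S' M N').injective (h2 h3)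

theorem flat_of_flat_baseChange_of_faithfullyFlat [Module.FaithfullyFlat S S']
    [Module.Flat R (S' ⊗[S] M)] : Module.Flat R M := by
  rw [Module.Flat.iff_lTensor_preserves_injective_linearMap'.{u}]
  intro N' N _ _ _ _ i hi
  have h1 : Function.Injective (i.lTensor (S' ⊗[S] M)) :=
    Module.Flat.lTensor_preserves_injective_linearMap i hi
  have h2 : Function.Injective ((AlgebraTensorModule.lTensor S M i).lTensor S') := by
    intro a b hab
    obtain ⟨a', rfl⟩ := (AlgebraTensorModule.assoc R S S S' M N').surjective a
    obtain ⟨b', rfl⟩ := (AlgebraTensorModule.assoc R S S S' M N').surjective b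
    rw [← key6282, ← key6282] at hab
    have := h1 ((AlgebraTensorModule.assoc R S S S' M N).injective hab)
    rw [this]
  have h3 : Function.Injective (AlgebraTensorModule.lTensor S M i) :=
    (Module.FaithfullyFlat.lTensor_injective_iff_injective S S' _).mp h2
  exact h3

end BaseChangeFlat

theorem mem_smul_top_iff_exists_tensor {R : Type*} [CommRing R] (I : Ideal R) (M : Type*) [AddCommGroup M] [Module R M]
    (x : M) : x ∈ I • (⊤ : Submodule R M) ↔ ∃ t : M ⊗[R] I, (TensorProduct.rid R M) ((I.subtype.lTensor M) t) = x := by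
  constructor
  · intro hx
    induction hx using Submodule.smul_induction_on' with
    | smul r hr m _ => exact ⟨m ⊗ₜ ⟨r, hr⟩, by simp⟩
    | add a _ b _ ha hb =>
      obtain ⟨ta, rfl⟩ := ha
      obtain ⟨tb, rfl⟩ := hb
      exact ⟨ta + tb, by simp⟩
  · rintro ⟨t, rfl⟩
    induction t using TensorProduct.induction_on with
    | zero => simp
    | add a b ha hb => simp only [map_add]; exact Submodule.add_mem _ ha hb
    | tmul m r =>
      simp only [LinearMap.lTensor_tmul, Submodule.subtype_apply, rid_tmul]
      exact Submodule.smul_mem_smul r.2 trivial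

theorem exists_minimalPrime_notMem_of_ne_zero {R : Type*} [CommRing R] [IsReduced R] {y : R} (hy : y ≠ 0) :
    ∃ p ∈ minimalPrimes R, y ∉ p := by
  by_contra hcon
  push Not at hcon
  apply hy
  have h1 : y ∈ sInf (minimalPrimes R) := by
    rw [Submodule.mem_sInf]
    exact hcon
  have h2 : sInf (minimalPrimes R) = (⊥ : Ideal R).radical := Ideal.sInf_minimalPrimes
  rw [h2] at h1
  have h3 : (⊥ : Ideal R).radical = nilradical R := rfl
  rw [h3, nilradical_eq_zero] at h1
  exact h1

end Groth.Agent.H3.CAlgAux
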