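import Mathlib.Algebra.Homology.ShortComplex.HomologicalComplex
import Mathlib.Algebra.Homology.ShortComplex.Exact
import Mathlib.CategoryTheory.Abelian.Basic

/-!
Augmented brutal truncation `0 → Zⁿ → Eⁿ → Eⁿ⁺¹ → ⋯` of a `ℤ`-indexed cochain complex, as an `ℕ`-indexed complex.
-/

open CategoryTheory CategoryTheory.Limits

namespace Groth.Agent.H3.PCohAux

universe v u
variable {C : Type u} [Category.{v} C] [Abelian C] (E : CochainComplex C ℤ) (n : ℤ)

/-- terms -/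
noncomputable def augX : ℕ → C
  | 0 => E.cycles (n + ((0 : ℕ) : ℤ))
  | (i + 1) => E.X (n + (i : ℤ))

/-- differentials -/
noncomputable def augD : ∀ i : ℕ, augX E n i ⟶ augX E n (i + 1)
  | 0 => E.iCycles (n + ((0 : ℕ) : ℤ))
  | (i + 1) => E.d (n + (i : ℤ)) (n + ((i + 1 : ℕ) : ℤ))

lemma augD_sq : ∀ i : ℕ, augD E n i ≫ augD E n (i + 1) = 0
  | 0 => E.iCycles_d _ _
  | (_ + 1) => E.d_comp_d _ _ _

/-- the augmented complex -/
noncomputable def aug : CochainComplex C ℕ :=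
  CochainComplex.of (augX E n) (augD E n) (augD_sq E n)

lemma aug_d (i : ℕ) : (aug E n).d i (i + 1) = augD E n i := CochainComplex.of_d _ _ _

lemma aug_exactAt_zero : (aug E n).ExactAt 0 := by
  rw [(aug E n).exactAt_iff' 0 0 1 (by simp) (by simp)]
  have h0 : ((aug E n).sc' 0 0 1).f = 0 := (aug E n).shape 0 0 (by simp)
  rw [ShortComplex.exact_iff_mono _ h0]
  change Mono ((aug E n).d 0 (0 + 1))
  rw [aug_d]
  change Mono (E.iCycles _)
  infer_instance

lemma aug_exactAt_one : (aug E n).ExactAt 1 := by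
  rw [(aug E n).exactAt_iff' 0 1 2 (by simp) (by simp)]
  have hk := E.cyclesIsKernel (n + ((0 : ℕ) : ℤ)) (n + ((0 + 1 : ℕ) : ℤ)) (by simp)
  have e1 : ((aug E n).sc' 0 1 2).f = E.iCycles (n + ((0 : ℕ) : ℤ)) := aug_d E n 0
  have e2 : ((aug E n).sc' 0 1 2).g = E.d (n + ((0 : ℕ) : ℤ)) (n + ((0 + 1 : ℕ) : ℤ)) := aug_d E n 1
  have hex : (ShortComplex.mk (E.iCycles (n + ((0 : ℕ) : ℤ)))
      (E.d (n + ((0 : ℕ) : ℤ)) (n + ((0 + 1 : ℕ) : ℤ))) (E.iCycles_d _ _)).Exact :=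
    ShortComplex.exact_of_f_is_kernel _ hk
  refine (ShortComplex.exact_iff_of_iso ?_).1 hex
  exact ShortComplex.isoMk (Iso.refl _) (Iso.refl _) (Iso.refl _)
    ((Category.id_comp _).trans (e1.trans (Category.comp_id _).symm))
    ((Category.id_comp _).trans (e2.trans (Category.comp_id _).symm))

lemma aug_exactAt_succ_succ (i : ℕ) (h : IsZero (E.homology (n + ((i + 1 : ℕ) : ℤ)))) :
    (aug E n).ExactAt (i + 2) := by
  rw [(aug E n).exactAt_iff' (i + 1) (i + 2) (i + 3) (by simp) (by simp)]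
  have hE : E.ExactAt (n + ((i + 1 : ℕ) : ℤ)) := by
    rw [HomologicalComplex.exactAt_iff_isZero_homology]; exact h
  rw [E.exactAt_iff' (n + (i : ℤ)) (n + ((i + 1 : ℕ) : ℤ)) (n + ((i + 1 + 1 : ℕ) : ℤ))
    (by simp; omega) (by simp; omega)] at hE
  have e1 : ((aug E n).sc' (i + 1) (i + 2) (i + 3)).f = E.d (n + (i : ℤ)) (n + ((i + 1 : ℕ) : ℤ)) :=
    aug_d E n (i + 1)
  have e2 : ((aug E n).sc' (i + 1) (i + 2) (i + 3)).g =
      E.d (n + ((i + 1 : ℕ) : ℤ)) (n + ((i + 1 + 1 : ℕ) : ℤ)) := aug_d E n (i + 2)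
  refine (ShortComplex.exact_iff_of_iso ?_).1 hE
  exact ShortComplex.isoMk (Iso.refl _) (Iso.refl _) (Iso.refl _)
    ((Category.id_comp _).trans (e1.trans (Category.comp_id _).symm))
    ((Category.id_comp _).trans (e2.trans (Category.comp_id _).symm))

end Groth.Agent.H3.PCohAux
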