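import Mathlib
import Groth.Prelude.Def_EGA4Misc

set_option autoImplicit false

universe u

open AlgebraicGeometry CategoryTheory CategoryTheory.Limits

namespace Groth.Agent.H3.RadPtBC

section Alg

variable {F E K : Type*} [Field F] [Field E] [Field K]

lemma pi_of_bijective {f : F →+* E} (hf : Function.Bijective f) : f.IsPurelyInseparable := by
  algebraize [f]
  let e : F ≃ₐ[F] E := AlgEquiv.ofBijective (Algebra.ofId F E) hf
  exact e.isPurelyInseparable

lemma pi_of_comp {f : F →+* E} {g : E →+* K} (h : (g.comp f).IsPurelyInseparable) :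
    g.IsPurelyInseparable := by
  algebraize [f, g, g.comp f]
  exact IsPurelyInseparable.tower_top F E K

lemma pi_comp_bijective_iff {f : F →+* E} {g : E →+* K} (hf : Function.Bijective f) :
    (g.comp f).IsPurelyInseparable ↔ g.IsPurelyInseparable :=
  ⟨pi_of_comp, fun h => (pi_of_bijective hf).comp h⟩

lemma pi_bijective_comp_iff {f : F →+* E} {g : E →+* K} (hg : Function.Bijective g) :
    (g.comp f).IsPurelyInseparable ↔ f.IsPurelyInseparable := by
  refine ⟨fun h => ?_, fun h => h.comp (pi_of_bijective hg)⟩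
  let e : E ≃+* K := RingEquiv.ofBijective g hg
  have : f = (e.symm : K →+* E).comp (g.comp f) := by
    ext x
    exact (e.symm_apply_apply (f x)).symm
  rw [this]
  exact h.comp (pi_of_bijective e.symm.bijective)

end Alg

variable {X Y : Scheme.{u}}

lemma bijective_residueFieldMap (a : X ⟶ Y) [IsPreimmersion a] (x : X) :
    Function.Bijective (a.residueFieldMap x).hom := by
  refine ⟨(a.residueFieldMap x).hom.injective, fun t => ?_⟩
  obtain ⟨s, rfl⟩ := IsLocalRing.residue_surjective (R := X.presheaf.stalk x) t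
  obtain ⟨r, rfl⟩ := a.stalkMap_surjective x s
  exact ⟨Y.residue (a x) r, congr($(Scheme.residue_residueFieldMap a x) r)⟩

lemma pi_congr_pt (f : X ⟶ Y) {x₁ x₂ : X} (e : x₁ = x₂) :
    (f.residueFieldMap x₁).hom.IsPurelyInseparable ↔ (f.residueFieldMap x₂).hom.IsPurelyInseparable := by
  subst e; rfl

lemma pi_congr_hom {f g : X ⟶ Y} (e : f = g) (x : X) :
    (f.residueFieldMap x).hom.IsPurelyInseparable ↔ (g.residueFieldMap x).hom.IsPurelyInseparable := by
  subst e; rfl

lemma pi_comp_left {Z : Scheme.{u}} (a : Z ⟶ X) (f : X ⟶ Y) [IsPreimmersion a] (z : Z) :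
    ((a ≫ f).residueFieldMap z).hom.IsPurelyInseparable ↔
      (f.residueFieldMap (a z)).hom.IsPurelyInseparable := by
  have : ((a ≫ f).residueFieldMap z).hom =
      (a.residueFieldMap z).hom.comp (f.residueFieldMap (a z)).hom := by
    rw [Scheme.residueFieldMap_comp]; rfl
  rw [this]
  exact pi_bijective_comp_iff (bijective_residueFieldMap a z)

lemma pi_comp_right {Z : Scheme.{u}} (g : Z ⟶ X) (j : X ⟶ Y) [IsPreimmersion j] (z : Z) :
    ((g ≫ j).residueFieldMap z).hom.IsPurelyInseparable ↔
      (g.residueFieldMap z).hom.IsPurelyInseparable := by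
  have : ((g ≫ j).residueFieldMap z).hom =
      (g.residueFieldMap z).hom.comp (j.residueFieldMap (g z)).hom := by
    rw [Scheme.residueFieldMap_comp]; rfl
  rw [this]
  exact pi_comp_bijective_iff (bijective_residueFieldMap j (g z))

lemma isRadicialAt_iff (f : X ⟶ Y) (y : Y) :
    RadPt.IsRadicialAt f y ↔ UniversallyInjective (f.fiberToSpecResidueField y) := by
  have h02 : UniversallyInjective (f.fiberToSpecResidueField y) ↔
      (Function.Injective (f.fiberToSpecResidueField y) ∧
        ∀ x, ((f.fiberToSpecResidueField y).residueFieldMap x).hom.IsPurelyInseparable) :=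
    (tfae_universallyInjective (f.fiberToSpecResidueField y)).out 0 2
  rw [h02]
  have key : ∀ z : f.fiber y,
      ((f.fiberToSpecResidueField y).residueFieldMap z).hom.IsPurelyInseparable ↔
        (f.residueFieldMap (f.fiberι y z)).hom.IsPurelyInseparable := by
    intro z
    rw [← pi_comp_left (f.fiberι y) f z, pi_congr_hom (f.fiber_fac y) z,
      pi_comp_right (f.fiberToSpecResidueField y) (Y.fromSpecResidueField y) z]
  constructor
  · rintro ⟨h1, h2⟩
    refine ⟨fun z z' _ => ?_, fun z => ?_⟩
    · have hz : (f.fiberHomeo y z : X) = (f.fiberHomeo y z' : X) :=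
        h1 _ _ (f.fiberHomeo y z).2 (f.fiberHomeo y z').2
      exact (f.fiberHomeo y).injective (Subtype.ext hz)
    · rw [key]
      refine h2 _ ?_
      have := (f.fiberHomeo y z).2
      rwa [Scheme.Hom.fiberHomeo_apply] at this
  · rintro ⟨h1, h2⟩
    refine ⟨fun x x' hx hx' => ?_, fun x hx => ?_⟩
    · have : (f.fiberHomeo y).symm ⟨x, hx⟩ = (f.fiberHomeo y).symm ⟨x', hx'⟩ :=
        h1 (by rw [Scheme.Hom.fiberToSpecResidueField_apply, Scheme.Hom.fiberToSpecResidueField_apply])
      have := (f.fiberHomeo y).symm.injective this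
      exact congrArg Subtype.val this
    · have := (key ((f.fiberHomeo y).symm ⟨x, hx⟩)).1 (h2 _)
      rwa [pi_congr_pt f (f.fiberι_fiberHomeo_symm y ⟨x, hx⟩)] at this

theorem main {X Y X' Y' : Scheme.{u}} {f : X ⟶ Y} {h : Y' ⟶ Y} {f' : X' ⟶ Y'} {h' : X' ⟶ X}
    (sq : IsPullback h' f' f h) (y' : Y') :
    RadPt.IsRadicialAt f (h y') ↔ RadPt.IsRadicialAt f' y' := by
  rw [isRadicialAt_iff, isRadicialAt_iff]
  have sq' := (isPullback_fiberToSpecResidueField_of_isPullback sq y').flip
  have hQ : (@Surjective ⊓ @Flat ⊓ @QuasiCompact : MorphismProperty Scheme.{u})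
      (Spec.map (h.residueFieldMap y')) := by
    refine ⟨⟨?_, ?_⟩, inferInstance⟩
    · constructor
      intro t
      refine ⟨default, Subsingleton.elim _ _⟩
    · rw [Flat.SpecMap_iff]
      algebraize [(h.residueFieldMap y').hom]
      exact RingHom.flat_algebraMap_iff.2 inferInstance
  exact (MorphismProperty.iff_of_isPullback (P := @UniversallyInjective) sq' hQ).symm

end Groth.Agent.H3.RadPtBC
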