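import Mathlib
import Groth.Prelude.Def_EGA4Misc
import Groth.Agent.Lib.Helper3.RadPtBC
import Groth.Agent.Lib.Helper3.IrrCompBC

set_option autoImplicit false

universe u

open AlgebraicGeometry CategoryTheory CategoryTheory.Limits

namespace Groth.Agent.H3.BiratBC

variable {X Y X' Y' : Scheme.{u}} {f : X ⟶ Y} {g : Y' ⟶ Y} {f' : X' ⟶ Y'} {g' : X' ⟶ X}

/-- generization lifting inside the fibres of `g`, for an arbitrary cartesian square -/
lemma exists_generization (sq : IsPullback g' f' f g) (x' : X') (y'' : Y') (h : y'' ⤳ f' x')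
    (hg : g y'' = g (f' x')) : ∃ x'' : X', x'' ⤳ x' ∧ f' x'' = y'' := by
  have h1 : sq.isoPullback.hom ≫ pullback.snd f g = f' := sq.isoPullback_hom_snd
  have h2 : f' x' = pullback.snd f g (sq.isoPullback.hom x') := by
    rw [← Scheme.Hom.comp_apply, h1]
  rw [h2] at h hg
  obtain ⟨ξ'', hξ1, hξ2⟩ := IrrCompBC.exists_generization_snd f g (sq.isoPullback.hom x') y'' h hg
  refine ⟨sq.isoPullback.inv ξ'', ?_, ?_⟩
  · have := hξ1.map sq.isoPullback.inv.continuous
    rwa [← Scheme.Hom.comp_apply, Iso.hom_inv_id] at this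
  · rw [← hξ2, ← Scheme.Hom.comp_apply, sq.isoPullback_inv_snd]

lemma bij_congr_pt (f : X ⟶ Y) {x₁ x₂ : X} (e : x₁ = x₂) :
    Function.Bijective (f.residueFieldMap x₁).hom ↔ Function.Bijective (f.residueFieldMap x₂).hom := by
  subst e; rfl

theorem fibre_aux (sq : IsPullback g' f' f g) (y' : Y')
    (huniq : ∀ x₁ x₂ : X, f x₁ = g y' → f x₂ = g y' → x₁ = x₂)
    (hres : ∀ x : X, f x = g y' → Function.Bijective (f.residueFieldMap x).hom) :
    (∀ x₁' x₂' : X', f' x₁' = y' → f' x₂' = y' → x₁' = x₂') ∧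
      ∀ x' : X', f' x' = y' → Function.Bijective (f'.residueFieldMap x').hom := by
  have hrad : RadPt.IsRadicialAt f (g y') :=
    ⟨huniq, fun x hx => RadPtBC.pi_of_bijective (hres x hx)⟩
  have hrad' := (RadPtBC.main sq y').1 hrad
  refine ⟨hrad'.1, fun x' hx' => ?_⟩
  obtain ⟨x, hxdef⟩ : ∃ x, x = g' x' := ⟨_, rfl⟩
  have hx : f x = g y' := by
    rw [hxdef, ← hx', ← Scheme.Hom.comp_apply, ← Scheme.Hom.comp_apply, sq.w]
  haveI : IsIso (f.residueFieldMap x) :=
    (ConcreteCategory.isIso_iff_bijective _).2 (hres x hx)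
  let σ : Spec (Y.residueField (f x)) ⟶ X :=
    Spec.map (inv (f.residueFieldMap x)) ≫ X.fromSpecResidueField x
  have hσ : σ ≫ f = Y.fromSpecResidueField (f x) := by
    simp only [σ, Category.assoc]
    rw [← Scheme.Hom.SpecMap_residueFieldMap_fromSpecResidueField, ← Category.assoc,
      ← Spec.map_comp, IsIso.hom_inv_id, Spec.map_id, Category.id_comp]
  let τ : g.fiber (f x) ⟶ X' := sq.lift (g.fiberToSpecResidueField _ ≫ σ) (g.fiberι _)
    (by rw [Category.assoc, hσ, g.fiber_fac])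
  have hτ : τ ≫ f' = g.fiberι (f x) := sq.lift_snd _ _ _
  let t' : g.fiber (f x) := (g.fiberHomeo (f x)).symm ⟨y', hx.symm⟩
  have ht' : g.fiberι _ t' = y' := g.fiberι_fiberHomeo_symm _ _
  have hτt : τ t' = x' := hrad'.1 _ _ (by rw [← Scheme.Hom.comp_apply, hτ, ht']) hx'
  have hcomp : ((τ ≫ f').residueFieldMap t') = f'.residueFieldMap (τ t') ≫ τ.residueFieldMap t' :=
    Scheme.residueFieldMap_comp _ _ _
  have hbij : Function.Bijective ((τ ≫ f').residueFieldMap t').hom := by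
    haveI : IsPreimmersion (τ ≫ f') := by rw [hτ]; infer_instance
    exact RadPtBC.bijective_residueFieldMap _ _
  have hτbij : Function.Bijective (τ.residueFieldMap t').hom := by
    refine ⟨(τ.residueFieldMap t').hom.injective, fun z => ?_⟩
    obtain ⟨w, hw⟩ := hbij.2 z
    refine ⟨(f'.residueFieldMap (τ t')).hom w, ?_⟩
    rw [hcomp] at hw
    exact hw
  have hfin : Function.Bijective (f'.residueFieldMap (τ t')).hom := by
    refine ⟨(f'.residueFieldMap (τ t')).hom.injective, fun z => ?_⟩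
    obtain ⟨w, hw⟩ := hbij.2 ((τ.residueFieldMap t').hom z)
    refine ⟨w, hτbij.1 ?_⟩
    rw [← hw, hcomp]
    rfl
  exact (bij_congr_pt f' hτt).1 hfin

theorem main [Flat g] (sq : IsPullback g' f' f g) (hf : RadPt.IsBirational f) :
    RadPt.IsBirational f' := by
  obtain ⟨hbij, hfib⟩ := hf
  haveI : Flat g' := MorphismProperty.of_isPullback sq.flip ‹Flat g›
  have key : ∀ y' : Y', g y' ∈ genericPoints Y →
      (∀ x₁' x₂' : X', f' x₁' = y' → f' x₂' = y' → x₁' = x₂') ∧
      ∀ x' : X', f' x' = y' → Function.Bijective (f'.residueFieldMap x').hom :=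
    fun y' hy' => fibre_aux sq y' (hfib _ hy').1 (hfib _ hy').2
  have hmax_g' : ∀ x' ∈ genericPoints X', g' x' ∈ genericPoints X := by
    intro x' hx'
    rw [IrrCompBC.mem_genericPoints_iff] at hx' ⊢
    intro x₁ hx₁
    obtain ⟨x₁', h1, h2⟩ := (Flat.generalizingMap g') hx₁
    rw [← h2, hx' x₁' h1]
  have hmax_g : ∀ y' ∈ genericPoints Y', g y' ∈ genericPoints Y := by
    intro x' hx'
    rw [IrrCompBC.mem_genericPoints_iff] at hx' ⊢
    intro x₁ hx₁
    obtain ⟨x₁', h1, h2⟩ := (Flat.generalizingMap g) hx₁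
    rw [← h2, hx' x₁' h1]
  have hw : ∀ x', g (f' x') = f (g' x') := fun x' => by
    rw [← Scheme.Hom.comp_apply, ← Scheme.Hom.comp_apply, sq.w]
  have hgf' : ∀ x' ∈ genericPoints X', g (f' x') ∈ genericPoints Y := fun x' hx' => by
    rw [hw]; exact hbij.mapsTo (hmax_g' x' hx')
  refine ⟨⟨?_, ?_, ?_⟩, fun y' hy' => key y' (hmax_g y' hy')⟩
  · intro x' hx'
    have hx'' := hx'
    rw [IrrCompBC.mem_genericPoints_iff] at hx'' ⊢
    intro y'' hy''
    have hY := hgf' x' hx'
    rw [IrrCompBC.mem_genericPoints_iff] at hY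
    have hgy : g y'' = g (f' x') := hY _ (hy''.map g.continuous)
    obtain ⟨x'', h1, h2⟩ := exists_generization sq x' y'' hy'' hgy
    rw [← h2, hx'' x'' h1]
  · intro x₁ hx₁ x₂ hx₂ h
    exact (key (f' x₂) (hgf' x₂ hx₂)).1 x₁ x₂ h rfl
  · intro y' hy'
    obtain ⟨x, hx, hxy⟩ := hbij.surjOn (hmax_g y' hy')
    obtain ⟨x', h1, h2⟩ := Scheme.exists_preimage_of_isPullback sq x y' hxy
    refine ⟨x', ?_, h2⟩
    rw [IrrCompBC.mem_genericPoints_iff]
    intro x'' hx''
    have : f' x'' = y' := by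
      rw [IrrCompBC.mem_genericPoints_iff] at hy'
      apply hy'
      rw [← h2]
      exact hx''.map f'.continuous
    exact (key y' (hmax_g y' hy')).1 x'' x' this h2

end Groth.Agent.H3.BiratBC
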