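import Mathlib
import Groth.Prelude.Def_EGA41

/-!
# Adic formal smoothness: reduction modulo the ideal of definition (EGA 0_IV 19.7.1-type statement)

Core lifting lemma.
-/

universe u

namespace Groth.Agent.H3.AdicFS

open EGA41

variable {A B : Type u} [CommRing A] [CommRing B] [Algebra A B]

/-- continuity of lifts along nilpotent thickenings -/
theorem cont_of_comp (𝔟 : Ideal B) {C D : Type*} [CommRing C] [CommRing D] [Algebra A C] [Algebra A D]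
    (g : C →ₐ[A] D) (hnil : IsNilpotent (RingHom.ker g)) (v : B →ₐ[A] C)
    (h : ∃ m : ℕ, ∀ x ∈ 𝔟 ^ m, g (v x) = 0) : ∃ m : ℕ, ∀ x ∈ 𝔟 ^ m, v x = 0 := by
  obtain ⟨m, hm⟩ := h
  obtain ⟨N, hN⟩ := hnil
  refine ⟨m * N, fun x hx => ?_⟩
  have h1 : 𝔟 ^ m ≤ (RingHom.ker g).comap v := fun y hy => by
    rw [Ideal.mem_comap, RingHom.mem_ker]
    exact hm y hy
  have h2 : (𝔟 ^ m) ^ N ≤ ((RingHom.ker g) ^ N).comap v :=
    (Ideal.pow_right_mono h1 N).trans (Ideal.le_comap_pow _ N)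
  rw [pow_mul] at hx
  have h3 := h2 hx
  rw [hN] at h3
  simpa using h3

/-- the formal projectivity hypothesis -/
def FormallyProjective (𝔞 : Ideal A) (𝔟 : Ideal B) : Prop :=
  ∀ (n : ℕ) (P Q : Type u) [AddCommGroup P] [Module A P] [AddCommGroup Q] [Module A Q],
      (∀ a ∈ 𝔞 ^ n, ∀ y : P, a • y = 0) → (∀ a ∈ 𝔞 ^ n, ∀ y : Q, a • y = 0) →
      ∀ f : P →ₗ[A] Q, Function.Surjective f → ∀ v : B →ₗ[A] Q, (∃ m : ℕ, ∀ x ∈ 𝔟 ^ m, v x = 0) →
        ∃ w : B →ₗ[A] P, (∃ m : ℕ, ∀ x ∈ 𝔟 ^ m, w x = 0) ∧ f ∘ₗ w = v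

set_option maxHeartbeats 800000 in
theorem core (𝔞 : Ideal A) (𝔟 : Ideal B) (hproj : FormallyProjective 𝔞 𝔟)
    (H₀ : IsFormallySmoothAdic (A ⧸ 𝔞) ⊥ (B ⧸ 𝔞.map (algebraMap A B))
      (𝔟.map (Ideal.Quotient.mk (𝔞.map (algebraMap A B)))))
    {C D : Type u} [CommRing C] [CommRing D] [Algebra A C] [Algebra A D]
    (g : C →ₐ[A] D) (hg : Function.Surjective g)
    (hsq : ∀ x ∈ RingHom.ker g, ∀ y ∈ RingHom.ker g, x * y = 0)
    (hann : ∀ a ∈ 𝔞, ∀ x ∈ RingHom.ker g, algebraMap A C a * x = 0)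
    (hk : ∃ k : ℕ, (𝔞 ^ k).map (algebraMap A C) = ⊥)
    (u : B →ₐ[A] D) (hu : ∃ m : ℕ, ∀ x ∈ 𝔟 ^ m, u x = 0) :
    ∃ v : B →ₐ[A] C, g.comp v = u := by
  obtain ⟨k, hk⟩ := hk
  obtain ⟨m, hm⟩ := hu
  -- the linear lift
  have hC : ∀ a ∈ 𝔞 ^ k, ∀ y : C, a • y = 0 := by
    intro a ha y
    have h1 : algebraMap A C a ∈ (𝔞 ^ k).map (algebraMap A C) := Ideal.mem_map_of_mem _ ha
    rw [hk, Ideal.mem_bot] at h1
    rw [Algebra.smul_def, h1, zero_mul]
  have hD : ∀ a ∈ 𝔞 ^ k, ∀ y : D, a • y = 0 := by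
    intro a ha y
    obtain ⟨c, rfl⟩ := hg y
    rw [← map_smul, hC a ha, map_zero]
  obtain ⟨w, ⟨m', hm'⟩, hwu⟩ := hproj k C D hC hD g.toLinearMap hg u.toLinearMap ⟨m, hm⟩
  have hwu' : ∀ b, g (w b) = u b := fun b => LinearMap.congr_fun hwu b
  obtain ⟨n, hun, hwn⟩ : ∃ n : ℕ, (∀ x ∈ 𝔟 ^ n, u x = 0) ∧ (∀ x ∈ 𝔟 ^ n, w x = 0) :=
    ⟨max m m', fun x hx => hm x (Ideal.pow_le_pow_right (le_max_left _ _) hx),
      fun x hx => hm' x (Ideal.pow_le_pow_right (le_max_right _ _) hx)⟩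
  -- the fibre product
  let Bn := B ⧸ 𝔟 ^ n
  let ub : Bn →ₐ[A] D := Ideal.Quotient.liftₐ (𝔟 ^ n) u hun
  let E : Subalgebra A (Bn × C) :=
    AlgHom.equalizer (ub.comp (AlgHom.fst A Bn C)) (g.comp (AlgHom.snd A Bn C))
  have hE : ∀ e : E, ub e.1.1 = g e.1.2 := fun e => e.2
  let σ : B →ₗ[A] E :=
    { toFun := fun b => ⟨(Ideal.Quotient.mk (𝔟 ^ n) b, w b), by
        change ub (Ideal.Quotient.mk (𝔟 ^ n) b) = g (w b)
        rw [hwu' b]; rfl⟩
      map_add' := fun x y => by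
        apply Subtype.ext
        simp
      map_smul' := fun a x => by
        apply Subtype.ext
        simp
        rfl }
  have hσ1 : ∀ b, (σ b).1.1 = Ideal.Quotient.mk (𝔟 ^ n) b := fun b => rfl
  have hσ2 : ∀ b, (σ b).1.2 = w b := fun b => rfl
  let pr₁ : E →ₐ[A] Bn := (AlgHom.fst A Bn C).comp E.val
  let pr₂ : E →ₐ[A] C := (AlgHom.snd A Bn C).comp E.val
  have hpr₁ : ∀ e : E, pr₁ e = e.1.1 := fun e => rfl
  have hpr₂ : ∀ e : E, pr₂ e = e.1.2 := fun e => rfl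
  let K : Ideal E := RingHom.ker pr₁
  have hK1 : ∀ e ∈ K, e.1.1 = 0 := fun e he => he
  have hK2 : ∀ e ∈ K, e.1.2 ∈ RingHom.ker g := by
    intro e he
    rw [RingHom.mem_ker]
    have := hE e
    rw [hK1 e he, map_zero] at this
    exact this.symm
  have hKsq : ∀ e ∈ K, ∀ e' ∈ K, e * e' = 0 := by
    intro e he e' he'
    apply Subtype.ext
    apply Prod.ext
    · change e.1.1 * e'.1.1 = 0
      rw [hK1 e he, zero_mul]
    · change e.1.2 * e'.1.2 = 0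
      exact hsq _ (hK2 e he) _ (hK2 e' he')
  have hKann : ∀ a ∈ 𝔞, ∀ e ∈ K, a • e = 0 := by
    intro a ha e he
    apply Subtype.ext
    apply Prod.ext
    · change a • e.1.1 = 0
      rw [hK1 e he, smul_zero]
    · change a • e.1.2 = 0
      rw [Algebra.smul_def]
      exact hann a ha _ (hK2 e he)
  have hKsub : ∀ e e' : E, pr₁ e = pr₁ e' → e - e' ∈ K := by
    intro e e' h
    change pr₁ (e - e') = 0
    rw [map_sub, h, sub_self]
  -- the ideal 𝔞E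
  let aE : Ideal E := 𝔞.map (algebraMap A E)
  have haE : ∀ e ∈ aE, ∃ b ∈ 𝔞.map (algebraMap A B), e = σ b := by
    intro e he
    have he' : e ∈ (𝔞 • ⊤ : Submodule A E) := by
      rw [Ideal.smul_top_eq_map]; exact he
    refine Submodule.smul_induction_on he' ?_ ?_
    · intro a ha e' _
      obtain ⟨b₀, hb₀⟩ := Ideal.Quotient.mk_surjective (pr₁ e')
      refine ⟨a • b₀, ?_, ?_⟩
      · rw [Algebra.smul_def]
        exact Ideal.mul_mem_right _ _ (Ideal.mem_map_of_mem _ ha)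
      · have h1 : e' - σ b₀ ∈ K := hKsub _ _ (by rw [hpr₁ (σ b₀), hσ1, hb₀])
        have h2 := hKann a ha _ h1
        rw [smul_sub, sub_eq_zero] at h2
        rw [h2, map_smul]
    · rintro x y ⟨b, hb, rfl⟩ ⟨b', hb', rfl⟩
      exact ⟨b + b', add_mem hb hb', (map_add σ b b').symm⟩
  -- the test algebra over A/𝔞
  let C' := E ⧸ aE
  let J' : Ideal C' := K.map (Ideal.Quotient.mk aE)
  have hJ'nil : IsNilpotent J' := by
    refine ⟨2, ?_⟩
    have hK2' : K ^ 2 = ⊥ := by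
      rw [eq_bot_iff, pow_two, Ideal.mul_le]
      intro r hr s hs
      rw [Ideal.mem_bot]
      exact hKsq r hr s hs
    have h := Ideal.map_pow (Ideal.Quotient.mk aE) K 2
    rw [hK2', Ideal.map_bot] at h
    exact h.symm
  have hkey : ∀ e e' : E, pr₁ e = pr₁ e' →
      Ideal.Quotient.mk J' (Ideal.Quotient.mk aE e) = Ideal.Quotient.mk J' (Ideal.Quotient.mk aE e') := by
    intro e e' h
    rw [Ideal.Quotient.eq, ← map_sub]
    exact Ideal.mem_map_of_mem _ (hKsub e e' h)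
  let uB : B →ₐ[A] C' ⧸ J' :=
    AlgHom.ofLinearMap
      (((Ideal.Quotient.mkₐ A J').comp (Ideal.Quotient.mkₐ A aE)).toLinearMap ∘ₗ σ)
      (by
        change Ideal.Quotient.mk J' (Ideal.Quotient.mk aE (σ 1)) = 1
        rw [hkey (σ 1) 1 (by rw [hpr₁, hσ1]; rfl)]
        rfl)
      (by
        intro x y
        change Ideal.Quotient.mk J' (Ideal.Quotient.mk aE (σ (x * y))) =
          Ideal.Quotient.mk J' (Ideal.Quotient.mk aE (σ x)) *
            Ideal.Quotient.mk J' (Ideal.Quotient.mk aE (σ y))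
        rw [← map_mul, ← map_mul]
        apply hkey
        rw [hpr₁, hσ1, map_mul, map_mul]
        rfl)
  have huB : ∀ b, uB b = Ideal.Quotient.mk J' (Ideal.Quotient.mk aE (σ b)) := fun b => rfl
  have huB0 : ∀ x ∈ 𝔞.map (algebraMap A B), uB x = 0 := by
    intro x hx
    have h1 : 𝔞.map (algebraMap A B) ≤ RingHom.ker uB := by
      rw [Ideal.map_le_iff_le_comap]
      intro a ha
      rw [Ideal.mem_comap, RingHom.mem_ker, AlgHom.commutes]
      have h2 : algebraMap A E a ∈ aE := Ideal.mem_map_of_mem _ ha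
      have h3 : Ideal.Quotient.mk aE (algebraMap A E a) = 0 := Ideal.Quotient.eq_zero_iff_mem.2 h2
      change Ideal.Quotient.mk J' (Ideal.Quotient.mk aE (algebraMap A E a)) = 0
      rw [h3, map_zero]
    exact h1 hx
  obtain ⟨u0, hu0⟩ : ∃ u0 : (B ⧸ 𝔞.map (algebraMap A B)) →ₐ[A ⧸ 𝔞] C' ⧸ J',
      ∀ b, u0 (Ideal.Quotient.mk _ b) = uB b :=
    ⟨AlgHom.extendScalarsOfSurjective (Ideal.Quotient.mk_surjective)
      (Ideal.Quotient.liftₐ _ uB huB0), fun b => rfl⟩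
  have hu0c : ∃ k : ℕ, ∀ x ∈ (𝔟.map (Ideal.Quotient.mk (𝔞.map (algebraMap A B)))) ^ k, u0 x = 0 := by
    refine ⟨n, fun x hx => ?_⟩
    rw [← Ideal.map_pow] at hx
    obtain ⟨b, hb, rfl⟩ := (Ideal.mem_map_iff_of_surjective _ Ideal.Quotient.mk_surjective).1 hx
    rw [hu0, huB]
    have : σ b = 0 := by
      apply Subtype.ext
      apply Prod.ext
      · exact Ideal.Quotient.eq_zero_iff_mem.2 hb
      · exact hwn b hb
    rw [this, map_zero, map_zero]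
  have hbot : ∃ k : ℕ, ((⊥ : Ideal (A ⧸ 𝔞)) ^ k).map (algebraMap (A ⧸ 𝔞) C') = ⊥ :=
    ⟨1, by rw [pow_one, Ideal.map_bot]⟩
  have H₁ := H₀ C' J' hJ'nil hbot
  obtain ⟨v', hv'⟩ := H₁ u0 hu0c
  have hv'' : ∀ b, Ideal.Quotient.mk J' (v' (Ideal.Quotient.mk _ b)) =
      Ideal.Quotient.mk J' (Ideal.Quotient.mk aE (σ b)) := by
    intro b
    have := AlgHom.congr_fun hv' (Ideal.Quotient.mk _ b)
    rw [hu0, huB] at this
    exact this
  -- the comparison map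
  let φ : E →ₐ[A] C' × Bn := AlgHom.prod (Ideal.Quotient.mkₐ A aE) pr₁
  have hφ : Function.Injective φ := by
    rw [injective_iff_map_eq_zero]
    intro e he
    have h1 : Ideal.Quotient.mk aE e = 0 := congrArg Prod.fst he
    have h2 : pr₁ e = 0 := congrArg Prod.snd he
    obtain ⟨b, hb, rfl⟩ := haE e (Ideal.Quotient.eq_zero_iff_mem.1 h1)
    rw [hpr₁, hσ1, Ideal.Quotient.eq_zero_iff_mem] at h2
    apply Subtype.ext
    apply Prod.ext
    · exact Ideal.Quotient.eq_zero_iff_mem.2 h2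
    · exact hwn b h2
  let ψ : B →ₐ[A] C' × Bn :=
    AlgHom.prod ((v'.restrictScalars A).comp (Ideal.Quotient.mkₐ A _)) (Ideal.Quotient.mkₐ A (𝔟 ^ n))
  have hψ : ∀ b, ψ b ∈ φ.range := by
    intro b
    obtain ⟨e₁, he₁⟩ := Ideal.Quotient.mk_surjective (v' (Ideal.Quotient.mk _ b))
    have h1 := hv'' b
    rw [← he₁, Ideal.Quotient.eq, ← map_sub] at h1
    obtain ⟨k₀, hk₀, hk₀'⟩ := (Ideal.mem_map_iff_of_surjective _ Ideal.Quotient.mk_surjective).1 h1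
    rw [Ideal.Quotient.eq] at hk₀'
    refine ⟨σ b + k₀, ?_⟩
    apply Prod.ext
    · change Ideal.Quotient.mk aE (σ b + k₀) = v' (Ideal.Quotient.mk _ b)
      rw [← he₁, Ideal.Quotient.eq]
      have : σ b + k₀ - e₁ = k₀ - (e₁ - σ b) := by ring
      rw [this]
      exact hk₀'
    · change pr₁ (σ b + k₀) = Ideal.Quotient.mk (𝔟 ^ n) b
      rw [map_add, hpr₁, hσ1, hpr₁, hK1 k₀ hk₀, add_zero]
  let s : B →ₐ[A] E :=
    ((AlgEquiv.ofInjective φ hφ).symm : φ.range →ₐ[A] E).comp (ψ.codRestrict φ.range hψ)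
  have hs : ∀ b, φ (s b) = ψ b := by
    intro b
    have h1 : (AlgEquiv.ofInjective φ hφ) (s b) = ψ.codRestrict φ.range hψ b :=
      (AlgEquiv.ofInjective φ hφ).apply_symm_apply _
    have h2 := congrArg Subtype.val h1
    exact h2
  have hs1 : ∀ b, (s b).1.1 = Ideal.Quotient.mk (𝔟 ^ n) b := by
    intro b
    exact congrArg Prod.snd (hs b)
  refine ⟨pr₂.comp s, ?_⟩
  ext b
  change g (s b).1.2 = u b
  rw [← hE (s b), hs1 b]
  rfl


/-- the lifting property along surjections with nilpotent kernel, by dévissage to `core` -/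
theorem lift_of_surj (𝔞 : Ideal A) (𝔟 : Ideal B) (hproj : FormallyProjective 𝔞 𝔟)
    (H₀ : IsFormallySmoothAdic (A ⧸ 𝔞) ⊥ (B ⧸ 𝔞.map (algebraMap A B))
      (𝔟.map (Ideal.Quotient.mk (𝔞.map (algebraMap A B))))) :
    ∀ (r : ℕ) (C D : Type u) [CommRing C] [CommRing D] [Algebra A C] [Algebra A D]
      (g : C →ₐ[A] D), Function.Surjective g → IsNilpotent (RingHom.ker g) →
      (∃ k : ℕ, (𝔞 ^ k).map (algebraMap A C) = ⊥) →
      (RingHom.ker g ⊔ 𝔞.map (algebraMap A C)) ^ r * RingHom.ker g = ⊥ →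
      ∀ u : B →ₐ[A] D, (∃ m : ℕ, ∀ x ∈ 𝔟 ^ m, u x = 0) → ∃ v : B →ₐ[A] C, g.comp v = u := by
  intro r
  induction r with
  | zero =>
    intro C D _ _ _ _ g hg _ hk hr u hu
    rw [pow_zero, one_mul] at hr
    refine core 𝔞 𝔟 hproj H₀ g hg ?_ ?_ hk u hu
    · intro x hx y _
      rw [hr, Ideal.mem_bot] at hx
      rw [hx, zero_mul]
    · intro a _ x hx
      rw [hr, Ideal.mem_bot] at hx
      rw [hx, mul_zero]
  | succ r ih =>
    intro C D _ _ _ _ g hg hnil hk hr u hu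
    set J := RingHom.ker g with hJ
    set M := J ⊔ 𝔞.map (algebraMap A C) with hM
    set I := M ^ r * J with hI
    have hIJ : I ≤ J := Ideal.mul_le_right
    have hJM : J ≤ M := le_sup_left
    have haM : 𝔞.map (algebraMap A C) ≤ M := le_sup_right
    let g' : C ⧸ I →ₐ[A] D := Ideal.Quotient.liftₐ I g (fun a ha => hIJ ha)
    have hg'mk : ∀ c, g' (Ideal.Quotient.mk I c) = g c := fun c => rfl
    have hg' : Function.Surjective g' := by
      intro d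
      obtain ⟨c, rfl⟩ := hg d
      exact ⟨Ideal.Quotient.mk I c, rfl⟩
    have hker : RingHom.ker g' = J.map (Ideal.Quotient.mk I) := by
      apply le_antisymm
      · intro x hx
        obtain ⟨c, rfl⟩ := Ideal.Quotient.mk_surjective x
        rw [RingHom.mem_ker, hg'mk] at hx
        exact Ideal.mem_map_of_mem _ hx
      · rw [Ideal.map_le_iff_le_comap]
        intro c hc
        rw [Ideal.mem_comap, RingHom.mem_ker, hg'mk]
        exact hc
    have hnil' : IsNilpotent (RingHom.ker g') := by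
      obtain ⟨N, hN⟩ := hnil
      refine ⟨N, ?_⟩
      rw [hker, ← Ideal.map_pow, hN, Ideal.zero_eq_bot, Ideal.map_bot, Ideal.zero_eq_bot]
    have hamap : 𝔞.map (algebraMap A (C ⧸ I)) =
        (𝔞.map (algebraMap A C)).map (Ideal.Quotient.mk I) := by
      rw [Ideal.map_map]; rfl
    have hk' : ∃ k : ℕ, (𝔞 ^ k).map (algebraMap A (C ⧸ I)) = ⊥ := by
      obtain ⟨k, hk⟩ := hk
      refine ⟨k, ?_⟩
      have : (𝔞 ^ k).map (algebraMap A (C ⧸ I)) =
          ((𝔞 ^ k).map (algebraMap A C)).map (Ideal.Quotient.mk I) := by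
        rw [Ideal.map_map]; rfl
      rw [this, hk, Ideal.map_bot]
    have hr' : (RingHom.ker g' ⊔ 𝔞.map (algebraMap A (C ⧸ I))) ^ r * RingHom.ker g' = ⊥ := by
      rw [hker, hamap, ← Ideal.map_sup, ← Ideal.map_pow, ← Ideal.map_mul]
      exact Ideal.map_quotient_self I
    obtain ⟨v', hv'⟩ := ih (C ⧸ I) D g' hg' hnil' hk' hr' u hu
    have hv'c : ∃ m : ℕ, ∀ x ∈ 𝔟 ^ m, v' x = 0 := by
      obtain ⟨m, hm⟩ := hu
      refine cont_of_comp 𝔟 g' hnil' v' ⟨m, fun x hx => ?_⟩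
      have := AlgHom.congr_fun hv' x
      rw [AlgHom.comp_apply] at this
      rw [this]
      exact hm x hx
    have hkerI : RingHom.ker (Ideal.Quotient.mkₐ A I) = I := Ideal.Quotient.mkₐ_ker A I
    obtain ⟨v, hv⟩ := core 𝔞 𝔟 hproj H₀ (Ideal.Quotient.mkₐ A I)
      (Ideal.Quotient.mkₐ_surjective A I) (by
        intro x hx y hy
        rw [hkerI] at hx hy
        have h1 : x * y ∈ I * I := Ideal.mul_mem_mul hx hy
        have h2 : I * I ≤ M ^ (r + 1) * J := by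
          rw [pow_succ]
          exact Ideal.mul_mono (Ideal.mul_mono le_rfl hJM) hIJ
        have h3 := h2 h1
        rw [hr, Ideal.mem_bot] at h3
        exact h3) (by
        intro a ha x hx
        rw [hkerI] at hx
        have h1 : algebraMap A C a * x ∈ M * I :=
          Ideal.mul_mem_mul (haM (Ideal.mem_map_of_mem _ ha)) hx
        have h2 : M * I = M ^ (r + 1) * J := by
          rw [pow_succ', mul_assoc]
        rw [h2, hr, Ideal.mem_bot] at h1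
        exact h1) hk v' hv'c
    refine ⟨v, ?_⟩
    have hgg : g = g'.comp (Ideal.Quotient.mkₐ A I) := by
      ext c; rfl
    rw [hgg, AlgHom.comp_assoc, hv, hv']

theorem main_mpr (𝔞 : Ideal A) (𝔟 : Ideal B) (hproj : FormallyProjective 𝔞 𝔟)
    (H₀ : IsFormallySmoothAdic (A ⧸ 𝔞) ⊥ (B ⧸ 𝔞.map (algebraMap A B))
      (𝔟.map (Ideal.Quotient.mk (𝔞.map (algebraMap A B))))) :
    IsFormallySmoothAdic A 𝔞 B 𝔟 := by
  intro C _ _ J hJ hk u hu
  have hker : RingHom.ker (Ideal.Quotient.mkₐ A J) = J := Ideal.Quotient.mkₐ_ker A J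
  obtain ⟨N, hN⟩ := hJ
  obtain ⟨k, hk⟩ := hk
  refine lift_of_surj 𝔞 𝔟 hproj H₀ (N + k) C (C ⧸ J) (Ideal.Quotient.mkₐ A J)
    (Ideal.Quotient.mkₐ_surjective A J) (by rw [hker]; exact ⟨N, hN⟩) ⟨k, hk⟩ ?_ u hu
  rw [hker, eq_bot_iff]
  refine Ideal.mul_le_left.trans ?_
  refine Ideal.sup_pow_add_le_pow_sup_pow.trans ?_
  rw [hN, ← Ideal.map_pow (algebraMap A C) 𝔞 k, hk, Ideal.zero_eq_bot, sup_bot_eq]

theorem main_mp (𝔞 : Ideal A) (𝔟 : Ideal B)
    (H : IsFormallySmoothAdic A 𝔞 B 𝔟) :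
    IsFormallySmoothAdic (A ⧸ 𝔞) ⊥ (B ⧸ 𝔞.map (algebraMap A B))
      (𝔟.map (Ideal.Quotient.mk (𝔞.map (algebraMap A B)))) := by
  intro C' _ _ J' hJ' _ u' hu'
  let _ : Algebra A C' := ((algebraMap (A ⧸ 𝔞) C').comp (Ideal.Quotient.mk 𝔞)).toAlgebra
  have _ : IsScalarTower A (A ⧸ 𝔞) C' := IsScalarTower.of_algebraMap_eq (fun _ => rfl)
  have hsurj : Function.Surjective (algebraMap A (A ⧸ 𝔞)) := Ideal.Quotient.mk_surjective
  have h𝔞C : ∀ a ∈ 𝔞, algebraMap A C' a = 0 := by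
    intro a ha
    change algebraMap (A ⧸ 𝔞) C' (Ideal.Quotient.mk 𝔞 a) = 0
    rw [Ideal.Quotient.eq_zero_iff_mem.2 ha, map_zero]
  let u : B →ₐ[A] C' ⧸ J' :=
    (u'.restrictScalars A).comp (Ideal.Quotient.mkₐ A (𝔞.map (algebraMap A B)))
  have huc : ∃ k : ℕ, ∀ x ∈ 𝔟 ^ k, u x = 0 := by
    obtain ⟨k, hk⟩ := hu'
    refine ⟨k, fun x hx => ?_⟩
    apply hk
    rw [← Ideal.map_pow]
    exact Ideal.mem_map_of_mem _ hx
  have hkC : ∃ k : ℕ, (𝔞 ^ k).map (algebraMap A C') = ⊥ := by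
    refine ⟨1, ?_⟩
    rw [pow_one, eq_bot_iff, Ideal.map_le_iff_le_comap]
    intro a ha
    rw [Ideal.mem_comap, Ideal.mem_bot]
    exact h𝔞C a ha
  have H1 := H C' J' hJ' hkC
  obtain ⟨v, hv⟩ := H1 u huc
  have hv0 : ∀ x ∈ 𝔞.map (algebraMap A B), v x = 0 := by
    intro x hx
    have h1 : 𝔞.map (algebraMap A B) ≤ RingHom.ker v := by
      rw [Ideal.map_le_iff_le_comap]
      intro a ha
      rw [Ideal.mem_comap, RingHom.mem_ker, AlgHom.commutes]
      exact h𝔞C a ha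
    exact h1 hx
  refine ⟨AlgHom.extendScalarsOfSurjective hsurj (Ideal.Quotient.liftₐ _ v hv0), ?_⟩
  ext x
  obtain ⟨b, rfl⟩ := Ideal.Quotient.mk_surjective x
  exact AlgHom.congr_fun hv b

theorem main (𝔞 : Ideal A) (𝔟 : Ideal B) (hproj : FormallyProjective 𝔞 𝔟) :
    IsFormallySmoothAdic A 𝔞 B 𝔟 ↔
      IsFormallySmoothAdic (A ⧸ 𝔞) ⊥ (B ⧸ 𝔞.map (algebraMap A B))
        (𝔟.map (Ideal.Quotient.mk (𝔞.map (algebraMap A B)))) :=
  ⟨main_mp 𝔞 𝔟, main_mpr 𝔞 𝔟 hproj⟩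

end Groth.Agent.H3.AdicFS
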