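import Mathlib
import Groth.Prelude.Def_EGA41

/-!
# Adic formal smoothness and finite projective faithfully flat base change

Descent of adic formal smoothness along `A → A'` admitting an `A`-linear retraction `ρ` with
`ρ 1 = 1` (e.g. `A'` projective and faithfully flat), and the (easy) base change direction.
-/

universe u

namespace Groth.Agent.H3.AdicFS2

open EGA41 TensorProduct

/-- a projective faithfully flat algebra has a linear retraction of the structure map -/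
theorem exists_retraction (A A' : Type*) [CommRing A] [CommRing A'] [Algebra A A']
    [Module.FaithfullyFlat A A'] [Module.Projective A A'] :
    ∃ ρ : A' →ₗ[A] A, ρ 1 = 1 := by
  by_contra hne
  let ev : (A' →ₗ[A] A) →ₗ[A] A := LinearMap.applyₗ (1 : A')
  let 𝔠 : Ideal A := LinearMap.range ev
  have h𝔠 : 𝔠 ≠ ⊤ := by
    intro h
    have h1 : (1 : A) ∈ 𝔠 := h ▸ Submodule.mem_top
    obtain ⟨ρ, hρ⟩ := h1
    exact hne ⟨ρ, hρ⟩
  obtain ⟨𝔪, h𝔪, hle⟩ := Ideal.exists_le_maximal 𝔠 h𝔠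
  obtain ⟨s, hs⟩ := (Module.projective_def'.1 ‹Module.Projective A A'›)
  have h1 : (1 : A') ∈ 𝔪 • (⊤ : Submodule A A') := by
    have h2 := LinearMap.congr_fun hs 1
    rw [LinearMap.comp_apply, LinearMap.id_apply, Finsupp.linearCombination_apply] at h2
    rw [← h2]
    refine Submodule.sum_mem _ fun p _ => ?_
    exact Submodule.smul_mem_smul (hle ⟨(Finsupp.lapply p) ∘ₗ s, rfl⟩) Submodule.mem_top
  apply Module.FaithfullyFlat.submodule_ne_top (R := A) (M := A') h𝔪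
  rw [Ideal.smul_top_eq_map] at h1 ⊢
  have h3 : 𝔪.map (algebraMap A A') = ⊤ := (Ideal.eq_top_iff_one _).2 h1
  rw [h3]
  rfl

section general

variable {A B : Type u} [CommRing A] [CommRing B] [Algebra A B]

/-- continuity of lifts along nilpotent thickenings -/
theorem cont_of_comp (𝔟 : Ideal B) {C D : Type*} [CommRing C] [CommRing D] [Algebra A C] [Algebra A D]
    (g : C →ₐ[A] D) (hnil : IsNilpotent (RingHom.ker g)) (v : B →ₐ[A] C)
    (h : ∃ m : ℕ, ∀ x ∈ 𝔟 ^ m, g (v x) = 0) : ∃ m : ℕ, ∀ x ∈ 𝔟 ^ m, v x = 0 := by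
  obtain ⟨m, hm⟩ := h
  obtain ⟨N, hN⟩ := hnil
  refine ⟨m * N, fun x hx => ?_⟩
  have h1 : 𝔟 ^ m ≤ (RingHom.ker g).comap v := fun y hy => by
    rw [Ideal.mem_comap, RingHom.mem_ker]
    exact hm y hy
  have h2 : (𝔟 ^ m) ^ N ≤ ((RingHom.ker g) ^ N).comap v :=
    (Ideal.pow_right_mono h1 N).trans (Ideal.le_comap_pow _ N)
  rw [pow_mul] at hx
  have h3 := h2 hx
  rw [hN] at h3
  simpa using h3

/-- the lifting property in "surjection" form -/
theorem surj_form {𝔞 : Ideal A} {𝔟 : Ideal B} (H : IsFormallySmoothAdic A 𝔞 B 𝔟)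
    {C D : Type u} [CommRing C] [CommRing D] [Algebra A C] [Algebra A D]
    (g : C →ₐ[A] D) (hg : Function.Surjective g) (hnil : IsNilpotent (RingHom.ker g))
    (hk : ∃ k : ℕ, (𝔞 ^ k).map (algebraMap A C) = ⊥)
    (u : B →ₐ[A] D) (hu : ∃ m : ℕ, ∀ x ∈ 𝔟 ^ m, u x = 0) : ∃ v : B →ₐ[A] C, g.comp v = u := by
  obtain ⟨m, hm⟩ := hu
  let e := Ideal.quotientKerAlgEquivOfSurjective hg
  have H1 := H C (RingHom.ker g) hnil hk
  obtain ⟨v, hv⟩ := H1 ((e.symm : D →ₐ[A] _).comp u) ⟨m, fun x hx => by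
    rw [AlgHom.comp_apply, hm x hx, map_zero]⟩
  refine ⟨v, ?_⟩
  ext b
  have h1 := AlgHom.congr_fun hv b
  have h2 := congrArg e h1
  rw [AlgHom.comp_apply, Ideal.Quotient.mkₐ_eq_mk, Ideal.quotientKerAlgEquivOfSurjective_mk] at h2
  rw [AlgHom.comp_apply, h2]
  simp

/-- dévissage: the lifting property for square-zero surjections implies adic formal smoothness -/
theorem of_sq (𝔞 : Ideal A) (𝔟 : Ideal B)
    (hcore : ∀ (C D : Type u) [CommRing C] [CommRing D] [Algebra A C] [Algebra A D]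
      (g : C →ₐ[A] D), Function.Surjective g →
      (∀ x ∈ RingHom.ker g, ∀ y ∈ RingHom.ker g, x * y = 0) →
      (∃ k : ℕ, (𝔞 ^ k).map (algebraMap A C) = ⊥) →
      ∀ u : B →ₐ[A] D, (∃ m : ℕ, ∀ x ∈ 𝔟 ^ m, u x = 0) → ∃ v : B →ₐ[A] C, g.comp v = u) :
    IsFormallySmoothAdic A 𝔞 B 𝔟 := by
  have key : ∀ (r : ℕ) (C D : Type u) [CommRing C] [CommRing D] [Algebra A C] [Algebra A D]
      (g : C →ₐ[A] D), Function.Surjective g →
      (∃ k : ℕ, (𝔞 ^ k).map (algebraMap A C) = ⊥) →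
      (RingHom.ker g) ^ r * RingHom.ker g = ⊥ →
      ∀ u : B →ₐ[A] D, (∃ m : ℕ, ∀ x ∈ 𝔟 ^ m, u x = 0) → ∃ v : B →ₐ[A] C, g.comp v = u := by
    intro r
    induction r with
    | zero =>
      intro C D _ _ _ _ g hg hk hr u hu
      rw [pow_zero, one_mul] at hr
      refine hcore C D g hg ?_ hk u hu
      intro x hx y _
      rw [hr, Ideal.mem_bot] at hx
      rw [hx, zero_mul]
    | succ r ih =>
      intro C D _ _ _ _ g hg hk hr u hu
      set J := RingHom.ker g with hJ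
      set I := J ^ r * J with hI
      have hIJ : I ≤ J := Ideal.mul_le_right
      let g' : C ⧸ I →ₐ[A] D := Ideal.Quotient.liftₐ I g (fun a ha => hIJ ha)
      have hg'mk : ∀ c, g' (Ideal.Quotient.mk I c) = g c := fun c => rfl
      have hg' : Function.Surjective g' := by
        intro d
        obtain ⟨c, rfl⟩ := hg d
        exact ⟨Ideal.Quotient.mk I c, rfl⟩
      have hker : RingHom.ker g' = J.map (Ideal.Quotient.mk I) := by
        apply le_antisymm
        · intro x hx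
          obtain ⟨c, rfl⟩ := Ideal.Quotient.mk_surjective x
          rw [RingHom.mem_ker, hg'mk] at hx
          exact Ideal.mem_map_of_mem _ hx
        · rw [Ideal.map_le_iff_le_comap]
          intro c hc
          rw [Ideal.mem_comap, RingHom.mem_ker, hg'mk]
          exact hc
      have hr' : (RingHom.ker g') ^ r * RingHom.ker g' = ⊥ := by
        rw [hker, ← Ideal.map_pow, ← Ideal.map_mul]
        exact Ideal.map_quotient_self I
      have hnil' : IsNilpotent (RingHom.ker g') := by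
        refine ⟨r + 1, ?_⟩
        rw [pow_succ, hr', Ideal.zero_eq_bot]
      have hk' : ∃ k : ℕ, (𝔞 ^ k).map (algebraMap A (C ⧸ I)) = ⊥ := by
        obtain ⟨k, hk⟩ := hk
        refine ⟨k, ?_⟩
        have : (𝔞 ^ k).map (algebraMap A (C ⧸ I)) =
            ((𝔞 ^ k).map (algebraMap A C)).map (Ideal.Quotient.mk I) := by
          rw [Ideal.map_map]; rfl
        rw [this, hk, Ideal.map_bot]
      obtain ⟨v', hv'⟩ := ih (C ⧸ I) D g' hg' hk' hr' u hu
      have hv'c : ∃ m : ℕ, ∀ x ∈ 𝔟 ^ m, v' x = 0 := by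
        obtain ⟨m, hm⟩ := hu
        refine cont_of_comp 𝔟 g' hnil' v' ⟨m, fun x hx => ?_⟩
        have := AlgHom.congr_fun hv' x
        rw [AlgHom.comp_apply] at this
        rw [this]
        exact hm x hx
      have hkerI : RingHom.ker (Ideal.Quotient.mkₐ A I) = I := Ideal.Quotient.mkₐ_ker A I
      obtain ⟨v, hv⟩ := hcore C (C ⧸ I) (Ideal.Quotient.mkₐ A I)
        (Ideal.Quotient.mkₐ_surjective A I) (by
          intro x hx y hy
          rw [hkerI] at hx hy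
          have h1 : x * y ∈ I * I := Ideal.mul_mem_mul hx hy
          have h2 : I * I ≤ J ^ (r + 1) * J := by
            rw [pow_succ]
            exact Ideal.mul_mono le_rfl hIJ
          have h3 := h2 h1
          rw [hr, Ideal.mem_bot] at h3
          exact h3) hk v' hv'c
      refine ⟨v, ?_⟩
      have hgg : g = g'.comp (Ideal.Quotient.mkₐ A I) := by
        ext c; rfl
      rw [hgg, AlgHom.comp_assoc, hv, hv']
  intro C _ _ J hJ hk u hu
  have hker : RingHom.ker (Ideal.Quotient.mkₐ A J) = J := Ideal.Quotient.mkₐ_ker A J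
  obtain ⟨N, hN⟩ := hJ
  refine key N C (C ⧸ J) (Ideal.Quotient.mkₐ A J) (Ideal.Quotient.mkₐ_surjective A J) hk ?_ u hu
  rw [hker, hN, Ideal.zero_eq_bot, Ideal.bot_mul]

end general


section descent

variable {A B A' : Type u} [CommRing A] [CommRing B] [CommRing A'] [Algebra A B] [Algebra A A']

/-- the ideal of definition of the tensor product topology on `A' ⊗[A] B` -/
abbrev tensorIdeal (𝔞 : Ideal A) (𝔟 : Ideal B) : Ideal (A' ⊗[A] B) :=
  (𝔞.map (algebraMap A A')).map (algebraMap A' (A' ⊗[A] B)) ⊔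
    𝔟.map (Algebra.TensorProduct.includeRight : B →ₐ[A] A' ⊗[A] B).toRingHom

set_option maxHeartbeats 800000 in
theorem descent_sq (𝔞 : Ideal A) (𝔟 : Ideal B) (ρ : A' →ₗ[A] A) (hρ : ρ 1 = 1)
    (H' : IsFormallySmoothAdic A' (𝔞.map (algebraMap A A')) (A' ⊗[A] B)
      (tensorIdeal (A' := A') 𝔞 𝔟))
    (C D : Type u) [CommRing C] [CommRing D] [Algebra A C] [Algebra A D]
    (g : C →ₐ[A] D) (hg : Function.Surjective g)
    (hsq : ∀ x ∈ RingHom.ker g, ∀ y ∈ RingHom.ker g, x * y = 0)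
    (hk : ∃ k : ℕ, (𝔞 ^ k).map (algebraMap A C) = ⊥)
    (u : B →ₐ[A] D) (hu : ∃ m : ℕ, ∀ x ∈ 𝔟 ^ m, u x = 0) : ∃ v : B →ₐ[A] C, g.comp v = u := by
  obtain ⟨k, hk⟩ := hk
  obtain ⟨m, hm⟩ := hu
  have hkC : ∀ a ∈ 𝔞 ^ k, algebraMap A C a = 0 := by
    intro a ha
    have h1 := Ideal.mem_map_of_mem (algebraMap A C) ha
    rwa [hk, Ideal.mem_bot] at h1
  let g' : A' ⊗[A] C →ₐ[A'] A' ⊗[A] D := Algebra.TensorProduct.map (AlgHom.id A' A') g
  let u' : A' ⊗[A] B →ₐ[A'] A' ⊗[A] D := Algebra.TensorProduct.map (AlgHom.id A' A') u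
  have hg'tmul : ∀ (a' : A') (c : C), g' (a' ⊗ₜ[A] c) = a' ⊗ₜ[A] g c := fun a' c => rfl
  have hu'tmul : ∀ (a' : A') (b : B), u' (a' ⊗ₜ[A] b) = a' ⊗ₜ[A] u b := fun a' b => rfl
  have hg' : Function.Surjective g' :=
    Algebra.TensorProduct.map_surjective (AlgHom.id A' A') g (fun x => ⟨x, rfl⟩) hg
  have hker : RingHom.ker g' =
      (RingHom.ker g).map (Algebra.TensorProduct.includeRight : C →ₐ[A] A' ⊗[A] C) := by
    rw [← Algebra.TensorProduct.lTensor_ker (A := A') g hg]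
    ext t
    rfl
  have hsq' : ∀ x ∈ RingHom.ker g', ∀ y ∈ RingHom.ker g', x * y = 0 := by
    intro x hx y hy
    rw [hker] at hx hy
    have h1 := Ideal.mul_mem_mul hx hy
    rw [← Ideal.map_mul] at h1
    have h2 : RingHom.ker g * RingHom.ker g = ⊥ := by
      rw [eq_bot_iff, Ideal.mul_le]
      intro r hr s hs
      rw [Ideal.mem_bot]
      exact hsq r hr s hs
    rw [h2, Ideal.map_bot, Ideal.mem_bot] at h1
    exact h1
  have hnil' : IsNilpotent (RingHom.ker g') := by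
    refine ⟨2, ?_⟩
    rw [Ideal.zero_eq_bot, eq_bot_iff, pow_two, Ideal.mul_le]
    intro r hr s hs
    rw [Ideal.mem_bot]
    exact hsq' r hr s hs
  have hk' : ∃ k : ℕ, ((𝔞.map (algebraMap A A')) ^ k).map (algebraMap A' (A' ⊗[A] C)) = ⊥ := by
    refine ⟨k, ?_⟩
    rw [← Ideal.map_pow, Ideal.map_map, eq_bot_iff, Ideal.map_le_iff_le_comap]
    intro a ha
    rw [Ideal.mem_comap, Ideal.mem_bot]
    change (algebraMap A A' a) ⊗ₜ[A] (1 : C) = 0
    rw [Algebra.algebraMap_eq_smul_one, TensorProduct.smul_tmul, ← Algebra.algebraMap_eq_smul_one,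
      hkC a ha, TensorProduct.tmul_zero]
  have hu' : ∃ m' : ℕ, ∀ x ∈ (tensorIdeal (A' := A') 𝔞 𝔟) ^ m', u' x = 0 := by
    refine ⟨k + m, fun x hx => ?_⟩
    have h1 := Ideal.sup_pow_add_le_pow_sup_pow hx
    have h2 : ((𝔞.map (algebraMap A A')).map (algebraMap A' (A' ⊗[A] B))) ^ k ≤ RingHom.ker u' := by
      rw [← Ideal.map_pow, ← Ideal.map_pow, Ideal.map_map, Ideal.map_le_iff_le_comap]
      intro a ha
      rw [Ideal.mem_comap, RingHom.mem_ker]
      change u' ((algebraMap A A' a) ⊗ₜ[A] (1 : B)) = 0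
      rw [hu'tmul, map_one, Algebra.algebraMap_eq_smul_one, TensorProduct.smul_tmul,
        ← Algebra.algebraMap_eq_smul_one]
      have : algebraMap A D a = g (algebraMap A C a) := (g.commutes a).symm
      rw [this, hkC a ha, map_zero, TensorProduct.tmul_zero]
    have h3 : (𝔟.map (Algebra.TensorProduct.includeRight : B →ₐ[A] A' ⊗[A] B).toRingHom) ^ m ≤
        RingHom.ker u' := by
      rw [← Ideal.map_pow, Ideal.map_le_iff_le_comap]
      intro b hb
      rw [Ideal.mem_comap, RingHom.mem_ker]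
      change u' ((1 : A') ⊗ₜ[A] b) = 0
      rw [hu'tmul, hm b hb, TensorProduct.tmul_zero]
    exact (sup_le h2 h3) h1
  obtain ⟨v', hv'⟩ := surj_form H' g' hg' hnil' hk' u' hu'
  have hv'' : ∀ t, g' (v' t) = u' t := fun t => AlgHom.congr_fun hv' t
  -- the retractions
  let R : A' ⊗[A] C →ₗ[A] C := (TensorProduct.lid A C).toLinearMap ∘ₗ LinearMap.rTensor C ρ
  let RD : A' ⊗[A] D →ₗ[A] D := (TensorProduct.lid A D).toLinearMap ∘ₗ LinearMap.rTensor D ρ
  have hRtmul : ∀ (a' : A') (c : C), R (a' ⊗ₜ[A] c) = ρ a' • c := fun a' c => rfl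
  have hRDtmul : ∀ (a' : A') (d : D), RD (a' ⊗ₜ[A] d) = ρ a' • d := fun a' d => rfl
  have hR1 : ∀ c, R ((1 : A') ⊗ₜ[A] c) = c := by
    intro c
    rw [hRtmul, hρ, one_smul]
  have hRmul : ∀ (c : C) (t : A' ⊗[A] C), R (((1 : A') ⊗ₜ[A] c) * t) = c * R t := by
    intro c t
    induction t using TensorProduct.induction_on with
    | zero => rw [mul_zero, map_zero, mul_zero]
    | tmul a' c' =>
      rw [Algebra.TensorProduct.tmul_mul_tmul, one_mul, hRtmul, hRtmul, mul_smul_comm]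
    | add x y hx hy => rw [mul_add, map_add, hx, hy, map_add, mul_add]
  have hRg : ∀ t : A' ⊗[A] C, g (R t) = RD (g' t) := by
    intro t
    induction t using TensorProduct.induction_on with
    | zero => rw [map_zero, map_zero, map_zero, map_zero]
    | tmul a' c => rw [hRtmul, hg'tmul, hRDtmul, map_smul]
    | add x y hx hy => rw [map_add, map_add, hx, hy, map_add, map_add]
  have hRker : ∀ t ∈ RingHom.ker g', R t ∈ RingHom.ker g := by
    intro t ht
    rw [RingHom.mem_ker] at ht ⊢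
    rw [hRg, ht, map_zero]
  have hkey : ∀ (t t' : A' ⊗[A] C) (d d' : D), g' t = (1 : A') ⊗ₜ[A] d →
      g' t' = (1 : A') ⊗ₜ[A] d' → R (t * t') = R t * R t' := by
    intro t t' d d' ht ht'
    obtain ⟨c, rfl⟩ := hg d
    obtain ⟨c', rfl⟩ := hg d'
    have hj : t - (1 : A') ⊗ₜ[A] c ∈ RingHom.ker g' := by
      rw [RingHom.mem_ker, map_sub, ht, hg'tmul, sub_self]
    have hj' : t' - (1 : A') ⊗ₜ[A] c' ∈ RingHom.ker g' := by
      rw [RingHom.mem_ker, map_sub, ht', hg'tmul, sub_self]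
    set j := t - (1 : A') ⊗ₜ[A] c with hjdef
    set j' := t' - (1 : A') ⊗ₜ[A] c' with hj'def
    have et : t = (1 : A') ⊗ₜ[A] c + j := by rw [hjdef]; ring
    have et' : t' = (1 : A') ⊗ₜ[A] c' + j' := by rw [hj'def]; ring
    have e1 : t * t' = ((1 : A') ⊗ₜ[A] c) * ((1 : A') ⊗ₜ[A] c') + ((1 : A') ⊗ₜ[A] c) * j' +
        ((1 : A') ⊗ₜ[A] c') * j + j * j' := by
      rw [et, et']; ring
    have e2 : R t = c + R j := by rw [et, map_add, hR1]
    have e3 : R t' = c' + R j' := by rw [et', map_add, hR1]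
    rw [e1, hsq' j hj j' hj', add_zero, map_add, map_add, hRmul, hRmul, hRmul, hR1, e2, e3]
    have e4 : R j * R j' = 0 := hsq _ (hRker j hj) _ (hRker j' hj')
    linear_combination (-1 : C) * e4
  let ι : B →ₐ[A] A' ⊗[A] B := Algebra.TensorProduct.includeRight
  have hι : ∀ b, ι b = (1 : A') ⊗ₜ[A] b := fun b => rfl
  let vlin : B →ₗ[A] C := R ∘ₗ (v'.restrictScalars A).toLinearMap ∘ₗ ι.toLinearMap
  have hvlin : ∀ b, vlin b = R (v' ((1 : A') ⊗ₜ[A] b)) := fun b => rfl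
  have hgv : ∀ b, g' (v' ((1 : A') ⊗ₜ[A] b)) = (1 : A') ⊗ₜ[A] u b := by
    intro b
    rw [hv'', hu'tmul]
  refine ⟨AlgHom.ofLinearMap vlin ?_ ?_, ?_⟩
  · rw [hvlin]
    have : ((1 : A') ⊗ₜ[A] (1 : B)) = (1 : A' ⊗[A] B) := rfl
    rw [this, map_one]
    have : (1 : A' ⊗[A] C) = ((1 : A') ⊗ₜ[A] (1 : C)) := rfl
    rw [this, hR1]
  · intro x y
    rw [hvlin, hvlin, hvlin]
    have : ((1 : A') ⊗ₜ[A] (x * y)) = ((1 : A') ⊗ₜ[A] x) * ((1 : A') ⊗ₜ[A] y) := by
      rw [Algebra.TensorProduct.tmul_mul_tmul, one_mul]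
    rw [this, map_mul]
    exact hkey _ _ _ _ (hgv x) (hgv y)
  · ext b
    change g (vlin b) = u b
    rw [hvlin, hRg, hgv, hRDtmul, hρ, one_smul]

/-- descent of adic formal smoothness along a ring map admitting a linear retraction -/
theorem descent (𝔞 : Ideal A) (𝔟 : Ideal B) (ρ : A' →ₗ[A] A) (hρ : ρ 1 = 1)
    (H' : IsFormallySmoothAdic A' (𝔞.map (algebraMap A A')) (A' ⊗[A] B)
      (tensorIdeal (A' := A') 𝔞 𝔟)) :
    IsFormallySmoothAdic A 𝔞 B 𝔟 :=
  of_sq 𝔞 𝔟 (fun C D _ _ _ _ g hg hsq hk u hu => descent_sq 𝔞 𝔟 ρ hρ H' C D g hg hsq hk u hu)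

/-- base change of adic formal smoothness -/
theorem baseChange (𝔞 : Ideal A) (𝔟 : Ideal B) (H : IsFormallySmoothAdic A 𝔞 B 𝔟) :
    IsFormallySmoothAdic A' (𝔞.map (algebraMap A A')) (A' ⊗[A] B)
      (tensorIdeal (A' := A') 𝔞 𝔟) := by
  intro C' _ _ J' hJ' hk' u' hu'
  let _ : Algebra A C' := Algebra.compHom C' (algebraMap A A')
  have _ : IsScalarTower A A' C' := IsScalarTower.of_algebraMap_eq (fun _ => rfl)
  let ι : B →ₐ[A] A' ⊗[A] B := Algebra.TensorProduct.includeRight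
  let u : B →ₐ[A] C' ⧸ J' := (u'.restrictScalars A).comp ι
  have hkC : ∃ k : ℕ, (𝔞 ^ k).map (algebraMap A C') = ⊥ := by
    obtain ⟨k, hk⟩ := hk'
    refine ⟨k, ?_⟩
    rw [← Ideal.map_pow, Ideal.map_map] at hk
    exact hk
  have huc : ∃ m : ℕ, ∀ x ∈ 𝔟 ^ m, u x = 0 := by
    obtain ⟨m, hm⟩ := hu'
    refine ⟨m, fun x hx => hm _ ?_⟩
    have h1 : (𝔟.map ι.toRingHom) ^ m ≤ (tensorIdeal (A' := A') 𝔞 𝔟) ^ m :=
      Ideal.pow_right_mono le_sup_right m
    apply h1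
    rw [← Ideal.map_pow]
    exact Ideal.mem_map_of_mem _ hx
  have H1 := H C' J' hJ' hkC
  obtain ⟨v, hv⟩ := H1 u huc
  refine ⟨Algebra.TensorProduct.lift (Algebra.ofId A' C') v (fun _ _ => Commute.all _ _), ?_⟩
  apply Algebra.TensorProduct.ext'
  intro a' b
  have h1 : Ideal.Quotient.mk J' (v b) = u' ((1 : A') ⊗ₜ[A] b) := AlgHom.congr_fun hv b
  rw [AlgHom.comp_apply, Algebra.TensorProduct.lift_tmul, Ideal.Quotient.mkₐ_eq_mk, map_mul, h1]
  have h2 : a' ⊗ₜ[A] b = a' • ((1 : A') ⊗ₜ[A] b) := by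
    rw [TensorProduct.smul_tmul', smul_eq_mul, mul_one]
  rw [h2, map_smul, Algebra.smul_def]
  rfl

end descent

end Groth.Agent.H3.AdicFS2
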