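import Mathlib

/-!
# Formal adjunction calculus for base-change compatibilities (helper3)

General-category versions of the `Dual3` trace/unit base-change compatibilities (S3653, S3654).
-/

open CategoryTheory

namespace Groth.Agent.H3.AdjBC

universe v₁ v₂ v₃ v₄ u₁ u₂ u₃ u₄

variable {A : Type u₁} [Category.{v₁} A] {B : Type u₂} [Category.{v₂} B]
  {A' : Type u₃} [Category.{v₃} A'] {B' : Type u₄} [Category.{v₄} B']
  {F : A ⥤ B} {F' : A' ⥤ B'} {G : B' ⥤ B} {G' : A' ⥤ A} {a : B ⥤ A} {a' : B' ⥤ A'}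
  {L : B ⥤ B'} {L' : A ⥤ A'}

/-- the comparison `ξ` -/
def gxi (adj : F ⊣ a) (adj' : F' ⊣ a') (e : G' ⋙ F ≅ F' ⋙ G) (M : B') :
    G'.obj (a'.obj M) ⟶ a.obj (G.obj M) :=
  (adj.homEquiv _ _) (e.hom.app (a'.obj M) ≫ G.map (adj'.counit.app M))

lemma map_gxi_counit (adj : F ⊣ a) (adj' : F' ⊣ a') (e : G' ⋙ F ≅ F' ⋙ G) (M : B') :
    F.map (gxi adj adj' e M) ≫ adj.counit.app (G.obj M) =
      e.hom.app (a'.obj M) ≫ G.map (adj'.counit.app M) := by
  have := (adj.homEquiv _ _).symm_apply_apply (e.hom.app (a'.obj M) ≫ G.map (adj'.counit.app M))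
  rw [Adjunction.homEquiv_counit] at this
  exact this

theorem trace_compat (adj : F ⊣ a) (adj' : F' ⊣ a') (e : G' ⋙ F ≅ F' ⋙ G)
    (adjg : L ⊣ G) (adjg' : L' ⊣ G') (K : B) [IsIso (gxi adj adj' e (L.obj K))] :
    (adjg.homEquiv _ _).symm (F.map (adjg'.unit.app (a.obj K)) ≫ e.hom.app (L'.obj (a.obj K))) ≫
      F'.map (L'.map (a.map (adjg.unit.app K)) ≫ L'.map (inv (gxi adj adj' e (L.obj K))) ≫
        adjg'.counit.app (a'.obj (L.obj K))) ≫ adj'.counit.app (L.obj K) =
    L.map (adj.counit.app K) := by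
  apply (adjg.homEquiv _ _).injective
  rw [Adjunction.homEquiv_naturality_right, Equiv.apply_symm_apply]
  refine Eq.trans ?_ (Adjunction.homEquiv_unit (adj := adjg) (f := L.map (adj.counit.app K))).symm
  have hnat := e.hom.naturality (L'.map (a.map (adjg.unit.app K)) ≫ L'.map (inv (gxi adj adj' e (L.obj K))) ≫
        adjg'.counit.app (a'.obj (L.obj K)))
  simp only [Functor.comp_map, Functor.id_obj, Functor.comp_obj] at hnat
  simp only [Functor.id_obj, Functor.comp_obj]
  rw [G.map_comp, Category.assoc, ← Category.assoc (e.hom.app _), ← hnat, Category.assoc,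
    ← map_gxi_counit adj adj' e (L.obj K)]
  have h1 : adjg'.unit.app (a.obj K) ≫ G'.map (L'.map (a.map (adjg.unit.app K)) ≫
      L'.map (inv (gxi adj adj' e (L.obj K))) ≫ adjg'.counit.app (a'.obj (L.obj K))) =
      a.map (adjg.unit.app K) ≫ inv (gxi adj adj' e (L.obj K)) := by
    rw [G'.map_comp, G'.map_comp]
    have n1 := adjg'.unit.naturality (a.map (adjg.unit.app K))
    have n2 := adjg'.unit.naturality (inv (gxi adj adj' e (L.obj K)))
    simp only [Functor.id_map, Functor.comp_map, Functor.id_obj, Functor.comp_obj] at n1 n2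
    rw [← Category.assoc, ← n1, Category.assoc, ← Category.assoc (adjg'.unit.app _), ← n2,
      Category.assoc, adjg'.right_triangle_components, Category.comp_id]
  rw [← Category.assoc (F.map _), ← F.map_comp, h1, F.map_comp, Category.assoc,
    ← Category.assoc (F.map (inv _)), ← F.map_comp, IsIso.inv_hom_id, F.map_id, Category.id_comp]
  have n3 := adj.counit.naturality (adjg.unit.app K)
  simp only [Functor.id_map, Functor.comp_map, Functor.id_obj, Functor.comp_obj] at n3
  rw [n3]
  have n4 := adjg.unit.naturality (adj.counit.app K)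
  simp only [Functor.id_map, Functor.comp_map, Functor.id_obj, Functor.comp_obj] at n4
  exact n4

lemma gxi_eq (adj : F ⊣ a) (adj' : F' ⊣ a') (e : G' ⋙ F ≅ F' ⋙ G) (M : B') :
    gxi adj adj' e M = adj.unit.app (G'.obj (a'.obj M)) ≫
      a.map (e.hom.app (a'.obj M) ≫ G.map (adj'.counit.app M)) :=
  Adjunction.homEquiv_unit ..

lemma gxi_naturality (adj : F ⊣ a) (adj' : F' ⊣ a') (e : G' ⋙ F ≅ F' ⋙ G) {M₁ M₂ : B'} (φ : M₁ ⟶ M₂) :
    G'.map (a'.map φ) ≫ gxi adj adj' e M₂ = gxi adj adj' e M₁ ≫ a.map (G.map φ) := by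
  rw [gxi_eq, gxi_eq]
  have n1 := adj.unit.naturality (G'.map (a'.map φ))
  simp only [Functor.id_map, Functor.comp_map, Functor.id_obj, Functor.comp_obj] at n1
  rw [← Category.assoc, n1, Category.assoc, Category.assoc, ← a.map_comp, ← a.map_comp]
  congr 2
  have n2 := e.hom.naturality (a'.map φ)
  simp only [Functor.comp_map, Functor.comp_obj] at n2
  rw [← Category.assoc, n2, Category.assoc, Category.assoc, ← G.map_comp, ← G.map_comp]
  congr 2
  exact adj'.counit.naturality φ

theorem unit_compat (adj : F ⊣ a) (adj' : F' ⊣ a') (e : G' ⋙ F ≅ F' ⋙ G)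
    (adjg : L ⊣ G) (adjg' : L' ⊣ G') (M : A) [IsIso (gxi adj adj' e (L.obj (F.obj M)))]
    [IsIso (gxi adj adj' e (F'.obj (L'.obj M)))]
    (bp : L.obj (F.obj M) ⟶ F'.obj (L'.obj M))
    (hbp : bp = (adjg.homEquiv (F.obj M) (F'.obj (L'.obj M))).symm
      (F.map (adjg'.unit.app M) ≫ e.hom.app (L'.obj M))) :
    adj'.unit.app (L'.obj M) =
      L'.map (adj.unit.app M) ≫
        (L'.map (a.map (adjg.unit.app (F.obj M))) ≫ L'.map (inv (gxi adj adj' e (L.obj (F.obj M)))) ≫
          adjg'.counit.app (a'.obj (L.obj (F.obj M)))) ≫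
        a'.map bp := by
  have hbp' : adjg.unit.app (F.obj M) ≫ G.map bp = F.map (adjg'.unit.app M) ≫ e.hom.app (L'.obj M) := by
    have := (adjg.homEquiv (F.obj M) (F'.obj (L'.obj M))).apply_symm_apply
      (F.map (adjg'.unit.app M) ≫ e.hom.app (L'.obj M))
    rw [← hbp, Adjunction.homEquiv_unit] at this
    exact this
  apply (adjg'.homEquiv _ _).injective
  rw [Adjunction.homEquiv_unit, Adjunction.homEquiv_unit]
  simp only [Functor.map_comp, Category.assoc]
  -- cancel the iso ξ on the right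
  rw [← cancel_mono (gxi adj adj' e (F'.obj (L'.obj M)))]
  simp only [Category.assoc]
  -- right side
  have hR : G'.map (adjg'.counit.app (a'.obj (L.obj (F.obj M)))) ≫ G'.map (a'.map bp) ≫
      gxi adj adj' e (F'.obj (L'.obj M)) =
      G'.map (adjg'.counit.app (a'.obj (L.obj (F.obj M)))) ≫ gxi adj adj' e (L.obj (F.obj M)) ≫
        a.map (G.map bp) := by
    rw [gxi_naturality]
  rw [hR]
  have n1 := adjg'.unit.naturality (adj.unit.app M)
  have n2 := adjg'.unit.naturality (a.map (adjg.unit.app (F.obj M)))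
  have n3 := adjg'.unit.naturality (inv (gxi adj adj' e (L.obj (F.obj M))))
  simp only [Functor.id_map, Functor.comp_map, Functor.id_obj, Functor.comp_obj] at n1 n2 n3
  rw [reassoc_of% n1.symm, reassoc_of% n2.symm, reassoc_of% n3.symm,
    adjg'.right_triangle_components_assoc,
    IsIso.inv_hom_id_assoc, ← a.map_comp, hbp', a.map_comp]
  -- left side
  rw [gxi_eq]
  have n4 := adj.unit.naturality (G'.map (adj'.unit.app (L'.obj M)))
  have n5 := adj.unit.naturality (adjg'.unit.app M)
  simp only [Functor.id_map, Functor.comp_map, Functor.id_obj, Functor.comp_obj] at n4 n5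
  rw [← Category.assoc (G'.map _), n4, Category.assoc, ← Category.assoc (adj.unit.app M), ← n5,
    Category.assoc]
  congr 1
  rw [← a.map_comp]
  congr 1
  have n6 := e.hom.naturality (adj'.unit.app (L'.obj M))
  simp only [Functor.comp_map, Functor.comp_obj, Functor.id_obj] at n6
  rw [← Category.assoc, n6, Category.assoc, ← G.map_comp, adj'.left_triangle_components]
  simp

end Groth.Agent.H3.AdjBC
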