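import Mathlib
import Groth.Agent.Lib.Helper3.AlgSpCov.FpqcAffineBase
import Groth.Agent.Lib.Helper3.AlgSt.Prod
import Groth.Agent.Lib.Helper5.AlgSp.AffineMor
import Groth.Agent.Lib.Helper5.AlgSp.LocPBasic
import Groth.Agent.Lib.Helper5.AlgSp.FibreProduct

/-!
# An algebraic space over a field which is affine after a field extension is affine (helper3)
-/

set_option autoImplicit false
universe u
open CategoryTheory CategoryTheory.Limits AlgebraicGeometry Opposite

namespace Groth.Agent.H3.AffDesc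

open AlgSp Groth.Agent.H3.AlgStProd Groth.Agent.H3.AlgSpCov

theorem main (k : Type u) [Field k] (X : AlgSp.Space (Spec (CommRingCat.of k)))
    (kbar : Type u) [Field kbar] [Algebra k kbar]
    (T : Over (Spec (CommRingCat.of k))) (hT : IsAffine T.left)
    (e : X.obj ⨯ (AlgSp.yon (Spec (CommRingCat.of k))).obj
        (Over.mk (Spec.map (CommRingCat.ofHom (algebraMap k kbar)))) ≅
      (AlgSp.yon (Spec (CommRingCat.of k))).obj T) :
    ∃ (U : Over (Spec (CommRingCat.of k))), IsAffine U.left ∧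
      Nonempty (X.obj ≅ (AlgSp.yon (Spec (CommRingCat.of k))).obj U) := by
  obtain ⟨S, hS⟩ : ∃ S : Scheme.{u}, S = Spec (CommRingCat.of k) := ⟨_, rfl⟩
  obtain ⟨Sk, hSk⟩ : ∃ Sk : Over (Spec (CommRingCat.of k)),
    Sk = Over.mk (Spec.map (CommRingCat.ofHom (algebraMap k kbar))) := ⟨_, rfl⟩
  rw [← hSk] at e
  haveI : IsAffine Sk.left := by rw [hSk]; change IsAffine (Spec _); infer_instance
  haveI : IsAffine T.left := hT
  have hflat : Flat Sk.hom := by
    rw [hSk]
    change Flat (Spec.map (CommRingCat.ofHom (algebraMap k kbar)))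
    rw [HasRingHomProperty.Spec_iff (P := @Flat)]
    exact RingHom.flat_algebraMap_iff.mpr inferInstance
  have hsurj : Surjective Sk.hom := by
    rw [hSk]
    change Surjective (Spec.map (CommRingCat.ofHom (algebraMap k kbar)))
    refine ⟨fun y => ?_⟩
    have hsub : Subsingleton (Spec (CommRingCat.of k)) :=
      inferInstanceAs (Subsingleton (PrimeSpectrum k))
    obtain ⟨x⟩ : Nonempty (Spec (CommRingCat.of kbar)) :=
      inferInstanceAs (Nonempty (PrimeSpectrum kbar))
    exact ⟨x, Subsingleton.elim _ _⟩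
  -- the covering of the terminal sheaf
  obtain ⟨Y, hYdef⟩ : ∃ Y : Sp (Spec (CommRingCat.of k)),
    Y = (AlgSp.yon (Spec (CommRingCat.of k))).obj (Over.mk (𝟙 (Spec (CommRingCat.of k)))) :=
    ⟨_, rfl⟩
  obtain ⟨t, -⟩ : ∃ t : IsTerminal Y, True := by
    rw [hYdef]
    exact ⟨termSpIsTerminal, trivial⟩
  have hY : IsAlgSpace Y := by rw [hYdef]; exact IsAlgSpace.yon_obj _
  obtain ⟨f, hf⟩ : ∃ f : X.obj ⟶ Y, f = t.from _ := ⟨_, rfl⟩
  obtain ⟨g, hg⟩ : ∃ g : (AlgSp.yon (Spec (CommRingCat.of k))).obj Sk ⟶ Y, g = t.from _ :=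
    ⟨_, rfl⟩
  have sq : IsPullback (prod.fst : X.obj ⨯ (AlgSp.yon (Spec (CommRingCat.of k))).obj Sk ⟶ _)
      prod.snd f g := by
    rw [hf, hg]
    exact IsPullback.of_is_product' (prodIsProd _ _) t
  have hXi : IsAlgSpace (X.obj ⨯ (AlgSp.yon (Spec (CommRingCat.of k))).obj Sk) :=
    Groth.Agent.H5.AlgSp.isAlgSpace_pullback hY.diag X.property (IsAlgSpace.yon_obj Sk) sq
  have hgflat : LocP @Flat g := by
    subst hYdef
    obtain ⟨g₀, hg₀⟩ : ∃ g₀ : Sk ⟶ Over.mk (𝟙 (Spec (CommRingCat.of k))),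
        (AlgSp.yon (Spec (CommRingCat.of k))).map g₀ = g :=
      ⟨Over.mkIdTerminal.from Sk, t.hom_ext _ _⟩
    rw [← hg₀]
    apply Groth.Agent.H5.AlgSp.locP_of_repWith (P := @Flat)
      (fun _ _ f hf => by haveI : Etale f := hf; infer_instance)
    have h1 : g₀.left = Sk.hom := by
      have := Over.w g₀
      simpa using this
    exact (AlgSp.repWith_yon_map_iff @Flat g₀).2 (by rw [h1]; exact hflat)
  have hcov : IsFpqcCover (fun _ : PUnit.{u + 1} => (AlgSp.yon (Spec (CommRingCat.of k))).obj Sk)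
      (fun _ => g) := by
    refine ⟨fun _ => hgflat, ?_⟩
    intro Z hZ h
    haveI : IsAffine Z.left := hZ
    haveI : Flat Sk.hom := hflat
    haveI : Surjective Sk.hom := hsurj
    refine ⟨1, fun _ => Over.mk (pullback.fst Z.hom Sk.hom ≫ Z.hom),
      fun _ => Over.homMk (pullback.fst Z.hom Sk.hom) rfl, ?_, ?_, ?_, ?_⟩
    · intro _
      change IsAffine (pullback Z.hom Sk.hom)
      infer_instance
    · intro _
      change Flat (pullback.fst Z.hom Sk.hom)
      infer_instance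
    · intro z
      refine ⟨0, ?_⟩
      change z ∈ Set.range (pullback.fst Z.hom Sk.hom)
      exact (pullback.fst Z.hom Sk.hom).surjective z
    · intro _
      refine ⟨PUnit.unit, (AlgSp.yon (Spec (CommRingCat.of k))).map
        (Over.homMk (pullback.snd Z.hom Sk.hom) pullback.condition.symm), t.hom_ext _ _⟩
  have hloc := isLocalOnBase_fpqc_isAffineMor (S := Spec (CommRingCat.of k))
    (fun _ : PUnit.{u + 1} => (AlgSp.yon (Spec (CommRingCat.of k))).obj Sk) (fun _ => g) hY
    (fun _ => IsAlgSpace.yon_obj Sk) hcov f X.property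
    (fun _ => X.obj ⨯ (AlgSp.yon (Spec (CommRingCat.of k))).obj Sk) (fun _ => prod.snd)
    (fun _ => prod.fst) (fun _ => hXi) (fun _ => sq)
  have hsnd : IsAffineMor
      (prod.snd : X.obj ⨯ (AlgSp.yon (Spec (CommRingCat.of k))).obj Sk ⟶ _) := by
    apply Groth.Agent.H5.AlgSp.isAffineMor_of_repWith
    obtain ⟨τ, hτ⟩ := (AlgSp.yon (Spec (CommRingCat.of k))).map_surjective (e.inv ≫ prod.snd)
    have h1 : (prod.snd : X.obj ⨯ (AlgSp.yon (Spec (CommRingCat.of k))).obj Sk ⟶ _) =
        e.hom ≫ (AlgSp.yon (Spec (CommRingCat.of k))).map τ := by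
      rw [hτ, Iso.hom_inv_id_assoc]
    rw [h1]
    apply MorphismProperty.RespectsIso.precomp
    rw [AlgSp.repWith_yon_map_iff]
    infer_instance
  have hfaff : IsAffineMor f := hloc.2 (fun _ => hsnd)
  haveI : IsAffine (Over.mk (𝟙 (Spec (CommRingCat.of k)))).left := by
    change IsAffine (Spec _); infer_instance
  subst hYdef
  obtain ⟨W, i, fst, hpb, hW⟩ := hfaff (Z := Over.mk (𝟙 (Spec (CommRingCat.of k))))
    inferInstance (𝟙 _)
  haveI : IsIso fst := hpb.isIso_fst_of_isIso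
  exact ⟨W, hW, ⟨(asIso fst).symm⟩⟩

end Groth.Agent.H3.AffDesc
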