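import Mathlib
import Groth.Agent.Lib.Helper2.DimFG

/-!
# Two elements cutting out a codimension-two component are algebraically independent
-/

set_option autoImplicit false
universe u

namespace Groth.Agent.H3.AlgInd

open MvPolynomial

theorem nat_add_of_withBot {h d e : ℕ}
    (H : ((h : ℕ∞) : WithBot ℕ∞) + (d : WithBot ℕ∞) = (e : WithBot ℕ∞)) : h + d = e := by
  have h1 : (((h + d : ℕ) : ℕ∞) : WithBot ℕ∞) = (((e : ℕ) : ℕ∞) : WithBot ℕ∞) := by
    push_cast
    exact H
  exact_mod_cast WithBot.coe_injective h1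

theorem le_zero_of_add_one_le_one (x : WithBot ℕ∞) (h : x + 1 ≤ 1) : x ≤ 0 := by
  induction x using WithBot.recBotCoe with
  | bot => exact bot_le
  | coe y =>
    have h1 : ((y + 1 : ℕ∞) : WithBot ℕ∞) ≤ ((1 : ℕ∞) : WithBot ℕ∞) := by
      push_cast
      exact h
    have h2 : y + 1 ≤ 1 := WithBot.coe_le_coe.mp h1
    have h3 : y ≤ 0 := by
      rcases eq_or_ne y ⊤ with rfl | hy
      · simp at h2
      · obtain ⟨m, rfl⟩ := ENat.ne_top_iff_exists.mp hy
        have : m + 1 ≤ 1 := by exact_mod_cast h2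
        have : m = 0 := by omega
        subst this
        simp
    exact_mod_cast WithBot.coe_le_coe.mpr h3

theorem exists_pow_succ_mul_eq {R : Type*} [CommRing R] [IsArtinianRing R] (r : R) :
    ∃ (N : ℕ) (y : R), r ^ (N + 1) * y = r ^ N := by
  obtain ⟨N, y, hy⟩ := IsArtinian.exists_pow_succ_smul_dvd r (1 : R)
  exact ⟨N, y, by simpa using hy⟩

section Dep

variable {k A : Type u} [Field k] [CommRing A] [IsDomain A] [Algebra k A]
  [Algebra.FiniteType k A]

omit [Algebra.FiniteType k A] in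
/-- if `a ≠ 0` and `a, b` are algebraically dependent, then `b^N (b ρ - 1) ∈ (a)` -/
theorem exists_relation_of_dependent (a b : A) (ha : a ≠ 0)
    (hdep : ¬ AlgebraicIndependent k ![a, b]) :
    ∃ (N : ℕ) (ρ γ : A), b ^ N * (b * ρ - 1) = a * γ := by
  set φ : MvPolynomial (Fin 2) k →ₐ[k] A := aeval ![a, b] with hφ
  set P : Ideal (MvPolynomial (Fin 2) k) := RingHom.ker φ.toRingHom with hPdef
  have hP : P ≠ ⊥ := by
    intro h
    apply hdep
    rw [AlgebraicIndependent]
    exact (RingHom.injective_iff_ker_eq_bot φ.toRingHom).mpr h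
  haveI : P.IsPrime := RingHom.ker_isPrime _
  let ι : (MvPolynomial (Fin 2) k ⧸ P) →+* A := RingHom.kerLift φ.toRingHom
  have hι : Function.Injective ι := RingHom.kerLift_injective _
  have hιmk : ∀ r, ι (Ideal.Quotient.mk P r) = φ r := fun r => RingHom.kerLift_mk _ r
  set xb : MvPolynomial (Fin 2) k ⧸ P := Ideal.Quotient.mk P (X 0) with hxb
  set yb : MvPolynomial (Fin 2) k ⧸ P := Ideal.Quotient.mk P (X 1) with hyb
  have hιx : ι xb = a := by
    rw [hxb, hιmk, hφ, aeval_X]
    rfl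
  have hιy : ι yb = b := by
    rw [hyb, hιmk, hφ, aeval_X]
    rfl
  have hxb0 : xb ≠ 0 := fun h => ha (by rw [← hιx, h, map_zero])
  -- dimension of the quotient
  have h1 := Groth.Agent.H2.DimFG.height_add_ringKrullDim_quotient k (MvPolynomial (Fin 2) k) P
  have h2 := Groth.Agent.H2.DimFG.ringKrullDim_mvPolynomial_fin k 2
  obtain ⟨d, hd⟩ := Groth.Agent.H2.DimFG.exists_ringKrullDim_eq_nat k (MvPolynomial (Fin 2) k ⧸ P)
  obtain ⟨h, hh⟩ := ENat.ne_top_iff_exists.mp (Ideal.height_ne_top (I := P) (Ideal.IsPrime.ne_top'))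
  have hh1 : 1 ≤ h := by
    rcases Nat.eq_zero_or_pos h with h0 | h0
    · exfalso
      rw [h0] at hh
      exact hP (Ideal.height_eq_zero_iff_eq_bot.mp hh.symm)
    · exact h0
  have hd1 : d ≤ 1 := by
    rw [h2, hd, ← hh] at h1
    have : h + d = 2 := nat_add_of_withBot h1
    omega
  have hdim0 : ringKrullDim ((MvPolynomial (Fin 2) k ⧸ P) ⧸ Ideal.span {xb}) ≤ 0 := by
    have h3 := ringKrullDim_quotient_succ_le_of_nonZeroDivisor
      (mem_nonZeroDivisors_of_ne_zero hxb0)
    rw [hd] at h3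
    have h4 : ringKrullDim ((MvPolynomial (Fin 2) k ⧸ P) ⧸ Ideal.span {xb}) + 1 ≤ 1 :=
      h3.trans (by exact_mod_cast hd1)
    exact le_zero_of_add_one_le_one _ h4
  haveI : Ring.KrullDimLE 0 ((MvPolynomial (Fin 2) k ⧸ P) ⧸ Ideal.span {xb}) :=
    Ring.krullDimLE_iff.mpr hdim0
  obtain ⟨N, y', hy'⟩ := @exists_pow_succ_mul_eq ((MvPolynomial (Fin 2) k ⧸ P) ⧸ Ideal.span {xb}) _
    (isArtinianRing_iff_krullDimLE_zero.mpr inferInstance)
    (Ideal.Quotient.mk (Ideal.span {xb}) yb)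
  obtain ⟨r, rfl⟩ := Ideal.Quotient.mk_surjective y'
  have hy'' : Ideal.Quotient.mk (Ideal.span {xb}) (yb ^ (N + 1) * r - yb ^ N) = 0 := by
    rw [map_sub, map_mul, map_pow, map_pow, sub_eq_zero]
    exact hy'
  rw [Ideal.Quotient.eq_zero_iff_mem, Ideal.mem_span_singleton'] at hy''
  obtain ⟨c, hc⟩ := hy''
  refine ⟨N, ι r, ι c, ?_⟩
  have := congrArg ι hc
  rw [map_mul, map_sub, map_mul, map_pow, map_pow, hιx, hιy] at this
  rw [mul_comm a, this, pow_succ]
  ring

omit [Algebra.FiniteType k A] in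
theorem mem_minimalPrimes_singleton (a b : A) (ha : a ≠ 0)
    (hdep : ¬ AlgebraicIndependent k ![a, b]) (p : Ideal A)
    (hp : p ∈ (Ideal.span {a, b}).minimalPrimes) : p ∈ (Ideal.span {a}).minimalPrimes := by
  obtain ⟨N, ρ, γ, h⟩ := exists_relation_of_dependent (k := k) a b ha hdep
  have hpprime : p.IsPrime := hp.1.1
  have hap : a ∈ p := hp.1.2 (Ideal.subset_span (by simp))
  have hbp : b ∈ p := hp.1.2 (Ideal.subset_span (by simp))
  refine ⟨⟨hpprime, (Ideal.span_singleton_le_iff_mem _).mpr hap⟩, ?_⟩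
  rintro p' ⟨hp'prime, hp'a⟩ hp'p
  apply hp.2 ⟨hp'prime, ?_⟩ hp'p
  have hap' : a ∈ p' := (Ideal.span_singleton_le_iff_mem _).mp hp'a
  have hmem : b ^ N * (b * ρ - 1) ∈ p' := by
    rw [h]
    exact Ideal.mul_mem_right _ _ hap'
  have hbp' : b ∈ p' := by
    rcases hp'prime.mem_or_mem hmem with h1 | h1
    · exact hp'prime.mem_of_pow_mem _ h1
    · exfalso
      have h2 : b * ρ - 1 ∈ p := hp'p h1
      have h3 : (1 : A) ∈ p := by
        have := p.sub_mem (Ideal.mul_mem_right ρ _ hbp) h2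
        rwa [sub_sub_cancel] at this
      exact hpprime.ne_top ((Ideal.eq_top_iff_one _).mpr h3)
  rw [Ideal.span_le]
  intro x hx
  rcases hx with rfl | rfl
  · exact hap'
  · exact hbp'

/-- two elements with a minimal prime of coheight drop two are algebraically independent -/
theorem algebraicIndependent_of_minimalPrimes (a b : A) (p : Ideal A)
    (hp : p ∈ (Ideal.span {a, b}).minimalPrimes)
    (hdim : ringKrullDim (A ⧸ p) + 2 = ringKrullDim A) : AlgebraicIndependent k ![a, b] := by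
  by_contra hdep
  haveI hpprime : p.IsPrime := hp.1.1
  haveI : IsNoetherianRing A := Algebra.FiniteType.isNoetherianRing k A
  have hht := Groth.Agent.H2.DimFG.height_add_ringKrullDim_quotient k A p
  obtain ⟨d, hd⟩ := Groth.Agent.H2.DimFG.exists_ringKrullDim_eq_nat k (A ⧸ p)
  obtain ⟨h, hh⟩ := ENat.ne_top_iff_exists.mp (Ideal.height_ne_top (I := p) hpprime.ne_top)
  have hh2 : h = 2 := by
    rw [← hdim, hd, ← hh] at hht
    have h' : ((h : ℕ∞) : WithBot ℕ∞) + (d : WithBot ℕ∞) = ((d + 2 : ℕ) : WithBot ℕ∞) := by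
      rw [hht]
      push_cast
      rfl
    have : h + d = d + 2 := nat_add_of_withBot h'
    omega
  have hle : p.height ≤ 1 := by
    by_cases ha : a = 0
    · subst ha
      rw [Ideal.span_insert_zero] at hp
      haveI : (Ideal.span {b}).IsPrincipal := ⟨⟨b, rfl⟩⟩
      exact Ideal.height_le_one_of_isPrincipal_of_mem_minimalPrimes _ p hp
    · haveI : (Ideal.span {a}).IsPrincipal := ⟨⟨a, rfl⟩⟩
      exact Ideal.height_le_one_of_isPrincipal_of_mem_minimalPrimes _ p
        (mem_minimalPrimes_singleton (k := k) a b ha hdep p hp)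
  rw [← hh, hh2] at hle
  norm_num at hle

end Dep

end Groth.Agent.H3.AlgInd
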