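import Mathlib

/-!
# Algebraic independence of `x_i, Σ g_i x_i, g_0` when `g_0, g_1` are algebraically independent
-/

set_option autoImplicit false
universe u

namespace Groth.Agent.H3.AlgInd

open MvPolynomial

section Base

variable {k K : Type u} [Field k] [Field K] [Algebra k K] (n : ℕ) (g : Fin (n + 2) → K)

/-- the change of variables `(x, U, W) ↦ (x, G₀ x₀ + G₁ x₁, G₀)` is injective -/
theorem chi_injective :
    Function.Injective (aeval (R := k)
      (Sum.elim (fun i : Fin (n + 2) => (X (Sum.inl i) : MvPolynomial (Fin (n + 2) ⊕ Fin 2) k))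
        ![X (Sum.inr 0) * X (Sum.inl 0) + X (Sum.inr 1) * X (Sum.inl 1), X (Sum.inr 0)]) :
        MvPolynomial (Fin (n + 2) ⊕ Fin 2) k →ₐ[k] MvPolynomial (Fin (n + 2) ⊕ Fin 2) k) := by
  set χ := (aeval (R := k)
      (Sum.elim (fun i : Fin (n + 2) => (X (Sum.inl i) : MvPolynomial (Fin (n + 2) ⊕ Fin 2) k))
        ![X (Sum.inr 0) * X (Sum.inl 0) + X (Sum.inr 1) * X (Sum.inl 1), X (Sum.inr 0)]) :
        MvPolynomial (Fin (n + 2) ⊕ Fin 2) k →ₐ[k] MvPolynomial (Fin (n + 2) ⊕ Fin 2) k) with hχ
  let ι := algebraMap (MvPolynomial (Fin (n + 2) ⊕ Fin 2) k)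
    (FractionRing (MvPolynomial (Fin (n + 2) ⊕ Fin 2) k))
  let ζ : MvPolynomial (Fin (n + 2) ⊕ Fin 2) k →ₐ[k]
      FractionRing (MvPolynomial (Fin (n + 2) ⊕ Fin 2) k) :=
    aeval (Sum.elim (fun i : Fin (n + 2) => ι (X (Sum.inl i)))
      ![ι (X (Sum.inr 1)),
        (ι (X (Sum.inr 0)) - ι (X (Sum.inr 1)) * ι (X (Sum.inl 0))) / ι (X (Sum.inl 1))])
  have hX1 : ι (X (Sum.inl 1)) ≠ 0 := by
    intro h
    have := (IsFractionRing.injective (MvPolynomial (Fin (n + 2) ⊕ Fin 2) k)
      (FractionRing (MvPolynomial (Fin (n + 2) ⊕ Fin 2) k))) (h.trans (map_zero ι).symm)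
    exact X_ne_zero _ this
  have hcomp : ζ.comp χ = IsScalarTower.toAlgHom k (MvPolynomial (Fin (n + 2) ⊕ Fin 2) k)
      (FractionRing (MvPolynomial (Fin (n + 2) ⊕ Fin 2) k)) := by
    apply MvPolynomial.algHom_ext
    rintro (i | l)
    · simp [hχ, ζ, ι]
    · fin_cases l
      · simp [hχ, ζ, ι]
      · simp [hχ, ζ, ι]
  intro a b hab
  have h1 : (ζ.comp χ) a = (ζ.comp χ) b := by
    rw [AlgHom.comp_apply, AlgHom.comp_apply, hab]
  rw [hcomp] at h1
  exact (IsFractionRing.injective (MvPolynomial (Fin (n + 2) ⊕ Fin 2) k)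
    (FractionRing (MvPolynomial (Fin (n + 2) ⊕ Fin 2) k))) h1

end Base

section Indep

variable {k K : Type u} [Field k] [Field K] [Algebra k K] (n : ℕ) (g : Fin (n + 2) → K)
  (hg : AlgebraicIndependent k ![g 0, g 1])

include hg in
/-- `(x, g₀, g₁)` is algebraically independent over `k` in `K[x]` -/
theorem indep_v :
    AlgebraicIndependent k
      (Sum.elim (fun i : Fin (n + 2) => (X i : MvPolynomial (Fin (n + 2)) K))
        (fun l : Fin 2 => (C (![g 0, g 1] l) : MvPolynomial (Fin (n + 2)) K))) := by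
  have hx : AlgebraicIndependent k
      (fun l : Fin 2 => (C (![g 0, g 1] l) : MvPolynomial (Fin (n + 2)) K)) := by
    have := hg.map' (f := IsScalarTower.toAlgHom k K (MvPolynomial (Fin (n + 2)) K))
      (MvPolynomial.C_injective _ _)
    exact this
  refine hx.sumElim_of_tower (S := K) ?_ (MvPolynomial.algebraicIndependent_X _ _)
  rintro _ ⟨l, rfl⟩
  exact ⟨_, rfl⟩

include hg in
/-- `(x, g₀ x₀ + g₁ x₁, g₀)` is algebraically independent over `k` in `K[x]` -/
theorem indep_w :
    AlgebraicIndependent k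
      (Sum.elim (fun i : Fin (n + 2) => (X i : MvPolynomial (Fin (n + 2)) K))
        ![C (g 0) * X 0 + C (g 1) * X 1, C (g 0)]) := by
  have hv := indep_v n g hg
  rw [AlgebraicIndependent] at hv ⊢
  have hcomp : (aeval (R := k) (Sum.elim (fun i : Fin (n + 2) => (X i : MvPolynomial (Fin (n + 2)) K))
        ![C (g 0) * X 0 + C (g 1) * X 1, C (g 0)])) =
      (aeval (R := k) (Sum.elim (fun i : Fin (n + 2) => (X i : MvPolynomial (Fin (n + 2)) K))
        (fun l : Fin 2 => (C (![g 0, g 1] l) : MvPolynomial (Fin (n + 2)) K)))).comp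
      (aeval (R := k)
      (Sum.elim (fun i : Fin (n + 2) => (X (Sum.inl i) : MvPolynomial (Fin (n + 2) ⊕ Fin 2) k))
        ![X (Sum.inr 0) * X (Sum.inl 0) + X (Sum.inr 1) * X (Sum.inl 1), X (Sum.inr 0)])) := by
    apply MvPolynomial.algHom_ext
    rintro (i | l)
    · simp
    · fin_cases l
      · simp
      · simp
  rw [hcomp]
  exact hv.comp (chi_injective n)

end Indep

section Lowest

/-- lowest-order-term argument: if `φ` followed by `T ↦ 0` is injective then
`S(T) ↦ S^φ(T)` kills no nonzero polynomial -/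
theorem eval₂_ne_zero_of_injective {B M : Type*} [CommRing B] [CommRing M]
    (φ : B →+* Polynomial M)
    (hε : Function.Injective ((Polynomial.evalRingHom (0 : M)).comp φ)) (S : Polynomial B)
    (hS : S ≠ 0) : Polynomial.eval₂ φ Polynomial.X S ≠ 0 := by
  intro h0
  have hc : (Polynomial.eval₂ φ Polynomial.X S).coeff S.natTrailingDegree =
      ((Polynomial.evalRingHom (0 : M)).comp φ) (S.coeff S.natTrailingDegree) := by
    rw [Polynomial.eval₂_eq_sum_range, Polynomial.finsetSum_coeff,
      Finset.sum_eq_single S.natTrailingDegree]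
    · rw [Polynomial.coeff_mul_X_pow', if_pos le_rfl, Nat.sub_self,
        Polynomial.coeff_zero_eq_eval_zero]
      rfl
    · intro i _ hi
      rw [Polynomial.coeff_mul_X_pow']
      split_ifs with hle
      · have hlt : i < S.natTrailingDegree := lt_of_le_of_ne hle hi
        rw [Polynomial.coeff_eq_zero_of_lt_natTrailingDegree hlt, map_zero, Polynomial.coeff_zero]
      · rfl
    · intro hnot
      exfalso
      apply hnot
      rw [Finset.mem_range]
      exact Nat.lt_succ_of_le (Polynomial.natTrailingDegree_le_natDegree S)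
  rw [h0, Polynomial.coeff_zero] at hc
  have h1 : S.coeff S.natTrailingDegree = 0 := hε (by rw [← hc, map_zero])
  exact (Polynomial.trailingCoeff_nonzero_iff_nonzero.mpr hS) h1

end Lowest

section TTrick

variable {k K : Type u} [Field k] [Field K] [Algebra k K] (n : ℕ) (g : Fin (n + 2) → K)

/-- generators of the substitution `x_j ↦ x_j T` (`j ≥ 2`) -/
noncomputable def thetaGen {σ : Type*} {R : Type*} [CommSemiring R] (ι : Fin (n + 2) → σ) :
    Fin (n + 2) → Polynomial (MvPolynomial σ R) :=
  Fin.cons (Polynomial.C (X (ι 0))) (Fin.cons (Polynomial.C (X (ι 1)))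
    (fun j : Fin n => Polynomial.C (X (ι j.succ.succ)) * Polynomial.X))

theorem thetaGen_zero {σ : Type*} {R : Type*} [CommSemiring R] (ι : Fin (n + 2) → σ) :
    thetaGen (R := R) n ι 0 = Polynomial.C (X (ι 0)) := rfl

theorem thetaGen_one {σ : Type*} {R : Type*} [CommSemiring R] (ι : Fin (n + 2) → σ) :
    thetaGen (R := R) n ι 1 = Polynomial.C (X (ι 1)) := rfl

theorem thetaGen_succ_succ {σ : Type*} {R : Type*} [CommSemiring R] (ι : Fin (n + 2) → σ)
    (j : Fin n) :
    thetaGen (R := R) n ι j.succ.succ = Polynomial.C (X (ι j.succ.succ)) * Polynomial.X := rfl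

theorem eval_one_thetaGen {σ : Type*} {R : Type*} [CommSemiring R] (ι : Fin (n + 2) → σ)
    (i : Fin (n + 2)) : Polynomial.eval 1 (thetaGen (R := R) n ι i) = X (ι i) := by
  refine Fin.cases ?_ (fun i => ?_) i
  · rw [thetaGen_zero, Polynomial.eval_C]
  · refine Fin.cases ?_ (fun j => ?_) i
    · change Polynomial.eval 1 (thetaGen (R := R) n ι 1) = X (ι 1)
      rw [thetaGen_one, Polynomial.eval_C]
    · rw [thetaGen_succ_succ, Polynomial.eval_mul, Polynomial.eval_C, Polynomial.eval_X, mul_one]

/-- the substitution `x_j ↦ x_j T` (`j ≥ 2`) on `K[x]` -/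
noncomputable def theta : MvPolynomial (Fin (n + 2)) K →ₐ[K]
    Polynomial (MvPolynomial (Fin (n + 2)) K) :=
  aeval (thetaGen n id)

theorem theta_X (i : Fin (n + 2)) : theta (K := K) n (X i) = thetaGen n id i := by
  rw [theta, aeval_X]

theorem theta_C (a : K) : theta (K := K) n (C a) = Polynomial.C (C a) := by
  rw [theta, aeval_C]
  rfl

theorem theta_sum :
    theta n (∑ i, C (g i) * X i) =
      Polynomial.C (C (g 0) * X 0 + C (g 1) * X 1) +
        Polynomial.C (∑ j : Fin n, C (g j.succ.succ) * X j.succ.succ) * Polynomial.X := by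
  have h1 : (1 : Fin (n + 2)) = Fin.succ 0 := rfl
  rw [Fin.sum_univ_succ, Fin.sum_univ_succ, map_add, map_add, map_sum]
  have e0 : theta n (C (g 0) * X 0) = Polynomial.C (C (g 0) * X 0) := by
    rw [map_mul, theta_C, theta_X, thetaGen_zero, map_mul]
    rfl
  have e1 : theta n (C (g (Fin.succ 0)) * X (Fin.succ 0)) = Polynomial.C (C (g 1) * X 1) := by
    rw [map_mul, theta_C, theta_X, ← h1, thetaGen_one, map_mul]
    rfl
  have e2 : ∀ j : Fin n, theta n (C (g j.succ.succ) * X j.succ.succ) =
      Polynomial.C (C (g j.succ.succ) * X j.succ.succ) * Polynomial.X := by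
    intro j
    rw [map_mul, theta_C, theta_X, thetaGen_succ_succ, map_mul, mul_assoc]
    rfl
  rw [e0, e1, Finset.sum_congr rfl (fun j _ => e2 j), map_add, map_sum, Finset.sum_mul]
  exact (add_assoc _ _ _).symm

/-- the same substitution on the source polynomial ring -/
noncomputable def tau : MvPolynomial (Fin (n + 2) ⊕ Fin 2) k →ₐ[k]
    Polynomial (MvPolynomial (Fin (n + 2) ⊕ Fin 2) k) :=
  aeval (Sum.elim (thetaGen n Sum.inl) (fun l : Fin 2 => Polynomial.C (X (Sum.inr l))))

/-- `tau` as a ring homomorphism -/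
noncomputable def tauR : MvPolynomial (Fin (n + 2) ⊕ Fin 2) k →+*
    Polynomial (MvPolynomial (Fin (n + 2) ⊕ Fin 2) k) :=
  (tau (k := k) n).toRingHom

theorem tauR_apply (x : MvPolynomial (Fin (n + 2) ⊕ Fin 2) k) :
    tauR (k := k) n x = tau (k := k) n x := rfl

theorem tau_inl (i : Fin (n + 2)) : tau (k := k) n (X (Sum.inl i)) = thetaGen n Sum.inl i := by
  rw [tau, aeval_X]
  rfl

theorem tau_inr (l : Fin 2) : tau (k := k) n (X (Sum.inr l)) = Polynomial.C (X (Sum.inr l)) := by
  rw [tau, aeval_X]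
  rfl

theorem tau_injective : Function.Injective (tau (k := k) n) := by
  have hτinj : ((Polynomial.evalRingHom (1 : MvPolynomial (Fin (n + 2) ⊕ Fin 2) k)).comp
      (tauR (k := k) n)) = RingHom.id _ := by
    apply MvPolynomial.ringHom_ext
    · intro a
      change Polynomial.eval 1 (tau (k := k) n (C a)) = C a
      rw [tau, aeval_C]
      change Polynomial.eval 1 (Polynomial.C (C a)) = C a
      rw [Polynomial.eval_C]
    · rintro (i | l)
      · change Polynomial.eval 1 (tau (k := k) n (X (Sum.inl i))) = X (Sum.inl i)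
        rw [tau_inl, eval_one_thetaGen]
      · change Polynomial.eval 1 (tau (k := k) n (X (Sum.inr l))) = X (Sum.inr l)
        rw [tau_inr, Polynomial.eval_C]
  intro a b hab
  have h1 := congrArg (fun f => f a) hτinj
  have h2 := congrArg (fun f => f b) hτinj
  simp only [RingHom.comp_apply, RingHom.id_apply] at h1 h2
  rw [← h1, ← h2]
  change Polynomial.evalRingHom 1 (tau n a) = Polynomial.evalRingHom 1 (tau n b)
  rw [hab]

/-- the coefficient map -/
noncomputable def phi : MvPolynomial (Fin (n + 2) ⊕ Fin 2) k →ₐ[k]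
    Polynomial (MvPolynomial (Fin (n + 2)) K) :=
  aeval (Sum.elim (fun i : Fin (n + 2) => Polynomial.C (X i))
    ![Polynomial.C (C (g 0) * X 0 + C (g 1) * X 1) +
        Polynomial.C (∑ j : Fin n, C (g j.succ.succ) * X j.succ.succ) * Polynomial.X,
      Polynomial.C (C (g 0))])

/-- `phi` as a ring homomorphism -/
noncomputable def phiR : MvPolynomial (Fin (n + 2) ⊕ Fin 2) k →+*
    Polynomial (MvPolynomial (Fin (n + 2)) K) :=
  (phi (k := k) n g).toRingHom

theorem phiR_apply (x : MvPolynomial (Fin (n + 2) ⊕ Fin 2) k) :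
    phiR (k := k) n g x = phi (k := k) n g x := rfl

theorem phi_inl (i : Fin (n + 2)) : phi (k := k) n g (X (Sum.inl i)) = Polynomial.C (X i) := by
  rw [phi, aeval_X]
  rfl

theorem phi_inr_zero : phi (k := k) n g (X (Sum.inr 0)) =
    Polynomial.C (C (g 0) * X 0 + C (g 1) * X 1) +
        Polynomial.C (∑ j : Fin n, C (g j.succ.succ) * X j.succ.succ) * Polynomial.X := by
  rw [phi, aeval_X]
  rfl

theorem phi_inr_one : phi (k := k) n g (X (Sum.inr 1)) = Polynomial.C (C (g 0)) := by
  rw [phi, aeval_X]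
  rfl

theorem eval₂_phi_thetaGen (i : Fin (n + 2)) :
    Polynomial.eval₂ (phiR (k := k) n g) Polynomial.X (thetaGen n Sum.inl i) =
      thetaGen n id i := by
  refine Fin.cases ?_ (fun i => ?_) i
  · rw [thetaGen_zero, thetaGen_zero, Polynomial.eval₂_C]
    exact phi_inl n g 0
  · refine Fin.cases ?_ (fun j => ?_) i
    · change Polynomial.eval₂ _ _ (thetaGen n Sum.inl 1) = thetaGen n id 1
      rw [thetaGen_one, thetaGen_one, Polynomial.eval₂_C]
      exact phi_inl n g 1
    · rw [thetaGen_succ_succ, thetaGen_succ_succ, Polynomial.eval₂_mul, Polynomial.eval₂_C,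
        Polynomial.eval₂_X]
      congr 1
      exact phi_inl n g _

variable (hg : AlgebraicIndependent k ![g 0, g 1])

include hg in
theorem phi_eval_zero_injective :
    Function.Injective ((Polynomial.evalRingHom (0 : MvPolynomial (Fin (n + 2)) K)).comp
      (phiR (k := k) n g)) := by
  have hw := indep_w n g hg
  rw [AlgebraicIndependent] at hw
  have heq : ((Polynomial.evalRingHom (0 : MvPolynomial (Fin (n + 2)) K)).comp
      (phiR (k := k) n g)) =
      ((aeval (R := k) (Sum.elim (fun i : Fin (n + 2) => (X i : MvPolynomial (Fin (n + 2)) K))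
        ![C (g 0) * X 0 + C (g 1) * X 1, C (g 0)]) :
        MvPolynomial (Fin (n + 2) ⊕ Fin 2) k →ₐ[k] MvPolynomial (Fin (n + 2)) K) : _ →+* _) := by
    apply MvPolynomial.ringHom_ext
    · intro a
      change Polynomial.eval 0 (phi (k := k) n g (C a)) = aeval _ (C a)
      rw [phi, aeval_C, aeval_C]
      change Polynomial.eval 0 (Polynomial.C (algebraMap k _ a)) = _
      rw [Polynomial.eval_C]
    · rintro (i | l)
      · change Polynomial.eval 0 (phi (k := k) n g (X (Sum.inl i))) = aeval _ (X (Sum.inl i))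
        rw [phi_inl, aeval_X, Polynomial.eval_C]
        rfl
      · fin_cases l
        · change Polynomial.eval 0 (phi (k := k) n g (X (Sum.inr 0))) = aeval _ (X (Sum.inr 0))
          rw [phi_inr_zero, aeval_X, Polynomial.eval_add, Polynomial.eval_mul, Polynomial.eval_C,
            Polynomial.eval_C, Polynomial.eval_X, mul_zero, add_zero]
          rfl
        · change Polynomial.eval 0 (phi (k := k) n g (X (Sum.inr 1))) = aeval _ (X (Sum.inr 1))
          rw [phi_inr_one, aeval_X, Polynomial.eval_C]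
          rfl
  rw [heq]
  exact hw

include hg in
/-- `(x, Σ gᵢ xᵢ, g₀)` is algebraically independent over `k` in `K[x]` -/
theorem indep_main :
    AlgebraicIndependent k
      (Sum.elim (fun i : Fin (n + 2) => (X i : MvPolynomial (Fin (n + 2)) K))
        ![∑ i, C (g i) * X i, C (g 0)]) := by
  apply AlgebraicIndependent.of_comp ((theta (K := K) n).restrictScalars k)
  rw [AlgebraicIndependent]
  have hΨ : ((aeval (R := k) (((theta (K := K) n).restrictScalars k) ∘
      (Sum.elim (fun i : Fin (n + 2) => (X i : MvPolynomial (Fin (n + 2)) K))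
        ![∑ i, C (g i) * X i, C (g 0)])) : MvPolynomial (Fin (n + 2) ⊕ Fin 2) k →ₐ[k] _) :
        _ →+* _) =
      (Polynomial.eval₂RingHom (phiR (k := k) n g) Polynomial.X).comp
        (tauR (k := k) n) := by
    apply MvPolynomial.ringHom_ext
    · intro a
      change aeval _ (C a) = Polynomial.eval₂ _ _ (tau (k := k) n (C a))
      rw [aeval_C, tau, aeval_C]
      change _ = Polynomial.eval₂ _ _ (Polynomial.C (C a))
      rw [Polynomial.eval₂_C]
      change _ = phi (k := k) n g (C a)
      rw [phi, aeval_C]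
    · rintro (i | l)
      · change aeval _ (X (Sum.inl i)) = Polynomial.eval₂ _ _ (tau (k := k) n (X (Sum.inl i)))
        rw [aeval_X, tau_inl, eval₂_phi_thetaGen]
        exact theta_X n i
      · fin_cases l
        · change aeval _ (X (Sum.inr 0)) = Polynomial.eval₂ _ _ (tau (k := k) n (X (Sum.inr 0)))
          rw [aeval_X, tau_inr, Polynomial.eval₂_C]
          change theta n (∑ i, C (g i) * X i) = phi (k := k) n g (X (Sum.inr 0))
          rw [theta_sum, phi_inr_zero]
        · change aeval _ (X (Sum.inr 1)) = Polynomial.eval₂ _ _ (tau (k := k) n (X (Sum.inr 1)))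
          rw [aeval_X, tau_inr, Polynomial.eval₂_C]
          change theta n (C (g 0)) = phi (k := k) n g (X (Sum.inr 1))
          rw [theta_C, phi_inr_one]
  intro a b hab
  have h1 : Polynomial.eval₂ (phiR (k := k) n g) Polynomial.X (tau (k := k) n a) =
      Polynomial.eval₂ (phiR (k := k) n g) Polynomial.X (tau (k := k) n b) := by
    have ha := congrArg (fun f => f a) hΨ
    have hb := congrArg (fun f => f b) hΨ
    simp only [RingHom.comp_apply] at ha hb
    change _ = Polynomial.eval₂ _ _ (tau (k := k) n a) at ha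
    change _ = Polynomial.eval₂ _ _ (tau (k := k) n b) at hb
    rw [← ha, ← hb]
    exact hab
  apply tau_injective n
  by_contra hne
  have hne' : tau (k := k) n a - tau (k := k) n b ≠ 0 := sub_ne_zero.mpr hne
  apply eval₂_ne_zero_of_injective _ (phi_eval_zero_injective n g hg) _ hne'
  rw [Polynomial.eval₂_sub, h1, sub_self]

end TTrick

end Groth.Agent.H3.AlgInd
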