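import Mathlib
import Groth.Agent.Lib.Helper3.AlgIndA
import Groth.Agent.Lib.Helper3.AlgIndB

set_option autoImplicit false
universe u

namespace Groth.Agent.H3.AlgInd

open MvPolynomial

theorem main {k A : Type u} [Field k] [CommRing A] [IsDomain A] [Algebra k A]
    [Algebra.FiniteType k A] (m : ℕ) (g : Fin (m + 2) → A)
    (p : Ideal A) (hp : p ∈ (Ideal.span {g 0, g 1}).minimalPrimes)
    (hdim : ringKrullDim (A ⧸ p) + 2 = ringKrullDim A) :
    ∃ c : Fin (m + 2) → k,
      AlgebraicIndependent k
        (Sum.elim
          (fun i : Fin (m + 2) => algebraMap (MvPolynomial (Fin (m + 2)) (FractionRing A))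
            (FractionRing (MvPolynomial (Fin (m + 2)) (FractionRing A))) (MvPolynomial.X i))
          ![∑ i, algebraMap A (FractionRing (MvPolynomial (Fin (m + 2)) (FractionRing A))) (g i) *
              algebraMap (MvPolynomial (Fin (m + 2)) (FractionRing A))
                (FractionRing (MvPolynomial (Fin (m + 2)) (FractionRing A))) (MvPolynomial.X i),
            algebraMap A (FractionRing (MvPolynomial (Fin (m + 2)) (FractionRing A)))
              (∑ i, c i • g i)]) := by
  classical
  refine ⟨fun i => if i = 0 then 1 else 0, ?_⟩
  have hsum : (∑ i, (if i = 0 then (1 : k) else 0) • g i) = g 0 := by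
    rw [Finset.sum_eq_single 0]
    · rw [if_pos rfl, one_smul]
    · intro i _ hi
      rw [if_neg hi, zero_smul]
    · intro h
      exact absurd (Finset.mem_univ _) h
  rw [hsum]
  have hg := algebraicIndependent_of_minimalPrimes (k := k) (g 0) (g 1) p hp hdim
  have hgK : AlgebraicIndependent k
      ![algebraMap A (FractionRing A) (g 0), algebraMap A (FractionRing A) (g 1)] := by
    have := hg.map' (f := IsScalarTower.toAlgHom k A (FractionRing A))
      (IsFractionRing.injective A (FractionRing A))
    convert this using 1
    funext i
    fin_cases i <;> rfl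
  have hmain := indep_main (k := k) m (fun i => algebraMap A (FractionRing A) (g i)) hgK
  have h2 := hmain.map' (f := IsScalarTower.toAlgHom k (MvPolynomial (Fin (m + 2)) (FractionRing A))
      (FractionRing (MvPolynomial (Fin (m + 2)) (FractionRing A))))
    (IsFractionRing.injective _ _)
  convert h2 using 1
  funext j
  have hA : ∀ a : A, algebraMap A (FractionRing (MvPolynomial (Fin (m + 2)) (FractionRing A))) a =
      algebraMap (MvPolynomial (Fin (m + 2)) (FractionRing A))
        (FractionRing (MvPolynomial (Fin (m + 2)) (FractionRing A)))
        (C (algebraMap A (FractionRing A) a)) := by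
    intro a
    rw [IsScalarTower.algebraMap_apply A (MvPolynomial (Fin (m + 2)) (FractionRing A))
      (FractionRing (MvPolynomial (Fin (m + 2)) (FractionRing A))), MvPolynomial.algebraMap_apply]
  rcases j with i | l
  · rfl
  · fin_cases l
    · change (∑ i, algebraMap A (FractionRing (MvPolynomial (Fin (m + 2)) (FractionRing A))) (g i) *
          algebraMap (MvPolynomial (Fin (m + 2)) (FractionRing A))
            (FractionRing (MvPolynomial (Fin (m + 2)) (FractionRing A))) (MvPolynomial.X i)) =
        algebraMap (MvPolynomial (Fin (m + 2)) (FractionRing A))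
          (FractionRing (MvPolynomial (Fin (m + 2)) (FractionRing A)))
          (∑ i, C (algebraMap A (FractionRing A) (g i)) * X i)
      rw [map_sum]
      apply Finset.sum_congr rfl
      intro i _
      rw [map_mul, hA]
    · change algebraMap A (FractionRing (MvPolynomial (Fin (m + 2)) (FractionRing A))) (g 0) =
        algebraMap (MvPolynomial (Fin (m + 2)) (FractionRing A))
          (FractionRing (MvPolynomial (Fin (m + 2)) (FractionRing A)))
          (C (algebraMap A (FractionRing A) (g 0)))
      exact hA _

end Groth.Agent.H3.AlgInd
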