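import Mathlib
import Groth.Prelude.Def_Red
import Groth.Prelude.Def_ActBC
import Groth.Agent.Lib.Helper9.Misc.GSE1
import Groth.Agent.Lib.Helper3.FpqcCov.Quot

/-!
# `(x, y) ↦ φ(x) φ(y)` is an fppf covering of `G` when `φ` is flat lfp and fibrewise dense
-/

set_option autoImplicit false

open CategoryTheory Limits AlgebraicGeometry MonoidalCategory CartesianMonoidalCategory MonObj

universe u

namespace Groth.Agent.H3.MulCov

/-- an open subset of a fibre containing all its maximal points is dense -/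
theorem dense_fiber {X S : Scheme.{u}} (p : X ⟶ S) (s : S) (W : X.Opens)
    (hW : ∀ g : ↥(p.base ⁻¹' {s}), closure {g} ∈ irreducibleComponents ↥(p.base ⁻¹' {s}) →
      g.1 ∈ W) :
    Dense ((p.fiberι s) ⁻¹' (W : Set X)) := by
  let e := p.fiberHomeo s
  let O : Set ↥(p ⁻¹' {s}) := {x | x.1 ∈ W}
  have hO : (p.fiberι s) ⁻¹' (W : Set X) = e ⁻¹' O := rfl
  rw [hO]
  refine Dense.preimage ?_ e.isOpenMap
  have : QuasiSober ↥(p ⁻¹' {s}) := e.symm.isClosedEmbedding.quasiSober
  rw [dense_iff_inter_open]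
  rintro N hN ⟨w, hw⟩
  have hirr := isIrreducible_irreducibleComponent (x := w)
  have hcl := isClosed_irreducibleComponent (x := w)
  have hgen := hirr.isGenericPoint_genericPoint hcl
  refine ⟨hirr.genericPoint, ?_, ?_⟩
  · have hspec : hirr.genericPoint ⤳ w := by
      rw [specializes_iff_mem_closure, hgen.def]
      exact mem_irreducibleComponent
    exact hspec.mem_open hN hw
  · apply hW
    rw [hgen.def]
    exact irreducibleComponent_mem_irreducibleComponents w

section Main

variable {S : Scheme.{u}} (G : Over S) [GrpObj G]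

/-- the multiplication of a flat lfp group is flat -/
theorem flat_mul [Flat G.hom] : Flat μ[G].left := by
  have e : μ[G] = (Groth.Agent.H3.FpqcCov.shear G).hom ≫ fst G G := by
    rw [Groth.Agent.H3.FpqcCov.mul_eq_fst_mul_snd]
    simp [Groth.Agent.H3.FpqcCov.shear]
  rw [e, Over.comp_left]
  have : IsIso (Groth.Agent.H3.FpqcCov.shear G).hom.left :=
    inferInstanceAs (IsIso ((Over.forget S).map (Groth.Agent.H3.FpqcCov.shear G).hom))
  have : Flat (fst G G).left := by
    rw [Over.fst_left]; infer_instance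
  infer_instance

theorem lfp_mul [LocallyOfFinitePresentation G.hom] :
    LocallyOfFinitePresentation μ[G].left := by
  have e : μ[G] = (Groth.Agent.H3.FpqcCov.shear G).hom ≫ fst G G := by
    rw [Groth.Agent.H3.FpqcCov.mul_eq_fst_mul_snd]
    simp [Groth.Agent.H3.FpqcCov.shear]
  rw [e, Over.comp_left]
  have : IsIso (Groth.Agent.H3.FpqcCov.shear G).hom.left :=
    inferInstanceAs (IsIso ((Over.forget S).map (Groth.Agent.H3.FpqcCov.shear G).hom))
  have : LocallyOfFinitePresentation (fst G G).left := by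
    rw [Over.fst_left]; infer_instance
  infer_instance

variable {Y : Over S} (φ : Y ⟶ G)

omit [GrpObj G] in
theorem flat_tensorHom [Flat φ.left] : Flat (φ ⊗ₘ φ).left := by
  rw [Over.tensorHom_left]
  exact MorphismProperty.pullbackMap (P := @Flat) ‹_› ‹_› (Over.w φ).symm (Over.w φ).symm

omit [GrpObj G] in
theorem lfp_tensorHom [LocallyOfFinitePresentation φ.left] :
    LocallyOfFinitePresentation (φ ⊗ₘ φ).left := by
  rw [Over.tensorHom_left]
  exact MorphismProperty.pullbackMap (P := @LocallyOfFinitePresentation) ‹_› ‹_›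
    (Over.w φ).symm (Over.w φ).symm

/-- the comparison map from the product of the fibres to the product -/
noncomputable def Φ (s : S) :
    (Red.bc (S.fromSpecResidueField s) G ⊗ Red.bc (S.fromSpecResidueField s) G).left ⟶
      (G ⊗ G).left :=
  (Functor.LaxMonoidal.μ (Over.pullback (S.fromSpecResidueField s)) G G).left ≫
    pullback.fst (G ⊗ G).hom (S.fromSpecResidueField s)

omit [GrpObj G] in
lemma Φ_fst (s : S) : Φ G s ≫ (fst G G).left =
    (fst (Red.bc (S.fromSpecResidueField s) G) (Red.bc (S.fromSpecResidueField s) G)).left ≫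
      G.hom.fiberι s := by
  unfold Φ
  rw [Over.fst_left, Over.fst_left, Category.assoc]
  exact ActBC.μ_left_fst_fst _ _ _

omit [GrpObj G] in
lemma Φ_snd (s : S) : Φ G s ≫ (snd G G).left =
    (snd (Red.bc (S.fromSpecResidueField s) G) (Red.bc (S.fromSpecResidueField s) G)).left ≫
      G.hom.fiberι s := by
  unfold Φ
  rw [Over.snd_left, Over.snd_left, Category.assoc]
  exact ActBC.μ_left_fst_snd _ _ _

lemma Φ_mul (s : S) : Φ G s ≫ μ[G].left =
    μ[Red.bc (S.fromSpecResidueField s) G].left ≫ G.hom.fiberι s := by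
  unfold Φ
  have h1 : μ[Red.bc (S.fromSpecResidueField s) G] =
      Functor.LaxMonoidal.μ (Over.pullback (S.fromSpecResidueField s)) G G ≫
        (Over.pullback (S.fromSpecResidueField s)).map μ[G] := rfl
  rw [h1, Over.comp_left, Category.assoc, Category.assoc]
  congr 1
  exact (ActBC.pullback_map_left_fst _ _).symm

theorem surjective_mul [Flat φ.left] [LocallyOfFinitePresentation φ.left]
    (hd : ∀ (s : S) (g : ↥(G.hom.base ⁻¹' {s})),
      closure {g} ∈ irreducibleComponents ↥(G.hom.base ⁻¹' {s}) → g.1 ∈ Set.range φ.left) :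
    Surjective ((φ ⊗ₘ φ) ≫ μ[G]).left := by
  refine ⟨fun g => ?_⟩
  let W : G.left.Opens := ⟨Set.range φ.left, φ.left.isOpenMap.isOpen_range⟩
  have hgs : G.hom.fiberι (G.hom g) (G.hom.asFiber g) = g := G.hom.fiberι_asFiber g
  have hdense : Dense ((G.hom.fiberι (G.hom g)) ⁻¹' (W : Set G.left)) :=
    dense_fiber G.hom (G.hom g) W (hd (G.hom g))
  have : Groth.Agent.H9.GSE.UOBase (Spec (S.residueField (G.hom g))) :=
    (inferInstance : Groth.Agent.H9.GSE.UOBase (Spec (CommRingCat.of (S.residueField (G.hom g)))))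
  have key := Groth.Agent.H9.GSE.S7823_main (Red.bc (S.fromSpecResidueField (G.hom g)) G)
    ((G.hom.fiberι (G.hom g)) ⁻¹ᵁ W) ((G.hom.fiberι (G.hom g)) ⁻¹ᵁ W) hdense hdense
  have hmem : G.hom.asFiber g ∈ (Set.univ : Set (Red.bc (S.fromSpecResidueField (G.hom g)) G).left) :=
    trivial
  rw [← key] at hmem
  obtain ⟨zs, ⟨h1, h2⟩, h3⟩ := hmem
  have hz1 : (fst G G).left (Φ G (G.hom g) zs) ∈ Set.range φ.left := by
    rw [← Scheme.Hom.comp_apply, Φ_fst, Scheme.Hom.comp_apply]
    exact h1
  have hz2 : (snd G G).left (Φ G (G.hom g) zs) ∈ Set.range φ.left := by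
    rw [← Scheme.Hom.comp_apply, Φ_snd, Scheme.Hom.comp_apply]
    exact h2
  have hz : Φ G (G.hom g) zs ∈ Set.range (φ ⊗ₘ φ).left := by
    rw [Over.tensorHom_left, Scheme.Pullback.range_map]
    rw [Over.fst_left] at hz1
    rw [Over.snd_left] at hz2
    exact ⟨hz1, hz2⟩
  obtain ⟨y, hy⟩ := hz
  refine ⟨y, ?_⟩
  rw [Over.comp_left, Scheme.Hom.comp_apply, hy, ← Scheme.Hom.comp_apply, Φ_mul,
    Scheme.Hom.comp_apply, h3]
  exact hgs

/-- `(x, y) ↦ φ(x) φ(y)` is flat, lfp and surjective -/
theorem main [Flat G.hom] [LocallyOfFinitePresentation G.hom] [Flat φ.left]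
    [LocallyOfFinitePresentation φ.left]
    (hd : ∀ (s : S) (g : ↥(G.hom.base ⁻¹' {s})),
      closure {g} ∈ irreducibleComponents ↥(G.hom.base ⁻¹' {s}) → g.1 ∈ Set.range φ.left) :
    Flat ((φ ⊗ₘ φ) ≫ μ[G]).left ∧ LocallyOfFinitePresentation ((φ ⊗ₘ φ) ≫ μ[G]).left ∧
      Surjective ((φ ⊗ₘ φ) ≫ μ[G]).left := by
  have := flat_mul G
  have := lfp_mul G
  have := flat_tensorHom G φ
  have := lfp_tensorHom G φ
  refine ⟨?_, ?_, surjective_mul G φ hd⟩
  · rw [Over.comp_left]; infer_instance
  · rw [Over.comp_left]; infer_instance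

end Main

end Groth.Agent.H3.MulCov
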