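import Mathlib
import Groth.Agent.Lib.Helper3.MulCov
import Groth.Agent.Lib.Helper3.OverUEE
import Groth.Agent.Lib.Helper9.Misc.SDD1

/-!
# `(x, y) ↦ φ(x) φ(y)` is an fppf covering when the image of `φ` is fibrewise dense
-/

set_option autoImplicit false

open CategoryTheory Limits AlgebraicGeometry MonoidalCategory CartesianMonoidalCategory MonObj

universe u

namespace Groth.Agent.H3.MulCov

variable {S : Scheme.{u}} (G : Over S) [GrpObj G] {Y : Over S} (φ : Y ⟶ G)

/-- variant of `surjective_mul` with fibrewise density of the image as hypothesis -/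
theorem surjective_mul' [Flat φ.left] [LocallyOfFinitePresentation φ.left]
    (hd : ∀ s : S, Dense ((G.hom.fiberι s) ⁻¹' (Set.range φ.left))) :
    Surjective ((φ ⊗ₘ φ) ≫ μ[G]).left := by
  refine ⟨fun g => ?_⟩
  let W : G.left.Opens := ⟨Set.range φ.left, φ.left.isOpenMap.isOpen_range⟩
  have hgs : G.hom.fiberι (G.hom g) (G.hom.asFiber g) = g := G.hom.fiberι_asFiber g
  have hdense : Dense ((G.hom.fiberι (G.hom g)) ⁻¹' (W : Set G.left)) := hd (G.hom g)
  have : Groth.Agent.H9.GSE.UOBase (Spec (S.residueField (G.hom g))) :=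
    (inferInstance : Groth.Agent.H9.GSE.UOBase (Spec (CommRingCat.of (S.residueField (G.hom g)))))
  have key := Groth.Agent.H9.GSE.S7823_main (Red.bc (S.fromSpecResidueField (G.hom g)) G)
    ((G.hom.fiberι (G.hom g)) ⁻¹ᵁ W) ((G.hom.fiberι (G.hom g)) ⁻¹ᵁ W) hdense hdense
  have hmem : G.hom.asFiber g ∈ (Set.univ : Set (Red.bc (S.fromSpecResidueField (G.hom g)) G).left) :=
    trivial
  rw [← key] at hmem
  obtain ⟨zs, ⟨h1, h2⟩, h3⟩ := hmem
  have hz1 : (fst G G).left (Φ G (G.hom g) zs) ∈ Set.range φ.left := by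
    rw [← Scheme.Hom.comp_apply, Φ_fst, Scheme.Hom.comp_apply]
    exact h1
  have hz2 : (snd G G).left (Φ G (G.hom g) zs) ∈ Set.range φ.left := by
    rw [← Scheme.Hom.comp_apply, Φ_snd, Scheme.Hom.comp_apply]
    exact h2
  have hz : Φ G (G.hom g) zs ∈ Set.range (φ ⊗ₘ φ).left := by
    rw [Over.tensorHom_left, Scheme.Pullback.range_map]
    rw [Over.fst_left] at hz1
    rw [Over.snd_left] at hz2
    exact ⟨hz1, hz2⟩
  obtain ⟨y, hy⟩ := hz
  refine ⟨y, ?_⟩
  rw [Over.comp_left, Scheme.Hom.comp_apply, hy, ← Scheme.Hom.comp_apply, Φ_mul,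
    Scheme.Hom.comp_apply, h3]
  exact hgs

/-- `(x, y) ↦ φ(x) φ(y)` is flat, lfp and surjective when the image of `φ` is fibrewise dense -/
theorem main' [Flat G.hom] [LocallyOfFinitePresentation G.hom] [Flat φ.left]
    [LocallyOfFinitePresentation φ.left]
    (hd : ∀ s : S, Dense ((G.hom.fiberι s) ⁻¹' (Set.range φ.left))) :
    Flat ((φ ⊗ₘ φ) ≫ μ[G]).left ∧ LocallyOfFinitePresentation ((φ ⊗ₘ φ) ≫ μ[G]).left ∧
      Surjective ((φ ⊗ₘ φ) ≫ μ[G]).left := by
  have := flat_mul G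
  have := lfp_mul G
  have := flat_tensorHom G φ
  have := lfp_tensorHom G φ
  refine ⟨?_, ?_, surjective_mul' G φ hd⟩
  · rw [Over.comp_left]; infer_instance
  · rw [Over.comp_left]; infer_instance

/-- `(x, y) ↦ φ(x) φ(y)` is an epimorphism when the image of `φ` is fibrewise dense -/
theorem epi_mul [Flat G.hom] [LocallyOfFinitePresentation G.hom] [Flat φ.left]
    [LocallyOfFinitePresentation φ.left]
    (hd : ∀ s : S, Dense ((G.hom.fiberι s) ⁻¹' (Set.range φ.left))) :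
    Epi ((φ ⊗ₘ φ) ≫ μ[G]) := by
  obtain ⟨h1, h2, h3⟩ := main' G φ hd
  have : EffectiveEpi ((φ ⊗ₘ φ) ≫ μ[G]).left := inferInstance
  have := Groth.Agent.H3.OverUEE.effectiveEpi_of_left ((φ ⊗ₘ φ) ≫ μ[G])
  infer_instance

/-- two homomorphisms agreeing on a flat lfp fibrewise dense `φ` are equal -/
theorem hom_ext_of_dense [Flat G.hom] [LocallyOfFinitePresentation G.hom] [Flat φ.left]
    [LocallyOfFinitePresentation φ.left]
    (hd : ∀ s : S, Dense ((G.hom.fiberι s) ⁻¹' (Set.range φ.left)))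
    {H : Over S} [GrpObj H] (f g : G ⟶ H) [IsMonHom f] [IsMonHom g] (h : φ ≫ f = φ ≫ g) :
    f = g := by
  have := epi_mul G φ hd
  rw [← cancel_epi ((φ ⊗ₘ φ) ≫ μ[G])]
  rw [Category.assoc, Category.assoc, IsMonHom.mul_hom, IsMonHom.mul_hom,
    tensorHom_comp_tensorHom_assoc, tensorHom_comp_tensorHom_assoc, h]

end Groth.Agent.H3.MulCov
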