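import Mathlib
import Groth.Agent.Lib.Helper2.SchDenseFlat
import Groth.Agent.Lib.Helper3.SepGF6

set_option autoImplicit false

universe u

open AlgebraicGeometry CategoryTheory CategoryTheory.Limits Opposite TensorProduct TopologicalSpace

namespace Groth.Agent.H3.SchDenseLfp

open Groth.Agent.H2.SchDense Groth.Agent.H3.SepGF

variable {X X' : Scheme.{u}}

/-- the family of localization maps `A → A_t`, `D(t) ≤ V`, is separating when `V` is
schematically dense -/
theorem sep_of_schDense (V : X.Opens) (hV : CInt.IsSchematicallyDense V) {W : X.Opens}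
    (hW : IsAffineOpen W) :
    Sep (A := Γ(X, W)) (M := Γ(X, W)) (ι := {t : Γ(X, W) // X.basicOpen t ≤ V})
      (fun t => Localization.Away t.1)
      (fun t => Algebra.linearMap Γ(X, W) (Localization.Away t.1)) := by
  intro f₁ m hm
  have H : X.presheaf.map (homOfLE (X.basicOpen_le f₁)).op m = 0 := by
    apply apply_eq_zero hV
    apply eq_zero_of_locally
    rintro x ⟨hxf, hxV⟩
    have hxW : x ∈ W := X.basicOpen_le f₁ hxf
    obtain ⟨t, htV, hxt⟩ := hW.exists_basicOpen_le ⟨x, hxV⟩ hxW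
    obtain ⟨k, hk⟩ := hm ⟨t, htV⟩
    have h1 : algebraMap Γ(X, W) (Localization.Away t) (f₁ ^ k * m) = 0 := by
      have : f₁ ^ k • (algebraMap Γ(X, W) (Localization.Away t) m) = 0 := hk
      rwa [Algebra.smul_def, ← map_mul] at this
    obtain ⟨⟨_, j, rfl⟩, hj⟩ := (IsLocalization.map_eq_zero_iff (Submonoid.powers t) _ _).1 h1
    have hj' : t ^ j * (f₁ ^ k * m) = 0 := hj
    have hle1 : X.basicOpen t ⊓ X.basicOpen f₁ ≤ W := inf_le_left.trans (X.basicOpen_le t)
    have hle : X.basicOpen t ⊓ X.basicOpen f₁ ≤ X.basicOpen f₁ ⊓ V :=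
      le_inf inf_le_right (inf_le_left.trans htV)
    refine ⟨X.basicOpen t ⊓ X.basicOpen f₁, hle, ⟨hxt, hxf⟩, ?_⟩
    have e : X.presheaf.map (homOfLE hle).op
        (X.presheaf.map (homOfLE (inf_le_left : X.basicOpen f₁ ⊓ V ≤ X.basicOpen f₁)).op
          (X.presheaf.map (homOfLE (X.basicOpen_le f₁)).op m)) =
        X.presheaf.map (homOfLE hle1).op m := by
      rw [← ConcreteCategory.comp_apply, ← ConcreteCategory.comp_apply, ← X.presheaf.map_comp,
        ← X.presheaf.map_comp]
      rfl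
    rw [e]
    have h2 := congrArg (X.presheaf.map (homOfLE hle1).op) hj'
    rw [map_mul, map_mul, map_pow, map_pow, map_zero] at h2
    have hut : IsUnit (X.presheaf.map (homOfLE hle1).op t) := by
      have h3 : X.presheaf.map (homOfLE hle1).op t =
          X.presheaf.map (homOfLE (inf_le_left : X.basicOpen t ⊓ X.basicOpen f₁ ≤ X.basicOpen t)).op
            (X.presheaf.map (homOfLE (X.basicOpen_le t)).op t) := by
        rw [← ConcreteCategory.comp_apply, ← X.presheaf.map_comp]
        rfl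
      rw [h3]
      exact (RingedSpace.isUnit_res_basicOpen _ t).map _
    have huf : IsUnit (X.presheaf.map (homOfLE hle1).op f₁) := by
      have h3 : X.presheaf.map (homOfLE hle1).op f₁ =
          X.presheaf.map (homOfLE (inf_le_right : X.basicOpen t ⊓ X.basicOpen f₁ ≤ X.basicOpen f₁)).op
            (X.presheaf.map (homOfLE (X.basicOpen_le f₁)).op f₁) := by
        rw [← ConcreteCategory.comp_apply, ← X.presheaf.map_comp]
        rfl
      rw [h3]
      exact (RingedSpace.isUnit_res_basicOpen _ f₁).map _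
    exact ((huf.pow k).mul_right_eq_zero).1 (((hut.pow j).mul_right_eq_zero).1 h2)
  obtain ⟨n, hn⟩ := exists_pow_mul_eq_zero_of_res_basicOpen_eq_zero_of_isAffineOpen X hW m f₁ H
  exact ⟨n, hn⟩

theorem main (f : X' ⟶ X) [Flat f] [LocallyOfFinitePresentation f] (V : X.Opens)
    (hV : CInt.IsSchematicallyDense V) : CInt.IsSchematicallyDense (f ⁻¹ᵁ V) := by
  apply of_forall_eq_zero
  intro V'' a ha
  apply eq_zero_of_locally
  intro x' hx'
  obtain ⟨_, ⟨W, hW, rfl⟩, hxW, -⟩ := X.isBasis_affineOpens.exists_subset_of_mem_open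
    (Set.mem_univ (f x')) isOpen_univ
  obtain ⟨_, ⟨W', hW', rfl⟩, hxW', hW'le⟩ := X'.isBasis_affineOpens.exists_subset_of_mem_open
    (show x' ∈ ((V'' ⊓ f ⁻¹ᵁ W : X'.Opens) : Set X') from ⟨hx', hxW⟩) (V'' ⊓ f ⁻¹ᵁ W).2
  have hW'V : W' ≤ V'' := fun y hy => (hW'le hy).1
  have e : W' ≤ f ⁻¹ᵁ W := fun y hy => (hW'le hy).2
  refine ⟨W', hW'V, hxW', ?_⟩
  letI : Algebra Γ(X, W) Γ(X', W') := (f.appLE W W' e).hom.toAlgebra
  haveI : Module.Flat Γ(X, W) Γ(X', W') :=
    (HasRingHomProperty.appLE @Flat f inferInstance ⟨W, hW⟩ ⟨W', hW'⟩ e : RingHom.Flat _)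
  haveI : Algebra.FinitePresentation Γ(X, W) Γ(X', W') :=
    (HasRingHomProperty.appLE @LocallyOfFinitePresentation f inferInstance ⟨W, hW⟩ ⟨W', hW'⟩ e :
      RingHom.FinitePresentation _)
  set a' : Γ(X', W') := X'.presheaf.map (homOfLE hW'V).op a with ha'
  have hz : ∀ t : {t : Γ(X, W) // X.basicOpen t ≤ V},
      (Algebra.linearMap Γ(X, W) (Localization.Away t.1)).baseChange Γ(X', W')
        (a' ⊗ₜ[Γ(X, W)] (1 : Γ(X, W))) = 0 := by
    rintro ⟨t, htV⟩
    have hle : X'.basicOpen (f.appLE W W' e t) ≤ V'' ⊓ f ⁻¹ᵁ V := by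
      rw [Scheme.basicOpen_appLE]
      refine le_inf (inf_le_left.trans hW'V) (inf_le_right.trans ?_)
      exact f.preimage_mono htV
    have H' : X'.presheaf.map (homOfLE (X'.basicOpen_le (f.appLE W W' e t))).op a' = 0 := by
      have e2 : X'.presheaf.map (homOfLE (X'.basicOpen_le (f.appLE W W' e t))).op a' =
          X'.presheaf.map (homOfLE hle).op
            (X'.presheaf.map (homOfLE (inf_le_left : V'' ⊓ f ⁻¹ᵁ V ≤ V'')).op a) := by
        rw [ha', ← ConcreteCategory.comp_apply, ← ConcreteCategory.comp_apply,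
          ← X'.presheaf.map_comp, ← X'.presheaf.map_comp]
        rfl
      rw [e2, ha, map_zero]
    obtain ⟨j, hj⟩ := exists_pow_mul_eq_zero_of_res_basicOpen_eq_zero_of_isAffineOpen X' hW' a'
      (f.appLE W W' e t) H'
    rw [LinearMap.baseChange_tmul, Algebra.linearMap_apply, map_one]
    have h1 : (1 : Localization.Away t) =
        t ^ j • (IsLocalization.Away.invSelf (S := Localization.Away t) t) ^ j := by
      rw [Algebra.smul_def, map_pow, ← mul_pow, IsLocalization.Away.mul_invSelf, one_pow]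
    rw [h1, ← TensorProduct.smul_tmul]
    have h2 : t ^ j • a' = 0 := by
      rw [Algebra.smul_def, map_pow]
      exact hj
    rw [h2, TensorProduct.zero_tmul]
  have hzero := main_fp (A := Γ(X, W)) (B := Γ(X', W')) Γ(X, W) _ _
    (sep_of_schDense V hV hW) (a' ⊗ₜ[Γ(X, W)] (1 : Γ(X, W))) hz
  have h3 := congrArg (TensorProduct.rid Γ(X, W) Γ(X', W')) hzero
  rw [TensorProduct.rid_tmul, one_smul, map_zero] at h3
  exact h3

end Groth.Agent.H3.SchDenseLfp
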