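import Mathlib
import Groth.Prelude.Def_CInt
import Groth.Agent.Lib.Helper5.AlgSp.SchDenseQC
import Groth.Agent.Lib.Helper7.SchDenseSp1

/-!
# Morphisms agreeing on a (relatively) schematically dense open
-/

set_option autoImplicit false

open CategoryTheory Limits AlgebraicGeometry

universe u

namespace Groth.Agent.H3.SchDenseExt

/-- Two morphisms over `B` into a separated `B`-scheme agreeing on a schematically dense open
are equal. -/
theorem sep_ext {B : Scheme.{u}} {Z Y : Over B} [IsSeparated Y.hom] (a b : Z ⟶ Y)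
    (D : Z.left.Opens) (hD : CInt.IsSchematicallyDense D)
    (h : D.ι ≫ a.left = D.ι ≫ b.left) : a = b := by
  let D' : Over B := Over.mk (D.ι ≫ Z.hom)
  let ι' : D' ⟶ Z := Over.homMk D.ι rfl
  have hι : ι' ≫ a = ι' ≫ b := by
    apply Over.OverMorphism.ext
    exact h
  let l : D' ⟶ equalizer a b := equalizer.lift ι' hι
  have hl : l ≫ equalizer.ι a b = ι' := equalizer.lift_ι _ _
  have hl' : l.left ≫ (equalizer.ι a b).left = D.ι := congrArg (fun m => m.left) hl
  have hker : (equalizer.ι a b).left.ker = ⊥ := by
    rw [← le_bot_iff]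
    refine (Scheme.Hom.le_ker_comp l.left (equalizer.ι a b).left).trans ?_
    rw [hl', Groth.Agent.H5.AlgSp.ker_eq_bot_of_isSchematicallyDense hD]
  have hiso : IsIso (equalizer.ι a b).left := IsClosedImmersion.isIso_iff_ker_eq_bot.mpr hker
  have : IsIso ((Over.forget B).map (equalizer.ι a b)) := hiso
  have : IsIso (equalizer.ι a b) := isIso_of_reflects_iso _ (Over.forget B)
  rw [← cancel_epi (equalizer.ι a b)]
  exact equalizer.condition a b

/-- Two morphisms of schemes which agree on a schematically dense open and on all fibres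
of a map to `S` are equal. -/
theorem ext_of_fibres {X Y S : Scheme.{u}} (p : X ⟶ S) (f g : X ⟶ Y) (U : X.Opens)
    (hU : CInt.IsSchematicallyDense U) (h : U.ι ≫ f = U.ι ≫ g)
    (hfib : ∀ s : S, p.fiberι s ≫ f = p.fiberι s ≫ g) : f = g := by
  let l : (U : Scheme) ⟶ equalizer f g := equalizer.lift U.ι h
  have hl : l ≫ equalizer.ι f g = U.ι := equalizer.lift_ι _ _
  have hsurj : Function.Surjective (equalizer.ι f g) := by
    intro x
    let t : p.fiber (p x) ⟶ equalizer f g := equalizer.lift (p.fiberι (p x)) (hfib (p x))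
    have ht : t ≫ equalizer.ι f g = p.fiberι (p x) := equalizer.lift_ι _ _
    refine ⟨t (p.asFiber x), ?_⟩
    rw [← Scheme.Hom.comp_apply, ht]
    exact p.fiberι_asFiber x
  have hcl : IsClosedImmersion (equalizer.ι f g) := by
    refine IsClosedImmersion.of_isPreimmersion _ ?_
    rw [hsurj.range_eq]
    exact isClosed_univ
  have hker : (equalizer.ι f g).ker = ⊥ := by
    rw [← le_bot_iff]
    refine (Scheme.Hom.le_ker_comp l (equalizer.ι f g)).trans ?_
    rw [hl, Groth.Agent.H5.AlgSp.ker_eq_bot_of_isSchematicallyDense hU]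
  have hiso : IsIso (equalizer.ι f g) := IsClosedImmersion.isIso_iff_ker_eq_bot.mpr hker
  rw [← cancel_epi (equalizer.ι f g)]
  exact equalizer.condition f g

/-- SGA3 XVIII 1.2-type statement: morphisms into an `S`-scheme with separated fibres which
agree on a relatively schematically dense open are equal. -/
theorem main (S : Scheme.{u}) (X Y : Over S) (U : X.left.Opens)
    (hU : ∀ (S' : Scheme.{u}) (g : S' ⟶ S),
      CInt.IsSchematicallyDense ((pullback.fst X.hom g) ⁻¹ᵁ U))
    (hY : ∀ s : S, IsSeparated (pullback.snd Y.hom (S.fromSpecResidueField s)))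
    (f g : X ⟶ Y) (h : U.ι ≫ f.left = U.ι ≫ g.left) : f = g := by
  apply Over.OverMorphism.ext
  have hU0 : CInt.IsSchematicallyDense U :=
    Groth.Agent.H7.SchDenseSp.schDense_of_preimage (pullback.fst X.hom (𝟙 S)) U (hU S (𝟙 S))
  refine ext_of_fibres X.hom f.left g.left U hU0 h ?_
  intro s
  let σ := S.fromSpecResidueField s
  have : IsSeparated ((Over.pullback σ).obj Y).hom := hY s
  have hab : (Over.pullback σ).map f = (Over.pullback σ).map g := by
    refine sep_ext _ _ ((pullback.fst X.hom σ) ⁻¹ᵁ U) (hU _ σ) ?_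
    apply pullback.hom_ext
    · simp only [Category.assoc, Over.pullback_map_left, pullback.lift_fst]
      rw [← morphismRestrict_ι_assoc, ← morphismRestrict_ι_assoc, h]
    · simp only [Category.assoc, Over.pullback_map_left, pullback.lift_snd]
  have h1 := congrArg (fun m => m.left ≫ pullback.fst Y.hom σ) hab
  simp only [Over.pullback_map_left, pullback.lift_fst] at h1
  exact h1

end Groth.Agent.H3.SchDenseExt
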