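import Mathlib
import Groth.Prelude.Def_CInt
import Groth.Prelude.Def_Red
import Groth.Agent.Lib.Helper3.SchDenseExt
import Groth.Agent.Lib.Helper3.SchDenseLfp
import Groth.Agent.Lib.Helper3.DiscSep

/-!
# Relatively schematically dense opens: flat lfp preimages, and morphisms into group schemes
-/

set_option autoImplicit false

open CategoryTheory Limits AlgebraicGeometry MonoidalCategory CartesianMonoidalCategory MonObj

universe u

namespace Groth.Agent.H3.RelDense

variable {S : Scheme.{u}}

/-- `D` is schematically dense in `X` relative to `S` (after every base change) -/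
def RelSchDense (X : Over S) (D : X.left.Opens) : Prop :=
  ∀ (S' : Scheme.{u}) (g : S' ⟶ S), CInt.IsSchematicallyDense ((pullback.fst X.hom g) ⁻¹ᵁ D)

/-- preimages of relatively schematically dense opens under flat lfp `S`-morphisms are
relatively schematically dense -/
theorem RelSchDense.preimage {W Y : Over S} (j : W ⟶ Y) [Flat j.left]
    [LocallyOfFinitePresentation j.left] {D : Y.left.Opens} (hD : RelSchDense Y D) :
    RelSchDense W (j.left ⁻¹ᵁ D) := by
  intro S' g
  have e₁ : W.hom = j.left ≫ Y.hom := (Over.w j).symm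
  have e₂ : g = 𝟙 S' ≫ g := (Category.id_comp g).symm
  let j' := pullback.map W.hom g Y.hom g j.left (𝟙 S') (𝟙 S)
    ((Category.comp_id _).trans e₁) ((Category.comp_id _).trans e₂)
  have hfl : Flat j' :=
    MorphismProperty.pullbackMap (P := @Flat) (inferInstance : Flat j.left)
      (inferInstance : Flat (𝟙 S')) e₁ e₂
  have hlfp : LocallyOfFinitePresentation j' :=
    MorphismProperty.pullbackMap (P := @LocallyOfFinitePresentation)
      (inferInstance : LocallyOfFinitePresentation j.left)
      (inferInstance : LocallyOfFinitePresentation (𝟙 S')) e₁ e₂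
  have hcomp : j' ≫ pullback.fst Y.hom g = pullback.fst W.hom g ≫ j.left :=
    pullback.lift_fst _ _ _
  have heq : (pullback.fst W.hom g) ⁻¹ᵁ (j.left ⁻¹ᵁ D) = j' ⁻¹ᵁ ((pullback.fst Y.hom g) ⁻¹ᵁ D) := by
    rw [← Scheme.Hom.comp_preimage, ← Scheme.Hom.comp_preimage, hcomp]
  rw [heq]
  exact Groth.Agent.H3.SchDenseLfp.main j' _ (hD S' g)

/-- the fibres of a group scheme are separated -/
theorem isSeparated_fibre (H : Over S) [GrpObj H] (s : S) :
    IsSeparated (pullback.snd H.hom (S.fromSpecResidueField s)) := by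
  have : DiscreteTopology ↥(Spec (S.residueField s)) := inferInstance
  exact Groth.Agent.H3.DiscSep.main (Spec (S.residueField s))
    (Red.bc (S.fromSpecResidueField s) H)

/-- two `S`-morphisms into a group scheme which agree on a relatively schematically dense open
are equal -/
theorem grp_ext {T H : Over S} [GrpObj H] (D : T.left.Opens) (hD : RelSchDense T D)
    (α β : T ⟶ H) (h : D.ι ≫ α.left = D.ι ≫ β.left) : α = β :=
  Groth.Agent.H3.SchDenseExt.main S T H D hD (isSeparated_fibre H) α β h

/-- an open subscheme of an `S`-scheme as an object of `Over S` -/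
noncomputable abbrev opn (T : Over S) (D : T.left.Opens) : Over S := Over.mk (D.ι ≫ T.hom)

/-- the inclusion of an open subscheme in `Over S` -/
noncomputable abbrev opnι (T : Over S) (D : T.left.Opens) : opn T D ⟶ T := Over.homMk D.ι rfl

instance (T : Over S) (D : T.left.Opens) : Mono (opnι T D) := by
  have : Mono (opnι T D).left := inferInstanceAs (Mono D.ι)
  exact Over.mono_of_mono_left _

/-- `grp_ext` in terms of `opnι` -/
theorem grp_ext' {T H : Over S} [GrpObj H] (D : T.left.Opens) (hD : RelSchDense T D)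
    (α β : T ⟶ H) (h : opnι T D ≫ α = opnι T D ≫ β) : α = β :=
  grp_ext D hD α β (congrArg (fun m => m.left) h)

/-- lifting a point through an open -/
theorem exists_lift_opn {Z T : Over S} (D : T.left.Opens) (z : Z ⟶ T)
    (hz : Set.range z.left ⊆ (D : Set T.left)) : ∃ z' : Z ⟶ opn T D, z' ≫ opnι T D = z := by
  have hr : Set.range z.left ⊆ Set.range D.ι := by rw [Scheme.Opens.range_ι]; exact hz
  refine ⟨Over.homMk (IsOpenImmersion.lift D.ι z.left hr) ?_, ?_⟩
  · change IsOpenImmersion.lift D.ι z.left hr ≫ D.ι ≫ T.hom = Z.hom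
    rw [IsOpenImmersion.lift_fac_assoc, Over.w z]
  · apply Over.OverMorphism.ext
    exact IsOpenImmersion.lift_fac _ _ _

theorem range_comp_opnι {Z T : Over S} (D : T.left.Opens) (z' : Z ⟶ opn T D) :
    Set.range (z' ≫ opnι T D).left ⊆ (D : Set T.left) := by
  rintro _ ⟨x, rfl⟩
  change (z'.left ≫ D.ι) x ∈ D
  rw [Scheme.Hom.comp_apply]
  exact (z'.left x).2

theorem range_subset_preimage {Z T G : Over S} (z : Z ⟶ T) (t : T ⟶ G) (U : G.left.Opens)
    (h : Set.range (z ≫ t).left ⊆ (U : Set G.left)) :
    Set.range z.left ⊆ ((t.left ⁻¹ᵁ U : T.left.Opens) : Set T.left) := by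
  rintro _ ⟨x, rfl⟩
  have : (z ≫ t).left x ∈ (U : Set G.left) := h ⟨x, rfl⟩
  rwa [Over.comp_left, Scheme.Hom.comp_apply] at this

/-- the restriction of `t : T ⟶ G` over an open `U` of `G` -/
noncomputable def res {T G : Over S} (t : T ⟶ G) (U : G.left.Opens) :
    opn T (t.left ⁻¹ᵁ U) ⟶ opn G U :=
  Over.homMk (t.left ∣_ U) (by
    change (t.left ∣_ U) ≫ U.ι ≫ G.hom = (t.left ⁻¹ᵁ U).ι ≫ T.hom
    rw [morphismRestrict_ι_assoc, Over.w t])

theorem res_ι {T G : Over S} (t : T ⟶ G) (U : G.left.Opens) :
    res t U ≫ opnι G U = opnι T (t.left ⁻¹ᵁ U) ≫ t := by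
  apply Over.OverMorphism.ext
  exact morphismRestrict_ι _ _

end Groth.Agent.H3.RelDense
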