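import Mathlib
import Groth.Agent.Lib.Helper3.RelDense
import Groth.Agent.Lib.Helper3.MulCov2

/-!
# Extending a "generically multiplicative" morphism `U ⟶ H` to a homomorphism `G ⟶ H`
(SGA3 XVIII 2.3)
-/

set_option autoImplicit false

open CategoryTheory Limits AlgebraicGeometry MonoidalCategory CartesianMonoidalCategory MonObj

universe u

namespace Groth.Agent.H3.WeilExt

open Groth.Agent.H3.RelDense

variable {S : Scheme.{u}}

/-- points of `(j ⊗ₘ j) ≫ μ` -/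
lemma comp_tensor_mul {G : Over S} [GrpObj G] {Y : Over S} (j : Y ⟶ G) {Z : Over S}
    (g : Z ⟶ Y ⊗ Y) :
    g ≫ (j ⊗ₘ j) ≫ μ[G] = ((g ≫ fst Y Y) ≫ j) * ((g ≫ snd Y Y) ≫ j) := by
  rw [Hom.mul_def, ← Category.assoc]
  congr 1
  apply CartesianMonoidalCategory.hom_ext <;> simp

lemma range_opnι_comp_subset {T Y : Over S} (t : T ⟶ Y) (V : Y.left.Opens) (D : T.left.Opens)
    (hD : D ≤ t.left ⁻¹ᵁ V) : Set.range (opnι T D ≫ t).left ⊆ (V : Set Y.left) := by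
  rintro _ ⟨x, rfl⟩
  change (D.ι ≫ t.left) x ∈ V
  rw [Scheme.Hom.comp_apply]
  exact hD x.2

variable {G H : Over S} [GrpObj G] [GrpObj H] (U : G.left.Opens)

/-- `fbar` is multiplicative on all pairs of points of `U` whose product is in `U` -/
def Mul (fbar : opn G U ⟶ H) : Prop :=
  ∀ (X : Over S) (a b c : X ⟶ opn G U),
    c ≫ opnι G U = (a ≫ opnι G U) * (b ≫ opnι G U) → c ≫ fbar = (a ≫ fbar) * (b ≫ fbar)

instance : Flat (opnι G U).left := inferInstanceAs (Flat U.ι)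

instance : LocallyOfFinitePresentation (opnι G U).left :=
  inferInstanceAs (LocallyOfFinitePresentation U.ι)

/-- multiplicativity on a relatively schematically dense open of `G × G` implies
multiplicativity everywhere -/
theorem mul_of_dense (fbar : opn G U ⟶ H)
    (V : (G ⊗ G).left.Opens) (hV : RelSchDense (G ⊗ G) V)
    (hmul : ∀ (X : Over S) (a b : X ⟶ opn G U),
      Set.range (lift (a ≫ opnι G U) (b ≫ opnι G U)).left ⊆ (V : Set ↥(G ⊗ G).left) →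
      ∃ c : X ⟶ opn G U, c ≫ opnι G U = (a ≫ opnι G U) * (b ≫ opnι G U) ∧
        c ≫ fbar = (a ≫ fbar) * (b ≫ fbar)) : Mul U fbar := by
  let jU := opnι G U
  let W : Over S := opn G U ⊗ opn G U
  let m' : W ⟶ G := (jU ⊗ₘ jU) ≫ μ[G]
  let F : W ⟶ H := (fbar ⊗ₘ fbar) ≫ μ[H]
  let V₁ : W.left.Opens := m'.left ⁻¹ᵁ U
  let c₀ : opn W V₁ ⟶ opn G U := res m' U
  have hc₀ : c₀ ≫ jU = opnι W V₁ ≫ m' := res_ι m' U
  -- the universal identity on `V₁`
  have key : c₀ ≫ fbar = opnι W V₁ ≫ F := by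
    let t : opn W V₁ ⟶ G ⊗ G := opnι W V₁ ≫ (jU ⊗ₘ jU)
    have hfl : Flat t.left := by
      have := Groth.Agent.H3.MulCov.flat_tensorHom G jU
      have : Flat (opnι W V₁).left := inferInstanceAs (Flat V₁.ι)
      change Flat ((opnι W V₁).left ≫ (jU ⊗ₘ jU).left)
      infer_instance
    have hlfp : LocallyOfFinitePresentation t.left := by
      have := Groth.Agent.H3.MulCov.lfp_tensorHom G jU
      have : LocallyOfFinitePresentation (opnι W V₁).left :=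
        inferInstanceAs (LocallyOfFinitePresentation V₁.ι)
      change LocallyOfFinitePresentation ((opnι W V₁).left ≫ (jU ⊗ₘ jU).left)
      infer_instance
    let D : (opn W V₁).left.Opens := t.left ⁻¹ᵁ V
    have hD : RelSchDense (opn W V₁) D := hV.preimage t
    refine grp_ext' D hD _ _ ?_
    let ιD := opnι (opn W V₁) D
    obtain ⟨a, ha⟩ : ∃ a : opn (opn W V₁) D ⟶ opn G U, a = (ιD ≫ opnι W V₁) ≫ fst _ _ :=
      ⟨_, rfl⟩
    obtain ⟨b, hb⟩ : ∃ b : opn (opn W V₁) D ⟶ opn G U, b = (ιD ≫ opnι W V₁) ≫ snd _ _ :=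
      ⟨_, rfl⟩
    have hlift : lift (a ≫ jU) (b ≫ jU) = ιD ≫ t := by
      apply CartesianMonoidalCategory.hom_ext <;> simp [ha, hb, t]
    have hr : Set.range (lift (a ≫ jU) (b ≫ jU)).left ⊆ (V : Set ↥(G ⊗ G).left) := by
      rw [hlift]
      exact range_opnι_comp_subset t V D le_rfl
    obtain ⟨c, hc1, hc2⟩ := hmul _ a b hr
    have h1 : (ιD ≫ opnι W V₁) ≫ m' = (a ≫ jU) * (b ≫ jU) := by
      rw [comp_tensor_mul, ← ha, ← hb]
    have hc : c = ιD ≫ c₀ := by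
      rw [← cancel_mono jU]
      calc c ≫ jU = (a ≫ jU) * (b ≫ jU) := hc1
        _ = (ιD ≫ opnι W V₁) ≫ m' := h1.symm
        _ = (ιD ≫ c₀) ≫ jU := by rw [Category.assoc, Category.assoc, hc₀]
    have h2 : (ιD ≫ opnι W V₁) ≫ F = (a ≫ fbar) * (b ≫ fbar) := by
      rw [comp_tensor_mul, ← ha, ← hb]
    calc ιD ≫ c₀ ≫ fbar = c ≫ fbar := by rw [hc, Category.assoc]
      _ = (a ≫ fbar) * (b ≫ fbar) := hc2
      _ = (ιD ≫ opnι W V₁) ≫ F := h2.symm
      _ = ιD ≫ opnι W V₁ ≫ F := Category.assoc _ _ _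
  -- the general case
  intro X a b c hc
  let g : X ⟶ W := lift a b
  have hg : g ≫ m' = c ≫ jU := by
    rw [comp_tensor_mul, lift_fst, lift_snd, hc]
  have hr : Set.range g.left ⊆ ((V₁ : W.left.Opens) : Set W.left) := by
    apply range_subset_preimage g m' U
    rw [hg]
    exact range_comp_opnι U c
  obtain ⟨x, hx⟩ := exists_lift_opn V₁ g hr
  have hxc : x ≫ c₀ = c := by
    rw [← cancel_mono jU, Category.assoc, hc₀, ← Category.assoc, hx, hg]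
  rw [← hxc, Category.assoc, key, ← Category.assoc, hx, comp_tensor_mul, lift_fst, lift_snd]

/-- the compatibility needed for descending `(a, b) ↦ fbar a * fbar b` along
`(a, b) ↦ a * b` -/
theorem compat [Flat G.hom] [LocallyOfFinitePresentation G.hom] (hU : RelSchDense G U)
    (fbar : opn G U ⟶ H) (hM : Mul U fbar) {Z : Over S}
    (g₁ g₂ : Z ⟶ opn G U ⊗ opn G U)
    (h : g₁ ≫ (opnι G U ⊗ₘ opnι G U) ≫ μ[G] = g₂ ≫ (opnι G U ⊗ₘ opnι G U) ≫ μ[G]) :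
    g₁ ≫ (fbar ⊗ₘ fbar) ≫ μ[H] = g₂ ≫ (fbar ⊗ₘ fbar) ≫ μ[H] := by
  let jU := opnι G U
  let UU : Over S := opn G U
  let T : Over S := UU ⊗ (G ⊗ UU)
  obtain ⟨pa, hpa⟩ : ∃ pa : T ⟶ UU, pa = fst UU (G ⊗ UU) := ⟨_, rfl⟩
  obtain ⟨pc, hpc⟩ : ∃ pc : T ⟶ G, pc = snd UU (G ⊗ UU) ≫ fst G UU := ⟨_, rfl⟩
  obtain ⟨pb, hpb⟩ : ∃ pb : T ⟶ UU, pb = snd UU (G ⊗ UU) ≫ snd G UU := ⟨_, rfl⟩
  obtain ⟨p, hp⟩ : ∃ p : T ⟶ G, p = (pa ≫ jU) * pc := ⟨_, rfl⟩
  obtain ⟨q, hq⟩ : ∃ q : T ⟶ G, q = pc * (pb ≫ jU) := ⟨_, rfl⟩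
  let Ω : T.left.Opens := p.left ⁻¹ᵁ U ⊓ q.left ⁻¹ᵁ U
  obtain ⟨ιΩ, hιΩ⟩ : ∃ ιΩ : opn T Ω ⟶ T, ιΩ = opnι T Ω := ⟨_, rfl⟩
  obtain ⟨A, hA⟩ := exists_lift_opn U (ιΩ ≫ p)
    (by rw [hιΩ]; exact range_opnι_comp_subset p U Ω inf_le_left)
  obtain ⟨B', hB'⟩ := exists_lift_opn U (ιΩ ≫ q)
    (by rw [hιΩ]; exact range_opnι_comp_subset q U Ω inf_le_right)
  -- the universal identity on `Ω`
  have key : (A ≫ fbar) * ((ιΩ ≫ pb) ≫ fbar) = ((ιΩ ≫ pa) ≫ fbar) * (B' ≫ fbar) := by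
    obtain ⟨t, ht⟩ : ∃ t : opn T Ω ⟶ G, t = ιΩ ≫ pc := ⟨_, rfl⟩
    have hUUfl : Flat UU.hom := by
      change Flat (U.ι ≫ G.hom); infer_instance
    have hUUlfp : LocallyOfFinitePresentation UU.hom := by
      change LocallyOfFinitePresentation (U.ι ≫ G.hom); infer_instance
    have h1 : Flat (snd UU (G ⊗ UU)).left := by rw [Over.snd_left]; infer_instance
    have h2 : Flat (fst G UU).left := by rw [Over.fst_left]; infer_instance
    have h3 : LocallyOfFinitePresentation (snd UU (G ⊗ UU)).left := by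
      rw [Over.snd_left]; infer_instance
    have h4 : LocallyOfFinitePresentation (fst G UU).left := by
      rw [Over.fst_left]; infer_instance
    have hfl : Flat t.left := by
      have : Flat (opnι T Ω).left := inferInstanceAs (Flat Ω.ι)
      rw [ht, hιΩ, hpc]
      change Flat ((opnι T Ω).left ≫ (snd UU (G ⊗ UU)).left ≫ (fst G UU).left)
      infer_instance
    have hlfp : LocallyOfFinitePresentation t.left := by
      have : LocallyOfFinitePresentation (opnι T Ω).left :=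
        inferInstanceAs (LocallyOfFinitePresentation Ω.ι)
      rw [ht, hιΩ, hpc]
      change LocallyOfFinitePresentation
        ((opnι T Ω).left ≫ (snd UU (G ⊗ UU)).left ≫ (fst G UU).left)
      infer_instance
    let D₀ : (opn T Ω).left.Opens := t.left ⁻¹ᵁ U
    have hD₀ : RelSchDense (opn T Ω) D₀ := hU.preimage t
    refine grp_ext' D₀ hD₀ _ _ ?_
    obtain ⟨ι₀, hι₀⟩ : ∃ ι₀ : opn (opn T Ω) D₀ ⟶ opn T Ω, ι₀ = opnι (opn T Ω) D₀ := ⟨_, rfl⟩
    rw [← hι₀]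
    obtain ⟨c₁, hc₁⟩ := exists_lift_opn U (ι₀ ≫ t)
      (by rw [hι₀]; exact range_opnι_comp_subset t U D₀ le_rfl)
    have e1 : (ι₀ ≫ A) ≫ jU = ((ι₀ ≫ ιΩ ≫ pa) ≫ jU) * (c₁ ≫ jU) := by
      rw [Category.assoc, hA, hc₁, hp, ht]
      simp only [MonObj.comp_mul, Category.assoc]
    have e2 : (ι₀ ≫ B') ≫ jU = (c₁ ≫ jU) * ((ι₀ ≫ ιΩ ≫ pb) ≫ jU) := by
      rw [Category.assoc, hB', hc₁, hq, ht]
      simp only [MonObj.comp_mul, Category.assoc]
    have f1 := hM _ _ _ _ e1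
    have f2 := hM _ _ _ _ e2
    rw [MonObj.comp_mul, MonObj.comp_mul, ← Category.assoc ι₀ A, f1,
      ← Category.assoc ι₀ B', f2, _root_.mul_assoc]
    simp only [Category.assoc]
  -- the given points
  obtain ⟨a, ha⟩ : ∃ a : Z ⟶ UU, a = g₁ ≫ fst _ _ := ⟨_, rfl⟩
  obtain ⟨b, hb⟩ : ∃ b : Z ⟶ UU, b = g₁ ≫ snd _ _ := ⟨_, rfl⟩
  obtain ⟨a', ha'⟩ : ∃ a' : Z ⟶ UU, a' = g₂ ≫ fst _ _ := ⟨_, rfl⟩
  obtain ⟨b', hb'⟩ : ∃ b' : Z ⟶ UU, b' = g₂ ≫ snd _ _ := ⟨_, rfl⟩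
  have hab : (a ≫ jU) * (b ≫ jU) = (a' ≫ jU) * (b' ≫ jU) := by
    rw [ha, hb, ha', hb', ← comp_tensor_mul, ← comp_tensor_mul]
    exact h
  obtain ⟨c, hc⟩ : ∃ c : Z ⟶ G, c = (a' ≫ jU)⁻¹ * (a ≫ jU) := ⟨_, rfl⟩
  obtain ⟨ω, hω⟩ : ∃ ω : Z ⟶ T, ω = lift a' (lift c b) := ⟨_, rfl⟩
  have hωa : ω ≫ pa = a' := by rw [hω, hpa, lift_fst]
  have hωc : ω ≫ pc = c := by rw [hω, hpc, lift_snd_assoc, lift_fst]
  have hωb : ω ≫ pb = b := by rw [hω, hpb, lift_snd_assoc, lift_snd]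
  have hωp : ω ≫ p = a ≫ jU := by
    rw [hp, MonObj.comp_mul, ← Category.assoc, hωa, hωc, hc, mul_inv_cancel_left]
  have hωq : ω ≫ q = b' ≫ jU := by
    rw [hq, MonObj.comp_mul, ← Category.assoc, hωb, hωc, hc, _root_.mul_assoc, hab,
      inv_mul_cancel_left]
  have hr : Set.range ω.left ⊆ ((Ω : T.left.Opens) : Set T.left) := by
    have r1 := range_subset_preimage ω p U (by rw [hωp]; exact range_comp_opnι U a)
    have r2 := range_subset_preimage ω q U (by rw [hωq]; exact range_comp_opnι U b')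
    intro x hx
    exact ⟨r1 hx, r2 hx⟩
  obtain ⟨ω', hω'⟩ := exists_lift_opn Ω ω hr
  rw [← hιΩ] at hω'
  have hωA : ω' ≫ A = a := by
    rw [← cancel_mono jU, Category.assoc, hA, ← Category.assoc, hω', hωp]
  have hωB : ω' ≫ B' = b' := by
    rw [← cancel_mono jU, Category.assoc, hB', ← Category.assoc, hω', hωq]
  have key' := congrArg (fun m => ω' ≫ m) key
  simp only [MonObj.comp_mul] at key'
  rw [← Category.assoc ω' A, hωA, ← Category.assoc ω' B', hωB, ← Category.assoc ω' (ιΩ ≫ pb),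
    ← Category.assoc ω' ιΩ, hω', hωb, ← Category.assoc ω' (ιΩ ≫ pa), ← Category.assoc ω' ιΩ,
    hω', hωa] at key'
  rw [comp_tensor_mul, comp_tensor_mul, ← ha, ← hb, ← ha', ← hb']
  exact key'

omit [GrpObj G] in
/-- fibrewise density of a relatively schematically dense open -/
theorem dense_fibre (hU : RelSchDense G U) (s : S) :
    Dense ((G.hom.fiberι s) ⁻¹' (Set.range (opnι G U).left)) := by
  have h1 := Groth.Agent.H9.SDD.dense_of_schDense (hU _ (S.fromSpecResidueField s))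
  have h2 : Set.range (opnι G U).left = (U : Set G.left) := Scheme.Opens.range_ι U
  rw [h2]
  exact h1

/-- a morphism to a group which is compatible with multiplication is a homomorphism -/
theorem isMonHom_of_mul (f : G ⟶ H) (hf : μ[G] ≫ f = (f ⊗ₘ f) ≫ μ[H]) : IsMonHom f := by
  refine ⟨?_, hf⟩
  have h1 : (η[G] ≫ f) * (η[G] ≫ f) = η[G] ≫ f := by
    have := comp_tensor_mul f (lift η[G] η[G])
    rw [← hf, lift_fst, lift_snd] at this
    rw [← this, ← Category.assoc]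
    congr 1
    have h2 : lift η[G] η[G] ≫ μ[G] = (η[G] : 𝟙_ (Over S) ⟶ G) * η[G] := (Hom.mul_def _ _).symm
    rw [h2]
    have h3 : (η[G] : 𝟙_ (Over S) ⟶ G) = 1 := by
      rw [Hom.one_def]
      have : toUnit (𝟙_ (Over S)) = 𝟙 _ := Subsingleton.elim _ _
      rw [this, Category.id_comp]
    rw [h3, _root_.mul_one]
  have h4 : η[G] ≫ f = 1 := mul_eq_left.mp h1
  rw [h4, Hom.one_def]
  have : toUnit (𝟙_ (Over S)) = 𝟙 _ := Subsingleton.elim _ _
  rw [this, Category.id_comp]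

/-- **SGA3 XVIII 2.3**: a morphism `fbar : U ⟶ H` from a relatively schematically dense open
of a flat lfp group `G`, multiplicative on a relatively schematically dense open `V` of
`G × G`, extends uniquely to a homomorphism `G ⟶ H`. -/
theorem main [Flat G.hom] [LocallyOfFinitePresentation G.hom] (hU : RelSchDense G U)
    (fbar : opn G U ⟶ H)
    (V : (G ⊗ G).left.Opens) (hV : RelSchDense (G ⊗ G) V)
    (hV1 : V ≤ (fst G G).left ⁻¹ᵁ U) (hV2 : V ≤ (snd G G).left ⁻¹ᵁ U)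
    (hVm : V ≤ μ[G].left ⁻¹ᵁ U)
    (hmul : ∀ (X : Over S) (a b : X ⟶ opn G U),
      Set.range (lift (a ≫ opnι G U) (b ≫ opnι G U)).left ⊆ (V : Set ↥(G ⊗ G).left) →
      ∃ c : X ⟶ opn G U, c ≫ opnι G U = (a ≫ opnι G U) * (b ≫ opnι G U) ∧
        c ≫ fbar = (a ≫ fbar) * (b ≫ fbar)) :
    ∃! f : G ⟶ H, IsMonHom f ∧ opnι G U ≫ f = fbar := by
  have hM : Mul U fbar := mul_of_dense U fbar V hV hmul
  let jU := opnι G U
  let W : Over S := opn G U ⊗ opn G U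
  obtain ⟨m', hm'⟩ : ∃ m' : W ⟶ G, m' = (jU ⊗ₘ jU) ≫ μ[G] := ⟨_, rfl⟩
  obtain ⟨F, hF⟩ : ∃ F : W ⟶ H, F = (fbar ⊗ₘ fbar) ≫ μ[H] := ⟨_, rfl⟩
  obtain ⟨c1, c2, c3⟩ := Groth.Agent.H3.MulCov.main' G jU (dense_fibre U hU)
  rw [← hm'] at c1 c2 c3
  have : EffectiveEpi m'.left := inferInstance
  have hEE : EffectiveEpi m' := Groth.Agent.H3.OverUEE.effectiveEpi_of_left m'
  have hcompat : ∀ {Z : Over S} (g₁ g₂ : Z ⟶ W), g₁ ≫ m' = g₂ ≫ m' → g₁ ≫ F = g₂ ≫ F := by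
    intro Z g₁ g₂ h
    rw [hm'] at h
    rw [hF]
    exact compat U hU fbar hM g₁ g₂ h
  obtain ⟨f, hf⟩ : ∃ f : G ⟶ H, m' ≫ f = F :=
    ⟨EffectiveEpi.desc m' F hcompat, EffectiveEpi.fac _ _ _⟩
  -- `f` restricts to `fbar`
  have hres : jU ≫ f = fbar := by
    let V₁ : W.left.Opens := m'.left ⁻¹ᵁ U
    obtain ⟨c₀, hc₀⟩ : ∃ c₀ : opn W V₁ ⟶ opn G U, c₀ ≫ jU = opnι W V₁ ≫ m' :=
      ⟨res m' U, res_ι m' U⟩
    have hc₀l : c₀.left = m'.left ∣_ U := by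
      have h1 : c₀ = res m' U := by
        rw [← cancel_mono jU, hc₀]; exact (res_ι m' U).symm
      rw [h1]; rfl
    have e1 : Flat c₀.left := by rw [hc₀l]; infer_instance
    have e2 : LocallyOfFinitePresentation c₀.left := by rw [hc₀l]; infer_instance
    have e3 : Surjective c₀.left := by
      rw [hc₀l]; exact IsZariskiLocalAtTarget.restrict c3 U
    have : EffectiveEpi c₀.left := inferInstance
    have : EffectiveEpi c₀ := Groth.Agent.H3.OverUEE.effectiveEpi_of_left c₀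
    rw [← cancel_epi c₀, ← Category.assoc, hc₀, Category.assoc, hf, hF, comp_tensor_mul]
    symm
    apply hM
    rw [hc₀, hm', comp_tensor_mul]
  -- `f` is a homomorphism
  have hhom : IsMonHom f := by
    apply isMonHom_of_mul
    refine grp_ext' V hV _ _ ?_
    obtain ⟨ιV, hιV⟩ : ∃ ιV : opn (G ⊗ G) V ⟶ G ⊗ G, ιV = opnι (G ⊗ G) V := ⟨_, rfl⟩
    rw [← hιV]
    obtain ⟨a₁, ha₁⟩ := exists_lift_opn U (ιV ≫ fst G G)
      (by rw [hιV]; exact range_opnι_comp_subset (fst G G) U V hV1)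
    obtain ⟨b₁, hb₁⟩ := exists_lift_opn U (ιV ≫ snd G G)
      (by rw [hιV]; exact range_opnι_comp_subset (snd G G) U V hV2)
    obtain ⟨c₁, hc₁⟩ := exists_lift_opn U (ιV ≫ μ[G])
      (by rw [hιV]; exact range_opnι_comp_subset μ[G] U V hVm)
    have hμ : ιV ≫ μ[G] = (ιV ≫ fst G G) * (ιV ≫ snd G G) := by
      rw [Hom.mul_def, ← comp_lift, lift_fst_snd, Category.comp_id]
    have e1 : c₁ ≫ jU = (a₁ ≫ jU) * (b₁ ≫ jU) := by rw [hc₁, ha₁, hb₁, hμ]
    have e2 := hM _ _ _ _ e1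
    rw [← hres] at e2
    rw [comp_tensor_mul, ← Category.assoc, ← hc₁, Category.assoc, e2, ← ha₁, ← hb₁]
    simp only [Category.assoc]
    rfl
  refine ⟨f, ⟨hhom, hres⟩, ?_⟩
  rintro f' ⟨hhom', hres'⟩
  exact Groth.Agent.H3.MulCov.hom_ext_of_dense G jU (dense_fibre U hU) f' f
    (hres'.trans hres.symm)

end Groth.Agent.H3.WeilExt
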