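import Mathlib
import Groth.Agent.Lib.Helper1.GeomIrr

set_option autoImplicit false
open TensorProduct Polynomial

namespace Groth.Agent.H3.PrimTensor

universe u

section F1
variable {k K : Type*} [Field k] [Field K] [Algebra k K]

/-- a separable irreducible polynomial stays irreducible over an extension in which the base is
separably closed. -/
theorem irreducible_map_of_sepClosedIn
    (hprim : ∀ a : K, IsSeparable k a → a ∈ (algebraMap k K).range)
    {f : k[X]} (hm : f.Monic) (hf : Irreducible f) (hsep : f.Separable) :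
    Irreducible (f.map (algebraMap k K)) := by
  classical
  have hFm : (f.map (algebraMap k K)).Monic := hm.map _
  have hdeg : 0 < f.natDegree := Polynomial.natDegree_pos_iff_degree_pos.mpr
    (Polynomial.degree_pos_of_irreducible hf)
  have hFu : ¬ IsUnit (f.map (algebraMap k K)) := by
    intro hu
    have := Polynomial.natDegree_eq_zero_of_isUnit hu
    rw [hm.natDegree_map] at this
    omega
  obtain ⟨g, hgm, hgi, hgF⟩ := Polynomial.exists_monic_irreducible_factor _ hFu
  -- the roots of `g` in an algebraic closure are separable over `k`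
  let Ω := AlgebraicClosure K
  have hgΩ : (g.map (algebraMap K Ω)).Splits := IsAlgClosed.splits _
  have hroots : ∀ α ∈ (g.map (algebraMap K Ω)).roots, IsSeparable k α := by
    intro α hα
    have h0 : (g.map (algebraMap K Ω)).eval α = 0 := (Polynomial.mem_roots'.mp hα).2
    have h1 : Polynomial.aeval α f = 0 := by
      obtain ⟨h, hh⟩ := hgF
      have h2 : (f.map (algebraMap k Ω)).eval α = 0 := by
        rw [IsScalarTower.algebraMap_eq k K Ω, ← Polynomial.map_map, hh, Polynomial.map_mul,
          Polynomial.eval_mul, h0, zero_mul]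
      rwa [Polynomial.eval_map_algebraMap] at h2
    exact hsep.of_dvd (minpoly.dvd k α h1)
  -- hence the coefficients of `g` are separable over `k`
  have hlift : g.map (algebraMap K Ω) ∈
      Polynomial.lifts (algebraMap (separableClosure k Ω) Ω) := by
    rw [hgΩ.eq_prod_roots_of_monic (hgm.map _)]
    refine Subsemiring.multiset_prod_mem _ _ ?_
    intro p hp
    obtain ⟨α, hα, rfl⟩ := Multiset.mem_map.mp hp
    rw [Polynomial.lifts_iff_coeff_lifts]
    intro n
    have hαs : α ∈ separableClosure k Ω := hroots α hα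
    refine ⟨(X - C (⟨α, hαs⟩ : separableClosure k Ω)).coeff n, ?_⟩
    rw [← Polynomial.coeff_map]
    simp
  have hcoeff : ∀ n, g.coeff n ∈ (algebraMap k K).range := by
    intro n
    apply hprim
    rw [Polynomial.lifts_iff_coeff_lifts] at hlift
    obtain ⟨c, hc⟩ := hlift n
    have hc' : IsSeparable k (algebraMap K Ω (g.coeff n)) := by
      rw [Polynomial.coeff_map] at hc
      rw [← hc]
      exact c.2
    unfold IsSeparable at hc' ⊢
    rwa [minpoly.algebraMap_eq (algebraMap K Ω).injective] at hc'
  have hglift : g ∈ Polynomial.lifts (algebraMap k K) := by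
    rw [Polynomial.lifts_iff_coeff_lifts]
    exact fun n => hcoeff n
  obtain ⟨g₀, hg₀, -, hg₀m⟩ := Polynomial.lifts_and_degree_eq_and_monic hglift hgm
  have hdvd : g₀ ∣ f := by
    rw [← Polynomial.map_dvd_map (algebraMap k K) (algebraMap k K).injective hg₀m, hg₀]
    exact hgF
  have hg₀u : ¬ IsUnit g₀ := by
    intro hu
    apply hgi.not_isUnit
    rw [← hg₀]
    exact hu.map (Polynomial.mapRingHom (algebraMap k K))
  have hassoc : Associated g₀ f := by
    obtain ⟨h, rfl⟩ := hdvd
    rcases hf.isUnit_or_isUnit rfl with hu | hu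
    · exact absurd hu hg₀u
    · exact associated_mul_unit_right g₀ h hu
  have heq : g₀ = f := Polynomial.eq_of_monic_of_associated hg₀m hm hassoc
  rw [← heq, hg₀]
  exact hgi

end F1


section F2
variable {k K : Type u} [Field k] [Field K] [Algebra k K]

/-- for a finite separable extension `k'` of `k`, `k' ⊗[k] K` embeds into a field when `k` is
separably closed in `K`. -/
theorem irreducibleSpace_of_finite_separable
    (hprim : ∀ a : K, IsSeparable k a → a ∈ (algebraMap k K).range)
    (k' : Type u) [Field k'] [Algebra k k'] [Module.Finite k k'] [Algebra.IsSeparable k k'] :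
    IrreducibleSpace (PrimeSpectrum (k' ⊗[k] K)) := by
  classical
  let pb := Field.powerBasisOfFiniteOfSeparable k k'
  set p : k[X] := minpoly k pb.gen with hp
  have hint : IsIntegral k pb.gen := Algebra.IsIntegral.isIntegral _
  have hpm : p.Monic := minpoly.monic hint
  have hpi : Irreducible p := minpoly.irreducible hint
  have hps : p.Separable := Algebra.IsSeparable.isSeparable k pb.gen
  have hirr : Irreducible (p.map (algebraMap k K)) :=
    irreducible_map_of_sepClosedIn hprim hpm hpi hps
  haveI : Fact (Irreducible (p.map (algebraMap k K))) := ⟨hirr⟩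
  -- `k' ≃ k[X]/(p)`
  let e₁ : AdjoinRoot p ≃ₐ[k] k' := AdjoinRoot.equiv' p pb
    (by rw [hp]; exact AdjoinRoot.eval₂_root _) (minpoly.aeval k pb.gen)
  -- the chain of ring isomorphisms
  let e₂ : k' ⊗[k] K ≃ₐ[k] K ⊗[k] k' := Algebra.TensorProduct.comm k k' K
  let e₃ : K ⊗[k] k' ≃ₐ[K] K ⊗[k] AdjoinRoot p :=
    Algebra.TensorProduct.congr AlgEquiv.refl e₁.symm
  let q : (K ⊗[k] k)[X] :=
    p.map (Algebra.TensorProduct.includeRight : k →ₐ[k] K ⊗[k] k).toRingHom
  let e₄ : K ⊗[k] AdjoinRoot p ≃ₐ[K] AdjoinRoot q := AdjoinRoot.tensorAlgEquiv p q rfl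
  let r : K ⊗[k] k ≃+* K := (Algebra.TensorProduct.rid k K K).toRingEquiv
  have hq : Associated (q.map (r : K ⊗[k] k →+* K)) (p.map (algebraMap k K)) := by
    have : q.map (r : K ⊗[k] k →+* K) = p.map (algebraMap k K) := by
      rw [Polynomial.map_map]
      congr 1
      ext c
      simp [r, Algebra.algebraMap_eq_smul_one]
    rw [this]
  let e₅ : AdjoinRoot q ≃+* AdjoinRoot (p.map (algebraMap k K)) :=
    AdjoinRoot.mapRingEquiv r q _ hq
  let φ : k' ⊗[k] K →+* AdjoinRoot (p.map (algebraMap k K)) :=
    (e₅ : AdjoinRoot q →+* _).comp ((e₄ : _ →+* AdjoinRoot q).comp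
      ((e₃ : _ →+* K ⊗[k] AdjoinRoot p).comp (e₂ : k' ⊗[k] K →+* K ⊗[k] k')))
  have hφ : Function.Injective φ :=
    e₅.injective.comp (e₄.injective.comp (e₃.injective.comp e₂.injective))
  exact Groth.Agent.H1.GeomIrr.irreducibleSpace_of_injective φ hφ

end F2


section Core

/-- abstract core: in a ring integral and flat over a domain, whose nilradical is prime,
every zero-divisor is nilpotent. -/
theorem isNilpotent_of_mul_eq_zero_of_isIntegral {E D : Type*} [CommRing E] [IsDomain E]
    [CommRing D] [Algebra E D] [Algebra.IsIntegral E D] [Module.Flat E D]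
    (hN : (nilradical D).IsPrime) {d d' : D} (h : d * d' = 0) (hd' : d' ≠ 0) :
    IsNilpotent d := by
  have hI : (Ideal.span {d}).comap (algebraMap E D) ≤ (⊥ : Ideal E) := by
    intro e he
    rw [Ideal.mem_comap, Ideal.mem_span_singleton'] at he
    obtain ⟨x, hx⟩ := he
    have h1 : e • d' = 0 := by
      rw [Algebra.smul_def, ← hx, mul_assoc, h, mul_zero]
    by_contra he0
    have he0' : e ≠ 0 := fun h0 => he0 (by rw [h0]; exact Ideal.zero_mem _)
    have hreg : IsSMulRegular D e :=
      Module.Flat.isSMulRegular_of_nonZeroDivisors (mem_nonZeroDivisors_of_ne_zero he0')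
    exact hd' (hreg (by change e • d' = e • 0; rw [h1, smul_zero]))
  obtain ⟨Q, hQI, hQp, hQ⟩ :=
    Ideal.exists_ideal_over_prime_of_isIntegral (⊥ : Ideal E) (Ideal.span {d}) hI
  have hNQ : nilradical D ≤ Q := nilradical_le_prime Q
  have hdQ : d ∈ Q := hQI (Ideal.subset_span rfl)
  by_contra hd
  have hmem : d ∈ (Q : Set D) \ (nilradical D : Set D) := ⟨hdQ, fun h' => hd (mem_nilradical.mp h')⟩
  have hlt := Ideal.comap_lt_comap_of_integral_mem_sdiff (R := E) hNQ hmem
    (Algebra.IsIntegral.isIntegral d)
  rw [hQ] at hlt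
  exact not_lt_bot hlt

end Core

section Dom
variable (k K : Type*) [Field k] [Field K] [Algebra k K] (ι : Type*)

attribute [local instance] Algebra.TensorProduct.rightAlgebra in
theorem isDomain_fractionRing_tensor :
    IsDomain (FractionRing (MvPolynomial ι k) ⊗[k] K) := by
  let P := MvPolynomial ι k
  let Q := FractionRing P
  let S := P ⊗[k] K
  let e₁ : S ≃ₐ[k] MvPolynomial ι K :=
    (Algebra.TensorProduct.comm k P K).trans
      ((MvPolynomial.algebraTensorAlgEquiv k K).restrictScalars k)
  haveI : IsDomain S := e₁.toMulEquiv.isDomain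
  haveI hloc : IsLocalization (Algebra.algebraMapSubmonoid S (nonZeroDivisors P)) (Q ⊗[P] S) :=
    IsLocalization.tensorRight (R := P) (S := S) Q (nonZeroDivisors P)
  have hM : Algebra.algebraMapSubmonoid S (nonZeroDivisors P) ≤ nonZeroDivisors S := by
    rintro _ ⟨p, hp, rfl⟩
    replace hp : p ∈ nonZeroDivisors P := hp
    rw [mem_nonZeroDivisors_iff_ne_zero] at hp ⊢
    intro h0
    apply hp
    have hinj : Function.Injective (algebraMap P S) :=
      Algebra.TensorProduct.includeLeft_injective (S := P) (FaithfulSMul.algebraMap_injective k K)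
    exact hinj (by rw [h0, map_zero])
  haveI : IsDomain (Q ⊗[P] S) := IsLocalization.isDomain_of_le_nonZeroDivisors (Q ⊗[P] S) hM
  let e₂ : Q ⊗[P] S ≃ₐ[P] Q ⊗[k] K := Algebra.TensorProduct.cancelBaseChange k P P Q K
  exact e₂.symm.toMulEquiv.isDomain

end Dom

section F34
variable {k K : Type u} [Field k] [Field K] [Algebra k K]

theorem irreducibleSpace_tensor (hprim : ∀ a : K, IsSeparable k a → a ∈ (algebraMap k K).range)
    (L : Type u) [Field L] [Algebra k L] : IrreducibleSpace (PrimeSpectrum (L ⊗[k] K)) := by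
  haveI := Groth.Agent.H1.GeomIrr.irr_sepClosure_of_finite (k := k) (R := K)
    (fun k' _ _ _ _ => irreducibleSpace_of_finite_separable hprim k')
  haveI := Groth.Agent.H1.GeomIrr.irr_algClosure_of_sepClosure (k := k) (R := K)
  exact Groth.Agent.H1.GeomIrr.irr_of_algClosure L

/-- auxiliary: transport of the abstract core along a ring isomorphism. -/
theorem isNilpotent_of_mul_eq_zero_aux {F E L D : Type*} [Field F] [CommRing E] [IsDomain E]
    [Algebra F E] [Field L] [Algebra F L] [Algebra.IsAlgebraic F L] [CommRing D]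
    (e : E ⊗[F] L ≃+* D) (hN : (nilradical D).IsPrime)
    {d d' : D} (h : d * d' = 0) (hd' : d' ≠ 0) : IsNilpotent d := by
  haveI : Algebra.IsIntegral F L := Algebra.IsAlgebraic.isIntegral
  have hN' : (nilradical (E ⊗[F] L)).IsPrime := by
    rw [← PrimeSpectrum.irreducibleSpace_iff_isPrime_nilradical] at hN ⊢
    exact (PrimeSpectrum.homeomorphOfRingEquiv e).irreducibleSpace_iff.mpr hN
  have h1 := isNilpotent_of_mul_eq_zero_of_isIntegral (E := E) (D := E ⊗[F] L) hN'
    (d := e.symm d) (d' := e.symm d') (by rw [← map_mul, h, map_zero])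
    (by simpa using hd')
  exact (IsNilpotent.map_iff e.symm.injective).mp h1

/-- zero-divisors of `L ⊗[k] K` are nilpotent when `k` is separably closed in `K`. -/
theorem isNilpotent_of_mul_eq_zero
    (hprim : ∀ a : K, IsSeparable k a → a ∈ (algebraMap k K).range)
    (L : Type u) [Field L] [Algebra k L] {d d' : L ⊗[k] K} (h : d * d' = 0) (hd' : d' ≠ 0) :
    IsNilpotent d := by
  obtain ⟨ι, x, hx⟩ := exists_isTranscendenceBasis' k L
  haveI : Algebra.IsAlgebraic (IntermediateField.adjoin k (Set.range x)) L := hx.isAlgebraic_field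
  haveI : IsDomain (FractionRing (MvPolynomial ι k) ⊗[k] K) := isDomain_fractionRing_tensor k K ι
  haveI : IsDomain ((IntermediateField.adjoin k (Set.range x)) ⊗[k] K) :=
    (Algebra.TensorProduct.congr hx.1.aevalEquivField.symm
      (AlgEquiv.refl : K ≃ₐ[k] K)).toMulEquiv.isDomain
  have hN : (nilradical (L ⊗[k] K)).IsPrime :=
    PrimeSpectrum.irreducibleSpace_iff_isPrime_nilradical.mp (irreducibleSpace_tensor hprim L)
  exact isNilpotent_of_mul_eq_zero_aux (F := IntermediateField.adjoin k (Set.range x))
    (E := (IntermediateField.adjoin k (Set.range x)) ⊗[k] K) (L := L)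
    ((Algebra.TensorProduct.comm _ _ L).trans
      (Algebra.TensorProduct.cancelBaseChange k (IntermediateField.adjoin k (Set.range x))
        (IntermediateField.adjoin k (Set.range x)) L K)).toRingEquiv hN h hd'

/-- transported form: in a ring isomorphic to `L ⊗[k] K`, non-nilpotent elements are
nonzerodivisors. -/
theorem eq_zero_of_mul_eq_zero
    (hprim : ∀ a : K, IsSeparable k a → a ∈ (algebraMap k K).range)
    (L : Type u) [Field L] [Algebra k L] {T : Type*} [CommRing T] (e : T ≃+* L ⊗[k] K)
    {τ z : T} (hτ : ¬ IsNilpotent τ) (h : τ * z = 0) : z = 0 := by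
  by_contra hz
  apply hτ
  have h1 : e τ * e z = 0 := by rw [← map_mul, h, map_zero]
  have h2 : e z ≠ 0 := fun h0 => hz (e.injective (by rw [h0, map_zero]))
  exact (IsNilpotent.map_iff e.injective).mp (isNilpotent_of_mul_eq_zero hprim L h1 h2)

end F34

end Groth.Agent.H3.PrimTensor
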