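import Mathlib
import Groth.Prelude.Def_FDesc
import Groth.Agent.Lib.Helper3.AssSupp
import Groth.Agent.Lib.Lead.QC.AssAlg
import Groth.Agent.Lib.Helper7.Reg1

/-!
# Flatness over regular bases of dimension `≤ 1` and associated points
-/

set_option autoImplicit false

universe u

open AlgebraicGeometry CategoryTheory CategoryTheory.Limits TopologicalSpace IsLocalRing

namespace Groth.Agent.H3.AssFlatDim1

open Groth.Agent.LD.QC

variable {X Y : Scheme.{u}}

/-- ring-level version of `AssSupp.exists_weakAss_generization` for the structure sheaf. -/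
theorem exists_weakAss_generization_ring {U : X.Opens} (hU : IsAffineOpen U) (y : X) (hy : y ∈ U)
    (n : Γ(X, U)) (hn : X.presheaf.germ U y hy n ≠ 0) :
    ∃ (x' : X) (hx' : x' ∈ U), x' ⤳ y ∧ Curv2.IsWeakAssPoint (Coh.structureModule X) x' ∧
      ∀ b : Γ(X, U), b * n = 0 → b ∈ (hU.primeIdealOf ⟨x', hx'⟩).asIdeal := by
  have hIle : (LinearMap.ker (LinearMap.toSpanSingleton Γ(X, U) Γ(Coh.structureModule X, U)
      (show Γ(Coh.structureModule X, U) from n)) : Ideal Γ(X, U)) ≤
      (hU.primeIdealOf ⟨y, hy⟩).asIdeal := by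
    intro b hb
    by_contra hbp
    have hu := isUnit_germ_of_notMem hU y hy b hbp
    have hb' : b * n = 0 := hb
    have h0 : X.presheaf.germ U y hy b * X.presheaf.germ U y hy n = 0 := by
      rw [← map_mul, hb', map_zero]
    exact hn (hu.mul_right_eq_zero.mp h0)
  obtain ⟨p, hp, hple⟩ := Ideal.exists_minimalPrimes_le hIle
  let q : PrimeSpectrum Γ(X, U) := ⟨p, hp.1.1⟩
  have hqU := fromSpec_mem hU q
  refine ⟨hU.fromSpec q, hqU, ?_, ?_, ?_⟩
  · have h1 : q ⤳ hU.primeIdealOf ⟨y, hy⟩ := (PrimeSpectrum.le_iff_specializes _ _).mp hple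
    have h2 := h1.map hU.fromSpec.continuous
    rwa [hU.fromSpec_primeIdealOf ⟨y, hy⟩] at h2
  · rw [isWeakAssPoint_iff_mem_weakAss (Coh.structureModule X) hU _ hqU,
      primeIdealOf_fromSpec hU q hqU, mem_weakAss_iff]
    exact ⟨n, hp⟩
  · intro b hb
    rw [primeIdealOf_fromSpec hU q hqU]
    exact hp.1.2 hb

lemma stalkMap_germ_appLE (f : X ⟶ Y) {V : Y.Opens} {U : X.Opens} (e : U ≤ f ⁻¹ᵁ V) (x : X)
    (hx : x ∈ U) (a : Γ(Y, V)) :
    (f.stalkMap x).hom (Y.presheaf.germ V (f x) (e hx) a) =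
      X.presheaf.germ U x hx ((f.appLE V U e).hom a) := by
  rw [Scheme.Hom.germ_stalkMap_apply, Scheme.Hom.appLE, CommRingCat.hom_comp, RingHom.comp_apply]
  exact (TopCat.Presheaf.germ_res_apply X.presheaf (homOfLE e) x hx _).symm

/-- if the germ of a section at a point of an affine open vanishes, it is killed by a section
which is a unit at that point. -/
lemma exists_isUnit_germ_mul_eq_zero {U : X.Opens} (hU : IsAffineOpen U) (x : X) (hx : x ∈ U)
    (b : Γ(X, U)) (hb : X.presheaf.germ U x hx b = 0) :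
    ∃ u : Γ(X, U), IsUnit (X.presheaf.germ U x hx u) ∧ u * b = 0 := by
  letI : Algebra Γ(X, U) (X.presheaf.stalk x) :=
    TopCat.Presheaf.algebra_section_stalk X.presheaf ⟨x, hx⟩
  haveI := hU.isLocalization_stalk ⟨x, hx⟩
  obtain ⟨m, hm⟩ := (IsLocalization.map_eq_zero_iff (hU.primeIdealOf ⟨x, hx⟩).asIdeal.primeCompl
    (X.presheaf.stalk x) b).mp hb
  exact ⟨m.1, isUnit_germ_of_notMem hU x hx m.1 m.2, hm⟩

/-- every element of the stalk at a point of an affine open is a germ up to a unit germ. -/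
lemma exists_germ_eq_mul {U : X.Opens} (hU : IsAffineOpen U) (x : X) (hx : x ∈ U)
    (s : X.presheaf.stalk x) :
    ∃ b t : Γ(X, U), IsUnit (X.presheaf.germ U x hx t) ∧
      s * X.presheaf.germ U x hx t = X.presheaf.germ U x hx b := by
  letI : Algebra Γ(X, U) (X.presheaf.stalk x) :=
    TopCat.Presheaf.algebra_section_stalk X.presheaf ⟨x, hx⟩
  haveI := hU.isLocalization_stalk ⟨x, hx⟩
  obtain ⟨⟨b, t⟩, hbt⟩ := IsLocalization.surj (hU.primeIdealOf ⟨x, hx⟩).asIdeal.primeCompl s
  exact ⟨b, t.1, isUnit_germ_of_notMem hU x hx t.1 t.2, hbt⟩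

lemma not_isUnit_germ_of_mem {U : X.Opens} (hU : IsAffineOpen U) (x : X) (hx : x ∈ U)
    (b : Γ(X, U)) (hb : b ∈ (hU.primeIdealOf ⟨x, hx⟩).asIdeal) :
    ¬ IsUnit (X.presheaf.germ U x hx b) := by
  letI : Algebra Γ(X, U) (X.presheaf.stalk x) :=
    TopCat.Presheaf.algebra_section_stalk X.presheaf ⟨x, hx⟩
  haveI := hU.isLocalization_stalk ⟨x, hx⟩
  intro hu
  have := (IsLocalization.AtPrime.isUnit_to_map_iff (X.presheaf.stalk x)
    (hU.primeIdealOf ⟨x, hx⟩).asIdeal b).mp hu
  exact this hb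

/-- **Flatness at a point over a Bezout (e.g. valuation) local domain**: if the image of every
associated generization of `x` has a field as local ring, then `f` is flat at `x`. -/
theorem flat_stalkMap_of_ass (f : X ⟶ Y) (x : X)
    [IsDomain (Y.presheaf.stalk (f x))] [IsBezout (Y.presheaf.stalk (f x))]
    (hass : ∀ x' : X, x' ⤳ x → Curv2.IsAssPoint (Coh.structureModule X) x' →
      IsField (Y.presheaf.stalk (f x'))) :
    (f.stalkMap x).hom.Flat := by
  obtain ⟨V, hV, hfxV, -⟩ :=
    exists_isAffineOpen_mem_and_subset (x := f x) (U := (⊤ : Y.Opens)) trivial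
  have hxV' : x ∈ f ⁻¹ᵁ V := hfxV
  obtain ⟨U, hU, hxU, e⟩ := exists_isAffineOpen_mem_and_subset (x := x) (U := f ⁻¹ᵁ V) hxV'
  letI algRS : Algebra (Y.presheaf.stalk (f x)) (X.presheaf.stalk x) := (f.stalkMap x).hom.toAlgebra
  show Module.Flat (Y.presheaf.stalk (f x)) (X.presheaf.stalk x)
  rw [Module.Flat.flat_iff_torsion_eq_bot_of_isBezout, eq_bot_iff]
  intro s hs
  rw [Submodule.mem_torsion_iff] at hs
  obtain ⟨⟨r, hr⟩, hrs⟩ := hs
  rw [Submodule.mem_bot]
  by_contra hs0
  have hr0 : r ≠ 0 := nonZeroDivisors.ne_zero hr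
  have hrs' : (f.stalkMap x).hom r * s = 0 := by
    have : r • s = 0 := hrs
    rwa [Algebra.smul_def] at this
  -- write `r` and `s` as germs
  obtain ⟨a, t, ht, hat⟩ := exists_germ_eq_mul hV (f x) hfxV r
  obtain ⟨b, t', ht', hbt'⟩ := exists_germ_eq_mul hU x hxU s
  have ha0 : Y.presheaf.germ V (f x) hfxV a ≠ 0 := by
    rw [← hat]
    exact mul_ne_zero hr0 ht.ne_zero
  have hb0 : X.presheaf.germ U x hxU b ≠ 0 := by
    rw [← hbt']
    intro h
    exact hs0 (ht'.mul_left_eq_zero.mp h)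
  have hprod : X.presheaf.germ U x hxU ((f.appLE V U e).hom a * b) = 0 := by
    rw [map_mul, ← stalkMap_germ_appLE f e x hxU a, ← hat, ← hbt', map_mul]
    calc (f.stalkMap x).hom r * (f.stalkMap x).hom (Y.presheaf.germ V (f x) hfxV t) *
          (s * X.presheaf.germ U x hxU t')
        = ((f.stalkMap x).hom r * s) * ((f.stalkMap x).hom (Y.presheaf.germ V (f x) hfxV t) *
          X.presheaf.germ U x hxU t') := by ring
      _ = 0 := by rw [hrs', zero_mul]
  obtain ⟨u, hu, hu0⟩ := exists_isUnit_germ_mul_eq_zero hU x hxU _ hprod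
  have hn : X.presheaf.germ U x hxU (u * b) ≠ 0 := by
    rw [map_mul]
    intro h
    exact hb0 (hu.mul_right_eq_zero.mp h)
  obtain ⟨x', hx'U, hspec, hweak, hann⟩ := exists_weakAss_generization_ring hU x hxU (u * b) hn
  have hmem : (f.appLE V U e).hom a ∈ (hU.primeIdealOf ⟨x', hx'U⟩).asIdeal := by
    apply hann
    rw [← hu0]
    ring
  have hfld := hass x' hspec ((isAssPoint_iff_isWeakAssPoint _ _).mpr hweak)
  have hfx'V : f x' ∈ V := e hx'U
  have hnu := not_isUnit_germ_of_mem hU x' hx'U _ hmem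
  rw [← stalkMap_germ_appLE f e x' hx'U a] at hnu
  have ha' : Y.presheaf.germ V (f x') hfx'V a = 0 := by
    by_contra h
    obtain ⟨c, hc⟩ := hfld.mul_inv_cancel h
    exact hnu ((IsUnit.of_mul_eq_one _ hc).map (f.stalkMap x').hom)
  obtain ⟨v, hv, hva⟩ := exists_isUnit_germ_mul_eq_zero hV (f x') hfx'V a ha'
  have hv0 : Y.presheaf.germ V (f x) hfxV v = 0 := by
    have : Y.presheaf.germ V (f x) hfxV v * Y.presheaf.germ V (f x) hfxV a = 0 := by
      rw [← map_mul, hva, map_zero]
    exact (mul_eq_zero.mp this).resolve_right ha0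
  obtain ⟨w, hw, hwv⟩ := exists_isUnit_germ_mul_eq_zero hV (f x) hfxV v hv0
  have hspec' : f x' ⤳ f x := hspec.map f.continuous
  have hw' : IsUnit (Y.presheaf.germ V (f x') hfx'V w) := by
    have h1 : f x ∈ Y.basicOpen w := (Scheme.mem_basicOpen Y w (f x) hfxV).mpr hw
    have h2 : f x' ∈ Y.basicOpen w := hspec'.mem_open (Y.basicOpen w).isOpen h1
    exact (Scheme.mem_basicOpen Y w (f x') hfx'V).mp h2
  have h0 : IsUnit (Y.presheaf.germ V (f x') hfx'V (w * v)) := by
    rw [map_mul]
    exact hw'.mul hv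
  rw [hwv, map_zero] at h0
  exact not_isUnit_zero h0


section Alg

/-- a regular local ring of dimension `≤ 1` is a Bezout domain. -/
theorem isBezout_of_regular (R : Type u) [CommRing R] [IsRegularLocalRing R] [IsDomain R]
    (h : ringKrullDim R ≤ 1) : IsBezout R := by
  have h1 := (IsRegularLocalRing.iff_finrank_cotangentSpace R).mp inferInstance
  have h2 : ((Module.finrank (ResidueField R) (CotangentSpace R) : ℕ) : WithBot ℕ∞) ≤ 1 := by
    rw [h1]; exact h
  have h3 : Module.finrank (ResidueField R) (CotangentSpace R) ≤ 1 := by exact_mod_cast h2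
  haveI : ValuationRing R :=
    ((tfae_of_isNoetherianRing_of_isLocalRing_of_isDomain R).out 5 1).mp h3
  infer_instance

/-- a regular local ring of dimension `0` is a field. -/
theorem isField_of_regular_dim_zero (R : Type u) [CommRing R] [IsRegularLocalRing R]
    (h : ringKrullDim R = 0) : IsField R := by
  haveI := Groth.Agent.H7.Reg.isDomain R
  haveI : Ring.KrullDimLE 0 R := Ring.krullDimLE_iff.mpr (by rw [h]; rfl)
  exact Ring.KrullDimLE.isField_of_isDomain

end Alg

/-- **Flatness criterion**: over a base whose local rings are regular of dimension `≤ 1`, a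
morphism is flat as soon as every associated point of the source maps to a point with
zero-dimensional local ring. -/
theorem flat_of_ass (f : X ⟶ Y)
    (hreg : ∀ y : Y, IsRegularLocalRing (Y.presheaf.stalk y))
    (hdim : ∀ y : Y, ringKrullDim (Y.presheaf.stalk y) ≤ 1)
    (hass : ∀ x : X, Curv2.IsAssPoint (Coh.structureModule X) x →
      ringKrullDim (Y.presheaf.stalk (f x)) = 0) : Flat f := by
  rw [Flat.iff_flat_stalkMap]
  intro x
  haveI := hreg (f x)
  haveI := Groth.Agent.H7.Reg.isDomain (Y.presheaf.stalk (f x))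
  haveI := isBezout_of_regular (Y.presheaf.stalk (f x)) (hdim (f x))
  apply flat_stalkMap_of_ass f x
  intro x' _ hx'
  haveI := hreg (f x')
  exact isField_of_regular_dim_zero _ (hass x' hx')

/-- **Converse**: if `f` is flat and `Y` is integral, associated points of `X` map to the generic
point of `Y`. -/
theorem eq_genericPoint_of_flat_of_ass (f : X ⟶ Y) [Flat f] [IsIntegral Y] (x : X)
    (hx : Curv2.IsAssPoint (Coh.structureModule X) x) : f x = genericPoint Y := by
  by_contra hne
  have hη : genericPoint Y ⤳ f x := (genericPoint_spec Y).specializes (Set.mem_univ _)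
  have hns : ¬ (f x ⤳ genericPoint Y) := fun h => hne (h.antisymm hη).eq
  obtain ⟨S, hSo, hηS, hxS⟩ := not_specializes_iff_exists_open.mp hns
  obtain ⟨V, hV, hfxV, -⟩ :=
    exists_isAffineOpen_mem_and_subset (x := f x) (U := (⊤ : Y.Opens)) trivial
  have hηV : genericPoint Y ∈ V := hη.mem_open V.isOpen hfxV
  have hxV' : x ∈ f ⁻¹ᵁ V := hfxV
  obtain ⟨U, hU, hxU, e⟩ := exists_isAffineOpen_mem_and_subset (x := x) (U := f ⁻¹ᵁ V) hxV'
  let S' : Y.Opens := ⟨S, hSo⟩
  obtain ⟨a, haS, hηa⟩ := hV.exists_basicOpen_le (V := S') ⟨genericPoint Y, hηS⟩ hηV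
  have hfxa : f x ∉ Y.basicOpen a := fun h => hxS (haS h)
  have ha0 : a ≠ 0 := by
    rintro rfl
    rw [Scheme.basicOpen_zero] at hηa
    exact hηa
  haveI : Nonempty ↥(V : Scheme.{u}) := ⟨⟨f x, hfxV⟩⟩
  haveI : IsDomain Γ(Y, V) := IsIntegral.component_integral V
  -- flatness of the ring map
  have hflat : (f.appLE V U e).hom.Flat :=
    HasRingHomProperty.appLE (P := @Flat) f inferInstance ⟨V, hV⟩ ⟨U, hU⟩ e
  letI algBA : Algebra Γ(Y, V) Γ(X, U) := (f.appLE V U e).hom.toAlgebra
  haveI : Module.Flat Γ(Y, V) Γ(X, U) := hflat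
  have hreg : IsSMulRegular Γ(X, U) a :=
    Module.Flat.isSMulRegular_of_nonZeroDivisors (mem_nonZeroDivisors_of_ne_zero ha0)
  have hreg' : ∀ (k : ℕ) (c : Γ(X, U)), (f.appLE V U e).hom a ^ k * c = 0 → c = 0 := by
    intro k
    induction k with
    | zero => intro c hc; simpa using hc
    | succ k ih =>
      intro c hc
      apply ih
      have h1 : a • ((f.appLE V U e).hom a ^ k * c) = a • (0 : Γ(X, U)) := by
        rw [smul_zero, Algebra.smul_def]
        show (f.appLE V U e).hom a * _ = 0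
        rw [← hc]
        ring
      exact hreg h1
  -- `φ a` lies in the prime of `x`
  have hmem : (f.appLE V U e).hom a ∈ (hU.primeIdealOf ⟨x, hxU⟩).asIdeal := by
    by_contra hnot
    have hu := isUnit_germ_of_notMem hU x hxU _ hnot
    rw [← stalkMap_germ_appLE f e x hxU a] at hu
    have hu' : IsUnit (Y.presheaf.germ V (f x) hfxV a) := (isUnit_map_iff (f.stalkMap x).hom _).mp hu
    exact hfxa ((Scheme.mem_basicOpen Y a (f x) hfxV).mpr hu')
  -- the prime of `x` is weakly associated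
  have hweak := (isAssPoint_iff_isWeakAssPoint _ _).mp hx
  rw [isWeakAssPoint_iff_mem_weakAss (Coh.structureModule X) hU x hxU, mem_weakAss_iff] at hweak
  obtain ⟨n, hn⟩ := hweak
  obtain ⟨s, hs, k, hsk⟩ := exists_notMem_mul_pow_mem_of_mem_minimalPrimes hn hmem
  have hsk' : (s * (f.appLE V U e).hom a ^ k) * (show Γ(X, U) from n) = 0 := hsk
  have h2 : s * (show Γ(X, U) from n) = 0 := by
    apply hreg' k
    rw [← hsk']
    ring
  have h3 : s ∈ (LinearMap.ker (LinearMap.toSpanSingleton Γ(X, U) Γ(Coh.structureModule X, U) n) :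
      Ideal Γ(X, U)) := h2
  exact hs (hn.1.2 h3)

end Groth.Agent.H3.AssFlatDim1
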