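import Mathlib
import Groth.Prelude.Def_FDesc
import Groth.Agent.Lib.Lead.QC.WeakAssReduced
import Groth.Agent.Lib.Lead.QC.AssPoint
import Groth.Agent.Lib.Helper2.ProConsLib

set_option autoImplicit false

universe u

open AlgebraicGeometry CategoryTheory CategoryTheory.Limits TopologicalSpace IsLocalRing

namespace Groth.Agent.H3.AssFlatMax

section Alg

/-- flat module with the maximal ideal associated upstairs: the maximal ideal of the base is
associated to the base. -/
theorem isAssociatedPrime_maximalIdeal_of_flat {A B M : Type u} [CommRing A] [CommRing B]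
    [IsLocalRing A] [IsLocalRing B] [IsNoetherianRing A] (φ : A →+* B) [IsLocalHom φ]
    [AddCommGroup M] [Module B M]
    (hflat : letI := Module.compHom M φ; Module.Flat A M)
    (h : IsAssociatedPrime (maximalIdeal B) M) : IsAssociatedPrime (maximalIdeal A) A := by
  letI := Module.compHom M φ
  haveI : Module.Flat A M := hflat
  obtain ⟨s, hs⟩ := h.2
  have hs0 : s ≠ 0 := by
    rintro rfl
    have h0 : (Submodule.colon (⊥ : Submodule B M) {(0 : M)} : Ideal B) = ⊤ := by
      ext r
      simp [Submodule.mem_colon_singleton]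
    rw [h0, Ideal.radical_top] at hs
    exact (maximalIdeal.isMaximal B).ne_top hs
  have hzd : (maximalIdeal A : Set A) ⊆ (nonZeroDivisors A : Set A)ᶜ := by
    intro a ha hreg
    have hφ : φ a ∈ maximalIdeal B := by
      have ha' : a ∈ maximalIdeal A := ha
      rw [IsLocalRing.mem_maximalIdeal, mem_nonunits_iff] at ha' ⊢
      exact fun h => ha' (isUnit_of_map_unit φ a h)
    rw [hs] at hφ
    obtain ⟨n, hn⟩ := hφ
    rw [Submodule.mem_colon_singleton, Submodule.mem_bot] at hn
    have hreg' : IsSMulRegular M (a ^ n) :=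
      Module.Flat.isSMulRegular_of_nonZeroDivisors (pow_mem hreg n)
    have h1 : a ^ n • s = (a ^ n) • (0 : M) := by
      rw [smul_zero]
      show φ (a ^ n) • s = 0
      rw [map_pow]
      exact hn
    exact hs0 (hreg' h1)
  rw [← biUnion_associatedPrimes_eq_compl_nonZeroDivisors] at hzd
  have hfin := associatedPrimes.finite A A
  have hsub : (maximalIdeal A : Set A) ⊆ ⋃ i ∈ (↑hfin.toFinset : Set (Ideal A)), (id i : Ideal A) := by
    intro a ha
    have := hzd ha
    simp only [Set.mem_iUnion] at this ⊢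
    obtain ⟨p, hp, hap⟩ := this
    exact ⟨p, by simpa using hp, hap⟩
  obtain ⟨p, hp, hle⟩ := (Ideal.subset_union_prime (s := hfin.toFinset) (f := id) ⊤ ⊤
    (fun i hi _ _ => (hfin.mem_toFinset.1 hi).isPrime)).1 hsub
  have hpass : IsAssociatedPrime p A := hfin.mem_toFinset.1 hp
  have hpe : p = maximalIdeal A :=
    le_antisymm (IsLocalRing.le_maximalIdeal hpass.isPrime.ne_top) hle
  exact hpe ▸ hpass

end Alg

open Groth.Agent.LD.QC

section Sch

variable {Y : Scheme.{u}}

/-- a maximal point is a weakly associated point of the structure sheaf. -/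
theorem isWeakAssPoint_structureModule_of_maximal (y : Y) (hmax : ∀ z : Y, z ⤳ y → z = y) :
    Curv2.IsWeakAssPoint (Coh.structureModule Y) y := by
  obtain ⟨U, hU, hxU, -⟩ := exists_isAffineOpen_mem_and_subset (x := y) (U := (⊤ : Y.Opens))
    (Set.mem_univ _)
  rw [isWeakAssPoint_iff_mem_weakAss (Coh.structureModule Y) hU y hxU, mem_weakAss_iff]
  have hmin := primeIdealOf_mem_minimalPrimes_of_maximal hU y hxU hmax
  refine ⟨(show Γ(Coh.structureModule Y, U) from (1 : Γ(Y, U))), ?_⟩
  have hker : (LinearMap.ker (LinearMap.toSpanSingleton Γ(Y, U) Γ(Coh.structureModule Y, U)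
      (show Γ(Coh.structureModule Y, U) from (1 : Γ(Y, U)))) : Ideal Γ(Y, U)) = ⊥ := by
    rw [eq_bot_iff]
    intro a ha
    have : a * (1 : Γ(Y, U)) = 0 := ha
    rw [mul_one] at this
    exact this
  rw [hker]
  exact hmin

/-- if the maximal ideal of the local ring is associated to the local ring, then the point is a
weakly associated point of the structure sheaf. -/
theorem isWeakAssPoint_structureModule_of_isAssociatedPrime (y : Y)
    (h : IsAssociatedPrime (maximalIdeal (Y.presheaf.stalk y)) (Y.presheaf.stalk y)) :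
    Curv2.IsWeakAssPoint (Coh.structureModule Y) y := by
  obtain ⟨U, hU, hxU, -⟩ := exists_isAffineOpen_mem_and_subset (x := y) (U := (⊤ : Y.Opens))
    (Set.mem_univ _)
  rw [isWeakAssPoint_iff_mem_weakAss (Coh.structureModule Y) hU y hxU, mem_weakAss_iff]
  letI algBA : Algebra Γ(Y, U) (Y.presheaf.stalk y) :=
    TopCat.Presheaf.algebra_section_stalk Y.presheaf ⟨y, hxU⟩
  haveI hloc := hU.isLocalization_stalk ⟨y, hxU⟩
  obtain ⟨t, ht⟩ := h.2
  rw [colon_bot_singleton_eq_ker] at ht
  obtain ⟨b, s, rfl⟩ := IsLocalization.exists_mk'_eq (hU.primeIdealOf ⟨y, hxU⟩).asIdeal.primeCompl t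
  refine ⟨(show Γ(Coh.structureModule Y, U) from b), ?_⟩
  have hsu : IsUnit (algebraMap Γ(Y, U) (Y.presheaf.stalk y) s) :=
    IsLocalization.map_units (Y.presheaf.stalk y) s
  have hker : (LinearMap.ker (LinearMap.toSpanSingleton (Y.presheaf.stalk y)
      (Y.presheaf.stalk y) (IsLocalization.mk' (Y.presheaf.stalk y) b s)) :
      Ideal (Y.presheaf.stalk y)) =
      LinearMap.ker (LinearMap.toSpanSingleton (Y.presheaf.stalk y)
        (Y.presheaf.stalk y) (Algebra.linearMap Γ(Y, U) (Y.presheaf.stalk y) b)) := by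
    ext a
    change a * IsLocalization.mk' (Y.presheaf.stalk y) b s = 0 ↔
      a * algebraMap Γ(Y, U) (Y.presheaf.stalk y) b = 0
    rw [← IsLocalization.mk'_spec (Y.presheaf.stalk y) b s, ← mul_assoc]
    exact (hsu.mul_left_eq_zero).symm
  rw [hker, ker_toSpanSingleton_localized (hU.primeIdealOf ⟨y, hxU⟩).asIdeal.primeCompl
    (Algebra.linearMap Γ(Y, U) (Y.presheaf.stalk y)) b] at ht
  exact (radical_map_eq_maximalIdeal_iff (hU.primeIdealOf ⟨y, hxU⟩).asIdeal
    (Y.presheaf.stalk y) _).mp ht.symm

end Sch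

open Groth.Agent.H2.ProConsLib in
theorem main {X Y : Scheme.{u}} (f : X ⟶ Y)
    [IsLocallyNoetherian Y] (hY : AssSch.NoEmbedded (Coh.structureModule Y)) (F : X.Modules)
    (hfl : FlatMod.IsFlatOver f F) (x : X) (hx : x ∈ AssSch.Ass F) (y : Y) (hy : y ⤳ f x) :
    y = f x := by
  have h1 : f x ∈ AssSch.Ass (Coh.structureModule Y) := by
    show Curv2.IsAssPoint _ _
    rw [isAssPoint_iff_isWeakAssPoint]
    apply isWeakAssPoint_structureModule_of_isAssociatedPrime
    exact isAssociatedPrime_maximalIdeal_of_flat (f.stalkMap x).hom (M := F.presheaf.stalk x)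
      (hfl x) hx
  obtain ⟨η, hη, hmax⟩ := exists_maximal_generization y
  have h2 : η ∈ AssSch.Ass (Coh.structureModule Y) := by
    show Curv2.IsAssPoint _ _
    rw [isAssPoint_iff_isWeakAssPoint]
    exact isWeakAssPoint_structureModule_of_maximal η hmax
  have h3 : f x = η := hY (f x) h1 η h2 (hη.trans hy)
  rw [h3] at hy ⊢
  exact (hy.antisymm hη).eq

end Groth.Agent.H3.AssFlatMax
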