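import Mathlib

set_option autoImplicit false
universe u
open scoped TensorProduct
open Function
open CategoryTheory CategoryTheory.Limits AlgebraicGeometry

namespace Groth.Agent.H3.FinRankK

open Ideal Submodule in
/-- A finite module over a semilocal ring all of whose fibres at maximal ideals have dimension
`≤ n` is generated by `n` elements. -/
theorem exists_span_eq_top (A : Type*) [CommRing A] [Finite (MaximalSpectrum A)]
    (M : Type*) [AddCommGroup M] [Module A M] [Module.Finite A M] (n : ℕ)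
    (h : ∀ P : MaximalSpectrum A,
      Module.finrank (A ⧸ P.asIdeal) ((A ⧸ P.asIdeal) ⊗[A] M) ≤ n) :
    ∃ y : Fin n → M, Submodule.span A (Set.range y) = ⊤ := by
  classical
  let := @Ideal.Quotient.field
  have hcop : Pairwise (IsCoprime on fun P : MaximalSpectrum A => P.asIdeal) :=
    fun _ _ ne ↦ isCoprime_of_isMaximal (MaximalSpectrum.ext_iff.ne.mp ne)
  -- spanning families of the fibres
  have hv : ∀ P : MaximalSpectrum A, ∃ v : Fin n → (A ⧸ P.asIdeal) ⊗[A] M,
      Submodule.span (A ⧸ P.asIdeal) (Set.range v) = ⊤ := by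
    intro P
    let b := Module.finBasis (A ⧸ P.asIdeal) ((A ⧸ P.asIdeal) ⊗[A] M)
    refine ⟨fun i => if hi : (i : ℕ) < Module.finrank (A ⧸ P.asIdeal) ((A ⧸ P.asIdeal) ⊗[A] M)
      then b ⟨i, hi⟩ else 0, ?_⟩
    rw [eq_top_iff, ← b.span_eq]
    apply Submodule.span_mono
    rintro _ ⟨j, rfl⟩
    refine ⟨⟨j, lt_of_lt_of_le j.2 (h P)⟩, ?_⟩
    simp
  choose v hv using hv
  choose y hy using fun k : Fin n => pi_tensorProductMk_quotient_surjective M _ hcop (v · k)
  refine ⟨y, ?_⟩
  set N := Submodule.span A (Set.range y) with hN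
  rw [eq_top_iff]
  apply Submodule.le_of_le_smul_of_le_jacobson_bot (I := ⨅ P : MaximalSpectrum A, P.asIdeal)
    (Module.Finite.fg_top)
  · rw [Ideal.jacobson_bot, Ring.jacobson_eq_sInf_isMaximal]
    apply le_sInf
    intro J hJ
    exact iInf_le (fun P : MaximalSpectrum A => P.asIdeal) ⟨J, hJ⟩
  · intro z _
    -- coefficients in each fibre
    have hc : ∀ P : MaximalSpectrum A, ∃ c : Fin n → A ⧸ P.asIdeal,
        ∑ k, c k • v P k = (1 : A ⧸ P.asIdeal) ⊗ₜ[A] z := by
      intro P
      have : (1 : A ⧸ P.asIdeal) ⊗ₜ[A] z ∈ Submodule.span (A ⧸ P.asIdeal) (Set.range (v P)) := by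
        rw [hv P]; trivial
      exact (Submodule.mem_span_range_iff_exists_fun _).mp this
    choose c hc using hc
    choose r hr using fun k : Fin n => Ideal.pi_quotient_surjective hcop (fun P => c P k)
    have hker : z - ∑ k, r k • y k ∈
        LinearMap.ker (LinearMap.pi fun P : MaximalSpectrum A => TensorProduct.mk A (A ⧸ P.asIdeal) M 1) := by
      rw [LinearMap.mem_ker]
      ext P
      have hyP : ∀ k, (1 : A ⧸ P.asIdeal) ⊗ₜ[A] y k = v P k := fun k => congrFun (hy k) P
      simp only [LinearMap.pi_apply, TensorProduct.mk_apply, Pi.zero_apply, TensorProduct.tmul_sub,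
        TensorProduct.tmul_sum, TensorProduct.tmul_smul]
      rw [sub_eq_zero, ← hc P]
      apply Finset.sum_congr rfl
      intro k _
      rw [hyP, ← hr k P]
      rfl
    rw [ker_tensorProductMk_quotient M _ hcop] at hker
    have : z = ∑ k, r k • y k + (z - ∑ k, r k • y k) := by abel
    rw [this]
    apply Submodule.add_mem_sup
    · apply Submodule.sum_mem
      intro k _
      exact Submodule.smul_mem _ _ (Submodule.subset_span ⟨k, rfl⟩)
    · exact hker

/-- Field case of the counting lemma: `A → B` finite-dimensional algebras over a field with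
`dim B = n * dim A` and all fibres of dimension `≤ n`: then `B` is free of rank `n` over `A`. -/
theorem nonempty_basis_of_field (κ A B : Type*) [Field κ] [CommRing A] [CommRing B] [Algebra κ A]
    [Algebra κ B] [Algebra A B] [IsScalarTower κ A B] [Module.Finite κ A] [Module.Finite κ B]
    (n : ℕ) (hdim : Module.finrank κ B = n * Module.finrank κ A)
    (hfib : ∀ P : MaximalSpectrum A,
      Module.finrank (A ⧸ P.asIdeal) ((A ⧸ P.asIdeal) ⊗[A] B) ≤ n) :
    Nonempty (Module.Basis (Fin n) A B) := by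
  have : IsArtinianRing A := IsArtinianRing.of_finite κ A
  have : Module.Finite A B := Module.Finite.of_restrictScalars_finite κ A B
  obtain ⟨y, hy⟩ := exists_span_eq_top A B n hfib
  let ψ : (Fin n → A) →ₗ[A] B := Fintype.linearCombination A y
  have hsurj : Function.Surjective ψ := by
    rw [← LinearMap.range_eq_top, Fintype.range_linearCombination, hy]
  have hrk : Module.finrank κ (Fin n → A) = Module.finrank κ B := by
    rw [Module.finrank_pi_fintype, hdim]; simp
  have hinj : Function.Injective (ψ.restrictScalars κ) :=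
    (LinearMap.injective_iff_surjective_of_finrank_eq_finrank hrk).mpr hsurj
  exact ⟨Module.Basis.ofEquivFun (LinearEquiv.ofBijective ψ ⟨hinj, hsurj⟩).symm⟩

/-- the fibre-rank hypothesis: every base change of `φ` to a field has rank `≤ n`. -/
def Hfib {X Y : Scheme.{u}} (φ : X ⟶ Y) (n : ℕ) : Prop :=
  ∀ (K : Type u) [Field K] (t : Spec (.of K) ⟶ Y) (z : Spec (.of K)),
    Scheme.Hom.finrank (pullback.fst t φ) z ≤ n

lemma finrank_fst_spec (A K B : Type u) [CommRing A] [Field K] [CommRing B] [Algebra A K]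
    [Algebra A B] [Module.Finite A B] (z : Spec (.of K)) :
    Scheme.Hom.finrank (pullback.fst (Spec.map (CommRingCat.ofHom (algebraMap A K)))
      (Spec.map (CommRingCat.ofHom (algebraMap A B)))) z = Module.finrank K (K ⊗[A] B) := by
  have h1 : pullback.fst (Spec.map (CommRingCat.ofHom (algebraMap A K)))
      (Spec.map (CommRingCat.ofHom (algebraMap A B))) =
      (pullbackSpecIso A K B).hom ≫
        Spec.map (CommRingCat.ofHom (algebraMap K (K ⊗[A] B))) := by
    rw [← Iso.inv_comp_eq, pullbackSpecIso_inv_fst]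
  rw [h1]
  have : Module.Finite K (K ⊗[A] B) := inferInstance
  have : Module.Flat K (K ⊗[A] B) := inferInstance
  have h2 : Flat (Spec.map (CommRingCat.ofHom (algebraMap K (K ⊗[A] B)))) := by
    rw [Flat.SpecMap_iff]; simpa [RingHom.flat_algebraMap_iff]
  have h3 : IsFinite (Spec.map (CommRingCat.ofHom (algebraMap K (K ⊗[A] B)))) := by
    rw [IsFinite.SpecMap_iff]; simpa [RingHom.finite_algebraMap]
  rw [Scheme.Hom.finrank_comp_left_of_isIso, Scheme.Hom.finrank_SpecMap_algebraMap,
    Module.rankAtStalk_eq_finrank_of_free]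
  rfl

/-- Field case, `Spec` form. -/
theorem fc_spec (κ A B : Type u) [Field κ] [CommRing A] [CommRing B] [Algebra κ A] [Algebra A B]
    [Algebra κ B] [IsScalarTower κ A B] [Module.Finite κ A] [Module.Finite κ B] (n : ℕ)
    (hdim : Module.finrank κ B = n * Module.finrank κ A)
    (H : Hfib (Spec.map (CommRingCat.ofHom (algebraMap A B))) n) :
    Nonempty (Module.Basis (Fin n) A B) := by
  apply nonempty_basis_of_field κ A B n hdim
  intro P
  let _ : Field (A ⧸ P.asIdeal) := Ideal.Quotient.field P.asIdeal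
  have : Module.Finite A B := Module.Finite.of_restrictScalars_finite κ A B
  obtain ⟨z⟩ : Nonempty (Spec (.of (A ⧸ P.asIdeal))) := inferInstance
  have := H (A ⧸ P.asIdeal) (Spec.map (CommRingCat.ofHom (algebraMap A (A ⧸ P.asIdeal)))) z
  rwa [finrank_fst_spec] at this

/-- iso-invariance of `finrank`. -/
lemma finrank_of_arrow_iso {X Y X' Y' : Scheme.{u}} (φ : X ⟶ Y) (φ' : X' ⟶ Y') (eX : X ≅ X')
    (eY : Y ≅ Y') (w : φ ≫ eY.hom = eX.hom ≫ φ') [Flat φ'] [IsFinite φ'] (y : Y) :
    Scheme.Hom.finrank φ y = Scheme.Hom.finrank φ' (eY.hom y) := by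
  have h : IsPullback eX.hom φ φ' eY.hom := IsPullback.of_horiz_isIso ⟨w.symm⟩
  exact Scheme.Hom.finrank_of_isPullback eX.hom φ φ' eY.hom h y

/-- iso-invariance of the fibre-rank hypothesis. -/
lemma Hfib.of_arrow_iso {X Y X' Y' : Scheme.{u}} {φ : X ⟶ Y} {n : ℕ} (h : Hfib φ n) [IsFinite φ]
    (φ' : X' ⟶ Y') (eX : X ≅ X') (eY : Y ≅ Y') (w : φ ≫ eY.hom = eX.hom ≫ φ') : Hfib φ' n := by
  intro K _ t' z
  have sq : IsPullback (pullback.fst t' φ') (pullback.snd t' φ' ≫ eX.inv) (t' ≫ eY.inv) φ := by
    refine (IsPullback.of_hasPullback t' φ').of_iso (Iso.refl _) (Iso.refl _) eX.symm eY.symm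
      (by simp) (by simp) (by simp) ?_
    simp only [Iso.symm_hom]
    rw [Iso.eq_inv_comp, ← Category.assoc, Iso.comp_inv_eq]
    exact w.symm
  have hc : sq.isoPullback.hom ≫ pullback.fst (t' ≫ eY.inv) φ = pullback.fst t' φ' :=
    sq.isoPullback_hom_fst
  rw [← hc, Scheme.Hom.finrank_comp_left_of_isIso]
  exact h K _ z

/-- **Field case** of the counting lemma for schemes: `X → Y → Spec κ` finite with
`rank X = n * rank Y` and all fibres of `φ` of rank `≤ n`: then `φ` is flat of constant rank `n`. -/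
theorem fc {κ : Type u} [Field κ] {X Y : Scheme.{u}} (φ : X ⟶ Y) (g : Y ⟶ Spec (.of κ))
    [IsFinite g] [IsFinite (φ ≫ g)] (n : ℕ) (pt : Spec (.of κ))
    (hrk : Scheme.Hom.finrank (φ ≫ g) pt = n * Scheme.Hom.finrank g pt) (H : Hfib φ n) :
    Flat φ ∧ ∀ y, Scheme.Hom.finrank φ y = n := by
  have : IsAffine Y := isAffine_of_isAffineHom g
  have : IsAffine X := isAffine_of_isAffineHom (φ ≫ g)
  let A : CommRingCat.{u} := Γ(Y, ⊤)
  let B : CommRingCat.{u} := Γ(X, ⊤)
  let f : A ⟶ B := φ.appTop
  have w : φ ≫ Y.isoSpec.hom = X.isoSpec.hom ≫ Spec.map f := (Scheme.isoSpec_hom_naturality φ).symm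
  let γ : CommRingCat.of κ ⟶ A := Spec.preimage (Y.isoSpec.inv ≫ g)
  have hγ : Spec.map γ = Y.isoSpec.inv ≫ g := Spec.map_preimage _
  let _ : Algebra κ A := γ.hom.toAlgebra
  let _ : Algebra A B := f.hom.toAlgebra
  let _ : Algebra κ B := (γ ≫ f).hom.toAlgebra
  have : IsScalarTower κ A B := IsScalarTower.of_algebraMap_eq (fun _ => rfl)
  have hfl : Flat (Spec.map γ) := inferInstance
  have hfin1 : IsFinite (Spec.map γ) := by rw [hγ]; infer_instance
  have hγf : Spec.map (γ ≫ f) = X.isoSpec.inv ≫ (φ ≫ g) := by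
    rw [Spec.map_comp, hγ, ← Category.assoc, ← Category.assoc, Scheme.isoSpec_inv_naturality]
  have hfin2 : IsFinite (Spec.map (γ ≫ f)) := by rw [hγf]; infer_instance
  have i1 : Module.Finite κ A := RingHom.finite_algebraMap.mp ((IsFinite.SpecMap_iff _).mp hfin1)
  have i2 : Module.Finite κ B := RingHom.finite_algebraMap.mp ((IsFinite.SpecMap_iff _).mp hfin2)
  have r1 : Module.finrank κ A = Scheme.Hom.finrank g pt := by
    have := Scheme.Hom.finrank_SpecMap_algebraMap κ A pt
    rw [Module.rankAtStalk_eq_finrank_of_free] at this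
    rw [← Scheme.Hom.finrank_comp_left_of_isIso Y.isoSpec.inv g, ← hγ]
    exact this.symm
  have r2 : Module.finrank κ B = Scheme.Hom.finrank (φ ≫ g) pt := by
    have := Scheme.Hom.finrank_SpecMap_algebraMap κ B pt
    rw [Module.rankAtStalk_eq_finrank_of_free] at this
    rw [← Scheme.Hom.finrank_comp_left_of_isIso X.isoSpec.inv (φ ≫ g), ← hγf]
    exact this.symm
  have hdim : Module.finrank κ B = n * Module.finrank κ A := by rw [r1, r2, hrk]
  have : IsFinite φ := IsFinite.of_comp φ g
  have H' : Hfib (Spec.map (CommRingCat.ofHom (algebraMap A B))) n :=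
    H.of_arrow_iso (Spec.map f) X.isoSpec Y.isoSpec w
  obtain ⟨b⟩ := fc_spec κ A B n hdim H'
  have : Module.Free A B := .of_basis b
  have hflat : Flat (Spec.map f) := by
    rw [Flat.SpecMap_iff]
    exact RingHom.flat_algebraMap_iff.mpr inferInstance
  have hfinf : IsFinite (Spec.map f) := by
    have : Module.Finite A B := Module.Finite.of_restrictScalars_finite κ A B
    rw [IsFinite.SpecMap_iff]
    exact RingHom.finite_algebraMap.mpr inferInstance
  refine ⟨(MorphismProperty.arrow_mk_iso_iff @Flat (Arrow.isoMk X.isoSpec Y.isoSpec w.symm)).mpr hflat,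
    fun y => ?_⟩
  rw [finrank_of_arrow_iso φ (Spec.map f) X.isoSpec Y.isoSpec w y]
  have : Module.Finite A B := Module.Finite.of_restrictScalars_finite κ A B
  have h3 := Scheme.Hom.finrank_SpecMap_algebraMap A B (Y.isoSpec.hom y)
  have : Nontrivial A := (Y.isoSpec.hom y : PrimeSpectrum A).nontrivial
  rw [Module.rankAtStalk_eq_finrank_of_free, Module.finrank_eq_card_basis b] at h3
  rw [Fintype.card_fin] at h3
  exact h3

end Groth.Agent.H3.FinRankK
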