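import Mathlib
import Groth.Agent.Lib.Helper3.FinRankK
import Groth.Agent.Lib.Helper1.CritFib4

set_option autoImplicit false
universe u
open CategoryTheory CategoryTheory.Limits AlgebraicGeometry

namespace Groth.Agent.H3.FinRankK

/-- fibrewise part of the counting lemma. -/
lemma counting_fibre {S X Y : Scheme.{u}} (φ : X ⟶ Y) (gY : Y ⟶ S)
    [IsFinite gY] [Flat gY] [IsFinite (φ ≫ gY)] [Flat (φ ≫ gY)]
    (n : ℕ) (hrk : ∀ s, Scheme.Hom.finrank (φ ≫ gY) s = n * Scheme.Hom.finrank gY s)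
    (H : Hfib φ n) (s : S) :
    Flat (pullback.snd φ (gY.fiberι s)) ∧
      ∀ y', Scheme.Hom.finrank (pullback.snd φ (gY.fiberι s)) y' = n := by
  have hfinφ : IsFinite φ := IsFinite.of_comp φ gY
  have sqB : IsPullback (gY.fiberι s) (gY.fiberToSpecResidueField s) gY
      (S.fromSpecResidueField s) := IsPullback.of_hasPullback _ _
  have sqT : IsPullback (pullback.fst φ (gY.fiberι s)) (pullback.snd φ (gY.fiberι s)) φ
      (gY.fiberι s) := IsPullback.of_hasPullback _ _
  have sq := sqT.paste_vert sqB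
  have hfin : IsFinite (pullback.snd φ (gY.fiberι s) ≫ gY.fiberToSpecResidueField s) :=
    MorphismProperty.of_isPullback (P := @IsFinite) sq inferInstance
  have hfin' : IsFinite (gY.fiberToSpecResidueField s) :=
    MorphismProperty.of_isPullback (P := @IsFinite) sqB inferInstance
  obtain ⟨pt⟩ : Nonempty (Spec (S.residueField s)) := inferInstance
  have hpt : S.fromSpecResidueField s pt = s := Scheme.fromSpecResidueField_apply _ _
  have r1 : Scheme.Hom.finrank (pullback.snd φ (gY.fiberι s) ≫ gY.fiberToSpecResidueField s) pt =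
      Scheme.Hom.finrank (φ ≫ gY) s := by
    rw [Scheme.Hom.finrank_of_isPullback _ _ _ _ sq pt, hpt]
  have r2 : Scheme.Hom.finrank (gY.fiberToSpecResidueField s) pt = Scheme.Hom.finrank gY s := by
    rw [Scheme.Hom.finrank_of_isPullback _ _ _ _ sqB pt, hpt]
  have H' : Hfib (pullback.snd φ (gY.fiberι s)) n := by
    intro K _ t' z
    have sq' := (IsPullback.of_hasPullback t' (pullback.snd φ (gY.fiberι s))).paste_vert sqT.flip
    have hc : sq'.isoPullback.hom ≫ pullback.fst (t' ≫ gY.fiberι s) φ =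
        pullback.fst t' (pullback.snd φ (gY.fiberι s)) := sq'.isoPullback_hom_fst
    rw [← hc, Scheme.Hom.finrank_comp_left_of_isIso]
    exact H K _ z
  exact fc (κ := S.residueField s) (pullback.snd φ (gY.fiberι s)) (gY.fiberToSpecResidueField s)
    n pt (by rw [r1, r2, hrk]) H'

/-- **Counting lemma.** Let `X → Y → S` with `Y` and `X` finite locally free over `S`,
`rank X = n * rank Y` and all field-valued fibres of `φ : X ⟶ Y` of rank `≤ n`.  Then `φ` is flat,
finite, locally of finite presentation and of constant rank `n`. -/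
theorem counting {S X Y : Scheme.{u}} (φ : X ⟶ Y) (gY : Y ⟶ S)
    [IsFinite gY] [Flat gY] [LocallyOfFiniteType gY]
    [IsFinite (φ ≫ gY)] [Flat (φ ≫ gY)] [LocallyOfFinitePresentation (φ ≫ gY)]
    (n : ℕ) (hrk : ∀ s, Scheme.Hom.finrank (φ ≫ gY) s = n * Scheme.Hom.finrank gY s)
    (H : Hfib φ n) :
    IsFinite φ ∧ Flat φ ∧ LocallyOfFinitePresentation φ ∧ ∀ y, Scheme.Hom.finrank φ y = n := by
  have hfinφ : IsFinite φ := IsFinite.of_comp φ gY
  have hlfp : LocallyOfFinitePresentation φ :=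
    Groth.Agent.H1.CritFib.locallyOfFinitePresentation_of_comp φ gY
  have hflat : Flat φ := by
    rw [Flat.iff_flat_stalkMap]
    intro x
    have := (counting_fibre φ gY n hrk H (gY (φ x))).1
    exact (Groth.Agent.H1.CritFib.flat_stalkMap_of_flat_snd φ gY x
      (Flat.stalkMap (φ ≫ gY) x)).2
  refine ⟨hfinφ, hflat, hlfp, fun y => ?_⟩
  have hy : y ∈ Set.range (gY.fiberι (gY y)) := by
    rw [Scheme.Hom.range_fiberι]; rfl
  obtain ⟨y', hy'⟩ := hy
  rw [← hy', ← Scheme.Hom.finrank_pullback_snd φ (gY.fiberι _) y']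
  exact (counting_fibre φ gY n hrk H (gY y)).2 y'

/-- The fibre-rank hypothesis follows from a kernel pair whose first projection is finite flat of
constant rank `n`. -/
theorem hfib_of_kernelPair {X Y P : Scheme.{u}} (φ : X ⟶ Y) [IsFinite φ] (p₁ p₂ : P ⟶ X)
    (kp : IsPullback p₁ p₂ φ φ) [IsFinite p₁] [Flat p₁] (n : ℕ)
    (hn : ∀ x, Scheme.Hom.finrank p₁ x = n) : Hfib φ n := by
  intro K _ t z
  by_cases h0 : Scheme.Hom.finrank (pullback.fst t φ) z = 0
  · rw [h0]; exact Nat.zero_le _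
  have hsurj : Surjective (pullback.fst t φ) := by
    rw [← Scheme.Hom.one_le_finrank_iff_surjective]
    intro z'
    have : z' = z := Subsingleton.elim _ _
    rw [this]
    exact Nat.one_le_iff_ne_zero.mpr h0
  obtain ⟨w, -⟩ := (pullback.fst t φ).surjective z
  obtain ⟨ℓ, -⟩ : ∃ ℓ : Spec ((pullback t φ).residueField w) ⟶ pullback t φ, True :=
    ⟨(pullback t φ).fromSpecResidueField w, trivial⟩
  obtain ⟨ξ, hξ0⟩ : ∃ ξ : Spec ((pullback t φ).residueField w) ⟶ X, ξ = ℓ ≫ pullback.snd t φ :=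
    ⟨_, rfl⟩
  have hξ : (ℓ ≫ pullback.fst t φ) ≫ t = ξ ≫ φ := by
    simp only [hξ0, Category.assoc, pullback.condition]
  have outer : IsPullback (pullback.snd (ξ ≫ φ) φ) (pullback.fst (ξ ≫ φ) φ) φ (ξ ≫ φ) :=
    (IsPullback.of_hasPullback (ξ ≫ φ) φ).flip
  -- first square
  let a : pullback (ξ ≫ φ) φ ⟶ pullback t φ :=
    pullback.lift (pullback.fst (ξ ≫ φ) φ ≫ ℓ ≫ pullback.fst t φ) (pullback.snd (ξ ≫ φ) φ)
      (by rw [Category.assoc, Category.assoc, ← Category.assoc ℓ, hξ, pullback.condition])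
  have sq1 : IsPullback a (pullback.fst (ξ ≫ φ) φ) (pullback.fst t φ) (ℓ ≫ pullback.fst t φ) := by
    refine IsPullback.of_right (h₁₂ := pullback.snd t φ) (h₂₂ := t) (v₁₃ := φ) ?_ ?_
      (IsPullback.of_hasPullback t φ).flip
    · have : a ≫ pullback.snd t φ = pullback.snd (ξ ≫ φ) φ := pullback.lift_snd _ _ _
      rw [this, hξ]
      exact outer
    · exact pullback.lift_fst _ _ _
  -- second square
  let b : pullback (ξ ≫ φ) φ ⟶ P :=
    kp.lift (pullback.fst (ξ ≫ φ) φ ≫ ξ) (pullback.snd (ξ ≫ φ) φ)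
      (by rw [Category.assoc, pullback.condition])
  have sq2 : IsPullback b (pullback.fst (ξ ≫ φ) φ) p₁ ξ := by
    refine IsPullback.of_right (h₁₂ := p₂) (h₂₂ := φ) (v₁₃ := φ) ?_ ?_ kp.flip
    · have : b ≫ p₂ = pullback.snd (ξ ≫ φ) φ := kp.lift_snd _ _ _
      rw [this]
      exact outer
    · exact kp.lift_fst _ _ _
  obtain ⟨pt⟩ : Nonempty (Spec ((pullback t φ).residueField w)) := inferInstance
  have e1 := Scheme.Hom.finrank_of_isPullback _ _ _ _ sq1 pt
  have e2 := Scheme.Hom.finrank_of_isPullback _ _ _ _ sq2 pt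
  have hz : (ℓ ≫ pullback.fst t φ) pt = z := Subsingleton.elim _ _
  rw [hz] at e1
  rw [← e1, e2, hn]

end Groth.Agent.H3.FinRankK
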