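import Mathlib
import Groth.Prelude.Def_BT
import Groth.Agent.Lib.Helper3.FinRankK2
import Groth.Agent.Lib.Helper3.BTKer
import Groth.Agent.Lib.Helper3.GrpFlatEpi

set_option autoImplicit false
universe u
open CategoryTheory CategoryTheory.Limits MonoidalCategory CartesianMonoidalCategory MonObj GrpObj AlgebraicGeometry

namespace Groth.Agent.H3.BTProj

open Groth.Agent.H3.FinRankK Groth.Agent.H3.BTKer in
theorem main {S : Scheme.{u}} (ℓ h : ℕ) [Fact ℓ.Prime] (G : BTGrp.ProBT ℓ S h)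
    (i : (t : ℕ) → (G.G 1 ⟶ G.G (t + 1))) (hi0 : i 0 = 𝟙 (G.G 1))
    (hi : ∀ t : ℕ, i (t + 1) = i t ≫ G.incl (t + 1)) (t : ℕ) :
    AlgGrp.IsKernel (i t) (G.proj t) ∧ Mor2.IsFinLocFreeOfDeg (ℓ ^ h) (G.proj t).left ∧
      Surjective (G.proj t).left := by
  have hK := Groth.Agent.H3.BTKer.main ℓ h G i hi0 hi t
  have hmonoi : Mono (i t) := IsKernel.mono hK
  have hmonoincl : Mono (G.incl t) := IsKernel.mono (G.isKernel t)
  have hker : AlgGrp.IsKernel (i t) (G.proj t) := by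
    refine isKernel_of (i t) (G.proj t) ?_ ?_
    · rw [← cancel_mono (G.incl t), Category.assoc, G.proj_incl, IsKernel.comp_eq_one hK,
        MonObj.one_comp]
    · intro T x hx
      refine IsKernel.exists_lift hK x ?_
      rw [← G.proj_incl, ← Category.assoc, hx, MonObj.one_comp]
  refine ⟨hker, ?_⟩
  obtain ⟨⟨f1, f2, f3⟩, r1⟩ := G.finLocFree 1
  obtain ⟨⟨g1, g2, g3⟩, rt⟩ := G.finLocFree t
  obtain ⟨⟨k1, k2, k3⟩, rt1⟩ := G.finLocFree (t + 1)
  have hw : (G.proj t).left ≫ (G.G t).hom = (G.G (t + 1)).hom := Over.w (G.proj t)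
  have : IsFinite ((G.proj t).left ≫ (G.G t).hom) := by rw [hw]; exact k1
  have : Flat ((G.proj t).left ≫ (G.G t).hom) := by rw [hw]; exact k2
  have : LocallyOfFinitePresentation ((G.proj t).left ≫ (G.G t).hom) := by rw [hw]; exact k3
  have hfinφ : IsFinite (G.proj t).left := IsFinite.of_comp _ (G.G t).hom
  have kp := IsPullback.map (Over.forget S)
    (Groth.Agent.H3.GrpFlatEpi.isKernelPair_of_isKernel (G.proj t) (i t) hker)
  have hp1 : (fst (G.G (t + 1)) (G.G 1)).left = pullback.fst (G.G (t + 1)).hom (G.G 1).hom := rfl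
  have hfinp : IsFinite ((Over.forget S).map (fst (G.G (t + 1)) (G.G 1))) := by
    show IsFinite (fst (G.G (t + 1)) (G.G 1)).left
    rw [hp1]; infer_instance
  have hflatp : Flat ((Over.forget S).map (fst (G.G (t + 1)) (G.G 1))) := by
    show Flat (fst (G.G (t + 1)) (G.G 1)).left
    rw [hp1]; infer_instance
  have hrankp : ∀ x, Scheme.Hom.finrank ((Over.forget S).map (fst (G.G (t + 1)) (G.G 1))) x =
      ℓ ^ h := by
    intro x
    show Scheme.Hom.finrank (fst (G.G (t + 1)) (G.G 1)).left x = ℓ ^ h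
    rw [hp1, Scheme.Hom.finrank_pullback_fst, r1, _root_.one_mul]
  have H : Hfib (G.proj t).left (ℓ ^ h) :=
    @hfib_of_kernelPair _ _ _ (G.proj t).left hfinφ _ _ kp hfinp hflatp (ℓ ^ h) hrankp
  obtain ⟨c1, c2, c3, c4⟩ := counting (G.proj t).left (G.G t).hom (ℓ ^ h)
    (fun s => by rw [hw, rt1, rt, ← pow_add]; congr 1; ring) H
  refine ⟨⟨⟨c1, c2, c3⟩, c4⟩, ?_⟩
  rw [← Scheme.Hom.one_le_finrank_iff_surjective]
  intro y
  rw [c4]
  exact Nat.one_le_pow _ _ (Fact.out : ℓ.Prime).pos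

end Groth.Agent.H3.BTProj
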