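import Mathlib
import Groth.Prelude.Def_NonAbH2

/-!
# Composition of morphisms with local sections
-/

set_option autoImplicit false

open CategoryTheory Limits AlgebraicGeometry

universe u

namespace Groth.Agent.H3.LocSec

/-- if `f` and `g` have sections locally for `K`, so does `f ≫ g` -/
lemma isLocallyTrivialFor_comp (K : Precoverage Scheme.{u}) [K.IsStableUnderBaseChange]
    [K.IsStableUnderComposition] {X Y Z : Scheme.{u}} (f : X ⟶ Y) (g : Y ⟶ Z)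
    (hf : NonAbH1.IsLocallyTrivialFor K (Over.mk f : Over Y))
    (hg : NonAbH1.IsLocallyTrivialFor K (Over.mk g : Over Z)) :
    NonAbH1.IsLocallyTrivialFor K (Over.mk (f ≫ g) : Over Z) := by
  obtain ⟨R₁, hR₁, hs₁⟩ := hf
  obtain ⟨R₂, hR₂, hs₂⟩ := hg
  obtain ⟨E₁, rfl⟩ := Precoverage.mem_iff_exists_zeroHypercover.1 hR₁
  obtain ⟨E₂, rfl⟩ := Precoverage.mem_iff_exists_zeroHypercover.1 hR₂
  have ht : ∀ i : E₂.I₀, ∃ t : E₂.X i ⟶ Y, t ≫ g = E₂.f i := fun i =>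
    hs₂ (E₂.f i) (Presieve.ofArrows.mk i)
  choose t ht using ht
  have hs : ∀ j : E₁.I₀, ∃ s : E₁.X j ⟶ X, s ≫ f = E₁.f j := fun j =>
    hs₁ (E₁.f j) (Presieve.ofArrows.mk j)
  choose s hs using hs
  refine ⟨_, (E₂.bind (fun i => E₁.pullback₁ (t i))).mem₀, ?_⟩
  rintro T h ⟨⟨i, j⟩⟩
  refine ⟨pullback.snd (t i) (E₁.f j) ≫ s j, ?_⟩
  change (pullback.snd (t i) (E₁.f j) ≫ s j) ≫ f ≫ g = pullback.fst (t i) (E₁.f j) ≫ E₂.f i
  rw [Category.assoc, ← Category.assoc (s j), hs, ← Category.assoc, ← pullback.condition,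
    Category.assoc, ht]

end Groth.Agent.H3.LocSec
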