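import Mathlib
import Groth.Prelude.Def_ActBC
import Groth.Agent.Lib.Helper3.LocSec
import Groth.Agent.Lib.Helper3.OrbitQuot4

/-!
# Local sections of morphisms of `S`-schemes from local sections of a torsor
-/

set_option autoImplicit false

open CategoryTheory Limits MonoidalCategory CartesianMonoidalCategory MonObj AlgebraicGeometry

universe v u

namespace Groth.Agent.H3.TorsorLoc

section general

variable {C : Type u} [Category.{v} C]

lemma isIso_of_effectiveEpi_of_mono {X Y : C} (f : X ⟶ Y) [EffectiveEpi f] [Mono f] : IsIso f := by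
  have h : ∀ {Z : C} (g₁ g₂ : Z ⟶ X), g₁ ≫ f = g₂ ≫ f → g₁ ≫ 𝟙 X = g₂ ≫ 𝟙 X := by
    intro Z g₁ g₂ hg
    rw [Category.comp_id, Category.comp_id]
    exact (cancel_mono f).1 hg
  refine ⟨EffectiveEpi.desc f (𝟙 X) h, EffectiveEpi.fac f (𝟙 X) h, ?_⟩
  rw [← cancel_epi f, ← Category.assoc, EffectiveEpi.fac f (𝟙 X) h, Category.id_comp,
    Category.comp_id]

end general

variable {S : Scheme.{u}}

/-- If `X` is locally trivial for `K`, and every `T`-point of `Y` lifts along `f : X' ⟶ Y` as soon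
as `X` has a `T`-point, then `f` has sections locally for `K`. -/
lemma isLocallyTrivialFor_of_forall_lift (K : Precoverage Scheme.{u}) [K.IsStableUnderBaseChange]
    {X X' B : Over S} (f : X' ⟶ B) (hX : NonAbH1.IsLocallyTrivialFor K X)
    (h : ∀ (T : Over S) (_ : T ⟶ X) (y : T ⟶ B), ∃ x : T ⟶ X', x ≫ f = y) :
    NonAbH1.IsLocallyTrivialFor K (Over.mk f.left : Over B.left) := by
  obtain ⟨R, hR, hsec⟩ := hX
  refine ⟨R.pullbackArrows B.hom, Precoverage.pullbackArrows_mem B.hom hR, ?_⟩
  rintro T g ⟨Z, r, hr⟩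
  obtain ⟨s, hs⟩ := hsec r hr
  have hs' : s ≫ X.hom = r := hs
  obtain ⟨x, hx⟩ := h (Over.mk (pullback.snd r B.hom ≫ B.hom))
    (Over.homMk (pullback.fst r B.hom ≫ s) (by
      simp only [Over.mk_hom, Category.assoc, hs']
      exact pullback.condition))
    (Over.homMk (pullback.snd r B.hom) rfl)
  refine ⟨x.left, ?_⟩
  have := congrArg (fun t => t.left) hx
  simpa using this


open Groth.Agent.H3.OrbitQuot in
/-- an equivariant morphism from a torsor (for the fpqc topology) to a pseudo-torsor is an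
isomorphism -/
theorem isIso_of_equivariant_of_isLocallyTrivialFor {G X X' : Over S} [GrpObj G]
    (a : AlgGrp.Action G X) (a' : AlgGrp.Action G X')
    (hX : IsIso (lift a.act (snd G X))) (hX' : IsIso (lift a'.act (snd G X')))
    (hloc : NonAbH1.IsLocallyTrivialFor Scheme.fpqcPrecoverage X)
    (f : X ⟶ X') (hf : (G ◁ f) ≫ a'.act = a.act ≫ f) : IsIso f := by
  haveI h1 : IsIso (f ▷ X) := isIso_whiskerRight_of_equivariant a a' hX hX' f hf
  haveI : Mono f := by
    constructor
    intro T g₁ g₂ h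
    have h2 : lift g₁ g₁ ≫ (f ▷ X) = lift g₂ g₁ ≫ (f ▷ X) := by
      apply CartesianMonoidalCategory.hom_ext
      · simp [h]
      · simp
    have h3 := (cancel_mono (f ▷ X)).1 h2
    have := congrArg (fun t => t ≫ fst X X) h3
    simpa using this
  have hlift : ∀ (T : Over S) (_ : T ⟶ X) (y : T ⟶ X'), ∃ x : T ⟶ X, x ≫ f = y := by
    intro T p y
    refine ⟨lift y p ≫ inv (f ▷ X) ≫ fst X X, ?_⟩
    rw [Category.assoc, Category.assoc, ← whiskerRight_fst f X, IsIso.inv_hom_id_assoc, lift_fst]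
  have huee := LocSec.uee_of_isLocallyTrivialFor_fpqc f
    (isLocallyTrivialFor_of_forall_lift Scheme.fpqcPrecoverage f hloc hlift)
  haveI : EffectiveEpi f := huee.effectiveEpi
  exact isIso_of_effectiveEpi_of_mono f

end Groth.Agent.H3.TorsorLoc
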