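import Mathlib
import Groth.Agent.Lib.Helper3.TorsorLoc
import Groth.Agent.Lib.Helper3.GrpQuot1

/-!
# Maps out of the push-forward of a torsor
-/

set_option autoImplicit false

open CategoryTheory Limits MonoidalCategory CartesianMonoidalCategory MonObj AlgebraicGeometry

universe u

namespace Groth.Agent.H3.TorsorPush

open AlgGrp.Action Groth.Agent.H3.GrpQuot

variable {S : Scheme.{u}}

section basic

variable {G X : Over S} [GrpObj G] (a : AlgGrp.Action G X)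

/-- transitivity of a pseudo-torsor on points -/
lemma exists_act_eq (hΨ : IsIso (lift a.act (snd G X))) {T : Over S} (x y : T ⟶ X) :
    ∃ g : T ⟶ G, lift g y ≫ a.act = x := by
  obtain ⟨w, hw⟩ : ∃ w : T ⟶ G ⊗ X, w = lift x y ≫ inv (lift a.act (snd G X)) := ⟨_, rfl⟩
  have hw' : w ≫ lift a.act (snd G X) = lift x y := by
    rw [hw, Category.assoc, IsIso.inv_hom_id, Category.comp_id]
  have h1 : w ≫ a.act = x := by
    have := congrArg (fun t => t ≫ fst X X) hw'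
    simpa using this
  have h2 : w ≫ snd G X = y := by
    have := congrArg (fun t => t ≫ snd X X) hw'
    simpa using this
  refine ⟨w ≫ fst G X, ?_⟩
  have : lift (w ≫ fst G X) y = w := by
    apply CartesianMonoidalCategory.hom_ext
    · rw [lift_fst]
    · rw [lift_snd, h2]
  rw [this, h1]

/-- freeness of a pseudo-torsor on points -/
lemma act_cancel (hΨ : IsIso (lift a.act (snd G X))) {T : Over S} (g g' : T ⟶ G) (x : T ⟶ X)
    (h : lift g x ≫ a.act = lift g' x ≫ a.act) : g = g' := by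
  have h1 : lift g x ≫ lift a.act (snd G X) = lift g' x ≫ lift a.act (snd G X) := by
    apply CartesianMonoidalCategory.hom_ext
    · simpa using h
    · simp
  have h2 := (cancel_mono (lift a.act (snd G X))).1 h1
  have := congrArg (fun t => t ≫ fst G X) h2
  simpa using this

end basic

variable {J J' J'' P P' P'' : Over S} [GrpObj J] [GrpObj J'] [GrpObj J'']
  (u : J ⟶ J') [IsMonHom u] (v : J' ⟶ J'') [IsMonHom v]
  (a : AlgGrp.Action J P) (a' : AlgGrp.Action J' P') (a'' : AlgGrp.Action J'' P'')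

theorem existsUnique_push
    (hP : IsIso (lift a.act (snd J P)))
    (hloc : NonAbH1.IsLocallyTrivialFor Scheme.fpqcPrecoverage P)
    (hP' : IsIso (lift a'.act (snd J' P')))
    (q' : P ⟶ P') (hq' : a.act ≫ q' = lift (fst J P ≫ u) (snd J P ≫ q') ≫ a'.act)
    (q'' : P ⟶ P'') (hq'' : a.act ≫ q'' = lift (fst J P ≫ u ≫ v) (snd J P ≫ q'') ≫ a''.act) :
    ∃! r : P' ⟶ P'', a'.act ≫ r = lift (fst J' P' ≫ v) (snd J' P' ≫ r) ≫ a''.act ∧
      q' ≫ r = q'' := by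
  -- points forms of the hypotheses
  have hq'pt : ∀ {T : Over S} (j : T ⟶ J) (p : T ⟶ P),
      (lift j p ≫ a.act) ≫ q' = lift (j ≫ u) (p ≫ q') ≫ a'.act := by
    intro T j p
    rw [Category.assoc, hq', ← Category.assoc, comp_lift, lift_fst_assoc, lift_snd_assoc]
  have hq''pt : ∀ {T : Over S} (j : T ⟶ J) (p : T ⟶ P),
      (lift j p ≫ a.act) ≫ q'' = lift ((j ≫ u) ≫ v) (p ≫ q'') ≫ a''.act := by
    intro T j p
    rw [Category.assoc, hq'', ← Category.assoc, comp_lift, lift_fst_assoc, lift_snd_assoc,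
      Category.assoc]
  obtain ⟨m, hm⟩ : ∃ m : J' ⊗ P ⟶ P', m = lift (fst J' P) (snd J' P ≫ q') ≫ a'.act := ⟨_, rfl⟩
  obtain ⟨n, hn⟩ : ∃ n : J' ⊗ P ⟶ P'', n = lift (fst J' P ≫ v) (snd J' P ≫ q'') ≫ a''.act :=
    ⟨_, rfl⟩
  have hmpt : ∀ {T : Over S} (j : T ⟶ J') (p : T ⟶ P),
      lift j p ≫ m = lift j (p ≫ q') ≫ a'.act := by
    intro T j p
    rw [hm, ← Category.assoc, comp_lift, lift_fst, lift_snd_assoc]
  have hnpt : ∀ {T : Over S} (j : T ⟶ J') (p : T ⟶ P),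
      lift j p ≫ n = lift (j ≫ v) (p ≫ q'') ≫ a''.act := by
    intro T j p
    rw [hn, ← Category.assoc, comp_lift, lift_fst_assoc, lift_snd_assoc]
  -- `m` is a universal effective epimorphism
  have hlift : ∀ (T : Over S) (_ : T ⟶ P) (y : T ⟶ P'), ∃ x : T ⟶ J' ⊗ P, x ≫ m = y := by
    intro T p y
    obtain ⟨δ, hδ⟩ := exists_act_eq a' hP' y (p ≫ q')
    exact ⟨lift δ p, by rw [hmpt, hδ]⟩
  have huee : UEE (Over S) m := LocSec.uee_of_isLocallyTrivialFor_fpqc m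
    (TorsorLoc.isLocallyTrivialFor_of_forall_lift Scheme.fpqcPrecoverage m hloc hlift)
  haveI : EffectiveEpi m := huee.effectiveEpi
  haveI : Epi m := huee.epi
  haveI : Epi (J' ◁ m) := (UEE.whiskerLeft J' huee).epi
  have hcompat : ∀ {Z : Over S} (g₁ g₂ : Z ⟶ J' ⊗ P), g₁ ≫ m = g₂ ≫ m → g₁ ≫ n = g₂ ≫ n := by
    intro Z g₁ g₂ h
    have e1 : g₁ = lift (g₁ ≫ fst J' P) (g₁ ≫ snd J' P) := by
      apply CartesianMonoidalCategory.hom_ext <;> simp
    have e2 : g₂ = lift (g₂ ≫ fst J' P) (g₂ ≫ snd J' P) := by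
      apply CartesianMonoidalCategory.hom_ext <;> simp
    obtain ⟨j₁, hj₁⟩ : ∃ j₁, j₁ = g₁ ≫ fst J' P := ⟨_, rfl⟩
    obtain ⟨p₁, hp₁⟩ : ∃ p₁, p₁ = g₁ ≫ snd J' P := ⟨_, rfl⟩
    obtain ⟨j₂, hj₂⟩ : ∃ j₂, j₂ = g₂ ≫ fst J' P := ⟨_, rfl⟩
    obtain ⟨p₂, hp₂⟩ : ∃ p₂, p₂ = g₂ ≫ snd J' P := ⟨_, rfl⟩
    rw [← hj₁, ← hp₁] at e1
    rw [← hj₂, ← hp₂] at e2
    rw [e1, e2, hmpt, hmpt] at h
    rw [e1, e2, hnpt, hnpt]
    obtain ⟨c₀, hc₀⟩ := exists_act_eq a hP p₁ p₂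
    rw [← hc₀, hq'pt, ← lift_mul_act] at h
    have hj : j₁ * (c₀ ≫ u) = j₂ := act_cancel a' hP' _ _ _ h
    rw [← hc₀, hq''pt, ← lift_mul_act, ← hj, MonObj.mul_comp]
  obtain ⟨r, hr⟩ : ∃ r : P' ⟶ P'', m ≫ r = n :=
    ⟨EffectiveEpi.desc m n hcompat, EffectiveEpi.fac _ _ _⟩
  have hrpt : ∀ {T : Over S} (j : T ⟶ J') (p : T ⟶ P),
      (lift j (p ≫ q') ≫ a'.act) ≫ r = lift (j ≫ v) (p ≫ q'') ≫ a''.act := by
    intro T j p
    rw [← hmpt, Category.assoc, hr, hnpt]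
  have hr2 : q' ≫ r = q'' := by
    have := hrpt (1 : P ⟶ J') (𝟙 P)
    rw [Category.id_comp, Category.id_comp, lift_one_act, MonObj.one_comp, lift_one_act] at this
    exact this
  refine ⟨r, ⟨?_, hr2⟩, ?_⟩
  · rw [← cancel_epi (J' ◁ m)]
    apply hom_ext_lift₂
    intro T k w
    have ew : w = lift (w ≫ fst J' P) (w ≫ snd J' P) := by
      apply CartesianMonoidalCategory.hom_ext <;> simp
    obtain ⟨j, hj⟩ : ∃ j, j = w ≫ fst J' P := ⟨_, rfl⟩
    obtain ⟨p, hp⟩ : ∃ p, p = w ≫ snd J' P := ⟨_, rfl⟩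
    rw [← hj, ← hp] at ew
    rw [ew, lift_whiskerLeft_assoc, lift_whiskerLeft_assoc, hmpt, ← Category.assoc,
      ← lift_mul_act, hrpt, ← Category.assoc, comp_lift, lift_fst_assoc, lift_snd_assoc, hrpt,
      MonObj.mul_comp, lift_mul_act]
  · rintro r' ⟨h1, h2⟩
    rw [← cancel_epi m, hr]
    apply hom_ext_lift₂
    intro T j p
    rw [← Category.assoc, hmpt, hnpt, Category.assoc, h1, ← Category.assoc, comp_lift,
      lift_fst_assoc, lift_snd_assoc, Category.assoc, h2]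

end Groth.Agent.H3.TorsorPush
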