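import Mathlib.RingTheory.Binomial
import Mathlib.Algebra.BigOperators.Intervals
import Mathlib.Tactic.Ring
import Mathlib.Tactic.Abel

/-! truncated binomial series for unipotent units -/

namespace Groth.Agent.H3.BinomUnit
universe u
variable {A : Type u} [CommRing A]

/-- truncated binomial series -/
noncomputable def g (y : A) (m : ℕ) (n : ℤ) : A := ∑ j ∈ Finset.range (m + 1), Ring.choose n j • y ^ j

lemma g_zero (y : A) (m : ℕ) : g y m 0 = 1 := by
  unfold g
  rw [Finset.sum_range_succ', Finset.sum_eq_zero]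
  · simp [Ring.choose_zero_right]
  · intro j _
    rw [Ring.choose_zero_succ, zero_smul]

lemma g_succ (y : A) (m : ℕ) (hy : y ^ (m + 1) = 0) (n : ℤ) : g y m (n + 1) = (1 + y) * g y m n := by
  unfold g
  rw [Finset.sum_range_succ' _ m, add_mul, one_mul, Finset.mul_sum]
  conv_rhs => rw [Finset.sum_range_succ' _ m, Finset.sum_range_succ _ m]
  have h1 : ∀ j ∈ Finset.range m, Ring.choose (n + 1) (j + 1) • y ^ (j + 1) =
      Ring.choose n (j + 1) • y ^ (j + 1) + y * (Ring.choose n j • y ^ j) := by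
    intro j _
    rw [Ring.choose_succ_succ, add_smul, mul_smul_comm, ← pow_succ', add_comm]
  rw [Finset.sum_congr rfl h1, Finset.sum_add_distrib]
  have h2 : y * (Ring.choose n m • y ^ m) = 0 := by
    rw [mul_smul_comm, ← pow_succ', hy, smul_zero]
  rw [h2, add_zero]
  simp only [Ring.choose_zero_right, pow_zero]
  abel

lemma unit_zpow_eq (u : Aˣ) (m : ℕ) (hy : ((u : A) - 1) ^ (m + 1) = 0) (n : ℤ) :
    ((u ^ n : Aˣ) : A) = g ((u : A) - 1) m n := by
  have hu : (1 : A) + ((u : A) - 1) = u := by ring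
  induction n using Int.induction_on with
  | zero => simp [g_zero]
  | succ i ih =>
    rw [g_succ _ _ hy, ← ih, hu, zpow_add_one, Units.val_mul, mul_comm]
  | pred i ih =>
    have h := g_succ ((u : A) - 1) m hy (-(i : ℤ) - 1)
    rw [sub_add_cancel, ← ih, hu] at h
    have : ((u ^ (-(i : ℤ) - 1) : Aˣ) : A) = ((u⁻¹ : Aˣ) : A) * ((u ^ (-(i : ℤ)) : Aˣ) : A) := by
      rw [← Units.val_mul, zpow_sub_one, mul_comm]
    rw [this, h, ← mul_assoc, ← Units.val_mul, inv_mul_cancel, Units.val_one, one_mul]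

end Groth.Agent.H3.BinomUnit
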