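import Mathlib
import Groth.Agent.Lib.Helper3.CMPt2

set_option autoImplicit false
universe u
open Function AlgebraicGeometry CategoryTheory

namespace Groth.Agent.H3.CMPt

/-- a finite type algebra over an Artinian ring has finite Krull dimension. -/
theorem exists_ringKrullDim_le (A B : Type u) [CommRing A] [IsArtinianRing A] [CommRing B]
    [Algebra A B] [Algebra.FiniteType A B] : ∃ d : ℕ, ringKrullDim B ≤ d := by
  obtain ⟨n, f, hf⟩ := Algebra.FiniteType.iff_quotient_mvPolynomial''.mp
    (inferInstance : Algebra.FiniteType A B)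
  refine ⟨n, ?_⟩
  by_cases hA : Nontrivial A
  · have h1 := ringKrullDim_le_of_surjective f.toRingHom hf
    have h2 : ringKrullDim (MvPolynomial (Fin n) A) = ringKrullDim A + n := by
      have := MvPolynomial.ringKrullDim_of_isNoetherianRing (R := A) (ι := Fin n)
      simp [this]
    have h3 : ringKrullDim A ≤ 0 := Ring.krullDimLE_iff.mp inferInstance
    calc ringKrullDim B ≤ ringKrullDim A + n := by rw [← h2]; exact h1
      _ ≤ 0 + n := by gcongr
      _ = n := zero_add _
  · rw [not_nontrivial_iff_subsingleton] at hA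
    haveI : Subsingleton B := by
      have : (0 : B) = 1 := by
        rw [← map_zero (algebraMap A B), ← map_one (algebraMap A B), Subsingleton.elim (0 : A) 1]
      exact subsingleton_of_zero_eq_one this
    rw [ringKrullDim_eq_bot_of_subsingleton]
    exact bot_le

theorem exists_closed_cm (A : Type u) [CommRing A] [IsArtinianRing A] (X : Scheme.{u})
    (f : X ⟶ Spec (CommRingCat.of A)) [LocallyOfFiniteType f] [Nonempty X] :
    ∃ x : X, IsClosed ({x} : Set X) ∧ LocCoh.IsCohenMacaulayLocalRing (X.presheaf.stalk x) := by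
  obtain ⟨x₀⟩ := ‹Nonempty X›
  obtain ⟨U, hU, hxU, -⟩ := exists_isAffineOpen_mem_and_subset (x := x₀) (U := ⊤) trivial
  have hle : U ≤ f ⁻¹ᵁ ⊤ := le_top
  have hft : (f.appLE ⊤ U hle).hom.FiniteType :=
    HasRingHomProperty.appLE (P := @LocallyOfFiniteType) f inferInstance
      ⟨⊤, isAffineOpen_top _⟩ ⟨U, hU⟩ hle
  let e : Γ(Spec (CommRingCat.of A), ⊤) ≃+* A :=
    (Scheme.ΓSpecIso (CommRingCat.of A)).commRingCatIsoToRingEquiv
  haveI : IsArtinianRing Γ(Spec (CommRingCat.of A), ⊤) := e.symm.isArtinianRing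
  letI : Algebra Γ(Spec (CommRingCat.of A), ⊤) Γ(X, U) := (f.appLE ⊤ U hle).hom.toAlgebra
  haveI : Algebra.FiniteType Γ(Spec (CommRingCat.of A), ⊤) Γ(X, U) := hft
  haveI : IsNoetherianRing Γ(X, U) :=
    Algebra.FiniteType.isNoetherianRing Γ(Spec (CommRingCat.of A), ⊤) Γ(X, U)
  haveI : IsJacobsonRing Γ(X, U) :=
    isJacobsonRing_of_finiteType (A := Γ(Spec (CommRingCat.of A), ⊤))
  haveI : Nontrivial Γ(X, U) := by
    have := (hU.primeIdealOf ⟨x₀, hxU⟩).2
    by_contra hnt
    rw [not_nontrivial_iff_subsingleton] at hnt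
    exact this.ne_top (Subsingleton.elim _ _)
  obtain ⟨d, hd⟩ := exists_ringKrullDim_le Γ(Spec (CommRingCat.of A), ⊤) Γ(X, U)
  obtain ⟨n, hn, hcm⟩ := exists_maximal_cm d Γ(X, U) hd
  haveI := hn.isPrime
  let y : PrimeSpectrum Γ(X, U) := ⟨n, hn.isPrime⟩
  have hyU : hU.fromSpec y ∈ U := by
    have : hU.fromSpec y ∈ Set.range hU.fromSpec := ⟨y, rfl⟩
    rw [hU.range_fromSpec] at this
    exact this
  refine ⟨hU.fromSpec y, ?_, ?_⟩
  · haveI : JacobsonSpace X := LocallyOfFiniteType.jacobsonSpace f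
    apply isClosed_singleton_of_isLocallyClosed_singleton
    have hy : IsClosed ({y} : Set (PrimeSpectrum Γ(X, U))) :=
      (PrimeSpectrum.isClosed_singleton_iff_isMaximal y).mpr hn
    have := hy.isLocallyClosed.image hU.fromSpec.isOpenEmbedding.isInducing
      hU.fromSpec.isOpenEmbedding.isOpen_range.isLocallyClosed
    rwa [Set.image_singleton] at this
  · letI := TopCat.Presheaf.algebra_section_stalk X.presheaf ⟨hU.fromSpec y, hyU⟩
    haveI : IsLocalization.AtPrime (X.presheaf.stalk (hU.fromSpec y)) n :=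
      hU.isLocalization_stalk' y hyU
    let e' : Localization.AtPrime n ≃ₐ[Γ(X, U)] X.presheaf.stalk (hU.fromSpec y) :=
      IsLocalization.algEquiv n.primeCompl _ _
    exact Groth.Agent.H6.Liai.cmLocal_of_ringEquiv e'.toRingEquiv

end Groth.Agent.H3.CMPt
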