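import Mathlib
import Groth.Agent.Lib.Helper6.CMKit
import Groth.Agent.Lib.Helper8.PrimeAvoid

/-! Lifting a system of parameters of a Cohen–Macaulay localization `A_p` to part of a system of
parameters of the Noetherian local ring `A`. -/

set_option autoImplicit false
universe u

open RingTheory.Sequence

namespace Groth.Agent.H3.CMSop

section PieceA

variable {R : Type u} [CommRing R] [IsNoetherianRing R] [IsLocalRing R]

theorem ofList_ofFn {n : ℕ} (y : Fin n → R) :
    Ideal.ofList (List.ofFn y) = Ideal.span (Set.range y) := by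
  unfold Ideal.ofList
  congr 1
  ext x
  simp [List.mem_ofFn]

theorem ofList_take_ofFn {n : ℕ} (y : Fin n → R) (i : Fin n) :
    Ideal.ofList ((List.ofFn y).take i) = Ideal.span (y '' {j : Fin n | j < i}) := by
  unfold Ideal.ofList
  congr 1
  ext x
  simp only [Set.mem_setOf_eq, Set.mem_image]
  rw [List.mem_take_iff_getElem]
  constructor
  · rintro ⟨k, hk, rfl⟩
    rw [List.length_ofFn] at hk
    have hk1 : k < (i : ℕ) := lt_of_lt_of_le hk (min_le_left _ _)
    have hk2 : k < n := lt_of_lt_of_le hk (min_le_right _ _)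
    refine ⟨⟨k, hk2⟩, ?_, ?_⟩
    · exact Fin.lt_def.mpr hk1
    · simp
  · rintro ⟨j, hj, rfl⟩
    refine ⟨(j : ℕ), ?_, ?_⟩
    · rw [List.length_ofFn]
      exact lt_min (Fin.lt_def.mp hj) j.2
    · simp

theorem smul_top_eq (I : Ideal R) : (I • ⊤ : Submodule R R) = I := by
  rw [smul_eq_mul, Ideal.mul_top]

/-- In a Cohen–Macaulay local ring, the `i`-th member of a system of parameters avoids the minimal
primes of the ideal generated by the previous ones. -/
theorem notMem_minimalPrimes (hCM : LocCoh.IsCohenMacaulayModule R R) (s : ℕ)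
    (hs : ringKrullDim R = s) (t : Fin s → R) (ht : ∀ i, t i ∈ IsLocalRing.maximalIdeal R)
    (hsop : ringKrullDim (R ⧸ Ideal.span (Set.range t)) = 0) (i : Fin s) (Q : Ideal R)
    (hQ : Q ∈ (Ideal.span (t '' {j : Fin s | j < i})).minimalPrimes) : t i ∉ Q := by
  have hreg : IsWeaklyRegular R (List.ofFn t) := by
    refine Groth.Agent.H6.CM.isWeaklyRegular_of_supportDim (List.ofFn t) R hCM ?_ ?_
    · intro x hx
      obtain ⟨j, rfl⟩ := (List.mem_ofFn' _ _).mp hx
      exact ht j
    · rw [Module.supportDim_eq_of_equiv (Submodule.quotEquivOfEq _ _ (smul_top_eq _)),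
        List.length_ofFn, ofList_ofFn, Module.supportDim_self_eq_ringKrullDim,
        Module.supportDim_quotient_eq_ringKrullDim, hsop, hs, zero_add]
  have hi : (i : ℕ) < (List.ofFn t).length := by
    rw [List.length_ofFn]
    exact i.2
  have h1 := hreg.regular_mod_prev i hi
  have hget : (List.ofFn t)[(i : ℕ)] = t i := by simp
  rw [hget, ofList_take_ofFn] at h1
  set T : Ideal R := Ideal.span (t '' {j : Fin s | j < i}) with hT
  have hann : Module.annihilator R (R ⧸ (T • ⊤ : Submodule R R)) = T := by
    rw [(Submodule.quotEquivOfEq _ _ (smul_top_eq T)).annihilator_eq]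
    exact Ideal.annihilator_quotient
  have hQass : Q ∈ associatedPrimes R (R ⧸ (T • ⊤ : Submodule R R)) := by
    apply Module.associatedPrimes.minimalPrimes_annihilator_subset_associatedPrimes R
    rw [hann]
    exact hQ
  intro htQ
  have hQ' : IsAssociatedPrime Q (R ⧸ (T • ⊤ : Submodule R R)) := hQass
  rw [isAssociatedPrime_iff_exists_injective_linearMap] at hQ'
  obtain ⟨hQp, f, hf⟩ := hQ'
  have h2 : f (Ideal.Quotient.mk Q 1) = 0 := by
    apply h1
    change t i • f (Ideal.Quotient.mk Q 1) = t i • 0
    rw [smul_zero, ← map_smul]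
    have : t i • (Ideal.Quotient.mk Q 1) = 0 := by
      rw [Algebra.smul_def, map_one, mul_one]
      exact Ideal.Quotient.eq_zero_iff_mem.mpr htQ
    rw [this, map_zero]
  have h3 : (Ideal.Quotient.mk Q 1) = 0 := hf (by rw [h2, map_zero])
  rw [Ideal.Quotient.eq_zero_iff_mem] at h3
  exact hQp.ne_top ((Ideal.eq_top_iff_one Q).mpr h3)

end PieceA


section PieceB

variable {A : Type u} [CommRing A] [IsNoetherianRing A] [IsLocalRing A]

/-- cutting by an element of the maximal ideal outside all minimal primes lowers the dimension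
by exactly one -/
theorem ringKrullDim_quotient_sup_span_succ (I : Ideal A) (w : A)
    (hw : w ∈ IsLocalRing.maximalIdeal A) (hmin : ∀ P ∈ I.minimalPrimes, w ∉ P) :
    ringKrullDim (A ⧸ (I ⊔ Ideal.span {w})) + 1 = ringKrullDim (A ⧸ I) := by
  have h1 := Module.supportDim_quotSMulTop_succ_eq_of_notMem_minimalPrimes_of_mem_maximalIdeal
    (M := A ⧸ I) (x := w) (by
      rw [Ideal.annihilator_quotient]
      exact hmin) hw
  rw [Module.supportDim_quotient_eq_ringKrullDim] at h1
  rw [← h1, ← Module.supportDim_quotient_eq_ringKrullDim]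
  congr 1
  apply Groth.Agent.H6.CM.supportDim_eq_of_support_eq
  rw [Module.support_quotSMulTop, Module.support_eq_zeroLocus, Module.support_eq_zeroLocus,
    Ideal.annihilator_quotient, Ideal.annihilator_quotient, PrimeSpectrum.zeroLocus_sup,
    PrimeSpectrum.zeroLocus_span]

end PieceB

section Main

variable (A : Type u) [CommRing A] [IsNoetherianRing A] [IsLocalRing A] (p : Ideal A) [p.IsPrime]
  [hCMp : LocCoh.IsCohenMacaulayLocalRing (Localization.AtPrime p)]

local notation "R" => Localization.AtPrime p

theorem aux (s : ℕ) (hs : ringKrullDim R = s) (t : Fin s → R)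
    (ht : ∀ i, t i ∈ IsLocalRing.maximalIdeal R)
    (hsop : ringKrullDim (R ⧸ Ideal.span (Set.range t)) = 0) :
    ∀ k : ℕ, k ≤ s → ∃ x a : Fin s → A,
      (∀ j : Fin s, (j : ℕ) < k → x j ∈ p ∧ a j ∉ p ∧
        algebraMap A R (x j) - algebraMap A R (a j) * t j ∈
          Ideal.span (t '' {l : Fin s | l < j})) ∧
      ringKrullDim (A ⧸ Ideal.span (x '' {j : Fin s | (j : ℕ) < k})) + (k : WithBot ℕ∞) =
        ringKrullDim A := by
  classical
  have hCM : LocCoh.IsCohenMacaulayModule R R := hCMp.supportDim_eq_depth
  have hA := notMem_minimalPrimes hCM s hs t ht hsop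
  have hTle : ∀ i : Fin s, Ideal.span (t '' {l : Fin s | l < i}) ≤ IsLocalRing.maximalIdeal R := by
    intro i
    rw [Ideal.span_le]
    rintro _ ⟨l, _, rfl⟩
    exact ht l
  have hcomap : (IsLocalRing.maximalIdeal R).comap (algebraMap A R) = p :=
    IsLocalization.AtPrime.comap_maximalIdeal R p
  intro k
  induction k with
  | zero =>
    intro _
    refine ⟨fun _ => 0, fun _ => 1, fun j hj => absurd hj (Nat.not_lt_zero _), ?_⟩
    have h0 : ((fun _ => 0 : Fin s → A) '' {j : Fin s | (j : ℕ) < 0}) = ∅ := by
      ext z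
      simp
    rw [h0, Ideal.span_empty, Nat.cast_zero, add_zero]
    exact (RingEquiv.quotientBot A).ringKrullDim
  | succ k ih =>
    intro hk
    obtain ⟨x, a, hxa, hdim⟩ := ih (by omega)
    set i : Fin s := ⟨k, by omega⟩ with hi
    set I : Ideal A := Ideal.span (x '' {j : Fin s | (j : ℕ) < k}) with hI
    set T : Ideal R := Ideal.span (t '' {l : Fin s | l < i}) with hT
    -- (F1)
    have hF1 : I ≤ T.comap (algebraMap A R) := by
      rw [hI, Ideal.span_le]
      rintro _ ⟨j, hj, rfl⟩
      have hj' : (j : ℕ) < k := hj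
      obtain ⟨-, -, h3⟩ := hxa j hj'
      have hji : j < i := Fin.lt_def.mpr hj'
      have h4 : Ideal.span (t '' {l : Fin s | l < j}) ≤ T := by
        apply Ideal.span_mono
        apply Set.image_mono
        intro l hl
        exact lt_trans hl hji
      have h5 : t j ∈ T := Ideal.subset_span ⟨j, hji, rfl⟩
      have h6 : algebraMap A R (x j) =
          (algebraMap A R (x j) - algebraMap A R (a j) * t j) + algebraMap A R (a j) * t j := by
        ring
      change algebraMap A R (x j) ∈ T
      rw [h6]
      exact T.add_mem (h4 h3) (T.mul_mem_left _ h5)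
    -- clear denominators
    obtain ⟨⟨y, c⟩, hyc⟩ := IsLocalization.surj p.primeCompl (t i)
    have hyc' : algebraMap A R y = algebraMap A R (c : A) * t i := by
      rw [mul_comm]
      exact hyc.symm
    have hcu : IsUnit (algebraMap A R (c : A)) := IsLocalization.map_units R c
    -- avoidance
    have hfin := I.finite_minimalPrimes_of_isNoetherianRing A
    have hbad : ∀ P ∈ hfin.toFinset, P.IsPrime ∧
        ¬ (T.comap (algebraMap A R) ⊔ Ideal.span {y} ≤ P) := by
      intro P hP
      rw [Set.Finite.mem_toFinset] at hP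
      refine ⟨hP.1.1, ?_⟩
      intro hle
      have hJP : T.comap (algebraMap A R) ≤ P := le_sup_left.trans hle
      have hyP : y ∈ P := hle (Ideal.mem_sup_right (Ideal.mem_span_singleton_self y))
      have hPJ : P ∈ (T.comap (algebraMap A R)).minimalPrimes := by
        refine ⟨⟨hP.1.1, hJP⟩, ?_⟩
        intro Q hQ hQP
        exact hP.2 ⟨hQ.1, hF1.trans hQ.2⟩ hQP
      rw [IsLocalization.minimalPrimes_comap p.primeCompl R T] at hPJ
      obtain ⟨Q, hQ, rfl⟩ := hPJ
      haveI : Q.IsPrime := hQ.1.1
      have h1 : algebraMap A R (c : A) * t i ∈ Q := by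
        rw [← hyc']
        exact hyP
      rcases Ideal.IsPrime.mem_or_mem inferInstance h1 with h2 | h2
      · exact Ideal.IsPrime.ne_top inferInstance (Ideal.eq_top_of_isUnit_mem Q h2 hcu)
      · exact hA i Q hQ h2
    obtain ⟨z, hzJ, hz⟩ := Groth.Agent.H8.exists_add_notMem_of_primes
      (T.comap (algebraMap A R)) y hfin.toFinset hbad
    have hzT : algebraMap A R z ∈ T := hzJ
    have hwp : y + z ∈ p := by
      rw [← hcomap, Ideal.mem_comap, map_add, hyc']
      exact Ideal.add_mem _ (Ideal.mul_mem_left _ _ (ht i)) (hTle i hzT)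
    refine ⟨Function.update x i (y + z), Function.update a i (c : A), ?_, ?_⟩
    · intro j hj
      by_cases hji : j = i
      · rw [hji, Function.update_self, Function.update_self]
        refine ⟨hwp, c.2, ?_⟩
        have : algebraMap A R (y + z) - algebraMap A R (c : A) * t i = algebraMap A R z := by
          rw [map_add, hyc']
          ring
        rw [this]
        exact hzT
      · rw [Function.update_of_ne hji, Function.update_of_ne hji]
        have hjk : (j : ℕ) < k := by
          have h1 : (j : ℕ) ≠ k := fun h => hji (Fin.ext h)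
          omega
        exact hxa j hjk
    · have himg : (Function.update x i (y + z)) '' {j : Fin s | (j : ℕ) < k + 1} =
          insert (y + z) (x '' {j : Fin s | (j : ℕ) < k}) := by
        ext v
        simp only [Set.mem_image, Set.mem_setOf_eq, Set.mem_insert_iff]
        constructor
        · rintro ⟨j, hj, rfl⟩
          by_cases hji : j = i
          · left
            rw [hji, Function.update_self]
          · right
            refine ⟨j, ?_, ?_⟩
            · have h1 : (j : ℕ) ≠ k := fun h => hji (Fin.ext h)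
              omega
            · rw [Function.update_of_ne hji]
        · rintro (rfl | ⟨j, hj, rfl⟩)
          · exact ⟨i, Nat.lt_succ_self k, Function.update_self _ _ _⟩
          · refine ⟨j, Nat.lt_succ_of_lt hj, ?_⟩
            have hji : j ≠ i := fun h => by
              rw [h] at hj
              exact lt_irrefl _ hj
            rw [Function.update_of_ne hji]
      rw [himg, Ideal.span_insert, sup_comm, ← hI]
      have hstep := ringKrullDim_quotient_sup_span_succ I (y + z)
        (IsLocalRing.le_maximalIdeal (Ideal.IsPrime.ne_top inferInstance) hwp) (by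
          intro P hP
          exact hz P (hfin.mem_toFinset.mpr hP))
      rw [← hdim, ← hstep, Nat.cast_add, Nat.cast_one, add_assoc, add_comm (1 : WithBot ℕ∞)]

theorem main (s : ℕ) (hs : ringKrullDim R = s) (t : Fin s → R)
    (ht : ∀ i, t i ∈ IsLocalRing.maximalIdeal R)
    (hsop : ringKrullDim (R ⧸ Ideal.span (Set.range t)) = 0) :
    ∃ x a : Fin s → A, (∀ i, x i ∈ p) ∧ (∀ i, a i ∉ p) ∧
      ringKrullDim (A ⧸ Ideal.span (Set.range x)) + (s : WithBot ℕ∞) = ringKrullDim A ∧
      ∀ i : Fin s, algebraMap A R (x i) - algebraMap A R (a i) * t i ∈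
        Ideal.span (t '' {j : Fin s | j < i}) := by
  obtain ⟨x, a, hxa, hdim⟩ := aux A p s hs t ht hsop s le_rfl
  have huniv : {j : Fin s | (j : ℕ) < s} = Set.univ := by
    ext j
    simp
  rw [huniv, Set.image_univ] at hdim
  exact ⟨x, a, fun i => (hxa i i.2).1, fun i => (hxa i i.2).2.1, hdim, fun i => (hxa i i.2).2.2⟩

end Main

end Groth.Agent.H3.CMSop
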