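import Mathlib
import Groth.Prelude.Def_W4stkcategoriessitesFib

set_option autoImplicit false
open CategoryTheory CategoryTheory.Limits

universe v₉ u₉ v₈ u₈ v₇ u₇ v₆ u₆ v₅ u₅ v₄ u₄

namespace Groth.Agent.H3.CatPullAux

variable {X : Type u₄} {Y : Type u₅} {Z : Type u₆} {A : Type u₇} {B : Type u₈} {C' : Type u₉}
  [Category.{v₄} X] [Category.{v₅} Y] [Category.{v₆} Z] [Category.{v₇} A] [Category.{v₈} B] [Category.{v₉} C']
  {H : X ⥤ Z} {I : Y ⥤ Z} {F : A ⥤ C'} {G : B ⥤ C'}

@[simp] lemma cpm_obj_fst (ψ : CatCospanTransform H I F G) (x : CategoricalPullback H I) :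
    ((FibCat.categoricalPullbackMap ψ).obj x).fst = ψ.left.obj x.fst := rfl

@[simp] lemma cpm_obj_snd (ψ : CatCospanTransform H I F G) (x : CategoricalPullback H I) :
    ((FibCat.categoricalPullbackMap ψ).obj x).snd = ψ.right.obj x.snd := rfl

lemma cpm_obj_iso_hom (ψ : CatCospanTransform H I F G) (x : CategoricalPullback H I) :
    ((FibCat.categoricalPullbackMap ψ).obj x).iso.hom =
      ψ.squareLeft.iso.inv.app x.fst ≫ ψ.base.map x.iso.hom ≫ ψ.squareRight.iso.hom.app x.snd := by
  simp [FibCat.categoricalPullbackMap]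
  rfl

@[simp] lemma cpm_map_fst (ψ : CatCospanTransform H I F G) {x y : CategoricalPullback H I} (f : x ⟶ y) :
    ((FibCat.categoricalPullbackMap ψ).map f).fst = ψ.left.map f.fst := rfl

@[simp] lemma cpm_map_snd (ψ : CatCospanTransform H I F G) {x y : CategoricalPullback H I} (f : x ⟶ y) :
    ((FibCat.categoricalPullbackMap ψ).map f).snd = ψ.right.map f.snd := rfl

lemma sqL_nat (ψ : CatCospanTransform H I F G) {x x' : X} (a : x ⟶ x') :
    F.map (ψ.left.map a) ≫ ψ.squareLeft.iso.inv.app x' =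
      ψ.squareLeft.iso.inv.app x ≫ ψ.base.map (H.map a) :=
  ψ.squareLeft.iso.inv.naturality a

lemma sqR_nat (ψ : CatCospanTransform H I F G) {y y' : Y} (b : y ⟶ y') :
    ψ.squareRight.iso.hom.app y ≫ G.map (ψ.right.map b) =
      ψ.base.map (I.map b) ≫ ψ.squareRight.iso.hom.app y' :=
  (ψ.squareRight.iso.hom.naturality b).symm

theorem cpm_faithful (ψ : CatCospanTransform H I F G) [ψ.left.Faithful] [ψ.right.Faithful] :
    (FibCat.categoricalPullbackMap ψ).Faithful where
  map_injective := by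
    intro x y f g h
    apply CategoricalPullback.hom_ext
    · apply ψ.left.map_injective
      exact congrArg (fun t => t.fst) h
    · apply ψ.right.map_injective
      exact congrArg (fun t => t.snd) h

theorem cpm_full (ψ : CatCospanTransform H I F G) [ψ.left.Full] [ψ.right.Full] [ψ.base.Faithful] :
    (FibCat.categoricalPullbackMap ψ).Full where
  map_surjective := by
    intro x y m
    have key : ∃ (mf : ψ.left.obj x.fst ⟶ ψ.left.obj y.fst)
        (ms : ψ.right.obj x.snd ⟶ ψ.right.obj y.snd), mf = m.fst ∧ ms = m.snd ∧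
        F.map mf ≫ (ψ.squareLeft.iso.inv.app y.fst ≫ ψ.base.map y.iso.hom ≫
          ψ.squareRight.iso.hom.app y.snd) =
        (ψ.squareLeft.iso.inv.app x.fst ≫ ψ.base.map x.iso.hom ≫
          ψ.squareRight.iso.hom.app x.snd) ≫ G.map ms :=
      ⟨m.fst, m.snd, rfl, rfl, by
        have := m.w
        rw [cpm_obj_iso_hom, cpm_obj_iso_hom] at this
        exact this⟩
    obtain ⟨mf, ms, hmf, hms, hw⟩ := key
    obtain ⟨a, ha⟩ := ψ.left.map_surjective mf
    obtain ⟨b, hb⟩ := ψ.right.map_surjective ms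
    subst ha hb
    have w : H.map a ≫ y.iso.hom = x.iso.hom ≫ I.map b := by
      apply ψ.base.map_injective
      rw [ψ.base.map_comp, ψ.base.map_comp]
      rw [← cancel_epi (ψ.squareLeft.iso.inv.app x.fst),
        ← cancel_mono (ψ.squareRight.iso.hom.app y.snd)]
      simp only [Category.assoc]
      rw [← sqR_nat, ← reassoc_of% (sqL_nat ψ a)]
      simpa only [Category.assoc] using hw
    refine ⟨⟨a, b, w⟩, ?_⟩
    apply CategoricalPullback.hom_ext
    · exact hmf
    · exact hms

theorem cpm_essSurj (ψ : CatCospanTransform H I F G) [ψ.left.EssSurj] [ψ.right.EssSurj]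
    [ψ.base.Full] [ψ.base.Faithful] : (FibCat.categoricalPullbackMap ψ).EssSurj where
  mem_essImage := by
    intro T
    let x := ψ.left.objPreimage T.fst
    let e₁ : ψ.left.obj x ≅ T.fst := ψ.left.objObjPreimageIso T.fst
    let y := ψ.right.objPreimage T.snd
    let e₂ : ψ.right.obj y ≅ T.snd := ψ.right.objObjPreimageIso T.snd
    let θ : ψ.base.obj (H.obj x) ≅ ψ.base.obj (I.obj y) :=
      ψ.squareLeft.iso.app x ≪≫ F.mapIso e₁ ≪≫ T.iso ≪≫ (G.mapIso e₂).symm ≪≫
        (ψ.squareRight.iso.app y).symm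
    let φ : H.obj x ≅ I.obj y := ψ.base.preimageIso θ
    refine ⟨⟨x, y, φ⟩, ⟨CategoricalPullback.mkIso e₁ e₂ ?_⟩⟩
    rw [cpm_obj_iso_hom]
    simp [φ, θ]

end Groth.Agent.H3.CatPullAux
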