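import Mathlib
import Groth.Agent.Lib.Helper3.FibCatAux

/-!
# The categorical pullback of a functor along the identity is fibred in groupoids (helper3)
-/

set_option autoImplicit false
universe v₃ u₃ v₂ u₂ v u
open CategoryTheory CategoryTheory.Functor CategoryTheory.Limits

namespace Groth.Agent.H3.CatPullSnd

open CategoricalPullback Groth.Agent.H3.FibCatAux

variable {S : Type u} [Category.{v} S] {X : Type u₂} [Category.{v₂} X] {Y : Type u₃} [Category.{v₃} Y]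
  (πX : X ⥤ S) (F : Y ⥤ X)

lemma snd_eq_of_isHomLift {Z' Z : CategoricalPullback F (𝟭 X)} (f : Z'.snd ⟶ Z.snd) (φ : Z' ⟶ Z)
    (h : (π₂ F (𝟭 X)).IsHomLift f φ) : φ.snd = f := by
  have := IsHomLift.fac' (π₂ F (𝟭 X)) f φ
  have e : ∀ (h1 : Z'.snd = Z'.snd) (h2 : Z.snd = Z.snd), eqToHom h1 ≫ f ≫ eqToHom h2 = f := by
    intros; simp
  exact this.trans (e _ _)

lemma map_fst_eq {Z' Z : CategoricalPullback F (𝟭 X)} (φ : Z' ⟶ Z) :
    F.map φ.fst = Z'.iso.hom ≫ φ.snd ≫ Z.iso.inv := by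
  have := φ.w
  rw [← Category.assoc, Iso.eq_comp_inv]
  exact this

variable (hX : FibCat.IsFibGrpd πX) (hY : FibCat.IsFibGrpd (F ⋙ πX))

include hX hY in
theorem isStronglyCartesian_π₂ {Z' Z : CategoricalPullback F (𝟭 X)} (ψ : Z' ⟶ Z) :
    (π₂ F (𝟭 X)).IsStronglyCartesian ((π₂ F (𝟭 X)).map ψ) ψ := by
  have hψ : (π₂ F (𝟭 X)).IsHomLift ((π₂ F (𝟭 X)).map ψ) ψ := IsHomLift.map (π₂ F (𝟭 X)) ψ
  refine { toIsHomLift := hψ, universal_property' := ?_ }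
  intro Z'' g ψ'' hψ''
  obtain ⟨h, hh⟩ : ∃ h : Z''.snd ⟶ Z'.snd, h = g := ⟨g, rfl⟩
  have e1 : ψ''.snd = h ≫ ψ.snd := by
    rw [hh]; exact snd_eq_of_isHomLift F (g ≫ ψ.snd) ψ'' hψ''
  obtain ⟨k, hk⟩ : ∃ k : (F ⋙ πX).obj Z''.fst ⟶ (F ⋙ πX).obj Z'.fst,
      k = πX.map (Z''.iso.hom ≫ h ≫ Z'.iso.inv) := ⟨_, rfl⟩
  have hcY : (F ⋙ πX).IsStronglyCartesian ((F ⋙ πX).map ψ.fst) ψ.fst := hY.isStronglyCartesian ψ.fst
  have hcX : πX.IsStronglyCartesian (πX.map ψ.snd) ψ.snd := hX.isStronglyCartesian ψ.snd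
  have l1 : (F ⋙ πX).IsHomLift (k ≫ (F ⋙ πX).map ψ.fst) ψ''.fst := by
    apply IsHomLift.of_fac' (F ⋙ πX) (k ≫ (F ⋙ πX).map ψ.fst) ψ''.fst rfl rfl
    simp only [eqToHom_refl, Category.comp_id, Category.id_comp, Functor.comp_map]
    rw [map_fst_eq, map_fst_eq, e1, hk, ← πX.map_comp]
    simp
  obtain ⟨c, hc1, hc2⟩ : ∃ c : Z''.fst ⟶ Z'.fst, (F ⋙ πX).IsHomLift k c ∧ c ≫ ψ.fst = ψ''.fst :=
    ⟨IsStronglyCartesian.map (F ⋙ πX) ((F ⋙ πX).map ψ.fst) ψ.fst (f' := k ≫ (F ⋙ πX).map ψ.fst) rfl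
        ψ''.fst,
      IsStronglyCartesian.map_isHomLift (F ⋙ πX) ((F ⋙ πX).map ψ.fst) ψ.fst rfl ψ''.fst,
      IsStronglyCartesian.fac (F ⋙ πX) ((F ⋙ πX).map ψ.fst) ψ.fst rfl ψ''.fst⟩
  have hkc : πX.map (F.map c) = k := (IsHomLift.eq_of_isHomLift (F ⋙ πX) k c).symm
  have key : ∀ (c' : Z''.fst ⟶ Z'.fst), πX.map (F.map c') = k → c' ≫ ψ.fst = ψ''.fst →
      F.map c' ≫ Z'.iso.hom = Z''.iso.hom ≫ h := by
    intro c' hkc' hc2'
    obtain ⟨g₀, hg₀⟩ : ∃ g₀ : πX.obj (F.obj Z''.fst) ⟶ πX.obj Z'.snd,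
        g₀ = πX.map (Z''.iso.hom ≫ h) := ⟨_, rfl⟩
    have m1 : πX.IsHomLift g₀ (F.map c' ≫ Z'.iso.hom) := by
      apply IsHomLift.of_fac' πX g₀ _ rfl rfl
      simp only [eqToHom_refl, Category.comp_id, Category.id_comp]
      rw [πX.map_comp, hkc', hk, hg₀, ← πX.map_comp]
      simp
    have m2 : πX.IsHomLift g₀ (Z''.iso.hom ≫ h) := by
      apply IsHomLift.of_fac' πX g₀ _ rfl rfl
      simp only [eqToHom_refl, Category.comp_id, Category.id_comp]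
      exact hg₀.symm
    apply IsStronglyCartesian.ext πX (πX.map ψ.snd) ψ.snd g₀
    have w1 : F.map c' ≫ F.map ψ.fst = F.map ψ''.fst := by rw [← F.map_comp, hc2']
    have w2 := ψ.w
    have w3 := ψ''.w
    simp only [Functor.id_map] at w2 w3
    rw [Category.assoc, ← w2, ← Category.assoc, w1, w3, e1, Category.assoc]
  have hcw : F.map c ≫ Z'.iso.hom = Z''.iso.hom ≫ (𝟭 X).map h := key c hkc hc2
  let χ : Z'' ⟶ Z' := ⟨c, h, hcw⟩
  refine ⟨χ, ⟨?_, ?_⟩, ?_⟩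
  · rw [← hh]; exact IsHomLift.map (π₂ F (𝟭 X)) χ
  · apply CategoricalPullback.hom_ext
    · exact hc2
    · exact e1.symm
  · rintro χ' ⟨hχ'1, hχ'2⟩
    have e2 : χ'.snd = h := by
      rw [hh]; exact snd_eq_of_isHomLift F g χ' hχ'1
    have e3 : χ'.fst ≫ ψ.fst = ψ''.fst := congrArg (fun m => m.fst) hχ'2
    have l2 : (F ⋙ πX).IsHomLift k χ'.fst := by
      apply IsHomLift.of_fac' (F ⋙ πX) k χ'.fst rfl rfl
      simp only [eqToHom_refl, Category.comp_id, Category.id_comp, Functor.comp_map]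
      rw [map_fst_eq, e2, hk]
    apply CategoricalPullback.hom_ext
    · exact IsStronglyCartesian.ext (F ⋙ πX) ((F ⋙ πX).map ψ.fst) ψ.fst k (e3.trans hc2.symm)
    · exact e2

include hX hY in
theorem isFibGrpd_π₂ : FibCat.IsFibGrpd (π₂ F (𝟭 X)) where
  exists_lift := by
    intro Z V f
    obtain ⟨f₀, hf₀⟩ : ∃ f₀ : V ⟶ Z.snd, f₀ = f := ⟨f, rfl⟩
    obtain ⟨g, hg⟩ : ∃ g : πX.obj V ⟶ (F ⋙ πX).obj Z.fst, g = πX.map (f₀ ≫ Z.iso.inv) := ⟨_, rfl⟩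
    obtain ⟨y', a, ha⟩ := hY.exists_lift (x := Z.fst) g
    have hy' : πX.obj (F.obj y') = πX.obj V := IsHomLift.domain_eq (F ⋙ πX) g a
    have hcX : πX.IsStronglyCartesian (πX.map (F.map a)) (F.map a) := hX.isStronglyCartesian _
    have hfac : πX.map (F.map a) = eqToHom hy' ≫ g := by
      have := IsHomLift.fac' (F ⋙ πX) g a
      simpa using this
    have hw : πX.map (f₀ ≫ Z.iso.inv) = eqToHom hy'.symm ≫ πX.map (F.map a) := by
      rw [hfac, ← hg]; simp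
    have l0 : πX.IsHomLift (eqToHom hy'.symm ≫ πX.map (F.map a)) (f₀ ≫ Z.iso.inv) := by
      rw [← hw]; exact IsHomLift.map πX _
    obtain ⟨φ₀, hφ1, hφ2⟩ : ∃ φ₀ : V ⟶ F.obj y', πX.IsHomLift (eqToHom hy'.symm) φ₀ ∧
        φ₀ ≫ F.map a = f₀ ≫ Z.iso.inv :=
      ⟨IsStronglyCartesian.map πX (πX.map (F.map a)) (F.map a) rfl (f₀ ≫ Z.iso.inv),
        IsStronglyCartesian.map_isHomLift πX (πX.map (F.map a)) (F.map a) rfl (f₀ ≫ Z.iso.inv),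
        IsStronglyCartesian.fac πX (πX.map (F.map a)) (F.map a) rfl (f₀ ≫ Z.iso.inv)⟩
    have hiso : IsIso φ₀ := isIso_of_isHomLift_iso πX hX (eqToHom hy'.symm) φ₀
    let Z' : CategoricalPullback F (𝟭 X) := ⟨y', V, (asIso φ₀).symm⟩
    have hcw : F.map a ≫ Z.iso.hom = (asIso φ₀).symm.hom ≫ (𝟭 X).map f₀ := by
      show F.map a ≫ Z.iso.hom = inv φ₀ ≫ f₀
      rw [IsIso.eq_inv_comp, ← Category.assoc, hφ2, Category.assoc, Iso.inv_hom_id, Category.comp_id]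
    let ψ : Z' ⟶ Z := ⟨a, f₀, hcw⟩
    refine ⟨Z', ψ, ?_⟩
    rw [← hf₀]
    exact IsHomLift.map (π₂ F (𝟭 X)) ψ
  isStronglyCartesian := by
    intro Z' Z ψ
    exact isStronglyCartesian_π₂ πX F hX hY ψ

end Groth.Agent.H3.CatPullSnd
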