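import Mathlib
import Groth.Prelude.Def_AlgSpCov
import Groth.Agent.Lib.Helper5.AlgSp.LocPBasic
import Groth.Agent.Lib.Helper5.AlgSp.Points
import Groth.Agent.Lib.Helper5.AlgSp.Cover
import Groth.Agent.Lib.Helper1.DVRCrit

/-! Helper3: Čech-descending properties on an algebraic space (S10511).
Wide pullbacks of representable morphisms from representables are representable. -/

set_option autoImplicit false

universe u

open CategoryTheory CategoryTheory.Limits AlgebraicGeometry

namespace Groth.Agent.H3.CechDesc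

open _root_.AlgSp Groth.Agent.H5.AlgSp

variable {S : Scheme.{u}}

/-- the wide pullback of a finite family of morphisms `Y k ⟶ B` which are representable with `Q₀`
and whose last source is a representable sheaf is a representable sheaf. -/
theorem exists_rep_widePullback (Q₀ : MorphismProperty Scheme.{u}) [Q₀.IsStableUnderComposition]
    [Q₀.ContainsIdentities] {B : Sp S} :
    ∀ (m : ℕ) (Y : Fin (m + 1) → Sp S) (f : ∀ k, Y k ⟶ B) (T : Over S)
      (e : Y (Fin.last m) ≅ (yon S).obj T) (_ : ∀ k, RepWith Q₀ (f k)),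
      ∃ (T' : Over S) (φ : widePullback B Y f ≅ (yon S).obj T') (j : T' ⟶ T),
        Q₀ j.left ∧ φ.inv ≫ WidePullback.π f (Fin.last m) ≫ e.hom = (yon S).map j := by
  intro m
  induction m with
  | zero =>
    intro Y f T e h
    have w0 : ∀ k : Fin 1, (Fin.cases (motive := fun k => Y 0 ⟶ Y k) (𝟙 (Y 0))
        (fun k => k.elim0) k) ≫ f k = f 0 := by
      intro k
      refine Fin.cases ?_ (fun k => k.elim0) k
      simp
    let inv0 : Y 0 ⟶ widePullback B Y f := WidePullback.lift (f 0)
      (Fin.cases (motive := fun k => Y 0 ⟶ Y k) (𝟙 (Y 0)) (fun k => k.elim0)) w0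
    have h1 : inv0 ≫ WidePullback.π f 0 = 𝟙 (Y 0) := by
      rw [WidePullback.lift_π]
      rfl
    have h2 : WidePullback.π f 0 ≫ inv0 = 𝟙 _ := by
      apply WidePullback.hom_ext
      · intro k
        refine Fin.cases ?_ (fun k => k.elim0) k
        rw [Category.assoc, h1, Category.comp_id, Category.id_comp]
      · rw [Category.assoc, WidePullback.lift_base, WidePullback.π_arrow, Category.id_comp]
    let φ0 : widePullback B Y f ≅ Y 0 := ⟨WidePullback.π f 0, inv0, h2, h1⟩
    refine ⟨T, φ0 ≪≫ e, 𝟙 T, Q₀.id_mem _, ?_⟩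
    change (e.inv ≫ inv0) ≫ WidePullback.π f 0 ≫ e.hom = _
    rw [Category.assoc, ← Category.assoc inv0, h1, Category.id_comp, Iso.inv_hom_id,
      (yon S).map_id]
  | succ m ih =>
    intro Y f T e h
    obtain ⟨T'', φ'', j'', hj'', hc''⟩ := ih (fun k => Y k.succ) (fun k => f k.succ) T e
      (fun k => h k.succ)
    obtain ⟨ξ, hξ⟩ : ∃ ξ : (yon S).obj T'' ⟶ B,
      ξ = φ''.inv ≫ WidePullback.base (fun k : Fin (m + 1) => f k.succ) := ⟨_, rfl⟩
    have sq := (h 0).rep.isPullback ξ
    have hsnd : Q₀ ((h 0).rep.snd ξ).left := (h 0).property_snd ξ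
    let toL : widePullback B Y f ⟶ widePullback B (fun k : Fin (m + 1) => Y k.succ)
        (fun k => f k.succ) :=
      WidePullback.lift (WidePullback.base f) (fun k => WidePullback.π f k.succ)
        (fun k => WidePullback.π_arrow f k.succ)
    have htoLπ : ∀ k, toL ≫ WidePullback.π (fun k : Fin (m + 1) => f k.succ) k =
        WidePullback.π f k.succ := fun k => WidePullback.lift_π _ _ _ _ k
    have htoLb : toL ≫ WidePullback.base (fun k : Fin (m + 1) => f k.succ) =
        WidePullback.base f := WidePullback.lift_base _ _ _ _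
    have hα : WidePullback.π f 0 ≫ f 0 = (toL ≫ φ''.hom) ≫ ξ := by
      rw [hξ, Category.assoc, Iso.hom_inv_id_assoc, htoLb, WidePullback.π_arrow]
    let α : widePullback B Y f ⟶ (yon S).obj ((h 0).rep.pullback ξ) :=
      sq.lift (WidePullback.π f 0) (toL ≫ φ''.hom) hα
    have hαfst : α ≫ (h 0).rep.fst ξ = WidePullback.π f 0 := sq.lift_fst _ _ _
    have hαsnd : α ≫ (yon S).map ((h 0).rep.snd ξ) = toL ≫ φ''.hom := sq.lift_snd _ _ _
    have wβ : ∀ k : Fin (m + 2), (Fin.cases (motive := fun k => (yon S).obj ((h 0).rep.pullback ξ) ⟶ Y k)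
        ((h 0).rep.fst ξ) (fun k => (yon S).map ((h 0).rep.snd ξ) ≫ φ''.inv ≫
          WidePullback.π (fun k : Fin (m + 1) => f k.succ) k) k) ≫ f k =
        (h 0).rep.fst ξ ≫ f 0 := by
      intro k
      refine Fin.cases ?_ (fun k => ?_) k
      · rfl
      · simp only [Fin.cases_succ, Category.assoc, WidePullback.π_arrow]
        rw [sq.w, hξ]
    let β : (yon S).obj ((h 0).rep.pullback ξ) ⟶ widePullback B Y f :=
      WidePullback.lift ((h 0).rep.fst ξ ≫ f 0) _ wβ
    have hβ0 : β ≫ WidePullback.π f 0 = (h 0).rep.fst ξ := by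
      rw [WidePullback.lift_π]
      rfl
    have hβs : ∀ k : Fin (m + 1), β ≫ WidePullback.π f k.succ =
        (yon S).map ((h 0).rep.snd ξ) ≫ φ''.inv ≫
          WidePullback.π (fun k : Fin (m + 1) => f k.succ) k := by
      intro k
      rw [WidePullback.lift_π]
      rfl
    have hβb : β ≫ WidePullback.base f = (h 0).rep.fst ξ ≫ f 0 := WidePullback.lift_base _ _ _ _
    have hβtoL : β ≫ toL = (yon S).map ((h 0).rep.snd ξ) ≫ φ''.inv := by
      apply WidePullback.hom_ext
      · intro k
        rw [Category.assoc, htoLπ, hβs, Category.assoc]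
      · rw [Category.assoc, htoLb, hβb, Category.assoc, sq.w, hξ]
    have h1 : α ≫ β = 𝟙 _ := by
      apply WidePullback.hom_ext
      · intro k
        refine Fin.cases ?_ (fun k => ?_) k
        · rw [Category.assoc, hβ0, hαfst, Category.id_comp]
        · rw [Category.assoc, hβs, ← Category.assoc, hαsnd, Category.assoc,
            Iso.hom_inv_id_assoc, htoLπ, Category.id_comp]
      · rw [Category.assoc, hβb, ← Category.assoc, hαfst, WidePullback.π_arrow, Category.id_comp]
    have h2 : β ≫ α = 𝟙 _ := by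
      apply sq.hom_ext
      · rw [Category.assoc, hαfst, hβ0, Category.id_comp]
      · rw [Category.assoc, hαsnd, ← Category.assoc, hβtoL, Category.assoc, Iso.inv_hom_id,
          Category.comp_id, Category.id_comp]
    refine ⟨(h 0).rep.pullback ξ, ⟨α, β, h1, h2⟩, (h 0).rep.snd ξ ≫ j'', ?_, ?_⟩
    · rw [Over.comp_left]
      exact Q₀.comp_mem _ _ hsnd hj''
    · change β ≫ WidePullback.π f (Fin.last m).succ ≫ e.hom = _
      rw [← Category.assoc, hβs, Category.assoc, Category.assoc, hc'', ← (yon S).map_comp]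

/-- a morphism from an affine scheme to a separated scheme is affine -/
lemma isAffineHom_of_sep {X Y : Scheme.{u}} (f : X ⟶ Y) [IsAffine X] [Y.IsSeparated] :
    IsAffineHom f := by
  haveI : IsAffineHom (f ≫ terminal.from Y) := by
    rw [terminal.comp_from]
    infer_instance
  exact IsAffineHom.of_comp f (terminal.from Y)

/-- an open subscheme of an affine scheme is separated -/
lemma isSeparated_of_openImm {X Y : Scheme.{u}} (f : X ⟶ Y) [IsOpenImmersion f] [IsAffine Y] :
    X.IsSeparated := by
  constructor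
  rw [← terminal.comp_from f]
  infer_instance

/-- the affine opens of `T` as schemes over `S` -/
noncomputable abbrev affOver (T : Over S) (j : T.left.affineOpens) : Over S :=
  Over.mk (j.1.ι ≫ T.hom)

/-- the inclusion of an affine open -/
noncomputable abbrev affIncl (T : Over S) (j : T.left.affineOpens) : affOver T j ⟶ T :=
  Over.homMk j.1.ι rfl

instance (T : Over S) (j : T.left.affineOpens) : IsAffine (affOver T j).left := j.2

instance (T : Over S) (j : T.left.affineOpens) : IsOpenImmersion (affIncl T j).left :=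
  inferInstanceAs (IsOpenImmersion j.1.ι)

/-- the affine opens of a representable sheaf form an fppf covering -/
theorem cover_affineOpens {U : Sp S} (T : Over S) (e : U ≅ (yon S).obj T) :
    IsFppfCover (fun j : T.left.affineOpens => (yon S).obj (affOver T j))
      (fun j => (yon S).map (affIncl T j) ≫ e.inv) := by
  refine ⟨fun j => ?_, fun x => ?_⟩
  · have h1 : RepWith @Etale ((yon S).map (affIncl T j) ≫ e.inv) :=
      (MorphismProperty.cancel_right_of_respectsIso (RepWith @Etale) _ e.inv).2
        ((repWith_yon_map_iff @Etale _).2 inferInstance)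
    exact ⟨locP_of_repWith etale_le_flat (repWith_mono etale_le_flat h1),
      locP_of_repWith etale_le_lfp (repWith_mono etale_le_lfp h1)⟩
  · obtain ⟨t, ht⟩ := ofScheme_surjective T (Points.map e.hom x)
    obtain ⟨W, hW, htW, -⟩ := Groth.Agent.H1.DVRCrit.exists_affine_nhd_le t ⊤ trivial
    refine ⟨⟨W, hW⟩, Points.ofScheme _ ⟨t, htW⟩, ?_⟩
    have hx : x = Points.map e.inv (Points.ofScheme T t) := by
      rw [ht, ← Points.map_comp, Iso.hom_inv_id, Points.map_id]
    rw [hx]
    change Points.map _ (Points.ofPt (𝟙 _) _) = Points.map e.inv (Points.ofPt (𝟙 _) t)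
    rw [Points.map_ofPt, Points.map_ofPt, Category.id_comp, Category.id_comp, ofPt_yon_map_comp]
    rfl

section Main

variable (X : AlgSp.Space S)
  (P : ∀ ⦃U : AlgSp.Sp S⦄, (U ⟶ X.obj) → Prop)
  (hP : ∀ ⦃U : AlgSp.Sp S⦄ (a : U ⟶ X.obj), AlgSp.IsAlgSpace U →
      ∀ ⦃ι : Type u⦄ (Ui : ι → AlgSp.Sp S) (g : ∀ i, Ui i ⟶ U), (∀ i, AlgSp.IsAlgSpace (Ui i)) →
      AlgSp.IsFppfCover Ui g →
      (∀ (n : ℕ) (c : Fin (n + 1) → ι),
        P (WidePullback.base (fun k : Fin (n + 1) => g (c k)) ≫ a)) → P a)
  (haff : ∀ ⦃U : AlgSp.Sp S⦄ (a : U ⟶ X.obj) (T : Over S) (e : U ≅ (AlgSp.yon S).obj T),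
      IsAffine T.left → AlgSp.LocP @Flat a → AlgSp.LocP @LocallyOfFinitePresentation a → P a)

include haff in
theorem levelA ⦃U : Sp S⦄ (a : U ⟶ X.obj) (T : Over S) (e : U ≅ (yon S).obj T)
    (hT : IsAffine T.left) (ha : RepWith @Etale a) : P a :=
  haff a T e hT (locP_of_repWith etale_le_flat (repWith_mono etale_le_flat ha))
    (locP_of_repWith etale_le_lfp (repWith_mono etale_le_lfp ha))

include hP haff in
theorem levelB ⦃U : Sp S⦄ (a : U ⟶ X.obj) (T : Over S) (e : U ≅ (yon S).obj T)
    (hT : T.left.IsSeparated) (ha : RepWith @Etale a) : P a := by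
  refine hP a ((IsAlgSpace.yon_obj T).of_iso e.symm) _ _ (fun j => IsAlgSpace.yon_obj _)
    (cover_affineOpens T e) ?_
  intro n c
  have hk : ∀ k : Fin (n + 1), RepWith (@IsOpenImmersion ⊓ @IsAffineHom : MorphismProperty Scheme.{u})
      ((yon S).map (affIncl T (c k)) ≫ e.inv) := by
    intro k
    refine (MorphismProperty.cancel_right_of_respectsIso (RepWith _) _ e.inv).2
      ((repWith_yon_map_iff _ _).2 ⟨inferInstance, ?_⟩)
    exact isAffineHom_of_sep _
  obtain ⟨T', φ, j, hj, hc⟩ := exists_rep_widePullback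
    (@IsOpenImmersion ⊓ @IsAffineHom : MorphismProperty Scheme.{u}) n
    (fun k => (yon S).obj (affOver T (c k))) (fun k => (yon S).map (affIncl T (c k)) ≫ e.inv)
    (affOver T (c (Fin.last n))) (Iso.refl _) hk
  haveI : IsAffineHom j.left := hj.2
  haveI : IsOpenImmersion j.left := hj.1
  have hT' : IsAffine T'.left := isAffine_of_isAffineHom j.left
  refine levelA X P haff _ T' φ hT' ?_
  have hb : WidePullback.base (fun k : Fin (n + 1) => (yon S).map (affIncl T (c k)) ≫ e.inv) =
      φ.hom ≫ (yon S).map j ≫ (yon S).map (affIncl T (c (Fin.last n))) ≫ e.inv := by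
    have h5 : (yon S).map j = φ.inv ≫ WidePullback.π
        (fun k : Fin (n + 1) => (yon S).map (affIncl T (c k)) ≫ e.inv) (Fin.last n) := by
      rw [← hc, Iso.refl_hom, Category.comp_id]
    rw [h5, Category.assoc, Iso.hom_inv_id_assoc]
    exact (WidePullback.π_arrow _ (Fin.last n)).symm
  rw [hb]
  have h1 : RepWith @Etale ((yon S).map j) := (repWith_yon_map_iff @Etale _).2 inferInstance
  have h2 : RepWith @Etale ((yon S).map (affIncl T (c (Fin.last n)))) :=
    (repWith_yon_map_iff @Etale _).2 inferInstance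
  have h3 : RepWith @Etale φ.hom := MorphismProperty.of_isIso _ _
  have h4 : RepWith @Etale e.inv := MorphismProperty.of_isIso _ _
  exact (RepWith @Etale).comp_mem _ _ (by
    simp only [← Category.assoc]
    exact (RepWith @Etale).comp_mem _ _ ((RepWith @Etale).comp_mem _ _
      ((RepWith @Etale).comp_mem _ _ h3 h1) h2) h4) ha

include hP haff in
theorem levelC ⦃U : Sp S⦄ (a : U ⟶ X.obj) (T : Over S) (e : U ≅ (yon S).obj T)
    (ha : RepWith @Etale a) : P a := by
  refine hP a ((IsAlgSpace.yon_obj T).of_iso e.symm) _ _ (fun j => IsAlgSpace.yon_obj _)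
    (cover_affineOpens T e) ?_
  intro n c
  have hk : ∀ k : Fin (n + 1), RepWith (@IsOpenImmersion : MorphismProperty Scheme.{u})
      ((yon S).map (affIncl T (c k)) ≫ e.inv) := by
    intro k
    exact (MorphismProperty.cancel_right_of_respectsIso (RepWith _) _ e.inv).2
      ((repWith_yon_map_iff _ _).2 inferInstance)
  obtain ⟨T', φ, j, hj, hc⟩ := exists_rep_widePullback
    (@IsOpenImmersion : MorphismProperty Scheme.{u}) n
    (fun k => (yon S).obj (affOver T (c k))) (fun k => (yon S).map (affIncl T (c k)) ≫ e.inv)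
    (affOver T (c (Fin.last n))) (Iso.refl _) hk
  haveI : IsOpenImmersion j.left := hj
  have hT' : T'.left.IsSeparated := isSeparated_of_openImm j.left
  refine levelB X P hP haff _ T' φ hT' ?_
  have hb : WidePullback.base (fun k : Fin (n + 1) => (yon S).map (affIncl T (c k)) ≫ e.inv) =
      φ.hom ≫ (yon S).map j ≫ (yon S).map (affIncl T (c (Fin.last n))) ≫ e.inv := by
    have h5 : (yon S).map j = φ.inv ≫ WidePullback.π
        (fun k : Fin (n + 1) => (yon S).map (affIncl T (c k)) ≫ e.inv) (Fin.last n) := by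
      rw [← hc, Iso.refl_hom, Category.comp_id]
    rw [h5, Category.assoc, Iso.hom_inv_id_assoc]
    exact (WidePullback.π_arrow _ (Fin.last n)).symm
  rw [hb]
  have h1 : RepWith @Etale ((yon S).map j) := (repWith_yon_map_iff @Etale _).2 inferInstance
  have h2 : RepWith @Etale ((yon S).map (affIncl T (c (Fin.last n)))) :=
    (repWith_yon_map_iff @Etale _).2 inferInstance
  have h3 : RepWith @Etale φ.hom := MorphismProperty.of_isIso _ _
  have h4 : RepWith @Etale e.inv := MorphismProperty.of_isIso _ _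
  exact (RepWith @Etale).comp_mem _ _ (by
    simp only [← Category.assoc]
    exact (RepWith @Etale).comp_mem _ _ ((RepWith @Etale).comp_mem _ _
      ((RepWith @Etale).comp_mem _ _ h3 h1) h2) h4) ha

include hP haff in
theorem main : P (𝟙 X.obj) := by
  obtain ⟨U₀, p, hpe, hps⟩ := X.property.atlas
  refine hP (𝟙 X.obj) X.property (fun _ : PUnit.{u + 1} => (yon S).obj U₀) (fun _ => p)
    (fun _ => IsAlgSpace.yon_obj _) ⟨fun _ => ?_, fun x => ?_⟩ ?_
  · exact ⟨locP_of_repWith etale_le_flat (repWith_mono etale_le_flat hpe),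
      locP_of_repWith etale_le_lfp (repWith_mono etale_le_lfp hpe)⟩
  · obtain ⟨y, hy⟩ := points_map_surjective_of_repWith hps x
    exact ⟨PUnit.unit, y, hy⟩
  · intro n c
    obtain ⟨T', φ, j, hj, hc⟩ := exists_rep_widePullback
      (@Etale : MorphismProperty Scheme.{u}) n
      (fun _ => (yon S).obj U₀) (fun _ => p) U₀ (Iso.refl _) (fun _ => hpe)
    haveI : Etale j.left := hj
    refine levelC X P hP haff _ T' φ ?_
    have hb : WidePullback.base (fun _ : Fin (n + 1) => p) = φ.hom ≫ (yon S).map j ≫ p := by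
      have h5 : (yon S).map j = φ.inv ≫ WidePullback.π (fun _ : Fin (n + 1) => p) (Fin.last n) := by
        rw [← hc, Iso.refl_hom, Category.comp_id]
      rw [h5, Category.assoc, Iso.hom_inv_id_assoc]
      exact (WidePullback.π_arrow _ (Fin.last n)).symm
    rw [Category.comp_id]
    change RepWith @Etale (WidePullback.base (fun _ : Fin (n + 1) => p))
    rw [hb]
    have h1 : RepWith @Etale ((yon S).map j) := (repWith_yon_map_iff @Etale _).2 inferInstance
    have h3 : RepWith @Etale φ.hom := MorphismProperty.of_isIso _ _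
    exact (RepWith @Etale).comp_mem _ _ h3 ((RepWith @Etale).comp_mem _ _ h1 hpe)

end Main

end Groth.Agent.H3.CechDesc
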