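import Mathlib
import Groth.Agent.Lib.Helper3.GrpQuot1

/-!
# Extensions `1 → G → E → P → 1` with `G` commutative: centrality and commutativity
-/

set_option autoImplicit false

open CategoryTheory Limits MonoidalCategory CartesianMonoidalCategory MonObj

universe v₁ u₁

namespace Groth.Agent.H3.CentExt

open Groth.Agent.H3.GrpQuot

variable {𝒮 : Type u₁} [Category.{v₁} 𝒮] [CartesianMonoidalCategory 𝒮]
  {G E P : 𝒮} [GrpObj G] [GrpObj E] [GrpObj P] (u : G ⟶ E) (v : E ⟶ P) [IsMonHom u] [IsMonHom v]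
  (huv : u ≫ v = 1) (hkp : IsKernelPair v (fst E G) (mmul u))

include hkp in
lemma mono_u : Mono u := by
  constructor
  intro T g₁ g₂ h
  have h1 : lift (1 : T ⟶ E) g₁ = lift (1 : T ⟶ E) g₂ := by
    apply hkp.hom_ext
    · rw [lift_fst, lift_fst]
    · rw [lift_mmul, lift_mmul, h]
  have := congrArg (fun t => t ≫ snd E G) h1
  simpa using this

include hkp in
/-- an element of `E` mapping to `1` in `P` comes from `G` -/
lemma exists_of_comp_v_eq_one {T : 𝒮} (x : T ⟶ E) (hx : x ≫ v = 1) : ∃ h : T ⟶ G, x = h ≫ u := by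
  have h1 : (1 : T ⟶ E) ≫ v = x ≫ v := by rw [hx, MonObj.one_comp]
  obtain ⟨h, hh⟩ := (comp_π_eq_iff u v hkp _ _).1 h1
  exact ⟨h, by rw [hh, _root_.one_mul]⟩

include huv in
lemma comp_u_comp_v {T : 𝒮} (g : T ⟶ G) : (g ≫ u) ≫ v = 1 := by
  rw [Category.assoc, huv, MonObj.comp_one]

include huv hkp in
/-- conjugation -/
lemma exists_conj : ∃ c : E ⊗ G ⟶ G, ∀ {T : 𝒮} (x : T ⟶ E) (g : T ⟶ G),
    x * (g ≫ u) * x⁻¹ = (lift x g ≫ c) ≫ u := by
  obtain ⟨c, hc⟩ := exists_of_comp_v_eq_one u v hkp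
    (fst E G * (snd E G ≫ u) * (fst E G)⁻¹) (by
      rw [MonObj.mul_comp, MonObj.mul_comp, GrpObj.inv_comp, comp_u_comp_v u v huv, _root_.mul_one,
        _root_.mul_inv_cancel])
  refine ⟨c, fun x g => ?_⟩
  rw [Category.assoc, ← hc, MonObj.comp_mul, MonObj.comp_mul, GrpObj.comp_inv, lift_fst,
    ← Category.assoc, lift_snd]

variable [HasPullbacks 𝒮] (huee : UEE 𝒮 v)

include huv hkp huee in
/-- centrality of `u(G)` in `E` -/
theorem central [BraidedCategory 𝒮] [IsCommMonObj G]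
    (hPG : ∀ f : P ⊗ G ⟶ G, lift (𝟙 P) (toUnit P ≫ η[G]) ≫ f = 1 →
      lift (toUnit G ≫ η[P]) (𝟙 G) ≫ f = 1 → f = 1)
    {T : 𝒮} (g : T ⟶ G) (x : T ⟶ E) : (g ≫ u) * x = x * (g ≫ u) := by
  haveI := mono_u u v hkp
  obtain ⟨c, hc⟩ := exists_conj u v huv hkp
  -- descend `c` along `v ▷ G`
  have hE : EffectiveEpi (v ▷ G) := (UEE.whiskerRight G huee).effectiveEpi
  have hEv : Epi v := huee.epi
  have hcompat : ∀ {Z : 𝒮} (g₁ g₂ : Z ⟶ E ⊗ G), g₁ ≫ (v ▷ G) = g₂ ≫ (v ▷ G) → g₁ ≫ c = g₂ ≫ c := by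
    intro Z g₁ g₂ h
    have hs : g₁ ≫ snd E G = g₂ ≫ snd E G := by
      have := congrArg (fun f => f ≫ snd P G) h
      simpa using this
    have hf : (g₁ ≫ fst E G) ≫ v = (g₂ ≫ fst E G) ≫ v := by
      have := congrArg (fun f => f ≫ fst P G) h
      simpa using this
    obtain ⟨k, hk⟩ := (comp_π_eq_iff u v hkp _ _).1 hf
    rw [← cancel_mono u]
    have e1 : g₁ = lift (g₁ ≫ fst E G) (g₁ ≫ snd E G) := by
      apply CartesianMonoidalCategory.hom_ext <;> simp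
    have e2 : g₂ = lift (g₂ ≫ fst E G) (g₁ ≫ snd E G) := by
      apply CartesianMonoidalCategory.hom_ext <;> simp [hs]
    rw [e1, e2, ← hc, ← hc, hk]
    have hcomm : (k ≫ u) * ((g₁ ≫ snd E G) ≫ u) = ((g₁ ≫ snd E G) ≫ u) * (k ≫ u) := by
      rw [← MonObj.mul_comp, ← MonObj.mul_comp, _root_.mul_comm]
    rw [_root_.mul_inv_rev, _root_.mul_assoc (g₁ ≫ fst E G) (k ≫ u), hcomm]
    group
  obtain ⟨cbar, hcbar⟩ : ∃ cbar : P ⊗ G ⟶ G, (v ▷ G) ≫ cbar = c :=
    ⟨EffectiveEpi.desc (v ▷ G) c hcompat, EffectiveEpi.fac _ _ _⟩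
  have hf1 : cbar * (snd P G)⁻¹ = 1 := by
    apply hPG
    · rw [MonObj.comp_mul, GrpObj.comp_inv, lift_snd]
      rw [← cancel_epi v, MonObj.comp_mul, MonObj.comp_one, GrpObj.comp_inv]
      have h1 : v ≫ lift (𝟙 P) (toUnit P ≫ η[G]) = lift (𝟙 E) 1 ≫ (v ▷ G) := by
        apply CartesianMonoidalCategory.hom_ext
        · simp
        · simp only [Category.assoc, lift_snd, whiskerRight_snd]
          rw [← Category.assoc, toUnit_unique (v ≫ toUnit P) (toUnit E)]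
          rfl
      rw [← Category.assoc, h1, Category.assoc, hcbar]
      have h2 : lift (𝟙 E) 1 ≫ c = 1 := by
        rw [← cancel_mono u, ← hc, MonObj.one_comp]
        simp
      rw [h2]
      have h3 : v ≫ toUnit P ≫ η[G] = 1 := by
        rw [← Category.assoc, toUnit_unique (v ≫ toUnit P) (toUnit E)]
        rfl
      rw [h3]
      simp
    · rw [MonObj.comp_mul, GrpObj.comp_inv, lift_snd]
      have h1 : lift (toUnit G ≫ η[P]) (𝟙 G) = lift 1 (𝟙 G) ≫ (v ▷ G) := by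
        apply CartesianMonoidalCategory.hom_ext
        · simp only [Category.assoc, lift_fst, whiskerRight_fst]
          rw [← Category.assoc, lift_fst, MonObj.one_comp]
          rfl
        · simp
      rw [h1, Category.assoc, hcbar]
      have h2 : lift 1 (𝟙 G) ≫ c = 𝟙 G := by
        rw [← cancel_mono u, ← hc]
        simp
      rw [h2]
      simp
  have hc2 : c = snd E G := by
    rw [← hcbar, _root_.mul_inv_eq_one.1 hf1, whiskerRight_snd]
  have := hc x g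
  rw [hc2, lift_snd] at this
  exact (mul_inv_eq_iff_eq_mul.1 this).symm


lemma group_comm_aux {M : Type*} [Group M] (x y a b : M) (ha : ∀ z, a * z = z * a)
    (hb : ∀ z, b * z = z * b) :
    (x * a) * (y * b) * (x * a)⁻¹ * (y * b)⁻¹ = x * y * x⁻¹ * y⁻¹ := by
  calc (x * a) * (y * b) * (x * a)⁻¹ * (y * b)⁻¹
      = x * (a * (y * b)) * (x * a)⁻¹ * (y * b)⁻¹ := by group
    _ = x * ((y * b) * a) * (a⁻¹ * x⁻¹) * (y * b)⁻¹ := by rw [ha, _root_.mul_inv_rev]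
    _ = x * y * (b * x⁻¹) * (b⁻¹ * y⁻¹) := by rw [_root_.mul_inv_rev]; group
    _ = x * y * (x⁻¹ * b) * (b⁻¹ * y⁻¹) := by rw [hb]
    _ = x * y * x⁻¹ * y⁻¹ := by group

include hkp huee in
/-- commutativity of `E` -/
theorem comm [BraidedCategory 𝒮] [IsCommMonObj P]
    (hcent : ∀ {T : 𝒮} (g : T ⟶ G) (x : T ⟶ E), (g ≫ u) * x = x * (g ≫ u))
    (hPP : ∀ f : P ⊗ P ⟶ G, lift (𝟙 P) (toUnit P ≫ η[P]) ≫ f = 1 →
      lift (toUnit P ≫ η[P]) (𝟙 P) ≫ f = 1 → f = 1) :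
    IsCommMonObj E := by
  haveI := mono_u u v hkp
  obtain ⟨κ, hκ'⟩ := exists_of_comp_v_eq_one u v hkp
    (fst E E * snd E E * (fst E E)⁻¹ * (snd E E)⁻¹) (by
      rw [MonObj.mul_comp, MonObj.mul_comp, MonObj.mul_comp, GrpObj.inv_comp, GrpObj.inv_comp,
        _root_.mul_comm (fst E E ≫ v)]
      group)
  have hκ : ∀ {T : 𝒮} (x y : T ⟶ E), x * y * x⁻¹ * y⁻¹ = (lift x y ≫ κ) ≫ u := by
    intro T x y
    rw [Category.assoc, ← hκ', MonObj.comp_mul, MonObj.comp_mul, MonObj.comp_mul, GrpObj.comp_inv,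
      GrpObj.comp_inv, lift_fst, lift_snd]
  have hE : EffectiveEpi (v ⊗ₘ v) := (UEE.tensorHom huee huee).effectiveEpi
  have hEv : Epi v := huee.epi
  have hcompat : ∀ {Z : 𝒮} (g₁ g₂ : Z ⟶ E ⊗ E), g₁ ≫ (v ⊗ₘ v) = g₂ ≫ (v ⊗ₘ v) →
      g₁ ≫ κ = g₂ ≫ κ := by
    intro Z g₁ g₂ h
    have hf : (g₁ ≫ fst E E) ≫ v = (g₂ ≫ fst E E) ≫ v := by
      have := congrArg (fun f => f ≫ fst P P) h
      simpa using this
    have hs : (g₁ ≫ snd E E) ≫ v = (g₂ ≫ snd E E) ≫ v := by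
      have := congrArg (fun f => f ≫ snd P P) h
      simpa using this
    obtain ⟨a, ha⟩ := (comp_π_eq_iff u v hkp _ _).1 hf
    obtain ⟨b, hb⟩ := (comp_π_eq_iff u v hkp _ _).1 hs
    rw [← cancel_mono u]
    have e1 : g₁ = lift (g₁ ≫ fst E E) (g₁ ≫ snd E E) := by
      apply CartesianMonoidalCategory.hom_ext <;> simp
    have e2 : g₂ = lift (g₂ ≫ fst E E) (g₂ ≫ snd E E) := by
      apply CartesianMonoidalCategory.hom_ext <;> simp
    rw [e1, e2, ← hκ, ← hκ, ha, hb]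
    exact (group_comm_aux _ _ _ _ (fun z => hcent a z) (fun z => hcent b z)).symm
  obtain ⟨κbar, hκbar⟩ : ∃ κbar : P ⊗ P ⟶ G, (v ⊗ₘ v) ≫ κbar = κ :=
    ⟨EffectiveEpi.desc (v ⊗ₘ v) κ hcompat, EffectiveEpi.fac _ _ _⟩
  have hv1 : v ≫ toUnit P ≫ η[P] = (1 : E ⟶ E) ≫ v := by
    rw [← Category.assoc, toUnit_unique (v ≫ toUnit P) (toUnit E), MonObj.one_comp]
    rfl
  have hκ1 : κbar = 1 := by
    apply hPP
    · rw [← cancel_epi v, MonObj.comp_one]
      have h1 : v ≫ lift (𝟙 P) (toUnit P ≫ η[P]) = lift (𝟙 E) 1 ≫ (v ⊗ₘ v) := by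
        apply CartesianMonoidalCategory.hom_ext
        · simp
        · simp only [Category.assoc, lift_snd, tensorHom_snd]
          rw [hv1, ← Category.assoc, lift_snd]
      rw [← Category.assoc, h1, Category.assoc, hκbar, ← cancel_mono u, ← hκ, MonObj.one_comp]
      simp
    · rw [← cancel_epi v, MonObj.comp_one]
      have h1 : v ≫ lift (toUnit P ≫ η[P]) (𝟙 P) = lift 1 (𝟙 E) ≫ (v ⊗ₘ v) := by
        apply CartesianMonoidalCategory.hom_ext
        · simp only [Category.assoc, lift_fst, tensorHom_fst]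
          rw [hv1, ← Category.assoc, lift_fst]
        · simp
      rw [← Category.assoc, h1, Category.assoc, hκbar, ← cancel_mono u, ← hκ, MonObj.one_comp]
      simp
  have hκ2 : κ = 1 := by rw [← hκbar, hκ1, MonObj.comp_one]
  have hxy : ∀ {T : 𝒮} (x y : T ⟶ E), x * y = y * x := by
    intro T x y
    have := hκ x y
    rw [hκ2, MonObj.comp_one, MonObj.one_comp] at this
    have h2 := mul_inv_eq_one.1 this
    exact mul_inv_eq_iff_eq_mul.1 h2
  constructor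
  rw [MonObj.mul_eq_mul, MonObj.comp_mul, braiding_hom_fst, braiding_hom_snd]
  exact hxy _ _

end Groth.Agent.H3.CentExt
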