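import Mathlib
import Groth.Agent.Lib.Helper3.CentExt

/-!
# Morphisms of extensions compatible with translations by the kernel are homomorphisms
-/

set_option autoImplicit false

open CategoryTheory Limits MonoidalCategory CartesianMonoidalCategory MonObj

universe v₁ u₁

namespace Groth.Agent.H3.CentExt

open Groth.Agent.H3.GrpQuot

variable {𝒮 : Type u₁} [Category.{v₁} 𝒮] [CartesianMonoidalCategory 𝒮]
  {G E E' P : 𝒮} [GrpObj G] [GrpObj E] [GrpObj E'] [GrpObj P]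
  (u : G ⟶ E) (v : E ⟶ P) [IsMonHom u] [IsMonHom v]
  (u' : G ⟶ E') (v' : E' ⟶ P) [IsMonHom u'] [IsMonHom v']
  (huv : u ≫ v = 1) (hkp : IsKernelPair v (fst E G) (mmul u))
  (hkp' : IsKernelPair v' (fst E' G) (mmul u'))

lemma group_aux {M : Type*} [Group M] (Fxy Fy Fx Ua Ub Ua'' : M) (e4 : Fy * Ua'' = Ua * Fy) :
    (Fxy * Ua'' * Ub) * (Fy * Ub)⁻¹ * (Fx * Ua)⁻¹ = Fxy * Fy⁻¹ * Fx⁻¹ := by
  have e4' : Ua'' = Fy⁻¹ * Ua * Fy := by rw [_root_.mul_assoc, ← e4]; group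
  rw [e4']
  group

variable [HasPullbacks 𝒮] (huee : UEE 𝒮 v)

include huv hkp hkp' huee in
theorem isMonHom_of_compat
    (hPP : ∀ c : P ⊗ P ⟶ G, lift (𝟙 P) (toUnit P ≫ η[P]) ≫ c = 1 →
      lift (toUnit P ≫ η[P]) (𝟙 P) ≫ c = 1 → c = 1)
    (f : E ⟶ E') (hv : f ≫ v' = v) (h1 : η[E] ≫ f = η[E'])
    (hl : ∀ (T : 𝒮) (g : T ⟶ G) (x : T ⟶ E), ((g ≫ u) * x) ≫ f = (g ≫ u') * (x ≫ f))
    (hr : ∀ (T : 𝒮) (g : T ⟶ G) (x : T ⟶ E), (x * (g ≫ u)) ≫ f = (x ≫ f) * (g ≫ u')) :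
    IsMonHom f := by
  haveI := mono_u u' v' hkp'
  obtain ⟨c, hc⟩ := exists_conj u v huv hkp
  have hF1 : ∀ {T : 𝒮}, (1 : T ⟶ E) ≫ f = 1 := by
    intro T
    rw [CategoryTheory.Hom.one_def, Category.assoc, h1]
    rfl
  obtain ⟨d, hd'⟩ := exists_of_comp_v_eq_one u' v' hkp'
    ((μ[E] ≫ f) * (snd E E ≫ f)⁻¹ * (fst E E ≫ f)⁻¹) (by
      rw [MonObj.mul_comp, MonObj.mul_comp, GrpObj.inv_comp, GrpObj.inv_comp, Category.assoc,
        Category.assoc, Category.assoc, hv, MonObj.mul_eq_mul, MonObj.mul_comp]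
      group)
  have hd : ∀ {T : 𝒮} (x y : T ⟶ E),
      ((x * y) ≫ f) * (y ≫ f)⁻¹ * (x ≫ f)⁻¹ = (lift x y ≫ d) ≫ u' := by
    intro T x y
    rw [Category.assoc, ← hd', MonObj.comp_mul, MonObj.comp_mul, GrpObj.comp_inv, GrpObj.comp_inv,
      ← Category.assoc, ← Category.assoc, ← Category.assoc, lift_fst, lift_snd, MonObj.mul_eq_mul,
      MonObj.comp_mul, lift_fst, lift_snd]
  have hE : EffectiveEpi (v ⊗ₘ v) := (UEE.tensorHom huee huee).effectiveEpi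
  have hEv : Epi v := huee.epi
  have hcompat : ∀ {Z : 𝒮} (g₁ g₂ : Z ⟶ E ⊗ E), g₁ ≫ (v ⊗ₘ v) = g₂ ≫ (v ⊗ₘ v) →
      g₁ ≫ d = g₂ ≫ d := by
    intro Z g₁ g₂ h
    have hf : (g₁ ≫ fst E E) ≫ v = (g₂ ≫ fst E E) ≫ v := by
      have := congrArg (fun f => f ≫ fst P P) h
      simpa using this
    have hs : (g₁ ≫ snd E E) ≫ v = (g₂ ≫ snd E E) ≫ v := by
      have := congrArg (fun f => f ≫ snd P P) h
      simpa using this
    obtain ⟨a, ha⟩ := (comp_π_eq_iff u v hkp _ _).1 hf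
    obtain ⟨b, hb⟩ := (comp_π_eq_iff u v hkp _ _).1 hs
    rw [← cancel_mono u']
    have e1 : g₁ = lift (g₁ ≫ fst E E) (g₁ ≫ snd E E) := by
      apply CartesianMonoidalCategory.hom_ext <;> simp
    have e2 : g₂ = lift (g₂ ≫ fst E E) (g₂ ≫ snd E E) := by
      apply CartesianMonoidalCategory.hom_ext <;> simp
    obtain ⟨x, hx⟩ : ∃ x, x = g₁ ≫ fst E E := ⟨_, rfl⟩
    obtain ⟨y, hy⟩ : ∃ y, y = g₁ ≫ snd E E := ⟨_, rfl⟩
    rw [e1, e2, ← hd, ← hd, ha, hb, ← hx, ← hy]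
    -- `y⁻¹ * u(a) * y = u(a'')`
    have hconj := hc y⁻¹ a
    rw [inv_inv] at hconj
    obtain ⟨a'', ha''⟩ : ∃ a'', a'' = lift y⁻¹ a ≫ c := ⟨_, rfl⟩
    rw [← ha''] at hconj
    have hya : y * (a'' ≫ u) = (a ≫ u) * y := by rw [← hconj]; group
    have k1 : (x * (a ≫ u)) * (y * (b ≫ u)) = ((x * y) * (a'' ≫ u)) * (b ≫ u) := by
      rw [← hconj]; group
    have e4 : (y ≫ f) * (a'' ≫ u') = (a ≫ u') * (y ≫ f) := by
      rw [← hr, hya, hl]
    rw [k1, hr, hr, hr, hr]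
    exact (group_aux _ _ _ _ _ _ e4).symm
  obtain ⟨dbar, hdbar⟩ : ∃ dbar : P ⊗ P ⟶ G, (v ⊗ₘ v) ≫ dbar = d :=
    ⟨EffectiveEpi.desc (v ⊗ₘ v) d hcompat, EffectiveEpi.fac _ _ _⟩
  have hv1 : v ≫ toUnit P ≫ η[P] = (1 : E ⟶ E) ≫ v := by
    rw [← Category.assoc, toUnit_unique (v ≫ toUnit P) (toUnit E), MonObj.one_comp]
    rfl
  have hd1 : dbar = 1 := by
    apply hPP
    · rw [← cancel_epi v, MonObj.comp_one]
      have h1 : v ≫ lift (𝟙 P) (toUnit P ≫ η[P]) = lift (𝟙 E) 1 ≫ (v ⊗ₘ v) := by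
        apply CartesianMonoidalCategory.hom_ext
        · simp
        · simp only [Category.assoc, lift_snd, tensorHom_snd]
          rw [hv1, ← Category.assoc, lift_snd]
      rw [← Category.assoc, h1, Category.assoc, hdbar, ← cancel_mono u', ← hd, hF1,
        MonObj.one_comp]
      simp
    · rw [← cancel_epi v, MonObj.comp_one]
      have h1 : v ≫ lift (toUnit P ≫ η[P]) (𝟙 P) = lift 1 (𝟙 E) ≫ (v ⊗ₘ v) := by
        apply CartesianMonoidalCategory.hom_ext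
        · simp only [Category.assoc, lift_fst, tensorHom_fst]
          rw [hv1, ← Category.assoc, lift_fst]
        · simp
      rw [← Category.assoc, h1, Category.assoc, hdbar, ← cancel_mono u', ← hd, hF1,
        MonObj.one_comp]
      simp
  have hd2 : d = 1 := by rw [← hdbar, hd1, MonObj.comp_one]
  have hxy : ∀ {T : 𝒮} (x y : T ⟶ E), (x * y) ≫ f = (x ≫ f) * (y ≫ f) := by
    intro T x y
    have := hd x y
    rw [hd2, MonObj.comp_one, MonObj.one_comp] at this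
    have h2 := mul_inv_eq_one.1 this
    exact mul_inv_eq_iff_eq_mul.1 h2
  refine ⟨h1, ?_⟩
  rw [MonObj.mul_eq_mul, hxy, MonObj.mul_eq_mul, MonObj.comp_mul, tensorHom_fst, tensorHom_snd]

end Groth.Agent.H3.CentExt
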