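import Mathlib
import Groth.Prelude.Def_FDesc
import Groth.Agent.Lib.Helper3.AG.GeomRedProd

/-!
# Closed subsets defined over the base field (helper3, S4682)
-/

set_option autoImplicit false
universe u
open CategoryTheory CategoryTheory.Limits AlgebraicGeometry

namespace Groth.Agent.H3.ClosedDef

open Scheme.IdealSheafData

theorem support_vanishingIdeal' {X : Scheme.{u}} (Z : TopologicalSpace.Closeds X) :
    (vanishingIdeal Z).support = Z := by
  ext1
  exact coe_support_vanishingIdeal Z

/-- the subscheme of an ideal sheaf is reduced iff all the ideals are radical -/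
theorem isReduced_subscheme_iff {X : Scheme.{u}} (I : X.IdealSheafData) :
    IsReduced I.subscheme ↔ ∀ U : X.affineOpens, (I.ideal U).IsRadical := by
  constructor
  · intro h U
    rw [Ideal.isRadical_iff_quotient_reduced]
    have h0 : IsOpenImmersion (I.subschemeCover.openCover.f U) :=
      I.subschemeCover.openCover.map_prop U
    have h1 : AlgebraicGeometry.IsReduced (I.subschemeCover.openCover.X U) :=
      isReduced_of_isOpenImmersion (I.subschemeCover.openCover.f U)
    exact (affine_isReduced_iff (.of (Γ(X, U) ⧸ I.ideal U))).mp h1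
  · intro h
    haveI : ∀ U, AlgebraicGeometry.IsReduced (I.subschemeCover.openCover.X U) := fun U => by
      have := (Ideal.isRadical_iff_quotient_reduced _).mp (h U)
      exact (affine_isReduced_iff (.of (Γ(X, (U : X.affineOpens).1) ⧸ I.ideal U))).mpr this
    exact IsReduced.of_openCover (X := I.subscheme) I.subschemeCover.openCover

theorem radical_eq_of_isReduced {X : Scheme.{u}} (I : X.IdealSheafData)
    (h : IsReduced I.subscheme) : I.radical = I := by
  ext U : 2
  rw [Scheme.IdealSheafData.radical_ideal, ((isReduced_subscheme_iff I).mp h U).radical]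

theorem isReduced_subscheme_vanishingIdeal {X : Scheme.{u}} (Z : TopologicalSpace.Closeds X) :
    IsReduced (vanishingIdeal Z).subscheme := by
  rw [isReduced_subscheme_iff]
  intro U
  rw [vanishingIdeal_ideal]
  exact PrimeSpectrum.isRadical_vanishingIdeal _

variable {K' K : Type u} [Field K'] [Field K] [Algebra K' K] {Y : Scheme.{u}}
  (fY : Y ⟶ Spec (CommRingCat.of K'))

/-- **S4682** -/
theorem closed_defined_iff
    [GeometricallyReduced (Spec.map (CommRingCat.ofHom (algebraMap K' K)))]
    (T : TopologicalSpace.Closeds ↥(FBase.bc fY K)) :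
    (∃ T' : TopologicalSpace.Closeds ↥Y,
        (T : Set ↥(FBase.bc fY K)) = ⇑(FBase.bcπ fY K) ⁻¹' (T' : Set ↥Y)) ↔
      ∃ J : Y.IdealSheafData, J.comap (FBase.bcπ fY K) = vanishingIdeal T := by
  constructor
  · rintro ⟨T', hT⟩
    refine ⟨vanishingIdeal T', ?_⟩
    set J := vanishingIdeal T' with hJ
    have hsupp : (J.comap (FBase.bcπ fY K)).support = T := by
      rw [support_comap, hJ, support_vanishingIdeal']
      ext1
      exact hT.symm
    haveI : IsReduced J.subscheme := isReduced_subscheme_vanishingIdeal T'
    have hred : IsReduced (J.comap (FBase.bcπ fY K)).subscheme := by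
      have e1 := J.comapIso (FBase.bcπ fY K)
      have e2 : pullback (FBase.bcπ fY K) J.subschemeι ≅
          pullback (Spec.map (CommRingCat.ofHom (algebraMap K' K))) (J.subschemeι ≫ fY) :=
        pullbackSymmetry _ _ ≪≫
          pullbackRightPullbackFstIso fY (Spec.map (CommRingCat.ofHom (algebraMap K' K)))
            J.subschemeι ≪≫ pullbackSymmetry _ _
      haveI : IsReduced (pullback (Spec.map (CommRingCat.ofHom (algebraMap K' K)))
          (J.subschemeι ≫ fY)) := Groth.Agent.H3.GeomRedProd.main _ _
      exact isReduced_of_isOpenImmersion (e1 ≪≫ e2).hom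
    rw [← radical_eq_of_isReduced _ hred, ← vanishingIdeal_support, hsupp]
  · rintro ⟨J, hJ⟩
    refine ⟨J.support, ?_⟩
    have h1 := support_comap J (FBase.bcπ fY K)
    rw [hJ, support_vanishingIdeal'] at h1
    rw [h1]
    rfl

end Groth.Agent.H3.ClosedDef
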