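import Mathlib
import Groth.Agent.Lib.Helper3.SubQuot
import Groth.Agent.Lib.Helper3.LocSec
import Groth.Agent.Lib.Helper3.GrpQuot5

/-!
# Descent of closed subschemes along a faithfully flat quasi-compact morphism
-/

set_option autoImplicit false

open CategoryTheory Limits AlgebraicGeometry

universe u

namespace Groth.Agent.H3.ClosedSub

variable {X Y : Scheme.{u}}

lemma isSchemeTheoreticallyDominant_toImage (f : X ⟶ Y) [QuasiCompact f] :
    IsSchemeTheoreticallyDominant f.toImage := by
  rw [isSchemeTheoreticallyDominant_iff]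
  refine Scheme.IdealSheafData.ext_of_iSup_eq_top
    (fun U : Y.affineOpens => ⟨f.imageι ⁻¹ᵁ U.1, U.2.preimage f.imageι⟩) ?_ ?_
  · simp only
    rw [← Scheme.Hom.preimage_iSup, iSup_affineOpens_eq_top]
    rfl
  · intro U
    rw [Scheme.Hom.ker_apply]
    simp only [Scheme.IdealSheafData.ideal_bot, Pi.bot_apply]
    exact (RingHom.injective_iff_ker_eq_bot _).mp (f.toImage_app_injective U)


open Groth.Agent.H3.GrpQuot (factors_iff_exists)

variable {X' : Scheme.{u}}

/-- A closed subscheme stable under the kernel pair of a flat quasi-compact `π` is the preimage of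
its scheme-theoretic image: on ideal sheaves. -/
theorem comap_ker_eq (π : X ⟶ X') [Flat π] [QuasiCompact π] (Y : Subobject X)
    [IsClosedImmersion Y.arrow]
    (hst : (Subobject.pullback (pullback.fst π π)).obj Y =
      (Subobject.pullback (pullback.snd π π)).obj Y) :
    (Y.arrow ≫ π).ker.comap π = Y.arrow.ker := by
  apply le_antisymm
  · rw [Scheme.Hom.ker_comp]
    exact Scheme.IdealSheafData.comap_map_le _ _
  · haveI := isSchemeTheoreticallyDominant_toImage (Y.arrow ≫ π)
    obtain ⟨j, hj⟩ : ∃ j, j = (Y.arrow ≫ π).imageι := ⟨_, rfl⟩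
    obtain ⟨f', hf'⟩ : ∃ f', f' = (Y.arrow ≫ π).toImage := ⟨_, rfl⟩
    have hfj : f' ≫ j = Y.arrow ≫ π := by rw [hj, hf', Scheme.Hom.toImage_imageι]
    haveI : IsClosedImmersion j := by rw [hj]; infer_instance
    haveI : IsSchemeTheoreticallyDominant f' := by rw [hf']; infer_instance
    haveI : QuasiCompact f' := by rw [hf']; infer_instance
    have hjker : j.ker = (Y.arrow ≫ π).ker := by
      rw [hj, Scheme.IdealSheafData.ker_subschemeι]
    obtain ⟨d, hd⟩ : ∃ d, d = pullback.snd f' (pullback.snd π j) := ⟨_, rfl⟩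
    obtain ⟨e, he⟩ : ∃ e, e = pullback.fst f' (pullback.snd π j) := ⟨_, rfl⟩
    haveI : IsSchemeTheoreticallyDominant d := by rw [hd]; infer_instance
    have hgker : (d ≫ pullback.fst π j).ker = (Y.arrow ≫ π).ker.comap π := by
      rw [Scheme.Hom.ker_comp, d.ker_eq_bot, Scheme.IdealSheafData.map_bot,
        Scheme.IdealSheafData.ker_fst_of_isClosedImmersion, hjker]
    have hc1 : e ≫ f' = d ≫ pullback.snd π j := by rw [he, hd]; exact pullback.condition
    have hc2 : pullback.fst π j ≫ π = pullback.snd π j ≫ j := pullback.condition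
    have hcomm : (e ≫ Y.arrow) ≫ π = (d ≫ pullback.fst π j) ≫ π :=
      calc (e ≫ Y.arrow) ≫ π = e ≫ (Y.arrow ≫ π) := Category.assoc _ _ _
        _ = e ≫ (f' ≫ j) := congrArg (e ≫ ·) hfj.symm
        _ = (e ≫ f') ≫ j := (Category.assoc _ _ _).symm
        _ = (d ≫ pullback.snd π j) ≫ j := by rw [hc1]
        _ = d ≫ (pullback.snd π j ≫ j) := Category.assoc _ _ _
        _ = d ≫ (pullback.fst π j ≫ π) := by rw [hc2]
        _ = (d ≫ pullback.fst π j) ≫ π := (Category.assoc _ _ _).symm
    obtain ⟨r, hr⟩ : ∃ r, r = pullback.lift (e ≫ Y.arrow) (d ≫ pullback.fst π j) hcomm :=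
      ⟨_, rfl⟩
    have h1 : ((Subobject.pullback (pullback.fst π π)).obj Y).Factors r := by
      rw [pullback_factors_iff, hr, pullback.lift_fst]
      exact Subobject.factors_comp_arrow e
    rw [hst, pullback_factors_iff, hr, pullback.lift_snd, factors_iff_exists] at h1
    obtain ⟨l, hl⟩ := h1
    rw [← hgker, ← hl]
    exact Scheme.Hom.le_ker_comp l Y.arrow


lemma isClosedImmersion_mk {U : Scheme.{u}} (i : U ⟶ X) [IsClosedImmersion i] :
    IsClosedImmersion (Subobject.mk i).arrow := by
  rw [← Subobject.underlyingIso_hom_comp_eq_mk]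
  infer_instance

lemma uee_of_fpqc (π : X ⟶ X') [Flat π] [Surjective π] [QuasiCompact π] : UEE Scheme.{u} π :=
  LocSec.IsCov.uee (J := Scheme.fpqcTopology)
    (Precoverage.generate_mem_toGrothendieck π.singleton_mem_fpqcPrecoverage)

/-- **S5233** -/
theorem bijOn_closed (π : X ⟶ X') [Flat π] [Surjective π] [QuasiCompact π] :
    Set.BijOn (Subobject.pullback π).obj
      {Y' : Subobject X' | IsClosedImmersion Y'.arrow}
      {Y : Subobject X | IsClosedImmersion Y.arrow ∧
        (Subobject.pullback (pullback.fst π π)).obj Y =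
          (Subobject.pullback (pullback.snd π π)).obj Y} := by
  refine ⟨?_, ?_, ?_⟩
  · intro Y' hY'
    refine ⟨MorphismProperty.of_isPullback (P := @IsClosedImmersion)
      (Subobject.isPullback π Y') hY', ?_⟩
    rw [← Subobject.pullback_comp, ← Subobject.pullback_comp, pullback.condition]
  · intro Y₁ _ Y₂ _ h
    exact SubQuot.pullback_injective π (uee_of_fpqc π) h
  · rintro Y ⟨hY, hst⟩
    haveI : IsClosedImmersion Y.arrow := hY
    have hker := comap_ker_eq π Y hst
    refine ⟨Subobject.mk (Y.arrow ≫ π).ker.subschemeι, isClosedImmersion_mk _, ?_⟩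
    have hpb := isPullback_of_isClosedImmersion Y.arrow (Y.arrow ≫ π).ker.subschemeι
      (Y.arrow ≫ π).toImage π (Scheme.Hom.toImage_imageι _).symm
      (by rw [Scheme.IdealSheafData.ker_subschemeι]; exact hker)
    rw [Subobject.pullback_obj_mk hpb.flip, Subobject.mk_arrow]

end Groth.Agent.H3.ClosedSub
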