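import Mathlib
import Groth.Prelude.Def_QCohCat
import Groth.Agent.Lib.Lead.QC.Push
import Groth.Agent.Lib.Lead.QC.Pullback

set_option autoImplicit false
open CategoryTheory AlgebraicGeometry
universe u

namespace Groth.Agent.H3.Coherator

variable {X Y : Scheme.{u}} (f : X ⟶ Y)

/-- pullback on quasi-coherent modules. -/
noncomputable def pullQC : QCohCat.QCoh Y ⥤ QCohCat.QCoh X :=
  (QCohCat.isQCoh X).lift ((QCohCat.isQCoh Y).ι ⋙ Scheme.Modules.pullback f) (fun N => by
    haveI : N.obj.IsQuasicoherent := N.property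
    exact Groth.Agent.LD.QC.qc_pullback f N.obj)

/-- pushforward on quasi-coherent modules, for `f` quasi-compact and quasi-separated. -/
noncomputable def pushQC [QuasiCompact f] [QuasiSeparated f] :
    QCohCat.QCoh X ⥤ QCohCat.QCoh Y :=
  (QCohCat.isQCoh Y).lift ((QCohCat.isQCoh X).ι ⋙ Scheme.Modules.pushforward f) (fun N => by
    haveI : N.obj.IsQuasicoherent := N.property
    exact Groth.Agent.LD.QC.qc_pushforward f N.obj)

noncomputable def adjQC [QuasiCompact f] [QuasiSeparated f] : pullQC f ⊣ pushQC f :=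
  Adjunction.restrictFullyFaithful (iC := (QCohCat.isQCoh Y).ι) (iD := (QCohCat.isQCoh X).ι)
    (Scheme.Modules.pullbackPushforwardAdjunction f)
    (QCohCat.isQCoh Y).fullyFaithfulι (QCohCat.isQCoh X).fullyFaithfulι
    (Iso.refl _) (Iso.refl _)

theorem main [CompactSpace X] [QuasiSeparatedSpace X] [CompactSpace Y] [QuasiSeparatedSpace Y]
    (QX : X.Modules ⥤ QCohCat.QCoh X) (adjX : (QCohCat.isQCoh X).ι ⊣ QX)
    (QY : Y.Modules ⥤ QCohCat.QCoh Y) (adjY : (QCohCat.isQCoh Y).ι ⊣ QY) :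
    Nonempty ((QX ⋙ (QCohCat.isQCoh X).ι ⋙ Scheme.Modules.pushforward f) ≅
      (Scheme.Modules.pushforward f ⋙ QY ⋙ (QCohCat.isQCoh Y).ι)) := by
  haveI : QuasiCompact f := inferInstance
  haveI : QuasiSeparated f := inferInstance
  -- two adjunctions with the same left adjoint
  have a1 : pullQC f ⋙ (QCohCat.isQCoh X).ι ⊣ QX ⋙ pushQC f := (adjQC f).comp adjX
  have a2 : (QCohCat.isQCoh Y).ι ⋙ Scheme.Modules.pullback f ⊣
      Scheme.Modules.pushforward f ⋙ QY :=
    adjY.comp (Scheme.Modules.pullbackPushforwardAdjunction f)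
  have e : QX ⋙ pushQC f ≅ Scheme.Modules.pushforward f ⋙ QY :=
    Adjunction.rightAdjointUniq a1 a2
  exact ⟨Functor.isoWhiskerRight e (QCohCat.isQCoh Y).ι⟩

end Groth.Agent.H3.Coherator
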