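import Mathlib
import Groth.Agent.Lib.Helper1.RegCompl
import Groth.Agent.Lib.Lead.QC.SuppPullback
import Groth.Agent.S0543

/-! Dimension is preserved by flat extensions inducing a bijection on maximal ideals with
trivial closed fibres (e.g. adic completion along an ideal in the Jacobson radical). -/

set_option autoImplicit false
universe u

open TensorProduct

namespace Groth.Agent.H3.ComplDim

section Height

variable {A B : Type*} [CommRing A] [CommRing B] [Algebra A B] [IsNoetherianRing A]
  [IsNoetherianRing B]

theorem height_eq_of_map_eq [Algebra.HasGoingDown A B]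
    (m : Ideal A) [m.IsPrime] (n : Ideal B) [n.IsPrime] [n.LiesOver m]
    (hn : n = m.map (algebraMap A B)) : n.height = m.height := by
  rw [Ideal.height_eq_height_add_of_liesOver_of_hasGoingDown m n]
  have h1 : n.map (Ideal.Quotient.mk (m.map (algebraMap A B))) = ⊥ := by
    rw [hn, Ideal.map_quotient_self]
  haveI : Nontrivial (B ⧸ m.map (algebraMap A B)) :=
    Ideal.Quotient.nontrivial_iff.mpr (hn ▸ Ideal.IsPrime.ne_top')
  rw [h1, Ideal.height_bot, add_zero]

end Height

/-- Maximal ideals of `B` are exactly the extensions of the maximal ideals of `A`. -/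
structure MaxCorr (A B : Type*) [CommRing A] [CommRing B] [Algebra A B] : Prop where
  map_max : ∀ m : Ideal A, m.IsMaximal → (m.map (algebraMap A B)).IsMaximal
  exists_max : ∀ n : Ideal B, n.IsMaximal →
    ∃ m : Ideal A, m.IsMaximal ∧ n = m.map (algebraMap A B)

namespace MaxCorr

section

variable {A B : Type*} [CommRing A] [CommRing B] [Algebra A B]

theorem comap_map (h : MaxCorr A B) (m : Ideal A) (hm : m.IsMaximal) :
    m = (m.map (algebraMap A B)).comap (algebraMap A B) :=
  hm.eq_of_le (Ideal.comap_ne_top _ (h.map_max m hm).ne_top) Ideal.le_comap_map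

theorem ringKrullDim_eq [IsNoetherianRing A] [IsNoetherianRing B] [Module.Flat A B]
    (h : MaxCorr A B) : ringKrullDim B = ringKrullDim A := by
  have key : ∀ m : Ideal A, m.IsMaximal → (m.map (algebraMap A B)).height = m.height := by
    intro m hm
    haveI := hm.isPrime
    haveI hn := h.map_max m hm
    haveI := hn.isPrime
    haveI : (m.map (algebraMap A B)).LiesOver m := ⟨h.comap_map m hm⟩
    exact height_eq_of_map_eq m _ rfl
  rcases subsingleton_or_nontrivial A with hA | hA
  · haveI : Subsingleton B := (algebraMap A B).codomain_trivial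
    rw [ringKrullDim_eq_bot_of_subsingleton, ringKrullDim_eq_bot_of_subsingleton]
  · obtain ⟨m0, hm0⟩ := Ideal.exists_maximal A
    haveI : Nontrivial B := by
      by_contra hB
      rw [not_nontrivial_iff_subsingleton] at hB
      exact (h.map_max m0 hm0).ne_top (Subsingleton.elim _ _)
    rw [← Ideal.sup_isMaximal_height_eq_ringKrullDim, ← Ideal.sup_isMaximal_height_eq_ringKrullDim,
      WithBot.coe_inj]
    apply le_antisymm
    · refine iSup₂_le fun n hn => ?_
      obtain ⟨m, hm, rfl⟩ := h.exists_max n hn
      rw [key m hm]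
      exact le_iSup₂ (f := fun (I : Ideal A) (_ : I.IsMaximal) => I.height) m hm
    · refine iSup₂_le fun m hm => ?_
      rw [← key m hm]
      exact le_iSup₂ (f := fun (I : Ideal B) (_ : I.IsMaximal) => I.height) _ (h.map_max m hm)

theorem quotient (h : MaxCorr A B) (I : Ideal A) :
    MaxCorr (A ⧸ I) (B ⧸ I.map (algebraMap A B)) := by
  have hcomm : (algebraMap (A ⧸ I) (B ⧸ I.map (algebraMap A B))).comp (Ideal.Quotient.mk I) =
      (Ideal.Quotient.mk (I.map (algebraMap A B))).comp (algebraMap A B) := rfl
  have hsA : Function.Surjective (Ideal.Quotient.mk I) := Ideal.Quotient.mk_surjective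
  have hsB : Function.Surjective (Ideal.Quotient.mk (I.map (algebraMap A B))) :=
    Ideal.Quotient.mk_surjective
  have hmapeq : ∀ m : Ideal A, (m.map (Ideal.Quotient.mk I)).map
      (algebraMap (A ⧸ I) (B ⧸ I.map (algebraMap A B))) =
      (m.map (algebraMap A B)).map (Ideal.Quotient.mk (I.map (algebraMap A B))) := by
    intro m
    rw [Ideal.map_map, Ideal.map_map, hcomm]
  constructor
  · intro m' hm'
    have hm : (m'.comap (Ideal.Quotient.mk I)).IsMaximal :=
      Ideal.comap_isMaximal_of_surjective _ hsA
    have hIm : I ≤ m'.comap (Ideal.Quotient.mk I) := by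
      intro a ha
      rw [Ideal.mem_comap, Ideal.Quotient.eq_zero_iff_mem.mpr ha]
      exact Ideal.zero_mem _
    have hm'eq : m' = (m'.comap (Ideal.Quotient.mk I)).map (Ideal.Quotient.mk I) :=
      (Ideal.map_comap_of_surjective _ hsA _).symm
    rw [hm'eq, hmapeq]
    have hker : RingHom.ker (Ideal.Quotient.mk (I.map (algebraMap A B))) ≤
        (m'.comap (Ideal.Quotient.mk I)).map (algebraMap A B) := by
      rw [Ideal.mk_ker]
      exact Ideal.map_mono hIm
    haveI := h.map_max _ hm
    exact Ideal.IsMaximal.map_of_surjective_of_ker_le hsB hker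
  · intro n' hn'
    have hn : (n'.comap (Ideal.Quotient.mk (I.map (algebraMap A B)))).IsMaximal :=
      Ideal.comap_isMaximal_of_surjective _ hsB
    obtain ⟨m, hm, hnm⟩ := h.exists_max _ hn
    have hIn : I.map (algebraMap A B) ≤ n'.comap (Ideal.Quotient.mk (I.map (algebraMap A B))) := by
      intro b hb
      rw [Ideal.mem_comap, Ideal.Quotient.eq_zero_iff_mem.mpr hb]
      exact Ideal.zero_mem _
    have hIm : I ≤ m := by
      rw [h.comap_map m hm, ← hnm, ← Ideal.map_le_iff_le_comap]
      exact hIn
    refine ⟨m.map (Ideal.Quotient.mk I), ?_, ?_⟩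
    · have hker : RingHom.ker (Ideal.Quotient.mk I) ≤ m := by
        rw [Ideal.mk_ker]
        exact hIm
      exact Ideal.IsMaximal.map_of_surjective_of_ker_le hsA hker
    · rw [hmapeq, ← hnm]
      exact (Ideal.map_comap_of_surjective _ hsB _).symm

end

section

variable {A B : Type u} [CommRing A] [CommRing B] [Algebra A B]

theorem flat_quotient [Module.Flat A B] (I : Ideal A) :
    Module.Flat (A ⧸ I) (B ⧸ I.map (algebraMap A B)) :=
  Module.Flat.of_linearEquiv
    (Algebra.TensorProduct.quotIdealMapEquivQuotTensor B I).toLinearEquiv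

theorem ringKrullDim_quotient_eq [IsNoetherianRing A] [IsNoetherianRing B] [Module.Flat A B]
    (h : MaxCorr A B) (I : Ideal A) :
    ringKrullDim (B ⧸ I.map (algebraMap A B)) = ringKrullDim (A ⧸ I) := by
  haveI := flat_quotient (B := B) I
  exact (h.quotient I).ringKrullDim_eq

theorem supportDim_tensor [IsNoetherianRing A] [IsNoetherianRing B] [Module.Flat A B]
    (h : MaxCorr A B) (M : Type u) [AddCommGroup M] [Module A M] [Module.Finite A M] :
    Module.supportDim B (B ⊗[A] M) = Module.supportDim A M := by
  have h1 : Module.support B (B ⊗[A] M) =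
      Module.support B (B ⧸ (Module.annihilator A M).map (algebraMap A B)) := by
    rw [Groth.Agent.LD.QC.support_baseChange, Module.support_eq_zeroLocus,
      Module.support_eq_zeroLocus (R := B), Ideal.annihilator_quotient,
      PrimeSpectrum.preimage_comap_zeroLocus, Ideal.map, PrimeSpectrum.zeroLocus_span]
  have h2 : Module.supportDim B (B ⊗[A] M) =
      Module.supportDim B (B ⧸ (Module.annihilator A M).map (algebraMap A B)) := by
    unfold Module.supportDim
    rw [h1]
  rw [h2, Module.supportDim_quotient_eq_ringKrullDim, h.ringKrullDim_quotient_eq,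
    Module.supportDim_eq_ringKrullDim_quotient_annihilator]

end

end MaxCorr

section Completion

variable (A : Type u) [CommRing A] [IsNoetherianRing A] (J : Ideal A)

/-- extension of an ideal containing `J` to the `J`-adic completion -/
theorem map_eq_comap_evalOne (m : Ideal A) (hJm : J ≤ m) :
    m.map (algebraMap A (AdicCompletion J A)) = (m.map (Ideal.Quotient.mk J)).comap
      (AdicCompletion.evalOneₐ J).toRingHom := by
  have fg : J.FG := IsNoetherian.noetherian J
  have hsurj := AdicCompletion.evalOneₐ_surjective J
  rw [← AdicCompletion.evalOneₐ_comp_algebraMap_eq_mk, ← Ideal.map_map,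
    Ideal.comap_map_of_surjective' (AdicCompletion.evalOneₐ J).toRingHom hsurj,
    eq_comm, sup_eq_left, AdicCompletion.ker_evalOneₐ_eq_map J fg]
  exact Ideal.map_mono hJm

theorem maxCorr_adicCompletion (hJ : J ≤ Ring.jacobson A) : MaxCorr A (AdicCompletion J A) := by
  constructor
  · intro m hm
    have hJm : J ≤ m := by
      refine hJ.trans ?_
      rw [← Ideal.jacobson_bot]
      exact sInf_le ⟨bot_le, hm⟩
    rw [map_eq_comap_evalOne A J m hJm]
    have hker : RingHom.ker (Ideal.Quotient.mk J) ≤ m := by
      rw [Ideal.mk_ker]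
      exact hJm
    haveI : (m.map (Ideal.Quotient.mk J)).IsMaximal :=
      Ideal.IsMaximal.map_of_surjective_of_ker_le Ideal.Quotient.mk_surjective hker
    exact Ideal.comap_isMaximal_of_surjective _ (AdicCompletion.evalOneₐ_surjective J)
  · intro n hn
    obtain ⟨m, hm, -, hnm⟩ := Groth.Agent.H1.Reg.exists_maximal_map_eq_of_adicCompletion A J n
    exact ⟨m, hm, hnm⟩

/-- dimension of the completion of a finite module along an ideal in the Jacobson radical -/
theorem supportDim_adicCompletion (hJ : J ≤ Ring.jacobson A) (M : Type u) [AddCommGroup M]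
    [Module A M] [Module.Finite A M] :
    Module.supportDim (AdicCompletion J A) (AdicCompletion J M) = Module.supportDim A M := by
  haveI : IsNoetherianRing (AdicCompletion J A) := Groth.Agent.S0543.result A J
  rw [← Module.supportDim_eq_of_equiv
    (AdicCompletion.ofTensorProductEquivOfFiniteNoetherian J M)]
  exact (maxCorr_adicCompletion A J hJ).supportDim_tensor M

end Completion

end Groth.Agent.H3.ComplDim
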