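import Mathlib

set_option autoImplicit false
universe u
open TensorProduct

namespace Groth.Agent.H3.ConImm

variable {A B : Type u} [CommRing A] [CommRing B] [Algebra A B]

/-- flat quotient: the conormal module `B ⊗ I` vanishes. -/
theorem subsingleton_tensor_ker_of_flat [Module.Flat A B] :
    Subsingleton (B ⊗[A] (RingHom.ker (algebraMap A B))) := by
  set I := RingHom.ker (algebraMap A B) with hI
  have hinj : Function.Injective (LinearMap.lTensor B (Submodule.subtype I)) :=
    Module.Flat.lTensor_preserves_injective_linearMap _ (Submodule.injective_subtype I)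
  have hzero : ∀ t : B ⊗[A] I,
      (TensorProduct.rid A B) (LinearMap.lTensor B (Submodule.subtype I) t) = 0 := by
    intro t
    induction t using TensorProduct.induction_on with
    | zero => simp
    | tmul b x =>
      rw [LinearMap.lTensor_tmul, TensorProduct.rid_tmul, Submodule.subtype_apply,
        Algebra.smul_def]
      have hx : algebraMap A B (x : A) = 0 := x.2
      rw [hx, zero_mul]
    | add s t hs ht => rw [map_add, map_add, hs, ht, add_zero]
  refine ⟨fun s t => ?_⟩
  apply hinj
  apply (TensorProduct.rid A B).injective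
  rw [hzero s, hzero t]

/-- Nakayama for a surjection with finitely generated kernel and vanishing conormal module. -/
theorem exists_mul_eq_zero_of_subsingleton_tensor_ker
    (hs : Function.Surjective (algebraMap A B)) (hfg : (RingHom.ker (algebraMap A B)).FG)
    (h : Subsingleton (B ⊗[A] (RingHom.ker (algebraMap A B)))) :
    ∃ r : A, r - 1 ∈ RingHom.ker (algebraMap A B) ∧
      ∀ x ∈ RingHom.ker (algebraMap A B), r * x = 0 := by
  set I := RingHom.ker (algebraMap A B) with hI
  have e1 : (A ⧸ I) ≃ₗ[A] B :=
    (Ideal.quotientKerAlgEquivOfSurjective (f := Algebra.ofId A B) hs).toLinearEquiv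
  have e2 : (A ⧸ I) ⊗[A] I ≃ₗ[A] B ⊗[A] I := TensorProduct.congr e1 (LinearEquiv.refl A I)
  have e3 := TensorProduct.quotTensorEquivQuotSMul (↥I) I
  have hsub : Subsingleton (↥I ⧸ (I • (⊤ : Submodule A ↥I))) :=
    (e3.symm.trans e2).toEquiv.subsingleton
  have htop : I • (⊤ : Submodule A ↥I) = ⊤ := Submodule.Quotient.subsingleton_iff.1 hsub
  obtain ⟨r, hr1, hr2⟩ := Submodule.exists_sub_one_mem_and_smul_eq_zero_of_fg_of_le_smul I
    (⊤ : Submodule A ↥I) ((Submodule.fg_top I).2 hfg) (by rw [htop])
  refine ⟨r, hr1, fun x hx => ?_⟩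
  have := hr2 ⟨x, hx⟩ trivial
  exact congrArg Subtype.val this

end Groth.Agent.H3.ConImm
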