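import Mathlib
import Groth.Prelude.Def_OmAff
import Groth.Prelude.Def_CohB1
import Groth.Agent.Lib.Helper3.OmFin
import Groth.Agent.Lib.Helper3.OmUnram
import Groth.Agent.Lib.Lead.QC.Stalk
import Groth.Agent.Lib.Lead.QC.Iso
import Groth.Agent.Lib.Lead.QC.Extend

set_option autoImplicit false
universe u
open AlgebraicGeometry CategoryTheory TopologicalSpace Opposite CategoryTheory.Limits TensorProduct

namespace Groth.Agent.H3.Om

open Groth.Agent.LD.QC

variable {X Y : Scheme.{u}} (f : X ⟶ Y)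

/-- charts of `U.ι ≫ f` are charts of `f`. -/
theorem formallyUnramified_appLE_ι_iff (U : X.Opens) {W : X.Opens} (hWU : W ≤ U) {V : Y.Opens}
    (e : W ≤ f ⁻¹ᵁ V) (e' : U.ι ⁻¹ᵁ W ≤ (U.ι ≫ f) ⁻¹ᵁ V) :
    ((U.ι ≫ f).appLE V (U.ι ⁻¹ᵁ W) e').hom.FormallyUnramified ↔
      (f.appLE V W e).hom.FormallyUnramified := by
  have h1 : f.appLE V W e ≫ U.ι.appLE W (U.ι ⁻¹ᵁ W) le_rfl =
      (U.ι ≫ f).appLE V (U.ι ⁻¹ᵁ W) e' := Scheme.Hom.appLE_comp_appLE _ _ _ _ _ _ _
  have h2 : U.ι.appLE W (U.ι ⁻¹ᵁ W) le_rfl = U.ι.app W := Scheme.Hom.appLE_eq_app _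
  haveI : IsIso (U.ι.app W) := Scheme.Hom.isIso_app U.ι W (by
    rw [Scheme.Opens.opensRange_ι]; exact hWU)
  haveI : IsIso (U.ι.appLE W (U.ι ⁻¹ᵁ W) le_rfl) := by rw [h2]; infer_instance
  rw [← h1]
  exact RingHom.FormallyUnramified.respectsIso.cancel_right_isIso (f.appLE V W e)
    (U.ι.appLE W (U.ι ⁻¹ᵁ W) le_rfl)

variable [QuasiSeparated f]

/-- vanishing of the sections of `Ω` over a chart is formal unramifiedness of the chart. -/
theorem subsingleton_sections_omega_iff {W : X.Opens} (hW : IsAffineOpen W) {V : Y.Opens}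
    (hV : IsAffineOpen V) (e : W ≤ f ⁻¹ᵁ V) :
    Subsingleton Γ(Omega.sheaf f, W) ↔ (f.appLE V W e).hom.FormallyUnramified := by
  letI := (f.appLE V W e).hom.toAlgebra
  obtain ⟨ε, -⟩ := exists_linearEquiv_kaehler f hW hV e
  constructor
  · intro h
    have h2 : Subsingleton (Ω[Γ(X, W)⁄Γ(Y, V)]) := ε.toEquiv.subsingleton
    exact (⟨h2⟩ : Algebra.FormallyUnramified Γ(Y, V) Γ(X, W))
  · intro h
    have h1 : Algebra.FormallyUnramified Γ(Y, V) Γ(X, W) := h
    have h2 : Subsingleton (Ω[Γ(X, W)⁄Γ(Y, V)]) := inferInstance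
    exact ε.symm.toEquiv.subsingleton

/-- if the sections over an affine open vanish, so do the stalks there. -/
theorem subsingleton_stalk_of_sections (M : X.Modules) [M.IsQuasicoherent] {W : X.Opens}
    (hW : IsAffineOpen W) (x : X) (hx : x ∈ W) (h : Subsingleton Γ(M, W)) :
    Subsingleton (M.presheaf.stalk x) := by
  by_contra hne
  have := (mem_support_iff_not_subsingleton_stalk M hW x hx).2 hne
  rw [Module.mem_support_iff, ← not_subsingleton_iff_nontrivial] at this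
  exact this inferInstance

omit [QuasiSeparated f] in
/-- a finite type quasi-coherent module with vanishing stalk at `x` vanishes on a basic open
neighbourhood of `x`. -/
theorem exists_basicOpen_sections_subsingleton (M : X.Modules) [M.IsQuasicoherent] {W : X.Opens}
    (hW : IsAffineOpen W) (x : X) (hx : x ∈ W) [Module.Finite Γ(X, W) Γ(M, W)]
    (h : Subsingleton (M.presheaf.stalk x)) :
    ∃ g : Γ(X, W), x ∈ X.basicOpen g ∧ Subsingleton Γ(M, X.basicOpen g) := by
  have hns : hW.primeIdealOf ⟨x, hx⟩ ∉ Module.support Γ(X, W) Γ(M, W) := by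
    rw [mem_support_iff_not_subsingleton_stalk M hW x hx]
    exact not_not.2 h
  rw [Module.mem_support_iff_of_finite] at hns
  obtain ⟨g, hgann, hgp⟩ := SetLike.not_le_iff_exists.1 hns
  refine ⟨g, ?_, ?_⟩
  · letI : Algebra Γ(X, W) (X.presheaf.stalk x) :=
      TopCat.Presheaf.algebra_section_stalk X.presheaf ⟨x, hx⟩
    haveI := hW.isLocalization_stalk ⟨x, hx⟩
    have h1 : IsUnit (algebraMap Γ(X, W) (X.presheaf.stalk x) g) :=
      (IsLocalization.AtPrime.isUnit_to_map_iff (X.presheaf.stalk x)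
        (hW.primeIdealOf ⟨x, hx⟩).asIdeal g).mpr hgp
    exact (X.mem_basicOpen g x hx).mpr h1
  · refine ⟨fun y z => ?_⟩
    have key : ∀ y : Γ(M, X.basicOpen g), y = 0 := by
      intro y
      obtain ⟨n, s, hs⟩ := compact_qs_surj M hW.isCompact hW.isQuasiSeparated g y
      have hg0 : g • s = 0 := (Module.mem_annihilator.1 hgann) s
      have hu : IsUnit (X.presheaf.map (homOfLE (X.basicOpen_le g)).op g) :=
        X.toRingedSpace.isUnit_res_basicOpen g
      have h2 : (X.presheaf.map (homOfLE (X.basicOpen_le g)).op g) ^ (n + 1) • y = 0 := by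
        rw [pow_succ', mul_smul, ← hs, ← Scheme.Modules.map_smul, hg0, map_zero]
      have hu' : IsUnit ((X.presheaf.map (homOfLE (X.basicOpen_le g)).op g) ^ (n + 1)) :=
        hu.pow _
      exact (hu'.smul_eq_zero).1 h2
    rw [key y, key z]

/-- a formally unramified chart gives a formally unramified open subscheme. -/
theorem formallyUnramified_ι_comp_of_chart {W₀ : X.Opens} (hW₀ : IsAffineOpen W₀) {V : Y.Opens}
    (hV : IsAffineOpen V) (e : W₀ ≤ f ⁻¹ᵁ V) (h : (f.appLE V W₀ e).hom.FormallyUnramified) :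
    FormallyUnramified (W₀.ι ≫ f) := by
  haveI : QuasiSeparated (W₀.ι ≫ f) := inferInstance
  rw [formallyUnramified_iff_isZero (isUniversal_dOmega (W₀.ι ≫ f))]
  apply isZero_of_affine_cover
  intro u
  have hW' : IsAffineOpen (W₀.ι ⁻¹ᵁ W₀) :=
    hW₀.preimage_of_isOpenImmersion W₀.ι (by rw [Scheme.Opens.opensRange_ι])
  have e' : W₀.ι ⁻¹ᵁ W₀ ≤ (W₀.ι ≫ f) ⁻¹ᵁ V := fun y hy => e hy
  refine ⟨W₀.ι ⁻¹ᵁ W₀, hW', u.2, fun s => ?_⟩
  have hsub := (subsingleton_sections_omega_iff (W₀.ι ≫ f) hW' hV e').2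
    ((formallyUnramified_appLE_ι_iff f W₀ le_rfl e e').2 h)
  exact Subsingleton.elim _ _

/-- **the stalk of `Ω_{X/Y}` at `x` vanishes iff `f` is unramified near `x`.** -/
theorem subsingleton_stalk_omega_iff [LocallyOfFiniteType f] (x : X) :
    Subsingleton ((Omega.sheaf f).presheaf.stalk x) ↔
      ∃ U : X.Opens, x ∈ U ∧ FormallyUnramified (U.ι ≫ f) := by
  constructor
  · intro h
    obtain ⟨W, V, hW, hV, hxW, hWV⟩ := exists_chart f x
    haveI := finite_sections_omega f hW hV hWV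
    obtain ⟨g, hxg, hsub⟩ := exists_basicOpen_sections_subsingleton (Omega.sheaf f) hW x hxW h
    have e : X.basicOpen g ≤ f ⁻¹ᵁ V := (X.basicOpen_le g).trans hWV
    exact ⟨X.basicOpen g, hxg, formallyUnramified_ι_comp_of_chart f (hW.basicOpen g) hV e
      ((subsingleton_sections_omega_iff f (hW.basicOpen g) hV e).1 hsub)⟩
  · rintro ⟨U, hxU, hU⟩
    obtain ⟨V, hV, hxV, -⟩ := exists_isAffineOpen_mem_and_subset (x := f x) (U := ⊤) trivial
    obtain ⟨W, hW, hxW, hWle⟩ := exists_isAffineOpen_mem_and_subset (x := x)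
      (U := U ⊓ f ⁻¹ᵁ V) ⟨hxU, hxV⟩
    have hWU : W ≤ U := hWle.trans inf_le_left
    have e : W ≤ f ⁻¹ᵁ V := hWle.trans inf_le_right
    have hW' : IsAffineOpen (U.ι ⁻¹ᵁ W) :=
      hW.preimage_of_isOpenImmersion U.ι (by rw [Scheme.Opens.opensRange_ι]; exact hWU)
    have e' : U.ι ⁻¹ᵁ W ≤ (U.ι ≫ f) ⁻¹ᵁ V := fun y hy => e hy
    have h1 := hU.formallyUnramified_appLE hV hW' e'
    have h2 := (formallyUnramified_appLE_ι_iff f U hWU e e').1 h1
    exact subsingleton_stalk_of_sections (Omega.sheaf f) hW x hxW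
      ((subsingleton_sections_omega_iff f hW hV e).2 h2)

end Groth.Agent.H3.Om
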