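import Mathlib
import Groth.Prelude.Def_Omega3
import Groth.Agent.Lib.Helper3.ConImm1
import Groth.Agent.Lib.Helper3.OmCM5
import Groth.Agent.Lib.Helper3.OmGood
import Groth.Agent.Lib.Helper3.OmUnr2

set_option autoImplicit false
universe u
open AlgebraicGeometry CategoryTheory TopologicalSpace Opposite CategoryTheory.Limits TensorProduct
open Groth.Agent.LD.QC Groth.Agent.H3.Om

namespace Groth.Agent.H3.ConImm

variable {Y X : Scheme.{u}} (j : Y ⟶ X)

/-- a chart on which `j` is bijective on sections gives an open immersion. -/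
theorem isOpenImmersion_of_bijective_app {V : X.Opens} (hV : IsAffineOpen V)
    (hW : IsAffineOpen (j ⁻¹ᵁ V)) (hb : Function.Bijective (j.app V).hom) :
    IsOpenImmersion ((j ⁻¹ᵁ V).ι ≫ j) := by
  rw [← morphismRestrict_ι]
  haveI : IsAffine V.toScheme := hV
  haveI : IsAffine (j ⁻¹ᵁ V).toScheme := hW
  haveI : IsIso (j ∣_ V) := by
    refine (HasAffineProperty.iff_of_isAffine (P := MorphismProperty.isomorphisms Scheme)).mpr
      ⟨inferInstance, ?_⟩
    rw [morphismRestrict_appTop]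
    have key : ∀ (V' : X.Opens) (_ : V' = V), IsIso (j.app V') := by
      rintro V' rfl
      exact (ConcreteCategory.isIso_iff_bijective _).mpr hb
    haveI h1 := key (V.ι ''ᵁ ⊤) (by simp)
    haveI h2 : IsIso (Y.presheaf.map
        (eqToHom (image_morphismRestrict_preimage j V ⊤)).op) := inferInstance
    exact @IsIso.comp_isIso _ _ _ _ _ _ _ h1 h2
  infer_instance

/-- charts of `U.ι ≫ j` are charts of `j`, for flatness. -/
theorem flat_appLE_of_flat_ι_comp (U : Y.Opens) [Flat (U.ι ≫ j)] {W : Y.Opens} (hW : IsAffineOpen W)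
    (hWU : W ≤ U) {V : X.Opens} (hV : IsAffineOpen V) (e : W ≤ j ⁻¹ᵁ V) :
    (j.appLE V W e).hom.Flat := by
  have e' : U.ι ⁻¹ᵁ W ≤ (U.ι ≫ j) ⁻¹ᵁ V := fun y hy => e hy
  have hW' : IsAffineOpen (U.ι ⁻¹ᵁ W) :=
    hW.preimage_of_isOpenImmersion U.ι (by rw [Scheme.Opens.opensRange_ι]; exact hWU)
  have h1 : j.appLE V W e ≫ U.ι.appLE W (U.ι ⁻¹ᵁ W) le_rfl =
      (U.ι ≫ j).appLE V (U.ι ⁻¹ᵁ W) e' := Scheme.Hom.appLE_comp_appLE _ _ _ _ _ _ _
  have h2 : U.ι.appLE W (U.ι ⁻¹ᵁ W) le_rfl = U.ι.app W := Scheme.Hom.appLE_eq_app _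
  haveI : IsIso (U.ι.app W) := Scheme.Hom.isIso_app U.ι W (by
    rw [Scheme.Opens.opensRange_ι]; exact hWU)
  haveI : IsIso (U.ι.appLE W (U.ι ⁻¹ᵁ W) le_rfl) := by rw [h2]; infer_instance
  have h3 : ((U.ι ≫ j).appLE V (U.ι ⁻¹ᵁ W) e').hom.Flat :=
    HasRingHomProperty.appLE @Flat (U.ι ≫ j) inferInstance ⟨V, hV⟩ ⟨_, hW'⟩ e'
  rw [← h1] at h3
  exact (RingHom.Flat.respectsIso.cancel_right_isIso (j.appLE V W e)
    (U.ι.appLE W (U.ι ⁻¹ᵁ W) le_rfl)).1 h3

variable [IsImmersion j] [QuasiCompact j]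

/-- **open immersion near `y` ⇒ the conormal stalk at `y` vanishes.** -/
theorem subsingleton_stalk_conormal_of_isOpenImmersion (y : Y) (U : Y.Opens) (hy : y ∈ U)
    [IsOpenImmersion (U.ι ≫ j)] :
    Subsingleton ((Omega.conormal j).presheaf.stalk y) := by
  obtain ⟨V, hV, hVle, hyV, hWU⟩ := exists_good_chart j y U hy
  have hg := isGoodChart_of_le_coborder j hV hVle
  have hW := hg.preimage_affine
  have hflat := flat_appLE_of_flat_ι_comp j U hW hWU hV le_rfl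
  letI := (j.appLE V (j ⁻¹ᵁ V) le_rfl).hom.toAlgebra
  obtain ⟨-, σ, Ξ, -, -⟩ := conormal_chart_g j hg
  haveI : Module.Flat Γ(X, V) Γ(Y, j ⁻¹ᵁ V) := hflat
  have hsub := subsingleton_tensor_ker_of_flat (A := Γ(X, V)) (B := Γ(Y, j ⁻¹ᵁ V))
  have hsub2 : Subsingleton Γ(Omega.conormal j, j ⁻¹ᵁ V) := Ξ.symm.toEquiv.subsingleton
  exact subsingleton_stalk_of_sections (Omega.conormal j) hW y hyV hsub2

variable [LocallyOfFinitePresentation j]

omit [IsImmersion j] [QuasiCompact j] in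
/-- on a good chart of a morphism locally of finite presentation, the kernel is finitely generated. -/
theorem ker_fg_of_goodChart {V : X.Opens} (hg : IsGoodChart j V) :
    letI := (j.appLE V (j ⁻¹ᵁ V) le_rfl).hom.toAlgebra
    (RingHom.ker (algebraMap Γ(X, V) Γ(Y, j ⁻¹ᵁ V))).FG := by
  letI := (j.appLE V (j ⁻¹ᵁ V) le_rfl).hom.toAlgebra
  have hfp : (j.appLE V (j ⁻¹ᵁ V) le_rfl).hom.FinitePresentation :=
    HasRingHomProperty.appLE @LocallyOfFinitePresentation j inferInstance ⟨V, hg.affine⟩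
      ⟨_, hg.preimage_affine⟩ le_rfl
  haveI : Algebra.FinitePresentation Γ(X, V) Γ(Y, j ⁻¹ᵁ V) := hfp
  have hmap : algebraMap Γ(X, V) Γ(Y, j ⁻¹ᵁ V) = (j.app V).hom :=
    congrArg CommRingCat.Hom.hom (Scheme.Hom.appLE_eq_app j)
  have hs : Function.Surjective (Algebra.ofId Γ(X, V) Γ(Y, j ⁻¹ᵁ V)) := by
    intro b
    obtain ⟨a, ha⟩ := hg.surj b
    exact ⟨a, by change algebraMap Γ(X, V) Γ(Y, j ⁻¹ᵁ V) a = b; rw [hmap]; exact ha⟩
  exact Algebra.FinitePresentation.ker_fG_of_surjective (Algebra.ofId Γ(X, V) Γ(Y, j ⁻¹ᵁ V)) hs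

/-- **vanishing conormal stalk at `y` ⇒ open immersion near `y`.** -/
theorem exists_isOpenImmersion_of_subsingleton_stalk (y : Y)
    (h : Subsingleton ((Omega.conormal j).presheaf.stalk y)) :
    ∃ U : Y.Opens, y ∈ U ∧ IsOpenImmersion (U.ι ≫ j) := by
  obtain ⟨V, hV, hVle, hyV, -⟩ := exists_good_chart j y ⊤ trivial
  have hg := isGoodChart_of_le_coborder j hV hVle
  have hW := hg.preimage_affine
  -- step 1: shrink so that the conormal sections vanish
  obtain ⟨a, hya, hsub⟩ : ∃ a : Γ(X, V), y ∈ j ⁻¹ᵁ X.basicOpen a ∧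
      Subsingleton Γ(Omega.conormal j, j ⁻¹ᵁ X.basicOpen a) := by
    letI := (j.appLE V (j ⁻¹ᵁ V) le_rfl).hom.toAlgebra
    obtain ⟨hsurj, σ, Ξ, -, -⟩ := conormal_chart_g j hg
    have hfg := ker_fg_of_goodChart j hg
    haveI : Module.Finite Γ(X, V) (RingHom.ker (algebraMap Γ(X, V) Γ(Y, j ⁻¹ᵁ V))) :=
      Module.Finite.iff_fg.2 hfg
    haveI : Module.Finite Γ(Y, j ⁻¹ᵁ V) Γ(Omega.conormal j, j ⁻¹ᵁ V) := Module.Finite.equiv Ξ
    obtain ⟨g, hyg, hsub⟩ :=
      exists_basicOpen_sections_subsingleton (Omega.conormal j) hW y hyV h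
    obtain ⟨a, ha⟩ := hsurj g
    have hmap : algebraMap Γ(X, V) Γ(Y, j ⁻¹ᵁ V) = (j.app V).hom :=
      congrArg CommRingCat.Hom.hom (Scheme.Hom.appLE_eq_app j)
    have hpre : j ⁻¹ᵁ X.basicOpen a = Y.basicOpen g := by
      rw [Scheme.preimage_basicOpen]
      congr 1
      rw [← ha, hmap]
    exact ⟨a, hpre ▸ hyg, hpre ▸ hsub⟩
  -- step 2: Nakayama on the smaller chart
  have hV' : IsAffineOpen (X.basicOpen a) := hV.basicOpen a
  have hV'le : X.basicOpen a ≤ j.coborderRange := (X.basicOpen_le a).trans hVle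
  have hg' := isGoodChart_of_le_coborder j hV' hV'le
  obtain ⟨r, hyr, hker⟩ : ∃ r : Γ(X, X.basicOpen a), y ∈ j ⁻¹ᵁ X.basicOpen r ∧
      ∀ x ∈ RingHom.ker (j.app (X.basicOpen a)).hom, r * x = 0 := by
    letI := (j.appLE (X.basicOpen a) (j ⁻¹ᵁ X.basicOpen a) le_rfl).hom.toAlgebra
    obtain ⟨hsurj, σ, Ξ, -, -⟩ := conormal_chart_g j hg'
    have hfg := ker_fg_of_goodChart j hg'
    have hsub' : Subsingleton (Γ(Y, j ⁻¹ᵁ X.basicOpen a) ⊗[Γ(X, X.basicOpen a)]
        (RingHom.ker (algebraMap Γ(X, X.basicOpen a) Γ(Y, j ⁻¹ᵁ X.basicOpen a)))) :=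
      Ξ.toEquiv.subsingleton
    obtain ⟨r, hr1, hr2⟩ := exists_mul_eq_zero_of_subsingleton_tensor_ker hsurj hfg hsub'
    have hmap : algebraMap Γ(X, X.basicOpen a) Γ(Y, j ⁻¹ᵁ X.basicOpen a) =
        (j.app (X.basicOpen a)).hom :=
      congrArg CommRingCat.Hom.hom (Scheme.Hom.appLE_eq_app j)
    refine ⟨r, ?_, ?_⟩
    · rw [Scheme.preimage_basicOpen]
      have h1 : (j.app (X.basicOpen a)).hom r = 1 := by
        have h2 := hr1
        rw [RingHom.mem_ker, map_sub, map_one, sub_eq_zero, hmap] at h2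
        exact h2
      change y ∈ Y.basicOpen ((j.app (X.basicOpen a)).hom r)
      rw [h1, Scheme.basicOpen_of_isUnit _ isUnit_one]
      exact hya
    · intro x hx
      rw [← hmap] at hx
      exact hr2 x hx
  -- step 3: on `D(r)` the kernel vanishes
  have hV'' : IsAffineOpen (X.basicOpen r) := hV'.basicOpen r
  have hg'' := isGoodChart_of_le_coborder j hV'' ((X.basicOpen_le r).trans hV'le)
  refine ⟨j ⁻¹ᵁ X.basicOpen r, hyr,
    isOpenImmersion_of_bijective_app j hV'' hg''.preimage_affine ⟨?_, hg''.surj⟩⟩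
  rw [injective_iff_map_eq_zero]
  intro t ht
  have h1 : t ∈ j.ker.ideal ⟨X.basicOpen r, hV''⟩ := by
    rw [Scheme.Hom.ker_apply]; exact ht
  have h2 := j.ker.map_ideal_basicOpen ⟨X.basicOpen a, hV'⟩ r
  have h3 : Ideal.map (X.presheaf.map (homOfLE (X.basicOpen_le r)).op).hom
      (j.ker.ideal ⟨X.basicOpen a, hV'⟩) = ⊥ := by
    rw [Ideal.map_eq_bot_iff_le_ker]
    intro x hx
    rw [Scheme.Hom.ker_apply] at hx
    have hrx := hker x hx
    have hu : IsUnit ((X.presheaf.map (homOfLE (X.basicOpen_le r)).op).hom r) :=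
      X.toRingedSpace.isUnit_res_basicOpen r
    rw [RingHom.mem_ker]
    have h4 := congrArg (X.presheaf.map (homOfLE (X.basicOpen_le r)).op).hom hrx
    rw [map_mul, map_zero] at h4
    exact (hu.mul_right_eq_zero).1 h4
  rw [h3] at h2
  have h5 : t ∈ (⊥ : Ideal Γ(X, X.basicOpen r)) := by
    rw [h2]; exact h1
  exact h5

end Groth.Agent.H3.ConImm
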