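import Mathlib

/-!
# Avoiding finitely many proper submodules over a local ring with infinite residue field,
and extension of a basis of a lattice to a basis of the ambient vector space
-/

namespace Groth.Agent.H3.TF

section avoid

variable {O : Type*} [CommRing O] [IsLocalRing O] [Infinite (IsLocalRing.ResidueField O)]
  {M : Type*} [AddCommGroup M] [Module O M]

/-- A module over a local ring with infinite residue field is not a finite union of proper
submodules. -/
theorem exists_forall_notMem {ι : Type*} (s : Finset ι) (B : ι → Submodule O M)
    (hB : ∀ i ∈ s, B i ≠ ⊤) : ∃ x : M, ∀ i ∈ s, x ∉ B i := by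
  classical
  induction s using Finset.induction_on with
  | empty => exact ⟨0, by simp⟩
  | insert a t ha ih =>
    obtain ⟨x, hx⟩ := ih (fun i hi => hB i (Finset.mem_insert_of_mem hi))
    by_cases hxa : x ∉ B a
    · refine ⟨x, fun i hi => ?_⟩
      rcases Finset.mem_insert.mp hi with rfl | hi
      · exact hxa
      · exact hx i hi
    · rw [not_not] at hxa
      have hBa : B a ≠ ⊤ := hB a (Finset.mem_insert_self a t)
      obtain ⟨y, hy⟩ : ∃ y, y ∉ B a := by
        by_contra hcon
        push Not at hcon
        exact hBa (eq_top_iff.mpr fun z _ => hcon z)
      -- the bad residue classes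
      let r : ι → IsLocalRing.ResidueField O := fun i =>
        if h : ∃ c : O, y + c • x ∈ B i then IsLocalRing.residue O h.choose else 0
      obtain ⟨ρ, hρ⟩ := Infinite.exists_notMem_finset (t.image r)
      obtain ⟨c, rfl⟩ := IsLocalRing.residue_surjective ρ
      refine ⟨y + c • x, fun i hi => ?_⟩
      rcases Finset.mem_insert.mp hi with rfl | hi
      · intro hmem
        apply hy
        have := (B i).sub_mem hmem ((B i).smul_mem c hxa)
        simpa using this
      · intro hmem
        have hex : ∃ c : O, y + c • x ∈ B i := ⟨c, hmem⟩
        have hri : r i = IsLocalRing.residue O hex.choose := dif_pos hex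
        have hne : IsLocalRing.residue O c ≠ IsLocalRing.residue O hex.choose := by
          intro heq
          apply hρ
          rw [heq, ← hri]
          exact Finset.mem_image_of_mem r hi
        have hu : IsUnit (c - hex.choose) := by
          by_contra hnu
          apply hne
          have : c - hex.choose ∈ IsLocalRing.maximalIdeal O := hnu
          rw [← sub_eq_zero, ← map_sub]
          exact (IsLocalRing.residue_eq_zero_iff _).mpr this
        have h2 : (c - hex.choose) • x ∈ B i := by
          have := (B i).sub_mem hmem hex.choose_spec
          have e : y + c • x - (y + hex.choose • x) = (c - hex.choose) • x := by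
            rw [sub_smul]; abel
          rwa [e] at this
        apply hx i hi
        obtain ⟨u, hu⟩ := hu
        have := (B i).smul_mem (↑u⁻¹ : O) h2
        rwa [← hu, smul_smul, Units.inv_mul, one_smul] at this

end avoid

section kbasis

variable {A : Type*} [CommRing A] {K : Type*} [Field K] [Algebra A K] [IsFractionRing A K]
  {W : Type*} [AddCommGroup W] [Module A W] [Module K W] [IsScalarTower A K W]

/-- A basis of an `A`-lattice spanning the `K`-vector space `W` is a `K`-basis of `W`. -/
theorem exists_basis_of_lattice {ι : Type*} (N : Submodule A W) (b : Module.Basis ι A N)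
    (hspan : Submodule.span K (N : Set W) = ⊤) :
    ∃ bK : Module.Basis ι K W, (∀ i, bK i = (b i : W)) ∧
      ∀ (x : N) (i : ι), bK.repr (x : W) i = algebraMap A K (b.repr x i) := by
  have hli : LinearIndependent A (fun i => (b i : W)) :=
    b.linearIndependent.map' N.subtype (Submodule.ker_subtype N)
  have hliK : LinearIndependent K (fun i => (b i : W)) :=
    (LinearIndependent.iff_fractionRing A K).mp hli
  have hsp : ⊤ ≤ Submodule.span K (Set.range fun i => (b i : W)) := by
    rw [← hspan]
    apply Submodule.span_le.mpr
    intro x hx
    have hx' : (⟨x, hx⟩ : N) ∈ Submodule.span A (Set.range b) := by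
      rw [b.span_eq]; trivial
    have h3 : x ∈ Submodule.span A (Set.range fun i => (b i : W)) := by
      have := Submodule.mem_map_of_mem (f := N.subtype) hx'
      rw [Submodule.map_span, ← Set.range_comp] at this
      exact this
    exact Submodule.span_le_restrictScalars A K _ h3
  refine ⟨Module.Basis.mk hliK hsp, fun i => Module.Basis.mk_apply hliK hsp i, fun x i => ?_⟩
  have key : ∀ c : ι →₀ A, ((Finsupp.linearCombination A b c : N) : W) =
      Finsupp.linearCombination K (Module.Basis.mk hliK hsp)
        (Finsupp.mapRange (algebraMap A K) (map_zero _) c) := by
    intro c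
    induction c using Finsupp.induction_linear with
    | zero => simp
    | add f g hf hg =>
      rw [map_add, Submodule.coe_add, hf, hg, Finsupp.mapRange_add (map_add _), map_add]
    | single j a =>
      rw [Finsupp.linearCombination_single, Finsupp.mapRange_single,
        Finsupp.linearCombination_single, Module.Basis.mk_apply, Submodule.coe_smul,
        algebraMap_smul]
  have hx : (x : W) = Finsupp.linearCombination K (Module.Basis.mk hliK hsp)
        (Finsupp.mapRange (algebraMap A K) (map_zero _) (b.repr x)) := by
    rw [← key, b.linearCombination_repr]
  rw [hx, Module.Basis.repr_linearCombination, Finsupp.mapRange_apply]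

end kbasis

end Groth.Agent.H3.TF
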