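import Mathlib

/-!
# The normalization of a one-dimensional Noetherian local domain is a semi-local PID
-/

namespace Groth.Agent.H3.TF

section pid

variable (O : Type*) [CommRing O] [IsDomain O] [IsNoetherianRing O] [IsLocalRing O]
  (K : Type*) [Field K] [Algebra O K] [IsFractionRing O K]

theorem dimensionLEOne_of_ringKrullDim (hdim : ringKrullDim O = 1) : Ring.DimensionLEOne O := by
  have h1 : Ring.KrullDimLE 1 O := Ring.krullDimLE_iff.mpr hdim.le
  exact ⟨fun {p} hp hpp => Ring.krullDimLE_one_iff_of_noZeroDivisors.mp h1 p hp hpp⟩

theorem finite_primeSpectrum_of_dimensionLEOne [Ring.DimensionLEOne O] :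
    Finite (PrimeSpectrum O) := by
  classical
  have : (Set.univ : Set (PrimeSpectrum O)) ⊆
      {⟨⊥, Ideal.isPrime_bot⟩, ⟨IsLocalRing.maximalIdeal O, inferInstance⟩} := by
    intro p _
    by_cases hp : p.asIdeal = ⊥
    · left; exact PrimeSpectrum.ext hp
    · right
      have hm := Ring.DimensionLEOne.maximalOfPrime hp p.isPrime
      exact PrimeSpectrum.ext (IsLocalRing.eq_maximalIdeal hm)
  exact Set.finite_univ_iff.mp ((Set.toFinite _).subset this)

theorem isDedekindDomain_integralClosure [Ring.DimensionLEOne O]
    (hfin : Module.Finite O ↥(integralClosure O K)) :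
    IsDedekindDomain ↥(integralClosure O K) := by
  have hN : IsNoetherianRing ↥(integralClosure O K) :=
    IsNoetherianRing.of_finite O ↥(integralClosure O K)
  have hIC : IsIntegrallyClosed ↥(integralClosure O K) :=
    integralClosure.isIntegrallyClosedOfFiniteExtension K
  have hfr : IsFractionRing ↥(integralClosure O K) K := inferInstance
  exact { hN, (inferInstance : Ring.DimensionLEOne ↥(integralClosure O K)), hIC with }

theorem isPrincipalIdealRing_integralClosure (hdim : ringKrullDim O = 1)
    (hfin : Module.Finite O ↥(integralClosure O K)) :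
    IsPrincipalIdealRing ↥(integralClosure O K) ∧
      Finite (MaximalSpectrum ↥(integralClosure O K)) := by
  have h1 := dimensionLEOne_of_ringKrullDim O hdim
  have hD := isDedekindDomain_integralClosure O K hfin
  have hfO := finite_primeSpectrum_of_dimensionLEOne O
  have hfP : Finite (PrimeSpectrum ↥(integralClosure O K)) :=
    Algebra.QuasiFinite.finite_primeSpectrum O _
  have hfin' : {I : Ideal ↥(integralClosure O K) | I.IsPrime}.Finite := by
    have : {I : Ideal ↥(integralClosure O K) | I.IsPrime} =
        Set.range (PrimeSpectrum.asIdeal (R := ↥(integralClosure O K))) := by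
      ext I
      constructor
      · intro hI; exact ⟨⟨I, hI⟩, rfl⟩
      · rintro ⟨p, rfl⟩; exact p.isPrime
    rw [this]
    exact Set.finite_range _
  refine ⟨IsPrincipalIdealRing.of_finite_primes hfin', ?_⟩
  exact Finite.of_injective (fun m : MaximalSpectrum ↥(integralClosure O K) =>
    (⟨m.asIdeal, m.isMaximal.isPrime⟩ : PrimeSpectrum ↥(integralClosure O K)))
    (fun a b h => MaximalSpectrum.ext (congrArg PrimeSpectrum.asIdeal h))

end pid

end Groth.Agent.H3.TF
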