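import Mathlib
import Groth.Agent.Lib.Helper3.TFB

/-!
# A finitely generated `O`-lattice in a `K`-vector space has a `K`-basis of its own elements in
which it has coordinates in a semi-local PID `A ⊇ O`
-/

namespace Groth.Agent.H3.TF

section good

variable {O : Type*} [CommRing O] [IsLocalRing O] [Infinite (IsLocalRing.ResidueField O)]
  {A : Type*} [CommRing A] [IsDomain A] [IsPrincipalIdealRing A] [Finite (MaximalSpectrum A)]
  [Algebra O A]
  {K : Type*} [Field K] [Algebra A K] [IsFractionRing A K]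
  {M : Type*} [AddCommGroup M] [Module O M] [Module.Finite O M]
  {W : Type*} [AddCommGroup W] [Module K W] [Module A W] [Module O W] [IsScalarTower A K W]
  [IsScalarTower O A W] [Module.IsTorsionFree A W]

theorem exists_good_basis (φ : M →ₗ[O] W) (hφ : Submodule.span K (Set.range φ) = ⊤) :
    ∃ (n : ℕ) (bK : Module.Basis (Fin n) K W), (∀ i, ∃ m, φ m = bK i) ∧
      ∀ m i, ∃ a : A, bK.repr (φ m) i = algebraMap A K a := by
  classical
  have hfin := Fintype.ofFinite (MaximalSpectrum A)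
  letI hF : ∀ 𝔭 : MaximalSpectrum A, Field (A ⧸ 𝔭.asIdeal) := fun 𝔭 =>
    Ideal.Quotient.field 𝔭.asIdeal
  let N : Submodule A W := Submodule.span A (Set.range φ)
  have hNfg : N.FG := by
    obtain ⟨s, hs⟩ := (Module.Finite.fg_top : (⊤ : Submodule O M).FG)
    refine ⟨s.image φ, ?_⟩
    apply le_antisymm (Submodule.span_mono (by simp))
    apply Submodule.span_le.mpr
    rintro _ ⟨m, rfl⟩
    have hm : m ∈ Submodule.span O (s : Set M) := by rw [hs]; trivial
    have := Submodule.mem_map_of_mem (f := φ) hm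
    rw [Submodule.map_span] at this
    rw [Finset.coe_image]
    exact Submodule.span_le_restrictScalars O A _ this
  have hNfin : Module.Finite A N := Module.Finite.iff_fg.mpr hNfg
  obtain ⟨n, w⟩ := Module.basisOfFiniteTypeTorsionFree' (R := A) (M := N)
  let φN : M →ₗ[O] N :=
    { toFun := fun m => ⟨φ m, Submodule.subset_span ⟨m, rfl⟩⟩
      map_add' := fun a b => Subtype.ext (map_add φ a b)
      map_smul' := fun c a => Subtype.ext (map_smul φ c a) }
  have hφN : Submodule.span A (Set.range φN) = ⊤ := by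
    have : Set.range φN = ((↑) : N → W) ⁻¹' (Set.range φ) := by
      ext ⟨x, hx⟩
      constructor
      · rintro ⟨m, hm⟩; exact ⟨m, congrArg Subtype.val hm⟩
      · rintro ⟨m, hm⟩; exact ⟨m, Subtype.ext hm⟩
    rw [this]
    exact Submodule.span_span_coe_preimage
  let π : (𝔭 : MaximalSpectrum A) → N →ₗ[A] (Fin n → A ⧸ 𝔭.asIdeal) := fun 𝔭 =>
    ((Ideal.Quotient.mkₐ A 𝔭.asIdeal).toLinearMap.compLeft (Fin n)) ∘ₗ w.equivFun.toLinearMap
  have hπ : ∀ 𝔭 x i, π 𝔭 x i = Ideal.Quotient.mk 𝔭.asIdeal (w.repr x i) := fun 𝔭 x i => rfl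
  have hπs : ∀ 𝔭, Function.Surjective (π 𝔭) := by
    intro 𝔭 y
    choose a ha using fun i => Ideal.Quotient.mk_surjective (y i)
    refine ⟨w.equivFun.symm a, ?_⟩
    funext i
    rw [hπ, ← Module.Basis.equivFun_apply, LinearEquiv.apply_symm_apply, ha]
  let ρ : (𝔭 : MaximalSpectrum A) → M →ₗ[O] (Fin n → A ⧸ 𝔭.asIdeal) := fun 𝔭 =>
    (π 𝔭).restrictScalars O ∘ₗ φN
  have hρ : ∀ 𝔭 m, ρ 𝔭 m = π 𝔭 (φN m) := fun 𝔭 m => rfl
  have hρs : ∀ 𝔭 : MaximalSpectrum A,
      Submodule.span (A ⧸ 𝔭.asIdeal) (Set.range (ρ 𝔭)) = ⊤ := by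
    intro 𝔭
    rw [eq_top_iff]
    intro y _
    obtain ⟨x, rfl⟩ := hπs 𝔭 y
    have hx : x ∈ Submodule.span A (Set.range φN) := by rw [hφN]; trivial
    have := Submodule.mem_map_of_mem (f := π 𝔭) hx
    rw [Submodule.map_span, ← Set.range_comp] at this
    exact Submodule.span_le_restrictScalars A (A ⧸ 𝔭.asIdeal) _ this
  -- selection
  have sel : ∀ i, i ≤ n → ∃ v : Fin i → M, ∀ 𝔭 : MaximalSpectrum A,
      LinearIndependent (A ⧸ 𝔭.asIdeal) (fun j => ρ 𝔭 (v j)) := by
    intro i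
    induction i with
    | zero => intro _; exact ⟨Fin.elim0, fun 𝔭 => linearIndependent_empty_type⟩
    | succ i ih =>
      intro hi
      obtain ⟨v, hv⟩ := ih (Nat.le_of_succ_le hi)
      let B : MaximalSpectrum A → Submodule O M := fun 𝔭 =>
        ((Submodule.span (A ⧸ 𝔭.asIdeal) (Set.range fun j => ρ 𝔭 (v j))).restrictScalars O).comap
          (ρ 𝔭)
      have hB : ∀ 𝔭 ∈ (Finset.univ : Finset (MaximalSpectrum A)), B 𝔭 ≠ ⊤ := by
        intro 𝔭 _ htop
        have h1 : ∀ m, ρ 𝔭 m ∈ Submodule.span (A ⧸ 𝔭.asIdeal) (Set.range fun j => ρ 𝔭 (v j)) := by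
          intro m
          have : m ∈ B 𝔭 := by rw [htop]; trivial
          exact this
        have h2 : Submodule.span (A ⧸ 𝔭.asIdeal) (Set.range fun j => ρ 𝔭 (v j)) = ⊤ := by
          rw [eq_top_iff, ← hρs 𝔭]
          apply Submodule.span_le.mpr
          rintro _ ⟨m, rfl⟩
          exact h1 m
        have h3 := finrank_range_le_card (R := A ⧸ 𝔭.asIdeal) (fun j => ρ 𝔭 (v j))
        rw [Set.finrank, h2, finrank_top, Module.finrank_fin_fun, Fintype.card_fin] at h3
        omega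
      obtain ⟨x, hx⟩ := exists_forall_notMem Finset.univ B hB
      refine ⟨Fin.snoc v x, fun 𝔭 => ?_⟩
      have e : (fun j => ρ 𝔭 (Fin.snoc (α := fun _ => M) v x j)) =
          Fin.snoc (α := fun _ => (Fin n → A ⧸ 𝔭.asIdeal)) (fun j => ρ 𝔭 (v j)) (ρ 𝔭 x) := by
        have := Fin.comp_snoc (ρ 𝔭) v x
        exact this
      rw [e]
      exact (linearIndependent_finSnoc (K := A ⧸ 𝔭.asIdeal)).mpr ⟨hv 𝔭,
        (show ρ 𝔭 x ∉ Submodule.span (A ⧸ 𝔭.asIdeal) (Set.range fun j => ρ 𝔭 (v j)) from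
          hx 𝔭 (Finset.mem_univ _))⟩
  obtain ⟨v, hv⟩ := sel n le_rfl
  let u : Fin n → N := fun j => φN (v j)
  have hdet : IsUnit (w.det u) := by
    by_contra hnu
    obtain ⟨I, hI, hmem⟩ := exists_max_ideal_of_mem_nonunits hnu
    let 𝔭 : MaximalSpectrum A := ⟨I, hI⟩
    have hli := hv 𝔭
    have h0 : Ideal.Quotient.mk 𝔭.asIdeal (w.det u) = 0 :=
      Ideal.Quotient.eq_zero_iff_mem.mpr hmem
    rw [Module.Basis.det_apply, RingHom.map_det] at h0
    have hmat : (Ideal.Quotient.mk 𝔭.asIdeal).mapMatrix (w.toMatrix u) =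
        Matrix.transpose (Matrix.of fun j => ρ 𝔭 (v j)) := by
      ext a b
      rw [RingHom.mapMatrix_apply, Matrix.map_apply, Module.Basis.toMatrix_apply,
        Matrix.transpose_apply, Matrix.of_apply, hρ, hπ]
    rw [hmat, Matrix.det_transpose] at h0
    have hunit : IsUnit (Matrix.of fun j => ρ 𝔭 (v j)) :=
      (Matrix.linearIndependent_rows_iff_isUnit (K := A ⧸ 𝔭.asIdeal)).mp hli
    have := (Matrix.isUnit_iff_isUnit_det _).mp hunit
    rw [h0] at this
    exact not_isUnit_zero this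
  obtain ⟨hli, hsp⟩ := (w.is_basis_iff_det).mpr hdet
  let bN : Module.Basis (Fin n) A N := Module.Basis.mk hli hsp.ge
  have hspanN : Submodule.span K (N : Set W) = ⊤ := by
    rw [eq_top_iff, ← hφ]
    exact Submodule.span_mono Submodule.subset_span
  obtain ⟨bK, h1, h2⟩ := exists_basis_of_lattice N bN hspanN
  refine ⟨n, bK, fun i => ⟨v i, ?_⟩, fun m i => ⟨bN.repr (φN m) i, h2 (φN m) i⟩⟩
  rw [h1 i, Module.Basis.mk_apply]
  rfl

end good

end Groth.Agent.H3.TF
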