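import Mathlib
import Groth.Agent.Lib.Helper3.TFA
import Groth.Agent.Lib.Helper3.TFC

/-!
# Torsion-free modules over a one-dimensional local domain sit between `O^n` and `Õ^n`
-/

namespace Groth.Agent.H3.TF

section main

theorem mk_injective {O : Type*} [CommRing O] [IsDomain O] (K : Type*) [Field K] [Algebra O K]
    [IsFractionRing O K] (M : Type*) [AddCommGroup M] [Module O M] [NoZeroSMulDivisors O M] :
    Function.Injective (TensorProduct.mk O K M 1) := by
  haveI : IsLocalizedModule (nonZeroDivisors O) (TensorProduct.mk O K M 1) :=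
    (isLocalizedModule_iff_isBaseChange (nonZeroDivisors O) K _).mpr
      (TensorProduct.isBaseChange O M K)
  rw [← LinearMap.ker_eq_bot, LinearMap.ker_eq_bot']
  intro m hm
  obtain ⟨s, hs⟩ := (IsLocalizedModule.eq_zero_iff (nonZeroDivisors O) _).mp hm
  have hs' : (s : O) • m = 0 := hs
  rcases smul_eq_zero.mp hs' with h | h
  · exact absurd h (nonZeroDivisors.coe_ne_zero s)
  · exact h

theorem span_range_mk {O : Type*} [CommRing O] (K : Type*) [Field K] [Algebra O K]
    (M : Type*) [AddCommGroup M] [Module O M] :
    Submodule.span K (Set.range (TensorProduct.mk O K M 1)) = ⊤ := by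
  rw [eq_top_iff]
  intro x _
  induction x using TensorProduct.induction_on with
  | zero => exact Submodule.zero_mem _
  | tmul k m =>
    have : k ⊗ₜ[O] m = k • (TensorProduct.mk O K M 1 m) := by
      rw [TensorProduct.mk_apply, TensorProduct.smul_tmul', smul_eq_mul, mul_one]
    rw [this]
    exact Submodule.smul_mem _ _ (Submodule.subset_span ⟨m, rfl⟩)
  | add x y hx hy => exact Submodule.add_mem _ (hx trivial) (hy trivial)

theorem main (O : Type*) [CommRing O] [IsDomain O] [IsNoetherianRing O] [IsLocalRing O]
    (hdim : ringKrullDim O = 1) [IsAlgClosed (IsLocalRing.ResidueField O)]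
    (K : Type*) [Field K] [Algebra O K] [IsFractionRing O K]
    (hfin : Module.Finite O ↥(integralClosure O K))
    (M : Type*) [AddCommGroup M] [Module O M] [Module.Finite O M] [NoZeroSMulDivisors O M]
    (n : ℕ) (hn : Module.finrank K (TensorProduct O K M) = n) :
    ∃ M' : Submodule O (Fin n → K),
      Submodule.pi Set.univ (fun _ : Fin n => (1 : Submodule O K)) ≤ M' ∧
      M' ≤ Submodule.pi Set.univ
        (fun _ : Fin n => (Subalgebra.toSubmodule (integralClosure O K))) ∧
      Nonempty (M ≃ₗ[O] ↥M') := by
  obtain ⟨hPID, hfinmax⟩ := isPrincipalIdealRing_integralClosure O K hdim hfin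
  have hInf : Infinite (IsLocalRing.ResidueField O) := inferInstance
  let b : Module.Basis (Fin n) K (TensorProduct O K M) := Module.finBasisOfFinrankEq K _ hn
  let φ : M →ₗ[O] (Fin n → K) :=
    (b.equivFun.toLinearMap.restrictScalars O) ∘ₗ (TensorProduct.mk O K M 1)
  have hφinj : Function.Injective φ := b.equivFun.injective.comp (mk_injective K M)
  have hφ : Submodule.span K (Set.range φ) = ⊤ := by
    have : Set.range φ = b.equivFun.toLinearMap '' (Set.range (TensorProduct.mk O K M 1)) := by
      rw [← Set.range_comp]; rfl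
    rw [this, ← Submodule.map_span, span_range_mk, Submodule.map_top, LinearMap.range_eq_top]
    exact b.equivFun.surjective
  obtain ⟨n', bK, h1, h2⟩ := exists_good_basis (A := ↥(integralClosure O K)) φ hφ
  have hnn : n' = n := by
    have := Module.finrank_eq_card_basis bK
    rw [Module.finrank_fin_fun, Fintype.card_fin] at this
    exact this.symm
  subst hnn
  let ψ : M →ₗ[O] (Fin n' → K) := (bK.equivFun.toLinearMap.restrictScalars O) ∘ₗ φ
  have hψ : ∀ m i, ψ m i = bK.repr (φ m) i := fun m i => rfl
  have hψinj : Function.Injective ψ := bK.equivFun.injective.comp hφinj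
  refine ⟨LinearMap.range ψ, ?_, ?_, ⟨LinearEquiv.ofInjective ψ hψinj⟩⟩
  · intro x hx
    have hx' : ∀ i, ∃ a : O, algebraMap O K a = x i := fun i =>
      Submodule.mem_one.mp ((Submodule.mem_pi.mp hx) i (Set.mem_univ i))
    choose a ha using hx'
    choose m hm using h1
    refine ⟨∑ i, a i • m i, ?_⟩
    funext j
    rw [hψ, map_sum]
    have : (∑ i, φ (a i • m i)) = ∑ i, (algebraMap O K (a i)) • bK i := by
      refine Finset.sum_congr rfl fun i _ => ?_
      rw [map_smul, hm, algebraMap_smul]
    rw [this, Module.Basis.repr_sum_self, ha]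
  · rintro _ ⟨m, rfl⟩
    rw [Submodule.mem_pi]
    intro i _
    obtain ⟨c, hc⟩ := h2 m i
    rw [hψ, hc]
    exact c.2

end main

end Groth.Agent.H3.TF
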