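import Mathlib
import Groth.Agent.Lib.Helper3.TFD
import Groth.Agent.Lib.Helper6.TFD6

/-!
# Dual lattices in `K^n` over a one-dimensional Gorenstein local domain
-/

set_option autoImplicit false

namespace Groth.Agent.H3.Gor

section Dual

variable {O : Type*} [CommRing O] [IsDomain O] {K : Type*} [Field K] [Algebra O K]
  [IsFractionRing O K] {n : ℕ}

/-- the dual lattice of `L ⊆ K^n` with respect to the standard pairing -/
def dualLat (L : Submodule O (Fin n → K)) : Submodule O (Fin n → K) where
  carrier := {y | ∀ x ∈ L, ∑ i, y i * x i ∈ (1 : Submodule O K)}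
  add_mem' := by
    intro y y' hy hy' x hx
    have : ∑ i, (y + y') i * x i = ∑ i, y i * x i + ∑ i, y' i * x i := by
      rw [← Finset.sum_add_distrib]
      exact Finset.sum_congr rfl fun i _ => by rw [Pi.add_apply, add_mul]
    change ∑ i, (y + y') i * x i ∈ (1 : Submodule O K)
    rw [this]; exact Submodule.add_mem _ (hy x hx) (hy' x hx)
  zero_mem' := by
    intro x hx
    simp
  smul_mem' := by
    intro c y hy x hx
    have : ∑ i, (c • y) i * x i = c • ∑ i, y i * x i := by
      rw [Finset.smul_sum]
      exact Finset.sum_congr rfl fun i _ => by rw [Pi.smul_apply, smul_mul_assoc]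
    change ∑ i, (c • y) i * x i ∈ (1 : Submodule O K)
    rw [this]; exact Submodule.smul_mem _ _ (hy x hx)

theorem mem_dualLat (L : Submodule O (Fin n → K)) (y : Fin n → K) :
    y ∈ dualLat L ↔ ∀ x ∈ L, ∑ i, y i * x i ∈ (1 : Submodule O K) := Iff.rfl

theorem single_mem_pi_one (i : Fin n) :
    (Pi.single i (1 : K) : Fin n → K) ∈
      Submodule.pi Set.univ (fun _ : Fin n => (1 : Submodule O K)) := by
  classical
  rw [Submodule.mem_pi]
  intro j _
  by_cases h : j = i
  · subst h; rw [Pi.single_eq_same]; exact Submodule.one_le.mp le_rfl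
  · rw [Pi.single_eq_of_ne h]; exact Submodule.zero_mem _

theorem dualLat_le_one (L : Submodule O (Fin n → K))
    (h : Submodule.pi Set.univ (fun _ : Fin n => (1 : Submodule O K)) ≤ L) :
    dualLat L ≤ Submodule.pi Set.univ (fun _ : Fin n => (1 : Submodule O K)) := by
  classical
  intro y hy
  rw [Submodule.mem_pi]
  intro i _
  have := hy _ (h (single_mem_pi_one (O := O) i))
  have h2 : ∑ j, y j * (Pi.single i (1 : K) : Fin n → K) j = y i := by
    rw [Finset.sum_eq_single i]
    · rw [Pi.single_eq_same, mul_one]
    · intro j _ hj; rw [Pi.single_eq_of_ne hj, mul_zero]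
    · intro h; exact absurd (Finset.mem_univ i) h
  rwa [h2] at this

theorem conductor_mul_mem (z : K)
    (hz : z ∈ (((1 : Submodule O K).colon (Subalgebra.toSubmodule (integralClosure O K))) •
      (1 : Submodule O K)))
    (w : K) (hw : w ∈ integralClosure O K) : z * w ∈ (1 : Submodule O K) := by
  refine Submodule.smul_induction_on hz ?_ ?_
  · intro c hc t ht
    obtain ⟨a, rfl⟩ := Submodule.mem_one.mp ht
    have h1 : c • w ∈ (1 : Submodule O K) := Submodule.mem_colon.mp hc w hw
    have h2 : (c • (algebraMap O K a)) * w = a • (c • w) := by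
      rw [Algebra.smul_def, Algebra.smul_def, Algebra.smul_def]; ring
    rw [h2]
    exact Submodule.smul_mem _ _ h1
  · intro x y hx hy
    rw [add_mul]; exact Submodule.add_mem _ hx hy

theorem conductor_le_dualLat (L : Submodule O (Fin n → K))
    (h : L ≤ Submodule.pi Set.univ
      (fun _ : Fin n => (Subalgebra.toSubmodule (integralClosure O K)))) :
    Submodule.pi Set.univ (fun _ : Fin n =>
      (((1 : Submodule O K).colon (Subalgebra.toSubmodule (integralClosure O K))) •
        (1 : Submodule O K))) ≤ dualLat L := by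
  intro y hy x hx
  refine Submodule.sum_mem _ fun i _ => ?_
  exact conductor_mul_mem (y i) ((Submodule.mem_pi.mp hy) i (Set.mem_univ i)) (x i)
    ((Submodule.mem_pi.mp (h hx)) i (Set.mem_univ i))

/-- the key formula: a functional on a lattice containing `O^n` is given by the pairing with
the vector of its values on the standard basis -/
theorem key (L : Submodule O (Fin n → K))
    (h : Submodule.pi Set.univ (fun _ : Fin n => (1 : Submodule O K)) ≤ L)
    (f : ↥L →ₗ[O] O) (x : ↥L) :
    algebraMap O K (f x) =
      ∑ i, algebraMap O K (f ⟨Pi.single i (1 : K), h (single_mem_pi_one i)⟩) * (x : Fin n → K) i := by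
  classical
  obtain ⟨d, hd⟩ := IsLocalization.exist_integer_multiples (nonZeroDivisors O)
    (Finset.univ : Finset (Fin n)) (fun i => (x : Fin n → K) i)
  have hd' : ∀ i, ∃ a : O, algebraMap O K a = (d : O) • (x : Fin n → K) i := fun i =>
    hd i (Finset.mem_univ i)
  choose a ha using hd'
  have hd0 : algebraMap O K (d : O) ≠ 0 := by
    intro h0
    exact nonZeroDivisors.coe_ne_zero d ((IsFractionRing.injective O K) (by rw [h0, map_zero]))
  have h1 : (d : O) • x = ∑ i, a i • (⟨Pi.single i (1 : K), h (single_mem_pi_one i)⟩ : ↥L) := by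
    apply Subtype.ext
    rw [Submodule.coe_smul, Submodule.coe_sum]
    funext j
    rw [Pi.smul_apply, Finset.sum_apply, ← ha j]
    rw [Finset.sum_eq_single j]
    · rw [Submodule.coe_smul, Pi.smul_apply]
      dsimp only
      rw [Pi.single_eq_same, Algebra.smul_def, mul_one]
    · intro i _ hi
      rw [Submodule.coe_smul, Pi.smul_apply]
      dsimp only
      rw [Pi.single_eq_of_ne (Ne.symm hi), smul_zero]
    · intro h; exact absurd (Finset.mem_univ j) h
  have h2 : (d : O) * f x = ∑ i, a i * f ⟨Pi.single i (1 : K), h (single_mem_pi_one i)⟩ := by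
    have := congrArg f h1
    rw [map_smul, map_sum] at this
    simp only [map_smul, smul_eq_mul] at this
    exact this
  have h3 := congrArg (algebraMap O K) h2
  rw [map_mul, map_sum] at h3
  apply mul_left_cancel₀ hd0
  rw [h3, Finset.mul_sum]
  refine Finset.sum_congr rfl fun i _ => ?_
  rw [map_mul, ha i, Algebra.smul_def]
  ring

/-- the values of a functional on the standard basis -/
noncomputable def valMap (L : Submodule O (Fin n → K))
    (h : Submodule.pi Set.univ (fun _ : Fin n => (1 : Submodule O K)) ≤ L) :
    (↥L →ₗ[O] O) →ₗ[O] (Fin n → K) where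
  toFun f := fun i => algebraMap O K (f ⟨Pi.single i (1 : K), h (single_mem_pi_one i)⟩)
  map_add' f g := by
    funext i
    simp only [LinearMap.add_apply, map_add, Pi.add_apply]
  map_smul' c f := by
    funext i
    simp only [LinearMap.smul_apply, smul_eq_mul, map_mul, Pi.smul_apply, RingHom.id_apply,
      Algebra.smul_def]

theorem valMap_apply (L : Submodule O (Fin n → K))
    (h : Submodule.pi Set.univ (fun _ : Fin n => (1 : Submodule O K)) ≤ L)
    (f : ↥L →ₗ[O] O) (i : Fin n) :
    valMap L h f i = algebraMap O K (f ⟨Pi.single i (1 : K), h (single_mem_pi_one i)⟩) := rfl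

theorem valMap_mem (L : Submodule O (Fin n → K))
    (h : Submodule.pi Set.univ (fun _ : Fin n => (1 : Submodule O K)) ≤ L)
    (f : ↥L →ₗ[O] O) : valMap L h f ∈ dualLat L := by
  intro x hx
  have := key L h f ⟨x, hx⟩
  simp only [← valMap_apply] at this
  rw [← this]
  exact Submodule.mem_one.mpr ⟨_, rfl⟩

theorem valMap_injective (L : Submodule O (Fin n → K))
    (h : Submodule.pi Set.univ (fun _ : Fin n => (1 : Submodule O K)) ≤ L) :
    Function.Injective (valMap L h) := by
  rw [← LinearMap.ker_eq_bot, LinearMap.ker_eq_bot']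
  intro f hf
  apply LinearMap.ext
  intro x
  have := key L h f x
  simp only [← valMap_apply, hf, Pi.zero_apply, zero_mul, Finset.sum_const_zero] at this
  rw [LinearMap.zero_apply]
  exact (IsFractionRing.injective O K) (by rw [this, map_zero])

theorem valMap_surjOn (L : Submodule O (Fin n → K))
    (h : Submodule.pi Set.univ (fun _ : Fin n => (1 : Submodule O K)) ≤ L)
    (y : Fin n → K) (hy : y ∈ dualLat L) : ∃ f, valMap L h f = y := by
  classical
  have hex : ∀ x : ↥L, ∃ a : O, algebraMap O K a = ∑ i, y i * (x : Fin n → K) i := fun x =>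
    Submodule.mem_one.mp (hy x x.2)
  choose g hg using hex
  have hinj := IsFractionRing.injective O K
  let f : ↥L →ₗ[O] O :=
    { toFun := g
      map_add' := by
        intro x x'
        apply hinj
        rw [map_add, hg, hg, hg, ← Finset.sum_add_distrib]
        refine Finset.sum_congr rfl fun i _ => ?_
        rw [Submodule.coe_add, Pi.add_apply, mul_add]
      map_smul' := by
        intro c x
        apply hinj
        rw [RingHom.id_apply, smul_eq_mul, map_mul, hg, hg, Finset.mul_sum]
        refine Finset.sum_congr rfl fun i _ => ?_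
        rw [Submodule.coe_smul, Pi.smul_apply, Algebra.smul_def]
        ring }
  refine ⟨f, ?_⟩
  funext i
  rw [valMap_apply]
  change algebraMap O K (g _) = _
  rw [hg]
  dsimp only
  rw [Finset.sum_eq_single i]
  · rw [Pi.single_eq_same, mul_one]
  · intro j _ hj; rw [Pi.single_eq_of_ne hj, mul_zero]
  · intro h; exact absurd (Finset.mem_univ i) h

/-- `Hom(L, O) ≃ L^∨` for a lattice `L ⊇ O^n` -/
noncomputable def dualEquiv (L : Submodule O (Fin n → K))
    (h : Submodule.pi Set.univ (fun _ : Fin n => (1 : Submodule O K)) ≤ L) :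
    (↥L →ₗ[O] O) ≃ₗ[O] ↥(dualLat L) :=
  LinearEquiv.ofBijective ((valMap L h).codRestrict (dualLat L) (valMap_mem L h))
    ⟨fun f g hfg => valMap_injective L h (congrArg Subtype.val hfg),
     fun y => by
      obtain ⟨f, hf⟩ := valMap_surjOn L h y.1 y.2
      exact ⟨f, Subtype.ext hf⟩⟩

end Dual

end Groth.Agent.H3.Gor
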