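import Mathlib
import Groth.Agent.Lib.Helper3.GorA

/-!
# Torsion-free modules over a one-dimensional Gorenstein local domain sit between `C^n` and `O^n`
-/

set_option autoImplicit false
universe u

namespace Groth.Agent.H3.Gor

open Groth.Agent.H3.TF

section lattice

/-- a finitely generated `O`-lattice spanning `K^n` is isomorphic to one between `O^n` and
`Õ^n`. -/
theorem exists_between_of_lattice (O : Type*) [CommRing O] [IsDomain O] [IsNoetherianRing O]
    [IsLocalRing O] (hdim : ringKrullDim O = 1) [IsAlgClosed (IsLocalRing.ResidueField O)]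
    (K : Type*) [Field K] [Algebra O K] [IsFractionRing O K]
    (hfin : Module.Finite O ↥(integralClosure O K)) (n : ℕ)
    (N : Submodule O (Fin n → K)) [Module.Finite O ↥N]
    (hspan : Submodule.span K (N : Set (Fin n → K)) = ⊤) :
    ∃ M' : Submodule O (Fin n → K),
      Submodule.pi Set.univ (fun _ : Fin n => (1 : Submodule O K)) ≤ M' ∧
      M' ≤ Submodule.pi Set.univ
        (fun _ : Fin n => (Subalgebra.toSubmodule (integralClosure O K))) ∧
      Nonempty (↥N ≃ₗ[O] ↥M') := by
  obtain ⟨hPID, hfinmax⟩ := isPrincipalIdealRing_integralClosure O K hdim hfin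
  have hInf : Infinite (IsLocalRing.ResidueField O) := inferInstance
  let φ : ↥N →ₗ[O] (Fin n → K) := N.subtype
  have hφinj : Function.Injective φ := Submodule.subtype_injective N
  have hφ : Submodule.span K (Set.range φ) = ⊤ := by
    have : Set.range φ = (N : Set (Fin n → K)) := by
      change Set.range (N.subtype) = _
      rw [Submodule.coe_subtype, Subtype.range_coe]
    rw [this, hspan]
  obtain ⟨n', bK, h1, h2⟩ := exists_good_basis (A := ↥(integralClosure O K)) φ hφ
  have hnn : n' = n := by
    have := Module.finrank_eq_card_basis bK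
    rw [Module.finrank_fin_fun, Fintype.card_fin] at this
    exact this.symm
  subst hnn
  let ψ : ↥N →ₗ[O] (Fin n' → K) := (bK.equivFun.toLinearMap.restrictScalars O) ∘ₗ φ
  have hψ : ∀ m i, ψ m i = bK.repr (φ m) i := fun m i => rfl
  have hψinj : Function.Injective ψ := bK.equivFun.injective.comp hφinj
  refine ⟨LinearMap.range ψ, ?_, ?_, ⟨LinearEquiv.ofInjective ψ hψinj⟩⟩
  · intro x hx
    have hx' : ∀ i, ∃ a : O, algebraMap O K a = x i := fun i =>
      Submodule.mem_one.mp ((Submodule.mem_pi.mp hx) i (Set.mem_univ i))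
    choose a ha using hx'
    choose m hm using h1
    refine ⟨∑ i, a i • m i, ?_⟩
    funext j
    rw [hψ, map_sum]
    have : (∑ i, φ (a i • m i)) = ∑ i, (algebraMap O K (a i)) • bK i := by
      refine Finset.sum_congr rfl fun i _ => ?_
      rw [map_smul, hm, algebraMap_smul]
    rw [this, Module.Basis.repr_sum_self, ha]
  · rintro _ ⟨m, rfl⟩
    rw [Submodule.mem_pi]
    intro i _
    obtain ⟨c, hc⟩ := h2 m i
    rw [hψ, hc]
    exact c.2

end lattice

section aux

variable {O : Type*} [CommRing O] [IsDomain O] {K : Type*} [Field K] [Algebra O K]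
  [IsFractionRing O K]

/-- the conductor of a finite integral closure is nonzero -/
theorem exists_conductor_ne_zero (hfin : Module.Finite O ↥(integralClosure O K)) :
    ∃ d : O, d ≠ 0 ∧
      d ∈ (1 : Submodule O K).colon (Subalgebra.toSubmodule (integralClosure O K)) := by
  classical
  have hfg : (Subalgebra.toSubmodule (integralClosure O K)).FG :=
    Module.Finite.iff_fg.mp hfin
  obtain ⟨s, hs⟩ := hfg
  obtain ⟨d, hd⟩ := IsLocalization.exist_integer_multiples (nonZeroDivisors O) s (fun x : K => x)
  refine ⟨(d : O), nonZeroDivisors.coe_ne_zero d, ?_⟩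
  rw [Submodule.mem_colon]
  intro w hw
  rw [← hs] at hw
  refine Submodule.span_induction ?_ ?_ ?_ ?_ hw
  · intro x hx
    obtain ⟨a, ha⟩ := hd x hx
    exact Submodule.mem_one.mpr ⟨a, ha⟩
  · rw [smul_zero]; exact Submodule.zero_mem _
  · intro x y _ _ hx hy; rw [smul_add]; exact Submodule.add_mem _ hx hy
  · intro c x _ hx; rw [smul_comm]; exact Submodule.smul_mem _ _ hx

/-- a lattice containing `C^n` spans `K^n` -/
theorem span_eq_top_of_conductor_le (hfin : Module.Finite O ↥(integralClosure O K)) {n : ℕ}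
    (N : Submodule O (Fin n → K))
    (h : Submodule.pi Set.univ (fun _ : Fin n =>
      (((1 : Submodule O K).colon (Subalgebra.toSubmodule (integralClosure O K))) •
        (1 : Submodule O K))) ≤ N) :
    Submodule.span K (N : Set (Fin n → K)) = ⊤ := by
  classical
  obtain ⟨d, hd0, hd⟩ := exists_conductor_ne_zero (K := K) hfin
  have hdK : algebraMap O K d ≠ 0 := by
    intro h0
    exact hd0 ((IsFractionRing.injective O K) (by rw [h0, map_zero]))
  rw [eq_top_iff]
  intro x _
  have hx : x = ∑ i, x i • (Pi.single i (1 : K) : Fin n → K) := by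
    funext j
    rw [Finset.sum_apply, Finset.sum_eq_single j]
    · rw [Pi.smul_apply, Pi.single_eq_same, smul_eq_mul, mul_one]
    · intro i _ hi
      rw [Pi.smul_apply, Pi.single_eq_of_ne (Ne.symm hi), smul_zero]
    · intro h; exact absurd (Finset.mem_univ j) h
  rw [hx]
  refine Submodule.sum_mem _ fun i _ => Submodule.smul_mem _ _ ?_
  have h1 : (Pi.single i (algebraMap O K d) : Fin n → K) ∈ N := by
    apply h
    rw [Submodule.mem_pi]
    intro j _
    by_cases hj : j = i
    · subst hj
      rw [Pi.single_eq_same]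
      have : algebraMap O K d = d • (1 : K) := by rw [Algebra.smul_def, mul_one]
      rw [this]
      exact Submodule.smul_mem_smul hd (Submodule.one_le.mp le_rfl)
    · rw [Pi.single_eq_of_ne hj]; exact Submodule.zero_mem _
  have h2 : (Pi.single i (1 : K) : Fin n → K) =
      (algebraMap O K d)⁻¹ • (Pi.single i (algebraMap O K d) : Fin n → K) := by
    rw [← Pi.single_smul, smul_eq_mul, inv_mul_cancel₀ hdK]
  rw [h2]
  exact Submodule.smul_mem _ _ (Submodule.subset_span h1)

/-- sublattices of `O^n` are finitely generated -/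
theorem finite_of_le_one [IsNoetherianRing O] {n : ℕ} (N : Submodule O (Fin n → K))
    (h : N ≤ Submodule.pi Set.univ (fun _ : Fin n => (1 : Submodule O K))) :
    Module.Finite O ↥N := by
  let ι : (Fin n → O) →ₗ[O] (Fin n → K) := (Algebra.linearMap O K).compLeft (Fin n)
  haveI : IsNoetherian O ↥(LinearMap.range ι) :=
    isNoetherian_of_surjective ι.rangeRestrict (LinearMap.range_rangeRestrict ι)
  have hle : N ≤ LinearMap.range ι := by
    intro x hx
    have hx' : ∀ i, ∃ a : O, algebraMap O K a = x i := fun i =>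
      Submodule.mem_one.mp ((Submodule.mem_pi.mp (h hx)) i (Set.mem_univ i))
    choose a ha using hx'
    exact ⟨a, funext fun i => ha i⟩
  haveI : IsNoetherian O ↥N := isNoetherian_of_le hle
  infer_instance

end aux

section main

open Groth.Agent.H6.TFD

theorem main (O : Type u) [CommRing O] [IsDomain O] [IsNoetherianRing O] [IsLocalRing O]
    (hdim : ringKrullDim O = 1) (hCan : IsCan O O)
    [IsAlgClosed (IsLocalRing.ResidueField O)]
    (K : Type u) [Field K] [Algebra O K] [IsFractionRing O K]
    (hfin : Module.Finite O ↥(integralClosure O K))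
    (M : Type u) [AddCommGroup M] [Module O M] [Module.Finite O M] [NoZeroSMulDivisors O M]
    (n : ℕ) (hn : Module.finrank K (TensorProduct O K M) = n) :
    ∃ M'' : Submodule O (Fin n → K),
      Submodule.pi Set.univ (fun _ : Fin n =>
        (((1 : Submodule O K).colon (Subalgebra.toSubmodule (integralClosure O K))) •
          (1 : Submodule O K))) ≤ M'' ∧
      M'' ≤ Submodule.pi Set.univ (fun _ : Fin n => (1 : Submodule O K)) ∧
      Nonempty (M ≃ₗ[O] ↥M'') := by
  obtain ⟨M', h1, h2, ⟨e⟩⟩ := TF.main O hdim K hfin M n hn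
  -- the dual lattice of `M'`
  have hN1 := dualLat_le_one M' h1
  have hN2 := conductor_le_dualLat M' h2
  haveI : Module.Finite O ↥(dualLat M') := finite_of_le_one _ hN1
  have hspan := span_eq_top_of_conductor_le hfin _ hN2
  obtain ⟨N₂, g1, g2, ⟨e₂⟩⟩ := exists_between_of_lattice O hdim K hfin n (dualLat M') hspan
  refine ⟨dualLat N₂, conductor_le_dualLat N₂ g2, dualLat_le_one N₂ g1, ⟨?_⟩⟩
  -- `M ≃ M**`
  have hev := ev_bijective hdim hCan M
  let E1 : M ≃ₗ[O] ((M →ₗ[O] O) →ₗ[O] O) := LinearEquiv.ofBijective _ hev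
  -- `M* ≃ M'* ≃ (M')^∨ ≃ N₂`
  let E2 : (M →ₗ[O] O) ≃ₗ[O] ↥N₂ :=
    ((LinearEquiv.arrowCongr e (LinearEquiv.refl O O)).trans (dualEquiv M' h1)).trans e₂
  -- `M** ≃ N₂* ≃ N₂^∨`
  let E3 : ((M →ₗ[O] O) →ₗ[O] O) ≃ₗ[O] ↥(dualLat N₂) :=
    (LinearEquiv.arrowCongr E2 (LinearEquiv.refl O O)).trans (dualEquiv N₂ g1)
  exact E1.trans E3

end main

end Groth.Agent.H3.Gor
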