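import Groth.Agent.Lib.Helper5.Cons.C3
import Groth.Agent.Lib.Helper8.ConstructibleNoeth
import Groth.Agent.Lib.Helper3.ConsDim
import Groth.Prelude.Def_EGA4Misc

set_option autoImplicit false
set_option linter.style.haveILetI false
universe u
open CategoryTheory CategoryTheory.Limits AlgebraicGeometry Topology

namespace Groth.Agent.H3.ConsUI

/-- a morphism between one-point integral schemes is surjective, flat and quasi-compact -/
theorem fpqc_of_subsingleton {T T' : Scheme.{u}} (h : T' ⟶ T) [IsIntegral T] [Subsingleton T]
    [IsIntegral T'] [Subsingleton T'] :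
    (@Surjective ⊓ @Flat ⊓ @QuasiCompact : MorphismProperty Scheme.{u}) h := by
  haveI := ConsDim.isAffine_of_subsingleton T
  letI : Field ↑Γ(T, ⊤) := (ConsDim.isField_of_subsingleton T).toField
  refine ⟨⟨?_, ?_⟩, ?_⟩
  · refine ⟨fun t => ?_⟩
    obtain ⟨t'⟩ : Nonempty T' := inferInstance
    exact ⟨t', Subsingleton.elim _ _⟩
  · have h1 : Flat (h ≫ T.isoSpec.hom) := inferInstance
    exact (MorphismProperty.cancel_right_of_respectsIso @Flat h T.isoSpec.hom).mp h1
  · haveI : CompactSpace T' := inferInstance
    exact (quasiCompact_iff_compactSpace (f := h)).mpr inferInstance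

/-- dichotomy for locally constructible subsets of an integral Noetherian scheme. -/
theorem interior_nonempty_or {S : Scheme.{u}} [IsIntegral S] [IsNoetherian S] {E : Set S}
    (hE : IsLocallyConstructible E) :
    (interior E).Nonempty ∨ (interior Eᶜ).Nonempty := by
  have hc : IsConstructible E := hE.isConstructible
  have hirr : IsIrreducible (Set.univ : Set S) := (irreducibleSpace_def S).mp inferInstance
  rcases Groth.Agent.H8.CNoeth.dichotomy hirr hc with ⟨U, hU, hne, hsub⟩ | ⟨U, hU, hne, hsub⟩
  · left
    rw [Set.inter_univ] at hne hsub
    obtain ⟨x, hx⟩ := hne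
    exact ⟨x, interior_maximal hsub hU hx⟩
  · right
    rw [Set.inter_univ] at hne hsub
    obtain ⟨x, hx⟩ := hne
    exact ⟨x, interior_maximal hsub hU hx⟩


/-- S5890 -/
theorem isConsMor_universallyInjective :
    ConsProp.IsConsMor.{u} (fun X Y T f g => AlgebraicGeometry.UniversallyInjective f) := by
  constructor
  · intro X X' Y Y' T T' f g f' g' eX eY h _ _ _ _ _ _ _ _ sqY sqX
    change UniversallyInjective f ↔ UniversallyInjective f'
    constructor
    · intro hf
      exact MorphismProperty.of_isPullback sqX hf
    · intro hf'
      have hh := fpqc_of_subsingleton h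
      have heY : (@Surjective ⊓ @Flat ⊓ @QuasiCompact : MorphismProperty Scheme.{u}) eY :=
        MorphismProperty.of_isPullback sqY.flip hh
      exact MorphismProperty.of_isPullback_of_descendsAlong
        (P := @UniversallyInjective) (Q := (@Surjective ⊓ @Flat ⊓ @QuasiCompact)) sqX.flip heY hf'
  · intro X Y S f g _ _ _ _ _ _
    haveI : QuasiSeparated g := by
      haveI : IsLocallyNoetherian Y := LocallyOfFiniteType.isLocallyNoetherian g
      exact (quasiSeparated_iff_quasiSeparatedSpace ..).mpr inferInstance
    haveI : QuasiSeparated (f ≫ g) := by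
      haveI : IsLocallyNoetherian X := LocallyOfFiniteType.isLocallyNoetherian (f ≫ g)
      exact (quasiSeparated_iff_quasiSeparatedSpace ..).mpr inferInstance
    have := H5.Cons.main3444 f g
    exact interior_nonempty_or this


/-- S5887 -/
theorem isCons_universallyInjective :
    ConsProp.IsCons.{u} (fun Y T g => AlgebraicGeometry.UniversallyInjective g) := by
  constructor
  · intro Y Y' T T' g g' e h _ _ _ _ _ _ sq
    change UniversallyInjective g ↔ UniversallyInjective g'
    constructor
    · intro hg
      exact MorphismProperty.of_isPullback sq hg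
    · intro hg'
      have hh := fpqc_of_subsingleton h
      exact MorphismProperty.of_isPullback_of_descendsAlong
        (P := @UniversallyInjective) (Q := (@Surjective ⊓ @Flat ⊓ @QuasiCompact)) sq.flip hh hg'
  · intro X S u _ _ _ _
    have h2 := isConsMor_universallyInjective.2 u (𝟙 S)
    have heq : ConsProp.locus (fun Y T g => AlgebraicGeometry.UniversallyInjective g) u =
        ConsProp.locusMor (fun X Y T f g => AlgebraicGeometry.UniversallyInjective f) u (𝟙 S) := by
      ext s
      change UniversallyInjective (pullback.snd u (S.fromSpecResidueField s)) ↔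
        UniversallyInjective (H5.Cons.fibMap u (𝟙 S) s)
      have h3 : H5.Cons.fibMap u (𝟙 S) s ≫ pullback.snd (𝟙 S) (S.fromSpecResidueField s) =
          (pullback.congrHom (Category.comp_id u) rfl).hom ≫
            pullback.snd u (S.fromSpecResidueField s) := by
        rw [pullback.lift_snd, pullback.congrHom_hom, pullback.lift_snd]
        exact (Category.comp_id _).symm
      rw [← MorphismProperty.cancel_right_of_respectsIso @UniversallyInjective
        (H5.Cons.fibMap u (𝟙 S) s) (pullback.snd (𝟙 S) (S.fromSpecResidueField s)), h3,
        MorphismProperty.cancel_left_of_respectsIso @UniversallyInjective]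
    rw [heq]
    exact h2

end Groth.Agent.H3.ConsUI
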