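import Mathlib

set_option autoImplicit false

universe u

open Topology TopologicalSpace Set

namespace Groth.Agent.H3.ConsTop

section General

variable {X : Type*} [TopologicalSpace X]

/-- `X` with its constructible topology -/
abbrev Cn (X : Type*) [TopologicalSpace X] := WithConstructibleTopology X

/-- the identity to the constructible topology -/
abbrev toC (x : X) : Cn X := WithTopology.toTopology (constructibleTopology X) x

/-- the identity from the constructible topology -/
abbrev ofC (x : Cn X) : X := WithTopology.ofTopology x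

lemma isOpen_preimage_of_isCompact_isOpen {s : Set X} (ho : IsOpen s) (hc : IsCompact s) :
    IsOpen (ofC ⁻¹' s : Set (Cn X)) := by
  rw [WithConstructibleTopology.isOpen_iff]
  exact hc.isOpen_constructibleTopology_of_isOpen ho

lemma isClosed_preimage_of_isCompact_isOpen {s : Set X} (ho : IsOpen s) (hc : IsCompact s) :
    IsClosed (ofC ⁻¹' s : Set (Cn X)) := by
  rw [← isOpen_compl_iff, WithConstructibleTopology.isOpen_iff]
  have : IsCompact (sᶜᶜ) := by rwa [compl_compl]
  exact this.isOpen_constructibleTopology_of_isClosed ho.isClosed_compl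

lemma continuous_ofC [PrespectralSpace X] : Continuous (ofC : Cn X → X) := by
  refine ⟨fun s hs => ?_⟩
  obtain ⟨T, hT, rfl⟩ := PrespectralSpace.isTopologicalBasis.open_eq_sUnion hs
  rw [preimage_sUnion]
  exact isOpen_biUnion fun t ht => isOpen_preimage_of_isCompact_isOpen (hT ht).1 (hT ht).2

instance [T0Space X] [PrespectralSpace X] : T2Space (Cn X) := by
  refine ⟨fun x y hxy => ?_⟩
  have hxy' : ofC x ≠ ofC y := fun h => hxy ((WithTopology.ofTopology_inj _).1 h)
  obtain ⟨U, hU, hx⟩ := exists_isOpen_xor_mem hxy'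
  rcases hx with ⟨hxU, hyU⟩ | ⟨hyU, hxU⟩
  · obtain ⟨W, ⟨hW₁, hW₂⟩, hxW, hWU⟩ :=
      PrespectralSpace.isTopologicalBasis.exists_subset_of_mem_open hxU hU
    exact ⟨ofC ⁻¹' W, (ofC ⁻¹' W)ᶜ, isOpen_preimage_of_isCompact_isOpen hW₁ hW₂,
      (isClosed_preimage_of_isCompact_isOpen hW₁ hW₂).isOpen_compl, hxW,
      fun h => hyU (hWU h), disjoint_compl_right⟩
  · obtain ⟨W, ⟨hW₁, hW₂⟩, hyW, hWU⟩ :=
      PrespectralSpace.isTopologicalBasis.exists_subset_of_mem_open hyU hU
    exact ⟨(ofC ⁻¹' W)ᶜ, ofC ⁻¹' W, (isClosed_preimage_of_isCompact_isOpen hW₁ hW₂).isOpen_compl,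
      isOpen_preimage_of_isCompact_isOpen hW₁ hW₂,
      fun h => hxU (hWU h), hyW, disjoint_compl_left⟩

variable {Y : Type*} [TopologicalSpace Y]

/-- a map on the constructible topologies -/
abbrev cmap (g : X → Y) : Cn X → Cn Y := fun x => toC (g (ofC x))

lemma continuous_cons {g : X → Y} (hg : IsSpectralMap g) :
    Continuous[constructibleTopology X, constructibleTopology Y] g := by
  refine continuous_generateFrom_iff.2 ?_
  rintro s (⟨ho, hc⟩ | ⟨hcl, hc⟩)
  · exact (hg.isCompact_preimage_of_isOpen ho hc).isOpen_constructibleTopology_of_isOpen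
      (ho.preimage hg.continuous)
  · have h1 : IsCompact (g ⁻¹' s)ᶜ := by
      rw [← preimage_compl]
      exact hg.isCompact_preimage_of_isOpen hcl.isOpen_compl hc
    exact h1.isOpen_constructibleTopology_of_isClosed (hcl.preimage hg.continuous)

lemma continuous_cmap_of {g : X → Y}
    (hg : Continuous[constructibleTopology X, constructibleTopology Y] g) :
    Continuous (cmap g) :=
  @Continuous.comp _ _ _ _ (constructibleTopology Y) _ _ _
    (WithTopology.continuous_toTopology (constructibleTopology Y))
    (@Continuous.comp _ _ _ _ (constructibleTopology X) (constructibleTopology Y) _ _ hg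
      (WithTopology.continuous_ofTopology (constructibleTopology X)))

lemma continuous_cmap {g : X → Y} (hg : IsSpectralMap g) : Continuous (cmap g) :=
  continuous_cmap_of (continuous_cons hg)

lemma isSpectralMap_subtype_val [QuasiSeparatedSpace X] {U : Set X} (hU : IsOpen U)
    (hUc : IsCompact U) : IsSpectralMap (Subtype.val : U → X) := by
  refine ⟨continuous_subtype_val, fun s ho hc => ?_⟩
  rw [Subtype.isCompact_iff, Subtype.image_preimage_coe]
  exact QuasiSeparatedSpace.inter_isCompact _ _ hU hUc ho hc

lemma isCompact_preimage_ofC [QuasiSober X] [PrespectralSpace X] [QuasiSeparatedSpace X]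
    {U : Set X} (hU : IsOpen U) (hUc : IsCompact U) : IsCompact (ofC ⁻¹' U : Set (Cn X)) := by
  haveI : CompactSpace U := isCompact_iff_compactSpace.1 hUc
  haveI : QuasiSober U := hU.isOpenEmbedding_subtypeVal.quasiSober
  haveI : PrespectralSpace U := hU.isOpenEmbedding_subtypeVal.prespectralSpace
  haveI : QuasiSeparatedSpace U := hU.isOpenEmbedding_subtypeVal.quasiSeparatedSpace
  have h := isCompact_range (continuous_cmap (isSpectralMap_subtype_val hU hUc))
  convert h using 1
  ext x
  constructor
  · intro hx
    exact ⟨toC ⟨ofC x, hx⟩, rfl⟩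
  · rintro ⟨y, rfl⟩
    exact (ofC y).2

/-- the homeomorphism to the type synonym -/
def homeoC (X : Type*) [TopologicalSpace X] :
    @Homeomorph X (Cn X) (constructibleTopology X) _ :=
  @Homeomorph.mk X (Cn X) (constructibleTopology X) _
    ⟨toC, ofC, fun _ => rfl, fun _ => rfl⟩
    (WithTopology.continuous_toTopology _) (WithTopology.continuous_ofTopology _)

lemma isProperMap_cmap_iff (g : X → Y) :
    IsProperMap (cmap g) ↔
      @IsProperMap X Y (constructibleTopology X) (constructibleTopology Y) g := by
  have h1 := @Homeomorph.isProperMap X (Cn X) (constructibleTopology X) _ (homeoC X)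
  have h2 := @Homeomorph.isProperMap Y (Cn Y) (constructibleTopology Y) _ (homeoC Y)
  have h3 := @Homeomorph.isProperMap (Cn X) X _ (constructibleTopology X)
    (@Homeomorph.symm X (Cn X) (constructibleTopology X) _ (homeoC X))
  have h4 := @Homeomorph.isProperMap (Cn Y) Y _ (constructibleTopology Y)
    (@Homeomorph.symm Y (Cn Y) (constructibleTopology Y) _ (homeoC Y))
  constructor
  · intro h
    exact @IsProperMap.comp X (Cn Y) Y (constructibleTopology X) _ (constructibleTopology Y) _ _
      h4 (@IsProperMap.comp X (Cn X) (Cn Y) (constructibleTopology X) _ _ _ _ h h1)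
  · intro h
    exact @IsProperMap.comp (Cn X) Y (Cn Y) _ (constructibleTopology Y) _ _ _
      h2 (@IsProperMap.comp (Cn X) X Y _ (constructibleTopology X) (constructibleTopology Y) _ _ h h3)

end General

section Scheme

open AlgebraicGeometry

variable {X Y : Scheme.{u}}

lemma exists_affine_nhds (y : Y) : ∃ V : Y.Opens, IsAffineOpen V ∧ y ∈ V := by
  obtain ⟨V, hV, hy, -⟩ := exists_isAffineOpen_mem_and_subset (x := y) (U := ⊤) trivial
  exact ⟨V, hV, hy⟩

instance [QuasiSeparatedSpace Y] : WeaklyLocallyCompactSpace (Cn Y) := by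
  refine ⟨fun y => ?_⟩
  obtain ⟨V, hV, hy⟩ := exists_affine_nhds (ofC y)
  exact ⟨ofC ⁻¹' (V : Set Y), isCompact_preimage_ofC V.isOpen hV.isCompact,
    (isOpen_preimage_of_isCompact_isOpen V.isOpen hV.isCompact).mem_nhds hy⟩

theorem main [QuasiSeparatedSpace X] [QuasiSeparatedSpace Y] (f : X ⟶ Y) :
    QuasiCompact f ↔
      @IsProperMap X Y (constructibleTopology X) (constructibleTopology Y) f := by
  rw [← isProperMap_cmap_iff]
  constructor
  · intro hf
    have hsp : IsSpectralMap f := f.isSpectralMap
    have hcont : Continuous (cmap f) := continuous_cmap hsp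
    rw [isProperMap_iff_isCompact_preimage]
    refine ⟨hcont, fun K hK => ?_⟩
    choose V hV hyV using fun y : Cn Y => exists_affine_nhds (ofC y)
    obtain ⟨t, -, ht⟩ := hK.elim_nhds_subcover (fun y => ofC ⁻¹' (V y : Set Y)) (fun y _ =>
      (isOpen_preimage_of_isCompact_isOpen (V y).isOpen (hV y).isCompact).mem_nhds (hyV y))
    have hc : IsCompact (⋃ y ∈ t, (ofC ⁻¹' (f ⁻¹' (V y : Set Y)) : Set (Cn X))) :=
      t.isCompact_biUnion fun y _ =>
        isCompact_preimage_ofC ((V y).isOpen.preimage hsp.continuous)
          (hsp.isCompact_preimage_of_isOpen (V y).isOpen (hV y).isCompact)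
    refine hc.of_isClosed_subset (hK.isClosed.preimage hcont) ?_
    intro x hx
    have := ht hx
    simp only [mem_iUnion, mem_preimage] at this ⊢
    exact this
  · intro h
    rw [quasiCompact_iff_forall_isAffineOpen]
    intro U hU
    have h1 : IsCompact (ofC ⁻¹' (U : Set Y) : Set (Cn Y)) :=
      isCompact_preimage_ofC U.isOpen hU.isCompact
    have h2 := (h.isCompact_preimage h1).image continuous_ofC
    convert h2 using 1
    ext x
    simp only [mem_image, mem_preimage]
    constructor
    · intro hx
      exact ⟨toC x, hx, rfl⟩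
    · rintro ⟨y, hy, rfl⟩
      exact hy

end Scheme

end Groth.Agent.H3.ConsTop
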