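import Mathlib

set_option autoImplicit false

open CategoryTheory CategoryTheory.Limits

universe v₁ u₁

namespace Groth.Agent.H3.Cosep

variable {E : Type u₁} [Category.{v₁} E] {ι : Type v₁} (G : ι → E)

/-- the relation induced by a morphism on `G`-points -/
def rel {A Q : E} (e : A ⟶ Q) : Set (Σ t' : ι, (G t' ⟶ A) × (G t' ⟶ A)) :=
  {p | p.2.1 ≫ e = p.2.2 ≫ e}

variable {G}

lemma coeq_of_rel_eq (hG : (ObjectProperty.ofObj G).IsSeparating) {A Q Q' : E} (e : A ⟶ Q)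
    (e' : A ⟶ Q') (hr : rel G e = rel G e') {Z : E} (a b : Z ⟶ A) (hab : a ≫ e = b ≫ e) :
    a ≫ e' = b ≫ e' := by
  apply hG
  intro G' hG' h
  obtain ⟨t'⟩ := hG'
  have hmem : (⟨t', (h ≫ a, h ≫ b)⟩ : Σ t' : ι, (G t' ⟶ A) × (G t' ⟶ A)) ∈ rel G e := by
    change (h ≫ a) ≫ e = (h ≫ b) ≫ e
    rw [Category.assoc, Category.assoc, hab]
  rw [hr] at hmem
  have : (h ≫ a) ≫ e' = (h ≫ b) ≫ e' := hmem
  simpa only [Category.assoc] using this

lemma exists_mono_of_rel_eq (hG : (ObjectProperty.ofObj G).IsSeparating) {A Q Q' : E} (e : A ⟶ Q)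
    (e' : A ⟶ Q') [EffectiveEpi e] [EffectiveEpi e'] (hr : rel G e = rel G e') :
    ∃ d : Q ⟶ Q', Mono d := by
  let d : Q ⟶ Q' := EffectiveEpi.desc e e' (fun a b hab => coeq_of_rel_eq hG e e' hr a b hab)
  let d' : Q' ⟶ Q := EffectiveEpi.desc e' e (fun a b hab => coeq_of_rel_eq hG e' e hr.symm a b hab)
  have h1 : e ≫ d = e' := EffectiveEpi.fac e e' _
  have h2 : e' ≫ d' = e := EffectiveEpi.fac e' e _
  have h3 : d ≫ d' = 𝟙 Q := by
    rw [← cancel_epi e, ← Category.assoc, h1, h2, Category.comp_id]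
  exact ⟨d, mono_of_mono_fac h3⟩

variable [EnoughInjectives E]

lemma exI (hG : (ObjectProperty.ofObj G).IsSeparating) (A : E)
    (r : Set (Σ t' : ι, (G t' ⟶ A) × (G t' ⟶ A))) :
    ∃ I : E, Injective I ∧ ∀ (Q : E) (e : A ⟶ Q), EffectiveEpi e → rel G e = r →
      ∃ j : Q ⟶ I, Mono j := by
  by_cases hgood : ∃ (Q : E) (e : A ⟶ Q), EffectiveEpi e ∧ rel G e = r
  · obtain ⟨Q', e', he', hr'⟩ := hgood
    refine ⟨Injective.under Q', inferInstance, ?_⟩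
    intro Q e he hr
    obtain ⟨d, hd⟩ := exists_mono_of_rel_eq hG e e' (hr.trans hr'.symm)
    exact ⟨d ≫ Injective.ι Q', mono_comp _ _⟩
  · refine ⟨Injective.under A, inferInstance, ?_⟩
    intro Q e he hr
    exact absurd ⟨Q, e, he, hr⟩ hgood

theorem main (hG : (ObjectProperty.ofObj G).IsSeparating)
    [∀ t, HasBinaryCoproduct (G t) (G t)]
    (hfac : ∀ (t : ι) (X : E) (f : G t ⨿ G t ⟶ X),
      ∃ (Y : E) (e : G t ⨿ G t ⟶ Y) (m : Y ⟶ X), EffectiveEpi e ∧ Mono m ∧ e ≫ m = f) :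
    ∃ (κ : Type v₁) (H : κ → E),
      (∀ k, Injective (H k)) ∧ (ObjectProperty.ofObj H).IsCoseparating := by
  let κ : Type v₁ := Σ t : ι, Set (Σ t' : ι, (G t' ⟶ G t ⨿ G t) × (G t' ⟶ G t ⨿ G t))
  let H : κ → E := fun k => (exI hG (G k.1 ⨿ G k.1) k.2).choose
  have hH1 : ∀ k, Injective (H k) := fun k => (exI hG (G k.1 ⨿ G k.1) k.2).choose_spec.1
  have hH2 : ∀ (k : κ) (Q : E) (e : G k.1 ⨿ G k.1 ⟶ Q), EffectiveEpi e → rel G e = k.2 →
      ∃ j : Q ⟶ H k, Mono j := fun k => (exI hG (G k.1 ⨿ G k.1) k.2).choose_spec.2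
  refine ⟨κ, H, hH1, ?_⟩
  intro X Y f g hyp
  apply hG
  intro G' hG' h
  obtain ⟨t⟩ := hG'
  obtain ⟨Q, e, m, he, hm, hem⟩ := hfac t Y (coprod.desc (h ≫ f) (h ≫ g))
  obtain ⟨j, hj⟩ := hH2 ⟨t, rel G e⟩ Q e he rfl
  haveI := hH1 ⟨t, rel G e⟩
  have hψ : m ≫ Injective.factorThru j m = j := Injective.comp_factorThru j m
  have key := hyp (H ⟨t, rel G e⟩) ⟨_⟩ (Injective.factorThru j m)
  have e1 : coprod.inl ≫ e ≫ j = coprod.inr ≫ e ≫ j := by
    calc coprod.inl ≫ e ≫ j = coprod.inl ≫ (e ≫ m) ≫ Injective.factorThru j m := by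
          rw [Category.assoc, hψ]
      _ = h ≫ f ≫ Injective.factorThru j m := by rw [hem, coprod.inl_desc_assoc, Category.assoc]
      _ = h ≫ g ≫ Injective.factorThru j m := by rw [key]
      _ = coprod.inr ≫ (e ≫ m) ≫ Injective.factorThru j m := by rw [hem, coprod.inr_desc_assoc, Category.assoc]
      _ = coprod.inr ≫ e ≫ j := by rw [Category.assoc, hψ]
  have e2 : coprod.inl ≫ e = coprod.inr ≫ e := by
    rw [← cancel_mono j]; simpa only [Category.assoc] using e1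
  have e3 : coprod.inl ≫ (e ≫ m) = coprod.inr ≫ (e ≫ m) := by
    rw [← Category.assoc, e2, Category.assoc]
  rw [hem, coprod.inl_desc, coprod.inr_desc] at e3
  exact e3

end Groth.Agent.H3.Cosep
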