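import Mathlib
import Groth.Agent.Lib.Helper3.CotSmAlg

/-! Helper3: bounding the embedding dimension of a quotient by the rank of a cotangent map. -/

set_option autoImplicit false
universe u
open IsLocalRing

namespace Groth.Agent.H3.CotSm

theorem finrank_cotangentSpace_le_of_square {A A' B B' : Type u} [CommRing A] [CommRing A']
    [CommRing B] [CommRing B'] [IsLocalRing A] [IsLocalRing A'] [IsLocalRing B] [IsLocalRing B']
    [IsNoetherianRing B']
    (α : A →+* B) (π : A →+* A') (ρ : B →+* B') (α' : A' →+* B')
    [IsLocalHom α] [IsLocalHom π] [IsLocalHom ρ] [IsLocalHom α']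
    (hsq : ρ.comp α = α'.comp π) (hπ : Function.Surjective π)
    (hres : ∀ b : B', ∃ a : A', b - α' a ∈ maximalIdeal B')
    (hinj : CotInj A' B' α')
    (r : ℕ) (S₀ : Finset (CotangentSpace B)) (hS : S₀.card ≤ r)
    (hrange : ∀ (a : A) (ha : a ∈ maximalIdeal A),
      (maximalIdeal B).toCotangent ⟨α a, (IsLocalRing.maximalIdeal_comap α).ge ha⟩ ∈
        Submodule.span (ResidueField B) (S₀ : Set (CotangentSpace B))) :
    Module.finrank (ResidueField A') (CotangentSpace A') ≤ r := by
  classical
  have hleρ : maximalIdeal B ≤ (maximalIdeal B').comap ρ := (IsLocalRing.maximalIdeal_comap ρ).ge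
  have hleα' : maximalIdeal A' ≤ (maximalIdeal B').comap α' :=
    (IsLocalRing.maximalIdeal_comap α').ge
  let cotρ : CotangentSpace B → CotangentSpace B' :=
    Ideal.mapCotangent (maximalIdeal B) (maximalIdeal B') ρ.toIntAlgHom hleρ
  let cot' : CotangentSpace A' → CotangentSpace B' :=
    Ideal.mapCotangent (maximalIdeal A') (maximalIdeal B') α'.toIntAlgHom hleα'
  have hcotρ_mk : ∀ b : maximalIdeal B, cotρ ((maximalIdeal B).toCotangent b) =
      (maximalIdeal B').toCotangent ⟨ρ b, hleρ b.2⟩ := fun b => rfl
  have hcot'_mk : ∀ a : maximalIdeal A', cot' ((maximalIdeal A').toCotangent a) =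
      (maximalIdeal B').toCotangent ⟨α' a, hleα' a.2⟩ := fun a => rfl
  have hcot'_inj : Function.Injective cot' :=
    (injective_mapCotangent_iff α' hleα').mpr hinj
  have hsmulB : ∀ (b : B) (t : maximalIdeal B),
      residue B b • (maximalIdeal B).toCotangent t = (maximalIdeal B).toCotangent (b • t) := by
    intro b t
    rw [map_smul]
    exact IsScalarTower.algebraMap_smul (ResidueField B) b _
  have hsmulB' : ∀ (b : B') (t : maximalIdeal B'),
      residue B' b • (maximalIdeal B').toCotangent t = (maximalIdeal B').toCotangent (b • t) := by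
    intro b t
    rw [map_smul]
    exact IsScalarTower.algebraMap_smul (ResidueField B') b _
  have hsmulA' : ∀ (a : A') (t : maximalIdeal A'),
      residue A' a • (maximalIdeal A').toCotangent t = (maximalIdeal A').toCotangent (a • t) := by
    intro b t
    rw [map_smul]
    exact IsScalarTower.algebraMap_smul (ResidueField A') b _
  let W' : Submodule (ResidueField B') (CotangentSpace B') :=
    Submodule.span (ResidueField B') (cotρ '' (S₀ : Set (CotangentSpace B)))
  -- semilinear image of the span
  have hspan : ∀ v ∈ Submodule.span (ResidueField B) (S₀ : Set (CotangentSpace B)),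
      cotρ v ∈ W' := by
    intro v hv
    induction hv using Submodule.span_induction with
    | mem x hx => exact Submodule.subset_span ⟨x, hx, rfl⟩
    | zero =>
      have : cotρ 0 = 0 := map_zero _
      rw [this]; exact zero_mem _
    | add x y _ _ hx hy =>
      have : cotρ (x + y) = cotρ x + cotρ y := map_add _ _ _
      rw [this]; exact add_mem hx hy
    | smul c x _ hx =>
      obtain ⟨b, rfl⟩ := residue_surjective c
      obtain ⟨t, rfl⟩ := Ideal.toCotangent_surjective _ x
      rw [hsmulB, hcotρ_mk]
      have h1 : (maximalIdeal B').toCotangent ⟨ρ ((b • t : maximalIdeal B) : B), hleρ (b • t).2⟩ =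
          residue B' (ρ b) • (maximalIdeal B').toCotangent ⟨ρ t, hleρ t.2⟩ := by
        rw [hsmulB']
        congr 1
        apply Subtype.ext
        show ρ (b * t.1) = ρ b * ρ t.1
        exact map_mul _ _ _
      rw [h1]
      rw [hcotρ_mk] at hx
      exact W'.smul_mem _ hx
  -- the image of `cot'` lies in `W'`
  have hcot'W : ∀ v : CotangentSpace A', cot' v ∈ W' := by
    intro v
    obtain ⟨a', rfl⟩ := Ideal.toCotangent_surjective _ v
    obtain ⟨a, ha⟩ := hπ a'.1
    have ham : a ∈ maximalIdeal A := by
      rw [← IsLocalRing.maximalIdeal_comap π, Ideal.mem_comap, ha]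
      exact a'.2
    have h1 := hspan _ (hrange a ham)
    rw [hcotρ_mk] at h1
    rw [hcot'_mk]
    have h2 : ρ (α a) = α' a'.1 := by
      have := congrArg (fun φ : A →+* B' => φ a) hsq
      simp only [RingHom.comp_apply] at this
      rw [this, ha]
    have h3 : (⟨ρ (α a), hleρ ((IsLocalRing.maximalIdeal_comap α).ge ham)⟩ : maximalIdeal B') =
        ⟨α' a'.1, hleα' a'.2⟩ := Subtype.ext h2
    rw [← h3]
    exact h1
  -- rank inequality
  have hressurj : Function.Surjective (ResidueField.map α') := by
    intro z
    obtain ⟨b, rfl⟩ := residue_surjective z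
    obtain ⟨a, ha⟩ := hres b
    refine ⟨residue A' a, ?_⟩
    rw [ResidueField.map_residue]
    symm
    rw [← sub_eq_zero, ← map_sub, residue_eq_zero_iff]
    exact ha
  have h1 : Module.finrank (ResidueField A') (CotangentSpace A') ≤
      Module.finrank (ResidueField B') W' := by
    let j : CotangentSpace A' →+ W' :=
      { toFun := fun v => ⟨cot' v, hcot'W v⟩
        map_zero' := Subtype.ext (map_zero _)
        map_add' := fun v w => Subtype.ext (map_add _ v w) }
    have hj : Function.Injective j := fun v w hvw => hcot'_inj (congrArg Subtype.val hvw)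
    have hc : ∀ (c : ResidueField A') (m : CotangentSpace A'),
        j (c • m) = ResidueField.map α' c • j m := by
      intro c m
      obtain ⟨a, rfl⟩ := residue_surjective c
      obtain ⟨t, rfl⟩ := Ideal.toCotangent_surjective _ m
      apply Subtype.ext
      show cot' (residue A' a • (maximalIdeal A').toCotangent t) =
        ResidueField.map α' (residue A' a) • cot' ((maximalIdeal A').toCotangent t)
      rw [hsmulA', hcot'_mk, hcot'_mk, ResidueField.map_residue, hsmulB']
      congr 1
      apply Subtype.ext
      show α' (a * t.1) = α' a * α' t.1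
      exact map_mul _ _ _
    have hrk := rank_le_of_surjective_injective (ResidueField.map α') j hressurj hj hc
    exact Cardinal.toNat_le_toNat hrk (Module.rank_lt_aleph0 _ _)
  have h2 : Module.finrank (ResidueField B') W' ≤ S₀.card := by
    have h3 : (cotρ '' (S₀ : Set (CotangentSpace B))) = ((S₀.image cotρ : Finset _) : Set _) := by
      rw [Finset.coe_image]
    show Module.finrank (ResidueField B')
      (Submodule.span (ResidueField B') (cotρ '' (S₀ : Set (CotangentSpace B)))) ≤ _
    rw [h3]
    exact (finrank_span_finset_le_card _).trans Finset.card_image_le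
  omega

end Groth.Agent.H3.CotSm
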