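import Mathlib
import Groth.Agent.Lib.Helper1.FlatFibDim
import Groth.Agent.Lib.Helper1.FibDimBC
import Groth.Agent.Lib.Helper1.DimFormula4
import Groth.Agent.Lib.Helper1.EquiDim
import Groth.Agent.Lib.Helper1.RelDim
import Groth.Agent.Lib.Helper1.FlatRelDim
import Groth.Agent.Lib.Helper8.RedImm
import Groth.Agent.Lib.Helper3.TopDim

/-!
# Translates in a homogeneous space: the dimension count for flat morphisms
-/

set_option autoImplicit false

open CategoryTheory Limits AlgebraicGeometry Topology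

universe u

namespace Groth.Agent.H3.KleimanF

theorem nat_of_add {x : WithBot ℕ∞} {a b : ℕ} (h : (a : WithBot ℕ∞) + x = b) :
    ∃ d : ℕ, x = d ∧ a + d = b := by
  revert h
  refine Groth.Agent.H1.FlatRelDim.withBot_enat_cases
    (fun x => (a : WithBot ℕ∞) + x = b → ∃ d : ℕ, x = d ∧ a + d = b) ?_ ?_ ?_ x
  · intro h
    rw [WithBot.add_bot] at h
    exact absurd h (by simp)
  · intro h
    exfalso
    rw [add_comm, Groth.Agent.H1.FlatRelDim.top_add_natCast] at h
    exact Groth.Agent.H1.FlatRelDim.not_top_le_natCast b h.le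
  · intro d h
    exact ⟨d, rfl, by exact_mod_cast h⟩

section top

variable {A C : Type*} [TopologicalSpace A] [TopologicalSpace C]

/-- the irreducible components of the range of an embedding have the dimensions of those of the
source. -/
theorem dim_components_range {e : A → C} (he : IsEmbedding e) (r : WithBot ℕ∞)
    (hA : ∀ T ∈ irreducibleComponents A, topologicalKrullDim ↥T = r) :
    ∀ T ∈ irreducibleComponents ↥(Set.range e), topologicalKrullDim ↥T = r := by
  intro T hT
  let φ : A ≃ₜ ↥(Set.range e) := he.toHomeomorph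
  have hne : (T ∩ Set.range φ).Nonempty := by
    obtain ⟨t, ht⟩ := hT.1.nonempty
    exact ⟨t, ht, φ.surjective t⟩
  have h1 := preimage_mem_irreducibleComponents hT φ.isOpenEmbedding hne
  rw [← hA _ h1]
  exact (IsHomeomorph.topologicalKrullDim_eq _
    (φ.subtype (p := fun x => x ∈ φ ⁻¹' T) (q := fun x => x ∈ T)
      (fun _ => Iff.rfl)).isHomeomorph).symm

end top

/-- the reduced induced structure on a closed subset. -/
theorem exists_reduced_closedImmersion {X : Scheme.{u}} (Z : Set X) (hZ : IsClosed Z) :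
    ∃ (Y : Scheme.{u}) (i : Y ⟶ X), IsClosedImmersion i ∧ IsReduced Y ∧ Set.range i = Z := by
  let C : TopologicalSpace.Closeds X := ⟨Z, hZ⟩
  refine ⟨(Scheme.IdealSheafData.vanishingIdeal C).subscheme,
    (Scheme.IdealSheafData.vanishingIdeal C).subschemeι, inferInstance,
    Groth.Agent.H8.RedImm.isReduced_subscheme_vanishingIdeal C, ?_⟩
  rw [Scheme.IdealSheafData.range_subschemeι, Scheme.IdealSheafData.coe_support_vanishingIdeal]
  rfl

/-- a scheme mapping homeomorphically onto an irreducible subset is irreducible of the same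
dimension. -/
theorem irreducibleSpace_and_dim_of_range {Y X : Scheme.{u}} (i : Y ⟶ X) [IsClosedImmersion i]
    (Z : Set X) (hr : Set.range i = Z) (hZ : IsIrreducible Z) :
    IrreducibleSpace Y ∧ topologicalKrullDim Y = topologicalKrullDim ↥Z := by
  have hemb : IsEmbedding i := i.isClosedEmbedding.isEmbedding
  let φ : Y ≃ₜ ↥Z := hemb.toHomeomorph.trans (Homeomorph.setCongr hr)
  haveI : IrreducibleSpace ↥Z := Subtype.irreducibleSpace hZ
  exact ⟨φ.irreducibleSpace_iff.mpr inferInstance,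
    IsHomeomorph.topologicalKrullDim_eq _ φ.isHomeomorph⟩

variable {k : Type u} [Field k]

/-- **the dimension count for translates** (flat version): local dimension of the fibre. -/
theorem localDim_fibre_eq {Gs Xs Zs P Wσ : Scheme.{u}}
    (qG : Gs ⟶ Spec (CommRingCat.of k)) (qX : Xs ⟶ Spec (CommRingCat.of k))
    (qZ : Zs ⟶ Spec (CommRingCat.of k)) (qP : P ⟶ Spec (CommRingCat.of k))
    [LocallyOfFiniteType qG] [LocallyOfFiniteType qX] [LocallyOfFiniteType qZ]
    [LocallyOfFiniteType qP]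
    [IrreducibleSpace Gs] [IrreducibleSpace Xs] [IrreducibleSpace Zs] [IrreducibleSpace P]
    (h : P ⟶ Xs) [Flat h] [LocallyOfFiniteType h] (g : Zs ⟶ Xs) (q : pullback h g ⟶ Gs)
    (V : Gs.Opens) [Flat (q ∣_ V)] [LocallyOfFiniteType (q ∣_ V)]
    (pσ : Wσ ⟶ Spec (CommRingCat.of k)) (j' : Wσ ⟶ (q ⁻¹ᵁ V))
    (s' : Spec (CommRingCat.of k) ⟶ V)
    (sq : IsPullback j' pσ (q ∣_ V) s')
    (m n s N : ℕ) (hm : topologicalKrullDim Gs = m) (hn : topologicalKrullDim Xs = n)
    (hs : topologicalKrullDim Zs = s) (hP : topologicalKrullDim P = N) (w : Wσ) :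
    ∃ e : ℕ, e + m + n = s + N ∧ FlatMor.localDim Wσ w = e := by
  classical
  have hI : ∀ p' : P, (n : WithBot ℕ∞) + FlatMor.fibreDimAt h p' = N := by
    intro p'
    have h1 := Groth.Agent.H1.FlatFibDim.localDim_eq_add_fibreDimAt qX h p'
    rw [Groth.Agent.H1.EquiDim.localDim_eq_dim qP, Groth.Agent.H1.EquiDim.localDim_eq_dim qX,
      hP, hn] at h1
    exact h1.symm
  have hII : ∀ p : ↥(pullback h g), FlatMor.localDim ↥(pullback h g) p =
      (s : WithBot ℕ∞) + FlatMor.fibreDimAt h (pullback.fst h g p) := by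
    intro p
    have h1 := Groth.Agent.H1.FlatFibDim.localDim_eq_add_fibreDimAt qZ (pullback.snd h g) p
    rw [Groth.Agent.H1.EquiDim.localDim_eq_dim qZ, hs,
      Groth.Agent.H1.FibDimBC.fibreDimAt_eq_of_isPullback h g (pullback.fst h g)
        (pullback.snd h g) (IsPullback.of_hasPullback h g) p] at h1
    exact h1
  have hIII : ∀ u : ↥(q ⁻¹ᵁ V), FlatMor.localDim ↥(pullback h g) ((q ⁻¹ᵁ V).ι u) =
      (m : WithBot ℕ∞) + FlatMor.fibreDimAt (q ∣_ V) u := by
    intro u
    have h1 := Groth.Agent.H1.FlatFibDim.localDim_eq_add_fibreDimAt (V.ι ≫ qG) (q ∣_ V) u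
    rw [Groth.Agent.H1.DimFormula.localDim_eq_of_isOpenEmbedding (q ⁻¹ᵁ V).ι.isOpenEmbedding u,
      Groth.Agent.H1.DimFormula.localDim_eq_of_isOpenEmbedding V.ι.isOpenEmbedding ((q ∣_ V) u),
      Groth.Agent.H1.EquiDim.localDim_eq_dim qG, hm] at h1
    exact h1
  have hIV : FlatMor.localDim Wσ w = FlatMor.fibreDimAt (q ∣_ V) (j' w) := by
    rw [← Groth.Agent.H1.DimFormula.fibreDimAt_eq_localDim_of_field pσ w]
    exact Groth.Agent.H1.FibDimBC.fibreDimAt_eq_of_isPullback (q ∣_ V) s' j' pσ sq w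
  obtain ⟨d, hd1, hd2⟩ := nat_of_add (hI (pullback.fst h g ((q ⁻¹ᵁ V).ι (j' w))))
  have h2 := hII ((q ⁻¹ᵁ V).ι (j' w))
  rw [hd1, hIII (j' w)] at h2
  have h3 : (m : WithBot ℕ∞) + FlatMor.fibreDimAt (q ∣_ V) (j' w) = ((s + d : ℕ) : WithBot ℕ∞) := by
    rw [h2]; push_cast; rfl
  obtain ⟨e, he1, he2⟩ := nat_of_add h3
  refine ⟨e, by omega, ?_⟩
  rw [hIV, he1]

end Groth.Agent.H3.KleimanF
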