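import Mathlib
import Groth.Prelude.Def_FixPt
import Groth.Agent.Lib.Helper3.CotSmSch
import Groth.Agent.Lib.Helper3.CotRankAlg
import Groth.Agent.Lib.Helper3.KleimanF
import Groth.Agent.Lib.Helper3.TopDim
import Groth.Agent.Lib.Helper5.GenSm.B
import Groth.Agent.Lib.Helper1.DimFormula3
import Groth.Agent.Lib.Helper1.EquiDim
import Groth.Agent.Lib.Helper8.RedImm

/-! Helper3: the image of the locus where the tangent map has rank `≤ r` has dimension `≤ r`
(characteristic zero; Hartshorne III.10.6). -/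

set_option autoImplicit false
universe u
open AlgebraicGeometry CategoryTheory CategoryTheory.Limits IsLocalRing

namespace Groth.Agent.H3.CotSm

/-- the commutative square of local rings attached to a commutative square of schemes. -/
theorem stalk_square {U X Y Y' : Scheme.{u}} (g : U ⟶ X) (f : X ⟶ Y) (f'' : U ⟶ Y')
    (h : Y' ⟶ Y) (w : g ≫ f = f'' ≫ h) (x : U) :
    ∃ π : Y.presheaf.stalk (f (g x)) →+* Y'.presheaf.stalk (f'' x), IsLocalHom π ∧
      (Function.Surjective (h.stalkMap (f'' x)).hom → Function.Surjective π) ∧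
      (g.stalkMap x).hom.comp (f.stalkMap (g x)).hom = (f''.stalkMap x).hom.comp π := by
  have hpt : f (g x) = h (f'' x) := by
    rw [← Scheme.Hom.comp_apply, w, Scheme.Hom.comp_apply]
  let c : Y.presheaf.stalk (f (g x)) ≅ Y.presheaf.stalk (h (f'' x)) :=
    Y.presheaf.stalkCongr (Inseparable.of_eq hpt)
  have e1 : f.stalkMap (g x) ≫ g.stalkMap x =
      c.hom ≫ h.stalkMap (f'' x) ≫ f''.stalkMap x := by
    have := Scheme.Hom.stalkMap_congr_hom (g ≫ f) (f'' ≫ h) w x
    rw [Scheme.Hom.stalkMap_comp, Scheme.Hom.stalkMap_comp] at this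
    exact this
  haveI : IsLocalHom c.hom.hom := isLocalHom_of_isIso c.hom
  haveI : IsLocalHom (h.stalkMap (f'' x)).hom := inferInstance
  refine ⟨(h.stalkMap (f'' x)).hom.comp c.hom.hom, RingHom.isLocalHom_comp _ _, ?_, ?_⟩
  · intro hs
    rw [RingHom.coe_comp]
    exact hs.comp c.commRingCatIsoToRingEquiv.surjective
  · have e2 := congrArg CommRingCat.Hom.hom e1
    rw [CommRingCat.hom_comp, CommRingCat.hom_comp, CommRingCat.hom_comp] at e2
    rw [e2, RingHom.comp_assoc]

section Field

variable (k : Type u) [Field k] [IsAlgClosed k] [CharZero k] {X Y : Scheme.{u}}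
  (qX : X ⟶ Spec (CommRingCat.of k)) (qY : Y ⟶ Spec (CommRingCat.of k))
  [LocallyOfFiniteType qX] [LocallyOfFiniteType qY]

/-- the elementary form of the rank condition at a point. -/
def RankLE (f : X ⟶ Y) (r : ℕ) (x : X) : Prop :=
  ∃ S₀ : Finset (CotangentSpace (X.presheaf.stalk x)), S₀.card ≤ r ∧
    ∀ (a : Y.presheaf.stalk (f x)) (ha : a ∈ maximalIdeal (Y.presheaf.stalk (f x))),
      (maximalIdeal (X.presheaf.stalk x)).toCotangent
        ⟨(f.stalkMap x).hom a, (IsLocalRing.maximalIdeal_comap (f.stalkMap x).hom).ge ha⟩ ∈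
        Submodule.span (ResidueField (X.presheaf.stalk x))
          (S₀ : Set (CotangentSpace (X.presheaf.stalk x)))

theorem dim_closure_image_le (f : X ⟶ Y) (hf : f ≫ qY = qX) (r : ℕ) (Sx : Set X)
    (hSx : ∀ x ∈ Sx, IsClosed ({x} : Set X) ∧ RankLE f r x)
    (C : Set X) (hC : IsIrreducible C) (hCc : IsClosed C) (hdense : C ⊆ closure (Sx ∩ C)) :
    topologicalKrullDim ↥(closure (f '' C)) ≤ r := by
  obtain ⟨X', ι', hι', hredX, hrangeX⟩ := Groth.Agent.H3.KleimanF.exists_reduced_closedImmersion C hCc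
  have hZirr : IsIrreducible (closure (f '' C)) :=
    (hC.image f f.continuous.continuousOn).closure
  obtain ⟨Y', h, hh, hredY, hrangeY⟩ :=
    Groth.Agent.H3.KleimanF.exists_reduced_closedImmersion (closure (f '' C)) isClosed_closure
  obtain ⟨hirrX, -⟩ := Groth.Agent.H3.KleimanF.irreducibleSpace_and_dim_of_range ι' C hrangeX hC
  obtain ⟨hirrY, hdimY⟩ := Groth.Agent.H3.KleimanF.irreducibleSpace_and_dim_of_range h _ hrangeY hZirr
  haveI : IsIntegral X' := isIntegral_of_irreducibleSpace_of_isReduced X'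
  haveI : IsIntegral Y' := isIntegral_of_irreducibleSpace_of_isReduced Y'
  -- the induced morphism
  have hsub : Set.range (ι' ≫ f) ⊆ Set.range h := by
    rw [hrangeY]
    rintro _ ⟨x', rfl⟩
    apply subset_closure
    refine ⟨ι' x', ?_, rfl⟩
    rw [← hrangeX]; exact ⟨x', rfl⟩
  obtain ⟨f', hf'⟩ := Groth.Agent.H8.RedImm.exists_lift_of_isImmersion_of_isReduced h (ι' ≫ f) hsub
  have hdom : DenseRange f'.base := by
    show Dense (Set.range f')
    rw [h.isClosedEmbedding.isInducing.dense_iff]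
    intro y'
    have h1 : h '' Set.range f' = f '' C := by
      rw [← Set.range_comp, ← hrangeX, ← Set.range_comp]
      have : (h ∘ f' : X' → Y) = (f ∘ ι' : X' → Y) := by
        funext z
        show (f' ≫ h) z = (ι' ≫ f) z
        rw [hf']
      rw [this]
    rw [h1, ← hrangeY]
    exact ⟨y', rfl⟩
  have hf'' : f' ≫ (h ≫ qY) = ι' ≫ qX := by
    rw [← Category.assoc, hf', Category.assoc, hf]
  obtain ⟨U', hU'ne, hsm⟩ := Groth.Agent.H5.GenSm.main k (ι' ≫ qX) (h ≫ qY) f' hf'' hdom
  -- a point of `Sx` in `U'`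
  obtain ⟨W, hWo, hWU⟩ := ι'.isClosedEmbedding.isInducing.isOpen_iff.mp U'.isOpen
  obtain ⟨u₀, hu₀⟩ := hU'ne
  have hu₀W : ι' u₀ ∈ W := by
    have : u₀ ∈ ι' ⁻¹' W := by rw [hWU]; exact hu₀
    exact this
  have hu₀C : ι' u₀ ∈ closure (Sx ∩ C) := hdense (by rw [← hrangeX]; exact ⟨u₀, rfl⟩)
  obtain ⟨x, hxW, hxS, hxC⟩ := mem_closure_iff.mp hu₀C W hWo hu₀W
  obtain ⟨x', hx'⟩ : x ∈ Set.range ι' := by rw [hrangeX]; exact hxC
  have hx'U : x' ∈ U' := by
    have : x' ∈ ι' ⁻¹' W := by show ι' x' ∈ W; rw [hx']; exact hxW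
    rw [hWU] at this
    exact this
  let x'' : (U' : Scheme.{u}) := ⟨x', hx'U⟩
  let g : (U' : Scheme.{u}) ⟶ X := U'.ι ≫ ι'
  let f₂ : (U' : Scheme.{u}) ⟶ Y' := U'.ι ≫ f'
  have hgx : g x'' = x := by
    show ι' (U'.ι x'') = x
    exact hx'
  have w : g ≫ f = f₂ ≫ h := by
    show (U'.ι ≫ ι') ≫ f = (U'.ι ≫ f') ≫ h
    rw [Category.assoc, Category.assoc, hf']
  have hfU : f₂ ≫ (h ≫ qY) = U'.ι ≫ ι' ≫ qX := by
    show (U'.ι ≫ f') ≫ (h ≫ qY) = _
    rw [Category.assoc, hf'']
  have hmem : g x'' ∈ Sx := hgx ▸ hxS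
  obtain ⟨hclx, S₀, hcard, hr⟩ := hSx (g x'') hmem
  have hcl : IsClosed ({x''} : Set (U' : Scheme.{u})) := by
    have hginj : Function.Injective g := by
      intro a b hab
      exact U'.ι.isOpenEmbedding.injective (ι'.isClosedEmbedding.injective hab)
    have : ({x''} : Set (U' : Scheme.{u})) = g ⁻¹' {g x''} := by
      ext z
      simp only [Set.mem_singleton_iff, Set.mem_preimage]
      exact ⟨fun hz => by rw [hz], fun hz => hginj hz⟩
    rw [this]
    exact hclx.preimage g.continuous
  haveI : Smooth f₂ := hsm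
  haveI : LocallyOfFinitePresentation f₂ := inferInstance
  have hres := residue_surj k (U'.ι ≫ ι' ≫ qX) (h ≫ qY) f₂ hfU x'' hcl
  have hsmst : (f₂.stalkMap x'').hom.FormallySmooth := by
    rw [← Scheme.Hom.mem_smoothLocus, Scheme.Hom.smoothLocus_eq_top]
    trivial
  have hinj := cotInj_of_formallySmooth_stalkMap k (U'.ι ≫ ι' ≫ qX) (h ≫ qY) f₂ hfU x'' hcl hsmst
  obtain ⟨π, hπloc, hπsurj, hsq⟩ := stalk_square g f f₂ h w x''
  haveI : IsLocallyNoetherian (U' : Scheme.{u}) :=
    LocallyOfFiniteType.isLocallyNoetherian (U'.ι ≫ ι' ≫ qX)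
  haveI : IsLocallyNoetherian Y' := LocallyOfFiniteType.isLocallyNoetherian (h ≫ qY)
  have hfin := finrank_cotangentSpace_le_of_square (f.stalkMap (g x'')).hom π (g.stalkMap x'').hom
    (f₂.stalkMap x'').hom hsq (hπsurj (h.stalkMap_surjective _)) hres hinj r S₀ hcard hr
  -- dimensions
  have hy' : IsClosed ({f₂ x''} : Set Y') :=
    isClosed_image k (U'.ι ≫ ι' ≫ qX) (h ≫ qY) f₂ hfU x'' hcl
  have hd1 : ringKrullDim (Y'.presheaf.stalk (f₂ x'')) = topologicalKrullDim Y' := by
    rw [← Groth.Agent.H1.DimFormula.localDim_eq_stalk_of_isClosed (h ≫ qY) (f₂ x'') hy',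
      Groth.Agent.H1.EquiDim.localDim_eq_dim (h ≫ qY) (f₂ x'')]
  have hd2 : ringKrullDim (Y'.presheaf.stalk (f₂ x'')) ≤
      (Module.finrank (ResidueField (Y'.presheaf.stalk (f₂ x'')))
        (CotangentSpace (Y'.presheaf.stalk (f₂ x''))) : WithBot ℕ∞) := by
    rw [← IsLocalRing.spanFinrank_maximalIdeal_eq_finrank_cotangentSpace]
    exact ringKrullDim_le_spanFinrank_maximalIdeal _
  rw [← hdimY, ← hd1]
  refine hd2.trans ?_
  exact_mod_cast hfin

theorem dim_union_le {T : Type*} [TopologicalSpace T] {A B : Set T} (hA : IsClosed A)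
    (hB : IsClosed B) (r : WithBot ℕ∞) (h1 : topologicalKrullDim ↥A ≤ r)
    (h2 : topologicalKrullDim ↥B ≤ r) : topologicalKrullDim ↥(A ∪ B) ≤ r := by
  refine (Groth.Agent.H3.TopDim.dim_le_iSup_of_subset_iUnion_closed (A ∪ B)
    (fun b : Bool => cond b A B) (fun b => by cases b <;> assumption) ?_).trans ?_
  · intro t ht
    rcases ht with ht | ht
    · exact Set.mem_iUnion.mpr ⟨true, ht⟩
    · exact Set.mem_iUnion.mpr ⟨false, ht⟩
  · apply iSup_le
    intro b
    cases b
    · exact (Groth.Agent.H3.TopDim.dim_mono Set.inter_subset_right).trans h2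
    · exact (Groth.Agent.H3.TopDim.dim_mono Set.inter_subset_right).trans h1

theorem dim_closure_image_inter_le [QuasiCompact qX] (f : X ⟶ Y) (hf : f ≫ qY = qX) (r : ℕ)
    (Sx : Set X) (hSx : ∀ x ∈ Sx, IsClosed ({x} : Set X) ∧ RankLE f r x)
    (F : TopologicalSpace.Closeds X) :
    topologicalKrullDim ↥(closure (f '' (Sx ∩ (F : Set X)))) ≤ r := by
  haveI : IsLocallyNoetherian X := LocallyOfFiniteType.isLocallyNoetherian qX
  haveI : CompactSpace X := QuasiCompact.compactSpace_of_compactSpace qX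
  haveI : IsNoetherian X := { }
  haveI : TopologicalSpace.NoetherianSpace X := inferInstance
  induction F using WellFoundedLT.induction with
  | ind F ih =>
  by_cases hFS : closure (Sx ∩ (F : Set X)) = (F : Set X)
  · by_cases hemp : (F : Set X) = ∅
    · rw [hemp, Set.inter_empty, Set.image_empty, closure_empty]
      haveI : IsEmpty (TopologicalSpace.IrreducibleCloseds ↥(∅ : Set Y)) :=
        ⟨fun V => by
          obtain ⟨t, -⟩ := V.isIrreducible.nonempty
          exact t.2.elim⟩
      unfold topologicalKrullDim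
      rw [Order.krullDim_eq_bot]
      exact bot_le
    · by_cases hirr : IsPreirreducible (F : Set X)
      · have hirr' : IsIrreducible (F : Set X) := ⟨Set.nonempty_iff_ne_empty.mpr hemp, hirr⟩
        refine (Groth.Agent.H3.TopDim.dim_mono (closure_mono (Set.image_mono
          Set.inter_subset_right))).trans ?_
        exact dim_closure_image_le k qX qY f hf r Sx hSx F hirr' F.isClosed hFS.ge
      · rw [isPreirreducible_iff_isClosed_union_isClosed] at hirr
        push Not at hirr
        obtain ⟨z₁, z₂, hz₁, hz₂, hsub, hn1, hn2⟩ := hirr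
        let F₁ : TopologicalSpace.Closeds X := ⟨(F : Set X) ∩ z₁, F.isClosed.inter hz₁⟩
        let F₂ : TopologicalSpace.Closeds X := ⟨(F : Set X) ∩ z₂, F.isClosed.inter hz₂⟩
        have hlt1 : F₁ < F := by
          refine lt_of_le_of_ne (fun t ht => ht.1) ?_
          intro heq
          apply hn1
          intro t ht
          have : t ∈ (F₁ : Set X) := by rw [heq]; exact ht
          exact this.2
        have hlt2 : F₂ < F := by
          refine lt_of_le_of_ne (fun t ht => ht.1) ?_
          intro heq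
          apply hn2
          intro t ht
          have : t ∈ (F₂ : Set X) := by rw [heq]; exact ht
          exact this.2
        have hunion : Sx ∩ (F : Set X) = (Sx ∩ (F₁ : Set X)) ∪ (Sx ∩ (F₂ : Set X)) := by
          ext t
          constructor
          · rintro ⟨h1, h2⟩
            rcases hsub h2 with h3 | h3
            · exact Or.inl ⟨h1, h2, h3⟩
            · exact Or.inr ⟨h1, h2, h3⟩
          · rintro (⟨h1, h2, -⟩ | ⟨h1, h2, -⟩) <;> exact ⟨h1, h2⟩
        rw [hunion, Set.image_union, closure_union]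
        exact dim_union_le isClosed_closure isClosed_closure _ (ih F₁ hlt1) (ih F₂ hlt2)
  · let F' : TopologicalSpace.Closeds X := ⟨closure (Sx ∩ (F : Set X)), isClosed_closure⟩
    have hle : (F' : Set X) ⊆ (F : Set X) :=
      closure_minimal Set.inter_subset_right F.isClosed
    have hlt : F' < F := by
      refine lt_of_le_of_ne hle ?_
      intro heq
      exact hFS (congrArg (fun G : TopologicalSpace.Closeds X => (G : Set X)) heq)
    refine (Groth.Agent.H3.TopDim.dim_mono (closure_mono (Set.image_mono ?_))).trans (ih F' hlt)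
    exact fun t ht => ⟨ht.1, subset_closure ht⟩

/-- **Hartshorne III.10.6.** -/
theorem dim_closure_image_rank_le [QuasiCompact qX] (f : X ⟶ Y) (hf : f ≫ qY = qX) (r : ℕ) :
    topologicalKrullDim ↥(closure (f '' {x : X | IsClosed ({x} : Set X) ∧
      ∃ S : Finset (CotangentSpace (X.presheaf.stalk x)), S.card ≤ r ∧
        (LinearMap.range (FixPt.cotangentMapAt f x (f x) rfl) :
            Set (CotangentSpace (X.presheaf.stalk x))) ⊆
          (Submodule.span (ResidueField (X.presheaf.stalk x))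
            (S : Set (CotangentSpace (X.presheaf.stalk x))) :
              Set (CotangentSpace (X.presheaf.stalk x)))})) ≤ r := by
  set Sx : Set X := {x : X | IsClosed ({x} : Set X) ∧
      ∃ S : Finset (CotangentSpace (X.presheaf.stalk x)), S.card ≤ r ∧
        (LinearMap.range (FixPt.cotangentMapAt f x (f x) rfl) :
            Set (CotangentSpace (X.presheaf.stalk x))) ⊆
          (Submodule.span (ResidueField (X.presheaf.stalk x))
            (S : Set (CotangentSpace (X.presheaf.stalk x))) :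
              Set (CotangentSpace (X.presheaf.stalk x)))} with hSxdef
  have hSx : ∀ x ∈ Sx, IsClosed ({x} : Set X) ∧ RankLE f r x := by
    rintro x ⟨hcl, S₀, hcard, hsub⟩
    refine ⟨hcl, S₀, hcard, fun a ha => ?_⟩
    have h1 := hsub ⟨(maximalIdeal (Y.presheaf.stalk (f x))).toCotangent ⟨a, ha⟩, rfl⟩
    have h2 : FixPt.cotangentMapAt f x (f x) rfl
        ((maximalIdeal (Y.presheaf.stalk (f x))).toCotangent ⟨a, ha⟩) =
        (maximalIdeal (X.presheaf.stalk x)).toCotangent ⟨FixPt.stalkMapAt f x (f x) rfl a,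
          FixPt.maximalIdeal_le_comap_stalkMapAt f x (f x) rfl ha⟩ := rfl
    rw [h2] at h1
    have h3 : (⟨FixPt.stalkMapAt f x (f x) rfl a,
        FixPt.maximalIdeal_le_comap_stalkMapAt f x (f x) rfl ha⟩ :
        maximalIdeal (X.presheaf.stalk x)) =
        ⟨(f.stalkMap x).hom a, (IsLocalRing.maximalIdeal_comap (f.stalkMap x).hom).ge ha⟩ :=
      Subtype.ext (congrFun (congrArg DFunLike.coe (stalkMapAt_rfl f x)) a)
    rw [h3] at h1
    exact h1
  have := dim_closure_image_inter_le k qX qY f hf r Sx hSx ⊤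
  rwa [TopologicalSpace.Closeds.coe_top, Set.inter_univ] at this

end Field

end Groth.Agent.H3.CotSm
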