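import Mathlib
import Groth.Agent.Lib.Helper3.CA.KaehlerReg

/-! Helper3: a local homomorphism `A → B` with `Ω_{B/A}` free of rank `n` and trivial residue
extension has closed fibre of embedding dimension `n`. -/

set_option autoImplicit false
universe u
open IsLocalRing TensorProduct

namespace Groth.Agent.H3.CotSm

set_option backward.isDefEq.respectTransparency false in
theorem exists_gens_of_free_kaehler {A B : Type u} [CommRing A] [CommRing B] [IsLocalRing A]
    [IsLocalRing B] [IsNoetherianRing B] [Algebra A B] [IsLocalHom (algebraMap A B)]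
    (hres : ∀ b : B, ∃ a : A, b - algebraMap A B a ∈ maximalIdeal B)
    [Module.Free B Ω[B⁄A]] (n : ℕ) (hn : Module.finrank B Ω[B⁄A] = n) :
    ∃ y : Fin n → B, maximalIdeal B =
      (maximalIdeal A).map (algebraMap A B) ⊔ Ideal.span (Set.range y) := by
  classical
  set I : Ideal B := (maximalIdeal A).map (algebraMap A B) with hI
  have hIle : I ≤ maximalIdeal B := IsLocalRing.map_maximalIdeal_le (algebraMap A B)
  let kA := ResidueField A
  let T := kA ⊗[A] B
  letI : Algebra B T := Algebra.TensorProduct.rightAlgebra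
  haveI : IsScalarTower A B T := IsScalarTower.of_algebraMap_eq' (by
    ext a
    show algebraMap A T a = (1 : kA) ⊗ₜ[A] (algebraMap A B a)
    rw [Algebra.algebraMap_eq_smul_one, Algebra.algebraMap_eq_smul_one (R := A) (A := B),
      TensorProduct.tmul_smul]
    rfl)
  let τ : B →+* T := algebraMap B T
  have hτ_apply : ∀ b : B, τ b = (1 : kA) ⊗ₜ[A] b := fun b => rfl
  have hτ : Function.Surjective τ := by
    intro t
    induction t using TensorProduct.induction_on with
    | zero => exact ⟨0, map_zero _⟩
    | tmul c b =>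
      obtain ⟨a, rfl⟩ := residue_surjective c
      refine ⟨a • b, ?_⟩
      rw [hτ_apply, TensorProduct.tmul_smul, TensorProduct.smul_tmul']
      congr 1
      show a • (1 : kA) = residue A a
      rw [Algebra.smul_def, mul_one]
      rfl
    | add x y hx hy =>
      obtain ⟨x', rfl⟩ := hx
      obtain ⟨y', rfl⟩ := hy
      exact ⟨x' + y', map_add _ _ _⟩
  have hker : RingHom.ker τ = I := by
    let e : (B ⧸ I) ≃+* T :=
      (Algebra.TensorProduct.quotIdealMapEquivQuotTensor B (maximalIdeal A)).toRingEquiv
    have h1 : τ = e.toRingHom.comp (Ideal.Quotient.mk I) := by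
      ext b
      rfl
    rw [h1, RingHom.ker_comp_of_injective (Ideal.Quotient.mk I) (f := e.toRingHom) e.injective,
      Ideal.mk_ker]
  haveI : IsNoetherianRing T := isNoetherianRing_of_surjective B T τ hτ
  have hmapm : (maximalIdeal B).map τ = maximalIdeal T :=
    IsLocalRing.map_maximalIdeal_of_surjective τ hτ
  -- the residue field of `T`
  have hresT : Function.Bijective (algebraMap kA (ResidueField T)) := by
    refine ⟨RingHom.injective _, fun z => ?_⟩
    obtain ⟨t, rfl⟩ := residue_surjective z
    obtain ⟨b, rfl⟩ := hτ t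
    obtain ⟨a, ha⟩ := hres b
    refine ⟨residue A a, ?_⟩
    rw [IsScalarTower.algebraMap_apply kA T (ResidueField T)]
    show residue T (algebraMap kA T (residue A a)) = residue T (τ b)
    have h2 : algebraMap kA T (residue A a) = τ (algebraMap A B a) := by
      rw [hτ_apply, Algebra.algebraMap_eq_smul_one (R := A) (A := B), TensorProduct.tmul_smul,
        Algebra.TensorProduct.algebraMap_apply, TensorProduct.smul_tmul']
      congr 1
      show _ = a • (1 : kA)
      rw [Algebra.smul_def, mul_one]
      rfl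
    rw [h2, ← sub_eq_zero, ← map_sub, ← map_sub, residue_eq_zero_iff, ← hmapm]
    refine Ideal.mem_map_of_mem τ ?_
    have : algebraMap A B a - b = -(b - algebraMap A B a) := by ring
    rw [this]
    exact neg_mem ha
  -- differentials of `T`
  let eΩ : T ⊗[B] Ω[B⁄A] ≃ₗ[T] Ω[T⁄kA] := KaehlerDifferential.tensorKaehlerEquiv A kA B T
  haveI : Module.Free T Ω[T⁄kA] := Module.Free.of_equiv eΩ
  have hfr : Module.finrank T Ω[T⁄kA] = n := by
    rw [← eΩ.finrank_eq, Module.finrank_baseChange, hn]
  have hcot := Groth.Agent.H3.KReg.finrank_cotangentSpace_eq kA T hresT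
  rw [hfr] at hcot
  have hspan : (maximalIdeal T).spanFinrank = n := by
    rw [IsLocalRing.spanFinrank_maximalIdeal_eq_finrank_cotangentSpace, hcot]
  obtain ⟨s, hs1, hs2⟩ := Submodule.FG.exists_span_finset_card_eq_spanFinrank
    (maximalIdeal T).fg_of_isNoetherianRing
  rw [hspan] at hs1
  let g : T → B := Function.surjInv hτ
  have hg : ∀ t, τ (g t) = t := Function.surjInv_eq hτ
  let y : Fin n → B := fun i => g ((s.equivFin.symm (Fin.cast hs1.symm i)).1)
  have hrange : τ '' Set.range y = (s : Set T) := by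
    ext t
    constructor
    · rintro ⟨_, ⟨i, rfl⟩, rfl⟩
      rw [hg]
      exact (s.equivFin.symm (Fin.cast hs1.symm i)).2
    · intro ht
      refine ⟨_, ⟨Fin.cast hs1 (s.equivFin ⟨t, ht⟩), rfl⟩, ?_⟩
      show τ (g ((s.equivFin.symm (Fin.cast hs1.symm (Fin.cast hs1 (s.equivFin ⟨t, ht⟩)))).1)) = t
      rw [hg]
      simp
  refine ⟨y, ?_⟩
  have h1 : (I ⊔ Ideal.span (Set.range y)).map τ = maximalIdeal T := by
    rw [Ideal.map_sup, Ideal.map_span, hrange, ← hker, (Ideal.map_eq_bot_iff_le_ker τ).mpr le_rfl,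
      bot_sup_eq]
    exact hs2
  have h2 := Ideal.comap_map_of_surjective τ hτ (I ⊔ Ideal.span (Set.range y))
  have h3 := Ideal.comap_map_of_surjective τ hτ (maximalIdeal B)
  rw [h1] at h2
  rw [hmapm, h2] at h3
  have hc : Ideal.comap τ ⊥ = I := hker
  rw [hc] at h3
  -- h3 : I ⊔ span y ⊔ I = m_B ⊔ I
  have h4 : maximalIdeal B ⊔ I = maximalIdeal B := sup_eq_left.mpr hIle
  have h5 : I ⊔ Ideal.span (Set.range y) ⊔ I = I ⊔ Ideal.span (Set.range y) :=
    sup_eq_left.mpr le_sup_left
  rw [h4, h5] at h3
  exact h3.symm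

end Groth.Agent.H3.CotSm
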