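import Mathlib
import Groth.Prelude.Def_OmAff
import Groth.Agent.Lib.Helper3.OmUnr2

set_option autoImplicit false
universe u
open AlgebraicGeometry CategoryTheory TopologicalSpace Opposite CategoryTheory.Limits TensorProduct

namespace Groth.Agent.H3.Om

open Groth.Agent.LD.QC

variable {X Y : Scheme.{u}} (f : X ⟶ Y) [QuasiSeparated f]

/-- **the stalk of `Ω_{X/Y}` at `x` vanishes iff the stalk map at `x` is formally unramified.** -/
theorem subsingleton_stalk_omega_iff_stalkMap (x : X) :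
    Subsingleton ((Omega.sheaf f).presheaf.stalk x) ↔ (f.stalkMap x).hom.FormallyUnramified := by
  obtain ⟨W, V, hW, hV, hxW, hWV⟩ := exists_chart f x
  have hfx : f x ∈ V := hWV hxW
  letI algAB : Algebra Γ(Y, V) Γ(X, W) := (f.appLE V W hWV).hom.toAlgebra
  letI algBT : Algebra Γ(X, W) (X.presheaf.stalk x) :=
    TopCat.Presheaf.algebra_section_stalk X.presheaf ⟨x, hxW⟩
  letI algAR : Algebra Γ(Y, V) (Y.presheaf.stalk (f x)) :=
    TopCat.Presheaf.algebra_section_stalk Y.presheaf ⟨f x, hfx⟩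
  letI algRT : Algebra (Y.presheaf.stalk (f x)) (X.presheaf.stalk x) :=
    (f.stalkMap x).hom.toAlgebra
  letI algAT : Algebra Γ(Y, V) (X.presheaf.stalk x) :=
    ((algebraMap Γ(X, W) (X.presheaf.stalk x)).comp (algebraMap Γ(Y, V) Γ(X, W))).toAlgebra
  haveI tw1 : IsScalarTower Γ(Y, V) Γ(X, W) (X.presheaf.stalk x) :=
    IsScalarTower.of_algebraMap_eq' rfl
  haveI tw2 : IsScalarTower Γ(Y, V) (Y.presheaf.stalk (f x)) (X.presheaf.stalk x) := by
    refine IsScalarTower.of_algebraMap_eq' ?_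
    ext a
    change X.presheaf.germ W x hxW ((f.appLE V W hWV).hom a) =
      (f.stalkMap x).hom (Y.presheaf.germ V (f x) hfx a)
    have h1 := Scheme.Hom.germ_stalkMap_apply f V x hfx a
    rw [h1, Scheme.Hom.appLE]
    exact TopCat.Presheaf.germ_res_apply X.presheaf (homOfLE hWV) x hxW _
  haveI locT := hW.isLocalization_stalk ⟨x, hxW⟩
  haveI locR := hV.isLocalization_stalk ⟨f x, hfx⟩
  obtain ⟨ε, -⟩ := exists_linearEquiv_kaehler f hW hV hWV
  have s1 : Subsingleton ((Omega.sheaf f).presheaf.stalk x) ↔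
      hW.primeIdealOf ⟨x, hxW⟩ ∉ Module.support Γ(X, W) (Ω[Γ(X, W)⁄Γ(Y, V)]) := by
    rw [ε.support_eq, mem_support_iff_not_subsingleton_stalk (Omega.sheaf f) hW x hxW, not_not]
  have s2 : hW.primeIdealOf ⟨x, hxW⟩ ∉ Module.support Γ(X, W) (Ω[Γ(X, W)⁄Γ(Y, V)]) ↔
      Subsingleton (Ω[X.presheaf.stalk x⁄Γ(Y, V)]) := by
    rw [Module.mem_support_iff, not_nontrivial_iff_subsingleton]
    exact (IsLocalizedModule.iso (hW.primeIdealOf ⟨x, hxW⟩).asIdeal.primeCompl
      (KaehlerDifferential.map Γ(Y, V) Γ(Y, V) Γ(X, W) (X.presheaf.stalk x))).toEquiv.subsingleton_congr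
  have s3 : Subsingleton (Ω[X.presheaf.stalk x⁄Γ(Y, V)]) ↔
      Algebra.FormallyUnramified Γ(Y, V) (X.presheaf.stalk x) :=
    ⟨fun h => ⟨h⟩, fun h => h.subsingleton_kaehlerDifferential⟩
  have s4 : Algebra.FormallyUnramified Γ(Y, V) (X.presheaf.stalk x) ↔
      Algebra.FormallyUnramified (Y.presheaf.stalk (f x)) (X.presheaf.stalk x) := by
    constructor
    · intro h
      exact Algebra.FormallyUnramified.of_restrictScalars Γ(Y, V) _ _
    · intro h
      haveI : Algebra.FormallyUnramified Γ(Y, V) (Y.presheaf.stalk (f x)) :=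
        Algebra.FormallyUnramified.of_isLocalization
          (hV.primeIdealOf ⟨f x, hfx⟩).asIdeal.primeCompl
      exact Algebra.FormallyUnramified.comp Γ(Y, V) (Y.presheaf.stalk (f x)) _
  rw [s1, s2, s3, s4, ← RingHom.formallyUnramified_algebraMap, RingHom.algebraMap_toAlgebra]

end Groth.Agent.H3.Om
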