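import Mathlib
import Groth.Prelude.Def_Omega2
import Groth.Prelude.Def_FlatMod2
import Groth.Agent.Lib.Helper3.CotSmSch
import Groth.Agent.Lib.Helper3.CotSmOmAlg
import Groth.Agent.Lib.Helper3.OmStalk
import Groth.Agent.Lib.Helper3.OmSm3
import Groth.Agent.Lib.Helper3.OmU3
import Groth.Agent.Lib.Helper1.DimFormula3
import Groth.Agent.Lib.Helper1.EquiDim
import Groth.Agent.Lib.Lead.QC.LocFree

/-! Helper3: smooth of relative dimension `n` iff `Ω_{X/Y}` locally free of rank `n`, for
morphisms of smooth varieties over an algebraically closed field (Hartshorne III.10.4 (a)⇔(b)). -/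

set_option autoImplicit false
universe u
open AlgebraicGeometry CategoryTheory CategoryTheory.Limits IsLocalRing TensorProduct

namespace Groth.Agent.H3.CotSm

open Groth.Agent.H3.Om Groth.Agent.LD.QC

/-- if `Ω_{X/Y}` is locally free of rank `n`, the module of differentials of the local rings
is free of rank `n`. -/
theorem free_kaehler_stalk {X Y : Scheme.{u}} (f : X ⟶ Y) [QuasiSeparated f] (n : ℕ)
    (h : FlatMod.IsFinLocFreeOfRank n (Omega.sheaf f)) (x : X) :
    letI := (f.stalkMap x).hom.toAlgebra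
    Module.Free (X.presheaf.stalk x) Ω[X.presheaf.stalk x⁄Y.presheaf.stalk (f x)] ∧
      Module.finrank (X.presheaf.stalk x) Ω[X.presheaf.stalk x⁄Y.presheaf.stalk (f x)] = n := by
  obtain ⟨W₀, hxW₀, ⟨e₀⟩⟩ := h x
  obtain ⟨V, hV, hfxV, -⟩ := exists_isAffineOpen_mem_and_subset (x := f x) (U := ⊤) trivial
  obtain ⟨W, hW, hxW, hWle⟩ := exists_isAffineOpen_mem_and_subset (x := x)
    (U := W₀ ⊓ f ⁻¹ᵁ V) ⟨hxW₀, hfxV⟩
  have hWV : W ≤ f ⁻¹ᵁ V := fun z hz => (hWle hz).2
  have hr : Set.range hW.fromSpec ⊆ Set.range W₀.ι := by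
    rw [hW.range_fromSpec, Scheme.Opens.range_ι]
    exact fun z hz => (hWle hz).1
  obtain ⟨e₁⟩ := freeMod_of_range_subset (Omega.sheaf f) W₀.ι hW.fromSpec hr n e₀
  obtain ⟨ℓ⟩ := (restrict_fromSpec_iso_freeMod_iff (Omega.sheaf f) hW n).mp ⟨e₁⟩
  have hfx : f x ∈ V := hWV hxW
  letI algAB : Algebra Γ(Y, V) Γ(X, W) := (f.appLE V W hWV).hom.toAlgebra
  letI algBT : Algebra Γ(X, W) (X.presheaf.stalk x) :=
    TopCat.Presheaf.algebra_section_stalk X.presheaf ⟨x, hxW⟩
  letI algAR : Algebra Γ(Y, V) (Y.presheaf.stalk (f x)) :=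
    TopCat.Presheaf.algebra_section_stalk Y.presheaf ⟨f x, hfx⟩
  letI algRT : Algebra (Y.presheaf.stalk (f x)) (X.presheaf.stalk x) :=
    (f.stalkMap x).hom.toAlgebra
  letI algAT : Algebra Γ(Y, V) (X.presheaf.stalk x) :=
    ((algebraMap Γ(X, W) (X.presheaf.stalk x)).comp (algebraMap Γ(Y, V) Γ(X, W))).toAlgebra
  haveI tw1 : IsScalarTower Γ(Y, V) Γ(X, W) (X.presheaf.stalk x) :=
    IsScalarTower.of_algebraMap_eq' rfl
  haveI tw2 : IsScalarTower Γ(Y, V) (Y.presheaf.stalk (f x)) (X.presheaf.stalk x) := by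
    refine IsScalarTower.of_algebraMap_eq' ?_
    ext a
    change X.presheaf.germ W x hxW ((f.appLE V W hWV).hom a) =
      (f.stalkMap x).hom (Y.presheaf.germ V (f x) hfx a)
    have h1 := Scheme.Hom.germ_stalkMap_apply f V x hfx a
    rw [h1, Scheme.Hom.appLE]
    exact TopCat.Presheaf.germ_res_apply X.presheaf (homOfLE hWV) x hxW _
  haveI locT := hW.isLocalization_stalk ⟨x, hxW⟩
  haveI locR := hV.isLocalization_stalk ⟨f x, hfx⟩
  obtain ⟨ε, -⟩ := exists_linearEquiv_kaehler f hW hV hWV
  haveI : Nonempty W := ⟨⟨x, hxW⟩⟩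
  haveI : Nontrivial Γ(X, W) := Scheme.component_nontrivial X W
  -- sections
  haveI hfree0 : Module.Free Γ(X, W) (Ω[Γ(X, W)⁄Γ(Y, V)]) :=
    Module.Free.of_equiv (ε.trans ℓ).symm
  have hrank0 : Module.finrank Γ(X, W) (Ω[Γ(X, W)⁄Γ(Y, V)]) = n := by
    rw [(ε.trans ℓ).finrank_eq, Module.finrank_fin_fun]
  -- localize
  have hfree1 : Module.Free (X.presheaf.stalk x) (Ω[X.presheaf.stalk x⁄Γ(Y, V)]) :=
    Module.free_of_isLocalizedModule (hW.primeIdealOf ⟨x, hxW⟩).asIdeal.primeCompl
      (KaehlerDifferential.map Γ(Y, V) Γ(Y, V) Γ(X, W) (X.presheaf.stalk x))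
  have hrank1 : Module.finrank (X.presheaf.stalk x) (Ω[X.presheaf.stalk x⁄Γ(Y, V)]) = n := by
    rw [Module.finrank_of_isLocalizedModule_of_free (X.presheaf.stalk x)
      (hW.primeIdealOf ⟨x, hxW⟩).asIdeal.primeCompl
      (KaehlerDifferential.map Γ(Y, V) Γ(Y, V) Γ(X, W) (X.presheaf.stalk x)), hrank0]
  -- change the base
  haveI : Algebra.FormallyUnramified Γ(Y, V) (Y.presheaf.stalk (f x)) :=
    Algebra.FormallyUnramified.of_isLocalization
      (hV.primeIdealOf ⟨f x, hfx⟩).asIdeal.primeCompl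
  haveI : Subsingleton (Ω[Y.presheaf.stalk (f x)⁄Γ(Y, V)]) :=
    Algebra.FormallyUnramified.subsingleton_kaehlerDifferential
  let m := KaehlerDifferential.map Γ(Y, V) (Y.presheaf.stalk (f x)) (X.presheaf.stalk x)
    (X.presheaf.stalk x)
  have hm_surj : Function.Surjective m := KaehlerDifferential.map_surjective _ _ _
  have hm_inj : Function.Injective m := by
    rw [injective_iff_map_eq_zero]
    intro z hz
    obtain ⟨w, rfl⟩ := (KaehlerDifferential.exact_mapBaseChange_map Γ(Y, V)
      (Y.presheaf.stalk (f x)) (X.presheaf.stalk x) z).mp hz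
    rw [Subsingleton.elim w 0, map_zero]
  let em : Ω[X.presheaf.stalk x⁄Γ(Y, V)] ≃ₗ[X.presheaf.stalk x]
      Ω[X.presheaf.stalk x⁄Y.presheaf.stalk (f x)] := LinearEquiv.ofBijective m ⟨hm_inj, hm_surj⟩
  exact ⟨Module.Free.of_equiv em, by rw [← em.finrank_eq, hrank1]⟩

section Field

variable (k : Type u) [Field k] [IsAlgClosed k] {X Y : Scheme.{u}}
  (qX : X ⟶ Spec (CommRingCat.of k)) (qY : Y ⟶ Spec (CommRingCat.of k))
  [LocallyOfFiniteType qX] [LocallyOfFiniteType qY]

/-- flat with regular closed fibre at a closed point implies smooth there. -/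
theorem formallySmooth_stalkMap_of_flat_of_regular (f : X ⟶ Y)
    (hf : f ≫ qY = qX) (x : X) (hx : IsClosed ({x} : Set X))
    (hflat : (f.stalkMap x).hom.Flat)
    (hreg : IsRegularLocalRing (X.presheaf.stalk x ⧸
      (maximalIdeal (Y.presheaf.stalk (f x))).map (f.stalkMap x).hom)) :
    (f.stalkMap x).hom.FormallySmooth := by
  haveI : IsLocallyNoetherian Y := LocallyOfFiniteType.isLocallyNoetherian qY
  haveI : LocallyOfFiniteType f := by
    have : LocallyOfFiniteType (f ≫ qY) := hf ▸ inferInstance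
    exact locallyOfFiniteType_of_comp f qY
  haveI : LocallyOfFinitePresentation f := inferInstance
  have hy : IsClosed ({f x} : Set Y) := isClosed_image k qX qY f hf x hx
  haveI : PerfectField (Y.residueField (f x)) := perfectField_residueField k qY (f x) hy
  haveI : LocallyOfFinitePresentation (f.fiberToSpecResidueField (f x)) :=
    inferInstanceAs (LocallyOfFinitePresentation (pullback.snd f (Y.fromSpecResidueField (f x))))
  have hregF : IsRegularLocalRing ((f.fiber (f x)).presheaf.stalk (f.asFiber x)) :=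
    IsRegularLocalRing.of_ringEquiv (Groth.Agent.H1.FibreStalk.fiberStalkEquiv f x)
  have hz := Groth.Agent.H1.SmoothReg.mem_smoothLocus_of_isRegularLocalRing
    (Y.residueField (f x)) (f.fiberToSpecResidueField (f x)) (f.asFiber x) hregF
  exact Scheme.Hom.mem_smoothLocus.mp
    ((H5.DF.mem_smoothLocus_iff_fiber f x (f x) rfl (f.asFiber x) (f.fiberι_asFiber x)).mpr
      ⟨hflat, hz⟩)

/-- **Hartshorne III.10.4 (a) ⇔ (b).** -/
theorem smoothOfRelativeDimension_iff_omega [Smooth qX] [Smooth qY] [IsIntegral X] [IsIntegral Y]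
    (f : X ⟶ Y) [QuasiSeparated f] (hf : f ≫ qY = qX) (n dY : ℕ)
    (hY : topologicalKrullDim Y = dY)
    (hX : topologicalKrullDim X = ((dY + n : ℕ) : WithBot ℕ∞)) :
    SmoothOfRelativeDimension n f ↔ FlatMod.IsFinLocFreeOfRank n (Omega.sheaf f) := by
  haveI : IsLocallyNoetherian Y := LocallyOfFiniteType.isLocallyNoetherian qY
  haveI : LocallyOfFiniteType f := by
    have : LocallyOfFiniteType (f ≫ qY) := hf ▸ inferInstance
    exact locallyOfFiniteType_of_comp f qY
  haveI : LocallyOfFinitePresentation f := inferInstance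
  constructor
  · intro hsm x
    haveI : Smooth f := SmoothOfRelativeDimension.smooth n f
    obtain ⟨U, m, hxU, hiso, hdim⟩ := exists_free_of_smooth (isUniversal_dOmega f) x
    rw [Groth.Agent.H1.SmoothDim.fibreDimAt_of_smoothOfRelativeDimension n f x] at hdim
    have hmn : n = m := by exact_mod_cast hdim
    subst hmn
    exact ⟨U, hxU, hiso⟩
  · intro h
    haveI : JacobsonSpace X := LocallyOfFiniteType.jacobsonSpace qX
    have hpt : ∀ x : X, IsClosed ({x} : Set X) → (f.stalkMap x).hom.FormallySmooth := by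
      intro x hx
      have hy : IsClosed ({f x} : Set Y) := isClosed_image k qX qY f hf x hx
      haveI hA : IsRegularLocalRing (Y.presheaf.stalk (f x)) :=
        Groth.Agent.H1.SmoothDepth.isRegularLocalRing_stalk_of_smooth k qY (f x)
      haveI hB : IsRegularLocalRing (X.presheaf.stalk x) :=
        Groth.Agent.H1.SmoothDepth.isRegularLocalRing_stalk_of_smooth k qX x
      have hres := residue_surj k qX qY f hf x hx
      obtain ⟨hfree, hrank⟩ := free_kaehler_stalk f n h x
      -- dimensions of the local rings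
      have hdB : ringKrullDim (X.presheaf.stalk x) = ((dY + n : ℕ) : WithBot ℕ∞) := by
        rw [← Groth.Agent.H1.DimFormula.localDim_eq_stalk_of_isClosed qX x hx,
          Groth.Agent.H1.EquiDim.localDim_eq_dim qX x, hX]
      have hdA : ringKrullDim (Y.presheaf.stalk (f x)) = (dY : WithBot ℕ∞) := by
        rw [← Groth.Agent.H1.DimFormula.localDim_eq_stalk_of_isClosed qY (f x) hy,
          Groth.Agent.H1.EquiDim.localDim_eq_dim qY (f x), hY]
      letI := (f.stalkMap x).hom.toAlgebra
      haveI : IsLocalHom (algebraMap (Y.presheaf.stalk (f x)) (X.presheaf.stalk x)) :=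
        (inferInstance : IsLocalHom (f.stalkMap x).hom)
      obtain ⟨y, hy'⟩ := exists_gens_of_free_kaehler
        (A := Y.presheaf.stalk (f x)) (B := X.presheaf.stalk x) hres n hrank
      have hdim : ringKrullDim (Y.presheaf.stalk (f x)) + (n : WithBot ℕ∞) ≤
          ringKrullDim (X.presheaf.stalk x) := by
        rw [hdA, hdB]; push_cast; exact le_rfl
      obtain ⟨hflat, hloc, hreg, -⟩ := Groth.Agent.H5.FSm.flat_of_regular_of_dim y hy' hdim
      exact formallySmooth_stalkMap_of_flat_of_regular k qX qY f hf x hx hflat hreg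
    haveI : Smooth f := by
      rw [← Scheme.Hom.smoothLocus_eq_top_iff]
      by_contra hne
      have hne' : ((f.smoothLocus : Set X)ᶜ).Nonempty := by
        rw [Set.nonempty_compl]
        intro h2
        exact hne (TopologicalSpace.Opens.ext h2)
      obtain ⟨x, hx1, hx2⟩ := nonempty_inter_closedPoints hne'
        (f.smoothLocus.isOpen.isClosed_compl.isLocallyClosed)
      exact hx1 (Scheme.Hom.mem_smoothLocus.mpr (hpt x hx2))
    exact smoothOfRelativeDimension_of_fibreDimAt f n
      (fibreDimAt_eq_of_dim k qX qY f hf n dY hY hX)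

end Field

end Groth.Agent.H3.CotSm
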