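import Mathlib
import Groth.Agent.Lib.Helper3.RepSlice

/-!
# Covering functors over a site: composition and base change (helper3)
-/

set_option autoImplicit false
universe v₄ u₄ v₃ u₃ v₂ u₂ v u
open CategoryTheory CategoryTheory.Functor CategoryTheory.Limits

noncomputable section

namespace Groth.Agent.H3.CoverFun

open Groth.Agent.H3.FibCatAux Groth.Agent.H3.FpCalc Groth.Agent.H3.TwoCart Groth.Agent.H3.Whisker
  Groth.Agent.H3.RepSlice

variable {C : Type u} [Category.{v} C]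

/-- the composite of the functors of slices is the functor of the composite -/
def sliceMapComp {W V U : C} (g : W ⟶ V) (f : V ⟶ U) :
    BasedFunctor.comp (sliceMap g) (sliceMap f) ≅ sliceMap (g ≫ f) :=
  BasedNatIso.mkNatIso
    (NatIso.ofComponents
      (fun a => Over.isoMk (Iso.refl a.left) (by
        show 𝟙 _ ≫ a.hom ≫ g ≫ f = (a.hom ≫ g) ≫ f
        rw [Category.id_comp, Category.assoc]))
      (by
        intro a b φ
        apply Over.OverMorphism.ext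
        show φ.left ≫ 𝟙 _ = 𝟙 _ ≫ φ.left
        rw [Category.comp_id, Category.id_comp]))
    (by
      intro a
      exact isHomLift_of_left_eq _ rfl rfl rfl)

variable (J : GrothendieckTopology C) {𝒳 : BasedCategory.{v₂, u₂} C} {𝒴 : BasedCategory.{v₃, u₃} C}
  {𝒵 : BasedCategory.{v₄, u₄} C}

/-- locally on the base every object of the target lifts to the source, up to isomorphism -/
def IsCovering (H : 𝒳 ⥤ᵇ 𝒴) : Prop :=
  ∀ (U : C) (y : FibCat.overCat U ⥤ᵇ 𝒴), ∃ R ∈ J U, ∀ ⦃V : C⦄ (h : V ⟶ U), R.arrows h →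
    ∃ x : FibCat.overCat V ⥤ᵇ 𝒳,
      Nonempty (BasedFunctor.comp x H ≅ BasedFunctor.comp (sliceMap h) y)

theorem isCovering_comp (F : 𝒳 ⥤ᵇ 𝒴) (G : 𝒴 ⥤ᵇ 𝒵) (hF : IsCovering J F) (hG : IsCovering J G) :
    IsCovering J (BasedFunctor.comp F G) := by
  intro U y
  obtain ⟨R, hR, hloc⟩ := hG U y
  choose x hx using hloc
  have hF' : ∀ ⦃V : C⦄ (h : V ⟶ U) (hh : R.arrows h), ∃ R' ∈ J V, ∀ ⦃W : C⦄ (k : W ⟶ V),
      R'.arrows k → ∃ x' : FibCat.overCat W ⥤ᵇ 𝒳,
        Nonempty (BasedFunctor.comp x' F ≅ BasedFunctor.comp (sliceMap k) (x h hh)) :=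
    fun V h hh => hF V (x h hh)
  choose R' hR' hloc' using hF'
  refine ⟨Sieve.bind R.arrows (fun V h hh => R' h hh), J.bind_covering hR (fun V h hh => hR' h hh),
    ?_⟩
  rintro W k ⟨V, g, f, hf, hg, rfl⟩
  obtain ⟨x', ⟨ι'⟩⟩ := hloc' f hf g hg
  obtain ⟨ι⟩ := hx f hf
  refine ⟨x', ⟨?_⟩⟩
  let e1 : BasedFunctor.comp x' (BasedFunctor.comp F G) ≅
      BasedFunctor.comp (sliceMap g) (BasedFunctor.comp (x f hf) G) := whiskerR ι' G
  let e2 : BasedFunctor.comp (sliceMap g) (BasedFunctor.comp (x f hf) G) ≅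
      BasedFunctor.comp (BasedFunctor.comp (sliceMap g) (sliceMap f)) y := whiskerL (sliceMap g) ι
  exact e1 ≪≫ e2 ≪≫ whiskerR (sliceMapComp g f) y

theorem isCovering_fpFst (F : 𝒳 ⥤ᵇ 𝒴) (G : 𝒵 ⥤ᵇ 𝒴) (hF : IsCovering J F) :
    IsCovering J (FibCat.fpFst G F) := by
  intro U y
  obtain ⟨R, hR, hloc⟩ := hF U (BasedFunctor.comp y G)
  refine ⟨R, hR, fun V h hh => ?_⟩
  obtain ⟨x, ⟨ι⟩⟩ := hloc h hh
  let e : BasedFunctor.comp (BasedFunctor.comp (sliceMap h) y) G ≅ BasedFunctor.comp x F := ι.symm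
  refine ⟨FibCat.fpLift (BasedFunctor.comp (sliceMap h) y) x e, ⟨?_⟩⟩
  exact Iso.refl _

end Groth.Agent.H3.CoverFun
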