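import Mathlib
import Groth.Agent.Lib.Helper3.JacLocus
import Groth.Agent.Lib.Helper1.SmoothReg
import Groth.Agent.Lib.Helper1.SmoothDim
import Groth.Agent.Lib.Helper1.DimFormula4
import Groth.Agent.Lib.Helper1.FibDimTot
import Groth.Agent.Lib.Helper7.Reg1

/-! Helper3: the Jacobian criterion of smoothness over a field in terms of the dimension:
if `Ω_{X/K}` is generated by `d` elements at `x` and `dim_x X ≥ d`, then `X` is smooth at `x`. -/

set_option autoImplicit false
universe u
open AlgebraicGeometry CategoryTheory CategoryTheory.Limits IsLocalRing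

namespace Groth.Agent.H3.JacSmooth

/-- a surjection from a domain of finite dimension onto a ring of at least the same dimension is
injective. -/
theorem injective_of_ringKrullDim_le {R S : Type u} [CommRing R] [IsDomain R] [CommRing S]
    (φ : R →+* S) (hφ : Function.Surjective φ) (n : ℕ) (hn : ringKrullDim R = n)
    (hle : ringKrullDim R ≤ ringKrullDim S) : Function.Injective φ := by
  rw [injective_iff_map_eq_zero]
  intro r hr
  by_contra hr0
  have hnzd : r ∈ nonZeroDivisors R := mem_nonZeroDivisors_of_ne_zero hr0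
  have h1 := ringKrullDim_quotient_succ_le_of_nonZeroDivisor hnzd
  have hker : Ideal.span {r} ≤ RingHom.ker φ := by
    rw [Ideal.span_le]
    intro a ha
    rw [Set.mem_singleton_iff] at ha
    rw [ha]
    exact hr
  have h2 : ringKrullDim S ≤ ringKrullDim (R ⧸ Ideal.span {r}) :=
    ringKrullDim_le_of_surjective (Ideal.Quotient.lift (Ideal.span {r}) φ (fun a ha => hker ha))
      (Ideal.Quotient.lift_surjective_of_surjective _ _ hφ)
  rw [hn] at h1 hle
  have h3 : ringKrullDim S + 1 ≤ (n : WithBot ℕ∞) := (add_le_add_left h2 1).trans h1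
  generalize ringKrullDim S = s at h3 hle
  induction s using WithBot.recBotCoe with
  | bot => exact absurd hle (by simp)
  | coe s =>
    induction s using ENat.recTopCoe with
    | top =>
      have h8 : (((⊤ : ℕ∞) + 1 : ℕ∞) : WithBot ℕ∞) ≤ ((n : ℕ∞) : WithBot ℕ∞) := by
        exact_mod_cast h3
      rw [WithBot.coe_le_coe, top_add] at h8
      exact absurd h8 (by simp)
    | coe m =>
      have h4 : (n : WithBot ℕ∞) ≤ (m : WithBot ℕ∞) := hle
      have h5 : ((m + 1 : ℕ) : WithBot ℕ∞) ≤ (n : WithBot ℕ∞) := by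
        simpa using h3
      have h6 : n ≤ m := by exact_mod_cast h4
      have h7 : m + 1 ≤ n := by exact_mod_cast h5
      omega


/-- formal smoothness of the stalk map only depends on the morphism. -/
theorem formallySmooth_stalkMap_congr {X Y : Scheme.{u}} {φ ψ : X ⟶ Y} (e : φ = ψ) (x : X)
    (h : (φ.stalkMap x).hom.FormallySmooth) : (ψ.stalkMap x).hom.FormallySmooth := by
  subst e
  exact h

/-- cancelling a natural number in `WithBot ℕ∞`. -/
theorem le_of_add_natCast_le (n t : ℕ) (s : WithBot ℕ∞)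
    (h : ((n : ℕ) : WithBot ℕ∞) + (t : WithBot ℕ∞) ≤ s + (t : WithBot ℕ∞)) :
    ((n : ℕ) : WithBot ℕ∞) ≤ s := by
  induction s using WithBot.recBotCoe with
  | bot =>
    rw [WithBot.bot_add] at h
    have h' : (((n + t : ℕ) : ℕ∞) : WithBot ℕ∞) ≤ ⊥ := by
      simp at h
    exact absurd h' (by simp)
  | coe s =>
    induction s using ENat.recTopCoe with
    | top => exact_mod_cast le_top
    | coe m =>
      have h5 : ((n + t : ℕ) : WithBot ℕ∞) ≤ ((m + t : ℕ) : WithBot ℕ∞) := by
        simpa using h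
      have h6 : n + t ≤ m + t := by exact_mod_cast h5
      have h7 : n ≤ m := by omega
      exact_mod_cast h7

/-- **Jacobian criterion via dimensions** (over a field): if `Ω_{X/K}` is generated by `d`
elements near `x` and `d ≤ dim_x X`, then `X` is smooth over `K` at `x`. -/
theorem mem_smoothLocus_of_not_mem_fitt (K : Type u) [Field K] {X : Scheme.{u}}
    (h : X ⟶ Spec (CommRingCat.of K)) [LocallyOfFinitePresentation h] (d : ℕ) (x : X)
    (hx : x ∉ (Fitt.sheafIdeal (Omega.sheaf h) d).support)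
    (hd : (d : WithBot ℕ∞) ≤ FlatMor.localDim X x) : x ∈ h.smoothLocus := by
  haveI : LocallyOfFiniteType h := inferInstance
  haveI : IsLocallyNoetherian X := LocallyOfFiniteType.isLocallyNoetherian h
  haveI : QuasiSeparated h := QuasiSeparated.of_quasiSeparatedSpace h
  obtain ⟨U, U', i, g, hxU, hi, hg, comm⟩ :=
    Groth.Agent.H3.JacLocus.exists_closedImmersion_of_not_mem h d x hx
  haveI : Smooth g := SmoothOfRelativeDimension.smooth d g
  haveI : LocallyOfFinitePresentation g := inferInstance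
  haveI : LocallyOfFiniteType g := inferInstance
  haveI : LocallyOfFiniteType (i ≫ g) := inferInstance
  -- local dimensions
  have h1 : FlatMor.localDim U' (i ⟨x, hxU⟩) = d := by
    rw [← Groth.Agent.H1.DimFormula.fibreDimAt_eq_localDim_of_field g (i ⟨x, hxU⟩)]
    exact Groth.Agent.H1.SmoothDim.fibreDimAt_of_smoothOfRelativeDimension d g _
  have h2 : FlatMor.localDim U ⟨x, hxU⟩ = FlatMor.localDim X x :=
    Groth.Agent.H1.DimFormula.localDim_eq_of_isOpenEmbedding U.ι.isOpenEmbedding ⟨x, hxU⟩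
  obtain ⟨t', ht', e'⟩ :=
    Groth.Agent.H1.DimFormula.exists_localDim_eq_stalk_add_trdeg g (i ⟨x, hxU⟩)
  obtain ⟨t, ht, e⟩ :=
    Groth.Agent.H1.DimFormula.exists_localDim_eq_stalk_add_trdeg (i ≫ g) ⟨x, hxU⟩
  have htt : t = t' := by
    have hadd := Groth.Agent.H1.FibDimTot.trdeg_residueField_add g i ⟨x, hxU⟩
    have hz : @Algebra.trdeg (U'.residueField (i ⟨x, hxU⟩)) (U.toScheme.residueField ⟨x, hxU⟩) _ _
        (i.residueFieldMap ⟨x, hxU⟩).hom.toAlgebra = 0 := by
      letI := (i.residueFieldMap ⟨x, hxU⟩).hom.toAlgebra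
      have hsurj : Function.Surjective (algebraMap (U'.residueField (i ⟨x, hxU⟩))
          (U.toScheme.residueField ⟨x, hxU⟩)) := by
        intro z
        obtain ⟨s, rfl⟩ := U.toScheme.residue_surjective ⟨x, hxU⟩ z
        obtain ⟨s', rfl⟩ := i.stalkMap_surjective ⟨x, hxU⟩ s
        refine ⟨(U'.residue (i ⟨x, hxU⟩)).hom s', ?_⟩
        exact congr($(Scheme.residue_residueFieldMap i ⟨x, hxU⟩).hom s')
      haveI : Algebra.IsIntegral (U'.residueField (i ⟨x, hxU⟩))
          (U.toScheme.residueField ⟨x, hxU⟩) := Algebra.isIntegral_of_surjective hsurj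
      exact _root_.trdeg_eq_zero
    rw [hz, add_zero, ht', ht] at hadd
    exact_mod_cast hadd.symm
  subst htt
  -- regularity
  have hsm : i ⟨x, hxU⟩ ∈ g.smoothLocus := by rw [g.smoothLocus_eq_top]; trivial
  haveI hreg : IsRegularLocalRing (U'.presheaf.stalk (i ⟨x, hxU⟩)) :=
    Groth.Agent.H1.SmoothReg.isRegularLocalRing_of_mem_smoothLocus K g _ hsm
  haveI : IsDomain (U'.presheaf.stalk (i ⟨x, hxU⟩)) := Groth.Agent.H7.Reg.isDomain _
  have hn : ringKrullDim (U'.presheaf.stalk (i ⟨x, hxU⟩)) =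
      ((maximalIdeal (U'.presheaf.stalk (i ⟨x, hxU⟩))).spanFinrank : ℕ) :=
    (IsRegularLocalRing.spanFinrank_maximalIdeal
      (R := U'.presheaf.stalk (i ⟨x, hxU⟩))).symm
  have hdim : ringKrullDim (U'.presheaf.stalk (i ⟨x, hxU⟩)) ≤
      ringKrullDim (U.toScheme.presheaf.stalk ⟨x, hxU⟩) := by
    rw [hn]
    apply le_of_add_natCast_le _ t
    rw [← hn, ← e, ← e', h1, h2]
    exact hd
  have hinj : Function.Injective (i.stalkMap ⟨x, hxU⟩).hom :=
    injective_of_ringKrullDim_le _ (i.stalkMap_surjective _) _ hn hdim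
  have hbij : Function.Bijective (i.stalkMap ⟨x, hxU⟩).hom := ⟨hinj, i.stalkMap_surjective _⟩
  have hfs : ((i ≫ g).stalkMap ⟨x, hxU⟩).hom.FormallySmooth := by
    rw [Scheme.Hom.stalkMap_comp]
    exact (Scheme.Hom.mem_smoothLocus.mp hsm).comp (RingHom.FormallySmooth.of_bijective hbij)
  have hmem : (⟨x, hxU⟩ : U) ∈ (U.ι ≫ h).smoothLocus :=
    Scheme.Hom.mem_smoothLocus.mpr (formallySmooth_stalkMap_congr comm _ hfs)
  rw [← Scheme.Hom.preimage_smoothLocus_eq] at hmem
  exact hmem

end Groth.Agent.H3.JacSmooth
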