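import Mathlib
import Groth.Agent.Lib.Helper3.JacSmooth
import Groth.Agent.Lib.Helper3.CotSmSch
import Groth.Agent.Lib.Helper5.DF.DF11
import Groth.Agent.Lib.Helper5.DS.DS5
import Groth.Agent.Lib.Helper1.Chev3
import Groth.Agent.Lib.Helper1.RelDim
import Groth.Agent.Lib.Helper1.FibDimEt

/-! Helper3: the Jacobian locus `V(Fit_d Ω_{X/S})` and the smooth locus, over a general base. -/

set_option autoImplicit false
universe u
open AlgebraicGeometry CategoryTheory CategoryTheory.Limits IsLocalRing

namespace Groth.Agent.H3.JacSmooth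

/-- **smooth points lie outside the Jacobian locus** of index the fibre dimension. -/
theorem not_mem_fitt_of_mem_smoothLocus {X S : Scheme.{u}} (f : X ⟶ S)
    [LocallyOfFinitePresentation f] [QuasiSeparated f] (d : ℕ)
    (hfd : ∀ x ∈ f.smoothLocus, FlatMor.fibreDimAt f x = (d : WithBot ℕ∞)) (x : X)
    (hx : x ∈ f.smoothLocus) : x ∉ (Fitt.sheafIdeal (Omega.sheaf f) d).support := by
  haveI hsm : Smooth (f.smoothLocus.ι ≫ f) := by
    rw [← Scheme.Hom.smoothLocus_eq_top_iff, ← Scheme.Hom.preimage_smoothLocus_eq,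
      Scheme.Opens.ι_preimage_self]
  haveI : SmoothOfRelativeDimension d (f.smoothLocus.ι ≫ f) := by
    apply Groth.Agent.H3.CotSm.smoothOfRelativeDimension_of_fibreDimAt
    intro w
    rw [Groth.Agent.H1.FibDimEt.fibreDimAt_comp_of_etale f.smoothLocus.ι f w]
    exact hfd _ w.2
  exact Groth.Agent.H3.JacLocus.not_mem_of_closedImmersion f d x f.smoothLocus
    f.smoothLocus.toScheme (𝟙 _) (f.smoothLocus.ι ≫ f) hx (Category.id_comp _)

/-- **points outside the Jacobian locus of index at most the fibre dimension at which the morphism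
is flat are smooth points.** -/
theorem mem_smoothLocus_of_not_mem_fitt_of_flat {X S : Scheme.{u}} (f : X ⟶ S)
    [LocallyOfFinitePresentation f] [QuasiSeparated f] (d : ℕ) (x : X)
    (hflat : (f.stalkMap x).hom.Flat)
    (hbc : (Fitt.sheafIdeal (Omega.sheaf f) d).comap (f.fiberι (f x)) =
      Fitt.sheafIdeal (Omega.sheaf (f.fiberToSpecResidueField (f x))) d)
    (hx : x ∉ (Fitt.sheafIdeal (Omega.sheaf f) d).support)
    (hd : (d : WithBot ℕ∞) ≤ FlatMor.fibreDimAt f x) : x ∈ f.smoothLocus := by
  haveI : LocallyOfFinitePresentation (f.fiberToSpecResidueField (f x)) :=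
    MorphismProperty.pullback_snd (P := @LocallyOfFinitePresentation) _ _ inferInstance
  have hz : f.fiberι (f x) (f.asFiber x) = x := f.fiberι_asFiber x
  have h1 : f.asFiber x ∉
      (Fitt.sheafIdeal (Omega.sheaf (f.fiberToSpecResidueField (f x))) d).support := by
    rw [← hbc, Scheme.IdealSheafData.support_comap]
    intro hmem
    apply hx
    have h2 : f.fiberι (f x) (f.asFiber x) ∈ (Fitt.sheafIdeal (Omega.sheaf f) d).support := hmem
    rwa [hz] at h2
  have h3 : FlatMor.localDim (f.fiber (f x)) (f.asFiber x) = FlatMor.fibreDimAt f x :=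
    Groth.Agent.H1.Chev.localDim_fiber_eq_fibreDimAt f x (f x) rfl (f.asFiber x) hz
  have h4 : f.asFiber x ∈ (f.fiberToSpecResidueField (f x)).smoothLocus :=
    mem_smoothLocus_of_not_mem_fitt (S.residueField (f x)) (f.fiberToSpecResidueField (f x)) d
      (f.asFiber x) h1 (h3 ▸ hd)
  exact (H5.DF.mem_smoothLocus_iff_fiber f x (f x) rfl (f.asFiber x) hz).mpr ⟨hflat, h4⟩

end Groth.Agent.H3.JacSmooth
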