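import Mathlib
import Groth.Agent.Lib.Helper3.JacSmooth2
import Groth.Agent.Lib.Helper3.OmSm3
import Groth.Agent.Lib.Helper1.Miracle
import Groth.Agent.Lib.Helper1.CMFlat
import Groth.Agent.Lib.Helper1.RegFlat
import Groth.Agent.Lib.Helper1.FibreStalk

/-! Helper3: smoothness over a regular base via the dimension formula (no flatness assumed),
and the local freeness of differentials at points of the smooth locus. -/

set_option autoImplicit false
universe u
open AlgebraicGeometry CategoryTheory CategoryTheory.Limits IsLocalRing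

namespace Groth.Agent.H3.RegBaseSm

open Groth.Agent.H1.FlatDim in
/-- a Noetherian local ring over a regular local ring with regular closed fibre and satisfying the
dimension formula is regular. -/
theorem isRegularLocalRing_of_fiber_of_dim (A B : Type u) [CommRing A] [CommRing B]
    [IsRegularLocalRing A] [IsLocalRing B] [IsNoetherianRing B] [Algebra A B]
    [IsLocalHom (algebraMap A B)]
    [hF : IsRegularLocalRing (B ⧸ (maximalIdeal A).map (algebraMap A B))]
    (hdim : ringKrullDim B = ringKrullDim A +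
      ringKrullDim (B ⧸ (maximalIdeal A).map (algebraMap A B))) :
    IsRegularLocalRing B := by
  apply IsRegularLocalRing.of_spanFinrank_maximalIdeal_le
  have h1 := Groth.Agent.H1.RegFlat.spanFinrank_le_add
    ((maximalIdeal A).map (algebraMap A B)) (maximalIdeal B) (map_maximalIdeal_le A B)
  rw [← maximalIdeal_fiber A B] at h1
  have h2 : ((maximalIdeal A).map (algebraMap A B)).spanFinrank ≤ (maximalIdeal A).spanFinrank :=
    Ideal.spanFinrank_map_le_of_fg _ (IsNoetherian.noetherian _)
  have h3 := IsRegularLocalRing.spanFinrank_maximalIdeal (R := A)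
  have h4 := IsRegularLocalRing.spanFinrank_maximalIdeal
    (R := B ⧸ (maximalIdeal A).map (algebraMap A B))
  rw [hdim, ← h3, ← h4]
  have : (maximalIdeal B).spanFinrank ≤ (maximalIdeal A).spanFinrank +
      (maximalIdeal (B ⧸ (maximalIdeal A).map (algebraMap A B))).spanFinrank := by omega
  exact_mod_cast this

/-- the local ring of `X` at `x` is regular if the base and the fibre are regular there and the
dimension formula holds. -/
theorem isRegularLocalRing_stalk {X S : Scheme.{u}} (f : X ⟶ S) [IsLocallyNoetherian S]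
    [LocallyOfFiniteType f] (x : X) (hreg : IsRegularLocalRing (S.presheaf.stalk (f x)))
    (hF : IsRegularLocalRing ((f.fiber (f x)).presheaf.stalk (f.asFiber x)))
    (hdim : ringKrullDim (X.presheaf.stalk x) =
      ringKrullDim ((f.fiber (f x)).presheaf.stalk (f.asFiber x)) +
        ringKrullDim (S.presheaf.stalk (f x))) :
    IsRegularLocalRing (X.presheaf.stalk x) := by
  haveI : IsLocallyNoetherian X := LocallyOfFiniteType.isLocallyNoetherian f
  letI := (f.stalkMap x).hom.toAlgebra
  haveI : IsLocalHom (algebraMap (S.presheaf.stalk (f x)) (X.presheaf.stalk x)) :=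
    inferInstanceAs (IsLocalHom (f.stalkMap x).hom)
  haveI : IsRegularLocalRing (X.presheaf.stalk x ⧸
      (maximalIdeal (S.presheaf.stalk (f x))).map
        (algebraMap (S.presheaf.stalk (f x)) (X.presheaf.stalk x))) :=
    IsRegularLocalRing.of_ringEquiv (Groth.Agent.H1.FibreStalk.fiberStalkEquiv f x).symm
  apply isRegularLocalRing_of_fiber_of_dim (S.presheaf.stalk (f x)) (X.presheaf.stalk x)
  rw [hdim, add_comm]
  congr 1
  exact (ringKrullDim_eq_of_ringEquiv (Groth.Agent.H1.FibreStalk.fiberStalkEquiv f x)).symm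

/-- miracle flatness at a point: regular base, regular (or just CM) total space, dimension
formula. -/
theorem flat_stalkMap_of_regular {X S : Scheme.{u}} (f : X ⟶ S) [IsLocallyNoetherian S]
    [LocallyOfFiniteType f] (x : X) (hreg : IsRegularLocalRing (S.presheaf.stalk (f x)))
    (hX : IsRegularLocalRing (X.presheaf.stalk x))
    (hdim : ringKrullDim (X.presheaf.stalk x) =
      ringKrullDim ((f.fiber (f x)).presheaf.stalk (f.asFiber x)) +
        ringKrullDim (S.presheaf.stalk (f x))) :
    (f.stalkMap x).hom.Flat := by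
  haveI : IsLocallyNoetherian X := LocallyOfFiniteType.isLocallyNoetherian f
  letI := (f.stalkMap x).hom.toAlgebra
  haveI : IsLocalHom (algebraMap (S.presheaf.stalk (f x)) (X.presheaf.stalk x)) :=
    inferInstanceAs (IsLocalHom (f.stalkMap x).hom)
  have hCM' : LocCoh.IsCohenMacaulayModule (X.presheaf.stalk x) (X.presheaf.stalk x) :=
    (Groth.Agent.H1.CMFlat.isCohenMacaulayLocalRing_of_isRegularLocalRing
      (X.presheaf.stalk x)).supportDim_eq_depth
  have hIeq : (((maximalIdeal (S.presheaf.stalk (f x))).map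
      (algebraMap (S.presheaf.stalk (f x)) (X.presheaf.stalk x))) •
        (⊤ : Submodule (X.presheaf.stalk x) (X.presheaf.stalk x))) =
      (maximalIdeal (S.presheaf.stalk (f x))).map
        (algebraMap (S.presheaf.stalk (f x)) (X.presheaf.stalk x)) := by
    rw [smul_eq_mul, Ideal.mul_top]
  change Module.Flat (S.presheaf.stalk (f x)) (X.presheaf.stalk x)
  apply Groth.Agent.H1.Miracle.flat_of_cm (A := S.presheaf.stalk (f x))
    (B := X.presheaf.stalk x) (X.presheaf.stalk x) hCM'
  rw [Module.supportDim_self_eq_ringKrullDim,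
    Module.supportDim_eq_of_equiv (Submodule.quotEquivOfEq _ _ hIeq),
    Module.supportDim_quotient_eq_ringKrullDim, hdim, add_comm]
  congr 1
  exact (ringKrullDim_eq_of_ringEquiv (Groth.Agent.H1.FibreStalk.fiberStalkEquiv f x)).symm

/-- **smoothness over a regular base from the Jacobian locus and the dimension formula.** -/
theorem mem_smoothLocus_of_regular {X S : Scheme.{u}} (f : X ⟶ S) [IsLocallyNoetherian S]
    [LocallyOfFiniteType f] [LocallyOfFinitePresentation f] [QuasiSeparated f] (x : X)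
    (hreg : IsRegularLocalRing (S.presheaf.stalk (f x)))
    (hdim : ringKrullDim (X.presheaf.stalk x) =
      ringKrullDim ((f.fiber (f x)).presheaf.stalk (f.asFiber x)) +
        ringKrullDim (S.presheaf.stalk (f x)))
    (n : ℕ)
    (hbc : (Fitt.sheafIdeal (Omega.sheaf f) n).comap (f.fiberι (f x)) =
      Fitt.sheafIdeal (Omega.sheaf (f.fiberToSpecResidueField (f x))) n)
    (hx : x ∉ (Fitt.sheafIdeal (Omega.sheaf f) n).support)
    (hn : (n : WithBot ℕ∞) ≤ FlatMor.fibreDimAt f x) : x ∈ f.smoothLocus := by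
  haveI : LocallyOfFinitePresentation (f.fiberToSpecResidueField (f x)) :=
    MorphismProperty.pullback_snd (P := @LocallyOfFinitePresentation) _ _ inferInstance
  have hz : f.fiberι (f x) (f.asFiber x) = x := f.fiberι_asFiber x
  have h1 : f.asFiber x ∉
      (Fitt.sheafIdeal (Omega.sheaf (f.fiberToSpecResidueField (f x))) n).support := by
    rw [← hbc, Scheme.IdealSheafData.support_comap]
    intro hmem
    apply hx
    have h2 : f.fiberι (f x) (f.asFiber x) ∈ (Fitt.sheafIdeal (Omega.sheaf f) n).support := hmem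
    rwa [hz] at h2
  have h3 : FlatMor.localDim (f.fiber (f x)) (f.asFiber x) = FlatMor.fibreDimAt f x :=
    Groth.Agent.H1.Chev.localDim_fiber_eq_fibreDimAt f x (f x) rfl (f.asFiber x) hz
  have h4 : f.asFiber x ∈ (f.fiberToSpecResidueField (f x)).smoothLocus :=
    Groth.Agent.H3.JacSmooth.mem_smoothLocus_of_not_mem_fitt (S.residueField (f x))
      (f.fiberToSpecResidueField (f x)) n (f.asFiber x) h1 (h3 ▸ hn)
  have hF : IsRegularLocalRing ((f.fiber (f x)).presheaf.stalk (f.asFiber x)) :=
    Groth.Agent.H1.SmoothReg.isRegularLocalRing_of_mem_smoothLocus (S.residueField (f x))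
      (f.fiberToSpecResidueField (f x)) (f.asFiber x) h4
  have hX := isRegularLocalRing_stalk f x hreg hF hdim
  have hflat := flat_stalkMap_of_regular f x hreg hX hdim
  exact (H5.DF.mem_smoothLocus_iff_fiber f x (f x) rfl (f.asFiber x) hz).mpr ⟨hflat, h4⟩

/-- a standard smooth chart at a point of the smooth locus. -/
theorem exists_chart_of_mem_smoothLocus {X Y : Scheme.{u}} (f : X ⟶ Y)
    [LocallyOfFinitePresentation f] (x : X) (hx : x ∈ f.smoothLocus) :
    ∃ (V : Y.Opens) (_ : IsAffineOpen V) (U : X.Opens) (_ : IsAffineOpen U) (_ : x ∈ U)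
      (e : U ≤ f ⁻¹ᵁ V), (f.appLE V U e).hom.IsStandardSmooth := by
  haveI hsm : Smooth (f.smoothLocus.ι ≫ f) := by
    rw [← Scheme.Hom.smoothLocus_eq_top_iff, ← Scheme.Hom.preimage_smoothLocus_eq,
      Scheme.Opens.ι_preimage_self]
  obtain ⟨V, hV, U', hU', hxU', e', hstd⟩ :=
    Smooth.exists_isStandardSmooth (f.smoothLocus.ι ≫ f) ⟨x, hx⟩
  have hU : IsAffineOpen (f.smoothLocus.ι ''ᵁ U') := hU'.image_of_isOpenImmersion f.smoothLocus.ι
  have hxU : x ∈ f.smoothLocus.ι ''ᵁ U' := ⟨⟨x, hx⟩, hxU', rfl⟩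
  have hle : f.smoothLocus.ι ''ᵁ U' ≤ f ⁻¹ᵁ V := by
    rintro _ ⟨z, hz, rfl⟩
    exact e' hz
  refine ⟨V, hV, _, hU, hxU, hle, ?_⟩
  have h2 : f.appLE V (f.smoothLocus.ι ''ᵁ U') hle ≫ (f.smoothLocus.ι.appIso U').hom =
      (f.smoothLocus.ι ≫ f).appLE V U' e' := by
    rw [Scheme.Hom.appIso_hom', Scheme.Hom.appLE_comp_appLE]
  have h3 : f.appLE V (f.smoothLocus.ι ''ᵁ U') hle =
      (f.smoothLocus.ι ≫ f).appLE V U' e' ≫ (f.smoothLocus.ι.appIso U').inv := by
    rw [← h2, Category.assoc, Iso.hom_inv_id, Category.comp_id]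
  rw [h3, CommRingCat.hom_comp]
  exact RingHom.isStandardSmooth_respectsIso.1 _
    (f.smoothLocus.ι.appIso U').symm.commRingCatIsoToRingEquiv hstd

/-- **differentials are free of rank the fibre dimension near a point of the smooth locus.** -/
theorem exists_free_of_mem_smoothLocus {X Y : Scheme.{u}} {f : X ⟶ Y}
    [LocallyOfFinitePresentation f] {Ω' : X.Modules} {d : OmegaSh.Der f Ω'}
    (hd : OmegaSh.IsUniversal d) (x : X) (hx : x ∈ f.smoothLocus) :
    ∃ (U : X.Opens) (n : ℕ), x ∈ U ∧ Nonempty (Ω'.restrict U.ι ≅ FlatMod.freeMod (↑U) n) ∧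
      FlatMor.fibreDimAt f x = (n : WithBot ℕ∞) := by
  haveI := Groth.Agent.H3.Om.isQuasicoherent_of_isUniversal hd
  obtain ⟨V, hV, U, hU, hxU, e, hstd⟩ := exists_chart_of_mem_smoothLocus f x hx
  letI := (f.appLE V U e).hom.toAlgebra
  have hstd' : Algebra.IsStandardSmooth Γ(Y, V) Γ(X, U) := hstd
  obtain ⟨ι, σ, _, _, ⟨P⟩⟩ := hstd'.out
  have hn : Algebra.IsStandardSmoothOfRelativeDimension P.dimension Γ(Y, V) Γ(X, U) :=
    P.isStandardSmoothOfRelativeDimension rfl
  haveI : Nontrivial Γ(X, U) := by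
    have : Nonempty (Spec Γ(X, U)) := ⟨hU.primeIdealOf ⟨x, hxU⟩⟩
    by_contra hnt
    rw [not_nontrivial_iff_subsingleton] at hnt
    exact (PrimeSpectrum.instIsEmptyOfSubsingleton (R := Γ(X, U))).false (hU.primeIdealOf ⟨x, hxU⟩)
  have hrank := Algebra.IsStandardSmoothOfRelativeDimension.rank_kaehlerDifferential
    (R := Γ(Y, V)) (S := Γ(X, U)) P.dimension
  have hfin : Module.Finite Γ(X, U) (Ω[Γ(X, U)⁄Γ(Y, V)]) := by
    haveI : Algebra.FinitePresentation Γ(Y, V) Γ(X, U) := inferInstance
    infer_instance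
  have hfr : Module.finrank Γ(X, U) (Ω[Γ(X, U)⁄Γ(Y, V)]) = P.dimension :=
    Module.finrank_eq_of_rank_eq hrank
  obtain ⟨ε, -⟩ := Groth.Agent.H3.Om.exists_linearEquiv_sections hd hU hV e
  let b := Module.finBasisOfFinrankEq Γ(X, U) (Ω[Γ(X, U)⁄Γ(Y, V)]) hfr
  refine ⟨U, P.dimension, hxU,
    Groth.Agent.H3.Om.restrict_iso_freeMod_of_sections Ω' hU P.dimension
      (ε.symm ≪≫ₗ b.equivFun), ?_⟩
  exact Groth.Agent.H3.Om.fibreDimAt_of_chart f hU hV e P.dimension hn x hxU

end Groth.Agent.H3.RegBaseSm
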