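import Mathlib
import Groth.Agent.Lib.Helper1.EtNhd
import Groth.Agent.Lib.Helper3.CotSmSch
import Groth.Agent.Lib.Helper3.RegBaseSm
import Groth.Agent.Lib.Helper1.RelDim
import Groth.Agent.Lib.Helper1.DimFormula3

/-! Helper3: pointwise criterion for a morphism of smooth curves over an algebraically closed field
to be étale. -/

set_option autoImplicit false
universe u
open AlgebraicGeometry CategoryTheory CategoryTheory.Limits IsLocalRing

namespace Groth.Agent.H3.CurveEt

section Dim

variable {k : Type u} [Field k] {X : Scheme.{u}} (pX : X ⟶ Spec (CommRingCat.of k))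
  [LocallyOfFiniteType pX]

include pX in
/-- the local ring at a closed point of an irreducible scheme locally of finite type over a field
has the dimension of the scheme. -/
theorem ringKrullDim_stalk_of_isClosed [IrreducibleSpace X] (x : X)
    (hx : IsClosed ({x} : Set X)) :
    ringKrullDim (X.presheaf.stalk x) = topologicalKrullDim X := by
  rw [← Groth.Agent.H1.DimFormula.localDim_eq_stalk_of_isClosed pX x hx]
  refine (Groth.Agent.H1.RelDim.forall_dim_irreducibleComponents_iff pX
    (topologicalKrullDim X)).mp ?_ x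
  intro T hT
  rw [irreducibleComponents_eq_singleton, Set.mem_singleton_iff] at hT
  subst hT
  exact IsHomeomorph.topologicalKrullDim_eq _ (Homeomorph.Set.univ X).isHomeomorph

end Dim

section Main

variable (k : Type u) [Field k] [IsAlgClosed k] {X Y : Scheme.{u}}
  (pX : X ⟶ Spec (CommRingCat.of k)) (pY : Y ⟶ Spec (CommRingCat.of k))

theorem residueFieldMap_surjective [LocallyOfFiniteType pX] (φ : X ⟶ Y) (w : φ ≫ pY = pX) (x : X)
    (hx : IsClosed ({x} : Set X)) : Function.Surjective (φ.residueFieldMap x).hom := by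
  intro c
  obtain ⟨b, rfl⟩ := X.residue_surjective x c
  obtain ⟨a, ha⟩ := Groth.Agent.H3.CotSm.residue_surj k pX pY φ w x hx b
  refine ⟨(Y.residue (φ x)).hom a, ?_⟩
  have h1 : (φ.residueFieldMap x).hom ((Y.residue (φ x)).hom a) =
      (X.residue x).hom ((φ.stalkMap x).hom a) := by
    have := Scheme.residue_residueFieldMap φ x
    exact congrArg (fun ψ => ψ.hom a) this
  rw [h1]
  have h2 : (X.residue x).hom (b - (φ.stalkMap x).hom a) = 0 :=
    (IsLocalRing.residue_eq_zero_iff _).mpr ha
  rw [map_sub, sub_eq_zero] at h2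
  exact h2.symm

/-- **étale criterion for maps of smooth curves** over an algebraically closed field. -/
theorem etale_nhd_iff [IsIntegral X] [Smooth pX] [IsIntegral Y] [Smooth pY]
    (hdX : topologicalKrullDim X = 1) (hdY : topologicalKrullDim Y = 1)
    (φ : X ⟶ Y) (w : φ ≫ pY = pX) (x : X) (hx : IsClosed ({x} : Set X)) :
    (∃ U : X.Opens, x ∈ U ∧ Etale (U.ι ≫ φ)) ↔
      Ideal.map (φ.stalkMap x).hom (maximalIdeal (Y.presheaf.stalk (φ x))) =
        maximalIdeal (X.presheaf.stalk x) := by
  haveI : LocallyOfFiniteType pX := inferInstance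
  haveI : LocallyOfFiniteType pY := inferInstance
  haveI : IsLocallyNoetherian Y := LocallyOfFiniteType.isLocallyNoetherian pY
  haveI : LocallyOfFiniteType φ := by
    have : LocallyOfFiniteType (φ ≫ pY) := w ▸ inferInstance
    exact locallyOfFiniteType_of_comp φ pY
  rw [Groth.Agent.H1.EtNhd.main φ x]
  constructor
  · intro h; exact h.2.1
  · intro hm
    have hy : IsClosed ({φ x} : Set Y) := Groth.Agent.H3.CotSm.isClosed_image k pX pY φ w x hx
    have hA := Groth.Agent.H1.SmoothDepth.isRegularLocalRing_stalk_of_smooth k pY (φ x)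
    have hB := Groth.Agent.H1.SmoothDepth.isRegularLocalRing_stalk_of_smooth k pX x
    have hdA : ringKrullDim (Y.presheaf.stalk (φ x)) = 1 := by
      rw [ringKrullDim_stalk_of_isClosed pY (φ x) hy, hdY]
    have hdB : ringKrullDim (X.presheaf.stalk x) = 1 := by
      rw [ringKrullDim_stalk_of_isClosed pX x hx, hdX]
    have hF : ringKrullDim ((φ.fiber (φ x)).presheaf.stalk (φ.asFiber x)) = 0 := by
      rw [← ringKrullDim_eq_of_ringEquiv (Groth.Agent.H1.FibreStalk.fiberStalkEquiv φ x), hm]
      letI := Ideal.Quotient.field (maximalIdeal (X.presheaf.stalk x))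
      exact ringKrullDim_eq_zero_of_field _
    refine ⟨?_, hm, ?_, ?_⟩
    · apply Groth.Agent.H3.RegBaseSm.flat_stalkMap_of_regular φ x hA hB
      rw [hdB, hF, hdA, zero_add]
    · letI := (φ.residueFieldMap x).hom.toAlgebra
      exact Module.Finite.of_surjective
        (Algebra.linearMap (Y.residueField (φ x)) (X.residueField x))
        (residueFieldMap_surjective k pX pY φ w x hx)
    · letI := (φ.residueFieldMap x).hom.toAlgebra
      refine ⟨fun c => ?_⟩
      obtain ⟨a, rfl⟩ := residueFieldMap_surjective k pX pY φ w x hx c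
      exact isSeparable_algebraMap a

end Main

end Groth.Agent.H3.CurveEt
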