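import Mathlib

set_option autoImplicit false

universe u

open TensorProduct

namespace Groth.Agent.H3.DedFlat

variable {A K : Type u} [CommRing A] [IsDedekindDomain A] [Field K]
    [Algebra A K] [IsFractionRing A K] {M : Type u} [AddCommGroup M] [Module A M]

/-- a nonzero-divisor of `A` acts injectively on a `K`-submodule -/
lemma mem_of_smul_mem {V : Type*} [AddCommGroup V] [Module K V] [Module A V] [IsScalarTower A K V]
    (P : Submodule K V) (s : nonZeroDivisors A) (x : V) (h : (s : A) • x ∈ P) : x ∈ P := by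
  have hs : algebraMap A K (s : A) ≠ 0 :=
    IsFractionRing.to_map_ne_zero_of_mem_nonZeroDivisors s.2
  have h2 : (algebraMap A K (s : A))⁻¹ • ((s : A) • x) ∈ P := P.smul_mem _ h
  rwa [← algebraMap_smul K (s : A) x, smul_smul, inv_mul_cancel₀ hs, one_smul] at h2

lemma eq_zero_of_smul_eq_zero {V : Type*} [AddCommGroup V] [Module K V] [Module A V]
    [IsScalarTower A K V] (s : nonZeroDivisors A) (x : V) (h : (s : A) • x = 0) : x = 0 := by
  have := mem_of_smul_mem (A := A) (K := K) (⊥ : Submodule K V) s x (by rw [h]; exact Submodule.zero_mem _)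
  simpa using this

theorem main (P' : Submodule K (K ⊗[A] M)) (Q : Submodule A M) :
    Q = LinearMap.ker ((P'.restrictScalars A).mkQ ∘ₗ TensorProduct.mk A K M 1) ↔
      (Module.Flat A (M ⧸ Q) ∧ LinearMap.ker (Q.mkQ.baseChange K) = P') := by
  have hφ : ∀ m : M, m ∈ LinearMap.ker ((P'.restrictScalars A).mkQ ∘ₗ TensorProduct.mk A K M 1) ↔
      (1 : K) ⊗ₜ[A] m ∈ P' := by
    intro m
    rw [LinearMap.mem_ker, LinearMap.comp_apply, Submodule.mkQ_apply, Submodule.Quotient.mk_eq_zero]
    rfl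
  have hbc : ∀ m : M, (Q.mkQ.baseChange K) ((1 : K) ⊗ₜ[A] m) = (1 : K) ⊗ₜ[A] (Q.mkQ m) := fun m => by
    rw [LinearMap.baseChange_tmul]
  constructor
  · intro hQ
    have hmemQ : ∀ m : M, m ∈ Q ↔ (1 : K) ⊗ₜ[A] m ∈ P' := fun m => by
      rw [← hφ m, ← hQ]
    -- torsion-freeness
    have htf : Submodule.torsion A (M ⧸ Q) = ⊥ := by
      rw [eq_bot_iff]
      intro y hy
      obtain ⟨m, rfl⟩ := Q.mkQ_surjective y
      obtain ⟨a, ha⟩ := (Submodule.mem_torsion_iff _).1 hy
      rw [Submodule.mem_bot]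
      change (a : A) • Q.mkQ m = 0 at ha
      rw [← map_smul, Submodule.mkQ_apply, Submodule.Quotient.mk_eq_zero, hmemQ] at ha
      rw [Submodule.mkQ_apply, Submodule.Quotient.mk_eq_zero, hmemQ]
      apply mem_of_smul_mem (A := A) P' a
      rwa [TensorProduct.smul_tmul', TensorProduct.smul_tmul, ]
    have hflat : Module.Flat A (M ⧸ Q) := IsDedekindDomain.flat_iff_torsion_eq_bot.2 htf
    refine ⟨hflat, ?_⟩
    ext x
    obtain ⟨⟨m, s⟩, hms⟩ := IsLocalizedModule.surj (nonZeroDivisors A) (TensorProduct.mk A K M 1) x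
    change (s : A) • x = (1 : K) ⊗ₜ[A] m at hms
    constructor
    · intro hx
      rw [LinearMap.mem_ker] at hx
      apply mem_of_smul_mem (A := A) P' s
      rw [hms, ← hmemQ]
      -- 1 ⊗ [m] = 0
      have h1 : (1 : K) ⊗ₜ[A] (Q.mkQ m) = 0 := by
        rw [← hbc, ← hms, LinearMap.map_smul_of_tower, hx, smul_zero]
      obtain ⟨c, hc⟩ := (IsLocalizedModule.eq_zero_iff (nonZeroDivisors A)
        (TensorProduct.mk A K (M ⧸ Q) 1)).1 h1
      have : Q.mkQ m ∈ Submodule.torsion A (M ⧸ Q) := (Submodule.mem_torsion_iff _).2 ⟨c, hc⟩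
      rw [htf, Submodule.mem_bot, Submodule.mkQ_apply, Submodule.Quotient.mk_eq_zero] at this
      exact this
    · intro hx
      rw [LinearMap.mem_ker]
      have h1 : (1 : K) ⊗ₜ[A] m ∈ P' := by
        rw [← hms]
        exact P'.smul_of_tower_mem (s : A) hx
      have h2 : m ∈ Q := (hmemQ m).2 h1
      apply eq_zero_of_smul_eq_zero (A := A) (K := K) s
      rw [← LinearMap.map_smul_of_tower, hms, hbc, Submodule.mkQ_apply, (Submodule.Quotient.mk_eq_zero Q).2 h2,
        TensorProduct.tmul_zero]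
  · rintro ⟨hflat, hker⟩
    ext m
    rw [hφ, ← hker, LinearMap.mem_ker, hbc]
    constructor
    · intro hm
      rw [(Submodule.Quotient.mk_eq_zero Q).2 hm |> fun h => (show Q.mkQ m = 0 from h),
        TensorProduct.tmul_zero]
    · intro h1
      obtain ⟨c, hc⟩ := (IsLocalizedModule.eq_zero_iff (nonZeroDivisors A)
        (TensorProduct.mk A K (M ⧸ Q) 1)).1 h1
      have : Q.mkQ m ∈ Submodule.torsion A (M ⧸ Q) := (Submodule.mem_torsion_iff _).2 ⟨c, hc⟩
      rw [Module.Flat.torsion_eq_bot, Submodule.mem_bot, Submodule.mkQ_apply,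
        Submodule.Quotient.mk_eq_zero] at this
      exact this

end Groth.Agent.H3.DedFlat
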