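import Mathlib

/-!
# Index of the twisted diagonal hypersurface: the valuation argument

`x_0^d = ϖ^c x_1^d + ϖ^{2c} x_2^d + ⋯ + ϖ^{Nc} x_N^d` with a nonzero solution in a field carrying a
discrete valuation with `v ϖ = exp (-e)` forces `d / gcd(d, t) ∣ c * e` for some `1 ≤ t ≤ N`.
-/

set_option autoImplicit false

namespace Groth.Agent.H3.DiagIdx

open WithZero

/-- the number `I(d, N)` -/
def idx (d N : ℕ) : ℕ := ((Finset.Icc 1 N).filter (fun δ => δ ∣ d)).gcd (fun δ => d / δ)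

theorem idx_dvd {d N δ : ℕ} (h1 : 1 ≤ δ) (h2 : δ ≤ N) (h3 : δ ∣ d) : idx d N ∣ d / δ :=
  Finset.gcd_dvd (f := fun δ => d / δ) (by simp [h1, h2, h3])

theorem idx_dvd_of_dvd_mul {d N t m : ℕ} (hd : 1 ≤ d) (ht1 : 1 ≤ t) (ht2 : t ≤ N) (h : d ∣ t * m) :
    idx d N ∣ m := by
  set δ := Nat.gcd d t with hδ
  have hδpos : 0 < δ := Nat.gcd_pos_of_pos_left _ (by omega)
  have hδd : δ ∣ d := Nat.gcd_dvd_left d t
  have hδt : δ ∣ t := Nat.gcd_dvd_right d t
  have hδN : δ ≤ N := le_trans (Nat.le_of_dvd (by omega) hδt) ht2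
  refine dvd_trans (idx_dvd hδpos hδN hδd) ?_
  have hcop : Nat.Coprime (d / δ) (t / δ) := Nat.coprime_div_gcd_div_gcd hδpos
  have h2 : d / δ ∣ (t / δ) * m := by
    obtain ⟨k, hk⟩ := h
    refine ⟨k, ?_⟩
    have e1 : d = δ * (d / δ) := (Nat.mul_div_cancel' hδd).symm
    have e2 : t = δ * (t / δ) := (Nat.mul_div_cancel' hδt).symm
    have : δ * ((t / δ) * m) = δ * ((d / δ) * k) := by
      calc δ * ((t / δ) * m) = (δ * (t / δ)) * m := by ring
        _ = t * m := by rw [← e2]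
        _ = d * k := hk
        _ = (δ * (d / δ)) * k := by rw [← e1]
        _ = δ * ((d / δ) * k) := by ring
    exact Nat.eq_of_mul_eq_mul_left hδpos this
  exact hcop.dvd_of_dvd_mul_left h2

section Val

variable {L : Type*} [Field L] {Γ₀ : Type*} [LinearOrderedCommGroupWithZero Γ₀] (v : Valuation L Γ₀)

theorem exists_ne_val_eq {ι : Type*} [DecidableEq ι] (s : Finset ι) (U : ι → L)
    (hsum : ∑ i ∈ s, U i = 0) (hne : ∃ i ∈ s, U i ≠ 0) :
    ∃ i ∈ s, ∃ j ∈ s, i ≠ j ∧ U i ≠ 0 ∧ v (U i) = v (U j) := by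
  obtain ⟨i₁, hi₁, hU₁⟩ := hne
  obtain ⟨i₀, hi₀, hmax⟩ := Finset.exists_max_image s (fun i => v (U i)) ⟨i₁, hi₁⟩
  have hv0 : v (U i₀) ≠ 0 := by
    have h1 : v (U i₁) ≠ 0 := (v.ne_zero_iff).mpr hU₁
    have h2 := hmax i₁ hi₁
    intro h
    rw [h] at h2
    exact h1 (le_antisymm h2 zero_le)
  have hU0 : U i₀ ≠ 0 := (v.ne_zero_iff).mp hv0
  by_contra hcon
  push Not at hcon
  have hlt : ∀ j ∈ s.erase i₀, v (U j) < v (U i₀) := by
    intro j hj
    rw [Finset.mem_erase] at hj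
    refine lt_of_le_of_ne (hmax j hj.2) ?_
    intro h
    exact hcon i₀ hi₀ j hj.2 (Ne.symm hj.1) hU0 h.symm
  have h1 := v.map_sum_lt hv0 hlt
  have h2 : ∑ j ∈ s.erase i₀, U j = - U i₀ := by
    rw [← Finset.add_sum_erase s U hi₀] at hsum
    exact (neg_eq_of_add_eq_zero_right hsum).symm
  rw [h2, Valuation.map_neg] at h1
  exact lt_irrefl _ h1

end Val

section Zm0

variable {L : Type*} [Field L] (v : Valuation L ℤᵐ⁰)

/-- The core divisibility: a nonzero solution of the twisted diagonal equation forces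
`idx d N ∣ c * e` when `v ϖ = exp (-e)`. -/
theorem idx_dvd_of_solution (d N : ℕ) (hd : 1 ≤ d) (ϖ : L) (e c : ℕ) (hϖ : v ϖ = exp (-(e : ℤ)))
    (y : Fin (N + 1) → L) (hy : y ≠ 0)
    (heq : y 0 ^ d = ∑ i : Fin N, (ϖ ^ (c * ((i : ℕ) + 1))) * y i.succ ^ d) :
    idx d N ∣ c * e := by
  classical
  have hϖ0 : ϖ ≠ 0 := by
    rw [← v.ne_zero_iff, hϖ]; exact exp_ne_zero
  -- the terms
  let T : Fin (N + 1) → L := fun j => ϖ ^ (c * (j : ℕ)) * y j ^ d
  let U : Fin (N + 1) → L := Fin.cases (-(y 0 ^ d)) (fun i => T i.succ)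
  have hT0 : T 0 = y 0 ^ d := by simp [T]
  have hsum : ∑ j, U j = 0 := by
    rw [Fin.sum_univ_succ]
    simp only [U, Fin.cases_zero, Fin.cases_succ, T, Fin.val_succ]
    rw [heq]; ring
  have hvU : ∀ j, v (U j) = v (T j) := by
    intro j
    refine Fin.cases ?_ (fun i => ?_) j
    · simp only [U, Fin.cases_zero, Valuation.map_neg, hT0]
    · simp only [U, Fin.cases_succ]
  have hT_ne : ∀ j, T j ≠ 0 ↔ y j ≠ 0 := by
    intro j
    simp only [T, ne_eq, mul_eq_zero, pow_eq_zero_iff', hϖ0, false_and, false_or]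
    constructor
    · intro h hy0; exact h ⟨hy0, by omega⟩
    · intro h h2; exact h h2.1
  have hU_ne : ∀ j, U j ≠ 0 ↔ y j ≠ 0 := by
    intro j
    rw [← hT_ne, ← v.ne_zero_iff, ← v.ne_zero_iff, hvU]
  have hne : ∃ j ∈ (Finset.univ : Finset (Fin (N + 1))), U j ≠ 0 := by
    by_contra hcon
    push Not at hcon
    apply hy
    funext j
    by_contra hj
    exact (hU_ne j).mpr hj (hcon j (Finset.mem_univ j))
  obtain ⟨i, -, j, -, hij, hUi, hval⟩ := exists_ne_val_eq v Finset.univ U hsum hne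
  have hyi : y i ≠ 0 := (hU_ne i).mp hUi
  have hUj : U j ≠ 0 := by
    rw [← v.ne_zero_iff, ← hval, v.ne_zero_iff]; exact hUi
  have hyj : y j ≠ 0 := (hU_ne j).mp hUj
  rw [hvU, hvU] at hval
  -- logs
  have hlog : ∀ k : Fin (N + 1), y k ≠ 0 →
      log (v (T k)) = -((c * (k : ℕ) : ℕ) : ℤ) * e + d * log (v (y k)) := by
    intro k hk
    simp only [T]
    rw [map_mul, map_pow, map_pow, log_mul (pow_ne_zero _ (by rw [hϖ]; exact exp_ne_zero))
      (pow_ne_zero _ ((v.ne_zero_iff).mpr hk)), log_pow, log_pow, hϖ, log_exp]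
    simp only [nsmul_eq_mul]
    push_cast
    ring
  have hL := congrArg log hval
  rw [hlog i hyi, hlog j hyj] at hL
  -- wlog on order
  have key : ∀ (a b : ℕ) (A B : ℤ), a < b → b ≤ N →
      -((c * a : ℕ) : ℤ) * e + d * A = -((c * b : ℕ) : ℤ) * e + d * B → idx d N ∣ c * e := by
    intro a b A B hab hbN h
    refine idx_dvd_of_dvd_mul hd (t := b - a) (by omega) (by omega) ?_
    have h1 : (d : ℤ) ∣ ((b - a : ℕ) : ℤ) * ((c * e : ℕ) : ℤ) := by
      refine ⟨B - A, ?_⟩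
      push_cast [Nat.cast_sub hab.le] at h ⊢
      linear_combination h
    exact_mod_cast h1
  rcases lt_or_gt_of_ne (fun h => hij (Fin.ext h) : (i : ℕ) ≠ (j : ℕ)) with h | h
  · exact key i j _ _ h (by omega) hL
  · exact key j i _ _ h (by omega) hL.symm

end Zm0

end Groth.Agent.H3.DiagIdx
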