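import Groth.Agent.Lib.Helper3.DiagIdxA

/-!
# Index of the twisted diagonal hypersurface: finite separable extensions of the fraction field of a DVR
-/

set_option autoImplicit false

namespace Groth.Agent.H3.DiagIdx

open WithZero IsDedekindDomain

section Ded

variable {R : Type*} [CommRing R] [IsDomain R] [IsDiscreteValuationRing R]
  {S : Type*} [CommRing S] [IsDedekindDomain S] [Algebra R S] [Module.IsTorsionFree R S]
  {L : Type*} [Field L] [Algebra S L] [IsFractionRing S L] [Algebra R L] [IsScalarTower R S L]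

/-- For a prime `P` of the Dedekind domain `S` over the maximal ideal of the DVR `R`:
a solution in `Frac S` of the twisted equation forces `idx d N ∣ c * e(P)`. -/
theorem idx_dvd_mul_ramificationIdx (ϖ : R) (hϖ : Irreducible ϖ)
    (P : Ideal S) [P.IsPrime] [P.LiesOver (IsLocalRing.maximalIdeal R)]
    (d N c : ℕ) (hd : 1 ≤ d) (y : Fin (N + 1) → L) (hy : y ≠ 0)
    (heq : y 0 ^ d = ∑ i : Fin N, ((algebraMap R L ϖ) ^ (c * ((i : ℕ) + 1))) * y i.succ ^ d) :
    idx d N ∣ c * P.ramificationIdx R := by
  have hmax : IsLocalRing.maximalIdeal R = Ideal.span {ϖ} :=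
    (IsDiscreteValuationRing.irreducible_iff_uniformizer ϖ).mp hϖ
  have hϖ0 : ϖ ≠ 0 := hϖ.ne_zero
  have hinj : Function.Injective (algebraMap R S) := FaithfulSMul.algebraMap_injective R S
  have hs0 : algebraMap R S ϖ ≠ 0 := by
    rw [Ne, map_eq_zero_iff _ hinj]; exact hϖ0
  have hmap : (IsLocalRing.maximalIdeal R).map (algebraMap R S) = Ideal.span {algebraMap R S ϖ} := by
    rw [hmax, Ideal.map_span, Set.image_singleton]
  have hmap0 : (IsLocalRing.maximalIdeal R).map (algebraMap R S) ≠ ⊥ := by
    rw [hmap, Ne, Ideal.span_singleton_eq_bot]; exact hs0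
  have hP0 : P ≠ ⊥ := by
    intro h
    have : (IsLocalRing.maximalIdeal R).map (algebraMap R S) ≤ P :=
      Ideal.map_le_of_le_comap (P.over_def (IsLocalRing.maximalIdeal R)).le
    rw [h, le_bot_iff] at this
    exact hmap0 this
  let v : HeightOneSpectrum S := ⟨P, inferInstance, hP0⟩
  have he : P.ramificationIdx R = multiplicity P (Ideal.span {algebraMap R S ϖ}) := by
    rw [Ideal.IsDedekindDomain.ramificationIdx_eq_multiplicity (IsLocalRing.maximalIdeal R) P hmap0, hmap]
  have hval : v.valuation L (algebraMap R L ϖ) = exp (-((P.ramificationIdx R : ℕ) : ℤ)) := by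
    rw [IsScalarTower.algebraMap_apply R S L, HeightOneSpectrum.valuation_of_algebraMap,
      HeightOneSpectrum.intValuation_eq_exp_neg_multiplicity v hs0, he]
  exact idx_dvd_of_solution (v.valuation L) d N hd (algebraMap R L ϖ) (P.ramificationIdx R) c hval y hy heq

end Ded

theorem idx_dvd_mul_finrank_of_dedekind
    {R : Type*} [CommRing R] [IsDomain R] [IsDiscreteValuationRing R]
    (S : Type*) [CommRing S] [IsDedekindDomain S] [Algebra R S] [Module.IsTorsionFree R S]
    {L : Type*} [Field L] [Algebra S L] [IsFractionRing S L] [Algebra R L] [IsScalarTower R S L]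
    {K : Type*} [Field K] [Algebra R K] [IsFractionRing R K] [Algebra K L] [IsScalarTower R K L]
    [Module.Finite R S] (ϖ : R) (hϖ : Irreducible ϖ)
    (d N c : ℕ) (hd : 1 ≤ d) (y : Fin (N + 1) → L) (hy : y ≠ 0)
    (heq : y 0 ^ d = ∑ i : Fin N, ((algebraMap R L ϖ) ^ (c * ((i : ℕ) + 1))) * y i.succ ^ d) :
    idx d N ∣ c * Module.finrank K L := by
  have hsum := Ideal.sum_ramification_inertia_eq_finrank (IsLocalRing.maximalIdeal R) S
  rw [IsFractionRing.finrank_eq R K S L, ← hsum, Finset.mul_sum]
  refine Finset.dvd_sum fun Q _ => ?_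
  haveI : Q.1.IsPrime := Q.2.1
  haveI : Q.1.LiesOver (IsLocalRing.maximalIdeal R) := Q.2.2
  rw [← mul_assoc]
  exact Dvd.dvd.mul_right (idx_dvd_mul_ramificationIdx ϖ hϖ Q.1 d N c hd y hy heq) _



section Sep

variable {R : Type*} [CommRing R] [IsDomain R] [IsDiscreteValuationRing R]
  {K : Type*} [Field K] [Algebra R K] [IsFractionRing R K]
  {L : Type*} [Field L] [Algebra K L] [Algebra R L] [IsScalarTower R K L]
  [FiniteDimensional K L] [Algebra.IsSeparable K L]

theorem idx_dvd_mul_finrank_of_separable (ϖ : R) (hϖ : Irreducible ϖ)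
    (d N c : ℕ) (hd : 1 ≤ d) (y : Fin (N + 1) → L) (hy : y ≠ 0)
    (heq : y 0 ^ d = ∑ i : Fin N, ((algebraMap R L ϖ) ^ (c * ((i : ℕ) + 1))) * y i.succ ^ d) :
    idx d N ∣ c * Module.finrank K L := by
  let S := integralClosure R L
  haveI : IsIntegralClosure S R L := integralClosure.isIntegralClosure R L
  haveI : IsDedekindDomain S := IsIntegralClosure.isDedekindDomain R K L S
  haveI : Module.Finite R S := IsIntegralClosure.finite R K L S
  haveI : IsFractionRing S L := IsIntegralClosure.isFractionRing_of_finite_extension R K L S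
  haveI : Module.IsTorsionFree R L := .trans_faithfulSMul R K L
  haveI : Module.IsTorsionFree R S := inferInstance
  exact idx_dvd_mul_finrank_of_dedekind S (K := K) ϖ hϖ d N c hd y hy heq

end Sep

end Groth.Agent.H3.DiagIdx
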