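import Groth.Agent.Lib.Helper3.DiagIdxB

/-!
# Index of the twisted diagonal hypersurface: arbitrary finite extensions (reduction to the separable closure)
-/

set_option autoImplicit false

namespace Groth.Agent.H3.DiagIdx

open Polynomial

section PI

variable {F E : Type*} [Field F] [Field E] [Algebra F E] [IsPurelyInseparable F E] [FiniteDimensional F E]

/-- In a finite purely inseparable extension, the `[E : F]`-th power of every element lies in `F`. -/
theorem pow_finrank_mem_range (z : E) : z ^ Module.finrank F E ∈ (algebraMap F E).range := by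
  let q := ringExpChar F
  haveI : ExpChar F q := ringExpChar.expChar F
  obtain ⟨n, y, hmin⟩ := IsPurelyInseparable.minpoly_eq_X_pow_sub_C F q z
  have hint : IsIntegral F z := Algebra.IsIntegral.isIntegral z
  have hdeg : (minpoly F z).natDegree = q ^ n := by
    rw [hmin, natDegree_sub_C, natDegree_X_pow]
  have hdvd : q ^ n ∣ Module.finrank F E := hdeg ▸ minpoly.degree_dvd hint
  have hz : z ^ (q ^ n) = algebraMap F E y := by
    have h0 := minpoly.aeval F z
    rw [hmin] at h0
    simpa [sub_eq_zero] using h0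
  obtain ⟨t, ht⟩ := hdvd
  rw [ht, pow_mul, hz, ← map_pow]
  exact ⟨y ^ t, rfl⟩

end PI

section General

variable {R : Type*} [CommRing R] [IsDomain R] [IsDiscreteValuationRing R]
  {K : Type*} [Field K] [Algebra R K] [IsFractionRing R K]
  {L : Type*} [Field L] [Algebra K L] [Algebra R L] [IsScalarTower R K L]
  [FiniteDimensional K L]

theorem idx_dvd_finrank (ϖ : R) (hϖ : Irreducible ϖ)
    (d N : ℕ) (hd : 1 ≤ d) (x : Fin (N + 1) → L) (hx : x ≠ 0)
    (heq : x 0 ^ d = ∑ i : Fin N, ((algebraMap R L ϖ) ^ ((i : ℕ) + 1)) * x i.succ ^ d) :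
    idx d N ∣ Module.finrank K L := by
  let Ls : IntermediateField K L := separableClosure K L
  haveI : Algebra.IsSeparable K Ls := separableClosure.isSeparable K L
  haveI : IsPurelyInseparable Ls L := separableClosure.isPurelyInseparable K L
  let q := ringExpChar K
  haveI : ExpChar K q := ringExpChar.expChar K
  haveI : ExpChar L q := expChar_of_injective_algebraMap (algebraMap K L).injective q
  haveI : ExpChar Ls q := expChar_of_injective_algebraMap (algebraMap K Ls).injective q
  obtain ⟨m, hm⟩ := IsPurelyInseparable.finrank_eq_pow (F := Ls) L q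
  have hmem : ∀ z : L, z ^ (q ^ m) ∈ Ls := by
    intro z
    obtain ⟨w, hw⟩ := pow_finrank_mem_range (F := Ls) z
    rw [← hm, ← hw]
    exact w.2
  let y : Fin (N + 1) → Ls := fun j => ⟨x j ^ (q ^ m), hmem (x j)⟩
  have hy : y ≠ 0 := by
    intro h
    apply hx
    funext j
    have := congrArg (fun f => ((f j : Ls) : L)) h
    simp only [y, Pi.zero_apply, ZeroMemClass.coe_zero] at this
    exact pow_eq_zero_iff (pow_ne_zero _ (expChar_pos K q).ne') |>.mp this
  have hyeq : y 0 ^ d = ∑ i : Fin N, ((algebraMap R Ls ϖ) ^ ((q ^ m) * ((i : ℕ) + 1))) * y i.succ ^ d := by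
    apply Subtype.ext
    have h1 : ((y 0 ^ d : Ls) : L) = (x 0 ^ d) ^ (q ^ m) := by
      simp only [y, SubmonoidClass.coe_pow]
      rw [← pow_mul, ← pow_mul, mul_comm]
    rw [h1, heq, sum_pow_char_pow]
    rw [AddSubmonoidClass.coe_finsetSum]
    refine Finset.sum_congr rfl fun i _ => ?_
    simp only [y, MulMemClass.coe_mul, SubmonoidClass.coe_pow]
    have h2 : ((algebraMap R Ls ϖ : Ls) : L) = algebraMap R L ϖ := rfl
    rw [h2, mul_pow, ← pow_mul, ← pow_mul, ← pow_mul, mul_comm ((i : ℕ) + 1), mul_comm d]
  have key := idx_dvd_mul_finrank_of_separable (K := K) (L := Ls) ϖ hϖ d N (q ^ m) hd y hy hyeq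
  rw [← hm, mul_comm, Module.finrank_mul_finrank K Ls L] at key
  exact key

end General

end Groth.Agent.H3.DiagIdx
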