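import Groth.Agent.Lib.Helper3.DiagIdxC

/-!
# Index of the twisted diagonal hypersurface: the Eisenstein extensions and the main theorem
-/

set_option autoImplicit false

universe u

namespace Groth.Agent.H3.DiagIdx

open Polynomial

section Eis

variable {R : Type u} [CommRing R] [IsDomain R] [IsDiscreteValuationRing R]
  {K : Type u} [Field K] [Algebra R K] [IsFractionRing R K]

theorem irreducible_X_pow_sub_C (ϖ : R) (hϖ : Irreducible ϖ) (m : ℕ) (hm : 1 ≤ m) :
    Irreducible (X ^ m - C (algebraMap R K ϖ) : K[X]) := by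
  have hmax : IsLocalRing.maximalIdeal R = Ideal.span {ϖ} :=
    (IsDiscreteValuationRing.irreducible_iff_uniformizer ϖ).mp hϖ
  have hmonic : (X ^ m - C ϖ : R[X]).Monic := monic_X_pow_sub_C ϖ (by omega)
  have hdeg : (X ^ m - C ϖ : R[X]).natDegree = m := natDegree_X_pow_sub_C
  have hE : (X ^ m - C ϖ : R[X]).IsEisensteinAt (IsLocalRing.maximalIdeal R) := by
    refine ⟨?_, ?_, ?_⟩
    · rw [hmonic.leadingCoeff]
      exact fun h => (IsLocalRing.maximalIdeal.isMaximal R).ne_top ((Ideal.eq_top_iff_one _).mpr h)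
    · intro n hn
      rw [hdeg] at hn
      rw [coeff_sub, coeff_X_pow, if_neg (by omega), zero_sub, neg_mem_iff, coeff_C]
      split_ifs
      · rw [hmax]; exact Ideal.mem_span_singleton_self ϖ
      · exact zero_mem _
    · rw [coeff_sub, coeff_X_pow, if_neg (by omega), zero_sub, neg_mem_iff, coeff_C_zero, hmax,
        Ideal.span_singleton_pow, Ideal.mem_span_singleton]
      intro h
      have h2 : ϖ * ϖ ∣ ϖ * 1 := by simpa [pow_two] using h
      have h3 : ϖ ∣ 1 := (mul_dvd_mul_iff_left hϖ.ne_zero).mp h2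
      exact hϖ.not_isUnit (isUnit_of_dvd_one h3)
  have hirr : Irreducible (X ^ m - C ϖ : R[X]) :=
    hE.irreducible (IsLocalRing.maximalIdeal.isMaximal R).isPrime hmonic.isPrimitive (by omega)
  have := (Monic.irreducible_iff_irreducible_map_fraction_map (K := K) hmonic).mp hirr
  simpa using this

/-- For every divisor `δ` of `d` with `1 ≤ δ ≤ N` there is an extension of degree `d / δ` in which the twisted
diagonal equation has a non-zero solution. -/
theorem exists_extension (ϖ : R) (hϖ : Irreducible ϖ) (d N δ : ℕ) (hd : 1 ≤ d) (h1 : 1 ≤ δ) (h2 : δ ≤ N)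
    (h3 : δ ∣ d) :
    ∃ (L : Type u) (_ : Field L) (_ : Algebra K L),
        FiniteDimensional K L ∧ Module.finrank K L = d / δ ∧
        ∃ x : Fin (N + 1) → L, x ≠ 0 ∧
          x 0 ^ d = ∑ i : Fin N, algebraMap K L (algebraMap R K (ϖ ^ ((i : ℕ) + 1))) * x i.succ ^ d := by
  have hm : 1 ≤ d / δ := Nat.div_pos (Nat.le_of_dvd (by omega) h3) (by omega)
  set f : K[X] := X ^ (d / δ) - C (algebraMap R K ϖ) with hf
  haveI : Fact (Irreducible f) := ⟨irreducible_X_pow_sub_C ϖ hϖ (d / δ) hm⟩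
  have hf0 : f ≠ 0 := (irreducible_X_pow_sub_C ϖ hϖ (d / δ) hm).ne_zero
  have hdeg : f.natDegree = d / δ := natDegree_X_pow_sub_C
  refine ⟨AdjoinRoot f, inferInstance, inferInstance, ?_, ?_, ?_⟩
  · exact (AdjoinRoot.powerBasis hf0).finite
  · rw [(AdjoinRoot.powerBasis hf0).finrank, AdjoinRoot.powerBasis_dim, hdeg]
  · have hroot : AdjoinRoot.root f ^ (d / δ) = algebraMap K (AdjoinRoot f) (algebraMap R K ϖ) := by
      have h0 := AdjoinRoot.eval₂_root f
      rw [hf, eval₂_sub, eval₂_pow, eval₂_X, eval₂_C, sub_eq_zero] at h0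
      rw [h0, AdjoinRoot.algebraMap_eq]
    have hrootd : AdjoinRoot.root f ^ d = algebraMap K (AdjoinRoot f) (algebraMap R K (ϖ ^ δ)) := by
      conv_lhs => rw [← Nat.div_mul_cancel h3]
      rw [pow_mul, hroot, map_pow, map_pow]
    let i₀ : Fin N := ⟨δ - 1, by omega⟩
    refine ⟨fun j => if j = 0 then AdjoinRoot.root f else if (j : ℕ) = δ then 1 else 0, ?_, ?_⟩
    · intro h
      have := congrFun h i₀.succ
      simp only [Fin.succ_ne_zero, if_false, Fin.val_succ, i₀, Pi.zero_apply] at this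
      rw [if_pos (by omega)] at this
      exact one_ne_zero this
    · simp only [if_true, Fin.succ_ne_zero, if_false, Fin.val_succ]
      rw [hrootd, Finset.sum_eq_single i₀]
      · simp only [i₀]
        rw [if_pos (by omega), one_pow, mul_one, Nat.sub_add_cancel h1]
      · intro i _ hi
        rw [if_neg, zero_pow (by omega), mul_zero]
        intro hiδ
        apply hi
        ext
        simp only [i₀]
        omega
      · intro h; exact absurd (Finset.mem_univ _) h

end Eis

section Gcd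

theorem natCast_gcd_mem (H : AddSubgroup ℤ) {a b : ℕ} (ha : (a : ℤ) ∈ H) (hb : (b : ℤ) ∈ H) :
    ((Nat.gcd a b : ℕ) : ℤ) ∈ H := by
  rw [Nat.gcd_eq_gcd_ab]
  have h1 : (a : ℤ) * Nat.gcdA a b ∈ H := by
    have := H.zsmul_mem ha (Nat.gcdA a b)
    rwa [smul_eq_mul, mul_comm] at this
  have h2 : (b : ℤ) * Nat.gcdB a b ∈ H := by
    have := H.zsmul_mem hb (Nat.gcdB a b)
    rwa [smul_eq_mul, mul_comm] at this
  exact H.add_mem h1 h2

theorem natCast_finset_gcd_mem (H : AddSubgroup ℤ) {ι : Type*} (s : Finset ι) (f : ι → ℕ)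
    (h : ∀ i ∈ s, (f i : ℤ) ∈ H) : ((s.gcd f : ℕ) : ℤ) ∈ H := by
  classical
  induction s using Finset.induction_on with
  | empty => simp
  | insert a s ha ih =>
    rw [Finset.gcd_insert]
    exact natCast_gcd_mem H (h a (Finset.mem_insert_self a s))
      (ih fun i hi => h i (Finset.mem_insert_of_mem hi))

end Gcd

theorem main (R : Type u) [CommRing R] [IsDomain R]
    [IsDiscreteValuationRing R] (K : Type u) [Field K] [Algebra R K] [IsFractionRing R K]
    (ϖ : R) (hϖ : Irreducible ϖ) (d N : ℕ) (hd : 1 ≤ d) (_hN : 1 ≤ N) :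
    AddSubgroup.closure {m : ℤ | ∃ (L : Type u) (_ : Field L) (_ : Algebra K L),
        FiniteDimensional K L ∧ m = (Module.finrank K L : ℤ) ∧
        ∃ x : Fin (N + 1) → L, x ≠ 0 ∧
          x 0 ^ d = ∑ i : Fin N, algebraMap K L (algebraMap R K (ϖ ^ ((i : ℕ) + 1))) * x i.succ ^ d} =
      AddSubgroup.zmultiples ((((Finset.Icc 1 N).filter (fun δ => δ ∣ d)).gcd (fun δ => d / δ) : ℕ) : ℤ) := by
  apply le_antisymm
  · rw [AddSubgroup.closure_le]
    rintro m ⟨L, hF, hA, hfin, rfl, x, hx, heq⟩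
    letI : Algebra R L := ((algebraMap K L).comp (algebraMap R K)).toAlgebra
    haveI : IsScalarTower R K L := IsScalarTower.of_algebraMap_eq (fun _ => rfl)
    have heq' : x 0 ^ d = ∑ i : Fin N, ((algebraMap R L ϖ) ^ ((i : ℕ) + 1)) * x i.succ ^ d := by
      rw [heq]
      refine Finset.sum_congr rfl fun i _ => ?_
      rw [map_pow, map_pow, IsScalarTower.algebraMap_apply R K L]
    have hdvd := idx_dvd_finrank (K := K) ϖ hϖ d N hd x hx heq'
    rw [SetLike.mem_coe, AddSubgroup.mem_zmultiples_iff]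
    obtain ⟨k, hk⟩ := hdvd
    refine ⟨k, ?_⟩
    rw [hk]
    simp only [idx, smul_eq_mul]
    push_cast
    ring
  · rw [AddSubgroup.zmultiples_le]
    apply natCast_finset_gcd_mem
    intro δ hδ
    rw [Finset.mem_filter, Finset.mem_Icc] at hδ
    apply AddSubgroup.subset_closure
    obtain ⟨L, hF, hA, hfin, hrank, x, hx, heq⟩ := exists_extension (K := K) ϖ hϖ d N δ hd hδ.1.1 hδ.1.2 hδ.2
    exact ⟨L, hF, hA, hfin, by rw [hrank], x, hx, heq⟩

end Groth.Agent.H3.DiagIdx
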