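import Mathlib

set_option autoImplicit false
universe u

namespace Groth.Agent.H3.DiagMon

open MvPolynomial

section Monoid

variable {N : Type*} [AddCommMonoid N] {σ : Type*} (a : σ → N)

/-- `m ↦ ∑ i, m i • a i`. -/
noncomputable def piHom : (σ →₀ ℕ) →+ N :=
  (Finsupp.linearCombination ℕ a).toAddMonoidHom

lemma piHom_apply (m : σ →₀ ℕ) : piHom a m = m.sum fun i k => k • a i := by
  simp [piHom, Finsupp.linearCombination_apply]

lemma piHom_single (i : σ) (k : ℕ) : piHom a (Finsupp.single i k) = k • a i := by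
  simp [piHom]

lemma piHom_mem_closure (m : σ →₀ ℕ) (s : Set σ) (hs : ∀ j, m j ≠ 0 → j ∈ s) :
    piHom a m ∈ AddSubmonoid.closure (a '' s) := by
  rw [piHom_apply]
  refine AddSubmonoid.sum_mem _ fun j hj => ?_
  have hmem : a j ∈ AddSubmonoid.closure (a '' s) :=
    AddSubmonoid.subset_closure (Set.mem_image_of_mem a (hs j (Finsupp.mem_support_iff.mp hj)))
  exact AddSubmonoid.nsmul_mem _ hmem _

lemma piHom_eq_add (m : σ →₀ ℕ) (j : σ) (hj : m j ≠ 0) :
    piHom a m = a j + piHom a (m - Finsupp.single j 1) := by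
  have hle : Finsupp.single j 1 ≤ m := by
    rw [Finsupp.single_le_iff]
    exact Nat.one_le_iff_ne_zero.mpr hj
  conv_lhs => rw [← add_tsub_cancel_of_le hle]
  rw [map_add, piHom_single, one_smul]

lemma piHom_surjective (h : AddSubmonoid.closure (Set.range a) = ⊤) :
    Function.Surjective (piHom a) := by
  intro n
  have hn : n ∈ AddSubmonoid.closure (Set.range a) := h ▸ AddSubmonoid.mem_top n
  induction hn using AddSubmonoid.closure_induction with
  | mem x hx =>
    obtain ⟨i, rfl⟩ := hx
    exact ⟨Finsupp.single i 1, by rw [piHom_single, one_smul]⟩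
  | zero => exact ⟨0, map_zero _⟩
  | add x y _ _ hx hy =>
    obtain ⟨mx, rfl⟩ := hx
    obtain ⟨my, rfl⟩ := hy
    exact ⟨mx + my, map_add _ _ _⟩

variable [IsCancelAdd N] (hsharp : ∀ n : N, IsAddUnit n → n = 0)
  (hmin : ∀ i, a i ∉ AddSubmonoid.closure (a '' {j | j ≠ i}))

omit [IsCancelAdd N] in
include hsharp hmin in
lemma eq_zero_of_piHom_eq_zero (m : σ →₀ ℕ) (h : piHom a m = 0) : m = 0 := by
  by_contra hne
  obtain ⟨j, hj⟩ : ∃ j, m j ≠ 0 := by
    obtain ⟨j, hj⟩ := DFunLike.ne_iff.mp hne
    exact ⟨j, by simpa using hj⟩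
  rw [piHom_eq_add a m j hj] at h
  have hunit : IsAddUnit (a j) :=
    ⟨⟨a j, piHom a (m - Finsupp.single j 1), h, by rw [add_comm]; exact h⟩, rfl⟩
  have h0 : a j = 0 := hsharp _ hunit
  exact hmin j (h0 ▸ zero_mem _)

include hsharp hmin in
lemma eq_single_of_piHom_eq (m : σ →₀ ℕ) (i : σ) (h : piHom a m = a i) :
    m = Finsupp.single i 1 := by
  by_cases hi : m i = 0
  · exfalso
    apply hmin i
    rw [← h]
    apply piHom_mem_closure
    intro j hj
    show j ≠ i
    rintro rfl
    exact hj hi
  · rw [piHom_eq_add a m i hi] at h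
    have h' : piHom a (m - Finsupp.single i 1) = 0 := by
      apply add_left_cancel (a := a i)
      rw [h, add_zero]
    have h0 := eq_zero_of_piHom_eq_zero a hsharp hmin _ h'
    have hle : Finsupp.single i 1 ≤ m := by
      rw [Finsupp.single_le_iff]
      exact Nat.one_le_iff_ne_zero.mpr hi
    calc m = Finsupp.single i 1 + (m - Finsupp.single i 1) := (add_tsub_cancel_of_le hle).symm
      _ = Finsupp.single i 1 := by rw [h0, add_zero]

omit [IsCancelAdd N] in
open Classical in
lemma exists_minimal_gens [AddMonoid.FG N] : ∃ S : Finset N,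
    AddSubmonoid.closure (S : Set N) = ⊤ ∧
      ∀ x ∈ S, x ∉ AddSubmonoid.closure ((S.erase x : Finset N) : Set N) := by
  classical
  have hex : ∃ n : ℕ, ∃ S : Finset N, AddSubmonoid.closure (S : Set N) = ⊤ ∧ S.card = n := by
    obtain ⟨S, hS⟩ := (AddMonoid.fg_def.mp ‹AddMonoid.FG N›)
    exact ⟨S.card, S, hS, rfl⟩
  obtain ⟨S, hS, hcard⟩ := Nat.find_spec hex
  refine ⟨S, hS, fun x hx hmem => ?_⟩
  have hlt : (S.erase x).card < Nat.find hex := by
    rw [← hcard]
    exact Finset.card_erase_lt_of_mem hx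
  refine Nat.find_min hex hlt ⟨S.erase x, ?_, rfl⟩
  rw [eq_top_iff, ← hS, AddSubmonoid.closure_le]
  intro y hy
  by_cases hyx : y = x
  · subst hyx
    exact hmem
  · exact AddSubmonoid.subset_closure (Finset.mem_coe.mpr (Finset.mem_erase.mpr ⟨hyx, hy⟩))

end Monoid

section Alg

variable (R : Type u) [CommRing R] {N : Type*} [AddCommMonoid N] {σ : Type*} (a : σ → N)

/-- The algebra map `R[x_σ] → R[N]`, `x_i ↦ [a i]`. -/
noncomputable def phi : MvPolynomial σ R →ₐ[R] AddMonoidAlgebra R N :=
  AddMonoidAlgebra.mapDomainAlgHom R R (piHom a)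

lemma phi_monomial (m : σ →₀ ℕ) (c : R) :
    phi R a (monomial m c) = AddMonoidAlgebra.single (piHom a m) c := by
  rw [← single_eq_monomial]
  simp [phi]

lemma phi_surjective (h : AddSubmonoid.closure (Set.range a) = ⊤) :
    Function.Surjective (phi R a) := by
  intro x
  induction x using AddMonoidAlgebra.induction with
  | zero => exact ⟨0, map_zero _⟩
  | single_add n c f _ _ ih =>
    obtain ⟨p, hp⟩ := ih
    obtain ⟨m, hm⟩ := piHom_surjective a h n
    exact ⟨monomial m c + p, by rw [map_add, phi_monomial, hm, hp]⟩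

lemma coeff_phi (n : N) (m₀ : σ →₀ ℕ) (h : ∀ m, piHom a m = n ↔ m = m₀)
    (p : MvPolynomial σ R) :
    (phi R a p).coeff n = MvPolynomial.coeff m₀ p := by
  classical
  induction p using MvPolynomial.induction_on' with
  | monomial m c =>
    rw [phi_monomial, coeff_monomial, AddMonoidAlgebra.coeff_single, Finsupp.single_apply]
    simp only [h m]
  | add p q hp hq =>
    rw [map_add, AddMonoidAlgebra.coeff_add, Finsupp.add_apply, hp, hq, coeff_add]

lemma eq_zero_of_mul_eq_zero (g c : MvPolynomial σ R) (hg : g - 1 ∈ idealOfVars σ R)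
    (h : g * c = 0) : c = 0 := by
  have hcc : constantCoeff g = 1 := by
    have h0 : constantCoeff (g - 1) = 0 := by
      have hle : idealOfVars σ R ≤ RingHom.ker (constantCoeff (R := R) (σ := σ)) := by
        rw [Ideal.span_le]
        rintro _ ⟨i, rfl⟩
        simp [RingHom.mem_ker]
      exact hle hg
    rw [map_sub, map_one, sub_eq_zero] at h0
    exact h0
  have hu : IsUnit (g : MvPowerSeries σ R) := by
    rw [MvPowerSeries.isUnit_iff_constantCoeff, ← MvPowerSeries.coeff_zero_eq_constantCoeff_apply,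
      MvPolynomial.coeff_coe, ← MvPolynomial.constantCoeff_eq, hcc]
    exact isUnit_one
  apply MvPolynomial.coe_injective
  have h2 := congrArg (fun x : MvPolynomial σ R => (x : MvPowerSeries σ R)) h
  simp only [MvPolynomial.coe_mul, MvPolynomial.coe_zero] at h2
  rw [MvPolynomial.coe_zero]
  exact (hu.mul_right_eq_zero).mp h2

end Alg

section Main

open KaehlerDifferential TensorProduct

variable (R : Type u) [CommRing R] {N : Type*} [AddCommMonoid N] [IsCancelAdd N]
  {σ : Type*} [Finite σ] (a : σ → N)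

/-- Key theorem: for a minimal generating family `a` of a cancellative sharp monoid `N` with
`R[N]` smooth over `R`, the map `R[x_σ] → R[N]` is bijective. -/
theorem phi_bijective (hsharp : ∀ n : N, IsAddUnit n → n = 0)
    (hgen : AddSubmonoid.closure (Set.range a) = ⊤)
    (hmin : ∀ i, a i ∉ AddSubmonoid.closure (a '' {j | j ≠ i}))
    [Algebra.FormallySmooth R (AddMonoidAlgebra R N)]
    [Algebra.FinitePresentation R (AddMonoidAlgebra R N)] :
    Function.Bijective (phi R a) := by
  classical
  refine ⟨?_, phi_surjective R a hgen⟩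
  letI : Algebra (MvPolynomial σ R) (AddMonoidAlgebra R N) := (phi R a).toRingHom.toAlgebra
  have halg : algebraMap (MvPolynomial σ R) (AddMonoidAlgebra R N) = (phi R a).toRingHom := rfl
  haveI : IsScalarTower R (MvPolynomial σ R) (AddMonoidAlgebra R N) :=
    IsScalarTower.of_algebraMap_eq' (phi R a).comp_algebraMap.symm
  have hsurj : Function.Surjective (algebraMap (MvPolynomial σ R) (AddMonoidAlgebra R N)) :=
    phi_surjective R a hgen
  set K : Ideal (MvPolynomial σ R) :=
    RingHom.ker (algebraMap (MvPolynomial σ R) (AddMonoidAlgebra R N)) with hKdef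
  set 𝔪 : Ideal (MvPolynomial σ R) := idealOfVars σ R with h𝔪
  obtain ⟨l, hl⟩ := (Algebra.FormallySmooth.iff_split_injection (R := R) hsurj).mp inferInstance
  have hmemK : ∀ c, c ∈ K ↔ phi R a c = 0 := fun c => Iff.rfl
  -- coefficients of low degree vanish on `K`
  have h0 : ∀ c ∈ K, coeff 0 c = 0 := by
    intro c hc
    rw [← coeff_phi R a 0 0 (fun m => ⟨eq_zero_of_piHom_eq_zero a hsharp hmin m,
      fun h => by rw [h, map_zero]⟩) c, (hmemK c).mp hc]
    rfl
  have h1 : ∀ c ∈ K, ∀ i, coeff (Finsupp.single i 1) c = 0 := by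
    intro c hc i
    rw [← coeff_phi R a (a i) (Finsupp.single i 1) (fun m => ⟨eq_single_of_piHom_eq a hsharp hmin m i,
      fun h => by rw [h, piHom_single, one_smul]⟩) c, (hmemK c).mp hc]
    rfl
  have hK2 : K ≤ 𝔪 ^ 2 := by
    intro c hc
    rw [mem_pow_idealOfVars_iff']
    intro x hx
    by_cases hx0 : x = 0
    · rw [hx0]; exact h0 c hc
    · obtain ⟨i, hi⟩ : ∃ i, x i ≠ 0 := by
        obtain ⟨i, hi⟩ := DFunLike.ne_iff.mp hx0
        exact ⟨i, by simpa using hi⟩
      have hle : Finsupp.single i 1 ≤ x := by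
        rw [Finsupp.single_le_iff]
        exact Nat.one_le_iff_ne_zero.mpr hi
      have hxe : x = Finsupp.single i 1 + (x - Finsupp.single i 1) :=
        (add_tsub_cancel_of_le hle).symm
      have hdeg : Finsupp.degree x = 1 + Finsupp.degree (x - Finsupp.single i 1) := by
        conv_lhs => rw [hxe]
        rw [map_add, Finsupp.degree_single]
      have hd0 : Finsupp.degree (x - Finsupp.single i 1) = 0 := by omega
      have hx' : x - Finsupp.single i 1 = 0 := (Finsupp.degree_eq_zero_iff _).mp hd0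
      rw [hxe, hx', add_zero]
      exact h1 c hc i
  have hK1 : K ≤ 𝔪 := hK2.trans (Ideal.pow_le_self two_ne_zero)
  -- the key containment
  have key : ∀ c ∈ 𝔪 ^ 2, l ((1 : AddMonoidAlgebra R N) ⊗ₜ[MvPolynomial σ R] D R (MvPolynomial σ R) c) ∈
      𝔪 • (⊤ : Submodule (MvPolynomial σ R) K.Cotangent) := by
    intro c hc
    rw [pow_two] at hc
    refine Submodule.mul_induction_on hc ?_ ?_
    · intro p hp q hq
      rw [Derivation.leibniz, tmul_add, tmul_smul, tmul_smul, map_add, map_smul, map_smul]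
      exact add_mem (Submodule.smul_mem_smul hp trivial) (Submodule.smul_mem_smul hq trivial)
    · intro x y hx hy
      rw [map_add, tmul_add, map_add]
      exact add_mem hx hy
  have hKle : K ≤ 𝔪 • K := by
    intro c hc
    have hcot : K.toCotangent ⟨c, hc⟩ ∈ 𝔪 • (⊤ : Submodule (MvPolynomial σ R) K.Cotangent) := by
      have := key c (hK2 hc)
      rw [← kerCotangentToTensor_toCotangent R (MvPolynomial σ R) (AddMonoidAlgebra R N) ⟨c, hc⟩] at this
      have h2 : l (kerCotangentToTensor R (MvPolynomial σ R) (AddMonoidAlgebra R N)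
          (K.toCotangent ⟨c, hc⟩)) = K.toCotangent ⟨c, hc⟩ := by
        have := LinearMap.congr_fun hl (K.toCotangent ⟨c, hc⟩)
        simpa using this
      rw [h2] at this
      exact this
    have hmap : 𝔪 • (⊤ : Submodule (MvPolynomial σ R) K.Cotangent) =
        Submodule.map K.toCotangent (𝔪 • (⊤ : Submodule (MvPolynomial σ R) K)) := by
      rw [Submodule.map_smul'', Submodule.map_top,
        LinearMap.range_eq_top.mpr (Ideal.toCotangent_surjective K)]
    rw [hmap] at hcot
    obtain ⟨z, hz, hzc⟩ := hcot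
    have hzc' : ((z : MvPolynomial σ R) - c) ∈ K ^ 2 := (Ideal.toCotangent_eq K).mp hzc
    have hzmem : (z : MvPolynomial σ R) ∈ 𝔪 * K := by
      refine Submodule.smul_induction_on hz ?_ ?_
      · intro p hp k _
        exact Ideal.mul_mem_mul hp k.2
      · intro x y hx hy
        exact add_mem hx hy
    have hK2' : K ^ 2 ≤ 𝔪 * K := by
      rw [pow_two]
      exact Ideal.mul_mono_left hK1
    have : c = (z : MvPolynomial σ R) - ((z : MvPolynomial σ R) - c) := by ring
    rw [this, smul_eq_mul]
    exact sub_mem hzmem (hK2' hzc')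
  have hfg : K.FG := Algebra.FinitePresentation.ker_fG_of_surjective (phi R a) (phi_surjective R a hgen)
  obtain ⟨g, hg1, hg⟩ :=
    Submodule.exists_sub_one_mem_and_smul_eq_zero_of_fg_of_le_smul 𝔪 K hfg hKle
  rw [injective_iff_map_eq_zero]
  intro c hc
  exact eq_zero_of_mul_eq_zero R g c hg1 (hg c ((hmemK c).mpr hc))

end Main

theorem main (R : Type u) [CommRing R] (N : Type) [AddCommMonoid N] [AddMonoid.FG N]
    [IsCancelAdd N] (hsharp : ∀ n : N, IsAddUnit n → n = 0)
    [Algebra.Smooth R (AddMonoidAlgebra R N)] :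
    ∃ (P : Type u) (_ : AddCommGroup P) (_ : Module R P), Module.Finite R P ∧
      Module.Projective R P ∧ Nonempty (AddMonoidAlgebra R N ≃ₐ[R] SymmetricAlgebra R P) := by
  classical
  obtain ⟨S, hS, hSmin⟩ := exists_minimal_gens (N := N)
  let a : S → N := Subtype.val
  have hgen : AddSubmonoid.closure (Set.range a) = ⊤ := by
    rw [Subtype.range_coe]
    exact hS
  have hmin : ∀ i, a i ∉ AddSubmonoid.closure (a '' {j | j ≠ i}) := by
    intro i hi
    apply hSmin i.1 i.2
    refine AddSubmonoid.closure_mono ?_ hi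
    rintro _ ⟨j, hj, rfl⟩
    exact Finset.mem_coe.mpr (Finset.mem_erase.mpr ⟨fun h => hj (Subtype.ext h), j.2⟩)
  have hb := phi_bijective R a hsharp hgen hmin
  let e : MvPolynomial S R ≃ₐ[R] AddMonoidAlgebra R N := AlgEquiv.ofBijective (phi R a) hb
  exact ⟨S → R, inferInstance, inferInstance, inferInstance, inferInstance,
    ⟨e.symm.trans (SymmetricAlgebra.equivMvPolynomial (Pi.basisFun R S)).symm⟩⟩

end Groth.Agent.H3.DiagMon
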