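import Mathlib

set_option autoImplicit false
universe u

namespace Groth.Agent.H3.DiagMonGr

open KaehlerDifferential TensorProduct

/-- If `S → A` is a surjection of formally smooth `R`-algebras whose kernel `K` lies in `𝔪 ^ 2`,
then `K ≤ 𝔪 • K`. -/
theorem ker_le_smul_ker {R S A : Type*} [CommRing R] [CommRing S] [CommRing A]
    [Algebra R S] [Algebra R A] [Algebra S A] [IsScalarTower R S A]
    [Algebra.FormallySmooth R S] [Algebra.FormallySmooth R A]
    (hsurj : Function.Surjective (algebraMap S A)) (𝔪 : Ideal S)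
    (hK2 : RingHom.ker (algebraMap S A) ≤ 𝔪 ^ 2) :
    RingHom.ker (algebraMap S A) ≤ 𝔪 • RingHom.ker (algebraMap S A) := by
  set K : Ideal S := RingHom.ker (algebraMap S A) with hKdef
  obtain ⟨l, hl⟩ := (Algebra.FormallySmooth.iff_split_injection (R := R) hsurj).mp inferInstance
  have hK1 : K ≤ 𝔪 := hK2.trans (Ideal.pow_le_self two_ne_zero)
  have key : ∀ c ∈ 𝔪 ^ 2, l ((1 : A) ⊗ₜ[S] D R S c) ∈ 𝔪 • (⊤ : Submodule S K.Cotangent) := by
    intro c hc
    rw [pow_two] at hc
    refine Submodule.mul_induction_on hc ?_ ?_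
    · intro p hp q hq
      rw [Derivation.leibniz, tmul_add, tmul_smul, tmul_smul, map_add, map_smul, map_smul]
      exact add_mem (Submodule.smul_mem_smul hp trivial) (Submodule.smul_mem_smul hq trivial)
    · intro x y hx hy
      rw [map_add, tmul_add, map_add]
      exact add_mem hx hy
  intro c hc
  have hcot : K.toCotangent ⟨c, hc⟩ ∈ 𝔪 • (⊤ : Submodule S K.Cotangent) := by
    have h1 := key c (hK2 hc)
    rw [← kerCotangentToTensor_toCotangent R S A ⟨c, hc⟩] at h1
    have h2 : l (kerCotangentToTensor R S A (K.toCotangent ⟨c, hc⟩)) = K.toCotangent ⟨c, hc⟩ := by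
      have := LinearMap.congr_fun hl (K.toCotangent ⟨c, hc⟩)
      simpa using this
    rw [h2] at h1
    exact h1
  have hmap : 𝔪 • (⊤ : Submodule S K.Cotangent) =
      Submodule.map K.toCotangent (𝔪 • (⊤ : Submodule S K)) := by
    rw [Submodule.map_smul'', Submodule.map_top,
      LinearMap.range_eq_top.mpr (Ideal.toCotangent_surjective K)]
  rw [hmap] at hcot
  obtain ⟨z, hz, hzc⟩ := hcot
  have hzc' : ((z : S) - c) ∈ K ^ 2 := (Ideal.toCotangent_eq K).mp hzc
  have hzmem : (z : S) ∈ 𝔪 * K := by
    refine Submodule.smul_induction_on hz ?_ ?_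
    · intro p hp k _
      exact Ideal.mul_mem_mul hp k.2
    · intro x y hx hy
      exact add_mem hx hy
  have hK2' : K ^ 2 ≤ 𝔪 * K := by
    rw [pow_two]
    exact Ideal.mul_mono_left hK1
  have : c = (z : S) - ((z : S) - c) := by ring
  rw [this, smul_eq_mul]
  exact sub_mem hzmem (hK2' hzc')

/-- A retract of a formally smooth algebra is formally smooth. -/
theorem formallySmooth_of_retract {R T S : Type*} [CommRing R] [CommRing T] [CommRing S]
    [Algebra R T] [Algebra R S] [Algebra.FormallySmooth R T] (f : T →ₐ[R] S) (i : S →ₐ[R] T)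
    (h : f.comp i = AlgHom.id R S) : Algebra.FormallySmooth R S := by
  refine Algebra.FormallySmooth.of_split f ((Ideal.Quotient.mkₐ R _).comp i) ?_
  ext x
  have := congr($h x)
  exact (AlgHom.kerSquareLift_mk f (i x)).trans this

/-- Proper divisibility in a finitely generated cancellative sharp monoid is well-founded. -/
theorem wellFounded_properDvd (N : Type*) [AddCommMonoid N] [AddMonoid.FG N] [IsCancelAdd N]
    (hsharp : ∀ n : N, IsAddUnit n → n = 0) :
    WellFounded (fun a m : N => ∃ b, b ≠ 0 ∧ a + b = m) := by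
  classical
  haveI : IsNoetherianRing (AddMonoidAlgebra ℤ N) := Algebra.FiniteType.isNoetherianRing ℤ _
  let J : N → Ideal (AddMonoidAlgebra ℤ N) :=
    fun n => Ideal.span {AddMonoidAlgebra.single n (1 : ℤ)}
  have hwf : WellFounded (fun I₁ I₂ : Ideal (AddMonoidAlgebra ℤ N) => I₁ > I₂) :=
    (inferInstance : WellFoundedGT (Ideal (AddMonoidAlgebra ℤ N))).wf
  refine Subrelation.wf ?_ (InvImage.wf J hwf)
  rintro a m ⟨b, hb, rfl⟩
  show J a > J (a + b)
  refine lt_of_le_of_ne ?_ ?_
  · rw [Ideal.span_singleton_le_span_singleton]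
    exact ⟨AddMonoidAlgebra.single b 1, by rw [AddMonoidAlgebra.single_mul_single, one_mul]⟩
  · intro heq
    have hmem : AddMonoidAlgebra.single a (1 : ℤ) ∈ J (a + b) := by
      rw [heq]
      exact Ideal.subset_span rfl
    obtain ⟨f, hf⟩ := Ideal.mem_span_singleton.mp hmem
    have h1 : (AddMonoidAlgebra.single a (1 : ℤ)).coeff a =
        (AddMonoidAlgebra.single (a + b) (1 : ℤ) * f).coeff a := by rw [← hf]
    rw [AddMonoidAlgebra.coeff_single_mul_of_forall_add_ne] at h1
    · simp at h1
    · intro d hd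
      have h2 : b + d = 0 := by
        apply add_left_cancel (a := a)
        rw [← add_assoc, hd, add_zero]
      exact hb (hsharp b ⟨⟨b, d, h2, by rw [add_comm]; exact h2⟩, rfl⟩)

end Groth.Agent.H3.DiagMonGr
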