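import Mathlib
import Groth.Agent.Lib.Helper3.DiagMon
import Groth.Agent.Lib.Helper3.DiagMonGr1

set_option autoImplicit false
universe u

namespace Groth.Agent.H3.DiagMonGr

open KaehlerDifferential TensorProduct

section Aug

variable {R B A : Type u} [CommRing R] [CommRing B] [CommRing A] [Algebra R B] [Algebra B A]
  [Algebra R A] [IsScalarTower R B A] (ε : A →ₐ[B] B)

include ε in
/-- The base of an augmented formally smooth algebra is formally smooth. -/
theorem formallySmooth_base [Algebra.FormallySmooth R A] : Algebra.FormallySmooth R B := by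
  refine formallySmooth_of_retract (ε.restrictScalars R) (IsScalarTower.toAlgHom R B A) ?_
  ext b
  simp

include ε in
theorem finiteType_base [Algebra.FiniteType R A] : Algebra.FiniteType R B := by
  refine Algebra.FiniteType.of_surjective (ε.restrictScalars R) ?_
  intro b
  exact ⟨algebraMap B A b, by simp⟩

/-- The conormal module of the augmentation ideal is finite projective over the base. -/
theorem cotangent_finite_projective [Algebra.FormallySmooth R A] [Algebra.FiniteType R A] :
    Module.Finite B (RingHom.ker ε.toRingHom).Cotangent ∧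
      Module.Projective B (RingHom.ker ε.toRingHom).Cotangent := by
  haveI : Algebra.FormallySmooth R B := formallySmooth_base (R := R) ε
  letI : Algebra A B := ε.toRingHom.toAlgebra
  have halg : ∀ a : A, algebraMap A B a = ε a := fun a => rfl
  haveI : IsScalarTower R A B := by
    refine IsScalarTower.of_algebraMap_eq' ?_
    ext r
    simp [halg, IsScalarTower.algebraMap_apply R B A]
  haveI : IsScalarTower B A B := by
    refine IsScalarTower.of_algebraMap_eq' ?_
    ext b
    simp [halg]
  have hsurj : Function.Surjective (algebraMap A B) := fun b => ⟨algebraMap B A b, by simp [halg]⟩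
  obtain ⟨l, hl⟩ := (Algebra.FormallySmooth.iff_split_injection (R := R) hsurj).mp inferInstance
  let κB : (RingHom.ker ε.toRingHom).Cotangent →ₗ[B] B ⊗[A] Ω[A⁄R] :=
    { toFun := kerCotangentToTensor R A B
      map_add' := map_add _
      map_smul' := fun b x => by
        rw [← algebraMap_smul A b x, map_smul, algebraMap_smul, RingHom.id_apply] }
  let lB : B ⊗[A] Ω[A⁄R] →ₗ[B] (RingHom.ker ε.toRingHom).Cotangent :=
    { toFun := l
      map_add' := map_add _
      map_smul' := fun b x => by
        rw [← algebraMap_smul A b x, map_smul, algebraMap_smul, RingHom.id_apply] }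
  have hlκ : lB ∘ₗ κB = LinearMap.id := by
    ext x
    exact LinearMap.congr_fun hl x
  haveI : Module.Finite A Ω[A⁄R] := inferInstance
  constructor
  · refine Module.Finite.of_surjective lB ?_
    intro x
    exact ⟨κB x, LinearMap.congr_fun hlκ x⟩
  · exact Module.Projective.of_split κB lB hlκ

end Aug

section Sym

open MvPolynomial

variable {B : Type u} [CommRing B] {P : Type u} [AddCommGroup P] [Module B P]

/-- A finite projective module is a retract of a finite free one; so its symmetric algebra is a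
retract of a polynomial ring. -/
theorem exists_sym_retract [Module.Finite B P] [Module.Projective B P] :
    ∃ (k : ℕ) (Sf : MvPolynomial (Fin k) B →ₐ[B] SymmetricAlgebra B P)
      (Sg : SymmetricAlgebra B P →ₐ[B] MvPolynomial (Fin k) B),
      Sf.comp Sg = AlgHom.id B _ ∧
      ∀ p : P, Sg (SymmetricAlgebra.ι B P p) ∈ idealOfVars (Fin k) B := by
  obtain ⟨k, f, g, -, -, hfg⟩ := Module.Finite.exists_comp_eq_id_of_projective B P
  let eT : SymmetricAlgebra B (Fin k → B) ≃ₐ[B] MvPolynomial (Fin k) B :=
    SymmetricAlgebra.equivMvPolynomial (Pi.basisFun B (Fin k))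
  let Sf : MvPolynomial (Fin k) B →ₐ[B] SymmetricAlgebra B P :=
    (SymmetricAlgebra.lift ((SymmetricAlgebra.ι B P) ∘ₗ f)).comp eT.symm.toAlgHom
  let Sg : SymmetricAlgebra B P →ₐ[B] MvPolynomial (Fin k) B :=
    eT.toAlgHom.comp (SymmetricAlgebra.lift ((SymmetricAlgebra.ι B (Fin k → B)) ∘ₗ g))
  have hmem : ∀ v : Fin k → B, eT (SymmetricAlgebra.ι B _ v) ∈ idealOfVars (Fin k) B := by
    intro v
    have hv : v ∈ Submodule.span B (Set.range (Pi.basisFun B (Fin k))) := by
      rw [Module.Basis.span_eq]
      trivial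
    induction hv using Submodule.span_induction with
    | mem x hx =>
      obtain ⟨i, rfl⟩ := hx
      rw [SymmetricAlgebra.equivMvPolynomial_ι_apply]
      exact Ideal.subset_span ⟨i, rfl⟩
    | zero => simp
    | add x y _ _ hx hy =>
      rw [map_add, map_add]
      exact add_mem hx hy
    | smul b x _ hx =>
      rw [map_smul, map_smul, Algebra.smul_def]
      exact Ideal.mul_mem_left _ _ hx
  refine ⟨k, Sf, Sg, ?_, ?_⟩
  · apply SymmetricAlgebra.algHom_ext
    ext p
    have h1 : f (g p) = p := LinearMap.congr_fun hfg p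
    simp [Sf, Sg, h1]
  · intro p
    simp only [Sg, AlgHom.comp_apply, SymmetricAlgebra.lift_ι_apply, LinearMap.comp_apply]
    exact hmem (g p)

end Sym

section Main

open MvPolynomial

variable {R B A : Type u} [CommRing R] [CommRing B] [CommRing A] [Algebra R B] [Algebra B A]
  [Algebra R A] [IsScalarTower R B A] (ε : A →ₐ[B] B)
  {P : Type u} [AddCommGroup P] [Module B P]

/-- Every element of `Sym P` is `b + ι p` modulo the square of the ideal generated by `ι P`. -/
theorem exists_decomp (s : SymmetricAlgebra B P) :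
    ∃ (b : B) (p : P), s - algebraMap B _ b - SymmetricAlgebra.ι B P p ∈
      (Ideal.span (Set.range (SymmetricAlgebra.ι B P))) ^ 2 := by
  set 𝔪 : Ideal (SymmetricAlgebra B P) := Ideal.span (Set.range (SymmetricAlgebra.ι B P)) with h𝔪
  have hι : ∀ p, SymmetricAlgebra.ι B P p ∈ 𝔪 := fun p => Ideal.subset_span ⟨p, rfl⟩
  induction s using SymmetricAlgebra.induction with
  | algebraMap r => exact ⟨r, 0, by simp⟩
  | ι x => exact ⟨0, x, by simp⟩
  | mul s s' hs hs' =>
    obtain ⟨b, p, ht⟩ := hs
    obtain ⟨b', p', ht'⟩ := hs'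
    refine ⟨b * b', b • p' + b' • p, ?_⟩
    set t := s - algebraMap B _ b - SymmetricAlgebra.ι B P p with htdef
    set t' := s' - algebraMap B _ b' - SymmetricAlgebra.ι B P p' with htdef'
    have key : s * s' - algebraMap B _ (b * b') - SymmetricAlgebra.ι B P (b • p' + b' • p) =
        SymmetricAlgebra.ι B P p * SymmetricAlgebra.ι B P p' + algebraMap B _ b * t' +
          SymmetricAlgebra.ι B P p * t' + t * s' := by
      rw [map_mul, map_add, map_smul, map_smul, Algebra.smul_def, Algebra.smul_def, htdef, htdef']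
      ring
    rw [key]
    refine add_mem (add_mem (add_mem ?_ ?_) ?_) ?_
    · rw [pow_two]
      exact Ideal.mul_mem_mul (hι p) (hι p')
    · exact Ideal.mul_mem_left _ _ ht'
    · exact Ideal.mul_mem_left _ _ ht'
    · exact Ideal.mul_mem_right _ _ ht
  | add s s' hs hs' =>
    obtain ⟨b, p, ht⟩ := hs
    obtain ⟨b', p', ht'⟩ := hs'
    refine ⟨b + b', p + p', ?_⟩
    have key : s + s' - algebraMap B _ (b + b') - SymmetricAlgebra.ι B P (p + p') =
        (s - algebraMap B _ b - SymmetricAlgebra.ι B P p) +
          (s' - algebraMap B _ b' - SymmetricAlgebra.ι B P p') := by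
      rw [map_add, map_add]
      ring
    rw [key]
    exact add_mem ht ht'

/-- Main injectivity criterion: for an augmented smooth algebra `A → B` with augmentation ideal
`I`, a finite projective `B`-module `P` and a linear map `σ : P → I` inducing an injection
`P → I/I²`, the induced map `Sym_B P → A` is injective as soon as it is surjective. -/
theorem lift_injective_of_surjective [Algebra.FormallySmooth R A] [Algebra.FinitePresentation R A]
    [Module.Finite B P] [Module.Projective B P]
    (σ : P →ₗ[B] A) (hσI : ∀ p, σ p ∈ RingHom.ker ε.toRingHom)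
    (hσ0 : ∀ p, σ p ∈ (RingHom.ker ε.toRingHom) ^ 2 → p = 0)
    (hsurj : Function.Surjective (SymmetricAlgebra.lift σ)) :
    Function.Injective (SymmetricAlgebra.lift σ) := by
  classical
  set Φ : SymmetricAlgebra B P →ₐ[B] A := SymmetricAlgebra.lift σ with hΦ
  set I : Ideal A := RingHom.ker ε.toRingHom with hI
  haveI : Algebra.FormallySmooth R B := formallySmooth_base (R := R) ε
  haveI : Algebra.FiniteType R B := finiteType_base (R := R) ε
  obtain ⟨k, Sf, Sg, hfg, hSg⟩ := exists_sym_retract (B := B) (P := P)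
  have hfg' : ∀ s, Sf (Sg s) = s := fun s => congr($hfg s)
  letI : Algebra R (SymmetricAlgebra B P) :=
    ((algebraMap B (SymmetricAlgebra B P)).comp (algebraMap R B)).toAlgebra
  haveI : IsScalarTower R B (SymmetricAlgebra B P) := IsScalarTower.of_algebraMap_eq' rfl
  haveI : Algebra.FormallySmooth B (SymmetricAlgebra B P) := formallySmooth_of_retract Sf Sg hfg
  haveI : Algebra.FormallySmooth R (SymmetricAlgebra B P) :=
    Algebra.FormallySmooth.comp R B (SymmetricAlgebra B P)
  letI : Algebra (SymmetricAlgebra B P) A := Φ.toRingHom.toAlgebra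
  have halg : ∀ s, algebraMap (SymmetricAlgebra B P) A s = Φ s := fun s => rfl
  haveI : IsScalarTower R (SymmetricAlgebra B P) A := by
    refine IsScalarTower.of_algebraMap_eq' ?_
    ext r
    rw [RingHom.comp_apply, halg, IsScalarTower.algebraMap_apply R B (SymmetricAlgebra B P),
      AlgHom.commutes, ← IsScalarTower.algebraMap_apply]
  set 𝔪 : Ideal (SymmetricAlgebra B P) := Ideal.span (Set.range (SymmetricAlgebra.ι B P)) with h𝔪
  set K : Ideal (SymmetricAlgebra B P) := RingHom.ker (algebraMap (SymmetricAlgebra B P) A) with hK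
  have hmemK : ∀ c, c ∈ K ↔ Φ c = 0 := fun c => Iff.rfl
  have hΦι : ∀ p, Φ (SymmetricAlgebra.ι B P p) = σ p := fun p => SymmetricAlgebra.lift_ι_apply σ p
  -- `Φ` maps `𝔪` into `I`
  have h𝔪I : 𝔪 ≤ I.comap Φ.toRingHom := by
    rw [h𝔪, Ideal.span_le]
    rintro _ ⟨p, rfl⟩
    show Φ (SymmetricAlgebra.ι B P p) ∈ I
    rw [hΦι]
    exact hσI p
  have h𝔪I2 : ∀ t ∈ 𝔪 ^ 2, Φ t ∈ I ^ 2 := by
    intro t ht
    have h1 : 𝔪 ^ 2 ≤ (I ^ 2).comap Φ.toRingHom :=
      (Ideal.pow_right_mono h𝔪I 2).trans (Ideal.le_comap_pow _ 2)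
    exact h1 ht
  have hεI : ∀ x ∈ I, ε x = 0 := fun x hx => hx
  -- the kernel lies in `𝔪 ^ 2`
  have hK2 : K ≤ 𝔪 ^ 2 := by
    intro c hc
    obtain ⟨b, p, ht⟩ := exists_decomp (B := B) (P := P) c
    have hc0 : Φ c = 0 := (hmemK c).mp hc
    set t := c - algebraMap B _ b - SymmetricAlgebra.ι B P p with htdef
    have hceq : c = algebraMap B _ b + SymmetricAlgebra.ι B P p + t := by rw [htdef]; ring
    have hΦc : algebraMap B A b + σ p + Φ t = 0 := by
      rw [← hc0, hceq, map_add, map_add, AlgHom.commutes, hΦι]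
    have hΦt : Φ t ∈ I ^ 2 := h𝔪I2 t ht
    have hb : b = 0 := by
      have h1 := congrArg ε hΦc
      rw [map_add, map_add, map_zero, AlgHom.commutes, hεI _ (hσI p),
        hεI _ (Ideal.pow_le_self two_ne_zero hΦt), add_zero, add_zero] at h1
      exact h1
    have hp : p = 0 := by
      apply hσ0
      have h2 : σ p = - Φ t := by
        rw [hb, map_zero, zero_add] at hΦc
        exact eq_neg_of_add_eq_zero_left hΦc
      rw [h2]
      exact neg_mem hΦt
    rw [hceq, hb, hp, map_zero, map_zero, zero_add, zero_add]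
    exact ht
  have hKle : K ≤ 𝔪 • K := ker_le_smul_ker (R := R) hsurj 𝔪 hK2
  -- finite generation of the kernel
  haveI : Algebra.FinitePresentation B A :=
    Algebra.FinitePresentation.of_restrict_scalars_finitePresentation R B A
  have hSfsurj : Function.Surjective Sf := fun s => ⟨Sg s, hfg' s⟩
  have hfgK : K.FG := by
    have h0 : (RingHom.ker (Φ.comp Sf).toRingHom).FG :=
      Algebra.FinitePresentation.ker_fg_of_mvPolynomial (Φ.comp Sf) (hsurj.comp hSfsurj)
    have h1 : RingHom.ker (Φ.comp Sf).toRingHom = K.comap Sf.toRingHom := by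
      ext x
      rw [Ideal.mem_comap, hmemK, RingHom.mem_ker]
      rfl
    rw [h1] at h0
    have h2 := h0.map Sf.toRingHom
    rwa [Ideal.map_comap_of_surjective Sf.toRingHom hSfsurj] at h2
  obtain ⟨g, hg1, hg⟩ :=
    Submodule.exists_sub_one_mem_and_smul_eq_zero_of_fg_of_le_smul 𝔪 K hfgK hKle
  rw [injective_iff_map_eq_zero]
  intro c hc
  have hgc : g * c = 0 := hg c ((hmemK c).mpr hc)
  have hSg𝔪 : ∀ x ∈ 𝔪, Sg x ∈ idealOfVars (Fin k) B := by
    intro x hx
    have hle : 𝔪 ≤ (idealOfVars (Fin k) B).comap Sg.toRingHom := by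
      rw [h𝔪, Ideal.span_le]
      rintro _ ⟨p, rfl⟩
      exact hSg p
    exact hle hx
  have h1 : Sg g - 1 ∈ idealOfVars (Fin k) B := by
    have := hSg𝔪 _ hg1
    rwa [map_sub, map_one] at this
  have h2 : Sg g * Sg c = 0 := by rw [← map_mul, hgc, map_zero]
  have h3 : Sg c = 0 := Groth.Agent.H3.DiagMon.eq_zero_of_mul_eq_zero B (Sg g) (Sg c) h1 h2
  rw [← hfg' c, h3, map_zero]

end Main

end Groth.Agent.H3.DiagMonGr
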