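import Mathlib
import Groth.Agent.Lib.Helper3.DiagMonGr2

set_option autoImplicit false
universe u

namespace Groth.Agent.H3.DiagMonGr

open DirectSum

section Graded

variable {R : Type u} [CommRing R] {A : Type u} [CommRing A] [Algebra R A] {N : Type}
  [AddCommMonoid N] [DecidableEq N] (𝒜 : N → Submodule R A) [GradedAlgebra 𝒜]

instance isScalarTower_gradeZero : IsScalarTower R (𝒜 0) A :=
  IsScalarTower.of_algebraMap_eq (fun _ => rfl)

/-- the `n`-th homogeneous component, as a function -/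
noncomputable def pr (n : N) (x : A) : A := (decompose 𝒜 x n : A)

lemma pr_mem (n : N) (x : A) : pr 𝒜 n x ∈ 𝒜 n := (decompose 𝒜 x n).2

lemma pr_add (n : N) (x y : A) : pr 𝒜 n (x + y) = pr 𝒜 n x + pr 𝒜 n y := by
  simp [pr, decompose_add]

lemma pr_zero (n : N) : pr 𝒜 n 0 = 0 := by simp [pr]

lemma pr_of_mem {m : N} {w : A} (hw : w ∈ 𝒜 m) (n : N) :
    pr 𝒜 n w = if m = n then w else 0 := by
  split_ifs with h
  · subst h
    exact decompose_of_mem_same 𝒜 hw
  · exact decompose_of_mem_ne 𝒜 hw h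

lemma pr_sum {ι : Type*} (s : Finset ι) (f : ι → A) (n : N) :
    pr 𝒜 n (∑ i ∈ s, f i) = ∑ i ∈ s, pr 𝒜 n (f i) := by
  classical
  induction s using Finset.induction_on with
  | empty => simp [pr_zero]
  | insert a s ha ih => rw [Finset.sum_insert ha, Finset.sum_insert ha, pr_add, ih]

open Classical in
lemma sum_pr (x : A) : ∑ n ∈ (decompose 𝒜 x).support, pr 𝒜 n x = x :=
  sum_support_decompose 𝒜 x

lemma mul_mem_zero_left {b x : A} {a : N} (hb : b ∈ 𝒜 0) (hx : x ∈ 𝒜 a) : b * x ∈ 𝒜 a := by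
  have := SetLike.mul_mem_graded hb hx
  rwa [zero_add] at this

lemma pr_mul_of_mem_zero {b : A} (hb : b ∈ 𝒜 0) (n : N) (x : A) :
    pr 𝒜 n (b * x) = b * pr 𝒜 n x := by
  induction x using DirectSum.Decomposition.inductionOn 𝒜 with
  | zero => simp [pr_zero]
  | homogeneous x =>
    rename_i a
    rw [pr_of_mem 𝒜 (mul_mem_zero_left 𝒜 hb x.2), pr_of_mem 𝒜 x.2]
    split_ifs <;> simp
  | add x y hx hy => rw [mul_add, pr_add, pr_add, hx, hy, mul_add]

/-- the `n`-th homogeneous component as an `𝒜 0`-linear map -/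
noncomputable def prB (n : N) : A →ₗ[𝒜 0] A where
  toFun := pr 𝒜 n
  map_add' := pr_add 𝒜 n
  map_smul' b x := by
    show pr 𝒜 n ((b : A) * x) = (b : A) * pr 𝒜 n x
    exact pr_mul_of_mem_zero 𝒜 b.2 n x

@[simp] lemma prB_apply (n : N) (x : A) : prB 𝒜 n x = pr 𝒜 n x := rfl

variable (hsharp : ∀ n : N, IsAddUnit n → n = 0)

omit [DecidableEq N] in
include hsharp in
lemma add_eq_zero_left {a b : N} (h : a + b = 0) : a = 0 :=
  hsharp a ⟨⟨a, b, h, by rw [add_comm]; exact h⟩, rfl⟩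

include hsharp in
lemma pr_zero_mul (x y : A) : pr 𝒜 0 (x * y) = pr 𝒜 0 x * pr 𝒜 0 y := by
  induction x using DirectSum.Decomposition.inductionOn 𝒜 with
  | zero => simp [pr_zero]
  | homogeneous x =>
    rename_i a
    induction y using DirectSum.Decomposition.inductionOn 𝒜 with
    | zero => simp [pr_zero]
    | homogeneous y =>
      rename_i b
      rw [pr_of_mem 𝒜 (SetLike.mul_mem_graded x.2 y.2), pr_of_mem 𝒜 x.2, pr_of_mem 𝒜 y.2]
      by_cases ha : a = 0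
      · by_cases hb : b = 0
        · simp [ha, hb]
        · have : a + b ≠ 0 := by rw [ha, zero_add]; exact hb
          simp [hb, this]
      · have : a + b ≠ 0 := fun h => ha (add_eq_zero_left hsharp h)
        simp [ha, this]
    | add y z hy hz => rw [mul_add, pr_add, pr_add, hy, hz, mul_add]
  | add x z hx hz => rw [add_mul, pr_add, pr_add, hx, hz, add_mul]

/-- The augmentation `A → A₀`. -/
noncomputable def eps : A →ₐ[𝒜 0] 𝒜 0 where
  toFun x := decompose 𝒜 x 0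
  map_one' := by
    apply Subtype.ext
    exact decompose_of_mem_same 𝒜 (SetLike.GradedOne.one_mem)
  map_mul' x y := by
    apply Subtype.ext
    exact pr_zero_mul 𝒜 hsharp x y
  map_zero' := by simp
  map_add' x y := by simp [decompose_add]
  commutes' b := by
    apply Subtype.ext
    exact decompose_of_mem_same 𝒜 b.2

lemma coe_eps (x : A) : ((eps 𝒜 hsharp x : 𝒜 0) : A) = pr 𝒜 0 x := rfl

lemma mem_ker_eps_iff (x : A) : x ∈ RingHom.ker (eps 𝒜 hsharp).toRingHom ↔ pr 𝒜 0 x = 0 := by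
  rw [RingHom.mem_ker]
  constructor
  · intro h
    have := congrArg (Subtype.val) h
    exact this
  · intro h
    apply Subtype.ext
    exact h

end Graded

section Lift

/-- Factor a linear map through a surjection killing it. -/
lemma exists_lift_of_surjective {B M N' M' : Type*} [CommRing B] [AddCommGroup M]
    [AddCommGroup N'] [AddCommGroup M'] [Module B M] [Module B N'] [Module B M']
    (f : M →ₗ[B] N') (hf : Function.Surjective f) (g : M →ₗ[B] M')
    (h : ∀ x, f x = 0 → g x = 0) : ∃ g' : N' →ₗ[B] M', ∀ x, g' (f x) = g x := by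
  refine ⟨((LinearMap.ker f).liftQ g (fun x hx => h x hx)).comp
    (f.quotKerEquivOfSurjective hf).symm.toLinearMap, fun x => ?_⟩
  have h1 : (f.quotKerEquivOfSurjective hf).symm (f x) = Submodule.Quotient.mk x := by
    rw [LinearEquiv.symm_apply_eq]
    rfl
  simp [h1]

end Lift

section Graded2

variable {R : Type u} [CommRing R] {A : Type u} [CommRing A] [Algebra R A] {N : Type}
  [AddCommMonoid N] [DecidableEq N] (𝒜 : N → Submodule R A) [GradedAlgebra 𝒜]
  (hsharp : ∀ n : N, IsAddUnit n → n = 0)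

/-- The augmentation ideal. -/
noncomputable abbrev augI : Ideal A := RingHom.ker (eps 𝒜 hsharp).toRingHom

lemma mem_augI_of_mem {m : N} (hm : m ≠ 0) {x : A} (hx : x ∈ 𝒜 m) : x ∈ augI 𝒜 hsharp := by
  rw [mem_ker_eps_iff, pr_of_mem 𝒜 hx, if_neg hm]

lemma pr_mem_augI (n : N) {x : A} (hx : x ∈ augI 𝒜 hsharp) : pr 𝒜 n x ∈ augI 𝒜 hsharp := by
  rw [mem_ker_eps_iff] at hx ⊢
  rw [pr_of_mem 𝒜 (pr_mem 𝒜 n x)]
  split_ifs with h
  · subst h
    exact hx
  · rfl

lemma pr_mul_mem_sq (n : N) {y z : A} (hy : y ∈ augI 𝒜 hsharp) (hz : z ∈ augI 𝒜 hsharp) :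
    pr 𝒜 n (y * z) ∈ (augI 𝒜 hsharp) ^ 2 := by
  classical
  have key : ∀ a b, pr 𝒜 n (pr 𝒜 a y * pr 𝒜 b z) ∈ (augI 𝒜 hsharp) ^ 2 := by
    intro a b
    rw [pr_of_mem 𝒜 (SetLike.mul_mem_graded (pr_mem 𝒜 a y) (pr_mem 𝒜 b z))]
    split_ifs
    · rw [pow_two]
      exact Ideal.mul_mem_mul (pr_mem_augI 𝒜 hsharp a hy) (pr_mem_augI 𝒜 hsharp b hz)
    · exact zero_mem _
  have h1 : y * z = ∑ a ∈ (decompose 𝒜 y).support, ∑ b ∈ (decompose 𝒜 z).support,
      pr 𝒜 a y * pr 𝒜 b z := by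
    rw [← Finset.sum_mul_sum, sum_pr, sum_pr]
  rw [h1, pr_sum]
  refine sum_mem fun a _ => ?_
  rw [pr_sum]
  exact sum_mem fun b _ => key a b

lemma pr_mem_sq (n : N) {w : A} (hw : w ∈ (augI 𝒜 hsharp) ^ 2) :
    pr 𝒜 n w ∈ (augI 𝒜 hsharp) ^ 2 := by
  have hw' := hw
  rw [pow_two] at hw'
  refine Submodule.mul_induction_on hw' ?_ ?_
  · intro y hy z hz
    exact pr_mul_mem_sq 𝒜 hsharp n hy hz
  · intro x y hx hy
    rw [pr_add]
    exact add_mem hx hy

/-- the projection on the augmentation ideal -/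
noncomputable def prI (n : N) : ↥(augI 𝒜 hsharp) →ₗ[𝒜 0] ↥(augI 𝒜 hsharp) where
  toFun x := ⟨pr 𝒜 n x.1, pr_mem_augI 𝒜 hsharp n x.2⟩
  map_add' x y := Subtype.ext (pr_add 𝒜 n x.1 y.1)
  map_smul' b x := Subtype.ext (by
    show pr 𝒜 n ((b : A) * x.1) = (b : A) * pr 𝒜 n x.1
    exact pr_mul_of_mem_zero 𝒜 b.2 n x.1)

@[simp] lemma coe_prI (n : N) (x : ↥(augI 𝒜 hsharp)) :
    ((prI 𝒜 hsharp n x : ↥(augI 𝒜 hsharp)) : A) = pr 𝒜 n x.1 := rfl

/-- the quotient map `I → I/I²` as an `𝒜 0`-linear map -/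
noncomputable def qB : ↥(augI 𝒜 hsharp) →ₗ[𝒜 0] (augI 𝒜 hsharp).Cotangent :=
  (augI 𝒜 hsharp).toCotangent.restrictScalars (𝒜 0)

lemma qB_surjective : Function.Surjective (qB 𝒜 hsharp) :=
  (augI 𝒜 hsharp).toCotangent_surjective

lemma qB_eq_zero_iff (x : ↥(augI 𝒜 hsharp)) :
    qB 𝒜 hsharp x = 0 ↔ (x : A) ∈ (augI 𝒜 hsharp) ^ 2 :=
  (augI 𝒜 hsharp).toCotangent_eq_zero x

lemma exists_pQ (n : N) : ∃ g' : (augI 𝒜 hsharp).Cotangent →ₗ[𝒜 0] (augI 𝒜 hsharp).Cotangent,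
    ∀ x, g' (qB 𝒜 hsharp x) = qB 𝒜 hsharp (prI 𝒜 hsharp n x) := by
  refine exists_lift_of_surjective (qB 𝒜 hsharp) (qB_surjective 𝒜 hsharp)
    ((qB 𝒜 hsharp).comp (prI 𝒜 hsharp n)) ?_
  intro x hx
  rw [LinearMap.comp_apply, qB_eq_zero_iff, coe_prI]
  exact pr_mem_sq 𝒜 hsharp n ((qB_eq_zero_iff 𝒜 hsharp x).mp hx)

/-- the projection on `I/I²` -/
noncomputable def pQ (n : N) : (augI 𝒜 hsharp).Cotangent →ₗ[𝒜 0] (augI 𝒜 hsharp).Cotangent :=
  Classical.choose (exists_pQ 𝒜 hsharp n)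

lemma pQ_qB (n : N) (x : ↥(augI 𝒜 hsharp)) :
    pQ 𝒜 hsharp n (qB 𝒜 hsharp x) = qB 𝒜 hsharp (prI 𝒜 hsharp n x) :=
  Classical.choose_spec (exists_pQ 𝒜 hsharp n) x

lemma prI_prI (n : N) (x : ↥(augI 𝒜 hsharp)) :
    prI 𝒜 hsharp n (prI 𝒜 hsharp n x) = prI 𝒜 hsharp n x := by
  apply Subtype.ext
  rw [coe_prI, coe_prI, pr_of_mem 𝒜 (pr_mem 𝒜 n x.1), if_pos rfl]

lemma pQ_pQ (n : N) (p : (augI 𝒜 hsharp).Cotangent) :
    pQ 𝒜 hsharp n (pQ 𝒜 hsharp n p) = pQ 𝒜 hsharp n p := by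
  obtain ⟨x, rfl⟩ := qB_surjective 𝒜 hsharp p
  rw [pQ_qB, pQ_qB, prI_prI]

open Classical in
lemma exists_finset_sum_pQ [Module.Finite (𝒜 0) (augI 𝒜 hsharp).Cotangent] :
    ∃ T : Finset N, ∀ p : (augI 𝒜 hsharp).Cotangent, ∑ n ∈ T, pQ 𝒜 hsharp n p = p := by
  obtain ⟨G, hG⟩ := (Module.Finite.fg_top (R := 𝒜 0) (M := (augI 𝒜 hsharp).Cotangent))
  let y : (augI 𝒜 hsharp).Cotangent → ↥(augI 𝒜 hsharp) := Function.surjInv (qB_surjective 𝒜 hsharp)
  have hy : ∀ p, qB 𝒜 hsharp (y p) = p := Function.surjInv_eq (qB_surjective 𝒜 hsharp)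
  let T : Finset N := G.biUnion fun p => (decompose 𝒜 (y p).1).support
  refine ⟨T, ?_⟩
  have hL : (∑ n ∈ T, pQ 𝒜 hsharp n) = LinearMap.id := by
    apply LinearMap.ext_on hG
    intro p hp
    rw [LinearMap.sum_apply, LinearMap.id_apply]
    have h1 : ∀ n, pQ 𝒜 hsharp n p = qB 𝒜 hsharp (prI 𝒜 hsharp n (y p)) := by
      intro n
      rw [← pQ_qB, hy]
    simp_rw [h1]
    rw [← map_sum]
    conv_rhs => rw [← hy p]
    congr 1
    apply Subtype.ext
    rw [AddSubmonoidClass.coe_finsetSum]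
    simp only [coe_prI]
    have hsub : (decompose 𝒜 (y p).1).support ⊆ T := by
      intro n hn
      exact Finset.mem_biUnion.mpr ⟨p, hp, hn⟩
    rw [← Finset.sum_subset hsub, sum_pr]
    intro n _ hn
    have : decompose 𝒜 (y p).1 n = 0 := DFinsupp.notMem_support_iff.mp hn
    simp [pr, this]
  intro p
  have := LinearMap.congr_fun hL p
  rwa [LinearMap.sum_apply, LinearMap.id_apply] at this

end Graded2

section Graded3

variable {R : Type u} [CommRing R] {A : Type u} [CommRing A] [Algebra R A] {N : Type}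
  [AddCommMonoid N] [DecidableEq N] (𝒜 : N → Submodule R A) [GradedAlgebra 𝒜]
  (hsharp : ∀ n : N, IsAddUnit n → n = 0)

/-- Existence of a graded section of `I → I/I²`. -/
theorem exists_graded_section [Module.Finite (𝒜 0) (augI 𝒜 hsharp).Cotangent]
    [Module.Projective (𝒜 0) (augI 𝒜 hsharp).Cotangent] :
    ∃ σI : (augI 𝒜 hsharp).Cotangent →ₗ[𝒜 0] ↥(augI 𝒜 hsharp),
      (∀ p, qB 𝒜 hsharp (σI p) = p) ∧
      ∀ (m : N) (x : ↥(augI 𝒜 hsharp)), (x : A) ∈ 𝒜 m → ((σI (qB 𝒜 hsharp x) : ↥(augI 𝒜 hsharp)) : A) ∈ 𝒜 m := by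
  classical
  obtain ⟨T, hT⟩ := exists_finset_sum_pQ 𝒜 hsharp
  obtain ⟨τ, hτ⟩ := Module.projective_lifting_property (qB 𝒜 hsharp) LinearMap.id
    (qB_surjective 𝒜 hsharp)
  have hτ' : ∀ p, qB 𝒜 hsharp (τ p) = p := fun p => LinearMap.congr_fun hτ p
  refine ⟨∑ n ∈ T, (prI 𝒜 hsharp n).comp (τ.comp (pQ 𝒜 hsharp n)), ?_, ?_⟩
  · intro p
    rw [LinearMap.sum_apply, map_sum]
    conv_rhs => rw [← hT p]
    refine Finset.sum_congr rfl fun n _ => ?_
    rw [LinearMap.comp_apply, LinearMap.comp_apply, ← pQ_qB, hτ', pQ_pQ]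
  · intro m x hx
    rw [LinearMap.sum_apply, AddSubmonoidClass.coe_finsetSum]
    refine Submodule.sum_mem _ fun n _ => ?_
    rw [LinearMap.comp_apply, LinearMap.comp_apply, pQ_qB, coe_prI]
    by_cases hnm : m = n
    · subst hnm
      exact pr_mem 𝒜 m _
    · have h0 : prI 𝒜 hsharp n x = 0 := by
        apply Subtype.ext
        rw [coe_prI, pr_of_mem 𝒜 hx, if_neg hnm]
        rfl
      rw [h0, map_zero, map_zero]
      simp [pr_zero]

variable [AddMonoid.FG N] [IsCancelAdd N]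

/-- Surjectivity of `Sym(I/I²) → A` for a graded section. -/
theorem lift_surjective_of_graded
    (σI : (augI 𝒜 hsharp).Cotangent →ₗ[𝒜 0] ↥(augI 𝒜 hsharp))
    (hσq : ∀ p, qB 𝒜 hsharp (σI p) = p)
    (hσgr : ∀ (m : N) (x : ↥(augI 𝒜 hsharp)), (x : A) ∈ 𝒜 m →
      ((σI (qB 𝒜 hsharp x) : ↥(augI 𝒜 hsharp)) : A) ∈ 𝒜 m)
    (σ : (augI 𝒜 hsharp).Cotangent →ₗ[𝒜 0] A) (hσ : ∀ p, σ p = (σI p : A)) :
    Function.Surjective (SymmetricAlgebra.lift σ) := by
  classical
  set Φ : SymmetricAlgebra (𝒜 0) (augI 𝒜 hsharp).Cotangent →ₐ[𝒜 0] A := SymmetricAlgebra.lift σ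
    with hΦ
  have hΦι : ∀ p, Φ (SymmetricAlgebra.ι _ _ p) = σ p := fun p => SymmetricAlgebra.lift_ι_apply σ p
  -- every homogeneous element is in the range
  have hhom : ∀ m : N, ∀ x ∈ 𝒜 m, x ∈ Φ.range := by
    intro m
    induction m using (wellFounded_properDvd N hsharp).induction with
    | _ m ih =>
    intro x hx
    by_cases hm : m = 0
    · subst hm
      exact ⟨algebraMap (𝒜 0) _ ⟨x, hx⟩, (Φ.commutes ⟨x, hx⟩)⟩
    · have hxI : x ∈ augI 𝒜 hsharp := mem_augI_of_mem 𝒜 hsharp hm hx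
      -- products of elements of `I` have `m`-component in the range
      have hprod : ∀ w ∈ (augI 𝒜 hsharp) ^ 2, pr 𝒜 m w ∈ Φ.range := by
        intro w hw
        rw [pow_two] at hw
        refine Submodule.mul_induction_on hw ?_ ?_
        · intro y hy z hz
          have h1 : y * z = ∑ a ∈ (decompose 𝒜 y).support, ∑ b ∈ (decompose 𝒜 z).support,
              pr 𝒜 a y * pr 𝒜 b z := by
            rw [← Finset.sum_mul_sum, sum_pr, sum_pr]
          rw [h1, pr_sum]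
          refine Subalgebra.sum_mem _ fun a _ => ?_
          rw [pr_sum]
          refine Subalgebra.sum_mem _ fun b _ => ?_
          rw [pr_of_mem 𝒜 (SetLike.mul_mem_graded (pr_mem 𝒜 a y) (pr_mem 𝒜 b z))]
          split_ifs with hab
          · by_cases ha : a = 0
            · have : pr 𝒜 a y = 0 := by
                rw [ha]
                exact (mem_ker_eps_iff 𝒜 hsharp y).mp hy
              rw [this, zero_mul]
              exact Subalgebra.zero_mem _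
            · by_cases hb : b = 0
              · have : pr 𝒜 b z = 0 := by
                  rw [hb]
                  exact (mem_ker_eps_iff 𝒜 hsharp z).mp hz
                rw [this, mul_zero]
                exact Subalgebra.zero_mem _
              · have h2 : pr 𝒜 a y ∈ Φ.range := ih a ⟨b, hb, hab⟩ _ (pr_mem 𝒜 a y)
                have h3 : pr 𝒜 b z ∈ Φ.range :=
                  ih b ⟨a, ha, by rw [add_comm]; exact hab⟩ _ (pr_mem 𝒜 b z)
                exact Subalgebra.mul_mem _ h2 h3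
          · exact Subalgebra.zero_mem _
        · intro w₁ w₂ h1 h2
          rw [pr_add]
          exact Subalgebra.add_mem _ h1 h2
      set xI : ↥(augI 𝒜 hsharp) := ⟨x, hxI⟩ with hxIdef
      have hs : σ (qB 𝒜 hsharp xI) ∈ Φ.range := ⟨SymmetricAlgebra.ι _ _ (qB 𝒜 hsharp xI), hΦι _⟩
      have hsm : σ (qB 𝒜 hsharp xI) ∈ 𝒜 m := by
        rw [hσ]
        exact hσgr m xI hx
      set w : A := x - σ (qB 𝒜 hsharp xI) with hwdef
      have hwm : w ∈ 𝒜 m := sub_mem hx hsm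
      have hw2 : w ∈ (augI 𝒜 hsharp) ^ 2 := by
        have h1 : qB 𝒜 hsharp (xI - σI (qB 𝒜 hsharp xI)) = 0 := by
          rw [map_sub, hσq, sub_self]
        have h2 := (qB_eq_zero_iff 𝒜 hsharp _).mp h1
        rw [hwdef, hσ]
        exact h2
      have hwr : w ∈ Φ.range := by
        have := hprod w hw2
        rwa [pr_of_mem 𝒜 hwm, if_pos rfl] at this
      have : x = w + σ (qB 𝒜 hsharp xI) := by rw [hwdef]; ring
      rw [this]
      exact Subalgebra.add_mem _ hwr hs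
  intro x
  have hx : x ∈ Φ.range := by
    rw [← sum_pr 𝒜 x]
    exact Subalgebra.sum_mem _ fun n _ => hhom n _ (pr_mem 𝒜 n x)
  exact hx

end Graded3

/-- Main theorem: a smooth algebra graded by a fine sharp monoid is a symmetric algebra over its
degree zero part. -/
theorem main (R : Type u) [CommRing R] (A : Type u) [CommRing A] [Algebra R A] (N : Type)
    [AddCommMonoid N] [DecidableEq N] [AddMonoid.FG N] [IsCancelAdd N]
    (hsharp : ∀ n : N, IsAddUnit n → n = 0) (𝒜 : N → Submodule R A) [GradedAlgebra 𝒜]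
    [Algebra.Smooth R A] :
    ∃ (P : Type u) (_ : AddCommGroup P) (_ : Module (𝒜 0) P), Module.Finite (𝒜 0) P ∧
      Module.Projective (𝒜 0) P ∧ Nonempty (A ≃ₐ[𝒜 0] SymmetricAlgebra (𝒜 0) P) := by
  classical
  obtain ⟨hfin, hproj⟩ := cotangent_finite_projective (R := R) (eps 𝒜 hsharp)
  haveI := hfin
  haveI := hproj
  obtain ⟨σI, hσq, hσgr⟩ := exists_graded_section 𝒜 hsharp
  let σ : (augI 𝒜 hsharp).Cotangent →ₗ[𝒜 0] A :=
    ((augI 𝒜 hsharp).subtype.restrictScalars (𝒜 0)).comp σI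
  have hσ : ∀ p, σ p = (σI p : A) := fun p => rfl
  have hsurj := lift_surjective_of_graded 𝒜 hsharp σI hσq hσgr σ hσ
  have hσ0 : ∀ p, σ p ∈ (augI 𝒜 hsharp) ^ 2 → p = 0 := by
    intro p hp
    rw [← hσq p]
    exact (qB_eq_zero_iff 𝒜 hsharp _).mpr hp
  have hinj := lift_injective_of_surjective (R := R) (eps 𝒜 hsharp) σ (fun p => (σI p).2) hσ0 hsurj
  exact ⟨(augI 𝒜 hsharp).Cotangent, inferInstance, inferInstance, hfin, hproj,
    ⟨(AlgEquiv.ofBijective _ ⟨hinj, hsurj⟩).symm⟩⟩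

end Groth.Agent.H3.DiagMonGr
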