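import Mathlib
import Groth.Prelude.Def_Red2
import Groth.Prelude.Def_TwC
import Groth.Agent.Lib.Helper3.RigidAct
import Groth.Agent.Lib.Helper3.DiagDS

/-! Rigidity of homomorphisms out of groups of multiplicative type: a homomorphism which is trivial
modulo a locally nilpotent ideal is trivial. -/

universe u

open CategoryTheory MonoidalCategory CartesianMonoidalCategory MonObj GrpObj AlgebraicGeometry Limits
open Groth.Agent.H3.RigidAct

namespace Groth.Agent.H3.DiagRigid

section General

variable {S S₀ : Scheme.{u}} {G X : Over S} [GrpObj G] [GrpObj X]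

/-- left translation through a homomorphism, as a pointwise action. -/
noncomputable def transl (v : G ⟶ X) [IsMonHom v] : PtAction G X where
  smul g h := (g ≫ v) * h
  one_smul {T} h := by
    have h1 : (1 : T ⟶ G) ≫ v = 1 := MonObj.one_comp v
    rw [h1, _root_.one_mul]
  mul_smul g g' h := by
    have h1 : (g * g') ≫ v = (g ≫ v) * (g' ≫ v) := MonObj.mul_comp g g' v
    rw [h1, _root_.mul_assoc]
  comp_smul φ g h := by
    rw [MonObj.comp_mul, Category.assoc]

theorem transl_smul (v : G ⟶ X) [IsMonHom v] {T : Over S} (g : T ⟶ G) (x : T ⟶ X) :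
    (transl v).smul g x = (g ≫ v) * x := rfl

variable (i₀ : S₀ ⟶ S)

/-- a homomorphism whose base change along `i₀` is trivial kills every point lying over `S₀`. -/
theorem comp_eq_one_of_factors (f : G ⟶ X)
    (h : (Over.pullback i₀).map f = 1)
    (T : Over S) (p : T.left ⟶ S₀) (hp : p ≫ i₀ = T.hom) (g : T ⟶ G) : g ≫ f = 1 := by
  let T₀ : Over S₀ := Over.mk p
  let j : (Over.map i₀).obj T₀ ≅ T := Over.isoMk (Iso.refl T.left) (by simpa [T₀] using hp.symm)
  have h1 : j.hom ≫ g ≫ f = 1 := by
    rw [← Category.assoc, ← tp_tpInv i₀ G (j.hom ≫ g)]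
    have h2 : tp i₀ G (tpInv i₀ G (j.hom ≫ g)) ≫ f =
        tp i₀ X (tpInv i₀ G (j.hom ≫ g) ≫ (Over.pullback i₀).map f) :=
      ((Over.mapPullbackAdj i₀).homEquiv_naturality_right_symm _ f).symm
    rw [h2, h, MonObj.comp_one, tp_one]
  have h3 : j.hom ≫ g ≫ f = j.hom ≫ 1 := by rw [h1, MonObj.comp_one]
  exact (cancel_epi j.hom).mp h3

variable [IsClosedImmersion i₀]
  (hnil : ∀ x : S, ∃ U : S.affineOpens, x ∈ (U : S.Opens) ∧ IsNilpotent (i₀.ker.ideal U))

include hnil in
/-- a homomorphism out of a diagonalisable group which is trivial modulo a locally nilpotent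
ideal is trivial. -/
theorem hom_eq_one_of_diag (M : Type) [AddCommGroup M] (e : Grp.mk G ≅ Grp.mk (Red.DS S M))
    (f : G ⟶ X) [IsMonHom f] (h : (Over.pullback i₀).map f = 1) : f = 1 := by
  have key := core_trivial (𝟙 S) i₀ hnil (transl f) (fun T p hp g x => by
    rw [transl_smul, comp_eq_one_of_factors i₀ f h T p (by simpa using hp) g, _root_.one_mul])
    M e (T := G) (𝟙 G) 1
  rw [transl_smul, Category.id_comp, _root_.mul_one] at key
  exact key

include hnil in
/-- a homomorphism out of a group of multiplicative type which is trivial modulo a locally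
nilpotent ideal is trivial. -/
theorem hom_eq_one_of_multType
    (hG : TwC.Locally S TwC.Topology.fpqc (fun S' f => ∃ (M : Type) (_ : AddCommGroup M),
      Nonempty (Grp.mk (Red.bc f G) ≅ Grp.mk (Red.DS S' M))))
    (f : G ⟶ X) [IsMonHom f] (h : (Over.pullback i₀).map f = 1) : f = 1 := by
  have key := main i₀ hnil (transl f) hG (fun Y q g x => by
    rw [transl_smul, comp_eq_one_of_factors i₀ f h Y q.left (Over.w q) g, _root_.one_mul])
    G (𝟙 G) 1
  rw [transl_smul, Category.id_comp, _root_.mul_one] at key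
  exact key

end General

section Affine

/-- over an affine base, a nilpotent ideal is locally nilpotent in the sheaf sense. -/
theorem hnil_spec (R : Type u) [CommRing R] (I : Ideal R) (hI : IsNilpotent I) :
    ∀ x : ↥(Spec (CommRingCat.of R)), ∃ U : (Spec (CommRingCat.of R)).affineOpens,
      x ∈ (U : (Spec (CommRingCat.of R)).Opens) ∧
      IsNilpotent ((Spec.map (CommRingCat.ofHom (Ideal.Quotient.mk I))).ker.ideal U) := by
  intro x
  refine ⟨⟨⊤, isAffineOpen_top _⟩, trivial, ?_⟩
  obtain ⟨n, hn⟩ := hI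
  refine ⟨n, ?_⟩
  let eR : Γ(Spec (CommRingCat.of R), ⊤) →+* R := (Scheme.ΓSpecIso (CommRingCat.of R)).hom.hom
  have hle : (Spec.map (CommRingCat.ofHom (Ideal.Quotient.mk I))).ker.ideal
      ⟨⊤, isAffineOpen_top _⟩ ≤ Ideal.comap eR I := by
    intro a ha
    rw [Scheme.Hom.ker_apply, RingHom.mem_ker] at ha
    have hnat := congrArg (fun φ => φ.hom a)
      (Scheme.ΓSpecIso_naturality (CommRingCat.ofHom (Ideal.Quotient.mk I)))
    simp only [CommRingCat.hom_comp, RingHom.coe_comp, Function.comp_apply,
      CommRingCat.hom_ofHom] at hnat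
    rw [Ideal.mem_comap, ← Ideal.Quotient.eq_zero_iff_mem]
    change Ideal.Quotient.mk I ((Scheme.ΓSpecIso (CommRingCat.of R)).hom.hom a) = 0
    rw [← hnat]
    have ha' : ((Spec.map (CommRingCat.ofHom (Ideal.Quotient.mk I))).appTop).hom a = 0 := ha
    rw [ha', map_zero]
  have h2 := (Ideal.pow_right_mono hle n).trans (Ideal.le_comap_pow eR n)
  rw [hn] at h2
  rw [Ideal.zero_eq_bot, eq_bot_iff]
  intro a ha
  have h3 : eR a = 0 := h2 ha
  have hinj : Function.Injective eR :=
    (ConcreteCategory.bijective_of_isIso (Scheme.ΓSpecIso (CommRingCat.of R)).hom).1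
  exact hinj (h3.trans (map_zero eR).symm)

/-- `S8359`: a homomorphism out of `D_R(M)` which is trivial modulo a nilpotent ideal is trivial. -/
theorem diagHom_eq_one (R : Type u) [CommRing R] (I : Ideal R) (hI : IsNilpotent I)
    (M : Type) [AddCommGroup M] (X : Over (Spec (CommRingCat.of R))) [GrpObj X]
    (f : Red.diag R M ⟶ X) [IsMonHom f]
    (h : (Over.pullback (Spec.map (CommRingCat.ofHom (Ideal.Quotient.mk I)))).map f = 1) :
    f = 1 := by
  haveI : IsClosedImmersion (Spec.map (CommRingCat.ofHom (Ideal.Quotient.mk I))) :=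
    IsClosedImmersion.spec_of_surjective _ Ideal.Quotient.mk_surjective
  exact hom_eq_one_of_diag _ (hnil_spec R I hI) M (Groth.Agent.H3.DiagDS.grpIso R M) f h

end Affine

end Groth.Agent.H3.DiagRigid
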