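import Mathlib.RingTheory.Ideal.HasGoingUp
import Mathlib.RingTheory.KrullDimension.Module
import Mathlib.RingTheory.Ideal.GoingUp
universe u

namespace Groth.Agent.H3.DimAux

theorem dim_eq_of_integral_injective (A B : Type u) [CommRing A] [CommRing B] [Algebra A B]
    [Algebra.IsIntegral A B] (hinj : Function.Injective (algebraMap A B)) :
    ringKrullDim B = ringKrullDim A := by
  have h1 : ringKrullDim B ≤ ringKrullDim A := by
    unfold ringKrullDim
    apply Order.krullDim_le_of_strictMono (PrimeSpectrum.comap (algebraMap A B))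
    intro P Q hPQ
    rw [← PrimeSpectrum.asIdeal_lt_asIdeal] at hPQ ⊢
    exact Ideal.IsIntegral.comap_lt_comap hPQ
  refine le_antisymm h1 ?_
  unfold ringKrullDim
  rw [Order.krullDim]
  apply iSup_le
  intro l
  obtain ⟨P, hP, hPl⟩ := Ideal.exists_ideal_over_prime_of_isIntegral (S := B) l.head.asIdeal (⊥ : Ideal B)
    (by rw [Ideal.comap_bot_of_injective _ hinj]; exact bot_le)
  have : P.LiesOver l.head.asIdeal := ⟨hPl.2.symm⟩
  have := hPl.1
  obtain ⟨L, hL, -, -⟩ := Ideal.exists_ltSeries_of_hasGoingUp l P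
  rw [← hL]
  exact Order.LTSeries.length_le_krullDim L


end Groth.Agent.H3.DimAux
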