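import Mathlib
import Groth.Agent.Lib.Helper3.DimMap

set_option autoImplicit false

universe u

open Topology TopologicalSpace Set AlgebraicGeometry CategoryTheory

namespace Groth.Agent.H3.DimQF

section Top

variable {X Y : Type*} [TopologicalSpace X] [TopologicalSpace Y]

/-- continuous maps with no specializations in the fibres do not lower the dimension -/
theorem dim_le_of_incomparable' [QuasiSober X] [T0Space Y] (g : X → Y) (hc : Continuous g)
    (hinc : ∀ x x' : X, x' ⤳ x → g x' = g x → x' = x) :
    topologicalKrullDim X ≤ topologicalKrullDim Y := by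
  unfold topologicalKrullDim
  refine Order.krullDim_le_of_strictMono (fun W : IrreducibleCloseds X =>
    (⟨closure (g '' (W : Set X)), (W.isIrreducible'.image g hc.continuousOn).closure,
      isClosed_closure⟩ : IrreducibleCloseds Y)) ?_
  intro W W' hlt
  refine lt_of_le_of_ne (closure_mono (image_mono (show (W : Set X) ⊆ W' from hlt.le)))
    fun heq => ?_
  have heq' : closure (g '' (W : Set X)) = closure (g '' (W' : Set X)) :=
    congrArg IrreducibleCloseds.carrier heq
  have hgen : closure {W.isIrreducible'.genericPoint} = (W : Set X) :=
    (W.isIrreducible'.isGenericPoint_genericPoint W.isClosed').def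
  have hgen' : closure {W'.isIrreducible'.genericPoint} = (W' : Set X) :=
    (W'.isIrreducible'.isGenericPoint_genericPoint W'.isClosed').def
  rw [← hgen, ← hgen', closure_image_closure hc, closure_image_closure hc, image_singleton,
    image_singleton] at heq'
  have h1 : g W'.isIrreducible'.genericPoint = g W.isIrreducible'.genericPoint := by
    have ha : IsGenericPoint (g W'.isIrreducible'.genericPoint)
        (closure {g W.isIrreducible'.genericPoint}) := heq'.symm
    have hb : IsGenericPoint (g W.isIrreducible'.genericPoint)
        (closure {g W.isIrreducible'.genericPoint}) := rfl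
    exact ha.eq hb
  have hsp : W'.isIrreducible'.genericPoint ⤳ W.isIrreducible'.genericPoint := by
    rw [specializes_iff_mem_closure, hgen']
    apply hlt.le
    change W.isIrreducible'.genericPoint ∈ (W : Set X)
    rw [← hgen]
    exact subset_closure rfl
  have h2 := hinc _ _ hsp h1
  have hle : (W' : Set X) ⊆ W := by
    rw [← hgen', ← hgen, h2]
  exact hlt.not_ge hle

end Top

variable {X Y : Scheme.{u}}

/-- no specializations in the fibres of a locally quasi-finite morphism -/
lemma hinc_of_locallyQuasiFinite (f : X ⟶ Y) [LocallyQuasiFinite f] (x x' : X) (hsp : x' ⤳ x)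
    (he : f.base x' = f.base x) : x' = x := by
  have hd : _root_.IsDiscrete (f.base ⁻¹' {f.base x}) := f.isDiscrete_preimage_singleton (f.base x)
  haveI : DiscreteTopology ↥(f.base ⁻¹' {f.base x}) := hd.to_subtype
  let a : ↥(f.base ⁻¹' {f.base x}) := ⟨x, rfl⟩
  let a' : ↥(f.base ⁻¹' {f.base x}) := ⟨x', he⟩
  have : a' ⤳ a := by
    exact (Topology.IsInducing.subtypeVal.specializes_iff (x := a') (y := a)).1 hsp
  exact congrArg Subtype.val this.eq

theorem main (f : X ⟶ Y) [LocallyQuasiFinite f] :
    topologicalKrullDim X ≤ topologicalKrullDim (closure (Set.range f.base)) ∧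
      topologicalKrullDim (closure (Set.range f.base)) ≤ topologicalKrullDim Y := by
  refine ⟨?_, topologicalKrullDim_subspace_le Y _⟩
  let r : X → ↥(closure (Set.range f.base)) := fun x => ⟨f.base x, subset_closure ⟨x, rfl⟩⟩
  have hrc : Continuous r := f.continuous.subtype_mk _
  refine dim_le_of_incomparable' r hrc ?_
  intro x x' hsp he
  exact hinc_of_locallyQuasiFinite f x x' hsp (congrArg Subtype.val he)

end Groth.Agent.H3.DimQF
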