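import Mathlib

/-! helper3: cotangent injectivity for essentially smooth local rings in characteristic zero, and
the consequence `P • dq ≠ q • ω` for a prime element `q` not dividing `P`. -/

set_option autoImplicit false
universe u

namespace Groth.Agent.H3.Dlog

open IsLocalRing KaehlerDifferential TensorProduct

/-- For a local ring `S` essentially of finite type and formally smooth over a field `k` of
characteristic zero: if `x ∈ m` and `dx ∈ m Ω_{S/k}` then `x ∈ m²`. -/
theorem mem_sq_of_D_mem (k S : Type u) [Field k] [CharZero k] [CommRing S] [IsLocalRing S]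
    [Algebra k S] [Algebra.FormallySmooth k S] [Algebra.EssFiniteType k S]
    (x : S) (hx : x ∈ maximalIdeal S)
    (hD : D k S x ∈ (maximalIdeal S) • (⊤ : Submodule S Ω[S⁄k])) :
    x ∈ maximalIdeal S ^ 2 := by
  have hsurj : Function.Surjective (algebraMap S (ResidueField S)) := IsLocalRing.residue_surjective
  haveI : Algebra.EssFiniteType S (ResidueField S) :=
    Algebra.EssFiniteType.of_surjective (Algebra.ofId S (ResidueField S)) hsurj
  haveI : Algebra.EssFiniteType k (ResidueField S) := Algebra.EssFiniteType.comp k S _
  haveI : Algebra.FormallySmooth k (ResidueField S) := Algebra.FormallySmooth.of_perfectField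
  obtain ⟨l, hl⟩ := (Algebra.FormallySmooth.iff_split_injection (R := k) (P := S)
    (A := ResidueField S) hsurj).mp inferInstance
  have hinj : Function.Injective (kerCotangentToTensor k S (ResidueField S)) := by
    intro a b hab
    have := congrArg l hab
    rwa [← LinearMap.comp_apply, ← LinearMap.comp_apply, hl] at this
  have hker : RingHom.ker (algebraMap S (ResidueField S)) = maximalIdeal S := IsLocalRing.ker_residue
  have hxk : x ∈ RingHom.ker (algebraMap S (ResidueField S)) := by rw [hker]; exact hx
  have hzero : (1 : ResidueField S) ⊗ₜ[S] D k S x = 0 := by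
    refine Submodule.smul_induction_on hD ?_ ?_
    · intro a ha ω _
      rw [← TensorProduct.smul_tmul, Algebra.smul_def, mul_one]
      have : algebraMap S (ResidueField S) a = 0 := by
        rw [← RingHom.mem_ker, hker]; exact ha
      rw [this, TensorProduct.zero_tmul]
    · intro a b ha hb
      rw [TensorProduct.tmul_add, ha, hb, add_zero]
  have h0 : (RingHom.ker (algebraMap S (ResidueField S))).toCotangent ⟨x, hxk⟩ = 0 := by
    apply hinj
    rw [kerCotangentToTensor_toCotangent, map_zero]
    exact hzero
  rw [Ideal.toCotangent_eq_zero] at h0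
  rw [← hker]
  exact h0

/-- `R` a domain essentially of finite type and formally smooth over a field of characteristic
zero, `q` a prime element and `P` not divisible by `q`: then `P • dq ∉ q Ω_{R/k}`. -/
theorem not_smul_D_eq (k R : Type u) [Field k] [CharZero k] [CommRing R] [IsDomain R]
    [Algebra k R] [Algebra.FormallySmooth k R] [Algebra.EssFiniteType k R]
    (q : R) (hq : Prime q) (P : R) (hP : ¬ q ∣ P) (ω : Ω[R⁄k]) (h : P • D k R q = q • ω) :
    False := by
  haveI hI : (Ideal.span {q}).IsPrime := (Ideal.span_singleton_prime hq.ne_zero).mpr hq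
  let S := Localization.AtPrime (Ideal.span {q})
  haveI : Algebra.FormallySmooth R S :=
    Algebra.FormallySmooth.of_isLocalization (Ideal.span {q}).primeCompl
  haveI : Algebra.FormallySmooth k S := Algebra.FormallySmooth.comp k R S
  haveI : Algebra.EssFiniteType R S :=
    Algebra.EssFiniteType.of_isLocalization S (Ideal.span {q}).primeCompl
  haveI : Algebra.EssFiniteType k S := Algebra.EssFiniteType.comp k R S
  have hm : maximalIdeal S = Ideal.span {algebraMap R S q} := by
    rw [← Localization.AtPrime.map_eq_maximalIdeal, Ideal.map_span, Set.image_singleton]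
  have hPu : IsUnit (algebraMap R S P) := by
    refine IsLocalization.map_units S (⟨P, ?_⟩ : (Ideal.span {q}).primeCompl)
    intro hmem
    exact hP (Ideal.mem_span_singleton.mp hmem)
  have h' := congrArg (KaehlerDifferential.map k k R S) h
  rw [map_smul, map_smul, KaehlerDifferential.map_D] at h'
  obtain ⟨u, hu⟩ := hPu
  have hD : D k S (algebraMap R S q) ∈ maximalIdeal S • (⊤ : Submodule S Ω[S⁄k]) := by
    have e1 : D k S (algebraMap R S q) =
        (algebraMap R S q) • ((↑u⁻¹ : S) • KaehlerDifferential.map k k R S ω) := by
      calc D k S (algebraMap R S q)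
          = ((↑u⁻¹ : S) * (u : S)) • D k S (algebraMap R S q) := by
            rw [Units.inv_mul, one_smul]
        _ = (↑u⁻¹ : S) • (P • D k S (algebraMap R S q)) := by
            rw [mul_smul, hu, algebraMap_smul]
        _ = (↑u⁻¹ : S) • ((algebraMap R S q) • KaehlerDifferential.map k k R S ω) := by
            rw [h', algebraMap_smul]
        _ = _ := smul_comm _ _ _
    rw [e1]
    refine Submodule.smul_mem_smul ?_ Submodule.mem_top
    rw [hm]
    exact Ideal.mem_span_singleton_self _
  have hqm : algebraMap R S q ∈ maximalIdeal S := by
    rw [hm]; exact Ideal.mem_span_singleton_self _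
  have hsq := mem_sq_of_D_mem k S _ hqm hD
  rw [hm, Ideal.span_singleton_pow, Ideal.mem_span_singleton] at hsq
  obtain ⟨s, hs⟩ := hsq
  have hinj : Function.Injective (algebraMap R S) :=
    IsLocalization.injective S (Ideal.span {q}).primeCompl_le_nonZeroDivisors
  have hq0 : algebraMap R S q ≠ 0 := by
    rw [Ne, map_eq_zero_iff _ hinj]; exact hq.ne_zero
  haveI : IsDomain S := IsLocalization.isDomain_of_le_nonZeroDivisors _
    (Ideal.span {q}).primeCompl_le_nonZeroDivisors
  have h1 : algebraMap R S q * s = 1 := by
    have : algebraMap R S q * (algebraMap R S q * s) = algebraMap R S q * 1 := by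
      rw [mul_one, ← mul_assoc, ← sq]; exact hs.symm
    exact mul_left_cancel₀ hq0 this
  have : IsUnit (algebraMap R S q) := IsUnit.of_mul_eq_one _ h1
  exact (IsLocalRing.mem_maximalIdeal _).mp hqm this

end Groth.Agent.H3.Dlog
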