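import Mathlib
import Groth.Agent.Lib.Helper3.DlogA
import Groth.Agent.Lib.Helper7.UfdPicA

/-! helper3: logarithmic differentials with logarithmic poles along prime elements of a factorial
essentially smooth domain in characteristic zero. -/

set_option autoImplicit false
universe u

namespace Groth.Agent.H3.Dlog

open KaehlerDifferential Groth.Agent.H7.UfdPic

section dl

variable (k : Type u) {K : Type u} [Field k] [Field K] [Algebra k K]

/-- the logarithmic differential `x⁻¹ dx`. -/
noncomputable def dl (x : K) : Ω[K⁄k] := x⁻¹ • D k K x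

theorem dl_one : dl k (1 : K) = 0 := by
  unfold dl
  rw [Derivation.map_one_eq_zero, smul_zero]

theorem dl_mul {x y : K} (hx : x ≠ 0) (hy : y ≠ 0) : dl k (x * y) = dl k x + dl k y := by
  unfold dl
  rw [Derivation.leibniz, smul_add, smul_smul, smul_smul, mul_inv]
  have h1 : x⁻¹ * y⁻¹ * x = y⁻¹ := by field_simp
  have h2 : x⁻¹ * y⁻¹ * y = x⁻¹ := by field_simp
  rw [h1, h2, add_comm]

theorem dl_add_eq_of_mul_eq {x y z : K} (hx : x ≠ 0) (hy : y ≠ 0) (h : x * y = z) :
    dl k x + dl k y = dl k z := by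
  rw [← h, dl_mul k hx hy]

theorem dl_pow {x : K} (hx : x ≠ 0) (n : ℕ) : dl k (x ^ n) = (n : ℤ) • dl k x := by
  induction n with
  | zero => rw [pow_zero, dl_one]; simp
  | succ n ih =>
    rw [pow_succ, dl_mul k (pow_ne_zero n hx) hx, ih]
    push_cast
    rw [add_smul, one_smul]

theorem dl_pow_div_pow {x : K} (hx : x ≠ 0) (m n : ℕ) :
    dl k (x ^ m / x ^ n) = ((m : ℤ) - n) • dl k x := by
  have h1 : x ^ m / x ^ n * x ^ n = x ^ m := div_mul_cancel₀ _ (pow_ne_zero n hx)
  have h2 := dl_add_eq_of_mul_eq k (div_ne_zero (pow_ne_zero m hx) (pow_ne_zero n hx))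
    (pow_ne_zero n hx) h1
  rw [dl_pow k hx, dl_pow k hx] at h2
  rw [sub_smul, ← h2, add_sub_cancel_right]

theorem dl_prod {ι : Type*} (s : Finset ι) (w : ι → K) (hw : ∀ i ∈ s, w i ≠ 0) :
    dl k (∏ i ∈ s, w i) = ∑ i ∈ s, dl k (w i) := by
  classical
  induction s using Finset.induction_on with
  | empty => simp [dl_one]
  | insert a s ha ih =>
    rw [Finset.prod_insert ha, Finset.sum_insert ha,
      dl_mul k (hw a (Finset.mem_insert_self a s))
        (Finset.prod_ne_zero_iff.mpr fun i hi => hw i (Finset.mem_insert_of_mem hi)),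
      ih fun i hi => hw i (Finset.mem_insert_of_mem hi)]

end dl

variable {k R K : Type u} [Field k] [CharZero k] [CommRing R] [IsDomain R] [Algebra k R]
  [Algebra.FormallySmooth k R] [Algebra.EssFiniteType k R]
  [Field K] [Algebra R K] [IsFractionRing R K] [Algebra k K] [IsScalarTower k R K]

omit [CharZero k] [Algebra.EssFiniteType k R] in
theorem map_injective : Function.Injective (KaehlerDifferential.map k k R K) := by
  haveI : IsLocalizedModule (nonZeroDivisors R) (KaehlerDifferential.map k k R K) :=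
    KaehlerDifferential.isLocalizedModule_map k R K (nonZeroDivisors R)
  rw [injective_iff_map_eq_zero]
  intro x hx
  obtain ⟨c, hc⟩ := (IsLocalizedModule.eq_zero_iff (nonZeroDivisors R) _).mp hx
  have hc' : (c : R) • x = 0 := hc
  rcases smul_eq_zero.mp hc' with h0 | h0
  · exact absurd h0 (nonZeroDivisors.coe_ne_zero c)
  · exact h0

/-- forms which become regular at `q` after multiplying by an element prime to `q`. -/
def Mq (k : Type u) {R : Type u} (K : Type u) [Field k] [CommRing R] [Algebra k R]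
    [Field K] [Algebra R K] [Algebra k K] [IsScalarTower k R K] (q : R) (hq : Prime q) :
    Submodule R Ω[K⁄k] where
  carrier := {ξ | ∃ P : R, ¬ q ∣ P ∧ P • ξ ∈ LinearMap.range (KaehlerDifferential.map k k R K)}
  add_mem' := by
    rintro ξ₁ ξ₂ ⟨P₁, h₁, ω₁, hω₁⟩ ⟨P₂, h₂, ω₂, hω₂⟩
    refine ⟨P₁ * P₂, fun hd => (hq.dvd_or_dvd hd).elim h₁ h₂, P₂ • ω₁ + P₁ • ω₂, ?_⟩
    rw [map_add, map_smul, map_smul, hω₁, hω₂, smul_add, smul_smul, smul_smul, mul_comm P₂ P₁]
  zero_mem' := ⟨1, hq.not_dvd_one, 0, by simp⟩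
  smul_mem' := by
    rintro c ξ ⟨P, h, ω, hω⟩
    exact ⟨P, h, c • ω, by rw [map_smul, hω, smul_comm]⟩

omit [CharZero k] [IsDomain R] [Algebra.FormallySmooth k R] [Algebra.EssFiniteType k R]
  [IsFractionRing R K] in
theorem map_mem_Mq (q : R) (hq : Prime q) (η : Ω[R⁄k]) :
    KaehlerDifferential.map k k R K η ∈ Mq k K q hq :=
  ⟨1, hq.not_dvd_one, η, by rw [one_smul]⟩

omit [CharZero k] [Algebra.FormallySmooth k R] [Algebra.EssFiniteType k R] in
theorem dl_mem_Mq (q : R) (hq : Prime q) (x : R) (hx : ¬ q ∣ x) :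
    dl k (algebraMap R K x) ∈ Mq k K q hq := by
  have hx0 : x ≠ 0 := fun h => hx (h ▸ dvd_zero q)
  refine ⟨x, hx, D k R x, ?_⟩
  rw [KaehlerDifferential.map_D]
  unfold dl
  rw [← algebraMap_smul K x, smul_smul, mul_inv_cancel₀ (algebraMap_ne_zero hx0), one_smul]

theorem zsmul_dl_notMem_Mq (q : R) (hq : Prime q) (e : ℤ) (he : e ≠ 0) :
    e • dl k (algebraMap R K q) ∉ Mq k K q hq := by
  rintro ⟨P, hP, ω, hω⟩
  have hq0 : algebraMap R K q ≠ 0 := algebraMap_ne_zero hq.ne_zero
  -- multiply by q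
  have h1 : KaehlerDifferential.map k k R K ((P * (e : R)) • D k R q) =
      KaehlerDifferential.map k k R K (q • ω) := by
    rw [map_smul, map_smul, hω, KaehlerDifferential.map_D]
    unfold dl
    have h3 : q • (algebraMap R K q)⁻¹ • D k K (algebraMap R K q) =
        D k K (algebraMap R K q) := by
      rw [← algebraMap_smul K q, smul_smul, mul_inv_cancel₀ hq0, one_smul]
    rw [mul_smul, Int.cast_smul_eq_zsmul, smul_comm q P, smul_comm q e, h3]
  have h2 := map_injective h1
  refine not_smul_D_eq k R q hq (P * (e : R)) ?_ ω h2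
  intro hd
  rcases hq.dvd_or_dvd hd with h3 | h3
  · exact hP h3
  · have hu : IsUnit ((e : R)) := by
      have : ((e : k)) ≠ 0 := Int.cast_ne_zero.mpr he
      have h4 : (e : R) = algebraMap k R (e : k) := by simp
      rw [h4]
      exact (IsUnit.mk0 _ this).map _
    exact hq.not_isUnit (isUnit_of_dvd_unit h3 hu)

end Groth.Agent.H3.Dlog
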