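import Mathlib
import Groth.Agent.Lib.Helper3.DlogB
import Groth.Agent.Lib.Helper3.CA.ABufd2
import Groth.Agent.Lib.Helper5.SM.SM1

/-! helper3: `g⁻¹dg = η + Σ c_i f_i⁻¹df_i` implies `g⁻¹dg = v⁻¹dv + Σ b_i f_i⁻¹df_i`. -/

set_option autoImplicit false
universe u

namespace Groth.Agent.H3.Dlog

open KaehlerDifferential Groth.Agent.H7.UfdPic

section

variable {k R K : Type u} [Field k] [CharZero k] [CommRing R] [IsDomain R] [Algebra k R]
  [Algebra.FormallySmooth k R] [Algebra.EssFiniteType k R]
  [Field K] [Algebra R K] [IsFractionRing R K] [Algebra k K] [IsScalarTower k R K]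

omit [Field k] [CharZero k] [Algebra k R] [Algebra.FormallySmooth k R]
  [Algebra.EssFiniteType k R] [Algebra k K] [IsScalarTower k R K] in
theorem unitAt_prod {ι : Type*} {p : R} (hp : Prime p) (s : Finset ι) (w : ι → K)
    (hw : ∀ i ∈ s, UnitAt p (w i)) : UnitAt p (∏ i ∈ s, w i) := by
  classical
  induction s using Finset.induction_on with
  | empty => rw [Finset.prod_empty]; exact unitAt_one hp.not_isUnit
  | insert a s ha ih =>
    rw [Finset.prod_insert ha]
    exact (hw a (Finset.mem_insert_self a s)).mul hp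
      (ih fun i hi => hw i (Finset.mem_insert_of_mem hi))

/-- if `dl x` is regular at `q` up to a multiplier prime to `q`, then `x` is a unit at `q`. -/
theorem unitAt_of_dl_mem [UniqueFactorizationMonoid R] (q : R) (hq : Prime q) (x : K)
    (hx : x ≠ 0) (h : dl k x ∈ Mq k K q hq) : UnitAt q x := by
  obtain ⟨m, n, hu⟩ := exists_unitAt_mul_pow hq hx
  have hq0 : algebraMap R K q ≠ 0 := algebraMap_ne_zero hq.ne_zero
  obtain ⟨s, t, hs, ht, hst⟩ := hu
  have hs0 : s ≠ 0 := fun h0 => hs (h0 ▸ dvd_zero q)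
  have ht0 : t ≠ 0 := fun h0 => ht (h0 ▸ dvd_zero q)
  have hw0 : algebraMap R K q ^ m / algebraMap R K q ^ n ≠ 0 :=
    div_ne_zero (pow_ne_zero _ hq0) (pow_ne_zero _ hq0)
  have e1 := dl_add_eq_of_mul_eq k (mul_ne_zero hx hw0) (algebraMap_ne_zero ht0) hst
  rw [dl_mul k hx hw0, dl_pow_div_pow k hq0] at e1
  have e2 : ((m : ℤ) - n) • dl k (algebraMap R K q) =
      dl k (algebraMap R K s) - dl k (algebraMap R K t) - dl k x := by
    rw [← e1]; abel
  have hmem : ((m : ℤ) - n) • dl k (algebraMap R K q) ∈ Mq k K q hq := by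
    rw [e2]
    exact sub_mem (sub_mem (dl_mem_Mq q hq s hs) (dl_mem_Mq q hq t ht)) h
  have hmn : (m : ℤ) - n = 0 := by
    by_contra hne
    exact zsmul_dl_notMem_Mq q hq _ hne hmem
  have hmn' : m = n := by omega
  subst hmn'
  rw [div_self (pow_ne_zero _ hq0), mul_one] at hst
  exact ⟨s, t, hs, ht, hst⟩

theorem main [UniqueFactorizationMonoid R] {r : ℕ} (f : Fin r → R) (hf : ∀ i, Prime (f i))
    (g : Kˣ) (η : Ω[R⁄k]) (c : Fin r → R)
    (h : (g : K)⁻¹ • D k K (g : K) = KaehlerDifferential.map k k R K η +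
        ∑ i, (algebraMap R K (c i) * (algebraMap R K (f i))⁻¹) •
          D k K (algebraMap R K (f i))) :
    ∃ (v : Rˣ) (b : Fin r → ℤ),
      (g : K)⁻¹ • D k K (g : K) =
        (algebraMap R K (v : R))⁻¹ • D k K (algebraMap R K (v : R)) +
          ∑ i, ((b i : K) * (algebraMap R K (f i))⁻¹) • D k K (algebraMap R K (f i)) := by
  classical
  have hf0 : ∀ i, algebraMap R K (f i) ≠ 0 := fun i => algebraMap_ne_zero (hf i).ne_zero
  have h' : dl k (g : K) = KaehlerDifferential.map k k R K η +
      ∑ i, c i • dl k (algebraMap R K (f i)) := by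
    unfold dl
    rw [h]
    congr 1
    refine Finset.sum_congr rfl fun i _ => ?_
    rw [mul_smul, algebraMap_smul]
  -- representatives of the associate classes
  let T : Finset (Fin r) := Finset.univ.filter fun i => ∀ j, j < i → ¬ Associated (f j) (f i)
  have hT1 : ∀ (N : ℕ) (i : Fin r), (i : ℕ) = N → ∃ j ∈ T, Associated (f j) (f i) := by
    intro N
    induction N using Nat.strong_induction_on with
    | _ N ih =>
      intro i hiN
      by_cases hi : i ∈ T
      · exact ⟨i, hi, Associated.refl _⟩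
      · have hi' : ∃ j, j < i ∧ Associated (f j) (f i) := by
          by_contra hcon
          push Not at hcon
          exact hi (Finset.mem_filter.mpr ⟨Finset.mem_univ _, hcon⟩)
        obtain ⟨j, hji, hj⟩ := hi'
        obtain ⟨j', hj'T, hj'⟩ := ih (j : ℕ) (by rw [← hiN]; exact hji) j rfl
        exact ⟨j', hj'T, hj'.trans hj⟩
  have hT2 : ∀ i ∈ T, ∀ j ∈ T, i ≠ j → ¬ Associated (f i) (f j) := by
    intro i hi j hj hij hass
    rcases lt_or_gt_of_ne hij with hlt | hgt
    · exact (Finset.mem_filter.mp hj).2 i hlt hass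
    · exact (Finset.mem_filter.mp hi).2 j hgt hass.symm
  choose m n hmn using fun i => exists_unitAt_mul_pow (K := K) (hf i) g.ne_zero
  let w : Fin r → K := fun i => algebraMap R K (f i) ^ m i / algebraMap R K (f i) ^ n i
  have hw0 : ∀ i, w i ≠ 0 := fun i =>
    div_ne_zero (pow_ne_zero _ (hf0 i)) (pow_ne_zero _ (hf0 i))
  have hprod0 : ∏ i ∈ T, w i ≠ 0 := Finset.prod_ne_zero_iff.mpr fun i _ => hw0 i
  let g' : K := g * ∏ i ∈ T, w i
  have hg'0 : g' ≠ 0 := mul_ne_zero g.ne_zero hprod0
  have hg'T : ∀ j ∈ T, UnitAt (f j) g' := by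
    intro j hj
    have e : g' = (g * w j) * ∏ i ∈ T.erase j, w i := by
      rw [mul_assoc, Finset.mul_prod_erase T w hj]
    rw [e]
    refine (hmn j).mul (hf j) (unitAt_prod (hf j) _ _ fun i hi => ?_)
    have hij : i ≠ j := Finset.ne_of_mem_erase hi
    have hiT : i ∈ T := Finset.mem_of_mem_erase hi
    exact unitAt_pow_div_pow (hf j) (hf i) (hT2 j hj i hiT hij.symm) _ _
  have hg'all : ∀ i, UnitAt (f i) g' := by
    intro i
    obtain ⟨j, hjT, hj⟩ := hT1 _ i rfl
    exact (hg'T j hjT).congr_associated hj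
  have hdl : dl k g' = dl k (g : K) +
      ∑ i ∈ T, ((m i : ℤ) - n i) • dl k (algebraMap R K (f i)) := by
    rw [dl_mul k g.ne_zero hprod0, dl_prod k T w fun i _ => hw0 i]
    congr 1
    exact Finset.sum_congr rfl fun i _ => dl_pow_div_pow k (hf0 i) _ _
  have hall : ∀ p : R, Prime p → UnitAt p g' := by
    intro p hp
    by_cases hass : ∃ i, Associated (f i) p
    · obtain ⟨i, hi⟩ := hass
      exact (hg'all i).congr_associated hi
    · push Not at hass
      apply unitAt_of_dl_mem (k := k) p hp g' hg'0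
      have hfi : ∀ i, dl k (algebraMap R K (f i)) ∈ Mq k K p hp := fun i =>
        dl_mem_Mq p hp (f i) fun hd => hass i (hp.associated_of_dvd (hf i) hd).symm
      rw [hdl, h']
      exact add_mem (add_mem (map_mem_Mq p hp η)
        (sum_mem fun i _ => Submodule.smul_mem _ _ (hfi i)))
        (sum_mem fun i _ => zsmul_mem (hfi i) _)
  obtain ⟨d, hgd, ⟨r1, k1, h1⟩, ⟨r2, k2, h2⟩⟩ :=
    unitAway_of_forall_unitAt (g := (1 : R)) hg'0 fun p hp _ => hall p hp
  rw [map_one, one_pow, mul_one] at h1 h2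
  have h12 : r1 * r2 = 1 := by
    apply IsFractionRing.injective R K
    rw [map_mul, ← h1, ← h2, hgd, map_one]
  refine ⟨Units.mkOfMulEqOne r1 r2 h12, fun i => if i ∈ T then (n i : ℤ) - m i else 0, ?_⟩
  have hv : dl k (algebraMap R K ((Units.mkOfMulEqOne r1 r2 h12 : Rˣ) : R)) = dl k g' := by
    rw [h1]; rfl
  have hsum : ∑ i, ((((if i ∈ T then (n i : ℤ) - m i else 0 : ℤ)) : K) *
        (algebraMap R K (f i))⁻¹) • D k K (algebraMap R K (f i)) =
      ∑ i ∈ T, ((n i : ℤ) - m i) • dl k (algebraMap R K (f i)) := by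
    have e : ∀ i, ((((if i ∈ T then (n i : ℤ) - m i else 0 : ℤ)) : K) *
        (algebraMap R K (f i))⁻¹) • D k K (algebraMap R K (f i)) =
        if i ∈ T then ((n i : ℤ) - m i) • dl k (algebraMap R K (f i)) else 0 := by
      intro i
      split_ifs with hi
      · unfold dl
        rw [mul_smul, Int.cast_smul_eq_zsmul]
      · rw [Int.cast_zero, zero_mul, zero_smul]
    rw [Finset.sum_congr rfl fun i _ => e i, Finset.sum_ite_mem, Finset.univ_inter]
  change dl k (g : K) = dl k (algebraMap R K ((Units.mkOfMulEqOne r1 r2 h12 : Rˣ) : R)) + _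
  rw [hsum, hv, hdl, add_assoc, ← Finset.sum_add_distrib]
  have e0 : ∀ i ∈ T, ((m i : ℤ) - n i) • dl k (algebraMap R K (f i)) +
      ((n i : ℤ) - m i) • dl k (algebraMap R K (f i)) = 0 := by
    intro i _
    rw [← add_smul]
    simp
  rw [Finset.sum_eq_zero e0, add_zero]

end

/-- the localization of a smooth algebra over a field at a prime is a regular local ring. -/
theorem isRegularLocalRing_of_smooth (k B R : Type u) [Field k] [CommRing B] [Algebra k B]
    [Algebra.Smooth k B] (p : Ideal B) [p.IsPrime] [CommRing R] [Algebra B R]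
    [IsLocalization.AtPrime R p] [Algebra k R] [IsScalarTower k B R] :
    IsRegularLocalRing R ∧ Algebra.FormallySmooth k R ∧ Algebra.EssFiniteType k R := by
  haveI : IsLocalRing R := IsLocalization.AtPrime.isLocalRing R p
  haveI : Algebra.FormallySmooth k B := Algebra.Smooth.formallySmooth
  haveI : Algebra.FormallySmooth B R := Algebra.FormallySmooth.of_isLocalization p.primeCompl
  haveI : Algebra.FormallySmooth k R := Algebra.FormallySmooth.comp k B R
  haveI : Algebra.EssFiniteType B R := Algebra.EssFiniteType.of_isLocalization R p.primeCompl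
  haveI : Algebra.FinitePresentation k B := Algebra.Smooth.finitePresentation
  haveI : Algebra.FiniteType k B := inferInstance
  haveI : Algebra.EssFiniteType k B := inferInstance
  haveI : Algebra.EssFiniteType k R := Algebra.EssFiniteType.comp k B R
  haveI : IsNoetherianRing R := Algebra.EssFiniteType.isNoetherianRing k R
  haveI : IsLocalHom (algebraMap k R) := by
    constructor
    intro a ha
    have : a ≠ 0 := by
      rintro rfl
      rw [map_zero] at ha
      exact not_isUnit_zero ha
    exact IsUnit.mk0 a this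
  haveI : IsRegularLocalRing k := inferInstance
  exact ⟨(H5.SM.isRegularLocalRing_iff k R).mpr ‹_›, ‹_›, ‹_›⟩

end Groth.Agent.H3.Dlog
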