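import Mathlib
import Groth.Agent.Lib.Helper1.FibDimTot
import Groth.Agent.Lib.Helper1.JacDim

/-! A dominant morphism to an irreducible scheme of finite type over a field admits an irreducible
closed subset of the source of the same dimension as the target and dominating it (helper3). -/

set_option autoImplicit false
universe u
open CategoryTheory CategoryTheory.Limits AlgebraicGeometry TopologicalSpace Topology

namespace Groth.Agent.H3.DomClosed

variable {X Y : Scheme.{u}}

/-- a nonempty fibre of a morphism locally of finite type has a point closed in the fibre. -/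
theorem exists_closed_in_fibre (f : X ⟶ Y) [LocallyOfFiniteType f] (y : Y)
    (hy : (f ⁻¹' {y}).Nonempty) :
    ∃ x : X, f x = y ∧ ∀ x' : X, x ⤳ x' → f x' = y → x' = x := by
  obtain ⟨x₀, hx₀⟩ := hy
  have hne : Nonempty (f.fiber y) := ⟨(f.fiberHomeo y).symm ⟨x₀, hx₀⟩⟩
  obtain ⟨z', -, hz'⟩ := nonempty_inter_closedPoints (X := f.fiber y)
    Set.univ_nonempty isOpen_univ.isLocallyClosed
  have hmem : ∀ z : f.fiber y, f (f.fiberι y z) = y := by
    intro z
    have h1 : f.fiberι y z ∈ Set.range (f.fiberι y) := ⟨z, rfl⟩
    rw [Scheme.Hom.range_fiberι] at h1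
    exact h1
  refine ⟨f.fiberι y z', hmem z', ?_⟩
  intro x' hsp hx'
  have h1 : x' ∈ Set.range (f.fiberι y) := by
    rw [Scheme.Hom.range_fiberι]
    exact hx'
  obtain ⟨z'', rfl⟩ := h1
  rw [(f.fiberι y).isEmbedding.isInducing.specializes_iff] at hsp
  have h2 : z'' ∈ closure ({z'} : Set (f.fiber y)) := specializes_iff_mem_closure.mp hsp
  rw [IsClosed.closure_eq hz'] at h2
  rw [Set.mem_singleton_iff.mp h2]

/-- the closure of a point closed in its fibre has the dimension of the closure of its image. -/
theorem dim_closure_eq_of_closed_in_fibre {k : Type u} [Field k]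
    (q : Y ⟶ Spec (CommRingCat.of k)) [LocallyOfFiniteType q] (f : X ⟶ Y)
    [LocallyOfFiniteType f] (x : X) (hx : ∀ x' : X, x ⤳ x' → f x' = f x → x' = x) :
    topologicalKrullDim ↥(closure ({x} : Set X)) =
      topologicalKrullDim ↥(closure ({f x} : Set Y)) := by
  have h := Groth.Agent.H1.FibDimTot.dim_closure_eq_add q f x
  have hmem : ∀ z : f.fiber (f x), f (f.fiberι (f x) z) = f x := by
    intro z
    have h1 : f.fiberι (f x) z ∈ Set.range (f.fiberι (f x)) := ⟨z, rfl⟩
    rw [Scheme.Hom.range_fiberι] at h1
    exact h1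
  have h2 : closure ({f.asFiber x} : Set ↥(f.fiber (f x))) = {f.asFiber x} := by
    apply subset_antisymm _ subset_closure
    intro z hz
    rw [← specializes_iff_mem_closure,
      ← (f.fiberι (f x)).isEmbedding.isInducing.specializes_iff, f.fiberι_asFiber] at hz
    have h3 := hx _ hz (hmem z)
    rw [Set.mem_singleton_iff]
    apply (f.fiberι (f x)).isEmbedding.injective
    rw [h3, f.fiberι_asFiber]
  rw [h2, Groth.Agent.H1.JacDim.topologicalKrullDim_singleton, add_zero] at h
  exact h

/-- **Main**: a dominant morphism to an irreducible target. -/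
theorem main {k : Type u} [Field k] (qX : X ⟶ Spec (CommRingCat.of k))
    (qY : Y ⟶ Spec (CommRingCat.of k)) [LocallyOfFiniteType qX] [QuasiCompact qX]
    [LocallyOfFiniteType qY] [IrreducibleSpace Y] (f : X ⟶ Y) (hf : f ≫ qY = qX)
    [IsDominant f] :
    ∃ Z : Set X, IsClosed Z ∧ IsIrreducible Z ∧ topologicalKrullDim ↥Z = topologicalKrullDim Y ∧
      Dense (f '' Z) := by
  have hX1 : IsLocallyNoetherian X := LocallyOfFiniteType.isLocallyNoetherian qX
  have hX2 : CompactSpace X := QuasiCompact.compactSpace_of_compactSpace qX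
  have hXN : IsNoetherian X := {}
  have hfl : LocallyOfFiniteType f := by
    have : LocallyOfFiniteType (f ≫ qY) := by rw [hf]; infer_instance
    exact locallyOfFiniteType_of_comp f qY
  have hmax : Groth.Agent.H1.FibDimTot.IsMaxPt (genericPoint Y) := fun y hy =>
    ((genericPoint_specializes y).antisymm hy).eq.symm
  obtain ⟨x₀, hx₀⟩ := Groth.Agent.H1.FibDimTot.exists_eq_of_isMaxPt f.continuous f.denseRange
    TopologicalSpace.NoetherianSpace.finite_irreducibleComponents (genericPoint Y) hmax
  obtain ⟨x, hxη, hx⟩ := exists_closed_in_fibre f (genericPoint Y) ⟨x₀, hx₀⟩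
  have hcl : closure ({f x} : Set Y) = Set.univ := by
    rw [hxη]; exact (genericPoint_spec Y).def
  refine ⟨closure {x}, isClosed_closure, isIrreducible_singleton.closure, ?_, ?_⟩
  · rw [dim_closure_eq_of_closed_in_fibre qY f x (fun x' h1 h2 => hx x' h1 (h2.trans hxη)), hcl]
    exact (Homeomorph.Set.univ Y).isHomeomorph.topologicalKrullDim_eq
  · rw [dense_iff_closure_eq, closure_image_closure f.continuous, Set.image_singleton]
    exact hcl

end Groth.Agent.H3.DomClosed
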