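import Mathlib

set_option autoImplicit false
universe v

namespace Groth.Agent.H3.DvrRam

open Polynomial IsLocalRing

section Eis

variable {R : Type v} [CommRing R] [IsDomain R] [IsDiscreteValuationRing R]
variable (π : R) (d : ℕ)

/-- The Eisenstein polynomial `X^d - π`. -/
noncomputable def pol : R[X] := X ^ d - C π

variable {π}

lemma mem_maxIdeal (hπ : Irreducible π) : π ∈ maximalIdeal R := by
  rw [IsLocalRing.mem_maximalIdeal, mem_nonunits_iff]
  exact hπ.not_isUnit

lemma notMem_sq (hπ : Irreducible π) : π ∉ maximalIdeal R ^ 2 := by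
  rw [hπ.maximalIdeal_eq, Ideal.span_singleton_pow, Ideal.mem_span_singleton]
  rintro ⟨c, hc⟩
  have h1 : π * (1 - π * c) = 0 := by linear_combination hc
  rcases mul_eq_zero.mp h1 with h | h
  · exact hπ.ne_zero h
  · exact hπ.not_isUnit (IsUnit.of_mul_eq_one c (by linear_combination -h))

variable {d}

lemma pol_monic (hd : 0 < d) : (pol π d).Monic := monic_X_pow_sub_C π hd.ne'

lemma pol_natDegree (hd : 0 < d) : (pol π d).natDegree = d := natDegree_X_pow_sub_C

lemma pol_coeff (n : ℕ) : (pol π d).coeff n = (if n = d then 1 else 0) - (if n = 0 then π else 0) := by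
  simp [pol, coeff_X_pow, coeff_C]

lemma pol_eis (hπ : Irreducible π) (hd : 0 < d) : (pol π d).IsEisensteinAt (maximalIdeal R) where
  leading := by
    rw [(pol_monic hd).leadingCoeff]
    exact fun h => (maximalIdeal.isMaximal R).ne_top ((Ideal.eq_top_iff_one _).mpr h)
  mem := by
    intro n hn
    rw [pol_natDegree hd] at hn
    rw [pol_coeff, if_neg hn.ne, zero_sub]
    split_ifs
    · exact neg_mem (mem_maxIdeal hπ)
    · simp
  notMem := by
    rw [pol_coeff, if_neg hd.ne, if_pos rfl, zero_sub, neg_mem_iff]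
    exact notMem_sq hπ

lemma pol_prime (hπ : Irreducible π) (hd : 0 < d) : Prime (pol π d) := by
  have hirr : Irreducible (pol π d) :=
    (pol_eis hπ hd).irreducible (maximalIdeal.isMaximal R).isPrime (pol_monic hd).isPrimitive
      (by rw [pol_natDegree hd]; exact hd)
  exact UniqueFactorizationMonoid.irreducible_iff_prime.mp hirr

end Eis

section Ext

variable {R : Type v} [CommRing R] [IsDomain R] [IsDiscreteValuationRing R]
variable {π : R} {d : ℕ}

/-- The ring `R[X]/(X^d - π)` is a discrete valuation ring with uniformizer the root. -/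
theorem adjoinRoot_props (hπ : Irreducible π) (hd : 0 < d) :
    ∃ (_ : IsDomain (AdjoinRoot (pol π d))) (_ : IsDiscreteValuationRing (AdjoinRoot (pol π d))),
      Irreducible (AdjoinRoot.root (pol π d)) ∧
      AdjoinRoot.root (pol π d) ^ d = AdjoinRoot.of (pol π d) π ∧
      Function.Injective (AdjoinRoot.of (pol π d)) ∧
      Module.Finite R (AdjoinRoot (pol π d)) ∧
      IsLocalHom (AdjoinRoot.of (pol π d)) := by
  classical
  have hmon : (pol π d).Monic := pol_monic hd
  have hdeg : (pol π d).natDegree = d := pol_natDegree hd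
  have hdom : IsDomain (AdjoinRoot (pol π d)) := AdjoinRoot.isDomain_of_prime (pol_prime hπ hd)
  have hfin : Module.Finite R (AdjoinRoot (pol π d)) := hmon.finite_adjoinRoot
  have hint : Algebra.IsIntegral R (AdjoinRoot (pol π d)) := Algebra.IsIntegral.of_finite R _
  have hnoeth : IsNoetherianRing (AdjoinRoot (pol π d)) :=
    Algebra.FiniteType.isNoetherianRing R _
  have hinj : Function.Injective (AdjoinRoot.of (pol π d)) :=
    AdjoinRoot.of.injective_of_degree_ne_zero (by
      rw [degree_eq_natDegree hmon.ne_zero, hdeg]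
      exact_mod_cast hd.ne')
  have hroot : AdjoinRoot.root (pol π d) ^ d = AdjoinRoot.of (pol π d) π := by
    have h := AdjoinRoot.eval₂_root (pol π d)
    rw [pol, eval₂_sub, eval₂_pow, eval₂_X, eval₂_C] at h
    exact sub_eq_zero.mp h
  -- the map to the residue field
  let χ : AdjoinRoot (pol π d) →+* ResidueField R := AdjoinRoot.lift (residue R) 0 (by
    rw [pol, eval₂_sub, eval₂_pow, eval₂_X, eval₂_C, zero_pow hd.ne',
      (residue_eq_zero_iff π).mpr (mem_maxIdeal hπ), sub_zero])
  have hχroot : χ (AdjoinRoot.root (pol π d)) = 0 := AdjoinRoot.lift_root _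
  have hdec : ∀ r : AdjoinRoot (pol π d), ∃ (a : R) (s : AdjoinRoot (pol π d)),
      r = AdjoinRoot.of (pol π d) a + AdjoinRoot.root (pol π d) * s := by
    intro r
    obtain ⟨f, rfl⟩ := AdjoinRoot.mk_surjective r
    refine ⟨f.coeff 0, AdjoinRoot.mk _ f.divX, ?_⟩
    conv_lhs => rw [← divX_mul_X_add f]
    rw [map_add, map_mul, AdjoinRoot.mk_X, AdjoinRoot.mk_C]; ring
  -- `(root)` is a maximal ideal
  have hmaxroot : (Ideal.span {AdjoinRoot.root (pol π d)}).IsMaximal := by
    rw [Ideal.isMaximal_iff]
    constructor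
    · intro h1
      obtain ⟨y, hy⟩ := Ideal.mem_span_singleton.mp h1
      have := congrArg χ hy
      rw [map_one, map_mul, hχroot, zero_mul] at this
      exact one_ne_zero this
    · intro J x hJ hx hxJ
      obtain ⟨a, s, rfl⟩ := hdec x
      have ha : IsUnit a := by
        by_contra hna
        apply hx
        have ham : a ∈ maximalIdeal R := hna
        rw [hπ.maximalIdeal_eq, Ideal.mem_span_singleton] at ham
        obtain ⟨b, rfl⟩ := ham
        have : AdjoinRoot.of (pol π d) (π * b) + AdjoinRoot.root (pol π d) * s =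
            AdjoinRoot.root (pol π d) *
              (AdjoinRoot.root (pol π d) ^ (d - 1) * AdjoinRoot.of (pol π d) b + s) := by
          rw [map_mul, ← hroot]
          obtain ⟨e, rfl⟩ : ∃ e, d = e + 1 := ⟨d - 1, by omega⟩
          simp only [Nat.add_sub_cancel]
          ring
        rw [this]
        exact Ideal.mem_span_singleton.mpr ⟨_, rfl⟩
      obtain ⟨u, rfl⟩ := ha
      have h2 : AdjoinRoot.root (pol π d) * s ∈ J :=
        hJ (Ideal.mem_span_singleton.mpr ⟨s, rfl⟩)
      have h3 : AdjoinRoot.of (pol π d) (u : R) ∈ J := by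
        have := J.sub_mem hxJ h2
        simpa using this
      have h4 := J.mul_mem_left (AdjoinRoot.of (pol π d) ((u⁻¹ : Rˣ) : R)) h3
      rwa [← map_mul, Units.inv_mul, map_one] at h4
  -- uniqueness of the maximal ideal
  have huniq : ∀ M : Ideal (AdjoinRoot (pol π d)), M.IsMaximal →
      M = Ideal.span {AdjoinRoot.root (pol π d)} := by
    intro M hM
    have h1 : (M.comap (algebraMap R (AdjoinRoot (pol π d)))).IsMaximal :=
      Ideal.isMaximal_comap_of_isIntegral_of_isMaximal M
    have h2 : M.comap (algebraMap R (AdjoinRoot (pol π d))) = maximalIdeal R :=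
      IsLocalRing.eq_maximalIdeal h1
    have h3 : AdjoinRoot.of (pol π d) π ∈ M := by
      have : π ∈ M.comap (algebraMap R (AdjoinRoot (pol π d))) := by
        rw [h2]; exact mem_maxIdeal hπ
      exact this
    rw [← hroot] at h3
    have h4 : AdjoinRoot.root (pol π d) ∈ M := hM.isPrime.mem_of_pow_mem d h3
    have h5 : Ideal.span {AdjoinRoot.root (pol π d)} ≤ M := by
      rw [Ideal.span_le]
      simpa using h4
    exact (hmaxroot.eq_of_le hM.ne_top h5).symm
  have hloc : IsLocalRing (AdjoinRoot (pol π d)) :=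
    IsLocalRing.of_unique_max_ideal ⟨_, hmaxroot, huniq⟩
  have hmaxeq : maximalIdeal (AdjoinRoot (pol π d)) = Ideal.span {AdjoinRoot.root (pol π d)} :=
    huniq _ (maximalIdeal.isMaximal _)
  have hroot0 : AdjoinRoot.root (pol π d) ≠ 0 := by
    intro h0
    rw [h0, zero_pow hd.ne'] at hroot
    exact hπ.ne_zero (hinj (by rw [← hroot, map_zero]))
  have hnf : ¬ IsField (AdjoinRoot (pol π d)) := by
    rw [IsLocalRing.isField_iff_maximalIdeal_eq, hmaxeq, Ideal.span_singleton_eq_bot]
    exact hroot0
  have hprinc : (maximalIdeal (AdjoinRoot (pol π d))).IsPrincipal :=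
    ⟨⟨AdjoinRoot.root (pol π d), hmaxeq⟩⟩
  have hdvr : IsDiscreteValuationRing (AdjoinRoot (pol π d)) := by
    have h := (IsDiscreteValuationRing.TFAE (AdjoinRoot (pol π d)) hnf).out 0 4
    exact h.mpr hprinc
  refine ⟨hdom, hdvr, ?_, hroot, hinj, hfin, ?_⟩
  · exact (IsDiscreteValuationRing.irreducible_iff_uniformizer _).mpr hmaxeq
  · constructor
    intro a ha
    by_contra hna
    have ham : a ∈ maximalIdeal R := hna
    rw [hπ.maximalIdeal_eq, Ideal.mem_span_singleton] at ham
    obtain ⟨b, rfl⟩ := ham
    have h1 : AdjoinRoot.of (pol π d) (π * b) ∈ maximalIdeal (AdjoinRoot (pol π d)) := by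
      rw [hmaxeq, map_mul, ← hroot]
      obtain ⟨e, rfl⟩ : ∃ e, d = e + 1 := ⟨d - 1, by omega⟩
      refine Ideal.mem_span_singleton.mpr ⟨AdjoinRoot.root _ ^ e * AdjoinRoot.of _ b, ?_⟩
      ring
    exact h1 ha

open scoped nonZeroDivisors in
/-- Existence of a totally ramified extension of degree `d` of a discrete valuation ring. -/
theorem exists_dvr_ext (K : Type v) [Field K] [Algebra R K] [IsFractionRing R K]
    (hπ : Irreducible π) (hd : 0 < d) :
    ∃ (R' : Type v) (_ : CommRing R') (_ : IsDomain R') (_ : IsDiscreteValuationRing R')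
      (K' : Type v) (_ : Field K') (_ : Algebra R' K') (_ : IsFractionRing R' K')
      (_ : Algebra R R') (_ : Algebra K K') (_ : Algebra R K')
      (_ : IsScalarTower R R' K') (_ : IsScalarTower R K K')
      (_ : Module.Finite K K') (_ : IsLocalHom (algebraMap R R')) (ϖ₀ : R'),
      Irreducible ϖ₀ ∧ ϖ₀ ^ d = algebraMap R R' π ∧ Function.Injective (algebraMap R R') := by
  obtain ⟨hdom, hdvr, hirr, hroot, hinj, hfin, hloc⟩ := adjoinRoot_props hπ hd
  have hinjK : Function.Injective (algebraMap R (FractionRing (AdjoinRoot (pol π d)))) := by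
    rw [IsScalarTower.algebraMap_eq R (AdjoinRoot (pol π d)) (FractionRing (AdjoinRoot (pol π d)))]
    have h1 : Function.Injective (algebraMap (AdjoinRoot (pol π d))
        (FractionRing (AdjoinRoot (pol π d)))) :=
      IsFractionRing.injective (AdjoinRoot (pol π d)) (FractionRing (AdjoinRoot (pol π d)))
    have h2 : Function.Injective (algebraMap R (AdjoinRoot (pol π d))) := by
      rw [AdjoinRoot.algebraMap_eq]; exact hinj
    exact h1.comp h2
  let algKK' : Algebra K (FractionRing (AdjoinRoot (pol π d))) :=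
    (IsFractionRing.lift hinjK).toAlgebra
  have htower : IsScalarTower R K (FractionRing (AdjoinRoot (pol π d))) :=
    IsScalarTower.of_algebraMap_eq fun r => (IsFractionRing.lift_algebraMap hinjK r).symm
  have : FaithfulSMul R (AdjoinRoot (pol π d)) :=
    (faithfulSMul_iff_algebraMap_injective R _).mpr hinj
  have : Algebra.IsAlgebraic R (AdjoinRoot (pol π d)) :=
    (Algebra.IsIntegral.of_finite R _).isAlgebraic
  have hfinK : Module.Finite K (FractionRing (AdjoinRoot (pol π d))) :=
    Module.Finite.of_isLocalization R (AdjoinRoot (pol π d)) R⁰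
  exact ⟨AdjoinRoot (pol π d), inferInstance, hdom, hdvr, FractionRing (AdjoinRoot (pol π d)),
    inferInstance, inferInstance, inferInstance, inferInstance, algKK', inferInstance,
    inferInstance, htower, hfinK, hloc, AdjoinRoot.root (pol π d), hirr, hroot, hinj⟩

end Ext

end Groth.Agent.H3.DvrRam
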