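import Mathlib
import Groth.Agent.Lib.Helper3.AlgSpCov.RepBase
import Groth.Agent.Lib.Helper3.AlgSpCov.Covers
import Groth.Agent.Lib.Helper3.AlgSpCov.SmoothST
import Groth.Agent.Lib.Helper3.AlgSpCov.LocPBaseInst
import Groth.Agent.Lib.Helper3.AlgSpCov.LargestOpen
import Groth.Agent.Lib.Helper5.AlgSp.Permanence
import Groth.Prelude.Def_AlgSpSub
import Groth.Agent.Lib.Helper5.AlgSp.EtaleMor

/-!
# Separatedness from an elementary distinguished square (S10698)

The diagonal `X ⟶ X ×_Y X` is checked to be a closed immersion fpqc locally on `X ×_Y X`, in two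
stages (first base change along the cover of the first factor, then of the second).
-/

set_option autoImplicit false

universe u

open CategoryTheory CategoryTheory.Limits AlgebraicGeometry MorphismProperty Opposite

namespace Groth.Agent.H3.EDSep

open _root_.AlgSp Groth.Agent.H5.AlgSp Groth.Agent.H3.AlgSpCov

variable {S : Scheme.{u}}

section stage

variable {P : MorphismProperty Scheme.{u}} [P.IsStableUnderBaseChange]
    [IsZariskiLocalAtTarget P] [P.DescendsAlong (@Surjective ⊓ @Flat ⊓ @QuasiCompact)]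

/-- One descent stage: `h : A ⟶ E` has `P` as soon as its base changes along the pullback to `E`
(via `r : E ⟶ X`) of an fpqc covering of `X` have `P`. -/
theorem stage {A E X : Sp S} (hE : IsAlgSpace E) (hX : IsAlgSpace X) (h : A ⟶ E)
    (hrep : Representable h) (r : E ⟶ X) {ι : Type u} (Bi : ι → Sp S)
    (hBi : ∀ i, IsAlgSpace (Bi i)) (b : ∀ i, Bi i ⟶ X) (hcov : IsFpqcCover Bi b)
    (Ei : ι → Sp S) (k : ∀ i, Ei i ⟶ E) (e : ∀ i, Ei i ⟶ Bi i)
    (sqE : ∀ i, IsPullback (k i) (e i) r (b i))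
    (Ai : ι → Sp S) (α : ∀ i, Ai i ⟶ A) (β : ∀ i, Ai i ⟶ Bi i)
    (sqA : ∀ i, IsPullback (α i) (β i) (h ≫ r) (b i))
    (hi : ∀ i, Ai i ⟶ Ei i) (h1 : ∀ i, hi i ≫ k i = α i ≫ h) (h2 : ∀ i, hi i ≫ e i = β i)
    (hP : ∀ i, RepWith P (hi i)) : RepWith P h := by
  have hcovE : IsFpqcCover Ei k := isFpqcCover_of_isPullback hX hE r Bi hBi b Ei k e sqE hcov
  refine repWith_of_isFpqcCover h hrep Ei k hcovE Ai hi α (fun i => ?_) hP
  have s : IsPullback (hi i ≫ e i) (α i) (b i) (h ≫ r) := by
    rw [h2 i]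
    exact (sqA i).flip
  exact (IsPullback.of_right s (h1 i) (sqE i).flip).flip

/-- The graph-type map `A ⟶ A ×_X (X ×_Y X)`, the base change of the diagonal of `g` along the
projection from `A ×_X (X ×_Y X)`. -/
noncomputable def gr {X Y A : Sp S} (g : X ⟶ Y) (a : A ⟶ X) :
    A ⟶ pullback a (pullback.fst g g) :=
  pullback.lift (𝟙 A) (a ≫ pullback.diagonal g)
    (by rw [Category.id_comp, Category.assoc, pullback.diagonal_fst, Category.comp_id])

lemma gr_fst {X Y A : Sp S} (g : X ⟶ Y) (a : A ⟶ X) :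
    gr g a ≫ pullback.fst a (pullback.fst g g) = 𝟙 A := pullback.lift_fst _ _ _

lemma gr_snd {X Y A : Sp S} (g : X ⟶ Y) (a : A ⟶ X) :
    gr g a ≫ pullback.snd a (pullback.fst g g) = a ≫ pullback.diagonal g :=
  pullback.lift_snd _ _ _

lemma isPullback_gr {X Y A : Sp S} (g : X ⟶ Y) (a : A ⟶ X) :
    IsPullback a (gr g a) (pullback.diagonal g) (pullback.snd a (pullback.fst g g)) := by
  have s : IsPullback (gr g a ≫ pullback.fst a (pullback.fst g g)) a a
      (pullback.diagonal g ≫ pullback.fst g g) := by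
    rw [gr_fst, pullback.diagonal_fst]
    exact IsPullback.of_horiz_isIso ⟨by rw [Category.id_comp, Category.comp_id]⟩
  exact (IsPullback.of_right s (gr_snd g a) (IsPullback.of_hasPullback a (pullback.fst g g))).flip

/-- Stage 1: the diagonal of `g` has `P` if all the graph-type maps of a covering of `X` do. -/
theorem stage1 {X Y : Sp S} (hX : IsAlgSpace X) (hY : IsAlgSpace Y) (g : X ⟶ Y) {ι : Type u}
    (Ai : ι → Sp S) (hAi : ∀ i, IsAlgSpace (Ai i)) (a : ∀ i, Ai i ⟶ X)
    (hcov : IsFpqcCover Ai a) (hP : ∀ i, RepWith P (gr g (a i))) :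
    RepWith P (pullback.diagonal g) := by
  have hXX : IsAlgSpace (pullback g g) :=
    isAlgSpace_pullback hY.diag hX hX (IsPullback.of_hasPullback g g)
  refine stage hXX hX (pullback.diagonal g) (repWith_relDiag_of_isAlgSpace hX g).1
    (pullback.fst g g) Ai hAi a hcov (fun i => pullback (a i) (pullback.fst g g))
    (fun i => pullback.snd _ _) (fun i => pullback.fst _ _)
    (fun i => (IsPullback.of_hasPullback (a i) (pullback.fst g g)).flip)
    Ai a (fun i => 𝟙 _) (fun i => ?_) (fun i => gr g (a i)) (fun i => gr_snd g (a i))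
    (fun i => gr_fst g (a i)) hP
  rw [pullback.diagonal_fst]
  exact IsPullback.of_vert_isIso ⟨by rw [Category.comp_id, Category.id_comp]⟩

/-- Stage 2: the graph-type map of `a : A ⟶ X` has `P` if, for a covering `b i : B i ⟶ X`, the
canonical maps `A ×_X B i ⟶ A ×_Y B i` do. -/
theorem stage2 {X Y A : Sp S} (hX : IsAlgSpace X) (hY : IsAlgSpace Y) (hA : IsAlgSpace A)
    (g : X ⟶ Y) (a : A ⟶ X) {ι : Type u}
    (Bi : ι → Sp S) (hBi : ∀ i, IsAlgSpace (Bi i)) (b : ∀ i, Bi i ⟶ X)
    (hcov : IsFpqcCover Bi b)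
    (PY : ι → Sp S) (pY : ∀ i, PY i ⟶ A) (qY : ∀ i, PY i ⟶ Bi i)
    (hPY : ∀ i, IsPullback (pY i) (qY i) (a ≫ g) (b i ≫ g))
    (PX : ι → Sp S) (pX : ∀ i, PX i ⟶ A) (qX : ∀ i, PX i ⟶ Bi i)
    (hPX : ∀ i, IsPullback (pX i) (qX i) a (b i))
    (c : ∀ i, PX i ⟶ PY i) (hc1 : ∀ i, c i ≫ pY i = pX i) (hc2 : ∀ i, c i ≫ qY i = qX i)
    (hP : ∀ i, RepWith P (c i)) : RepWith P (gr g a) := by
  have hXX : IsAlgSpace (pullback g g) :=
    isAlgSpace_pullback hY.diag hX hX (IsPullback.of_hasPullback g g)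
  have hE : IsAlgSpace (pullback a (pullback.fst g g)) :=
    isAlgSpace_pullback hX.diag hA hXX (IsPullback.of_hasPullback _ _)
  have hrep : Representable (gr g a) :=
    MorphismProperty.of_isPullback (P := Representable) (isPullback_gr g a)
      (repWith_relDiag_of_isAlgSpace hX g).1
  have w1 : ∀ i, (pY i ≫ a) ≫ g = (qY i ≫ b i) ≫ g := fun i => by
    rw [Category.assoc, Category.assoc]
    exact (hPY i).w
  obtain ⟨m, hm⟩ : ∃ m : ∀ i, PY i ⟶ pullback g g,
      ∀ i, m i ≫ pullback.fst g g = pY i ≫ a ∧ m i ≫ pullback.snd g g = qY i ≫ b i :=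
    ⟨fun i => pullback.lift _ _ (w1 i),
      fun i => ⟨pullback.lift_fst _ _ _, pullback.lift_snd _ _ _⟩⟩
  obtain ⟨k, hk⟩ : ∃ k : ∀ i, PY i ⟶ pullback a (pullback.fst g g),
      ∀ i, k i ≫ pullback.fst a (pullback.fst g g) = pY i ∧
        k i ≫ pullback.snd a (pullback.fst g g) = m i :=
    ⟨fun i => pullback.lift (pY i) (m i) (by rw [(hm i).1]),
      fun i => ⟨pullback.lift_fst _ _ _, pullback.lift_snd _ _ _⟩⟩
  have sqE : ∀ i, IsPullback (k i) (qY i)
      (pullback.snd a (pullback.fst g g) ≫ pullback.snd g g) (b i) := fun i => by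
    have t : IsPullback (pullback.snd a (pullback.fst g g) ≫ pullback.snd g g)
        (pullback.fst a (pullback.fst g g)) g (a ≫ g) :=
      (IsPullback.of_hasPullback a (pullback.fst g g)).flip.paste_horiz
        (IsPullback.of_hasPullback g g).flip
    have s : IsPullback (qY i) (k i ≫ pullback.fst a (pullback.fst g g)) (b i ≫ g)
        (a ≫ g) := by
      rw [(hk i).1]
      exact (hPY i).flip
    have p : qY i ≫ b i =
        k i ≫ pullback.snd a (pullback.fst g g) ≫ pullback.snd g g := by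
      rw [← Category.assoc, (hk i).2, (hm i).2]
    exact (IsPullback.of_bot s p t).flip
  have hgr : gr g a ≫ pullback.snd a (pullback.fst g g) ≫ pullback.snd g g = a := by
    rw [← Category.assoc, gr_snd, Category.assoc, pullback.diagonal_snd, Category.comp_id]
  have sqA : ∀ i, IsPullback (pX i) (qX i)
      (gr g a ≫ pullback.snd a (pullback.fst g g) ≫ pullback.snd g g) (b i) := fun i => by
    rw [hgr]
    exact hPX i
  have h1 : ∀ i, c i ≫ k i = pX i ≫ gr g a := fun i => by
    apply pullback.hom_ext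
    · simp only [Category.assoc, (hk i).1, gr_fst, Category.comp_id]
      exact hc1 i
    · simp only [Category.assoc, (hk i).2, gr_snd]
      apply pullback.hom_ext
      · simp only [Category.assoc, (hm i).1, pullback.diagonal_fst, Category.comp_id]
        rw [← hc1 i, Category.assoc]
      · simp only [Category.assoc, (hm i).2, pullback.diagonal_snd, Category.comp_id]
        rw [(hPX i).w, ← hc2 i, Category.assoc]
  exact stage hE hX (gr g a) hrep (pullback.snd a (pullback.fst g g) ≫ pullback.snd g g)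
    Bi hBi b hcov PY k qY sqE PX pX qX sqA c h1 hc2 hP

end stage

/-- The two maps of an elementary distinguished square form an fpqc covering. -/
theorem pair_cover {U V X : Sp S} (hU : IsAlgSpace U) (hV : IsAlgSpace V) (hX : IsAlgSpace X)
    (j : U ⟶ X) (f : V ⟶ X) (hsq : IsElemDistSq j f) :
    IsFpqcCover (pairFam U V) (pairMor j f) := by
  obtain ⟨hj, hf, T, Q, i, p₁, p₂, ⟨-, hrange, -⟩, hQ, hiso⟩ := hsq
  refine isFpqcCover_of_isFppfCover hX _ (pairFam_isAlgSpace hU hV) _ ⟨?_, ?_⟩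
  · rintro ⟨_ | _⟩
    · have h1 : LocP @Etale f := (isEtaleMor_iff_locP hX f).1 hf
      exact ⟨locP_mono Groth.Agent.H5.AlgSp.etale_le_flat h1,
        locP_mono Groth.Agent.H5.AlgSp.etale_le_lfp h1⟩
    · have h1 : LocP @Etale j :=
        locP_of_repWith le_rfl (repWith_mono (fun _ _ φ hφ => by
          have : IsOpenImmersion φ := hφ
          exact (inferInstance : Etale φ)) hj)
      exact ⟨locP_mono Groth.Agent.H5.AlgSp.etale_le_flat h1,
        locP_mono Groth.Agent.H5.AlgSp.etale_le_lfp h1⟩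
  · intro x
    by_cases hx : x ∈ Set.range (Points.map j)
    · exact ⟨⟨true⟩, hx⟩
    · refine ⟨⟨false⟩, ?_⟩
      have hx' : x ∈ Set.range (Points.map i) := by
        rw [hrange]
        exact hx
      obtain ⟨t, rfl⟩ := hx'
      haveI := hiso
      refine ⟨Points.map p₂ (Points.map (inv p₁) t), ?_⟩
      show Points.map f (Points.map p₂ (Points.map (inv p₁) t)) = Points.map i t
      rw [← Points.map_comp, ← Points.map_comp, ← hQ.w, IsIso.inv_hom_id_assoc]

/-- An `X`-morphism from an open subspace of `V` to a space separated over `V` which is closed on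
points is a closed immersion. -/
theorem closedImm_of_closed {PX PY V : Sp S} (c : PX ⟶ PY) (qY : PY ⟶ V) (qX : PX ⟶ V)
    (hc : c ≫ qY = qX) (hqX : RepWith @IsOpenImmersion qX)
    (hqY : RepWith @IsClosedImmersion (pullback.diagonal qY)) (hcl : IsClosedMor c) :
    RepWith @IsClosedImmersion c := by
  have h1 : RepWith @IsImmersion (c ≫ qY) := by
    rw [hc]
    exact repWith_mono (fun _ _ φ hφ => by
      have : IsOpenImmersion φ := hφ
      exact (inferInstance : IsImmersion φ)) hqX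
  have h2 : RepWith @IsImmersion (pullback.diagonal qY) :=
    repWith_mono isClosedImmersion_le_isImmersion hqY
  have h3 : RepWith @IsImmersion c := repWith_of_comp_of_diag h1 h2
  exact (repWith_isClosedImmersion_iff_isClosed_range h3).2 hcl.isClosed_range

/-- The main theorem, in terms of sheaves. -/
theorem main {U V X Y PX PY QX QY : Sp S} (hU : IsAlgSpace U) (hV : IsAlgSpace V)
    (hX : IsAlgSpace X) (hY : IsAlgSpace Y) (g : X ⟶ Y)
    (j : U ⟶ X) (f : V ⟶ X) (hsq : IsElemDistSq j f)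
    (hUs : RepWith @IsClosedImmersion (pullback.diagonal (j ≫ g)))
    (pX : PX ⟶ U) (qX : PX ⟶ V) (hPX : IsPullback pX qX j f)
    (pY : PY ⟶ U) (qY : PY ⟶ V) (hPY : IsPullback pY qY (j ≫ g) (f ≫ g))
    (c : PX ⟶ PY) (hc₁ : c ≫ pY = pX) (hc₂ : c ≫ qY = qX) (hcl : IsClosedMor c)
    (rX₁ rX₂ : QX ⟶ V) (hQX : IsPullback rX₁ rX₂ f f)
    (rY₁ rY₂ : QY ⟶ V) (hQY : IsPullback rY₁ rY₂ (f ≫ g) (f ≫ g))
    (d : QX ⟶ QY) (hd₁ : d ≫ rY₁ = rX₁) (hd₂ : d ≫ rY₂ = rX₂)
    (hdcl : RepWith @IsClosedImmersion d) :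
    RepWith @IsClosedImmersion (pullback.diagonal g) := by
  have hcov := pair_cover hU hV hX j f hsq
  have hj : RepWith @IsOpenImmersion j := by
    obtain ⟨hj, -⟩ := hsq
    exact hj
  haveI : Mono j := mono_of_isOpenImmersion hj
  -- the mixed piece
  have hccl : RepWith @IsClosedImmersion c :=
    closedImm_of_closed c qY qX hc₂
      (MorphismProperty.of_isPullback (P := RepWith @IsOpenImmersion) hPX hj)
      (repWith_diag_of_isPullback hPY hUs) hcl
  refine stage1 hX hY g (pairFam U V) (pairFam_isAlgSpace hU hV) (pairMor j f) hcov ?_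
  rintro ⟨_ | _⟩
  · -- `A = V`
    refine stage2 hX hY hV g f (pairFam U V) (pairFam_isAlgSpace hU hV) (pairMor j f) hcov
      (pairFam PY QY) (pairMor qY rY₁) (pairMap pY rY₂) ?_
      (pairFam PX QX) (pairMor qX rX₁) (pairMap pX rX₂) ?_
      (pairMap c d) ?_ ?_ ?_
    · rintro ⟨_ | _⟩
      · exact hQY
      · exact hPY.flip
    · rintro ⟨_ | _⟩
      · exact hQX
      · exact hPX.flip
    · rintro ⟨_ | _⟩
      · exact hd₁
      · exact hc₂
    · rintro ⟨_ | _⟩
      · exact hd₂
      · exact hc₁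
    · rintro ⟨_ | _⟩
      · exact hdcl
      · exact hccl
  · -- `A = U`
    refine stage2 hX hY hU g j (pairFam U V) (pairFam_isAlgSpace hU hV) (pairMor j f) hcov
      (pairFam (pullback (j ≫ g) (j ≫ g)) PY)
      (pairMor (pullback.fst (j ≫ g) (j ≫ g)) pY)
      (pairMap (pullback.snd (j ≫ g) (j ≫ g)) qY) ?_
      (pairFam U PX) (pairMor (𝟙 U) pX) (pairMap (𝟙 U) qX) ?_
      (pairMap (pullback.diagonal (j ≫ g)) c) ?_ ?_ ?_
    · rintro ⟨_ | _⟩
      · exact hPY
      · exact IsPullback.of_hasPullback (j ≫ g) (j ≫ g)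
    · rintro ⟨_ | _⟩
      · exact hPX
      · exact IsKernelPair.id_of_mono j
    · rintro ⟨_ | _⟩
      · exact hc₁
      · exact pullback.diagonal_fst _
    · rintro ⟨_ | _⟩
      · exact hc₂
      · exact pullback.diagonal_snd _
    · rintro ⟨_ | _⟩
      · exact hccl
      · exact hUs

end Groth.Agent.H3.EDSep
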