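import Mathlib

/-! helper3: the Eakin–Nagata theorem (Formanek's proof): if `A` is a Noetherian ring which is a
finite module over a subring `B`, then `B` is Noetherian. -/

set_option autoImplicit false
universe u v

open Pointwise

namespace Groth.Agent.H3.EN

variable {B : Type u} {M : Type v} [CommRing B] [AddCommGroup M] [Module B M]

theorem mem_smul_top_iff (b : B) (x : M) :
    x ∈ b • (⊤ : Submodule B M) ↔ ∃ m : M, b • m = x := by
  constructor
  · intro h
    obtain ⟨m, -, hm⟩ := (Submodule.mem_smul_pointwise_iff_exists _ _ _).mp h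
    exact ⟨m, hm⟩
  · rintro ⟨m, rfl⟩
    exact Submodule.smul_mem_pointwise_smul m b ⊤ Submodule.mem_top

theorem fg_smul_top [Module.Finite B M] (b : B) : (b • (⊤ : Submodule B M)).FG := by
  have : b • (⊤ : Submodule B M) = (⊤ : Submodule B M).map (LinearMap.lsmul B M b) := by
    ext x
    rw [mem_smul_top_iff, Submodule.mem_map]
    constructor
    · rintro ⟨m, rfl⟩
      exact ⟨m, Submodule.mem_top, rfl⟩
    · rintro ⟨m, -, rfl⟩
      exact ⟨m, rfl⟩
  rw [this]
  exact (Module.Finite.fg_top).map _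

/-- Second stage of Formanek's argument. -/
theorem isNoetherian_of_quotient_smul_top [Module.Finite B M]
    (h3 : ∀ b : B, b • (⊤ : Submodule B M) ≠ ⊥ →
      IsNoetherian B (M ⧸ b • (⊤ : Submodule B M))) :
    IsNoetherian B M := by
  classical
  let Γ : Set (Submodule B M) :=
    {N | ∀ b : B, b • (⊤ : Submodule B M) ≤ N → b • (⊤ : Submodule B M) = ⊥}
  have hbot : (⊥ : Submodule B M) ∈ Γ := fun b hb => le_bot_iff.mp hb
  obtain ⟨N₁, -, hN₁⟩ := zorn_le_nonempty₀ Γ (by
    intro c hcΓ hc y hy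
    refine ⟨sSup c, ?_, fun z hz => le_sSup hz⟩
    intro b hb
    have hcomp := (Submodule.fg_iff_compact _).mp (fg_smul_top (M := M) b)
    rw [CompleteLattice.isCompactElement_iff_le_of_directed_sSup_le] at hcomp
    obtain ⟨N, hN, hbN⟩ := hcomp c ⟨y, hy⟩ hc.directedOn hb
    exact hcΓ hN b hbN) ⊥ hbot
  have hN₁Γ : N₁ ∈ Γ := hN₁.prop
  by_cases hM₂ : IsNoetherian B (M ⧸ N₁)
  · -- `B / Ann M` embeds into a power of `M / N₁`
    obtain ⟨r, m, hm⟩ := Module.Finite.exists_fin (R := B) (M := M)
    let φ : B →ₗ[B] (Fin r → M ⧸ N₁) :=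
      LinearMap.pi fun i => N₁.mkQ ∘ₗ LinearMap.toSpanSingleton B M (m i)
    have hker : ∀ b : B, b ∈ LinearMap.ker φ → ∀ x : M, b • x = 0 := by
      intro b hb
      have h1 : ∀ i, b • m i ∈ N₁ := by
        intro i
        have := congrFun (LinearMap.mem_ker.mp hb) i
        change N₁.mkQ (b • m i) = 0 at this
        rwa [Submodule.mkQ_apply, Submodule.Quotient.mk_eq_zero] at this
      have h2' : ∀ y : M, y ∈ Submodule.span B (Set.range m) → b • y ∈ N₁ := by
        intro y hy
        induction hy using Submodule.span_induction with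
        | mem z hz =>
          obtain ⟨i, rfl⟩ := hz
          exact h1 i
        | zero => rw [smul_zero]; exact N₁.zero_mem
        | add z w _ _ hz hw => rw [smul_add]; exact N₁.add_mem hz hw
        | smul c z _ hz => rw [smul_comm]; exact N₁.smul_mem c hz
      have h2 : b • (⊤ : Submodule B M) ≤ N₁ := by
        intro x hx
        obtain ⟨y, rfl⟩ := (mem_smul_top_iff b x).mp hx
        exact h2' y (by rw [hm]; exact Submodule.mem_top)
      have h3' := hN₁Γ b h2
      intro x
      have : b • x ∈ b • (⊤ : Submodule B M) := (mem_smul_top_iff b _).mpr ⟨x, rfl⟩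
      rw [h3'] at this
      exact (Submodule.mem_bot B).mp this
    haveI : IsNoetherian B (B ⧸ LinearMap.ker φ) :=
      isNoetherian_of_injective ((LinearMap.ker φ).liftQ φ le_rfl)
        (LinearMap.ker_eq_bot.mp (Submodule.ker_liftQ_eq_bot _ _ _ le_rfl))
    let ψi : Fin r → ((B ⧸ LinearMap.ker φ) →ₗ[B] M) := fun i =>
      (LinearMap.ker φ).liftQ (LinearMap.toSpanSingleton B M (m i)) (by
        intro b hb
        rw [LinearMap.mem_ker, LinearMap.toSpanSingleton_apply]
        exact hker b hb (m i))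
    let ψ : (Fin r → B ⧸ LinearMap.ker φ) →ₗ[B] M :=
      ∑ i, (ψi i) ∘ₗ LinearMap.proj i
    refine isNoetherian_of_surjective ψ ?_
    rw [eq_top_iff, ← hm, Submodule.span_le]
    rintro _ ⟨i, rfl⟩
    refine ⟨Pi.single i (Submodule.Quotient.mk 1), ?_⟩
    change (∑ j, (ψi j) ∘ₗ LinearMap.proj j) (Pi.single i (Submodule.Quotient.mk 1)) = m i
    rw [LinearMap.sum_apply, Finset.sum_eq_single i]
    · change ψi i ((Pi.single i (Submodule.Quotient.mk (1 : B)) : Fin r → B ⧸ LinearMap.ker φ) i) =
        m i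
      rw [Pi.single_eq_same]
      change (LinearMap.ker φ).liftQ _ _ (Submodule.Quotient.mk 1) = m i
      rw [Submodule.liftQ_apply, LinearMap.toSpanSingleton_apply, one_smul]
    · intro j _ hji
      change ψi j ((Pi.single i (Submodule.Quotient.mk (1 : B)) : Fin r → B ⧸ LinearMap.ker φ) j) =
        0
      rw [Pi.single_eq_of_ne hji, map_zero]
    · intro h
      exact absurd (Finset.mem_univ i) h
  · exfalso
    apply hM₂
    rw [isNoetherian_def]
    intro N'
    by_contra hN'
    set N'' := N'.comap N₁.mkQ with hN''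
    have hle : N₁ ≤ N'' := by
      intro x hx
      rw [hN'', Submodule.mem_comap, Submodule.mkQ_apply, (Submodule.Quotient.mk_eq_zero N₁).mpr hx]
      exact N'.zero_mem
    have hmap : N''.map N₁.mkQ = N' :=
      Submodule.map_comap_eq_of_surjective (Submodule.mkQ_surjective N₁) N'
    have hnot : N'' ∉ Γ := by
      intro hΓ
      have := hN₁.le_of_ge hΓ hle
      have h1 : N'' = N₁ := le_antisymm this hle
      apply hN'
      rw [← hmap, h1, Submodule.mkQ_map_self]
      exact Submodule.fg_bot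
    simp only [Γ, Set.mem_ofPred_eq, not_forall] at hnot
    obtain ⟨b, hb1, hb2⟩ := hnot
    haveI := h3 b hb2
    apply hN'
    rw [← hmap]
    refine Submodule.FG.map _ ?_
    refine Submodule.fg_of_fg_map_of_fg_inf_ker (b • (⊤ : Submodule B M)).mkQ
      (isNoetherian_def.mp inferInstance _) ?_
    rw [Submodule.ker_mkQ, inf_eq_right.mpr hb1]
    exact fg_smul_top b

/-- Formanek's theorem: a finitely generated module satisfying the ascending chain condition on
submodules of the form `I M` is Noetherian. -/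
theorem isNoetherian_of_acc [Module.Finite B M]
    (hacc : ∀ S : Set (Submodule B M), S.Nonempty →
      (∀ N ∈ S, ∃ I : Ideal B, N = I • (⊤ : Submodule B M)) →
      ∃ N ∈ S, ∀ N' ∈ S, N ≤ N' → N' = N) : IsNoetherian B M := by
  by_contra hM
  let S : Set (Submodule B M) :=
    {N | (∃ I : Ideal B, N = I • (⊤ : Submodule B M)) ∧ ¬ IsNoetherian B (M ⧸ N)}
  have hbot : (⊥ : Submodule B M) ∈ S :=
    ⟨⟨⊥, (Submodule.bot_smul _).symm⟩, fun h =>
      hM (isNoetherian_of_linearEquiv (Submodule.quotEquivOfEqBot ⊥ rfl))⟩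
  obtain ⟨N₀, ⟨⟨I₀, rfl⟩, hN₀⟩, hmax⟩ := hacc S ⟨⊥, hbot⟩ (fun N hN => hN.1)
  apply hN₀
  apply isNoetherian_of_quotient_smul_top
  intro b hb
  set N₂ := (I₀ ⊔ Ideal.span {b}) • (⊤ : Submodule B M) with hN₂
  have hle : I₀ • (⊤ : Submodule B M) ≤ N₂ := Submodule.smul_mono_left le_sup_left
  have hbN₂ : ∀ m : M, b • m ∈ N₂ := fun m =>
    Submodule.smul_mem_smul (Ideal.mem_sup_right (Ideal.subset_span rfl)) Submodule.mem_top
  have hne : N₂ ≠ I₀ • (⊤ : Submodule B M) := by
    intro h
    apply hb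
    rw [eq_bot_iff]
    intro x hx
    obtain ⟨y, rfl⟩ := (mem_smul_top_iff b x).mp hx
    obtain ⟨m, rfl⟩ := Submodule.Quotient.mk_surjective _ y
    rw [Submodule.mem_bot, ← Submodule.Quotient.mk_smul, Submodule.Quotient.mk_eq_zero, ← h]
    exact hbN₂ m
  have hnoe : IsNoetherian B (M ⧸ N₂) := by
    by_contra h
    exact hne (hmax N₂ ⟨⟨_, rfl⟩, h⟩ hle)
  let f : (M ⧸ N₂) →ₗ[B]
      ((M ⧸ I₀ • (⊤ : Submodule B M)) ⧸ b • (⊤ : Submodule B (M ⧸ I₀ • (⊤ : Submodule B M)))) :=
    N₂.liftQ ((b • (⊤ : Submodule B (M ⧸ I₀ • (⊤ : Submodule B M)))).mkQ ∘ₗ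
      (I₀ • (⊤ : Submodule B M)).mkQ) (by
      rw [hN₂, Submodule.sup_smul, sup_le_iff]
      constructor
      · intro x hx
        rw [LinearMap.mem_ker, LinearMap.comp_apply]
        have : (I₀ • (⊤ : Submodule B M)).mkQ x = 0 := by
          rw [Submodule.mkQ_apply]
          exact (Submodule.Quotient.mk_eq_zero _).mpr hx
        rw [this, map_zero]
      · rw [Submodule.ideal_span_singleton_smul]
        intro x hx
        obtain ⟨m, rfl⟩ := (mem_smul_top_iff b x).mp hx
        rw [LinearMap.mem_ker, LinearMap.comp_apply, map_smul]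
        change Submodule.Quotient.mk (b • (I₀ • (⊤ : Submodule B M)).mkQ m) = 0
        rw [Submodule.Quotient.mk_eq_zero]
        exact (mem_smul_top_iff b _).mpr ⟨_, rfl⟩)
  refine isNoetherian_of_surjective f ?_
  rw [LinearMap.range_eq_top]
  intro y
  obtain ⟨y', rfl⟩ := Submodule.Quotient.mk_surjective _ y
  obtain ⟨m, rfl⟩ := Submodule.Quotient.mk_surjective _ y'
  exact ⟨Submodule.Quotient.mk m, rfl⟩

/-- **Eakin–Nagata.** -/
theorem isNoetherianRing_of_finite (B : Type u) (A : Type v) [CommRing B] [CommRing A] [Algebra B A]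
    [IsNoetherianRing A] [Module.Finite B A] (hinj : Function.Injective (algebraMap B A)) :
    IsNoetherianRing B := by
  have hA : IsNoetherian B A := by
    apply isNoetherian_of_acc
    intro S hS hSI
    let T : Set (Ideal A) := {J | J.restrictScalars B ∈ S}
    have hT : T.Nonempty := by
      obtain ⟨N, hN⟩ := hS
      obtain ⟨I, rfl⟩ := hSI N hN
      refine ⟨I.map (algebraMap B A), ?_⟩
      change (I.map (algebraMap B A)).restrictScalars B ∈ S
      rw [← Ideal.smul_top_eq_map]
      exact hN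
    obtain ⟨J, hJ, hJmax⟩ := set_has_maximal_iff_noetherian.mpr
      (inferInstance : IsNoetherian A A) T hT
    refine ⟨J.restrictScalars B, hJ, ?_⟩
    intro N' hN' hle
    obtain ⟨I', rfl⟩ := hSI N' hN'
    rw [Ideal.smul_top_eq_map] at hN' hle ⊢
    have h1 : J ≤ I'.map (algebraMap B A) := fun x hx => hle hx
    have h2 : ¬ J < I'.map (algebraMap B A) := hJmax _ hN'
    have h3 : I'.map (algebraMap B A) = J := by
      by_contra hne
      exact h2 (lt_of_le_of_ne h1 (Ne.symm hne))
    rw [h3]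
  exact isNoetherian_of_injective (Algebra.linearMap B A) hinj

end Groth.Agent.H3.EN
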