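import Mathlib
import Groth.Agent.Lib.Helper3.QcClosure

set_option autoImplicit false

universe u

open AlgebraicGeometry CategoryTheory CategoryTheory.Limits TopologicalSpace MorphismProperty

namespace Groth.Agent.H3.EmbDesc

open Groth.Agent.H3.QcClosure

/-- quasi-compactness descends along surjective quasi-compact base change -/
lemma quasiCompact_of_isPullback {A X Y Z : Scheme.{u}} {fst : A ⟶ X} {snd : A ⟶ Y} {f : X ⟶ Z}
    {g : Y ⟶ Z} (sq : IsPullback fst snd f g) [Surjective f] [QuasiCompact f] [QuasiCompact fst] :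
    QuasiCompact g := by
  haveI : Surjective snd := MorphismProperty.of_isPullback (P := @Surjective) sq ‹_›
  constructor
  intro U hU hUc
  have h1 : IsCompact (f ⁻¹' U) := QuasiCompact.isCompact_preimage (f := f) U hU hUc
  have h2 : IsCompact (fst ⁻¹' (f ⁻¹' U)) :=
    QuasiCompact.isCompact_preimage (f := fst) _ (hU.preimage f.continuous) h1
  have h3 : g ⁻¹' U = snd '' (fst ⁻¹' (f ⁻¹' U)) := by
    ext y
    constructor
    · intro hy
      obtain ⟨a, rfl⟩ := snd.surjective y
      refine ⟨a, ?_, rfl⟩
      change f (fst a) ∈ U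
      rw [← Scheme.Hom.comp_apply, sq.w, Scheme.Hom.comp_apply]
      exact hy
    · rintro ⟨a, ha, rfl⟩
      change g (snd a) ∈ U
      rw [← Scheme.Hom.comp_apply, ← sq.w, Scheme.Hom.comp_apply]
      exact ha
  rw [h3]
  exact h2.image snd.continuous

theorem main :
    MorphismProperty.DescendsAlong
      (MorphismProperty.universally (topologically (fun f => Topology.IsEmbedding f)) ⊓ @QuasiCompact : MorphismProperty Scheme.{u})
      (@Surjective ⊓ @Flat ⊓ @QuasiCompact : MorphismProperty Scheme.{u}) := by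
  constructor
  intro A X Y Z fst snd f g sq hf hfst
  obtain ⟨⟨hsurj, hflat⟩, hqc⟩ := hf
  obtain ⟨huniv, hqcfst⟩ := hfst
  haveI : Surjective f := hsurj
  haveI : Flat f := hflat
  haveI : QuasiCompact f := hqc
  haveI : QuasiCompact fst := hqcfst
  have hqcg : QuasiCompact g := quasiCompact_of_isPullback sq
  refine ⟨?_, hqcg⟩
  intro Y' T i₁ i₂ g' sq'
  -- base change of the covering morphism
  let pX : pullback f i₂ ⟶ X := pullback.fst f i₂
  let fT : pullback f i₂ ⟶ T := pullback.snd f i₂
  let fst' : pullback fT g' ⟶ pullback f i₂ := pullback.fst fT g'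
  let snd' : pullback fT g' ⟶ Y' := pullback.snd fT g'
  have S1 : IsPullback fst' snd' fT g' := IsPullback.of_hasPullback fT g'
  have S2 : IsPullback pX fT f i₂ := IsPullback.of_hasPullback f i₂
  have hw : (fst' ≫ pX) ≫ f = (snd' ≫ i₁) ≫ g := by
    rw [Category.assoc, S2.w, ← Category.assoc, S1.w, Category.assoc, sq'.w, Category.assoc]
  let α : pullback fT g' ⟶ A := sq.lift (fst' ≫ pX) (snd' ≫ i₁) hw
  have hα1 : α ≫ fst = fst' ≫ pX := sq.lift_fst _ _ _
  have hα2 : α ≫ snd = snd' ≫ i₁ := sq.lift_snd _ _ _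
  have big : IsPullback (snd' ≫ i₁) fst' g (fT ≫ i₂) := S1.flip.paste_horiz sq'.flip
  have big' : IsPullback (α ≫ snd) fst' g (pX ≫ f) := by
    rw [hα2, S2.w]; exact big
  have left : IsPullback α fst' fst pX := IsPullback.of_right big' hα1 sq.flip
  have hemb : Topology.IsEmbedding fst' := huniv α pX fst' left.flip
  haveI : QuasiCompact g' := MorphismProperty.of_isPullback (P := @QuasiCompact) sq'.flip hqcg
  haveI : Surjective fT := MorphismProperty.of_isPullback (P := @Surjective) S2 hsurj
  haveI : Flat fT := MorphismProperty.of_isPullback (P := @Flat) S2 hflat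
  exact isEmbedding_of_isPullback S1 fT.surjective (Flat.generalizingMap fT) hemb

end Groth.Agent.H3.EmbDesc
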