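import Mathlib
import Groth.Prelude.Def_ZClos
import Groth.Prelude.Def_Coh
import Groth.Prelude.Def_CAlg
import Groth.Prelude.Def_FDesc
import Groth.Agent.Lib.Helper3.ZClosLib
import Groth.Agent.Lib.Helper3.ZClosStalk
import Groth.Agent.Lib.Helper3.ZClosSect
import Groth.Agent.Lib.Helper3.ZClosNoeth
import Groth.Agent.Lib.Helper3.ColimSect
import Groth.Agent.Lib.Helper3.AssSupp
import Groth.Agent.Lib.Helper3.DepthAux
import Groth.Agent.Lib.Lead.QC.LocFree
import Groth.Agent.Lib.Lead.QC.FinType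
import Groth.Agent.Lib.Lead.QC.CartierHeight

set_option autoImplicit false

universe u

open AlgebraicGeometry CategoryTheory CategoryTheory.Limits TopologicalSpace Opposite

namespace Groth.Agent.H3.ZClosPureAt

open ZClos Groth.Agent.H3.ZClosLib Groth.Agent.H3.ZClosSect Groth.Agent.H3.ColimSect
  Groth.Agent.H3.ZClosNoeth Groth.Agent.H3.ZClosStalk Groth.Agent.LD.QC

variable {X : Scheme.{u}}

lemma rhoStalk_germ (Z : Set X) (F : X.Modules) (x : X) (U : X.Opens) (hx : x ∈ U)
    (n : Γ(F, U)) :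
    rhoStalk Z F x (F.presheaf.germ U x hx n) =
      ((H0 Z).obj F).presheaf.germ U x hx ((rhoApp Z F).app U n) :=
  TopCat.Presheaf.stalkFunctor_map_germ_apply U x hx
    ((Scheme.Modules.toPresheaf X).map (rhoApp Z F)) n

/-- a section vanishing off a closed subset of `Z` has germs in the kernel of `ρ` -/
theorem rhoStalk_germ_eq_zero (Z : Set X) (F : X.Modules) (x : X) (U : X.Opens) (hx : x ∈ U)
    (n : Γ(F, U)) (T : Cl Z)
    (hn : F.presheaf.map (homOfLE (inf_le_left : U ⊓ T.U ≤ U)).op n = 0) :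
    rhoStalk Z F x (F.presheaf.germ U x hx n) = 0 := by
  rw [rhoStalk_germ]
  have h1 : (rhoApp Z F).app U n = 0 := by
    rw [rhoApp_eq Z F T]
    change (colimit.ι ((diagram Z).obj F) T).app U ((toDiagram Z F T).app U n) = 0
    have h2 : (toDiagram Z F T).app U n = 0 := by
      change ((resPushUnit T.U).app F).app U n = 0
      rw [unit_app_eq T.U U F (image_preimage_le_inf T.U U) n, hn, map_zero]
      rfl
    rw [h2, map_zero]
  rw [h1, map_zero]

/-- a germ in the kernel of `ρ` comes from a section vanishing off a closed subset of `Z` -/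
theorem exists_of_rhoStalk_germ_eq_zero [IsLocallyNoetherian X] (Z : Set X) (F : X.Modules)
    (x : X) (U : X.Opens) (hx : x ∈ U) (n : Γ(F, U))
    (h : rhoStalk Z F x (F.presheaf.germ U x hx n) = 0) :
    ∃ (T : Cl Z) (U' : X.Opens) (hU' : U' ≤ U), IsAffineOpen U' ∧ x ∈ U' ∧
      F.presheaf.map (homOfLE (inf_le_left : U' ⊓ T.U ≤ U')).op
        (F.presheaf.map (homOfLE hU').op n) = 0 := by
  rw [rhoStalk_germ] at h
  have h' : ((H0 Z).obj F).presheaf.germ U x hx ((rhoApp Z F).app U n) =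
      ((H0 Z).obj F).presheaf.germ U x hx 0 := by rw [h, map_zero]
  obtain ⟨W, hxW, i1, i2, e⟩ := TopCat.Presheaf.germ_eq _ x hx hx _ _ h'
  rw [map_zero] at e
  obtain ⟨U', hU'a, hxU', hU'W⟩ := exists_isAffineOpen_mem_and_subset (x := x) (U := W) hxW
  have hU'W' : U' ≤ W := hU'W
  have hU'U : U' ≤ U := hU'W'.trans i1.le
  have e' : (rhoApp Z F).app U' (F.presheaf.map (homOfLE hU'U).op n) = 0 := by
    rw [app_res]
    have := congrArg (((H0 Z).obj F).presheaf.map (homOfLE hU'W').op) e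
    rw [map_zero] at this
    rw [← this]
    change _ = ((H0 Z).obj F).presheaf.map (homOfLE hU'W').op
      (((H0 Z).obj F).presheaf.map (homOfLE i1.le).op ((rhoApp Z F).app U n))
    rw [res_res]
  rw [rhoApp_eq Z F ⊥] at e'
  have e'' : (colimit.ι ((diagram Z).obj F) ⊥).app U'
      ((toDiagram Z F ⊥).app U' (F.presheaf.map (homOfLE hU'U).op n)) = 0 := e'
  obtain ⟨T, hT, hk⟩ := exists_kill_of_isCompact ((diagram Z).obj F) U' hU'a.isCompact ⊥ _ e''
  refine ⟨T, U', hU'U, hU'a, hxU', ?_⟩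
  have h3 : (toDiagram Z F T).app U' (F.presheaf.map (homOfLE hU'U).op n) = 0 := by
    rw [← toDiagram_map Z F (homOfLE hT)]
    exact hk
  have h4 : ((resPushUnit T.U).app F).app U' (F.presheaf.map (homOfLE hU'U).op n) = 0 := h3
  rw [unit_app_eq T.U U' F (image_preimage_le_inf T.U U')] at h4
  apply res_injective_of_le_of_le F (image_preimage_le_inf T.U U') (inf_le_image_preimage T.U U')
  rw [h4, map_zero]
  rfl


lemma not_isUnit_germ_of_mem {U : X.Opens} (hU : IsAffineOpen U) (y : X) (hy : y ∈ U)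
    (u : Γ(X, U)) (hu : u ∈ (hU.primeIdealOf ⟨y, hy⟩).asIdeal) :
    ¬ IsUnit (X.presheaf.germ U y hy u) := by
  intro h
  exact (mem_primeIdealOf_iff hU y hy u).1 hu ((X.mem_basicOpen u y hy).2 h)

/-- (⇐) of the purity criterion -/
theorem isZPureAt_of_forall_not_isAssPoint [IsLocallyNoetherian X] (Z : Set X) (F : X.Modules)
    [F.IsQuasicoherent] (x : X)
    (h : ∀ x' : X, x' ⤳ x → x' ∈ Z → ¬ Curv2.IsAssPoint F x') : IsZPureAt Z F x := by
  unfold IsZPureAt
  rw [injective_iff_map_eq_zero (rhoStalk Z F x).hom]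
  intro σ hσ
  obtain ⟨V, hxV, n₀, rfl⟩ := TopCat.Presheaf.exists_germ_eq F.presheaf σ
  obtain ⟨T, U', hU'V, hU'a, hxU', hn⟩ := exists_of_rhoStalk_germ_eq_zero Z F x V hxV n₀ hσ
  by_contra hne
  have hne' : F.presheaf.germ U' x hxU' (F.presheaf.map (homOfLE hU'V).op n₀) ≠ 0 := by
    rw [germ_res]; exact hne
  obtain ⟨x', hx', hsp, hw, hann⟩ := Groth.Agent.H3.AssSupp.exists_weakAss_generization F hU'a x
    hxU' _ hne'
  have hx'T : x' ∈ (T.1 : Set X) := by
    by_contra hx'T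
    have hx'2 : x' ∈ U' ⊓ T.U := ⟨hx', hx'T⟩
    have h0 : F.presheaf.germ U' x' hx' (F.presheaf.map (homOfLE hU'V).op n₀) = 0 := by
      rw [← germ_res F x' (inf_le_left : U' ⊓ T.U ≤ U') hx'2, hn, map_zero]
    obtain ⟨u, hu, hu0⟩ := Groth.Agent.H3.AssSupp.exists_smul_eq_zero_of_germ_eq_zero F hU'a x'
      hx' _ h0
    exact not_isUnit_germ_of_mem hU'a x' hx' u (hann u hu0) hu
  exact h x' hsp (T.2 hx'T) ((isAssPoint_iff_isWeakAssPoint F x').2 hw)


/-- specialization between points of an affine open in terms of their primes -/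
lemma primeIdealOf_le_iff {U : X.Opens} (hU : IsAffineOpen U) (y z : X) (hy : y ∈ U) (hz : z ∈ U) :
    (hU.primeIdealOf ⟨y, hy⟩).asIdeal ≤ (hU.primeIdealOf ⟨z, hz⟩).asIdeal ↔ y ⤳ z := by
  have h1 : (hU.primeIdealOf ⟨y, hy⟩).asIdeal ≤ (hU.primeIdealOf ⟨z, hz⟩).asIdeal ↔
      hU.primeIdealOf ⟨y, hy⟩ ⤳ hU.primeIdealOf ⟨z, hz⟩ :=
    PrimeSpectrum.le_iff_specializes _ _
  rw [h1]
  have h2 := hU.fromSpec.isOpenEmbedding.isInducing.specializes_iff
    (x := hU.primeIdealOf ⟨y, hy⟩) (y := hU.primeIdealOf ⟨z, hz⟩)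
  rw [hU.fromSpec_primeIdealOf ⟨y, hy⟩, hU.fromSpec_primeIdealOf ⟨z, hz⟩] at h2
  exact h2.symm

/-- (⇒) of the purity criterion -/
theorem not_isAssPoint_of_isZPureAt [IsLocallyNoetherian X] (Z : Set X)
    (hZ : StableUnderSpecialization Z) (F : X.Modules) [F.IsQuasicoherent] (hft : F.IsFiniteType)
    (x : X) (h : IsZPureAt Z F x) (x' : X) (hsp : x' ⤳ x) (hx'Z : x' ∈ Z) :
    ¬ Curv2.IsAssPoint F x' := by
  intro hass
  obtain ⟨U, hU, hxU, -⟩ := exists_isAffineOpen_mem_and_subset (x := x) (U := ⊤) trivial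
  have hx'U : x' ∈ U := hsp.mem_open U.isOpen hxU
  haveI : IsNoetherianRing Γ(X, U) := IsLocallyNoetherian.component_noetherian ⟨U, hU⟩
  haveI hfin : Module.Finite Γ(X, U) Γ(F, U) := finite_sections_of_isFiniteType F hft hU
  -- the prime of `x'` is an associated prime of the module of sections
  have hpass : (hU.primeIdealOf ⟨x', hx'U⟩).asIdeal ∈ associatedPrimes Γ(X, U) Γ(F, U) := by
    letI := stalkΓModule F x' U hx'U
    haveI := isLocalizedModule_germ F hU x' hx'U
    letI : Algebra Γ(X, U) (X.presheaf.stalk x') :=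
      TopCat.Presheaf.algebra_section_stalk X.presheaf ⟨x', hx'U⟩
    haveI := hU.isLocalization_stalk ⟨x', hx'U⟩
    haveI : IsScalarTower Γ(X, U) (X.presheaf.stalk x') (F.presheaf.stalk x') :=
      IsScalarTower.of_algebraMap_smul fun r m => rfl
    have h1 := Module.associatedPrimes.comap_mem_associatedPrimes_of_mem_associatedPrimes_of_isLocalizedModule_of_fg
      (hU.primeIdealOf ⟨x', hx'U⟩).asIdeal.primeCompl (germLinear F x' U hx'U)
      (IsLocalRing.maximalIdeal (X.presheaf.stalk x')) hass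
      ((isNoetherianRing_iff_ideal_fg _).1 inferInstance _)
    have e : Ideal.comap (algebraMap Γ(X, U) (X.presheaf.stalk x'))
        (IsLocalRing.maximalIdeal (X.presheaf.stalk x')) =
        (hU.primeIdealOf ⟨x', hx'U⟩).asIdeal :=
      IsLocalization.AtPrime.under_maximalIdeal _ _
    rwa [e] at h1
  obtain ⟨-, n, hn⟩ := isAssociatedPrime_iff.mp hpass
  -- the closure of `x'`
  let T : Cl Z := ⟨⟨closure {x'}, isClosed_closure⟩, fun y hy =>
    hZ (specializes_iff_mem_closure.2 hy) hx'Z⟩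
  -- `n` vanishes off `T`
  have hnT : F.presheaf.map (homOfLE (inf_le_left : U ⊓ T.U ≤ U)).op n = 0 := by
    apply section_eq_zero_of_germ
    rintro y ⟨hyU, hyT⟩
    rw [germ_res F y (inf_le_left : U ⊓ T.U ≤ U) ⟨hyU, hyT⟩ n]
    have hnsp : ¬ x' ⤳ y := fun hs => hyT (specializes_iff_mem_closure.1 hs)
    rw [← primeIdealOf_le_iff hU x' y hx'U hyU] at hnsp
    obtain ⟨u, hup, huy⟩ := SetLike.not_le_iff_exists.1 hnsp
    have hun : u • n = 0 := by
      rw [hn, Submodule.mem_colon_singleton] at hup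
      exact hup
    have hunit : IsUnit (X.presheaf.germ U y hyU u) := isUnit_germ_of_notMem hU y hyU u huy
    apply Groth.Agent.H3.AssSupp.eq_zero_of_isUnit_smul F y _ hunit
    rw [← germ_smul, hun, map_zero]
  have h0 := rhoStalk_germ_eq_zero Z F x U hxU n T hnT
  have h1 : F.presheaf.germ U x hxU n = 0 := by
    apply h
    rw [h0, map_zero]
  obtain ⟨u, hu, hu0⟩ := Groth.Agent.H3.AssSupp.exists_smul_eq_zero_of_germ_eq_zero F hU x hxU n h1
  have hup : u ∈ (hU.primeIdealOf ⟨x', hx'U⟩).asIdeal := by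
    rw [hn, Submodule.mem_colon_singleton]
    exact hu0
  have hux : u ∈ (hU.primeIdealOf ⟨x, hxU⟩).asIdeal :=
    (primeIdealOf_le_iff hU x' x hx'U hxU).2 hsp hup
  exact not_isUnit_germ_of_mem hU x hxU u hux hu


/-- depth at least one means the point is not associated (coherent modules) -/
lemma one_le_depth_iff_not_isAssPoint [IsLocallyNoetherian X] (F : X.Modules)
    [F.IsQuasicoherent] (hft : F.IsFiniteType) (x' : X) :
    (1 : ℕ∞) ≤ LocCoh.depth (X.presheaf.stalk x') (F.presheaf.stalk x') ↔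
      ¬ Curv2.IsAssPoint F x' := by
  obtain ⟨U, hU, hxU, -⟩ := exists_isAffineOpen_mem_and_subset (x := x') (U := ⊤) trivial
  haveI : Module.Finite (X.presheaf.stalk x') (F.presheaf.stalk x') :=
    finite_stalk_of_finite_sections F hU x' hxU (finite_sections_of_isFiniteType F hft hU)
  rw [Order.one_le_iff_ne_zero, ne_eq,
    Groth.Agent.H3.DepthAux.depth_eq_zero_iff_mem_associatedPrimes]
  rfl

/-- S5855 -/
theorem isZPureAt_iff_depth_ge_one [IsLocallyNoetherian X] (Z : Set X)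
    (hZ : StableUnderSpecialization Z) (F : X.Modules) (hF : Coh.IsCoh F) (x : X) :
    IsZPureAt Z F x ↔
      ∀ x' : X, x' ⤳ x → x' ∈ Z →
        (1 : ℕ∞) ≤ LocCoh.depth (X.presheaf.stalk x') (F.presheaf.stalk x') := by
  obtain ⟨hq, hft⟩ := hF
  haveI := hq
  constructor
  · intro h x' hsp hx'Z
    rw [one_le_depth_iff_not_isAssPoint F hft]
    exact not_isAssPoint_of_isZPureAt Z hZ F hft x h x' hsp hx'Z
  · intro h
    apply isZPureAt_of_forall_not_isAssPoint
    intro x' hsp hx'Z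
    rw [← one_le_depth_iff_not_isAssPoint F hft]
    exact h x' hsp hx'Z

end Groth.Agent.H3.ZClosPureAt
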