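import Mathlib
import Groth.Agent.Lib.Helper3.ZClosPureAt
import Groth.Agent.Lib.Lead.QC.Flat

set_option autoImplicit false
universe u
open AlgebraicGeometry CategoryTheory

namespace Groth.Agent.H3.EqDimG

open Groth.Agent.LD.QC Groth.Agent.H3.ZClosPureAt

theorem main {X Y : Scheme.{u}} [IsLocallyNoetherian Y] (f : X ⟶ Y) [LocallyOfFiniteType f]
    (x : X)
    (hx : ∃ x' : X, f.base x' = f.base x ∧ x' ≠ x ∧ x ∈ closure ({x'} : Set X)) :
    ∃ U : X.Opens, IsAffineOpen U ∧ x ∈ U ∧ ∃ g : Γ(X, U), x ∉ X.basicOpen g ∧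
      ∀ z : X, f.base z = f.base x →
        (∀ z' : X, f.base z' = f.base x → z ∈ closure ({z'} : Set X) → z' = z) →
        z ∈ U → z ∈ X.basicOpen g := by
  classical
  obtain ⟨x', hx'f, hx'ne, hx'sp⟩ := hx
  have hsp : x' ⤳ x := specializes_iff_mem_closure.mpr hx'sp
  haveI : IsLocallyNoetherian X := LocallyOfFiniteType.isLocallyNoetherian f
  obtain ⟨V, hV, hyV, -⟩ := exists_isAffineOpen_mem_and_subset (x := f.base x)
    (U := (⊤ : Y.Opens)) trivial
  obtain ⟨U, hU, hxU, hUV⟩ := exists_isAffineOpen_mem_and_subset (x := x) (U := f ⁻¹ᵁ V) hyV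
  haveI : IsNoetherianRing Γ(X, U) := IsLocallyNoetherian.component_noetherian ⟨U, hU⟩
  have hx'U : x' ∈ U := hsp.mem_open U.2 hxU
  let φ := (f.appLE V U hUV).hom
  let py : Ideal Γ(Y, V) := (hV.primeIdealOf ⟨f.base x, hyV⟩).asIdeal
  let I : Ideal Γ(X, U) := py.map φ
  -- (K1)
  have K1 : ∀ z (hz : z ∈ U), f.base z = f.base x →
      Ideal.comap φ (hU.primeIdealOf ⟨z, hz⟩).asIdeal = py := by
    intro z hz hfz
    have h := IsAffineOpen.comap_primeIdealOf_appLE (f := f) V hV U hU hUV hz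
    have h2 : (hV.primeIdealOf ⟨f.base z, hUV hz⟩) = hV.primeIdealOf ⟨f.base x, hyV⟩ := by
      congr 1
      exact Subtype.ext hfz
    rw [h2] at h
    exact congrArg PrimeSpectrum.asIdeal h
  -- (K2)
  have K2 : ∀ q : PrimeSpectrum Γ(X, U), Ideal.comap φ q.asIdeal = py →
      f.base (hU.fromSpec q) = f.base x := by
    intro q hq
    have hzU : hU.fromSpec q ∈ U := fromSpec_mem hU q
    have h := IsAffineOpen.comap_primeIdealOf_appLE (f := f) V hV U hU hUV hzU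
    rw [primeIdealOf_fromSpec hU q hzU] at h
    have h3 : hV.primeIdealOf ⟨f.base (hU.fromSpec q), hUV hzU⟩ =
        hV.primeIdealOf ⟨f.base x, hyV⟩ := by
      rw [← h]
      exact PrimeSpectrum.ext hq
    have h4 := congrArg (fun t => hV.fromSpec t) h3
    simp only [hV.fromSpec_primeIdealOf] at h4
    exact h4
  have hfin : I.minimalPrimes.Finite := Ideal.finite_minimalPrimes_of_isNoetherianRing _ I
  have hnot : ¬ (((hU.primeIdealOf ⟨x, hxU⟩).asIdeal : Set Γ(X, U)) ⊆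
      ⋃ q ∈ (hfin.toFinset : Set (Ideal Γ(X, U))), ((id q : Ideal Γ(X, U)) : Set Γ(X, U))) := by
    rw [Ideal.subset_union_prime (R := Γ(X, U)) (f := id) ⊥ ⊥ (fun q hq _ _ => by
      have : q ∈ I.minimalPrimes := by simpa using hq
      exact this.1.1)]
    rintro ⟨q', hq', hle⟩
    have hq'm : q' ∈ I.minimalPrimes := by simpa using hq'
    have h1 : I ≤ (hU.primeIdealOf ⟨x', hx'U⟩).asIdeal := by
      rw [Ideal.map_le_iff_le_comap, K1 x' hx'U hx'f]
    have h2 : (hU.primeIdealOf ⟨x', hx'U⟩).asIdeal ≤ (hU.primeIdealOf ⟨x, hxU⟩).asIdeal :=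
      (primeIdealOf_le_iff hU x' x hx'U hxU).mpr hsp
    have h3 : q' ≤ (hU.primeIdealOf ⟨x', hx'U⟩).asIdeal :=
      hq'm.2 ⟨(hU.primeIdealOf ⟨x', hx'U⟩).isPrime, h1⟩ (h2.trans hle)
    have h4 : (hU.primeIdealOf ⟨x, hxU⟩).asIdeal ≤ (hU.primeIdealOf ⟨x', hx'U⟩).asIdeal :=
      hle.trans h3
    have h5 : x ⤳ x' := (primeIdealOf_le_iff hU x x' hxU hx'U).mp h4
    exact hx'ne (hsp.antisymm h5).eq
  rw [Set.not_subset] at hnot
  obtain ⟨g, hgx, hgn⟩ := hnot
  refine ⟨U, hU, hxU, g, (mem_primeIdealOf_iff hU x hxU g).mp hgx, ?_⟩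
  intro z hfz hzmax hzU
  by_contra hzg
  have hgz : g ∈ (hU.primeIdealOf ⟨z, hzU⟩).asIdeal := (mem_primeIdealOf_iff hU z hzU g).mpr hzg
  have hIz : I ≤ (hU.primeIdealOf ⟨z, hzU⟩).asIdeal := by
    rw [Ideal.map_le_iff_le_comap, K1 z hzU hfz]
  obtain ⟨q', hq'm, hq'le⟩ := Ideal.exists_minimalPrimes_le hIz
  haveI : q'.IsPrime := hq'm.1.1
  let Q' : PrimeSpectrum Γ(X, U) := ⟨q', inferInstance⟩
  have hcomap : Ideal.comap φ Q'.asIdeal = py := by
    apply le_antisymm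
    · rw [← K1 z hzU hfz]
      exact Ideal.comap_mono hq'le
    · rw [← Ideal.map_le_iff_le_comap]
      exact hq'm.1.2
  have hfz' := K2 Q' hcomap
  have hz'U : hU.fromSpec Q' ∈ U := fromSpec_mem hU Q'
  have hspz : hU.fromSpec Q' ⤳ z := by
    rw [← primeIdealOf_le_iff hU _ _ hz'U hzU, primeIdealOf_fromSpec hU Q' hz'U]
    exact hq'le
  have hzz := hzmax _ hfz' (specializes_iff_mem_closure.mp hspz)
  have hqz : (hU.primeIdealOf ⟨z, hzU⟩) = Q' := by
    rw [← primeIdealOf_fromSpec hU Q' hz'U]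
    congr 1
    exact Subtype.ext hzz.symm
  rw [hqz] at hgz
  exact hgn (Set.mem_iUnion₂.mpr ⟨q', by simpa using hq'm, hgz⟩)

end Groth.Agent.H3.EqDimG
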