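import Mathlib
import Groth.Prelude.Def_EtBase

set_option autoImplicit false

universe u

open AlgebraicGeometry CategoryTheory CategoryTheory.Limits

namespace Groth.Agent.H3.EtBaseCov

theorem finset_subcover (S : Scheme.{u}) [CompactSpace ↥S] (U : S.Etale)
    [QuasiCompact U.hom] (ι : Type (u + 1)) (Uf : ι → Over U)
    (hU : ∀ x : ↥(U.left), ∃ (i : ι) (y : ↥((Uf i).left.left)), (Uf i).hom.left.base y = x) :
    ∃ t : Finset ι, ∀ x : ↥(U.left), ∃ i ∈ t, ∃ y : ↥((Uf i).left.left), (Uf i).hom.left.base y = x := by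
  haveI : CompactSpace ↥(U.left) :=
    @QuasiCompact.compactSpace_of_compactSpace U.left S U.hom inferInstance ‹CompactSpace ↥S›
  have hopen : ∀ i, IsOpen (Set.range (Uf i).hom.left.base) := fun i =>
    (Uf i).hom.left.isOpenMap.isOpen_range
  have hcov : (Set.univ : Set ↥(U.left)) ⊆ ⋃ i, Set.range (Uf i).hom.left.base := by
    intro x _
    obtain ⟨i, y, hy⟩ := hU x
    exact Set.mem_iUnion.2 ⟨i, y, hy⟩
  obtain ⟨t, ht⟩ := isCompact_univ.elim_finite_subcover _ hopen hcov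
  refine ⟨t, fun x => ?_⟩
  obtain ⟨i, hi, y, hy⟩ := Set.mem_iUnion₂.1 (ht (Set.mem_univ x))
  exact ⟨i, hi, y, hy⟩

theorem qcqs_cover (X : Scheme.{u}) [QuasiSeparatedSpace ↥X] (U : X.Etale) :
    ∃ (ι : Type u) (V : ι → Over U), (∀ i, QuasiCompact (V i).left.hom ∧ QuasiSeparated (V i).left.hom) ∧
      ∀ x : ↥(U.left), ∃ (i : ι) (y : ↥((V i).left.left)), (V i).hom.left.base y = x := by
  refine ⟨U.left.affineOpens, fun W => Over.mk (Y := Scheme.Etale.mk (W.1.ι ≫ U.hom))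
    (MorphismProperty.Over.homMk W.1.ι rfl trivial), fun W => ?_, fun x => ?_⟩
  · haveI : IsAffine (W.1 : Scheme.{u}) := W.2
    change QuasiCompact (W.1.ι ≫ U.hom) ∧ QuasiSeparated (W.1.ι ≫ U.hom)
    haveI : CompactSpace ↥(W.1 : Scheme.{u}) := inferInstance
    haveI : QuasiSeparatedSpace ↥(W.1 : Scheme.{u}) := inferInstance
    exact ⟨@quasiCompact_of_compactSpace (W.1 : Scheme.{u}) X (W.1.ι ≫ U.hom) inferInstance
      ‹QuasiSeparatedSpace ↥X›, inferInstance⟩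
  · obtain ⟨W, hW, hx, -⟩ := exists_isAffineOpen_mem_and_subset (x := x) (U := ⊤) trivial
    exact ⟨⟨W, hW⟩, ⟨x, hx⟩, rfl⟩

end Groth.Agent.H3.EtBaseCov
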