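import Mathlib

/-! Helper3: étale charts to affine space adapted to a section (SGA 1 II 4.10-type statement). -/

set_option autoImplicit false
universe u
open AlgebraicGeometry CategoryTheory CategoryTheory.Limits

namespace Groth.Agent.H3.EtChart

open AffineSpace

section AffSp

variable (n : Type u) (S : Scheme.{u})

set_option backward.isDefEq.respectTransparency.types false in
/-- affine space is smooth over the base (copy of `Groth.Agent.H9.WIT.smooth_affineSpace`). -/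
theorem smooth_affineSpace [Finite n] : Smooth (𝔸(n; S) ↘ S) :=
    MorphismProperty.pullback_fst _ _ <| by
  have := isIso_of_isTerminal specULiftZIsTerminal.{u} terminalIsTerminal (terminal.from _)
  have h : Spec.map (CommRingCat.ofHom (MvPolynomial.C (σ := n) (R := ULift.{u} ℤ))) ≫
      terminal.from (Spec (CommRingCat.of (ULift.{u} ℤ))) = terminal.from _ := terminal.comp_from _
  rw [← h, MorphismProperty.cancel_right_of_respectsIso (P := @Smooth),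
    HasRingHomProperty.Spec_iff (P := @Smooth)]
  unfold RingHom.Smooth
  have hfl : @Algebra.Smooth (ULift.{u} ℤ) _ (MvPolynomial n (ULift.{u} ℤ)) _ _ :=
    ⟨inferInstance, inferInstance⟩
  convert! hfl
  exact Algebra.algebra_ext _ _ fun _ ↦ rfl

variable {n S}

/-- translation of affine space by a vector of functions on the base. -/
noncomputable def transl (c : n → Γ(S, ⊤)) : 𝔸(n; S) ⟶ 𝔸(n; S) :=
  homOfVector (𝔸(n; S) ↘ S) (fun j => coord S j + (𝔸(n; S) ↘ S).appTop (c j))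

theorem homOfVector_comp_transl {X : Scheme.{u}} (r : X ⟶ S) (w : n → Γ(X, ⊤))
    (c : n → Γ(S, ⊤)) :
    homOfVector r w ≫ transl c = homOfVector r (fun j => w j + r.appTop (c j)) := by
  unfold transl
  rw [comp_homOfVector, homOfVector_over]
  congr 1
  funext j
  simp only [Function.comp_apply, map_add, homOfVector_appTop_coord]
  congr 1
  rw [← CommRingCat.comp_apply, ← Scheme.Hom.comp_appTop, homOfVector_over]

theorem transl_comp_neg (c : n → Γ(S, ⊤)) : transl c ≫ transl (fun j => - c j) = 𝟙 _ := by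
  have h := homOfVector_comp_transl (𝔸(n; S) ↘ S)
    (fun j => coord S j + (𝔸(n; S) ↘ S).appTop (c j)) (fun j => - c j)
  have h' : transl c ≫ transl (fun j => - c j) = _ := h
  rw [h']
  apply AffineSpace.hom_ext
  · rw [homOfVector_over, Category.id_comp]
  · intro j
    rw [homOfVector_appTop_coord]
    simp

instance isIso_transl (c : n → Γ(S, ⊤)) : IsIso (transl c) :=
  ⟨⟨transl (fun j => - c j), transl_comp_neg c, by
    have := transl_comp_neg (fun j => - c j)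
    simpa only [neg_neg] using this⟩⟩

/-- an étale map from a polynomial ring gives an étale map to affine space (affine case). -/
theorem etale_homOfVector_of_isAffine {P Q : Scheme.{u}} [IsAffine P] [IsAffine Q] (r : P ⟶ Q)
    (m : ℕ) (g : MvPolynomial (Fin m) Γ(Q, ⊤) →+* Γ(P, ⊤))
    (hg : g.comp MvPolynomial.C = r.appTop.hom) (hget : g.Etale) :
    Etale (homOfVector r (fun j : ULift.{u} (Fin m) => g (MvPolynomial.X j.down))) := by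
  rw [← MorphismProperty.cancel_right_of_respectsIso (P := @Etale) _
    (isoOfIsAffine (ULift.{u} (Fin m)) Q).hom]
  rw [HasRingHomProperty.iff_of_isAffine (P := @Etale), Scheme.Hom.comp_appTop,
    isoOfIsAffine_hom_appTop, Category.assoc, CommRingCat.hom_comp,
    RingHom.Etale.respectsIso.cancel_left_isIso]
  let eR : MvPolynomial (ULift.{u} (Fin m)) Γ(Q, ⊤) ≃+* MvPolynomial (Fin m) Γ(Q, ⊤) :=
    (MvPolynomial.renameEquiv Γ(Q, ⊤) (Equiv.ulift : ULift.{u} (Fin m) ≃ Fin m)).toRingEquiv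
  have hEq : (CommRingCat.ofHom (MvPolynomial.eval₂Hom
      ((𝔸(ULift.{u} (Fin m); Q) ↘ Q).appTop).hom (coord Q)) ≫
      (homOfVector r (fun j : ULift.{u} (Fin m) => g (MvPolynomial.X j.down))).appTop).hom =
      g.comp eR.toRingHom := by
    apply MvPolynomial.ringHom_ext
    · intro a
      simp only [CommRingCat.hom_comp, CommRingCat.hom_ofHom, RingHom.comp_apply,
        MvPolynomial.coe_eval₂Hom, MvPolynomial.eval₂_C]
      have h1 : (homOfVector r (fun j : ULift.{u} (Fin m) => g (MvPolynomial.X j.down))).appTop.hom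
          (((𝔸(ULift.{u} (Fin m); Q) ↘ Q).appTop).hom a) = r.appTop.hom a := by
        rw [← RingHom.comp_apply, ← CommRingCat.hom_comp, ← Scheme.Hom.comp_appTop,
          homOfVector_over]
      rw [h1, ← hg]
      simp [eR]
    · intro j
      simp only [CommRingCat.hom_comp, CommRingCat.hom_ofHom, RingHom.comp_apply,
        MvPolynomial.coe_eval₂Hom, MvPolynomial.eval₂_X]
      have h1 := homOfVector_appTop_coord r
        (fun j : ULift.{u} (Fin m) => g (MvPolynomial.X j.down)) j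
      rw [show (homOfVector r (fun j : ULift.{u} (Fin m) => g (MvPolynomial.X j.down))).appTop.hom
          (coord Q j) = g (MvPolynomial.X j.down) from h1]
      simp [eR]
  rw [hEq]
  exact RingHom.Etale.respectsIso.2 g eR hget

end AffSp

section Chart

variable {X Y : Scheme.{u}}

/-- a standard smooth chart at a point of the smooth locus (copy of
`Groth.Agent.H3.RegBaseSm.exists_chart_of_mem_smoothLocus`). -/
theorem exists_chart_of_mem_smoothLocus (f : X ⟶ Y)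
    [LocallyOfFinitePresentation f] (x : X) (hx : x ∈ f.smoothLocus) :
    ∃ (V : Y.Opens) (_ : IsAffineOpen V) (U : X.Opens) (_ : IsAffineOpen U) (_ : x ∈ U)
      (e : U ≤ f ⁻¹ᵁ V), (f.appLE V U e).hom.IsStandardSmooth := by
  haveI hsm : Smooth (f.smoothLocus.ι ≫ f) := by
    rw [← Scheme.Hom.smoothLocus_eq_top_iff, ← Scheme.Hom.preimage_smoothLocus_eq,
      Scheme.Opens.ι_preimage_self]
  obtain ⟨V, hV, U', hU', hxU', e', hstd⟩ :=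
    Smooth.exists_isStandardSmooth (f.smoothLocus.ι ≫ f) ⟨x, hx⟩
  have hU : IsAffineOpen (f.smoothLocus.ι ''ᵁ U') := hU'.image_of_isOpenImmersion f.smoothLocus.ι
  have hxU : x ∈ f.smoothLocus.ι ''ᵁ U' := ⟨⟨x, hx⟩, hxU', rfl⟩
  have hle : f.smoothLocus.ι ''ᵁ U' ≤ f ⁻¹ᵁ V := by
    rintro _ ⟨z, hz, rfl⟩
    exact e' hz
  refine ⟨V, hV, _, hU, hxU, hle, ?_⟩
  have h2 : f.appLE V (f.smoothLocus.ι ''ᵁ U') hle ≫ (f.smoothLocus.ι.appIso U').hom =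
      (f.smoothLocus.ι ≫ f).appLE V U' e' := by
    rw [Scheme.Hom.appIso_hom', Scheme.Hom.appLE_comp_appLE]
  have h3 : f.appLE V (f.smoothLocus.ι ''ᵁ U') hle =
      (f.smoothLocus.ι ≫ f).appLE V U' e' ≫ (f.smoothLocus.ι.appIso U').inv := by
    rw [← h2, Category.assoc, Iso.hom_inv_id, Category.comp_id]
  rw [h3, CommRingCat.hom_comp]
  exact RingHom.isStandardSmooth_respectsIso.1 _
    (f.smoothLocus.ι.appIso U').symm.commRingCatIsoToRingEquiv hstd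

/-- **étale coordinates vanishing along a section** at a point of the smooth locus. -/
theorem exists_etale_chart (f : X ⟶ Y) [LocallyOfFinitePresentation f] (i : Y ⟶ X)
    (hi : i ≫ f = 𝟙 Y) (y : Y) (hx : i y ∈ f.smoothLocus) :
    ∃ (U : Y.Opens) (V : X.Opens) (_ : y ∈ U) (hUV : U ≤ i ⁻¹ᵁ V) (hVU : V ≤ f ⁻¹ᵁ U) (m : ℕ)
      (v : ULift.{u} (Fin m) → Γ(V, ⊤)),
      Etale (AffineSpace.homOfVector (f.resLE U V hVU) v) ∧
        ∀ j, (i.resLE V U hUV).appTop (v j) = 0 := by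
  obtain ⟨V₀, hV₀, U₀, hU₀, hxU₀, e, hstd⟩ := exists_chart_of_mem_smoothLocus f (i y) hx
  have hfi : ∀ y' : Y, f (i y') = y' := by
    intro y'
    have := congrArg (fun φ : Y ⟶ Y => φ y') hi
    simpa using this
  haveI : IsAffine (V₀ : Scheme.{u}) := hV₀
  haveI : IsAffine (U₀ : Scheme.{u}) := hU₀
  have hstd' : (f.resLE V₀ U₀ e).appTop.hom.IsStandardSmooth :=
    (RingHom.isStandardSmooth_respectsIso.arrow_mk_iso_iff (arrowResLEAppIso f V₀ U₀ e)).mpr hstd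
  obtain ⟨m, g, hg, hget⟩ := hstd'.exists_etale_mvPolynomial
  have het₀ := etale_homOfVector_of_isAffine (f.resLE V₀ U₀ e) m g hg hget
  -- the opens
  have hyU : y ∈ V₀ ⊓ i ⁻¹ᵁ U₀ := ⟨by rw [← hfi y]; exact e hxU₀, hxU₀⟩
  have hUV : V₀ ⊓ i ⁻¹ᵁ U₀ ≤ i ⁻¹ᵁ (U₀ ⊓ f ⁻¹ᵁ (V₀ ⊓ i ⁻¹ᵁ U₀)) := by
    intro y' hy'
    refine ⟨hy'.2, ?_⟩
    show f (i y') ∈ V₀ ⊓ i ⁻¹ᵁ U₀
    rw [hfi y']
    exact hy'
  have hVU : U₀ ⊓ f ⁻¹ᵁ (V₀ ⊓ i ⁻¹ᵁ U₀) ≤ f ⁻¹ᵁ (V₀ ⊓ i ⁻¹ᵁ U₀) := inf_le_right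
  have hsq : f.resLE (V₀ ⊓ i ⁻¹ᵁ U₀) (U₀ ⊓ f ⁻¹ᵁ (V₀ ⊓ i ⁻¹ᵁ U₀)) hVU ≫
      Y.homOfLE (inf_le_left : V₀ ⊓ i ⁻¹ᵁ U₀ ≤ V₀) =
      X.homOfLE (inf_le_left : U₀ ⊓ f ⁻¹ᵁ (V₀ ⊓ i ⁻¹ᵁ U₀) ≤ U₀) ≫ f.resLE V₀ U₀ e := by
    rw [Scheme.Hom.resLE_map, Scheme.Hom.map_resLE]
  have hcomm : homOfVector (f.resLE (V₀ ⊓ i ⁻¹ᵁ U₀) (U₀ ⊓ f ⁻¹ᵁ (V₀ ⊓ i ⁻¹ᵁ U₀)) hVU)
      (fun j : ULift.{u} (Fin m) =>
        (X.homOfLE (inf_le_left : U₀ ⊓ f ⁻¹ᵁ (V₀ ⊓ i ⁻¹ᵁ U₀) ≤ U₀)).appTop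
          (g (MvPolynomial.X j.down))) ≫
      AffineSpace.map (ULift.{u} (Fin m)) (Y.homOfLE (inf_le_left : V₀ ⊓ i ⁻¹ᵁ U₀ ≤ V₀)) =
      X.homOfLE (inf_le_left : U₀ ⊓ f ⁻¹ᵁ (V₀ ⊓ i ⁻¹ᵁ U₀) ≤ U₀) ≫
        homOfVector (f.resLE V₀ U₀ e)
          (fun j : ULift.{u} (Fin m) => g (MvPolynomial.X j.down)) := by
    apply AffineSpace.hom_ext
    · rw [Category.assoc, map_over, homOfVector_over_assoc, Category.assoc, homOfVector_over, hsq]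
    · intro j
      rw [Scheme.Hom.comp_appTop, Scheme.Hom.comp_appTop, CommRingCat.comp_apply,
        CommRingCat.comp_apply, map_appTop_coord, homOfVector_appTop_coord,
        homOfVector_appTop_coord]
  have het' : Etale (homOfVector
      (f.resLE (V₀ ⊓ i ⁻¹ᵁ U₀) (U₀ ⊓ f ⁻¹ᵁ (V₀ ⊓ i ⁻¹ᵁ U₀)) hVU)
      (fun j : ULift.{u} (Fin m) =>
        (X.homOfLE (inf_le_left : U₀ ⊓ f ⁻¹ᵁ (V₀ ⊓ i ⁻¹ᵁ U₀) ≤ U₀)).appTop
          (g (MvPolynomial.X j.down)))) := by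
    haveI : IsOpenImmersion (AffineSpace.map (ULift.{u} (Fin m))
        (Y.homOfLE (inf_le_left : V₀ ⊓ i ⁻¹ᵁ U₀ ≤ V₀))) :=
      MorphismProperty.of_isPullback (P := @IsOpenImmersion)
        (isPullback_map (Y.homOfLE (inf_le_left : V₀ ⊓ i ⁻¹ᵁ U₀ ≤ V₀))).flip inferInstance
    haveI : Etale (homOfVector
        (f.resLE (V₀ ⊓ i ⁻¹ᵁ U₀) (U₀ ⊓ f ⁻¹ᵁ (V₀ ⊓ i ⁻¹ᵁ U₀)) hVU)
        (fun j : ULift.{u} (Fin m) =>
          (X.homOfLE (inf_le_left : U₀ ⊓ f ⁻¹ᵁ (V₀ ⊓ i ⁻¹ᵁ U₀) ≤ U₀)).appTop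
            (g (MvPolynomial.X j.down))) ≫
        AffineSpace.map (ULift.{u} (Fin m))
          (Y.homOfLE (inf_le_left : V₀ ⊓ i ⁻¹ᵁ U₀ ≤ V₀))) := by
      rw [hcomm]; infer_instance
    exact Etale.of_comp _ (AffineSpace.map (ULift.{u} (Fin m))
      (Y.homOfLE (inf_le_left : V₀ ⊓ i ⁻¹ᵁ U₀ ≤ V₀)))
  have hsec : i.resLE (U₀ ⊓ f ⁻¹ᵁ (V₀ ⊓ i ⁻¹ᵁ U₀)) (V₀ ⊓ i ⁻¹ᵁ U₀) hUV ≫
      f.resLE (V₀ ⊓ i ⁻¹ᵁ U₀) (U₀ ⊓ f ⁻¹ᵁ (V₀ ⊓ i ⁻¹ᵁ U₀)) hVU = 𝟙 _ := by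
    rw [← cancel_mono (V₀ ⊓ i ⁻¹ᵁ U₀).ι, Category.assoc, Scheme.Hom.resLE_comp_ι,
      Scheme.Hom.resLE_comp_ι_assoc, hi, Category.comp_id, Category.id_comp]
  refine ⟨V₀ ⊓ i ⁻¹ᵁ U₀, U₀ ⊓ f ⁻¹ᵁ (V₀ ⊓ i ⁻¹ᵁ U₀), hyU, hUV, hVU, m,
    fun j => (X.homOfLE (inf_le_left : U₀ ⊓ f ⁻¹ᵁ (V₀ ⊓ i ⁻¹ᵁ U₀) ≤ U₀)).appTop
        (g (MvPolynomial.X j.down)) +
      (f.resLE (V₀ ⊓ i ⁻¹ᵁ U₀) (U₀ ⊓ f ⁻¹ᵁ (V₀ ⊓ i ⁻¹ᵁ U₀)) hVU).appTop
        (- (i.resLE (U₀ ⊓ f ⁻¹ᵁ (V₀ ⊓ i ⁻¹ᵁ U₀)) (V₀ ⊓ i ⁻¹ᵁ U₀) hUV).appTop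
          ((X.homOfLE (inf_le_left : U₀ ⊓ f ⁻¹ᵁ (V₀ ⊓ i ⁻¹ᵁ U₀) ≤ U₀)).appTop
            (g (MvPolynomial.X j.down)))), ?_, ?_⟩
  · rw [← homOfVector_comp_transl _ _ (fun j : ULift.{u} (Fin m) =>
      - (i.resLE (U₀ ⊓ f ⁻¹ᵁ (V₀ ⊓ i ⁻¹ᵁ U₀)) (V₀ ⊓ i ⁻¹ᵁ U₀) hUV).appTop
          ((X.homOfLE (inf_le_left : U₀ ⊓ f ⁻¹ᵁ (V₀ ⊓ i ⁻¹ᵁ U₀) ≤ U₀)).appTop
            (g (MvPolynomial.X j.down))))]
    infer_instance
  · intro j
    have h3 : ∀ b, (i.resLE (U₀ ⊓ f ⁻¹ᵁ (V₀ ⊓ i ⁻¹ᵁ U₀)) (V₀ ⊓ i ⁻¹ᵁ U₀) hUV).appTop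
        ((f.resLE (V₀ ⊓ i ⁻¹ᵁ U₀) (U₀ ⊓ f ⁻¹ᵁ (V₀ ⊓ i ⁻¹ᵁ U₀)) hVU).appTop b) = b := by
      intro b
      rw [← CommRingCat.comp_apply, ← Scheme.Hom.comp_appTop, hsec]
      rfl
    rw [map_add, h3, add_neg_cancel]

/-- conversely, an étale chart to affine space gives smoothness along the section. -/
theorem mem_smoothLocus_of_etale_chart (f : X ⟶ Y) [LocallyOfFinitePresentation f] (i : Y ⟶ X)
    (y : Y) (U : Y.Opens) (V : X.Opens) (hy : y ∈ U) (hUV : U ≤ i ⁻¹ᵁ V) (hVU : V ≤ f ⁻¹ᵁ U)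
    (n : Type u) [Finite n] (v : n → Γ(V, ⊤))
    (het : Etale (AffineSpace.homOfVector (f.resLE U V hVU) v)) : i y ∈ f.smoothLocus := by
  haveI := smooth_affineSpace n (U : Scheme.{u})
  haveI : Smooth (f.resLE U V hVU) := by
    rw [← homOfVector_over (f.resLE U V hVU) v]; infer_instance
  haveI : Smooth (V.ι ≫ f) := by
    rw [← Scheme.Hom.resLE_comp_ι f hVU]; infer_instance
  have h1 : (V.ι ≫ f).smoothLocus = ⊤ := Scheme.Hom.smoothLocus_eq_top _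
  rw [← Scheme.Hom.preimage_smoothLocus_eq] at h1
  have hiy : i y ∈ V := hUV hy
  have h2 : (⟨i y, hiy⟩ : V) ∈ V.ι ⁻¹ᵁ f.smoothLocus := by rw [h1]; trivial
  exact h2

end Chart

end Groth.Agent.H3.EtChart
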