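import Groth.Agent.Lib.Helper3.ArtFlat.Fam2
import Groth.Agent.Lib.Lead.QC.StalkPullback
import Groth.Agent.Lib.Lead.QC.Pullback
import Groth.Agent.Lib.Helper5.AlgSp.ResidueFieldEtale

/-!
# Flatness in dimensions `≥ n` is inherited by étale pullbacks (helper3, for S9027)
-/

set_option autoImplicit false
universe u
open CategoryTheory CategoryTheory.Limits AlgebraicGeometry TopologicalSpace Opposite

namespace Groth.Agent.H3.EtFlatDim

open Groth.Agent.LD.QC

/-- transcendence degrees of residue fields and non-flat loci under an étale morphism `a`. -/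
theorem trdeg_lt_of_etale_pullback {X X' T : Scheme.{u}} (a : X' ⟶ X) [Etale a] (q : X ⟶ T)
    (q' : X' ⟶ T) (hq : a ≫ q = q') (G : X.Modules) [G.IsQuasicoherent] (G' : X'.Modules)
    (e : G' ≅ (Scheme.Modules.pullback a).obj G) (n : ℕ)
    (H : ∀ x : X, ¬ FlatMod.IsFlatOverAt q G x →
      letI := (q.residueFieldMap x).hom.toAlgebra
      Algebra.trdeg (T.residueField (q.base x)) (X.residueField x) < (n : Cardinal.{u}))
    (x' : X') (hx' : ¬ FlatMod.IsFlatOverAt q' G' x') :
    letI := (q'.residueFieldMap x').hom.toAlgebra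
    Algebra.trdeg (T.residueField (q'.base x')) (X'.residueField x') < (n : Cardinal.{u}) := by
  subst hq
  have hnf : ¬ FlatMod.IsFlatOverAt q G (a x') := fun hfl =>
    hx' (Groth.Agent.H3.ArtFlat.isFlatOverAt_of_iso (a ≫ q) e.symm x'
      ((isFlatOverAt_pullback_iff (h := a) (q := q) G x' (Flat.stalkMap a x')).mp hfl))
  have h1 := H (a x') hnf
  letI algKL : Algebra (T.residueField ((a ≫ q).base x')) (X.residueField (a.base x')) :=
    (q.residueFieldMap (a x')).hom.toAlgebra
  letI algLM : Algebra (X.residueField (a.base x')) (X'.residueField x') :=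
    (a.residueFieldMap x').hom.toAlgebra
  letI algKM : Algebra (T.residueField ((a ≫ q).base x')) (X'.residueField x') :=
    ((a ≫ q).residueFieldMap x').hom.toAlgebra
  haveI : IsScalarTower (T.residueField ((a ≫ q).base x')) (X.residueField (a.base x'))
      (X'.residueField x') := IsScalarTower.of_algebraMap_eq' (by
    show ((a ≫ q).residueFieldMap x').hom = _
    rw [Scheme.residueFieldMap_comp]
    rfl)
  haveI : Module.Finite (X.residueField (a.base x')) (X'.residueField x') :=
    Groth.Agent.H5.AlgSp.finite_residueField_of_formallyUnramified a x'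
  have h2 : Algebra.trdeg (X.residueField (a.base x')) (X'.residueField x') = 0 :=
    trdeg_eq_zero
  have h3 := trdeg_add_eq (T.residueField ((a ≫ q).base x'))
    (X.residueField (a.base x')) (A := X'.residueField x')
  rw [h2, add_zero] at h3
  show Algebra.trdeg (T.residueField ((a ≫ q).base x')) (X'.residueField x') < (n : Cardinal.{u})
  rw [← h3]
  exact h1

/-- **S9027** in general form. -/
theorem main9027 {X X' S : Scheme.{u}} (f : X ⟶ S) (F : X.Modules) [F.IsQuasicoherent]
    (h : X' ⟶ X) [Etale h] (n : ℕ) {T : Scheme.{u}} (g : T ⟶ S)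
    (H : ∀ x : ↑(pullback f g), ¬ FlatMod.IsFlatOverAt (pullback.snd f g)
        ((Scheme.Modules.pullback (pullback.fst f g)).obj F) x →
      letI := ((pullback.snd f g).residueFieldMap x).hom.toAlgebra
      Algebra.trdeg (T.residueField ((pullback.snd f g).base x))
        ((pullback f g).residueField x) < (n : Cardinal.{u}))
    (x' : ↑(pullback (h ≫ f) g))
    (hx' : ¬ FlatMod.IsFlatOverAt (pullback.snd (h ≫ f) g)
      ((Scheme.Modules.pullback (pullback.fst (h ≫ f) g)).obj
        ((Scheme.Modules.pullback h).obj F)) x') :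
    letI := ((pullback.snd (h ≫ f) g).residueFieldMap x').hom.toAlgebra
    Algebra.trdeg (T.residueField ((pullback.snd (h ≫ f) g).base x'))
      ((pullback (h ≫ f) g).residueField x') < (n : Cardinal.{u}) := by
  have hw : (pullback.fst (h ≫ f) g ≫ h) ≫ f = pullback.snd (h ≫ f) g ≫ g := by
    rw [Category.assoc, pullback.condition]
  have hfst : pullback.lift (pullback.fst (h ≫ f) g ≫ h) (pullback.snd (h ≫ f) g) hw ≫
      pullback.fst f g = pullback.fst (h ≫ f) g ≫ h := pullback.lift_fst _ _ _
  have hsnd : pullback.lift (pullback.fst (h ≫ f) g ≫ h) (pullback.snd (h ≫ f) g) hw ≫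
      pullback.snd f g = pullback.snd (h ≫ f) g := pullback.lift_snd _ _ _
  have hpb : IsPullback (pullback.lift (pullback.fst (h ≫ f) g ≫ h) (pullback.snd (h ≫ f) g) hw)
      (pullback.fst (h ≫ f) g) (pullback.fst f g) h := by
    refine IsPullback.of_right ?_ hfst (IsPullback.of_hasPullback f g).flip
    rw [hsnd]
    exact (IsPullback.of_hasPullback (h ≫ f) g).flip
  haveI : Etale (pullback.lift (pullback.fst (h ≫ f) g ≫ h) (pullback.snd (h ≫ f) g) hw) :=
    MorphismProperty.of_isPullback (P := @Etale) hpb.flip inferInstance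
  haveI : ((Scheme.Modules.pullback (pullback.fst f g)).obj F).IsQuasicoherent :=
    qc_pullback _ F
  refine trdeg_lt_of_etale_pullback
    (pullback.lift (pullback.fst (h ≫ f) g ≫ h) (pullback.snd (h ≫ f) g) hw)
    (pullback.snd f g) (pullback.snd (h ≫ f) g) hsnd
    ((Scheme.Modules.pullback (pullback.fst f g)).obj F) _ ?_ n H x' hx'
  exact (Scheme.Modules.pullbackComp (pullback.fst (h ≫ f) g) h).app F ≪≫
    (Scheme.Modules.pullbackCongr hfst.symm).app F ≪≫
    ((Scheme.Modules.pullbackComp _ (pullback.fst f g)).app F).symm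

end Groth.Agent.H3.EtFlatDim
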