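import Mathlib
import Groth.Prelude.Def_Pi1X
import Groth.Agent.Lib.Helper5.EtSrc.FinitePresentation

set_option autoImplicit false
open CategoryTheory AlgebraicGeometry CategoryTheory.Limits
universe u

namespace Groth.Agent.H3.EtLoc

open Groth.Agent.H5.EtSrc

theorem mem_etaleLocus_iff {X Y : Scheme.{u}} (f : X ⟶ Y) (x : X) :
    x ∈ Pi1X.etaleLocus f ↔ ∃ U : X.Opens, x ∈ U ∧ Etale (U.ι ≫ f) := by
  unfold Pi1X.etaleLocus
  rw [TopologicalSpace.Opens.mem_sSup]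
  constructor
  · rintro ⟨U, hU, hx⟩
    exact ⟨U, hx, hU⟩
  · rintro ⟨U, hx, hU⟩
    exact ⟨U, hU, hx⟩

theorem etale_of_le {X Y : Scheme.{u}} (f : X ⟶ Y) {U U' : X.Opens} (h : U' ≤ U)
    [Etale (U.ι ≫ f)] : Etale (U'.ι ≫ f) := by
  have : U'.ι ≫ f = X.homOfLE h ≫ (U.ι ≫ f) := by
    rw [← Category.assoc, Scheme.homOfLE_ι]
  rw [this]
  infer_instance

theorem main {X X' Y : Scheme.{u}} (f : X ⟶ X') (g : X' ⟶ Y) (x : X)
    (hf : x ∈ Pi1X.etaleLocus f) (hfg : x ∈ Pi1X.etaleLocus (f ≫ g)) :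
    f.base x ∈ Pi1X.etaleLocus g := by
  obtain ⟨U₁, hx₁, h₁⟩ := (mem_etaleLocus_iff f x).mp hf
  obtain ⟨U₂, hx₂, h₂⟩ := (mem_etaleLocus_iff (f ≫ g) x).mp hfg
  let U : X.Opens := U₁ ⊓ U₂
  have hxU : x ∈ U := ⟨hx₁, hx₂⟩
  haveI hU1 : Etale (U.ι ≫ f) := etale_of_le f (inf_le_left : U ≤ U₁)
  haveI hU2 : Etale (U.ι ≫ f ≫ g) := etale_of_le (f ≫ g) (inf_le_right : U ≤ U₂)
  let h : (U : Scheme.{u}) ⟶ X' := U.ι ≫ f
  have hopen : IsOpenMap h.base := h.isOpenMap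
  let V : X'.Opens := ⟨Set.range h.base, hopen.isOpen_range⟩
  have hrange : Set.range h.base ⊆ Set.range V.ι.base := by
    rw [Scheme.Opens.range_ι]
    exact subset_rfl
  let p : (U : Scheme.{u}) ⟶ V := IsOpenImmersion.lift V.ι h hrange
  have hp : p ≫ V.ι = h := IsOpenImmersion.lift_fac _ _ _
  haveI : Etale (p ≫ V.ι) := by rw [hp]; exact hU1
  have hpet : Etale p := MorphismProperty.of_postcomp (W := @Etale) (W' := @Etale) p V.ι
    inferInstance inferInstance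
  have hpsurj : Surjective p := by
    refine ⟨fun v => ?_⟩
    obtain ⟨u, hu⟩ := v.2
    refine ⟨u, ?_⟩
    apply V.ι.isOpenEmbedding.injective
    rw [← Scheme.Hom.comp_apply, hp]
    exact hu
  have hcomp : Etale (p ≫ (V.ι ≫ g)) := by
    rw [← Category.assoc, hp]
    exact hU2
  have hV : Etale (V.ι ≫ g) := IsEtaleLocalSource.of_comp p (V.ι ≫ g) hpet hpsurj hcomp
  rw [mem_etaleLocus_iff]
  exact ⟨V, ⟨⟨x, hxU⟩, rfl⟩, hV⟩

end Groth.Agent.H3.EtLoc
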