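import Mathlib

set_option autoImplicit false
universe u v w

namespace Groth.Agent.H3.EtQuot

open KaehlerDifferential TensorProduct

/-- Jacobian criterion: if `P` is formally smooth over `R` and `t i` are elements such that
`d (t i)` is a basis of `Ω[P/R]`, then `P/(t i)` is formally étale over `R`. -/
theorem formallyEtale_quotient_of_basis {R : Type u} {P : Type v} [CommRing R] [CommRing P]
    [Algebra R P] [Algebra.FormallySmooth R P] {κ : Type w} (t : κ → P)
    (b : Module.Basis κ P Ω[P⁄R]) (hb : ∀ i, b i = D R P (t i)) :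
    Algebra.FormallyEtale R (P ⧸ Ideal.span (Set.range t)) := by
  classical
  set I : Ideal P := Ideal.span (Set.range t) with hI
  have hf : Function.Surjective (algebraMap P (P ⧸ I)) := Ideal.Quotient.mk_surjective
  have hker : RingHom.ker (algebraMap P (P ⧸ I)) = I := Ideal.mk_ker
  have htmem : ∀ i, t i ∈ RingHom.ker (algebraMap P (P ⧸ I)) := fun i => by
    rw [hker]; exact Ideal.subset_span ⟨i, rfl⟩
  -- the generators of the cotangent space
  let τ : κ → (RingHom.ker (algebraMap P (P ⧸ I))).Cotangent := fun i =>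
    Ideal.toCotangent _ ⟨t i, htmem i⟩
  have hkτ : ∀ i, kerCotangentToTensor R P (P ⧸ I) (τ i) = 1 ⊗ₜ b i := fun i => by
    simp only [τ, kerCotangentToTensor_toCotangent, hb]
  -- every element of the cotangent space is a combination of the `τ i`
  have hspan : ∀ x : (RingHom.ker (algebraMap P (P ⧸ I))).Cotangent,
      ∃ c : κ →₀ P, x = c.sum fun i a => a • τ i := by
    intro x
    obtain ⟨⟨y, hy⟩, rfl⟩ := Ideal.toCotangent_surjective _ x
    have hy' : y ∈ Submodule.span P (Set.range t) := by
      have : y ∈ I := by rw [← hker]; exact hy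
      exact this
    obtain ⟨c, hc⟩ := (Finsupp.mem_span_range_iff_exists_finsupp).mp hy'
    refine ⟨c, ?_⟩
    have : (⟨y, hy⟩ : RingHom.ker (algebraMap P (P ⧸ I))) =
        c.sum fun i a => a • (⟨t i, htmem i⟩ : RingHom.ker (algebraMap P (P ⧸ I))) := by
      apply Subtype.ext
      subst hc
      simp [Finsupp.sum]
    rw [this]
    simp only [Finsupp.sum, map_sum, map_smul]
    rfl
  -- images of sums
  have hksum : ∀ c : κ →₀ P, kerCotangentToTensor R P (P ⧸ I) (c.sum fun i a => a • τ i) =
      (1 : P ⧸ I) ⊗ₜ[P] (c.sum fun i a => a • b i) := by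
    intro c
    simp only [Finsupp.sum, map_sum, map_smul, hkτ, TensorProduct.tmul_sum, TensorProduct.tmul_smul]
  have hinj : Function.Injective (kerCotangentToTensor R P (P ⧸ I)) := by
    rw [injective_iff_map_eq_zero]
    intro x hx
    obtain ⟨c, rfl⟩ := hspan x
    rw [hksum] at hx
    have hci : ∀ i, c i ∈ RingHom.ker (algebraMap P (P ⧸ I)) := by
      intro i
      have h1 := congrArg (fun z => (b.baseChange (P ⧸ I)).repr z i) hx
      simp only [Module.Basis.baseChange_repr_tmul, map_zero, Finsupp.zero_apply] at h1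
      have h2 : b.repr (c.sum fun i a => a • b i) = c := by
        have := b.repr_linearCombination c
        rwa [Finsupp.linearCombination_apply] at this
      rw [h2] at h1
      rw [RingHom.mem_ker, Algebra.algebraMap_eq_smul_one]
      exact h1
    rw [Finsupp.sum]
    refine Finset.sum_eq_zero fun i _ => ?_
    simp only [τ, ← map_smul]
    rw [Ideal.toCotangent_eq_zero]
    simp only [SetLike.val_smul, smul_eq_mul, pow_two]
    exact Ideal.mul_mem_mul (hci i) (htmem i)
  have hsurj : Function.Surjective (kerCotangentToTensor R P (P ⧸ I)) := by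
    intro z
    obtain ⟨ω, rfl⟩ := TensorProduct.mk_surjective P Ω[P⁄R] (P ⧸ I) hf z
    refine ⟨(b.repr ω).sum fun i a => a • τ i, ?_⟩
    rw [hksum]
    congr 1
    exact b.linearCombination_repr ω
  refine ⟨?_, (Algebra.FormallySmooth.kerCotangentToTensor_injective_iff hf).mp hinj⟩
  refine ⟨fun y₁ y₂ => ?_⟩
  have h0 : ∀ y : Ω[(P ⧸ I)⁄R], y = 0 := by
    intro y
    obtain ⟨z, rfl⟩ := mapBaseChange_surjective R P (P ⧸ I) hf y
    obtain ⟨w, rfl⟩ := hsurj z
    exact (exact_kerCotangentToTensor_mapBaseChange R P (P ⧸ I) hf).apply_apply_eq_zero w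
  rw [h0 y₁, h0 y₂]

set_option backward.isDefEq.respectTransparency.types false in
/-- If `C → B` is smooth and `C → B/J` is surjective, then near any prime `q` of `B` the module of
differentials of `B` over `C` has a basis consisting of differentials of elements of `J`. -/
theorem exists_basis_away {C : Type v} {B : Type w} [CommRing C] [CommRing B] [Algebra C B]
    [Algebra.Smooth C B] (J : Ideal B)
    (hsurj : Function.Surjective ((Ideal.Quotient.mk J).comp (algebraMap C B)))
    (q : Ideal B) [q.IsPrime] :
    ∃ (g : B) (_ : g ∉ q) (κ : Type w) (_ : Finite κ) (a : κ → J)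
      (bg : Module.Basis κ (Localization.Away g) Ω[Localization.Away g⁄C]),
      ∀ i, bg i = D C (Localization.Away g) (algebraMap B (Localization.Away g) (a i)) := by
  have hv : Submodule.span (Localization.AtPrime q)
      (Set.range fun j : J => map C C B (Localization.AtPrime q) (D C B (j : B))) = ⊤ := by
    rw [← span_range_map_derivation_of_isLocalization C B (Localization.AtPrime q) q.primeCompl]
    congr 1
    ext ω
    constructor
    · rintro ⟨j, rfl⟩
      exact ⟨(j : B), rfl⟩
    · rintro ⟨b, rfl⟩
      obtain ⟨c, hc⟩ := hsurj (Ideal.Quotient.mk J b)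
      have hj : b - algebraMap C B c ∈ J := by
        rw [← Ideal.Quotient.eq_zero_iff_mem, map_sub, sub_eq_zero]
        exact hc.symm
      refine ⟨⟨_, hj⟩, ?_⟩
      simp
  obtain ⟨κ, a, b, hb⟩ := Module.exists_basis_of_span_of_flat _ hv
  let e : (κ →₀ B) →ₗ[B] Ω[B⁄C] :=
    Finsupp.linearCombination B fun i : κ ↦ D C B (a i : B)
  let l₁ : (κ →₀ B) →ₗ[B] (κ →₀ Localization.AtPrime q) :=
    Finsupp.mapRange.linearMap (Algebra.linearMap B (Localization.AtPrime q))
  let l₂ : Ω[B⁄C] →ₗ[B] Ω[Localization.AtPrime q⁄C] := map C C B (Localization.AtPrime q)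
  let eₚ : (κ →₀ Localization.AtPrime q) →ₗ[Localization.AtPrime q] Ω[Localization.AtPrime q⁄C] :=
    IsLocalizedModule.mapExtendScalars q.primeCompl l₁ l₂ (Localization.AtPrime q) e
  have : eₚ = b.repr.symm := by
    ext i
    trans IsLocalizedModule.map q.primeCompl l₁ l₂ e <| l₁ <| Finsupp.single i 1
    · simp [eₚ, -IsLocalizedModule.map_apply, l₁]
    · simp [l₂, e, hb]
  have heₚ : Function.Bijective eₚ := this ▸ b.repr.symm.bijective
  have : Finite κ := Module.Finite.finite_basis b
  obtain ⟨g, hg, h⟩ := Module.FinitePresentation.exists_notMem_bijective e q l₁ l₂ heₚ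
  let l₁ₜ : (κ →₀ B) →ₗ[B] (κ →₀ Localization.Away g) :=
    Finsupp.mapRange.linearMap (Algebra.linearMap B _)
  let l₂ₜ : Ω[B⁄C] →ₗ[B] Ω[Localization.Away g⁄C] :=
    map C C B (Localization.Away g)
  rw [← IsLocalizedModule.map_bijective_iff_localizedModuleMap_bijective l₁ₜ l₂ₜ] at h
  let eₜ' : (κ →₀ Localization.Away g) →ₗ[Localization.Away g] Ω[Localization.Away g⁄C] :=
    IsLocalizedModule.mapExtendScalars (Submonoid.powers g) l₁ₜ l₂ₜ (Localization.Away g) e
  refine ⟨g, hg, κ, inferInstance, a, .ofRepr (LinearEquiv.ofBijective eₜ' h).symm, ?_⟩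
  intro i
  simp +zetaDelta [IsLocalizedModule.map_linearCombination]

theorem main (R : Type u) (C : Type v) (B : Type w)
    [CommRing R] [CommRing C] [CommRing B] [Algebra R C] [Algebra C B] [Algebra R B]
    [IsScalarTower R C B]
    [Algebra.Smooth R C] [Algebra.Smooth C B] (J : Ideal B)
    (hsurj : Function.Surjective ((Ideal.Quotient.mk J).comp (algebraMap C B)))
    (x : PrimeSpectrum (B ⧸ J)) :
    ∃ f : B, Ideal.Quotient.mk J f ∉ x.asIdeal ∧
      ∃ J₀ : Ideal (Localization.Away f), J₀ ≤ J.map (algebraMap B (Localization.Away f)) ∧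
        ((Ideal.Quotient.mk J₀).comp
          ((algebraMap B (Localization.Away f)).comp (algebraMap C B))).Etale := by
  obtain ⟨g, hg, κ, hκ, a, bg, hbg⟩ :=
    exists_basis_away J hsurj (x.asIdeal.comap (Ideal.Quotient.mk J))
  refine ⟨g, fun h => hg (Ideal.mem_comap.mpr h),
    Ideal.span (Set.range fun i => algebraMap B (Localization.Away g) (a i)), ?_, ?_⟩
  · rw [Ideal.span_le]
    rintro _ ⟨i, rfl⟩
    exact Ideal.mem_map_of_mem _ (a i).2
  · have h1 : Algebra.FormallyEtale C ((Localization.Away g) ⧸
        Ideal.span (Set.range fun i => algebraMap B (Localization.Away g) (a i))) :=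
      formallyEtale_quotient_of_basis _ bg hbg
    have h2 : Algebra.FinitePresentation C ((Localization.Away g) ⧸
        Ideal.span (Set.range fun i => algebraMap B (Localization.Away g) (a i))) := by
      have : Algebra.FinitePresentation B (Localization.Away g) :=
        IsLocalization.Away.finitePresentation g
      have : Algebra.FinitePresentation C (Localization.Away g) :=
        Algebra.FinitePresentation.trans C B _
      exact Algebra.FinitePresentation.quotient
        (Submodule.fg_span (Set.finite_range _))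
    have h3 : Algebra.Etale C ((Localization.Away g) ⧸
        Ideal.span (Set.range fun i => algebraMap B (Localization.Away g) (a i))) := ⟨h1, h2⟩
    rw [← RingHom.etale_algebraMap] at h3
    exact h3

end Groth.Agent.H3.EtQuot
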