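import Mathlib
import Groth.Agent.Lib.Helper1.EtSlice

/-! Helper3: étale slices of a smooth morphism with equations chosen in a prescribed ideal
(variant of helper1's `EtSlice`), and the scheme-level consequence S15303. -/

open TensorProduct KaehlerDifferential IsLocalRing AlgebraicGeometry CategoryTheory

universe u

namespace Groth.Agent.H3.EtSliceIdeal

section

variable {R P : Type u} [CommRing R] [CommRing P] [Algebra R P] [IsLocalRing P]

/-- choice of parameters inside a prescribed set `G` whose differentials span `Ω[P/R]`. -/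
theorem exists_basis_D_of_span [Algebra.EssFiniteType R P] [Algebra.FormallySmooth R P]
    (G : Set P) (hG : Submodule.span P ((D R P) '' G) = ⊤) :
    ∃ (ι : Type u) (_ : Fintype ι) (g : ι → P) (b : Module.Basis ι P Ω[P⁄R]),
      (∀ i, g i ∈ G) ∧ ∀ i, b i = D R P (g i) := by
  classical
  have hfin : Module.Finite P Ω[P⁄R] := inferInstance
  have hflat : Module.Flat P Ω[P⁄R] := inferInstance
  obtain ⟨T, hTdef⟩ : ∃ T : Set (ResidueField P ⊗[P] Ω[P⁄R]),
      T = (fun g => (1 : ResidueField P) ⊗ₜ[P] D R P g) '' G := ⟨_, rfl⟩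
  have hT : Submodule.span (ResidueField P) T = ⊤ := by
    rw [eq_top_iff]
    rintro v -
    induction v using TensorProduct.induction_on with
    | zero => exact zero_mem _
    | add x y hx hy => exact add_mem hx hy
    | tmul c ω =>
      have hω : ω ∈ Submodule.span P ((D R P) '' G) := by rw [hG]; trivial
      have h1 : (1 : ResidueField P) ⊗ₜ[P] ω ∈ Submodule.span (ResidueField P) T := by
        induction hω using Submodule.span_induction with
        | mem y hy =>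
          obtain ⟨g, hg, rfl⟩ := hy
          apply Submodule.subset_span
          rw [hTdef]
          exact ⟨g, hg, rfl⟩
        | zero => rw [TensorProduct.tmul_zero]; exact zero_mem _
        | add x y _ _ hx hy => rw [TensorProduct.tmul_add]; exact add_mem hx hy
        | smul a x _ hx =>
          have h3 : (1 : ResidueField P) ⊗ₜ[P] (a • x) =
              (algebraMap P (ResidueField P) a) • ((1 : ResidueField P) ⊗ₜ[P] x) := by
            rw [algebraMap_smul, TensorProduct.tmul_smul]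
          rw [h3]
          exact Submodule.smul_mem _ _ hx
      have h2 : c ⊗ₜ[P] ω = c • ((1 : ResidueField P) ⊗ₜ[P] ω) := by
        rw [TensorProduct.smul_tmul', smul_eq_mul, mul_one]
      rw [h2]
      exact Submodule.smul_mem _ _ h1
  obtain ⟨b, hbT, hbspan, hbli⟩ := exists_linearIndependent (ResidueField P) T
  have hbtop : Submodule.span (ResidueField P) b = ⊤ := hbspan.trans hT
  haveI : Module.Finite (ResidueField P) (ResidueField P ⊗[P] Ω[P⁄R]) := inferInstance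
  haveI hbfin : Finite b := hbli.finite_of_isNoetherian
  haveI : Fintype b := Fintype.ofFinite b
  let w : Module.Basis b (ResidueField P) (ResidueField P ⊗[P] Ω[P⁄R]) :=
    Module.Basis.mk hbli (by rw [Subtype.range_coe]; exact hbtop.ge)
  have hw : ∀ i : b, ∃ g : P, g ∈ G ∧ (1 : ResidueField P) ⊗ₜ[P] D R P g = w i := by
    intro i
    have hi : (i : ResidueField P ⊗[P] Ω[P⁄R]) ∈ T := hbT i.2
    rw [hTdef] at hi
    obtain ⟨g, hg, hgi⟩ := hi
    refine ⟨g, hg, ?_⟩
    rw [Module.Basis.mk_apply]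
    exact hgi
  choose g hg1 hg2 using hw
  have hcomp : (TensorProduct.mk P (ResidueField P) Ω[P⁄R] 1) ∘ (fun i => D R P (g i)) = w := by
    funext i
    exact hg2 i
  have hli : LinearIndependent P (fun i => D R P (g i)) :=
    Module.IsLocalRing.linearIndependent_of_flat _ (hcomp ▸ w.linearIndependent)
  have hsp : ⊤ ≤ Submodule.span P (Set.range (fun i => D R P (g i))) :=
    (IsLocalRing.span_eq_top_of_tmul_eq_basis _ w (congr_fun hcomp)).ge
  refine ⟨b, inferInstance, g, Module.Basis.mk hli hsp, hg1, fun i => ?_⟩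
  rw [Module.Basis.mk_apply]

end

section

variable {R B : Type u} [CommRing R] [CommRing B] [Algebra R B]

/-- étale slice with equations in a prescribed ideal `J` such that `R → B ⧸ J` is surjective. -/
theorem exists_etaleAt_quotient_of_ideal [Algebra.FiniteType R B] (q : Ideal B) [q.IsPrime]
    (P : Type u) [CommRing P] [IsLocalRing P] [Algebra B P] [Algebra R P] [IsScalarTower R B P]
    [IsLocalization.AtPrime P q] [Algebra.FormallySmooth R P]
    (J : Ideal B) (hJq : J ≤ q) (hJ : ∀ b : B, ∃ r : R, b - algebraMap R B r ∈ J) :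
    ∃ I : Ideal B, I.FG ∧ I ≤ J ∧ ∀ (Q : Ideal (B ⧸ I)) [Q.IsPrime],
      Q.comap (Ideal.Quotient.mk I) = q → Algebra.IsEtaleAt R Q := by
  classical
  haveI : Algebra.EssFiniteType B P := Algebra.EssFiniteType.of_isLocalization P q.primeCompl
  haveI : Algebra.EssFiniteType R P := Algebra.EssFiniteType.comp R B P
  obtain ⟨G, hGdef⟩ : ∃ G : Set P, G = (algebraMap B P) '' (J : Set B) := ⟨_, rfl⟩
  have hGm : ∀ x ∈ G, x ∈ maximalIdeal P := by
    intro x hx
    rw [hGdef] at hx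
    obtain ⟨j, hj, rfl⟩ := hx
    exact (IsLocalization.AtPrime.to_map_mem_maximal_iff P q j).mpr (hJq hj)
  have hspan : Submodule.span P ((D R P) '' G) = ⊤ := by
    have h0 := KaehlerDifferential.span_range_map_derivation_of_isLocalization R B P q.primeCompl
    rw [eq_top_iff, ← h0, Submodule.span_le]
    rintro _ ⟨b, rfl⟩
    obtain ⟨r, hr⟩ := hJ b
    have h1 : (KaehlerDifferential.map R R B P ∘ D R B) b =
        D R P (algebraMap B P (b - algebraMap R B r)) := by
      rw [Function.comp_apply, KaehlerDifferential.map_D, map_sub, map_sub,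
        ← IsScalarTower.algebraMap_apply R B P, Derivation.map_algebraMap, sub_zero]
    rw [h1]
    apply Submodule.subset_span
    refine ⟨_, ?_, rfl⟩
    rw [hGdef]
    exact ⟨_, hr, rfl⟩
  obtain ⟨ι, _, g, b, hg, hb⟩ := exists_basis_D_of_span (R := R) (P := P) G hspan
  have hg' : ∀ i, ∃ a : B, a ∈ J ∧ algebraMap B P a = g i := by
    intro i
    have := hg i
    rw [hGdef] at this
    obtain ⟨a, ha, h⟩ := this
    exact ⟨a, ha, h⟩
  choose a ha hga using hg'
  let I : Ideal B := Ideal.span (Set.range a)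
  have hIJ : I ≤ J := Ideal.span_le.mpr (by rintro _ ⟨i, rfl⟩; exact ha i)
  have hIq : I ≤ q := hIJ.trans hJq
  have hIfg : I.FG := ⟨Finset.univ.image a, by
    rw [Finset.coe_image, Finset.coe_univ, Set.image_univ]⟩
  have hImap : I.map (algebraMap B P) = Ideal.span (Set.range g) := by
    rw [Ideal.map_span]
    congr 1
    ext x
    constructor
    · rintro ⟨_, ⟨i, rfl⟩, rfl⟩
      exact ⟨i, (hga i).symm⟩
    · rintro ⟨i, rfl⟩
      exact ⟨a i, ⟨i, rfl⟩, hga i⟩
  have hE : Algebra.FormallyEtale R (P ⧸ I.map (algebraMap B P)) := by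
    rw [hImap]
    exact Groth.Agent.H1.EtSlice.formallyEtale_quotient g b (fun i => hGm _ (hg i)) hb
  refine ⟨I, hIfg, hIJ, ?_⟩
  intro Q _ hQ
  have hsub : Algebra.algebraMapSubmonoid (B ⧸ I) q.primeCompl = Q.primeCompl := by
    ext x
    constructor
    · rintro ⟨y, hy, rfl⟩
      intro hx
      apply hy
      rw [← hQ]
      exact hx
    · intro hx
      obtain ⟨y, rfl⟩ := Ideal.Quotient.mk_surjective x
      refine ⟨y, ?_, rfl⟩
      intro hy
      apply hx
      rw [← hQ] at hy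
      exact hy
  haveI : IsLocalization.AtPrime (P ⧸ I.map (algebraMap B P)) Q := by
    have := IsLocalization.instQuotientIdealAlgebraMapSubmonoidMapRingHomAlgebraMap
      q.primeCompl P I
    rw [hsub] at this
    exact this
  haveI : IsScalarTower R (B ⧸ I) (P ⧸ I.map (algebraMap B P)) :=
    IsScalarTower.of_algebraMap_eq (fun r => by
      change Ideal.Quotient.mk _ (algebraMap R P r) =
        Ideal.Quotient.mk _ (algebraMap B P (algebraMap R B r))
      rw [← IsScalarTower.algebraMap_apply R B P])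
  let e : Localization.AtPrime Q ≃ₐ[B ⧸ I] (P ⧸ I.map (algebraMap B P)) :=
    IsLocalization.algEquiv Q.primeCompl _ _
  exact Algebra.FormallyEtale.of_equiv (e.restrictScalars R).symm

end


section

open Groth.Agent.H1

set_option backward.isDefEq.respectTransparency false in
/-- **S15303**: a closed subscheme `Z ⊆ X` which is also closed in `Y` along a smooth `f : X ⟶ Y`
is, locally on `X`, contained in a closed subscheme étale over `Y`. -/
theorem main {X Y Z : Scheme.{u}} (f : X ⟶ Y) [Smooth f]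
    (i : Z ⟶ X) [IsClosedImmersion i] [IsClosedImmersion (i ≫ f)] (z : Z) :
    ∃ (U : X.Opens) (_ : i.base z ∈ U) (W : Scheme.{u}) (j : W ⟶ (U : Scheme.{u}))
      (_ : IsClosedImmersion j) (_ : Etale (j ≫ U.ι ≫ f))
      (g : ((i ⁻¹ᵁ U : Z.Opens) : Scheme.{u}) ⟶ W), g ≫ j = i ∣_ U := by
  classical
  obtain ⟨h, hh⟩ : ∃ h : Z ⟶ Y, h = i ≫ f := ⟨_, rfl⟩
  haveI : IsClosedImmersion h := by rw [hh]; infer_instance
  have hcomp : ∀ w : Z, h w = f (i w) := fun w => by rw [hh, Scheme.Hom.comp_apply]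
  obtain ⟨x₀, hx₀⟩ : ∃ x₀ : X, x₀ = i z := ⟨_, rfl⟩
  obtain ⟨y, hy⟩ : ∃ y : Y, y = f x₀ := ⟨_, rfl⟩
  -- affine opens
  obtain ⟨V₀, hV₀, hyV₀, -⟩ := DVRCrit.exists_affine_nhd_le y ⊤ trivial
  obtain ⟨U₀, hU₀, hxU₀, e₀⟩ := DVRCrit.exists_affine_nhd_le x₀ (f ⁻¹ᵁ V₀) (by rw [hy] at hyV₀; exact hyV₀)
  have hemb : Topology.IsClosedEmbedding h := h.isClosedEmbedding
  obtain ⟨O, hO, hOeq⟩ := hemb.isInducing.isOpen_iff.mp (i ⁻¹ᵁ U₀).isOpen
  have hzU₀ : z ∈ i ⁻¹ᵁ U₀ := by
    show i z ∈ U₀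
    rw [← hx₀]; exact hxU₀
  have hyO : y ∈ (⟨O, hO⟩ : Y.Opens) := by
    have h1 : z ∈ h ⁻¹' O := by rw [hOeq]; exact hzU₀
    have h2 : h z = y := by rw [hcomp, ← hx₀, hy]
    rw [← h2]; exact h1
  obtain ⟨g₀, hg₀le, hyg₀⟩ := hV₀.exists_basicOpen_le (V := (⟨O, hO⟩ : Y.Opens)) ⟨y, hyO⟩ hyV₀
  obtain ⟨V, hVdef⟩ : ∃ V : Y.Opens, V = Y.basicOpen g₀ := ⟨_, rfl⟩
  have hV : IsAffineOpen V := by rw [hVdef]; exact hV₀.basicOpen g₀
  have hyV : y ∈ V := by rw [hVdef]; exact hyg₀
  have hVO : ∀ y' : Y, y' ∈ V → y' ∈ O := fun y' hy' => hg₀le (by rw [hVdef] at hy'; exact hy')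
  obtain ⟨U, hUdef⟩ : ∃ U : X.Opens, U = X.basicOpen (f.appLE V₀ U₀ e₀ g₀) := ⟨_, rfl⟩
  have hU : IsAffineOpen U := by rw [hUdef]; exact hU₀.basicOpen _
  have hUeq : U = U₀ ⊓ f ⁻¹ᵁ V := by rw [hUdef, hVdef]; exact Scheme.basicOpen_appLE f U₀ V₀ e₀ g₀
  have hxU : x₀ ∈ U := by
    rw [hUeq]
    refine ⟨hxU₀, ?_⟩
    show f x₀ ∈ V
    rw [← hy]; exact hyV
  have e : U ≤ f ⁻¹ᵁ V := by rw [hUeq]; exact inf_le_right
  have hUU₀ : U ≤ U₀ := by rw [hUeq]; exact inf_le_left
  have hpre : i ⁻¹ᵁ U = h ⁻¹ᵁ V := by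
    ext w
    constructor
    · intro hw
      have hw' : i w ∈ U := hw
      show h w ∈ V
      rw [hcomp]
      exact e hw'
    · intro hw
      have hw' : h w ∈ V := hw
      show i w ∈ U
      rw [hUeq]
      refine ⟨?_, ?_⟩
      · have h1 : w ∈ h ⁻¹' O := hVO _ hw'
        rw [hOeq] at h1
        exact h1
      · show f (i w) ∈ V
        rw [← hcomp]; exact hw'
  have hzU : z ∈ i ⁻¹ᵁ U := by
    show i z ∈ U
    rw [← hx₀]; exact hxU
  have hZU : IsAffineOpen (i ⁻¹ᵁ U) := hU.preimage i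
  -- rings
  let φ := (f.appLE V U e).hom
  letI : Algebra Γ(Y, V) Γ(X, U) := φ.toAlgebra
  have hsm : Algebra.Smooth Γ(Y, V) Γ(X, U) := by
    have := f.smooth_appLE hV hU e
    exact this
  let ψ := (i.appLE U (i ⁻¹ᵁ U) le_rfl).hom
  let J : Ideal Γ(X, U) := RingHom.ker ψ
  let q := hU.primeIdealOf ⟨x₀, hxU⟩
  have hJq : J ≤ q.asIdeal := by
    intro b hb
    have h1 := IsAffineOpen.comap_primeIdealOf_appLE (f := i) (x := z) U hU (i ⁻¹ᵁ U) hZU le_rfl hzU
    have h2 : q = hU.primeIdealOf ⟨i z, hzU⟩ := by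
      subst hx₀
      rfl
    rw [h2, ← h1]
    show ψ b ∈ (hZU.primeIdealOf ⟨z, hzU⟩).asIdeal
    rw [RingHom.mem_ker.mp hb]
    exact zero_mem _
  have hsurj : Function.Surjective (h.appLE V (i ⁻¹ᵁ U) hpre.le).hom := by
    have h1 : Function.Surjective (h.appLE V (h ⁻¹ᵁ V) le_rfl).hom := by
      rw [Scheme.Hom.appLE_eq_app]
      exact h.app_surjective V hV
    exact (Scheme.Hom.appLE_congr h (le_rfl : h ⁻¹ᵁ V ≤ h ⁻¹ᵁ V) rfl hpre.symm
      (fun φ => Function.Surjective φ.hom)).mp h1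
  have hψφ : ∀ r : Γ(Y, V), ψ (φ r) = (h.appLE V (i ⁻¹ᵁ U) hpre.le).hom r := by
    intro r
    have h1 := Scheme.Hom.appLE_comp_appLE i f V U (i ⁻¹ᵁ U) e le_rfl
    have h2 : (f.appLE V U e ≫ i.appLE U (i ⁻¹ᵁ U) le_rfl).hom r =
        ((i ≫ f).appLE V (i ⁻¹ᵁ U) (by rw [← hh]; exact hpre.le)).hom r := by
      rw [h1]
    subst hh
    exact h2
  have hJ : ∀ b : Γ(X, U), ∃ r : Γ(Y, V), b - algebraMap Γ(Y, V) Γ(X, U) r ∈ J := by
    intro b
    obtain ⟨r, hr⟩ := hsurj (ψ b)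
    refine ⟨r, ?_⟩
    rw [RingHom.mem_ker, map_sub, sub_eq_zero]
    have : ψ (algebraMap Γ(Y, V) Γ(X, U) r) = ψ (φ r) := rfl
    rw [this, hψφ, hr]
  letI : Algebra Γ(X, U) (X.presheaf.stalk x₀) := X.presheaf.algebra_section_stalk ⟨x₀, hxU⟩
  haveI hloc : IsLocalization.AtPrime (X.presheaf.stalk x₀) q.asIdeal :=
    hU.isLocalization_stalk ⟨x₀, hxU⟩
  letI : Algebra Γ(Y, V) (X.presheaf.stalk x₀) :=
    ((algebraMap Γ(X, U) (X.presheaf.stalk x₀)).comp φ).toAlgebra
  haveI : IsScalarTower Γ(Y, V) Γ(X, U) (X.presheaf.stalk x₀) :=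
    IsScalarTower.of_algebraMap_eq (fun r => rfl)
  haveI : Algebra.FormallySmooth Γ(X, U) (X.presheaf.stalk x₀) :=
    Algebra.FormallySmooth.of_isLocalization q.asIdeal.primeCompl
  haveI : Algebra.FormallySmooth Γ(Y, V) (X.presheaf.stalk x₀) :=
    Algebra.FormallySmooth.comp Γ(Y, V) Γ(X, U) (X.presheaf.stalk x₀)
  obtain ⟨I, hIfg, hIJ, hI⟩ := exists_etaleAt_quotient_of_ideal (R := Γ(Y, V)) q.asIdeal
    (X.presheaf.stalk x₀) J hJq hJ
  have hIq : I ≤ q.asIdeal := hIJ.trans hJq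
  -- the quotient ring
  let C := Γ(X, U) ⧸ I
  let Q : Ideal C := q.asIdeal.map (Ideal.Quotient.mk I)
  have hQc : Q.comap (Ideal.Quotient.mk I) = q.asIdeal := by
    rw [Ideal.comap_map_of_surjective _ Ideal.Quotient.mk_surjective, ← RingHom.ker_eq_comap_bot,
      Ideal.mk_ker, sup_eq_left.mpr hIq]
  haveI : Q.IsPrime := Ideal.map_isPrime_of_surjective Ideal.Quotient.mk_surjective
    (by rw [Ideal.mk_ker]; exact hIq)
  haveI : Algebra.IsEtaleAt Γ(Y, V) Q := hI Q hQc
  haveI : Algebra.FinitePresentation Γ(Y, V) C := Algebra.FinitePresentation.quotient hIfg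
  obtain ⟨t, htQ, het⟩ := Algebra.exists_etale_of_isEtaleAt (R := Γ(Y, V)) Q
  obtain ⟨tt, rfl⟩ := Ideal.Quotient.mk_surjective t
  have htq : tt ∉ q.asIdeal := fun htt => htQ (Ideal.mem_map_of_mem _ htt)
  -- the smaller open
  have hU' : IsAffineOpen (X.basicOpen tt) := hU.basicOpen tt
  have hU'U : X.basicOpen tt ≤ U := X.basicOpen_le tt
  have hx' : x₀ ∈ X.basicOpen tt := by
    have h1 : q ∈ hU.fromSpec ⁻¹ᵁ X.basicOpen tt := by
      rw [hU.fromSpec_preimage_basicOpen tt]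
      exact htq
    have h2 := hU.fromSpec_primeIdealOf ⟨x₀, hxU⟩
    have h3 : hU.fromSpec q ∈ X.basicOpen tt := h1
    rw [h2] at h3
    exact h3
  have e' : X.basicOpen tt ≤ f ⁻¹ᵁ V := hU'U.trans e
  haveI hlocB : IsLocalization.Away tt Γ(X, X.basicOpen tt) := hU.isLocalization_basicOpen tt
  -- the ring map Γ(X, U') → L
  have hunit : IsUnit (((algebraMap C (Localization.Away (Ideal.Quotient.mk I tt))).comp
      (Ideal.Quotient.mk I)) tt) :=
    IsLocalization.Away.algebraMap_isUnit (Ideal.Quotient.mk I tt)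
  let σ : Γ(X, X.basicOpen tt) →+* Localization.Away (Ideal.Quotient.mk I tt) :=
    IsLocalization.Away.lift tt hunit
  have hσ : ∀ b : Γ(X, U), σ (algebraMap Γ(X, U) Γ(X, X.basicOpen tt) b) =
      algebraMap C (Localization.Away (Ideal.Quotient.mk I tt)) (Ideal.Quotient.mk I b) :=
    fun b => IsLocalization.Away.lift_eq tt hunit b
  have hσsurj : Function.Surjective σ := by
    intro l
    obtain ⟨n, c, hc⟩ := IsLocalization.Away.surj (Ideal.Quotient.mk I tt) l
    obtain ⟨b, rfl⟩ := Ideal.Quotient.mk_surjective c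
    have hu : IsUnit (algebraMap Γ(X, U) Γ(X, X.basicOpen tt) tt) :=
      IsLocalization.Away.algebraMap_isUnit tt
    obtain ⟨v, hv⟩ := hu.exists_right_inv
    refine ⟨algebraMap Γ(X, U) Γ(X, X.basicOpen tt) b * v ^ n, ?_⟩
    have h3 : algebraMap C (Localization.Away (Ideal.Quotient.mk I tt)) (Ideal.Quotient.mk I tt) *
        σ v = 1 := by
      rw [← hσ tt, ← map_mul, hv, map_one]
    rw [map_mul, map_pow, hσ b, ← hc, mul_assoc, ← mul_pow, h3, one_pow, mul_one]
  -- the closed subscheme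
  haveI hjcl0 : IsClosedImmersion (Spec.map (CommRingCat.ofHom σ)) :=
    IsClosedImmersion.spec_of_surjective _ hσsurj
  have hcompσ : f.appLE V (X.basicOpen tt) e' ≫ CommRingCat.ofHom σ =
      CommRingCat.ofHom (algebraMap Γ(Y, V) (Localization.Away (Ideal.Quotient.mk I tt))) := by
    ext r
    have h1 : (f.appLE V (X.basicOpen tt) e').hom r =
        algebraMap Γ(X, U) Γ(X, X.basicOpen tt) (φ r) := by
      have := Scheme.Hom.appLE_map f e (homOfLE hU'U).op
      rw [← this]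
      rfl
    change σ ((f.appLE V (X.basicOpen tt) e').hom r) = _
    rw [h1, hσ]
    rfl
  have hjf : (Spec.map (CommRingCat.ofHom σ) ≫ hU'.isoSpec.inv) ≫ (X.basicOpen tt).ι ≫ f =
      Spec.map (CommRingCat.ofHom
        (algebraMap Γ(Y, V) (Localization.Away (Ideal.Quotient.mk I tt)))) ≫ hV.fromSpec := by
    rw [Category.assoc, ← Category.assoc hU'.isoSpec.inv, hU'.isoSpec_inv_ι,
      ← IsAffineOpen.SpecMap_appLE_fromSpec f hV hU' e', ← Category.assoc, ← Spec.map_comp, hcompσ]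
  have hjet : Etale ((Spec.map (CommRingCat.ofHom σ) ≫ hU'.isoSpec.inv) ≫
      (X.basicOpen tt).ι ≫ f) := by
    rw [hjf]
    haveI : Etale (Spec.map (CommRingCat.ofHom
        (algebraMap Γ(Y, V) (Localization.Away (Ideal.Quotient.mk I tt))))) := by
      rw [HasRingHomProperty.Spec_iff (P := @Etale), CommRingCat.hom_ofHom,
        RingHom.etale_algebraMap]
      exact het
    infer_instance
  -- the factorisation of `Z ∩ U'`
  have hZ' : IsAffineOpen (i ⁻¹ᵁ X.basicOpen tt) := hU'.preimage i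
  let ρ := (i.appLE (X.basicOpen tt) (i ⁻¹ᵁ X.basicOpen tt) le_rfl).hom
  have hZ'le : i ⁻¹ᵁ X.basicOpen tt ≤ i ⁻¹ᵁ U := fun w hw => hU'U hw
  have hρ : ∀ b : Γ(X, U), ρ (algebraMap Γ(X, U) Γ(X, X.basicOpen tt) b) =
      (Z.presheaf.map (homOfLE hZ'le).op).hom (ψ b) := by
    intro b
    have h1 := Scheme.Hom.appLE_map i (le_rfl : i ⁻¹ᵁ U ≤ i ⁻¹ᵁ U) (homOfLE hZ'le).op
    have h2 := Scheme.Hom.map_appLE i (le_rfl : i ⁻¹ᵁ X.basicOpen tt ≤ i ⁻¹ᵁ X.basicOpen tt)
      (homOfLE hU'U).op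
    have h3 : (X.presheaf.map (homOfLE hU'U).op ≫
        i.appLE (X.basicOpen tt) (i ⁻¹ᵁ X.basicOpen tt) le_rfl).hom b =
        (i.appLE U (i ⁻¹ᵁ U) le_rfl ≫ Z.presheaf.map (homOfLE hZ'le).op).hom b := by
      rw [h1, h2]
    exact h3
  have hI0 : ∀ a ∈ I, (ρ.comp (algebraMap Γ(X, U) Γ(X, X.basicOpen tt))) a = 0 := by
    intro a ha
    rw [RingHom.comp_apply, hρ]
    have : ψ a = 0 := RingHom.mem_ker.mp (hIJ ha)
    rw [this, map_zero]
  have hunit2 : IsUnit ((Ideal.Quotient.lift I (ρ.comp (algebraMap Γ(X, U) Γ(X, X.basicOpen tt)))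
      hI0) (Ideal.Quotient.mk I tt)) := by
    rw [Ideal.Quotient.lift_mk, RingHom.comp_apply]
    exact (IsLocalization.Away.algebraMap_isUnit tt).map ρ
  let lam : Localization.Away (Ideal.Quotient.mk I tt) →+* Γ(Z, i ⁻¹ᵁ X.basicOpen tt) :=
    IsLocalization.Away.lift (Ideal.Quotient.mk I tt) hunit2
  have hlamσ : CommRingCat.ofHom σ ≫ CommRingCat.ofHom lam =
      i.appLE (X.basicOpen tt) (i ⁻¹ᵁ X.basicOpen tt) le_rfl := by
    ext1
    apply IsLocalization.ringHom_ext (Submonoid.powers tt)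
    ext b
    change lam (σ (algebraMap Γ(X, U) Γ(X, X.basicOpen tt) b)) =
      ρ (algebraMap Γ(X, U) Γ(X, X.basicOpen tt) b)
    rw [hσ, IsLocalization.Away.lift_eq, Ideal.Quotient.lift_mk, RingHom.comp_apply]
  refine ⟨X.basicOpen tt, ?_, Spec (.of (Localization.Away (Ideal.Quotient.mk I tt))),
    Spec.map (CommRingCat.ofHom σ) ≫ hU'.isoSpec.inv, inferInstance, hjet,
    hZ'.isoSpec.hom ≫ Spec.map (CommRingCat.ofHom lam), ?_⟩
  · have : i.base z = x₀ := hx₀.symm
    rw [this]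
    exact hx'
  · rw [← cancel_mono (X.basicOpen tt).ι, morphismRestrict_ι]
    simp only [Category.assoc]
    rw [hU'.isoSpec_inv_ι, ← Category.assoc (Spec.map (CommRingCat.ofHom lam)), ← Spec.map_comp,
      hlamσ, IsAffineOpen.SpecMap_appLE_fromSpec i hU' hZ' le_rfl, ← Category.assoc,
      hZ'.isoSpec_hom_fromSpec]

end

end Groth.Agent.H3.EtSliceIdeal
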