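import Mathlib
import Groth.Agent.S3830
import Groth.Agent.Lib.Helper5.AlgSp.FlatDescentMore

set_option autoImplicit false
universe u
open AlgebraicGeometry CategoryTheory

namespace Groth.Agent.H3.EtSmQf

theorem etale_of_smooth_quasiFinite (A B : Type u) [CommRing A] [CommRing B] [Algebra A B]
    [Algebra.Smooth A B] [Algebra.QuasiFinite A B] : Algebra.Etale A B := by
  rw [← Algebra.etaleLocus_eq_univ_iff_etale]
  ext p
  simp only [Algebra.mem_etaleLocus_iff, Set.mem_univ, iff_true]
  haveI : Algebra.QuasiFiniteAt A p.asIdeal := inferInstance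
  exact Groth.Agent.S3830.result A B p.asIdeal (inferInstance : Algebra.IsSmoothAt A p.asIdeal)

theorem main {X Y : Scheme.{u}} (f : X ⟶ Y) :
    Etale f ↔ Smooth f ∧ LocallyQuasiFinite f := by
  constructor
  · intro h
    exact ⟨inferInstance, Groth.Agent.H5.AlgSp.locallyQuasiFinite_of_unramified f⟩
  · rintro ⟨h1, h2⟩
    rw [HasRingHomProperty.iff_appLE (P := @Etale)]
    intro U V e
    have s := HasRingHomProperty.appLE (P := @Smooth) f h1 U V e
    have q := HasRingHomProperty.appLE (P := @LocallyQuasiFinite) f h2 U V e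
    algebraize [(f.appLE U.1 V.1 e).hom]
    exact etale_of_smooth_quasiFinite Γ(Y, U.1) Γ(X, V.1)

end Groth.Agent.H3.EtSmQf
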