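import Mathlib
import Groth.Agent.Lib.Helper3.DiscPs

set_option autoImplicit false

universe u

open CategoryTheory CategoryTheory.Limits AlgebraicGeometry Opposite

namespace Groth.Agent.H3.EtSub

variable {S : Scheme.{u}}

/-- the open image of an étale scheme over `S` -/
def img (U : S.Etale) : S.Opens := ⟨Set.range U.hom, U.hom.isOpenMap.isOpen_range⟩

lemma mem_img {U : S.Etale} {s : S} : s ∈ img U ↔ ∃ u : U.left, U.hom u = s := Iff.rfl

/-- morphisms into an open exist iff the image lands in it -/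
lemma nonempty_hom_iff (U : S.Etale) (W : S.Opens) :
    Nonempty (U ⟶ Scheme.Etale.mk W.ι) ↔ img U ≤ W := by
  constructor
  · rintro ⟨φ⟩ s ⟨u, rfl⟩
    have h : φ.left ≫ W.ι = U.hom := CategoryTheory.Over.w φ.hom
    have : U.hom u = W.ι (φ.left u) := by rw [← h]; rfl
    rw [this]
    exact (φ.left u).2
  · intro h
    have hr : Set.range U.hom ⊆ Set.range W.ι := by
      rintro _ ⟨u, rfl⟩
      rw [Scheme.Opens.range_ι]
      exact h ⟨u, rfl⟩
    obtain ⟨l, hl⟩ : ∃ l : U.left ⟶ (W : Scheme.{u}), l ≫ W.ι = U.hom :=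
      ⟨IsOpenImmersion.lift W.ι U.hom hr, IsOpenImmersion.lift_fac W.ι U.hom hr⟩
    exact ⟨MorphismProperty.Over.homMk (A := U) (B := Scheme.Etale.mk W.ι) l hl trivial⟩

instance (U : S.Etale) (W : S.Opens) : Subsingleton (U ⟶ Scheme.Etale.mk W.ι) := by
  refine ⟨fun φ ψ => ?_⟩
  apply MorphismProperty.Over.Hom.ext
  have h : φ.left ≫ W.ι = ψ.left ≫ W.ι :=
    (CategoryTheory.Over.w φ.hom).trans (CategoryTheory.Over.w ψ.hom).symm
  exact (cancel_mono W.ι).1 h

lemma img_mk_ι (W : S.Opens) : img (Scheme.Etale.mk W.ι) = W := by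
  ext s
  change s ∈ Set.range W.ι ↔ s ∈ W
  rw [Scheme.Opens.range_ι]
  rfl

variable (F : Sheaf S.smallEtaleTopology (Type u))
  (hF : ∀ U : S.Etale, Subsingleton (F.obj.obj (op U)))

/-- the support of a subsheaf of the final sheaf -/
def supp : S.Opens := ⨆ (U : {U : S.Etale // Nonempty (F.obj.obj (op U))}), img U.1

include hF in
lemma nonempty_iff (U : S.Etale) : Nonempty (F.obj.obj (op U)) ↔ img U ≤ supp F := by
  constructor
  · intro h
    exact le_iSup (fun V : {U : S.Etale // Nonempty (F.obj.obj (op U))} => img V.1) ⟨U, h⟩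
  · intro h
    have hex : ∀ u : U.left, ∃ (V : S.Etale) (_ : Nonempty (F.obj.obj (op V))) (v : V.left),
        V.hom v = U.hom u := by
      intro u
      have hu : U.hom u ∈ supp F := h ⟨u, rfl⟩
      rw [supp, TopologicalSpace.Opens.mem_iSup] at hu
      obtain ⟨⟨V, hV⟩, v, hv⟩ := hu
      exact ⟨V, hV, v, hv⟩
    choose V hV v hv using hex
    let Z : U.left → S.Etale := fun u =>
      Scheme.Etale.mk (pullback.fst U.hom (V u).hom ≫ U.hom)
    let f : ∀ u, Z u ⟶ U := fun u =>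
      MorphismProperty.Over.homMk (A := Z u) (B := U) (pullback.fst U.hom (V u).hom) rfl trivial
    let g : ∀ u, Z u ⟶ V u := fun u =>
      MorphismProperty.Over.homMk (A := Z u) (B := V u) (pullback.snd U.hom (V u).hom)
        pullback.condition.symm trivial
    have hcov : Sieve.ofArrows _ f ∈ S.smallEtaleTopology U := by
      rw [Scheme.ofArrows_mem_smallEtaleTopology_iff]
      ext u
      simp only [Set.mem_iUnion, Set.mem_range, Set.mem_univ, iff_true]
      obtain ⟨z, hz, -⟩ := Scheme.Pullback.exists_preimage_pullback u (v u) (hv u).symm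
      exact ⟨u, z, hz⟩
    haveI : ∀ T, Subsingleton (F.obj.obj T) := fun T => hF T.unop
    have hsh := (isSheaf_iff_isSheaf_of_type _ _).1 F.property
    rw [DiscPs.isSheaf_iff_of_subsingleton] at hsh
    refine hsh U _ hcov ?_
    rintro Y k ⟨Y', a, b, ⟨u⟩, rfl⟩
    obtain ⟨t⟩ := hV u
    exact ⟨F.obj.map (a ≫ g u).op t⟩

/-- equivalence of subsingleton types -/
noncomputable def equivOfSubsingleton {A B : Type*} [Subsingleton A] [Subsingleton B]
    (h : Nonempty A ↔ Nonempty B) : A ≃ B where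
  toFun a := (h.1 ⟨a⟩).some
  invFun b := (h.2 ⟨b⟩).some
  left_inv _ := Subsingleton.elim _ _
  right_inv _ := Subsingleton.elim _ _

include hF in
lemma nonempty_iso_iff (W : S.Opens) :
    Nonempty (F.obj ≅ yoneda.obj (Scheme.Etale.mk W.ι)) ↔
      ∀ U : S.Etale, img U ≤ supp F ↔ img U ≤ W := by
  constructor
  · rintro ⟨e⟩ U
    rw [← nonempty_iff F hF, ← nonempty_hom_iff]
    exact ⟨fun ⟨t⟩ => ⟨(e.hom.app (op U)) t⟩, fun ⟨φ⟩ => ⟨(e.inv.app (op U)) φ⟩⟩
  · intro h
    haveI : ∀ T, Subsingleton (F.obj.obj T) := fun T => hF T.unop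
    haveI : ∀ T : S.Etaleᵒᵖ, Subsingleton ((yoneda.obj (Scheme.Etale.mk W.ι)).obj T) := fun T =>
      inferInstanceAs (Subsingleton (T.unop ⟶ Scheme.Etale.mk W.ι))
    have hiff : ∀ T : S.Etaleᵒᵖ, Nonempty (F.obj.obj T) ↔
        Nonempty ((yoneda.obj (Scheme.Etale.mk W.ι)).obj T) := by
      intro T
      change Nonempty (F.obj.obj (op T.unop)) ↔ Nonempty (T.unop ⟶ Scheme.Etale.mk W.ι)
      rw [nonempty_iff F hF, nonempty_hom_iff]
      exact h T.unop
    refine ⟨NatIso.ofComponents (fun T => Equiv.toIso (equivOfSubsingleton (hiff T))) ?_⟩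
    intro T T' k
    ext t
    exact Subsingleton.elim (α := T'.unop ⟶ Scheme.Etale.mk W.ι) _ _

include hF in
theorem main : ∃! W : S.Opens, Nonempty (F.obj ≅ yoneda.obj (Scheme.Etale.mk W.ι)) := by
  refine ⟨supp F, (nonempty_iso_iff F hF _).2 (fun _ => Iff.rfl), fun W hW => ?_⟩
  replace hW := (nonempty_iso_iff F hF W).1 hW
  apply le_antisymm
  · have := (hW (Scheme.Etale.mk W.ι)).2 (by rw [img_mk_ι])
    rwa [img_mk_ι] at this
  · have := (hW (Scheme.Etale.mk (supp F).ι)).1 (by rw [img_mk_ι])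
    rwa [img_mk_ι] at this

end Groth.Agent.H3.EtSub
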