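import Mathlib.RingTheory.Derivation.Basic
import Mathlib.Algebra.TrivSqZeroExt.Basic
import Mathlib.RingTheory.Ideal.Cotangent
import Mathlib.RingTheory.Ideal.Quotient.Operations
import Groth.Prelude.Def_Exal
import Groth.Prelude.Def_Exal2
universe u v w

namespace Groth.Agent.H3.ExalAux
open Exal

variable {A : Type u} {B L : Type v} [CommRing A] [CommRing B] [Algebra A B] [AddCommGroup L] [Module B L]

lemma proj_incl (X : Ext A B L) (z : L) : X.proj (X.incl z) = 0 :=
  (X.isExtension.exact _).2 ⟨z, rfl⟩

lemma incl_mul_incl (X : Ext A B L) (z z' : L) : X.incl z * X.incl z' = 0 := by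
  rw [X.isExtension.mul_incl, proj_incl, zero_smul, map_zero]

lemma incl_mul (X : Ext A B L) (z : L) (x : X.E) : X.incl z * x = X.incl (X.proj x • z) := by
  rw [mul_comm, X.isExtension.mul_incl]

lemma algebraMap_mul_incl [Module A L] [IsScalarTower A B L] (X : Ext A B L) (a : A) (z : L) :
    algebraMap A X.E a * X.incl z = X.incl (a • z) := by
  rw [X.isExtension.mul_incl, AlgHom.commutes, algebraMap_smul]

lemma smul_incl [Module A L] [IsScalarTower A B L] (X : Ext A B L) (a : A) (z : L) :
    a • X.incl z = X.incl (a • z) := by
  rw [Algebra.smul_def, algebraMap_mul_incl]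

lemma exists_incl_eq_sub (X : Ext A B L) {x y : X.E} (h : X.proj x = X.proj y) :
    ∃ z : L, X.incl z = x - y :=
  (X.isExtension.exact _).1 (by rw [map_sub, h, sub_self])

attribute [local instance] Exal.opModule Exal.isCentralScalar_opModule

section Twist

variable {A : Type u} {C L : Type v} [CommRing A] [CommRing C] [Algebra A C] [AddCommGroup L] [Module C L]

/-- Carrier of the trivial square-zero extension `C ⊕ L`, made an `A`-algebra through a given ring
map `φ`. -/
@[nolint unusedArguments]
def TwCarrier (_φ : A →+* TrivSqZeroExt C L) : Type v := TrivSqZeroExt C L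

instance (φ : A →+* TrivSqZeroExt C L) : CommRing (TwCarrier φ) :=
  inferInstanceAs (CommRing (TrivSqZeroExt C L))

noncomputable instance (φ : A →+* TrivSqZeroExt C L) : Algebra A (TwCarrier φ) :=
  (φ : A →+* TwCarrier φ).toAlgebra

/-- The extension `C ⊕ L` of `C` by `L` with `A`-algebra structure given by a ring map `φ` lifting
the structure map of `C`. -/
noncomputable def twist (φ : A →+* TrivSqZeroExt C L)
    (hφ : ∀ a, TrivSqZeroExt.fst (φ a) = algebraMap A C a) : Ext A C L where
  E := TwCarrier φ
  proj :=
    { toFun := fun x => TrivSqZeroExt.fst x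
      map_one' := TrivSqZeroExt.fst_one
      map_mul' := TrivSqZeroExt.fst_mul
      map_zero' := TrivSqZeroExt.fst_zero
      map_add' := TrivSqZeroExt.fst_add
      commutes' := fun a => hφ a }
  incl := (TrivSqZeroExt.inrHom C L).toAddMonoidHom
  isExtension :=
    { proj_surjective := fun c => ⟨TrivSqZeroExt.inl c, rfl⟩
      incl_injective := TrivSqZeroExt.inr_injective
      exact := fun x => by
        constructor
        · intro hx
          exact ⟨TrivSqZeroExt.snd x, TrivSqZeroExt.ext hx.symm rfl⟩
        · rintro ⟨z, rfl⟩
          rfl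
      mul_incl := fun x z => by
        refine TrivSqZeroExt.ext ?_ ?_
        · change TrivSqZeroExt.fst x * 0 = 0
          exact mul_zero _
        · change TrivSqZeroExt.fst x • z + MulOpposite.op (0 : C) • TrivSqZeroExt.snd x = TrivSqZeroExt.fst x • z
          rw [MulOpposite.op_zero, zero_smul, add_zero] }

end Twist


theorem exists_ext_of_sqZero {A : Type v} {B C : Type u} [CommRing A] [CommRing B] [CommRing C]
    [Algebra A B] [Algebra A C] (J : Ideal C) (hJ : J ^ 2 = ⊥) (u₀ : B →ₐ[A] C ⧸ J) :
    ∃ (inst : Module B J.Cotangent) (X : @Exal.Ext A B J.Cotangent _ _ _ _ inst),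
      (X.IsTrivial → ∃ v : B →ₐ[A] C, (Ideal.Quotient.mkₐ A J).comp v = u₀) ∧
      ∀ (Λ : Type v) [CommRing Λ] [Algebra Λ A] [Algebra Λ B] [IsScalarTower Λ A B]
        [Algebra Λ C] [IsScalarTower Λ A C],
        (∃ w : B →ₐ[Λ] C, (Ideal.Quotient.mkₐ Λ J).comp w = u₀.restrictScalars Λ) →
          X.IsTrivialOver Λ := by
  let inst : Module B J.Cotangent := Module.compHom J.Cotangent (u₀ : B →+* C ⧸ J)
  have hsmul : ∀ (b : B) (z : J.Cotangent), b • z = u₀ b • z := fun b z => rfl
  -- toCotangent is bijective
  have hbij : Function.Bijective J.toCotangent := by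
    refine ⟨?_, J.toCotangent_surjective⟩
    rw [injective_iff_map_eq_zero]
    intro x hx
    rw [Ideal.toCotangent_eq_zero, hJ] at hx
    exact Subtype.ext hx
  let τ : J ≃ₗ[C] J.Cotangent := LinearEquiv.ofBijective J.toCotangent hbij
  have hτ : ∀ j, τ j = J.toCotangent j := fun j => rfl
  let E : Subalgebra A (C × B) :=
    AlgHom.equalizer ((Ideal.Quotient.mkₐ A J).comp (AlgHom.fst A C B)) (u₀.comp (AlgHom.snd A C B))
  have hE : ∀ x : C × B, x ∈ E ↔ Ideal.Quotient.mk J x.1 = u₀ x.2 := by
    intro x
    rw [AlgHom.mem_equalizer]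
    rfl
  let X : @Exal.Ext A B J.Cotangent _ _ _ _ inst :=
    { E := E
      commRing := inferInstance
      algebra := inferInstance
      proj := (AlgHom.snd A C B).comp E.val
      incl :=
        { toFun := fun z => ⟨(((τ.symm z : J) : C), 0), by
            rw [hE]
            simp only [map_zero]
            exact Ideal.Quotient.eq_zero_iff_mem.mpr (τ.symm z).2⟩
          map_zero' := by
            apply Subtype.ext
            apply Prod.ext <;> simp
          map_add' := fun z z' => by
            apply Subtype.ext
            apply Prod.ext <;> simp }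
      isExtension :=
        { proj_surjective := fun b => by
            obtain ⟨c, hc⟩ := Ideal.Quotient.mk_surjective (u₀ b)
            exact ⟨⟨(c, b), (hE _).mpr hc⟩, rfl⟩
          incl_injective := fun z z' h => by
            have h1 : ((τ.symm z : J) : C) = ((τ.symm z' : J) : C) := congrArg (fun e : E => e.1.1) h
            exact τ.symm.injective (Subtype.ext h1)
          exact := fun x => by
            obtain ⟨⟨c, b⟩, hx⟩ := x
            have hx' : Ideal.Quotient.mk J c = u₀ b := (hE _).mp hx
            constructor
            · intro hb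
              change b = 0 at hb
              subst hb
              rw [map_zero, Ideal.Quotient.eq_zero_iff_mem] at hx'
              refine ⟨τ ⟨c, hx'⟩, ?_⟩
              apply Subtype.ext
              apply Prod.ext
              · show ((τ.symm (τ ⟨c, hx'⟩) : J) : C) = c
                rw [LinearEquiv.symm_apply_apply]
              · rfl
            · rintro ⟨z, hz⟩
              have := congrArg (fun e : E => e.1.2) hz
              exact this.symm
          mul_incl := fun x z => by
            obtain ⟨⟨c, b⟩, hx⟩ := x
            have hx' : Ideal.Quotient.mk J c = u₀ b := (hE _).mp hx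
            apply Subtype.ext
            apply Prod.ext
            · show c * ((τ.symm z : J) : C) = ((τ.symm (b • z) : J) : C)
              have h1 : b • z = c • z := by
                rw [hsmul, ← hx']
                exact (IsScalarTower.algebraMap_smul (C ⧸ J) c z)
              rw [h1, map_smul]
              rfl
            · show b * 0 = 0
              exact mul_zero _ } }
  refine ⟨inst, X, ?_, ?_⟩
  · rintro ⟨s, hs⟩
    let v : B →ₐ[A] C := (AlgHom.fst A C B).comp (E.val.comp s)
    refine ⟨v, ?_⟩
    ext b
    have h1 : (s b : E).1 ∈ E := (s b).2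
    rw [hE] at h1
    have h2 : ((s b : E).1).2 = b := hs b
    rw [h2] at h1
    exact h1
  · intro Λ _ _ _ _ _ _
    rintro ⟨w, hw⟩
    have hwb : ∀ b, Ideal.Quotient.mk J (w b) = u₀ b := fun b => AlgHom.congr_fun hw b
    let s0 : B →+* E :=
      { toFun := fun b => ⟨(w b, b), (hE _).mpr (hwb b)⟩
        map_one' := by apply Subtype.ext; apply Prod.ext <;> simp
        map_mul' := fun b b' => by apply Subtype.ext; apply Prod.ext <;> simp
        map_zero' := by apply Subtype.ext; apply Prod.ext <;> simp
        map_add' := fun b b' => by apply Subtype.ext; apply Prod.ext <;> simp }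
    let s : B →ₐ[Λ] (X.restrictBase Λ).E :=
      { toFun := s0
        map_one' := map_one s0
        map_mul' := map_mul s0
        map_zero' := map_zero s0
        map_add' := map_add s0
        commutes' := by
          intro l
          apply Subtype.ext
          apply Prod.ext
          · show w (algebraMap Λ B l) = algebraMap A C (algebraMap Λ A l)
            rw [AlgHom.commutes, ← IsScalarTower.algebraMap_apply]
          · show algebraMap Λ B l = algebraMap A B (algebraMap Λ A l)
            rw [← IsScalarTower.algebraMap_apply] }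
    exact ⟨s, fun b => rfl⟩


/-- The kernel of the projection of an extension has square zero. -/
theorem ker_sq {A : Type u} {B L : Type v} [CommRing A] [CommRing B] [Algebra A B] [AddCommGroup L]
    [Module B L] (X : Exal.Ext A B L) : (RingHom.ker X.proj.toRingHom) ^ 2 = ⊥ := by
  rw [eq_bot_iff, pow_two, Ideal.mul_le]
  intro x hx y hy
  rw [RingHom.mem_ker] at hx hy
  obtain ⟨z, rfl⟩ := (X.isExtension.exact x).1 hx
  obtain ⟨z', rfl⟩ := (X.isExtension.exact y).1 hy
  rw [incl_mul_incl]
  exact Ideal.zero_mem _

section Psi

variable {A C L : Type v} [CommRing A] [CommRing C] [Algebra A C] [AddCommGroup L] [Module C L]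
  [Module A L] [IsScalarTower A C L]

/-- The canonical ring map `A ⊕ L → E`, `(a, l) ↦ a·1 + i(l)`, for an `A`-extension `E` of `C` by `L`. -/
noncomputable def psi (X : Ext A C L) : TrivSqZeroExt A L →+* X.E where
  toFun t := algebraMap A X.E t.fst + X.incl t.snd
  map_one' := by
    rw [TrivSqZeroExt.fst_one, TrivSqZeroExt.snd_one, map_one, map_zero, add_zero]
  map_mul' t t' := by
    rw [TrivSqZeroExt.fst_mul, TrivSqZeroExt.snd_mul, map_mul, map_add, op_smul_eq_smul, add_mul,
      mul_add, mul_add, incl_mul_incl, add_zero, algebraMap_mul_incl, mul_comm (X.incl t.snd),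
      algebraMap_mul_incl]
    abel
  map_zero' := by
    rw [TrivSqZeroExt.fst_zero, TrivSqZeroExt.snd_zero, map_zero, map_zero, add_zero]
  map_add' t t' := by
    rw [TrivSqZeroExt.fst_add, TrivSqZeroExt.snd_add, map_add, map_add]
    abel

lemma psi_apply (X : Ext A C L) (t : TrivSqZeroExt A L) :
    psi X t = algebraMap A X.E t.fst + X.incl t.snd := rfl

lemma proj_psi (X : Ext A C L) (t : TrivSqZeroExt A L) : X.proj (psi X t) = algebraMap A C t.fst := by
  rw [psi_apply, map_add, proj_incl, add_zero, AlgHom.commutes]

lemma psi_surjective (X : Ext A C L) (hAC : Function.Surjective (algebraMap A C)) :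
    Function.Surjective (psi X) := by
  intro x
  obtain ⟨a, ha⟩ := hAC (X.proj x)
  have hk : X.proj (x - algebraMap A X.E a) = 0 := by
    rw [map_sub, AlgHom.commutes, ha, sub_self]
  refine ⟨TrivSqZeroExt.inl a + TrivSqZeroExt.inr (X.kerLift _ hk), ?_⟩
  rw [psi_apply, TrivSqZeroExt.fst_add, TrivSqZeroExt.snd_add, TrivSqZeroExt.fst_inl,
    TrivSqZeroExt.fst_inr, TrivSqZeroExt.snd_inl, TrivSqZeroExt.snd_inr, add_zero, zero_add,
    X.incl_kerLift]
  abel

end Psi


end Groth.Agent.H3.ExalAux
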