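import Mathlib

/-! helper3: `Ext¹(M, N)` through a presentation `0 → ker π → F → M → 0` with `F` projective:
`Ext¹(M, N) ≃ Hom(ker π, N) / res Hom(F, N)` as modules. -/

set_option autoImplicit false
universe w u

open CategoryTheory CategoryTheory.Abelian

namespace Groth.Agent.H3.ExtP

variable {A : Type u} [CommRing A] {F M : Type u} [AddCommGroup F] [AddCommGroup M]
  [Module A F] [Module A M]

/-- The short complex `0 → ker π → F → M → 0`. -/
noncomputable abbrev kerSC (π : F →ₗ[A] M) : ShortComplex (ModuleCat.{u} A) :=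
  ShortComplex.mk (ModuleCat.ofHom (LinearMap.ker π).subtype) (ModuleCat.ofHom π) (by
    rw [← ModuleCat.ofHom_comp]
    have : π ∘ₗ (LinearMap.ker π).subtype = 0 := by
      ext x
      exact x.2
    rw [this]
    rfl)

theorem kerSC_shortExact (π : F →ₗ[A] M) (hπ : Function.Surjective π) :
    (kerSC π).ShortExact := by
  refine ModuleCat.shortComplex_shortExact _ ?_ Subtype.val_injective hπ
  intro y
  change π y = 0 ↔ y ∈ Set.range (LinearMap.ker π).subtype
  rw [← LinearMap.mem_ker]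
  constructor
  · intro h; exact ⟨⟨y, h⟩, rfl⟩
  · rintro ⟨x, rfl⟩; exact x.2

variable (N : Type u) [AddCommGroup N] [Module A N]

/-- restriction `Hom(F, N) → Hom(ker π, N)`. -/
noncomputable def res (π : F →ₗ[A] M) : (F →ₗ[A] N) →ₗ[A] (LinearMap.ker π →ₗ[A] N) :=
  LinearMap.lcomp A N (LinearMap.ker π).subtype

theorem res_apply (π : F →ₗ[A] M) (φ : F →ₗ[A] N) (x : LinearMap.ker π) :
    res N π φ x = φ x := rfl

variable [HasExt.{w} (ModuleCat.{u} A)]

/-- the connecting map `Hom(ker π, N) → Ext¹(M, N)`. -/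
noncomputable def delta (π : F →ₗ[A] M) (hπ : Function.Surjective π) :
    (LinearMap.ker π →ₗ[A] N) →ₗ[A] Ext.{w} (ModuleCat.of A M) (ModuleCat.of A N) 1 where
  toFun ψ := (kerSC_shortExact π hπ).extClass.comp (Ext.mk₀ (ModuleCat.ofHom ψ)) (add_zero 1)
  map_add' ψ ψ' := by
    have : ModuleCat.ofHom (ψ + ψ') = ModuleCat.ofHom ψ + ModuleCat.ofHom ψ' := rfl
    rw [this, Ext.mk₀_add, Ext.comp_add]
  map_smul' a ψ := by
    have : ModuleCat.ofHom (a • ψ) = a • ModuleCat.ofHom ψ := rfl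
    rw [RingHom.id_apply, this, Ext.mk₀_smul, Ext.comp_smul]

theorem delta_surjective (π : F →ₗ[A] M) (hπ : Function.Surjective π) [Module.Projective A F] :
    Function.Surjective (delta.{w} N π hπ) := by
  intro x
  haveI : Projective (kerSC π).X₂ :=
    (IsProjective.iff_projective (R := A) F).mp inferInstance
  have h1 : (Ext.mk₀ (kerSC π).g).comp x (zero_add 1) = 0 := Ext.eq_zero_of_projective _
  obtain ⟨y, hy⟩ := Ext.contravariant_sequence_exact₃ (kerSC_shortExact π hπ)
    (ModuleCat.of A N) x h1 (add_zero 1)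
  obtain ⟨f, rfl⟩ := (Ext.mk₀_bijective _ _).2 y
  exact ⟨f.hom, hy⟩

theorem ker_delta (π : F →ₗ[A] M) (hπ : Function.Surjective π) :
    LinearMap.ker (delta.{w} N π hπ) = LinearMap.range (res N π) := by
  ext ψ
  rw [LinearMap.mem_ker, LinearMap.mem_range]
  constructor
  · intro h
    obtain ⟨x₂, hx₂⟩ := Ext.contravariant_sequence_exact₁ (kerSC_shortExact π hπ)
      (ModuleCat.of A N) (Ext.mk₀ (ModuleCat.ofHom ψ)) (add_zero 1) h
    obtain ⟨φ, rfl⟩ := (Ext.mk₀_bijective _ _).2 x₂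
    rw [Ext.mk₀_comp_mk₀] at hx₂
    have h2 := (Ext.mk₀_bijective _ _).1 hx₂
    refine ⟨φ.hom, ?_⟩
    have h3 := congrArg ModuleCat.Hom.hom h2
    rw [ModuleCat.hom_ofHom] at h3
    rw [← h3]
    rfl
  · rintro ⟨φ, rfl⟩
    change (kerSC_shortExact π hπ).extClass.comp (Ext.mk₀ (ModuleCat.ofHom (res N π φ)))
      (add_zero 1) = 0
    have : ModuleCat.ofHom (res N π φ) = (kerSC π).f ≫ ModuleCat.ofHom φ := rfl
    rw [this, ← Ext.mk₀_comp_mk₀, ← Ext.comp_assoc_of_third_deg_zero,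
      (kerSC_shortExact π hπ).extClass_comp, Ext.zero_comp]

/-- `Ext¹(M, N) ≃ Hom(ker π, N) / res Hom(F, N)`. -/
noncomputable def extEquiv (π : F →ₗ[A] M) (hπ : Function.Surjective π)
    [Module.Projective A F] :
    ((LinearMap.ker π →ₗ[A] N) ⧸ LinearMap.range (res N π)) ≃ₗ[A]
      Ext.{w} (ModuleCat.of A M) (ModuleCat.of A N) 1 :=
  (Submodule.quotEquivOfEq _ _ (ker_delta.{w} N π hπ).symm).trans
    ((delta.{w} N π hπ).quotKerEquivOfSurjective (delta_surjective.{w} N π hπ))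

theorem length_ext_one (π : F →ₗ[A] M) (hπ : Function.Surjective π) [Module.Projective A F] :
    Module.length A (Ext.{w} (ModuleCat.of A M) (ModuleCat.of A N) 1) =
      Module.length A ((LinearMap.ker π →ₗ[A] N) ⧸ LinearMap.range (res N π)) :=
  (extEquiv.{w} N π hπ).length_eq.symm

end Groth.Agent.H3.ExtP
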