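import Mathlib
import Groth.Agent.Lib.Helper3.ExtA
import Groth.Agent.Lib.Helper3.GorC

/-! helper3: `Ext¹_A(M, N)` for `M = A + Σ A g_j ⊆ E`, `N ⊆ E` inside an overring `E ⊇ A` with a
common denominator `d`: it is `H / D` with
`H = {y ∈ E^r | Σ a_j y_j ∈ dN whenever Σ a_j g_j ∈ A}` and
`D = {(d (n_j - g_j n_0))_j}`. -/

set_option autoImplicit false
universe w u

open CategoryTheory CategoryTheory.Abelian Pointwise
open Groth.Agent.H3.Gor

namespace Groth.Agent.H3.ExtP

section

variable (A : Type u) {E : Type u} [CommRing A] [CommRing E] [Algebra A E] {r : ℕ} (g : Fin r → E)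

/-- the module `A + Σ A g_j`. -/
def modM : Submodule A E := Submodule.span A (insert 1 (Set.range g))

/-- the presentation `A × A^r → E`. -/
noncomputable def pi0 : (A × (Fin r → A)) →ₗ[A] E :=
  (LinearMap.toSpanSingleton A E 1).coprod (Fintype.linearCombination A g)

theorem pi0_apply (x : A × (Fin r → A)) :
    pi0 A g x = x.1 • (1 : E) + ∑ j, x.2 j • g j := by
  unfold pi0
  rw [LinearMap.coprod_apply, LinearMap.toSpanSingleton_apply, Fintype.linearCombination_apply]

theorem range_pi0 : LinearMap.range (pi0 A g) = modM A g := by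
  unfold pi0 modM
  rw [LinearMap.range_coprod, Fintype.range_linearCombination, Submodule.span_insert,
    LinearMap.range_toSpanSingleton]

/-- the presentation `A × A^r → M`. -/
noncomputable def piM : (A × (Fin r → A)) →ₗ[A] modM A g :=
  (pi0 A g).codRestrict (modM A g) fun x => by
    rw [← range_pi0]
    exact LinearMap.mem_range_self _ x

theorem piM_surjective : Function.Surjective (piM A g) := by
  rintro ⟨m, hm⟩
  rw [← range_pi0] at hm
  obtain ⟨x, rfl⟩ := hm
  exact ⟨x, rfl⟩

theorem mem_ker_piM (x : A × (Fin r → A)) :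
    x ∈ LinearMap.ker (piM A g) ↔ x.1 • (1 : E) + ∑ j, x.2 j • g j = 0 := by
  rw [LinearMap.mem_ker, ← pi0_apply]
  constructor
  · intro h
    exact congrArg Subtype.val h
  · intro h
    exact Subtype.ext h

variable (d : A) (N : Submodule A E)

/-- the module `H`. -/
def modH : Submodule A (Fin r → E) where
  carrier := {y | ∀ a : Fin r → A, (∑ j, a j • g j) ∈ LinearMap.range (Algebra.linearMap A E) →
    ∑ j, a j • y j ∈ d • N}
  add_mem' := by
    intro y y' hy hy' a ha
    have : ∑ j, a j • (y + y') j = ∑ j, a j • y j + ∑ j, a j • y' j := by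
      rw [← Finset.sum_add_distrib]
      exact Finset.sum_congr rfl fun j _ => smul_add _ _ _
    rw [this]
    exact add_mem (hy a ha) (hy' a ha)
  zero_mem' := by
    intro a _
    simp
  smul_mem' := by
    intro c y hy a ha
    have : ∑ j, a j • (c • y) j = c • ∑ j, a j • y j := by
      rw [Finset.smul_sum]
      exact Finset.sum_congr rfl fun j _ => smul_comm _ _ _
    rw [this]
    exact Submodule.smul_mem _ _ (hy a ha)

/-- the map whose range is `D`. -/
noncomputable def theta : (N × (Fin r → N)) →ₗ[A] (Fin r → E) :=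
  LinearMap.pi fun j =>
    d • (N.subtype ∘ₗ LinearMap.proj j ∘ₗ LinearMap.snd A N (Fin r → N) -
      (LinearMap.mulLeft A (g j)) ∘ₗ N.subtype ∘ₗ LinearMap.fst A N (Fin r → N))

theorem theta_apply (x : N × (Fin r → N)) (j : Fin r) :
    theta A g d N x j = d • (((x.2 j : N) : E) - g j * (x.1 : E)) := rfl

/-- the module `D`. -/
noncomputable def modD : Submodule A (Fin r → E) := LinearMap.range (theta A g d N)

end

section main

variable {A : Type u} {E : Type u} [CommRing A] [CommRing E] [Algebra A E]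
  (hinj : Function.Injective (algebraMap A E))
  {r : ℕ} (g : Fin r → E) (d : A) (hd : ∀ e : E, algebraMap A E d * e = 0 → e = 0)
  (g' : Fin r → A) (hg' : ∀ j, algebraMap A E (g' j) = algebraMap A E d * g j)
  (N : Submodule A E)

include hd in
theorem smul_d_cancel {x y : E} (h : d • x = d • y) : x = y := by
  rw [Algebra.smul_def, Algebra.smul_def, ← sub_eq_zero, ← mul_sub] at h
  exact sub_eq_zero.mp (hd _ h)

include hg' in
/-- the elements `κ_j = (-g'_j, d e_j)` of the kernel. -/
theorem kappa_mem (j : Fin r) :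
    ((-g' j, Pi.single j d) : A × (Fin r → A)) ∈ LinearMap.ker (piM A g) := by
  classical
  rw [mem_ker_piM]
  change (-g' j) • (1 : E) + ∑ i, (Pi.single j d : Fin r → A) i • g i = 0
  have : ∑ i, (Pi.single j d : Fin r → A) i • g i = d • g j := by
    rw [Finset.sum_eq_single j]
    · rw [Pi.single_eq_same]
    · intro i _ hij
      rw [Pi.single_eq_of_ne hij, zero_smul]
    · intro h
      exact absurd (Finset.mem_univ j) h
  rw [this, Algebra.smul_def, Algebra.smul_def, mul_one, map_neg, hg']
  ring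

/-- `κ_j` as an element of the kernel. -/
def kappa (j : Fin r) : LinearMap.ker (piM A g) := ⟨(-g' j, Pi.single j d), kappa_mem g d g' hg' j⟩

include hinj in
theorem d_smul_eq (k : LinearMap.ker (piM A g)) :
    d • k = ∑ j, (k : A × (Fin r → A)).2 j • kappa g d g' hg' j := by
  classical
  apply Subtype.ext
  rw [Submodule.coe_smul, Submodule.coe_sum]
  have hk := (mem_ker_piM A g _).mp k.2
  apply Prod.ext
  · rw [Prod.fst_sum]
    change d * (k : A × (Fin r → A)).1 = ∑ j, (k : A × (Fin r → A)).2 j * (-g' j)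
    apply hinj
    rw [map_mul, map_sum]
    have h1 : algebraMap A E (k : A × (Fin r → A)).1 =
        - ∑ j, (k : A × (Fin r → A)).2 j • g j := by
      rw [eq_neg_iff_add_eq_zero, ← hk, Algebra.smul_def, mul_one]
    rw [h1, mul_neg, Finset.mul_sum, ← Finset.sum_neg_distrib]
    refine Finset.sum_congr rfl fun j _ => ?_
    rw [map_mul, map_neg, hg', Algebra.smul_def]
    ring
  · rw [Prod.snd_sum]
    funext i
    rw [Finset.sum_apply]
    change d * (k : A × (Fin r → A)).2 i =
      ∑ j, (k : A × (Fin r → A)).2 j * (Pi.single j d : Fin r → A) i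
    rw [Finset.sum_eq_single i]
    · rw [Pi.single_eq_same, mul_comm]
    · intro j _ hji
      rw [Pi.single_eq_of_ne (Ne.symm hji), mul_zero]
    · intro h
      exact absurd (Finset.mem_univ i) h

/-- the evaluation map `Hom(ker π, N) → E^r`. -/
noncomputable def Phi : (LinearMap.ker (piM A g) →ₗ[A] N) →ₗ[A] (Fin r → E) :=
  LinearMap.pi fun j => N.subtype ∘ₗ LinearMap.applyₗ (kappa g d g' hg' j)

theorem Phi_apply (ψ : LinearMap.ker (piM A g) →ₗ[A] N) (j : Fin r) :
    Phi g d g' hg' N ψ j = (ψ (kappa g d g' hg' j) : E) := rfl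

include hinj in
theorem d_smul_apply (ψ : LinearMap.ker (piM A g) →ₗ[A] N) (k : LinearMap.ker (piM A g)) :
    d • ((ψ k : N) : E) = ∑ j, (k : A × (Fin r → A)).2 j • Phi g d g' hg' N ψ j := by
  have h1 := congrArg (fun x => ((ψ x : N) : E)) (d_smul_eq hinj g d g' hg' k)
  simp only [map_smul, map_sum, Submodule.coe_smul, Submodule.coe_sum] at h1
  rw [h1]
  rfl

include hinj in
theorem Phi_mem (ψ : LinearMap.ker (piM A g) →ₗ[A] N) : Phi g d g' hg' N ψ ∈ modH A g d N := by
  intro a ha
  obtain ⟨a₀, ha₀⟩ := ha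
  have hk : ((-a₀, a) : A × (Fin r → A)) ∈ LinearMap.ker (piM A g) := by
    rw [mem_ker_piM]
    change (-a₀) • (1 : E) + ∑ j, a j • g j = 0
    rw [← ha₀, Algebra.linearMap_apply, Algebra.smul_def, mul_one, map_neg, neg_add_cancel]
  have := d_smul_apply hinj g d g' hg' N ψ ⟨_, hk⟩
  change d • ((ψ ⟨_, hk⟩ : N) : E) = ∑ j, a j • Phi g d g' hg' N ψ j at this
  rw [← this]
  exact Submodule.smul_mem_pointwise_smul _ _ _ (ψ ⟨_, hk⟩).2

include hinj hd in
theorem Phi_injective : Function.Injective (Phi g d g' hg' N) := by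
  rw [injective_iff_map_eq_zero]
  intro ψ hψ
  ext k
  have h1 := d_smul_apply hinj g d g' hg' N ψ k
  rw [hψ] at h1
  simp only [Pi.zero_apply, smul_zero, Finset.sum_const_zero] at h1
  have : ((ψ k : N) : E) = 0 := smul_d_cancel d hd (h1.trans (smul_zero d).symm)
  exact this

/-- multiplication by `d` on `N`. -/
noncomputable def mulD : N →ₗ[A] E := d • N.subtype

include hd in
theorem mulD_injective : Function.Injective (mulD d N) := by
  intro x y h
  exact Subtype.ext (smul_d_cancel d hd h)

theorem range_mulD : LinearMap.range (mulD d N) = d • N := by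
  ext x
  rw [LinearMap.mem_range, Submodule.mem_smul_pointwise_iff_exists]
  constructor
  · rintro ⟨n, rfl⟩
    exact ⟨n, n.2, rfl⟩
  · rintro ⟨n, hn, rfl⟩
    exact ⟨⟨n, hn⟩, rfl⟩

variable (A) in
/-- the linear functional `k ↦ Σ a_j y_j` on the kernel. -/
noncomputable def Lam (y : Fin r → E) : LinearMap.ker (piM A g) →ₗ[A] E :=
  (Fintype.linearCombination A y) ∘ₗ LinearMap.snd A A (Fin r → A) ∘ₗ
    (LinearMap.ker (piM A g)).subtype

theorem Lam_apply (y : Fin r → E) (k : LinearMap.ker (piM A g)) :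
    Lam A g y k = ∑ j, (k : A × (Fin r → A)).2 j • y j := by
  unfold Lam
  simp [Fintype.linearCombination_apply]

theorem Lam_mem (y : Fin r → E) (hy : y ∈ modH A g d N) (k : LinearMap.ker (piM A g)) :
    Lam A g y k ∈ LinearMap.range (mulD d N) := by
  rw [range_mulD, Lam_apply]
  apply hy
  have hk := (mem_ker_piM A g _).mp k.2
  refine ⟨-(k : A × (Fin r → A)).1, ?_⟩
  rw [Algebra.linearMap_apply, map_neg, neg_eq_iff_add_eq_zero, add_comm, ← hk,
    Algebra.smul_def, mul_one]
  rw [add_comm]

include hd hg' in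
theorem Phi_surjective (y : Fin r → E) (hy : y ∈ modH A g d N) :
    ∃ ψ, Phi g d g' hg' N ψ = y := by
  classical
  let e := LinearEquiv.ofInjective (mulD d N) (mulD_injective d hd N)
  let ψ : LinearMap.ker (piM A g) →ₗ[A] N :=
    e.symm.toLinearMap ∘ₗ (Lam A g y).codRestrict _ (Lam_mem g d N y hy)
  refine ⟨ψ, ?_⟩
  funext j
  rw [Phi_apply]
  apply smul_d_cancel d hd
  have h1 : mulD d N (ψ (kappa g d g' hg' j)) = Lam A g y (kappa g d g' hg' j) := by
    have := e.apply_symm_apply ((Lam A g y).codRestrict _ (Lam_mem g d N y hy) (kappa g d g' hg' j))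
    exact congrArg Subtype.val this
  change d • ((ψ (kappa g d g' hg' j) : N) : E) = d • y j
  change d • ((ψ (kappa g d g' hg' j) : N) : E) = _ at h1
  rw [h1, Lam_apply]
  change ∑ i, (Pi.single j d : Fin r → A) i • y i = d • y j
  rw [Finset.sum_eq_single j]
  · rw [Pi.single_eq_same]
  · intro i _ hij
    rw [Pi.single_eq_of_ne hij, zero_smul]
  · intro h
    exact absurd (Finset.mem_univ j) h

include hg' in
theorem Phi_res (φ : (A × (Fin r → A)) →ₗ[A] N) :
    Phi g d g' hg' N (res N (piM A g) φ) =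
      theta A g d N (φ (1, 0), fun j => φ (0, Pi.single j 1)) := by
  classical
  funext j
  rw [Phi_apply, theta_apply, res_apply]
  change ((φ (-g' j, Pi.single j d) : N) : E) = _
  have h1 : ((-g' j, Pi.single j d) : A × (Fin r → A)) =
      (-g' j) • (1, 0) + d • (0, Pi.single j 1) := by
    apply Prod.ext
    · simp
    · funext i
      simp only [Prod.snd_add, Prod.smul_snd, smul_zero, zero_add, Pi.smul_apply, smul_eq_mul]
      by_cases hij : i = j
      · subst hij; simp
      · rw [Pi.single_eq_of_ne hij, Pi.single_eq_of_ne hij, mul_zero]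
  rw [h1, map_add, map_smul, map_smul, Submodule.coe_add, Submodule.coe_smul, Submodule.coe_smul,
    smul_sub, Algebra.smul_def (-g' j), map_neg, hg', Algebra.smul_def d (g j * _)]
  ring

include hg' in
theorem map_range_res :
    (LinearMap.range (res N (piM A g))).map (Phi g d g' hg' N) = modD A g d N := by
  classical
  ext y
  rw [Submodule.mem_map]
  constructor
  · rintro ⟨_, ⟨φ, rfl⟩, rfl⟩
    rw [Phi_res]
    exact LinearMap.mem_range_self _ _
  · rintro ⟨⟨n₀, n⟩, rfl⟩
    let φ : (A × (Fin r → A)) →ₗ[A] N :=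
      (LinearMap.toSpanSingleton A N n₀).coprod (Fintype.linearCombination A n)
    refine ⟨res N (piM A g) φ, LinearMap.mem_range_self _ _, ?_⟩
    rw [Phi_res]
    congr 1
    apply Prod.ext
    · change φ (1, 0) = n₀
      simp [φ]
    · funext j
      change φ (0, Pi.single j 1) = n j
      simp [φ, Fintype.linearCombination_apply_single]

include hinj hg' in
theorem modD_le_modH : modD A g d N ≤ modH A g d N := by
  rw [← map_range_res g d g' hg' N]
  rintro _ ⟨ψ, -, rfl⟩
  exact Phi_mem hinj g d g' hg' N ψ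

variable [HasExt.{w} (ModuleCat.{u} A)]

include hinj hd hg' in
/-- `ℓ Ext¹(M, N) = ℓ(H / D)`. -/
theorem length_ext_one_eq :
    Module.length A (Ext.{w} (ModuleCat.of A (modM A g)) (ModuleCat.of A N) 1) =
      relLen (modD A g d N) (modH A g d N) := by
  haveI : Module.Projective A (A × (Fin r → A)) := inferInstance
  rw [length_ext_one.{w} N (piM A g) (piM_surjective A g), relLen_def]
  let e : (LinearMap.ker (piM A g) →ₗ[A] N) ≃ₗ[A] modH A g d N :=
    LinearEquiv.ofBijective
      ((Phi g d g' hg' N).codRestrict (modH A g d N) (Phi_mem hinj g d g' hg' N))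
      ⟨fun x y h => Phi_injective hinj g d hd g' hg' N (congrArg Subtype.val h),
        fun y => by
          obtain ⟨ψ, hψ⟩ := Phi_surjective g d hd g' hg' N y.1 y.2
          exact ⟨ψ, Subtype.ext hψ⟩⟩
  refine (Submodule.Quotient.equiv _ _ e ?_).length_eq
  ext y
  rw [Submodule.mem_map, Submodule.mem_comap]
  constructor
  · rintro ⟨ψ, hψ, rfl⟩
    rw [← map_range_res g d g' hg' N]
    exact ⟨ψ, hψ, rfl⟩
  · intro hy
    rw [← map_range_res g d g' hg' N] at hy
    obtain ⟨ψ, hψ, hψy⟩ := hy
    exact ⟨ψ, hψ, Subtype.ext hψy⟩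

end main

end Groth.Agent.H3.ExtP
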