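import Mathlib

/-!
# Subalgebras of `k⟦X⟧` containing a power of the maximal ideal

Structure of a `k`-subalgebra `A ⊆ k⟦X⟧` with `X^c k⟦X⟧ ⊆ A` over which `k⟦X⟧` is finite:
it is a one-dimensional Noetherian local domain.
-/

set_option autoImplicit false
universe u

namespace Groth.Agent.H3.VS

open PowerSeries

section PS

variable {k : Type u} [Field k]

/-- division of power series over a field -/
theorem exists_mul_eq (x g : k⟦X⟧) (hx : x ≠ 0) (n : ℕ) (hg : order x + n ≤ order g) :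
    ∃ y : k⟦X⟧, (n : ℕ∞) ≤ order y ∧ g = x * y := by
  obtain ⟨w, hw⟩ := (isUnit_divided_by_X_pow_order hx).exists_right_inv
  set v := x.order.toNat with hv
  have hv' : (v : ℕ∞) = order x := coe_toNat_order hx
  have hdvd : (X : k⟦X⟧) ^ (v + n) ∣ g := by
    rw [X_pow_dvd_iff]
    intro m hm
    apply coeff_of_lt_order
    refine lt_of_lt_of_le ?_ hg
    rw [← hv']
    exact_mod_cast hm
  obtain ⟨g', hg'⟩ := hdvd
  refine ⟨X ^ n * (w * g'), ?_, ?_⟩
  · rw [order_mul, order_X_pow]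
    exact le_self_add
  · have hx' : X ^ v * divXPowOrder x = x := X_pow_order_mul_divXPowOrder
    calc g = X ^ (v + n) * g' := hg'
      _ = X ^ v * X ^ n * (divXPowOrder x * w) * g' := by rw [hw, mul_one, pow_add]
      _ = (X ^ v * divXPowOrder x) * (X ^ n * (w * g')) := by ring
      _ = x * (X ^ n * (w * g')) := by rw [hx']

theorem coeff_ne_zero_of_order_eq {h : k⟦X⟧} {n : ℕ} (hh : order h = n) : coeff n h ≠ 0 := by
  have hh0 : h ≠ 0 := by
    rintro rfl
    rw [order_zero] at hh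
    exact ENat.top_ne_natCast _ hh
  have := coeff_order hh0
  rwa [hh, ENat.toNat_natCast] at this

/-- killing the leading coefficient -/
theorem le_order_sub_C_mul (f h : k⟦X⟧) (n : ℕ) (hf : (n : ℕ∞) ≤ order f) (hh : order h = n) :
    ((n + 1 : ℕ) : ℕ∞) ≤ order (f - C (coeff n f / coeff n h) * h) := by
  have hb : coeff n h ≠ 0 := coeff_ne_zero_of_order_eq hh
  apply nat_le_order
  intro i hi
  rw [map_sub, coeff_C_mul]
  rcases Nat.lt_succ_iff_lt_or_eq.mp hi with hi' | rfl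
  · have h1 : coeff i f = 0 := coeff_of_lt_order i (lt_of_lt_of_le (by exact_mod_cast hi') hf)
    have h2 : coeff i h = 0 := coeff_of_lt_order i (by rw [hh]; exact_mod_cast hi')
    rw [h1, h2, mul_zero, sub_zero]
  · rw [div_mul_cancel₀ _ hb, sub_self]

/-- a closed subalgebra whose value semigroup contains `[c, ∞)` contains `X^c k⟦X⟧` -/
theorem conductor_of_closed (A : Subalgebra k k⟦X⟧)
    (hcl : ∀ f : k⟦X⟧, (∀ n : ℕ, ∃ g ∈ A, (n : ℕ∞) ≤ order (f - g)) → f ∈ A)
    (c : ℕ) (hc : ∀ n : ℕ, c ≤ n → ∃ f ∈ A, order f = n) :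
    ∀ f : k⟦X⟧, (c : ℕ∞) ≤ order f → f ∈ A := by
  intro f hf
  apply hcl
  have key : ∀ n : ℕ, ∃ g ∈ A, ((c + n : ℕ) : ℕ∞) ≤ order (f - g) := by
    intro n
    induction n with
    | zero => exact ⟨0, A.zero_mem, by simpa using hf⟩
    | succ n ih =>
      obtain ⟨g, hgA, hg⟩ := ih
      obtain ⟨h, hhA, hh⟩ := hc (c + n) (Nat.le_add_right c n)
      refine ⟨g + C (coeff (c + n) (f - g) / coeff (c + n) h) * h,
        A.add_mem hgA (A.mul_mem (A.algebraMap_mem _) hhA), ?_⟩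
      have := le_order_sub_C_mul (f - g) h (c + n) hg hh
      rwa [sub_sub] at this
  intro n
  obtain ⟨g, hgA, hg⟩ := key n
  refine ⟨g, hgA, le_trans ?_ hg⟩
  exact_mod_cast Nat.le_add_left n c

end PS

section Struct

variable {k : Type u} [Field k] (A : Subalgebra k k⟦X⟧) (c : ℕ)
  (hcond : ∀ f : k⟦X⟧, (c : ℕ∞) ≤ order f → f ∈ A)

/-- the element `X^c` of `A` -/
noncomputable def dA : ↥A := ⟨X ^ c, hcond _ (by rw [order_X_pow])⟩

theorem dA_ne_zero : dA A c hcond ≠ 0 := by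
  intro h
  have := congrArg Subtype.val h
  exact pow_ne_zero c X_ne_zero this

theorem dA_mul (e : k⟦X⟧) :
    ∃ a : ↥A, algebraMap ↥A k⟦X⟧ a = algebraMap ↥A k⟦X⟧ (dA A c hcond) * e := by
  refine ⟨⟨X ^ c * e, hcond _ ?_⟩, rfl⟩
  rw [order_mul, order_X_pow]
  exact le_self_add

theorem algebraMap_injective : Function.Injective (algebraMap ↥A k⟦X⟧) :=
  Subtype.val_injective

variable (hA : Module.Finite ↥A k⟦X⟧)

include hA in
theorem isLocalRing : IsLocalRing ↥A := by
  haveI := hA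
  haveI : Algebra.IsIntegral ↥A k⟦X⟧ := Algebra.IsIntegral.of_finite _ _
  apply IsLocalRing.of_unique_max_ideal
  refine ⟨Ideal.comap (algebraMap ↥A k⟦X⟧) (IsLocalRing.maximalIdeal _),
    Ideal.isMaximal_comap_of_isIntegral_of_isMaximal _, ?_⟩
  intro P hP
  have hker : RingHom.ker (algebraMap ↥A k⟦X⟧) ≤ P := by
    rw [(RingHom.injective_iff_ker_eq_bot _).mp (algebraMap_injective A)]
    exact bot_le
  obtain ⟨Q, hQ, hQP⟩ := Ideal.exists_ideal_over_maximal_of_isIntegral (S := k⟦X⟧) P hker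
  rw [← hQP, IsLocalRing.eq_maximalIdeal hQ]

include hA in
theorem mem_maximalIdeal_iff [IsLocalRing ↥A] (y : ↥A) :
    y ∈ IsLocalRing.maximalIdeal ↥A ↔ (1 : ℕ∞) ≤ order (y : k⟦X⟧) := by
  haveI := hA
  haveI : Algebra.IsIntegral ↥A k⟦X⟧ := Algebra.IsIntegral.of_finite _ _
  have h1 : IsLocalRing.maximalIdeal ↥A =
      Ideal.comap (algebraMap ↥A k⟦X⟧) (IsLocalRing.maximalIdeal _) :=
    (IsLocalRing.eq_maximalIdeal (Ideal.isMaximal_comap_of_isIntegral_of_isMaximal _)).symm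
  rw [h1, Ideal.mem_comap, IsLocalRing.mem_maximalIdeal, mem_nonunits_iff,
    one_le_order_iff_constCoeff_eq_zero, isUnit_iff_constantCoeff, isUnit_iff_ne_zero, not_not]
  rfl

include hA hcond in
theorem ringKrullDim_eq_one [IsLocalRing ↥A] : ringKrullDim ↥A = 1 := by
  rw [ringKrullDim_eq_one_iff_of_isLocalRing_isDomain]
  constructor
  · intro hF
    have hne : dA A (c + 1) (fun f hf => hcond f (le_trans (by exact_mod_cast Nat.le_succ c) hf))
        ≠ 0 := dA_ne_zero A _ _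
    obtain ⟨b, hb⟩ := hF.mul_inv_cancel hne
    have hb' := congrArg (fun z : ↥A => order (z : k⟦X⟧)) hb
    change order ((X : k⟦X⟧) ^ (c + 1) * (b : k⟦X⟧)) = order (1 : k⟦X⟧) at hb'
    rw [order_mul, order_X_pow, order_one] at hb'
    have h2 : ((c + 1 : ℕ) : ℕ∞) ≤ 0 := by
      rw [← hb']
      exact le_self_add
    exact absurd (by exact_mod_cast h2 : c + 1 ≤ 0) (by omega)
  · intro x hx y hy
    rw [mem_maximalIdeal_iff A hA] at hy
    have hx' : (x : k⟦X⟧) ≠ 0 := fun h => hx (Subtype.ext h)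
    set v := (x : k⟦X⟧).order.toNat with hv
    have hv' : (v : ℕ∞) = order (x : k⟦X⟧) := coe_toNat_order hx'
    have h1 : order (x : k⟦X⟧) + (c : ℕ) ≤ order ((y : k⟦X⟧) ^ (v + c)) := by
      refine le_trans ?_ (le_order_pow _ _)
      rw [← hv']
      calc ((v : ℕ∞) + (c : ℕ)) = ((v + c : ℕ) : ℕ∞) := by push_cast; rfl
        _ = (v + c) • (1 : ℕ∞) := by simp
        _ ≤ (v + c) • order (y : k⟦X⟧) := nsmul_le_nsmul_right hy _
    obtain ⟨z, hz, hz'⟩ := exists_mul_eq _ _ hx' c h1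
    refine ⟨v + c, ?_⟩
    rw [Ideal.mem_span_singleton']
    refine ⟨⟨z, hcond z hz⟩, Subtype.ext ?_⟩
    change z * (x : k⟦X⟧) = (y : k⟦X⟧) ^ (v + c)
    rw [hz', mul_comm]

end Struct

section Noeth

variable {k : Type u} [Field k] (A : Subalgebra k k⟦X⟧)

/-- the `A`-submodule of power series of order `≥ n` -/
def tp (n : ℕ) : Submodule ↥A k⟦X⟧ where
  carrier := {f | (n : ℕ∞) ≤ order f}
  add_mem' := fun {a b} ha hb => le_trans (le_min ha hb) (min_order_le_order_add a b)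
  zero_mem' := by
    change (n : ℕ∞) ≤ order (0 : k⟦X⟧)
    rw [order_zero]
    exact le_top
  smul_mem' := fun a f hf => by
    change (n : ℕ∞) ≤ order ((a : k⟦X⟧) * f)
    rw [order_mul]
    exact le_trans hf le_add_self

theorem mem_tp {n : ℕ} {f : k⟦X⟧} : f ∈ tp A n ↔ (n : ℕ∞) ≤ order f := Iff.rfl

theorem tp_antitone {m n : ℕ} (h : m ≤ n) : tp A n ≤ tp A m := by
  intro f hf
  rw [mem_tp] at hf ⊢
  exact le_trans (by exact_mod_cast h) hf

theorem tp_zero : tp A 0 = ⊤ := by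
  ext f
  rw [mem_tp]
  simp

theorem X_pow_dvd_of_le_order {n : ℕ} {f : k⟦X⟧} (hf : (n : ℕ∞) ≤ order f) :
    (X : k⟦X⟧) ^ n ∣ f := by
  rw [X_pow_dvd_iff]
  intro m hm
  exact coeff_of_lt_order m (lt_of_lt_of_le (by exact_mod_cast hm) hf)

theorem tp_fg (hA : Module.Finite ↥A k⟦X⟧) (n : ℕ) : (tp A n).FG := by
  have h : tp A n = Submodule.map (LinearMap.mulLeft ↥A ((X : k⟦X⟧) ^ n)) ⊤ := by
    ext f
    rw [mem_tp, Submodule.mem_map]
    constructor
    · intro hf
      obtain ⟨g, rfl⟩ := X_pow_dvd_of_le_order hf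
      exact ⟨g, trivial, rfl⟩
    · rintro ⟨g, -, rfl⟩
      change (n : ℕ∞) ≤ order (X ^ n * g)
      rw [order_mul, order_X_pow]
      exact le_self_add
  rw [h]
  exact hA.fg_top.map _

theorem finite_quot_tp (n : ℕ) : Module.Finite k (k⟦X⟧ ⧸ tp A n) := by
  let φ : k⟦X⟧ →ₗ[k] (Fin n → k) := LinearMap.pi (fun i => coeff (i : ℕ))
  have hker : LinearMap.ker φ = (tp A n).restrictScalars k := by
    ext f
    rw [LinearMap.mem_ker, Submodule.restrictScalars_mem, mem_tp]
    constructor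
    · intro h
      apply nat_le_order
      intro i hi
      exact congrFun h ⟨i, hi⟩
    · intro h
      ext i
      exact coeff_of_lt_order _ (lt_of_lt_of_le (by exact_mod_cast i.2) h)
  let ψ := ((tp A n).restrictScalars k).liftQ φ hker.ge
  have hψ : Function.Injective ψ := by
    rw [← LinearMap.ker_eq_bot]
    exact Submodule.ker_liftQ_eq_bot _ _ _ hker.le
  haveI : Module.Finite k (k⟦X⟧ ⧸ (tp A n).restrictScalars k) := Module.Finite.of_injective ψ hψ
  exact Module.Finite.equiv (Submodule.Quotient.restrictScalarsEquiv k (tp A n))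

theorem isNoetherian_ps (hA : Module.Finite ↥A k⟦X⟧) (c : ℕ)
    (hcond : ∀ f : k⟦X⟧, (c : ℕ∞) ≤ order f → f ∈ A) : IsNoetherian ↥A k⟦X⟧ := by
  rw [isNoetherian_def]
  intro N
  by_cases hN : N = ⊥
  · rw [hN]
    exact Submodule.fg_bot
  obtain ⟨f, hfN, hf0⟩ := (Submodule.ne_bot_iff N).mp hN
  set v := f.order.toNat with hv
  have hv' : (v : ℕ∞) = order f := coe_toNat_order hf0
  have hT : tp A (v + c) ≤ N := by
    intro g hg
    rw [mem_tp] at hg
    obtain ⟨z, hz, rfl⟩ := exists_mul_eq f g hf0 c (by rw [← hv']; exact_mod_cast hg)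
    have : f * z = (⟨z, hcond z hz⟩ : ↥A) • f := by
      change f * z = z * f
      ring
    rw [this]
    exact N.smul_mem _ hfN
  apply Submodule.fg_of_fg_map_of_fg_inf_ker (tp A (v + c)).mkQ
  · apply Submodule.FG.of_restrictScalars k
    haveI := finite_quot_tp A (v + c)
    exact IsNoetherian.noetherian _
  · rw [Submodule.ker_mkQ, inf_eq_right.mpr hT]
    exact tp_fg A hA _

theorem isNoetherianRing (hA : Module.Finite ↥A k⟦X⟧) (c : ℕ)
    (hcond : ∀ f : k⟦X⟧, (c : ℕ∞) ≤ order f → f ∈ A) : IsNoetherianRing ↥A := by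
  haveI := isNoetherian_ps A hA c hcond
  exact isNoetherian_of_injective (Algebra.linearMap ↥A k⟦X⟧) (algebraMap_injective A)

end Noeth

end Groth.Agent.H3.VS
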