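import Mathlib
import Groth.Agent.Lib.Helper3.GorC
import Groth.Agent.Lib.Helper3.VSB

/-!
# Counting lengths of `A`-submodules of `k⟦X⟧` by value sets
-/

set_option autoImplicit false
universe u

namespace Groth.Agent.H3.VS

open PowerSeries Groth.Agent.H3.Gor

section Count

variable {k : Type u} [Field k] (A : Subalgebra k k⟦X⟧)

/-- the value set of a submodule -/
def vals (P : Submodule ↥A k⟦X⟧) : Set ℕ := {n | ∃ f ∈ P, order f = (n : ℕ∞)}

theorem mem_vals {P : Submodule ↥A k⟦X⟧} {n : ℕ} :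
    n ∈ vals A P ↔ ∃ f ∈ P, order f = (n : ℕ∞) := Iff.rfl

theorem C_mul_mem (P : Submodule ↥A k⟦X⟧) (a : k) {f : k⟦X⟧} (hf : f ∈ P) : C a * f ∈ P := by
  have := P.smul_mem (algebraMap k ↥A a) hf
  exact this

theorem step_zero (P : Submodule ↥A k⟦X⟧) (i : ℕ) (hi : i ∉ vals A P) :
    P ⊓ tp A i ≤ P ⊓ tp A (i + 1) := by
  rintro f ⟨hfP, hf⟩
  refine ⟨hfP, ?_⟩
  rw [SetLike.mem_coe, mem_tp] at hf ⊢
  rcases hf.lt_or_eq with h | h
  · push_cast
    exact Order.add_one_le_of_lt h
  · exact absurd ⟨f, hfP, h.symm⟩ hi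

theorem step_one (P : Submodule ↥A k⟦X⟧) (i : ℕ) (hi : i ∈ vals A P) :
    (P ⊓ tp A (i + 1)) ⋖ (P ⊓ tp A i) := by
  obtain ⟨g, hgP, hg⟩ := hi
  have hle : P ⊓ tp A (i + 1) ≤ P ⊓ tp A i := inf_le_inf_left P (tp_antitone A (Nat.le_succ i))
  constructor
  · refine lt_of_le_of_ne hle ?_
    intro h
    have hg1 : g ∈ P ⊓ tp A i := ⟨hgP, by rw [SetLike.mem_coe, mem_tp, hg]⟩
    rw [← h] at hg1
    have := hg1.2
    rw [SetLike.mem_coe, mem_tp, hg] at this
    exact absurd (by exact_mod_cast this : i + 1 ≤ i) (by omega)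
  · intro T hT1 hT2
    obtain ⟨h, hhT, hh⟩ := SetLike.exists_of_lt hT1
    have hh1 : h ∈ P ⊓ tp A i := hT2.le hhT
    have hho : order h = i := by
      have h2 : (i : ℕ∞) ≤ order h := hh1.2
      rcases h2.lt_or_eq with h3 | h3
      · exfalso
        apply hh
        refine ⟨hh1.1, ?_⟩
        rw [SetLike.mem_coe, mem_tp]
        push_cast
        exact Order.add_one_le_of_lt h3
      · exact h3.symm
    apply hT2.ne
    apply le_antisymm hT2.le
    intro f hf
    have h1 := le_order_sub_C_mul f h i hf.2 hho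
    have h2 : f - C (coeff i f / coeff i h) * h ∈ T :=
      hT1.le ⟨P.sub_mem hf.1 (C_mul_mem A P _ hh1.1), h1⟩
    have h3 : C (coeff i f / coeff i h) * h ∈ T := C_mul_mem A T _ hhT
    have := T.add_mem h2 h3
    rwa [sub_add_cancel] at this

open Classical in
/-- the number of values below `N` -/
noncomputable def cnt (P : Submodule ↥A k⟦X⟧) (N : ℕ) : ℕ :=
  ((Finset.range N).filter (fun i => i ∈ vals A P)).card

open Classical in
theorem cnt_def (P : Submodule ↥A k⟦X⟧) (N : ℕ) :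
    cnt A P N = ((Finset.range N).filter (fun i => i ∈ vals A P)).card := rfl

theorem relLen_inf_tp (P : Submodule ↥A k⟦X⟧) (N : ℕ) :
    relLen (P ⊓ tp A N) P = (cnt A P N : ℕ∞) := by
  classical
  induction N with
  | zero =>
    rw [tp_zero, inf_top_eq, relLen_self, cnt_def]
    simp
  | succ N ih =>
    rw [relLen_add (P ⊓ tp A (N + 1)) (P ⊓ tp A N) P
      (inf_le_inf_left P (tp_antitone A (Nat.le_succ N))) inf_le_left, ih, cnt_def, cnt_def,
      Finset.range_add_one, Finset.filter_insert]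
    by_cases hN : N ∈ vals A P
    · rw [if_pos hN, Finset.card_insert_of_notMem (by simp),
        relLen_eq_one_of_covBy _ _ (step_one A P N hN)]
      push_cast
      rfl
    · rw [if_neg hN]
      have : P ⊓ tp A (N + 1) = P ⊓ tp A N :=
        le_antisymm (inf_le_inf_left P (tp_antitone A (Nat.le_succ N))) (step_zero A P N hN)
      rw [this, relLen_self, add_zero]

theorem relLen_tp (P : Submodule ↥A k⟦X⟧) (N : ℕ) (hP : tp A N ≤ P) :
    relLen (tp A N) P = (cnt A P N : ℕ∞) := by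
  rw [← relLen_inf_tp, inf_eq_right.mpr hP]

theorem relLen_add_cnt (P Q : Submodule ↥A k⟦X⟧) (N : ℕ) (hP : tp A N ≤ P) (hPQ : P ≤ Q) :
    relLen P Q + (cnt A P N : ℕ∞) = (cnt A Q N : ℕ∞) := by
  rw [← relLen_tp A P N hP, ← relLen_tp A Q N (hP.trans hPQ)]
  exact (relLen_add (tp A N) P Q hP hPQ).symm

theorem cnt_top (N : ℕ) : cnt A (⊤ : Submodule ↥A k⟦X⟧) N = N := by
  classical
  rw [cnt_def, Finset.filter_true_of_mem, Finset.card_range]
  intro i _
  exact ⟨X ^ i, trivial, order_X_pow i⟩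

open Classical in
/-- the number of gaps below `N` -/
noncomputable def gaps (P : Submodule ↥A k⟦X⟧) (N : ℕ) : ℕ :=
  ((Finset.range N).filter (fun i => i ∉ vals A P)).card

open Classical in
theorem gaps_def (P : Submodule ↥A k⟦X⟧) (N : ℕ) :
    gaps A P N = ((Finset.range N).filter (fun i => i ∉ vals A P)).card := rfl

theorem cnt_add_gaps (P : Submodule ↥A k⟦X⟧) (N : ℕ) : cnt A P N + gaps A P N = N := by
  classical
  rw [cnt_def, gaps_def, Finset.card_filter_add_card_filter_not, Finset.card_range]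

theorem enat_aux (x : ℕ∞) (a b : ℕ) (h : x + a = b) : ∃ m : ℕ, x = m ∧ m + a = b := by
  have hx : x ≠ ⊤ := by
    rintro rfl
    rw [top_add] at h
    exact ENat.top_ne_natCast _ h
  obtain ⟨m, rfl⟩ := ENat.ne_top_iff_exists.mp hx
  exact ⟨m, rfl, by exact_mod_cast h⟩

/-- `ℓ(k⟦X⟧/P)` is the number of gaps of `P` -/
theorem relLen_top (P : Submodule ↥A k⟦X⟧) (N : ℕ) (hP : tp A N ≤ P) :
    relLen P ⊤ = (gaps A P N : ℕ∞) := by
  have h1 := relLen_add_cnt A P ⊤ N hP le_top
  rw [cnt_top] at h1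
  obtain ⟨m, hm, hm'⟩ := enat_aux _ _ _ h1
  have := cnt_add_gaps A P N
  rw [hm]
  congr 1
  omega

/-- the combinatorial duality principle -/
theorem comb (e : ℕ) (V W : Set ℕ) (h1 : ∀ i < e, i ∈ V → e - 1 - i ∉ W)
    [DecidablePred (· ∈ V)] [DecidablePred (· ∈ W)]
    (h2 : ((Finset.range e).filter (fun j => j ∉ W)).card ≤
      ((Finset.range e).filter (fun i => i ∈ V)).card) :
    ∀ i < e, e - 1 - i ∉ W → i ∈ V := by
  set S := (Finset.range e).filter (fun i => i ∈ V) with hS
  set T := (Finset.range e).filter (fun j => j ∉ W) with hT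
  have hsub : S.image (fun i => e - 1 - i) ⊆ T := by
    intro j hj
    rw [Finset.mem_image] at hj
    obtain ⟨i, hi, rfl⟩ := hj
    rw [hS, Finset.mem_filter, Finset.mem_range] at hi
    rw [hT, Finset.mem_filter, Finset.mem_range]
    exact ⟨by omega, h1 i hi.1 hi.2⟩
  have hcard : (S.image (fun i => e - 1 - i)).card = S.card := by
    apply Finset.card_image_of_injOn
    intro i hi i' hi' hii'
    rw [hS, Finset.coe_filter, Set.mem_ofPred_eq, Finset.mem_range] at hi hi'
    dsimp only at hii'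
    omega
  have heq : S.image (fun i => e - 1 - i) = T :=
    Finset.eq_of_subset_of_card_le hsub (by rw [hcard]; exact h2)
  intro i hi hiW
  have : e - 1 - i ∈ T := by
    rw [hT, Finset.mem_filter, Finset.mem_range]
    exact ⟨by omega, hiW⟩
  rw [← heq, Finset.mem_image] at this
  obtain ⟨i', hi', hii'⟩ := this
  rw [hS, Finset.mem_filter, Finset.mem_range] at hi'
  have : i' = i := by omega
  rw [← this]
  exact hi'.2

end Count

end Groth.Agent.H3.VS
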