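import Mathlib
import Groth.Agent.Lib.Helper3.VSC

/-! helper3: monomial submodules of `k⟦X⟧` over a subalgebra `A ⊆ k⟦X⟧` and counting lengths. -/

set_option autoImplicit false
universe u

open PowerSeries Pointwise
open Groth.Agent.H3.Gor Groth.Agent.H3.VS

namespace Groth.Agent.H3.ExtP

variable {k : Type u} [Field k] (A : Subalgebra k k⟦X⟧)

/-- `M` consists of the power series with support in `S`. -/
def IsMono (M : Submodule ↥A k⟦X⟧) (S : Set ℕ) : Prop :=
  ∀ f : k⟦X⟧, f ∈ M ↔ ∀ n, coeff n f ≠ 0 → n ∈ S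

variable {A}

theorem coeff_X_pow_ne_zero {s n : ℕ} (h : coeff n ((X : k⟦X⟧) ^ s) ≠ 0) : n = s := by
  rw [coeff_X_pow] at h
  by_contra hne
  exact h (if_neg hne)

theorem IsMono.X_pow_mem {M : Submodule ↥A k⟦X⟧} {S : Set ℕ} (h : IsMono A M S) {s : ℕ}
    (hs : s ∈ S) : (X : k⟦X⟧) ^ s ∈ M := by
  rw [h]
  intro n hn
  rw [coeff_X_pow_ne_zero hn]
  exact hs

theorem IsMono.vals_eq {M : Submodule ↥A k⟦X⟧} {S : Set ℕ} (h : IsMono A M S) :
    vals A M = S := by
  ext n
  rw [mem_vals]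
  constructor
  · rintro ⟨f, hf, hord⟩
    exact (h f).mp hf n (coeff_ne_zero_of_order_eq hord)
  · intro hn
    exact ⟨X ^ n, h.X_pow_mem hn, order_X_pow n⟩

theorem IsMono.le {P Q : Submodule ↥A k⟦X⟧} {S T : Set ℕ} (hP : IsMono A P S)
    (hQ : IsMono A Q T) (hST : S ⊆ T) : P ≤ Q := by
  intro f hf
  rw [hQ]
  intro n hn
  exact hST ((hP f).mp hf n hn)

theorem IsMono.tp_le {P : Submodule ↥A k⟦X⟧} {S : Set ℕ} (hP : IsMono A P S) (N₀ : ℕ)
    (h : ∀ n, N₀ ≤ n → n ∈ S) : tp A N₀ ≤ P := by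
  intro f hf
  rw [mem_tp] at hf
  rw [hP]
  intro n hn
  apply h
  by_contra hlt
  push Not at hlt
  exact hn (coeff_of_lt_order n (lt_of_lt_of_le (by exact_mod_cast hlt) hf))

theorem IsMono.eq {P Q : Submodule ↥A k⟦X⟧} {S : Set ℕ} (hP : IsMono A P S)
    (hQ : IsMono A Q S) : P = Q :=
  le_antisymm (hP.le hQ subset_rfl) (hQ.le hP subset_rfl)

theorem IsMono.congr {P : Submodule ↥A k⟦X⟧} {S T : Set ℕ} (hP : IsMono A P S) (h : S = T) :
    IsMono A P T := h ▸ hP

/-- counting lemma: `ℓ(Q/P)` is the number of values of `Q` which are not values of `P`. -/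
theorem relLen_eq_card (P Q : Submodule ↥A k⟦X⟧) (N₀ : ℕ) (hP : tp A N₀ ≤ P) (hPQ : P ≤ Q)
    (F : Finset ℕ) (hF : ∀ n, n ∈ vals A Q ↔ n ∈ vals A P ∨ n ∈ F)
    (hdisj : ∀ n ∈ F, n ∉ vals A P) : relLen P Q = (F.card : ℕ∞) := by
  classical
  have h1 := relLen_add_cnt A P Q N₀ hP hPQ
  have hFr : F ⊆ Finset.range N₀ := by
    intro n hn
    rw [Finset.mem_range]
    by_contra hge
    push Not at hge
    apply hdisj n hn
    refine ⟨X ^ n, hP ?_, order_X_pow n⟩
    rw [mem_tp, order_X_pow]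
    exact_mod_cast hge
  have h2 : cnt A Q N₀ = cnt A P N₀ + F.card := by
    rw [cnt_def, cnt_def]
    have : (Finset.range N₀).filter (fun i => i ∈ vals A Q) =
        (Finset.range N₀).filter (fun i => i ∈ vals A P) ∪ F := by
      ext n
      rw [Finset.mem_union, Finset.mem_filter, Finset.mem_filter, hF]
      constructor
      · rintro ⟨h3, h4 | h4⟩
        · exact Or.inl ⟨h3, h4⟩
        · exact Or.inr h4
      · rintro (⟨h3, h4⟩ | h4)
        · exact ⟨h3, Or.inl h4⟩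
        · exact ⟨hFr h4, Or.inr h4⟩
    rw [this, Finset.card_union_of_disjoint]
    rw [Finset.disjoint_left]
    intro n hn hnF
    exact hdisj n hnF (Finset.mem_filter.mp hn).2
  rw [h2] at h1
  push_cast at h1
  rw [add_comm] at h1
  exact ENat.add_right_injective_of_ne_top (ENat.natCast_ne_top _) h1

/-- counting lemma for monomial modules. -/
theorem relLen_eq_card_of_isMono {P Q : Submodule ↥A k⟦X⟧} {S T : Set ℕ} (hP : IsMono A P S)
    (hQ : IsMono A Q T) (N₀ : ℕ) (hN₀ : ∀ n, N₀ ≤ n → n ∈ S) (F : Finset ℕ)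
    (hF : ∀ n, n ∈ T ↔ n ∈ S ∨ n ∈ F) (hdisj : ∀ n ∈ F, n ∉ S) :
    relLen P Q = (F.card : ℕ∞) := by
  refine relLen_eq_card P Q N₀ (hP.tp_le N₀ hN₀)
    (hP.le hQ fun n hn => (hF n).mpr (Or.inl hn)) F ?_ ?_
  · rw [hP.vals_eq, hQ.vals_eq]
    exact hF
  · rw [hP.vals_eq]
    exact hdisj

theorem exists_coeff_ne_zero_of_coeff_mul {a f : k⟦X⟧} {n : ℕ} (h : coeff n (a * f) ≠ 0) :
    ∃ i j, i + j = n ∧ coeff i a ≠ 0 ∧ coeff j f ≠ 0 := by
  rw [coeff_mul] at h
  obtain ⟨p, hp, hne⟩ := Finset.exists_ne_zero_of_sum_ne_zero h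
  refine ⟨p.1, p.2, Finset.HasAntidiagonal.mem_antidiagonal.mp hp, left_ne_zero_of_mul hne,
    right_ne_zero_of_mul hne⟩

/-- the colon criterion for monomial modules. -/
theorem mul_mem_iff_of_isMono {Z : Submodule ↥A k⟦X⟧} {T' : Set ℕ} (hZ : IsMono A Z T')
    (Γ' : Set ℕ) (y : k⟦X⟧) :
    (∀ a : k⟦X⟧, (∀ n, coeff n a ≠ 0 → n ∈ Γ') → a * y ∈ Z) ↔
      ∀ h, coeff h y ≠ 0 → ∀ γ ∈ Γ', γ + h ∈ T' := by
  constructor
  · intro H h hh γ hγ
    have h1 := H (X ^ γ) (fun n hn => by rw [coeff_X_pow_ne_zero hn]; exact hγ)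
    rw [hZ] at h1
    apply h1
    rw [coeff_X_pow_mul', if_pos (Nat.le_add_right γ h), Nat.add_sub_cancel_left]
    exact hh
  · intro H a ha
    rw [hZ]
    intro n hn
    obtain ⟨i, j, hij, hi, hj⟩ := exists_coeff_ne_zero_of_coeff_mul hn
    rw [← hij]
    exact H j hj i (ha i hi)

/-- `X^L • N` is monomial. -/
theorem isMono_smul {N : Submodule ↥A k⟦X⟧} {T : Set ℕ} (hN : IsMono A N T) (L : ℕ)
    (hL : (X : k⟦X⟧) ^ L ∈ A) :
    IsMono A ((⟨X ^ L, hL⟩ : ↥A) • N) {n | L ≤ n ∧ n - L ∈ T} := by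
  intro f
  constructor
  · intro hf0
    obtain ⟨q, hq, rfl⟩ := (Submodule.mem_smul_pointwise_iff_exists _ _ _).mp hf0
    intro n hn
    change coeff n ((X : k⟦X⟧) ^ L * q) ≠ 0 at hn
    rw [coeff_X_pow_mul'] at hn
    by_cases hLn : L ≤ n
    · rw [if_pos hLn] at hn
      exact ⟨hLn, (hN q).mp hq _ hn⟩
    · rw [if_neg hLn] at hn
      exact absurd rfl hn
  · intro hf
    have hdvd : (X : k⟦X⟧) ^ L ∣ f := by
      rw [X_pow_dvd_iff]
      intro m hm
      by_contra hne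
      exact absurd (hf m hne).1 (not_le.mpr hm)
    obtain ⟨q, rfl⟩ := hdvd
    refine (Submodule.mem_smul_pointwise_iff_exists _ _ _).mpr ⟨q, ?_, rfl⟩
    rw [hN]
    intro m hm
    have := hf (L + m) (by rw [coeff_X_pow_mul', if_pos (Nat.le_add_right L m),
      Nat.add_sub_cancel_left]; exact hm)
    rw [Set.mem_ofPred_eq] at this
    rw [Nat.add_sub_cancel_left] at this
    exact this.2

section span

variable (Γ : Set ℕ) (hA : ∀ f : k⟦X⟧, f ∈ A ↔ ∀ n, coeff n f ≠ 0 → n ∈ Γ)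

include hA in
theorem zero_mem_Γ : 0 ∈ Γ := by
  have h1 : (1 : k⟦X⟧) ∈ A := A.one_mem
  rw [hA] at h1
  apply h1 0
  rw [coeff_zero_one]
  exact one_ne_zero

include hA in
theorem X_pow_mem_A {γ : ℕ} (hγ : γ ∈ Γ) : (X : k⟦X⟧) ^ γ ∈ A := by
  rw [hA]
  intro n hn
  rw [coeff_X_pow_ne_zero hn]
  exact hγ

include hA in
theorem add_mem_Γ {a b : ℕ} (ha : a ∈ Γ) (hb : b ∈ Γ) : a + b ∈ Γ := by
  have h1 : (X : k⟦X⟧) ^ (a + b) ∈ A := by
    rw [pow_add]
    exact A.mul_mem (X_pow_mem_A Γ hA ha) (X_pow_mem_A Γ hA hb)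
  rw [hA] at h1
  apply h1
  rw [coeff_X_pow, if_pos rfl]
  exact one_ne_zero

include hA in
/-- the span of finitely many monomials is monomial. -/
theorem isMono_span (G : Finset ℕ) :
    IsMono A (Submodule.span ↥A ((fun a : ℕ => (X : k⟦X⟧) ^ a) '' (G : Set ℕ)))
      {n | ∃ s ∈ G, ∃ γ ∈ Γ, n = s + γ} := by
  classical
  intro f
  constructor
  · intro hf
    induction hf using Submodule.span_induction with
    | mem x hx =>
      obtain ⟨s, hs, rfl⟩ := hx
      intro n hn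
      rw [coeff_X_pow_ne_zero hn]
      exact ⟨s, hs, 0, zero_mem_Γ Γ hA, rfl⟩
    | zero =>
      intro n hn
      exact absurd (map_zero _) hn
    | add x y _ _ hx hy =>
      intro n hn
      by_cases h0 : coeff n x = 0
      · apply hy
        rw [map_add, h0, zero_add] at hn
        exact hn
      · exact hx n h0
    | smul a x _ hx =>
      intro n hn
      change coeff n ((a : k⟦X⟧) * x) ≠ 0 at hn
      obtain ⟨i, j, hij, hi, hj⟩ := exists_coeff_ne_zero_of_coeff_mul hn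
      obtain ⟨s, hs, γ, hγ, rfl⟩ := hx j hj
      refine ⟨s, hs, i + γ, add_mem_Γ Γ hA ((hA _).mp a.2 i hi) hγ, ?_⟩
      omega
  · intro hf
    -- choice of the generator
    have hch : ∀ n, ∃ s, coeff n f ≠ 0 → s ∈ G ∧ ∃ γ ∈ Γ, n = s + γ := by
      intro n
      by_cases hn : coeff n f = 0
      · exact ⟨0, fun h => absurd hn h⟩
      · obtain ⟨s, hs, γ, hγ, h⟩ := hf n hn
        exact ⟨s, fun _ => ⟨hs, γ, hγ, h⟩⟩
    choose σ hσ using hch
    let a : ℕ → k⟦X⟧ := fun s => PowerSeries.mk fun m =>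
      if σ (s + m) = s then coeff (s + m) f else 0
    have ha : ∀ s, a s ∈ A := by
      intro s
      rw [hA]
      intro m hm
      rw [coeff_mk] at hm
      by_cases h1 : σ (s + m) = s
      · rw [if_pos h1] at hm
        obtain ⟨-, γ, hγ, h2⟩ := hσ (s + m) hm
        rw [h1] at h2
        have : m = γ := by omega
        rw [this]
        exact hγ
      · rw [if_neg h1] at hm
        exact absurd rfl hm
    have hsum : f = ∑ s ∈ G, a s * X ^ s := by
      ext n
      rw [map_sum]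
      by_cases hn : coeff n f = 0
      · rw [hn]
        symm
        apply Finset.sum_eq_zero
        intro s _
        rw [coeff_mul_X_pow']
        split_ifs with h1
        · rw [coeff_mk]
          split_ifs with h2
          · rw [Nat.add_sub_cancel' h1]
            exact hn
          · rfl
        · rfl
      · obtain ⟨hsG, γ, hγ, h2⟩ := hσ n hn
        rw [Finset.sum_eq_single (σ n)]
        · rw [coeff_mul_X_pow', if_pos (by omega), coeff_mk]
          have : σ n + (n - σ n) = n := by omega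
          rw [this, if_pos rfl]
        · intro s _ hs
          rw [coeff_mul_X_pow']
          split_ifs with h1
          · rw [coeff_mk, Nat.add_sub_cancel' h1, if_neg (Ne.symm hs)]
          · rfl
        · intro h
          exact absurd hsG h
    rw [hsum]
    refine Submodule.sum_mem _ fun s hs => ?_
    have : a s * X ^ s = (⟨a s, ha s⟩ : ↥A) • (X : k⟦X⟧) ^ s := rfl
    rw [this]
    exact Submodule.smul_mem _ _ (Submodule.subset_span ⟨s, hs, rfl⟩)

end span

end Groth.Agent.H3.ExtP
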