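import Mathlib
import Groth.Agent.Lib.Helper3.ExtB
import Groth.Agent.Lib.Helper3.ExtC

/-! helper3: `ℓ Ext¹_A(A + A X^m, N)` for monomial `N` over a monomial subalgebra `A ⊆ k⟦X⟧`. -/

set_option autoImplicit false
universe w u

open PowerSeries Pointwise CategoryTheory CategoryTheory.Abelian
open Groth.Agent.H3.Gor Groth.Agent.H3.VS

namespace Groth.Agent.H3.ExtP

theorem relLen_equiv {R : Type u} [CommRing R] {V V' : Type u} [AddCommGroup V] [Module R V]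
    [AddCommGroup V'] [Module R V'] (e : V ≃ₗ[R] V') (P Q : Submodule R V) :
    relLen (P.map (e : V →ₗ[R] V')) (Q.map (e : V →ₗ[R] V')) = relLen P Q := by
  rw [relLen_def, relLen_def]
  symm
  refine (Submodule.Quotient.equiv _ _ (e.submoduleMap Q) ?_).length_eq
  ext ⟨y, hy⟩
  simp only [Submodule.mem_map, Submodule.mem_comap, Submodule.subtype_apply]
  constructor
  · rintro ⟨⟨x, hx⟩, hxP, hxy⟩
    have : e x = y := congrArg Subtype.val hxy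
    exact ⟨x, hxP, this⟩
  · rintro ⟨x, hxP, hxy⟩
    have hxQ : x ∈ Q := by
      obtain ⟨q, hq, hqe⟩ := hy
      have : q = x := e.injective (hqe.trans hxy.symm)
      exact this ▸ hq
    exact ⟨⟨x, hxQ⟩, hxP, Subtype.ext hxy⟩

variable {k : Type u} [Field k] {A : Subalgebra k k⟦X⟧}

theorem isMono_sup {P Q : Submodule ↥A k⟦X⟧} {S T : Set ℕ} (hP : IsMono A P S)
    (hQ : IsMono A Q T) : IsMono A (P ⊔ Q) (S ∪ T) := by
  classical
  intro f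
  rw [Submodule.mem_sup]
  constructor
  · rintro ⟨p, hp, q, hq, rfl⟩ n hn
    by_cases h0 : coeff n p = 0
    · right
      apply (hQ q).mp hq
      rw [map_add, h0, zero_add] at hn
      exact hn
    · left
      exact (hP p).mp hp n h0
  · intro hf
    refine ⟨PowerSeries.mk fun n => if n ∈ S then coeff n f else 0, ?_,
      PowerSeries.mk fun n => if n ∈ S then 0 else coeff n f, ?_, ?_⟩
    · rw [hP]
      intro n hn
      rw [coeff_mk] at hn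
      by_contra hS
      rw [if_neg hS] at hn
      exact hn rfl
    · rw [hQ]
      intro n hn
      rw [coeff_mk] at hn
      by_cases hS : n ∈ S
      · rw [if_pos hS] at hn
        exact absurd rfl hn
      · rw [if_neg hS] at hn
        rcases hf n hn with h | h
        · exact absurd h hS
        · exact h
    · ext n
      rw [map_add, coeff_mk, coeff_mk]
      split_ifs <;> simp

theorem isMono_mulX {N : Submodule ↥A k⟦X⟧} {T : Set ℕ} (hN : IsMono A N T) (m : ℕ) :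
    IsMono A (N.map (LinearMap.mulLeft ↥A ((X : k⟦X⟧) ^ m))) {n | m ≤ n ∧ n - m ∈ T} := by
  intro f
  rw [Submodule.mem_map]
  constructor
  · rintro ⟨q, hq, rfl⟩ n hn
    change coeff n ((X : k⟦X⟧) ^ m * q) ≠ 0 at hn
    rw [coeff_X_pow_mul'] at hn
    by_cases hLn : m ≤ n
    · rw [if_pos hLn] at hn
      exact ⟨hLn, (hN q).mp hq _ hn⟩
    · rw [if_neg hLn] at hn
      exact absurd rfl hn
  · intro hf
    have hdvd : (X : k⟦X⟧) ^ m ∣ f := by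
      rw [X_pow_dvd_iff]
      intro i hi
      by_contra hne
      exact absurd (hf i hne).1 (not_le.mpr hi)
    obtain ⟨q, rfl⟩ := hdvd
    refine ⟨q, ?_, rfl⟩
    rw [hN]
    intro i hi
    have := hf (m + i) (by rw [coeff_X_pow_mul', if_pos (Nat.le_add_right m i),
      Nat.add_sub_cancel_left]; exact hi)
    rw [Set.mem_ofPred_eq, Nat.add_sub_cancel_left] at this
    exact this.2

section twoGen

variable (Γ : Set ℕ) (hA : ∀ f : k⟦X⟧, f ∈ A ↔ ∀ n, coeff n f ≠ 0 → n ∈ Γ)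
  (m L : ℕ) (hL : L ∈ Γ) (hLm : L + m ∈ Γ)

/-- the value set of `H`. -/
def SH (T : Set ℕ) : Set ℕ := {h | ∀ γ ∈ Γ, γ + m ∈ Γ → L ≤ γ + h ∧ γ + h - L ∈ T}

/-- the value set of `D`. -/
def SD (T : Set ℕ) : Set ℕ := {n | L ≤ n ∧ (n - L ∈ T ∨ (m ≤ n - L ∧ n - L - m ∈ T))}

include hA in
theorem supp_iff (a : k⟦X⟧) :
    (a ∈ A ∧ a * X ^ m ∈ A) ↔ ∀ n, coeff n a ≠ 0 → n ∈ {γ | γ ∈ Γ ∧ γ + m ∈ Γ} := by
  rw [hA, hA]
  constructor
  · rintro ⟨h1, h2⟩ n hn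
    refine ⟨h1 n hn, h2 (n + m) ?_⟩
    rw [coeff_mul_X_pow]
    exact hn
  · intro h
    refine ⟨fun n hn => (h n hn).1, fun n hn => ?_⟩
    rw [coeff_mul_X_pow'] at hn
    by_cases hmn : m ≤ n
    · rw [if_pos hmn] at hn
      have := (h _ hn).2
      rwa [Nat.sub_add_cancel hmn] at this
    · rw [if_neg hmn] at hn
      exact absurd rfl hn

variable {N : Submodule ↥A k⟦X⟧} {T : Set ℕ} (hN : IsMono A N T)

include hA hN in
theorem isMono_modH :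
    IsMono A ((modH ↥A (fun _ : Fin 1 => (X : k⟦X⟧) ^ m) ⟨X ^ L, X_pow_mem_A Γ hA hL⟩ N).map
      (LinearEquiv.funUnique (Fin 1) ↥A k⟦X⟧ : (Fin 1 → k⟦X⟧) →ₗ[↥A] k⟦X⟧)) (SH Γ m L T) := by
  have hdN := isMono_smul hN L (X_pow_mem_A Γ hA hL)
  intro y
  have key := mul_mem_iff_of_isMono hdN {γ | γ ∈ Γ ∧ γ + m ∈ Γ} y
  have e1 : y ∈ (modH ↥A (fun _ : Fin 1 => (X : k⟦X⟧) ^ m) ⟨X ^ L, X_pow_mem_A Γ hA hL⟩ N).map
      (LinearEquiv.funUnique (Fin 1) ↥A k⟦X⟧ : (Fin 1 → k⟦X⟧) →ₗ[↥A] k⟦X⟧) ↔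
      ∀ a : k⟦X⟧, (∀ n, coeff n a ≠ 0 → n ∈ {γ | γ ∈ Γ ∧ γ + m ∈ Γ}) →
        a * y ∈ (⟨X ^ L, X_pow_mem_A Γ hA hL⟩ : ↥A) • N := by
    rw [Submodule.mem_map]
    constructor
    · rintro ⟨y', hy', rfl⟩ a ha
      rw [← supp_iff Γ hA m] at ha
      have := hy' (fun _ => ⟨a, ha.1⟩) ⟨⟨a * X ^ m, ha.2⟩, by
        simp only [Finset.univ_unique, Finset.sum_singleton]
        rfl⟩
      simp only [Finset.univ_unique, Finset.sum_singleton] at this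
      exact this
    · intro H
      refine ⟨fun _ => y, ?_, rfl⟩
      intro a ha
      obtain ⟨a₀, ha₀⟩ := ha
      simp only [Finset.univ_unique, Finset.sum_singleton] at ha₀ ⊢
      apply H (a default : k⟦X⟧)
      rw [← supp_iff Γ hA m]
      refine ⟨(a default).2, ?_⟩
      have : ((a default : ↥A) : k⟦X⟧) * X ^ m = (a₀ : k⟦X⟧) := ha₀.symm
      rw [this]
      exact a₀.2
  rw [e1, key]
  constructor
  · intro H h hh γ hγ hγm
    have := H h hh γ ⟨hγ, hγm⟩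
    exact this
  · intro H h hh γ hγ
    exact H h hh γ hγ.1 hγ.2

include hA hN in
theorem isMono_modD :
    IsMono A ((modD ↥A (fun _ : Fin 1 => (X : k⟦X⟧) ^ m) ⟨X ^ L, X_pow_mem_A Γ hA hL⟩ N).map
      (LinearEquiv.funUnique (Fin 1) ↥A k⟦X⟧ : (Fin 1 → k⟦X⟧) →ₗ[↥A] k⟦X⟧)) (SD m L T) := by
  have h1 := isMono_smul (isMono_sup hN (isMono_mulX hN m)) L (X_pow_mem_A Γ hA hL)
  have e1 : (modD ↥A (fun _ : Fin 1 => (X : k⟦X⟧) ^ m) ⟨X ^ L, X_pow_mem_A Γ hA hL⟩ N).map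
      (LinearEquiv.funUnique (Fin 1) ↥A k⟦X⟧ : (Fin 1 → k⟦X⟧) →ₗ[↥A] k⟦X⟧) =
      (⟨X ^ L, X_pow_mem_A Γ hA hL⟩ : ↥A) •
        (N ⊔ N.map (LinearMap.mulLeft ↥A ((X : k⟦X⟧) ^ m))) := by
    ext y
    rw [Submodule.mem_map]
    constructor
    · rintro ⟨_, ⟨⟨n₀, n⟩, rfl⟩, rfl⟩
      refine (Submodule.mem_smul_pointwise_iff_exists _ _ _).mpr
        ⟨((n default : N) : k⟦X⟧) - X ^ m * (n₀ : k⟦X⟧), ?_, rfl⟩
      rw [sub_eq_add_neg]
      refine Submodule.add_mem_sup (n default).2 ?_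
      refine ⟨-(n₀ : k⟦X⟧), N.neg_mem n₀.2, ?_⟩
      change (X : k⟦X⟧) ^ m * -(n₀ : k⟦X⟧) = _
      ring
    · intro hy
      obtain ⟨z, hz, rfl⟩ := (Submodule.mem_smul_pointwise_iff_exists _ _ _).mp hy
      obtain ⟨n₁, hn₁, z₂, hz₂, rfl⟩ := Submodule.mem_sup.mp hz
      obtain ⟨n₀, hn₀, rfl⟩ := hz₂
      refine ⟨_, ⟨(⟨-n₀, N.neg_mem hn₀⟩, fun _ => ⟨n₁, hn₁⟩), rfl⟩, ?_⟩
      change (⟨X ^ L, X_pow_mem_A Γ hA hL⟩ : ↥A) • (n₁ - X ^ m * (-n₀)) = _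
      congr 1
      change n₁ - X ^ m * (-n₀) = n₁ + X ^ m * n₀
      ring
  rw [e1]
  refine h1.congr ?_
  ext n
  simp only [SD, Set.mem_ofPred_eq, Set.mem_union]

variable [HasExt.{w} (ModuleCat.{u} ↥A)]

include hA hN hL hLm in
/-- `ℓ Ext¹(A + A X^m, N)` is the number of elements of `SH ∖ SD`. -/
theorem length_ext_one_two_gen (N₀ : ℕ) (hN₀ : ∀ n, N₀ ≤ n → n ∈ SD m L T) (F : Finset ℕ)
    (hF : ∀ n, n ∈ SH Γ m L T ↔ n ∈ SD m L T ∨ n ∈ F) (hdisj : ∀ n ∈ F, n ∉ SD m L T) :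
    Module.length ↥A (Ext.{w} (ModuleCat.of ↥A
      ↥(Submodule.span ↥A ({1, (X : k⟦X⟧) ^ m} : Set k⟦X⟧))) (ModuleCat.of ↥A ↥N) 1) =
      (F.card : ℕ∞) := by
  have hspan : Submodule.span ↥A ({1, (X : k⟦X⟧) ^ m} : Set k⟦X⟧) =
      modM ↥A (fun _ : Fin 1 => (X : k⟦X⟧) ^ m) := by
    unfold modM
    rw [Set.range_const]
  rw [hspan]
  have hd : ∀ e : k⟦X⟧, algebraMap ↥A k⟦X⟧ ⟨X ^ L, X_pow_mem_A Γ hA hL⟩ * e = 0 → e = 0 := by
    intro e he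
    change (X : k⟦X⟧) ^ L * e = 0 at he
    rcases mul_eq_zero.mp he with h | h
    · exact absurd h (pow_ne_zero _ X_ne_zero)
    · exact h
  have hg' : ∀ j : Fin 1, algebraMap ↥A k⟦X⟧
      ((fun _ : Fin 1 => (⟨X ^ (L + m), X_pow_mem_A Γ hA hLm⟩ : ↥A)) j) =
      algebraMap ↥A k⟦X⟧ ⟨X ^ L, X_pow_mem_A Γ hA hL⟩ * (fun _ : Fin 1 => (X : k⟦X⟧) ^ m) j := by
    intro j
    change (X : k⟦X⟧) ^ (L + m) = X ^ L * X ^ m
    rw [pow_add]
  rw [length_ext_one_eq.{w} Subtype.val_injective (fun _ : Fin 1 => (X : k⟦X⟧) ^ m)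
    ⟨X ^ L, X_pow_mem_A Γ hA hL⟩ hd _ hg' N,
    ← relLen_equiv (LinearEquiv.funUnique (Fin 1) ↥A k⟦X⟧)]
  exact relLen_eq_card_of_isMono (isMono_modD Γ hA m L hL hN) (isMono_modH Γ hA m L hL hN)
    N₀ hN₀ F hF hdisj

end twoGen

end Groth.Agent.H3.ExtP
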