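import Mathlib
import Groth.Agent.Lib.Helper3.ExtD

/-! helper3: `ℓ Ext¹(M_i, M_j) = 2 min(i, j)` over `k⟦t², t^{2δ+1}⟧`. -/

set_option autoImplicit false
universe w u

open PowerSeries CategoryTheory CategoryTheory.Abelian
open Groth.Agent.H3.Gor Groth.Agent.H3.VS

namespace Groth.Agent.H3.ExtP

theorem mem_closure_two_iff (δ n : ℕ) :
    n ∈ AddSubmonoid.closure ({2, 2 * δ + 1} : Set ℕ) ↔ n % 2 = 0 ∨ 2 * δ + 1 ≤ n := by
  constructor
  · intro h
    induction h using AddSubmonoid.closure_induction with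
    | mem x hx =>
      rcases hx with rfl | rfl
      · left; rfl
      · right; exact le_rfl
    | zero => left; rfl
    | add x y _ _ hx hy => omega
  · intro h
    have h2 : 2 ∈ AddSubmonoid.closure ({2, 2 * δ + 1} : Set ℕ) :=
      AddSubmonoid.subset_closure (Set.mem_insert _ _)
    have h3 : 2 * δ + 1 ∈ AddSubmonoid.closure ({2, 2 * δ + 1} : Set ℕ) :=
      AddSubmonoid.subset_closure (Set.mem_insert_of_mem _ rfl)
    by_cases hev : n % 2 = 0
    · have : n = (n / 2) • 2 := by rw [smul_eq_mul]; omega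
      rw [this]
      exact AddSubmonoid.nsmul_mem _ h2 _
    · have hn : 2 * δ + 1 ≤ n := by omega
      have : n = (2 * δ + 1) + ((n - (2 * δ + 1)) / 2) • 2 := by rw [smul_eq_mul]; omega
      rw [this]
      exact add_mem h3 (AddSubmonoid.nsmul_mem _ h2 _)

variable {k : Type u} [Field k]

theorem length_ext_Aeven (δ : ℕ) (A : Subalgebra k k⟦X⟧)
    (hmono : ∀ f : k⟦X⟧, f ∈ A ↔ ∀ n : ℕ, coeff n f ≠ 0 →
      n ∈ AddSubmonoid.closure ({2, 2 * δ + 1} : Set ℕ))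
    [HasExt.{w} (ModuleCat.{u} ↥A)] (i j : ℕ) (hi : i ≤ δ) (hj : j ≤ δ) :
    Module.length ↥A (Ext.{w} (ModuleCat.of ↥A
        ↥(Submodule.span ↥A ({1, (X : k⟦X⟧) ^ (2 * δ + 1 - 2 * i)} : Set k⟦X⟧)))
      (ModuleCat.of ↥A
        ↥(Submodule.span ↥A ({1, (X : k⟦X⟧) ^ (2 * δ + 1 - 2 * j)} : Set k⟦X⟧))) 1) =
      ((2 * min i j : ℕ) : ℕ∞) := by
  classical
  set Γ : Set ℕ := {n | n ∈ AddSubmonoid.closure ({2, 2 * δ + 1} : Set ℕ)} with hΓ
  have hA : ∀ f : k⟦X⟧, f ∈ A ↔ ∀ n, coeff n f ≠ 0 → n ∈ Γ := hmono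
  have hΓiff : ∀ n, n ∈ Γ ↔ n % 2 = 0 ∨ 2 * δ + 1 ≤ n := fun n => mem_closure_two_iff δ n
  set T : Set ℕ := {n | n % 2 = 0 ∨ 2 * δ + 1 - 2 * j ≤ n} with hT
  -- `N` is monomial
  have hN : IsMono A (Submodule.span ↥A ({1, (X : k⟦X⟧) ^ (2 * δ + 1 - 2 * j)} : Set k⟦X⟧)) T := by
    have h1 := isMono_span Γ hA ({0, 2 * δ + 1 - 2 * j} : Finset ℕ)
    have h2 : (fun a : ℕ => (X : k⟦X⟧) ^ a) '' (({0, 2 * δ + 1 - 2 * j} : Finset ℕ) : Set ℕ) =
        {1, (X : k⟦X⟧) ^ (2 * δ + 1 - 2 * j)} := by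
      rw [Finset.coe_insert, Finset.coe_singleton, Set.image_pair, pow_zero]
    rw [h2] at h1
    refine h1.congr ?_
    ext n
    simp only [Set.mem_ofPred_eq, hT, Finset.mem_insert, Finset.mem_singleton]
    constructor
    · rintro ⟨s, hs | hs, γ, hγ, rfl⟩
      · subst hs
        rcases (hΓiff γ).mp hγ with h | h <;> omega
      · subst hs
        rcases (hΓiff γ).mp hγ with h | h <;> omega
    · intro h
      by_cases hev : n % 2 = 0
      · exact ⟨0, Or.inl rfl, n, (hΓiff n).mpr (Or.inl hev), by omega⟩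
      · refine ⟨2 * δ + 1 - 2 * j, Or.inr rfl, n - (2 * δ + 1 - 2 * j),
          (hΓiff _).mpr (Or.inl (by omega)), by omega⟩
  have hL : 2 * δ ∈ Γ := (hΓiff _).mpr (Or.inl (by omega))
  have hLm : 2 * δ + (2 * δ + 1 - 2 * i) ∈ Γ := (hΓiff _).mpr (Or.inr (by omega))
  set μ := min i j with hμ
  set F : Finset ℕ := (Finset.range μ).image (fun t => 2 * δ - 2 * μ + 2 * t) ∪
    (Finset.range μ).image (fun t => 4 * δ + 1 - 2 * i - 2 * j + 2 * t) with hFdef
  have hμi : μ ≤ i := min_le_left i j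
  have hμj : μ ≤ j := min_le_right i j
  have hμij : μ = i ∨ μ = j := by
    rcases le_total i j with h | h
    · left; exact min_eq_left h
    · right; exact min_eq_right h
  have hcard : F.card = 2 * μ := by
    rw [hFdef, Finset.card_union_of_disjoint, Finset.card_image_of_injective,
      Finset.card_image_of_injective, Finset.card_range]
    · ring
    · intro a b hab
      simp only at hab
      omega
    · intro a b hab
      simp only at hab
      omega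
    · rw [Finset.disjoint_left]
      intro n h1 h2
      obtain ⟨a, -, rfl⟩ := Finset.mem_image.mp h1
      obtain ⟨b, -, hb⟩ := Finset.mem_image.mp h2
      omega
  have hmemF : ∀ n, n ∈ F ↔ (n % 2 = 0 ∧ 2 * δ ≤ n + 2 * μ ∧ n < 2 * δ) ∨
      (n % 2 = 1 ∧ 4 * δ + 1 ≤ n + 2 * i + 2 * j ∧ n + 2 * i + 2 * j < 4 * δ + 1 + 2 * μ) := by
    intro n
    rw [hFdef, Finset.mem_union, Finset.mem_image, Finset.mem_image]
    constructor
    · rintro (⟨t, ht, rfl⟩ | ⟨t, ht, rfl⟩)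
      · rw [Finset.mem_range] at ht
        left; omega
      · rw [Finset.mem_range] at ht
        right; omega
    · rintro (⟨h1, h2, h3⟩ | ⟨h1, h2, h3⟩)
      · left
        exact ⟨(n + 2 * μ - 2 * δ) / 2, Finset.mem_range.mpr (by omega), by omega⟩
      · right
        exact ⟨(n + 2 * i + 2 * j - (4 * δ + 1)) / 2, Finset.mem_range.mpr (by omega), by omega⟩
  have hSD : ∀ n, n ∈ SD (2 * δ + 1 - 2 * i) (2 * δ) T ↔
      2 * δ ≤ n ∧ (n % 2 = 0 ∨ 4 * δ + 1 ≤ n + 2 * i ∨ 4 * δ + 1 ≤ n + 2 * j) := by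
    intro n
    simp only [SD, Set.mem_ofPred_eq, hT]
    omega
  have hSH : ∀ n, n ∈ SH Γ (2 * δ + 1 - 2 * i) (2 * δ) T ↔
      (n % 2 = 0 ∧ 2 * δ ≤ n + 2 * μ) ∨ (n % 2 = 1 ∧ 4 * δ + 1 ≤ n + 2 * i + 2 * j) := by
    intro n
    simp only [SH, Set.mem_ofPred_eq]
    constructor
    · intro H
      have h1 := H (2 * i) ((hΓiff _).mpr (Or.inl (by omega))) ((hΓiff _).mpr (Or.inr (by omega)))
      have h2 := H (2 * δ + 1) ((hΓiff _).mpr (Or.inr le_rfl))
        ((hΓiff _).mpr (Or.inl (by omega)))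
      simp only [hT, Set.mem_ofPred_eq] at h1 h2
      omega
    · intro H γ hγ hγm
      rw [hΓiff] at hγ hγm
      simp only [hT, Set.mem_ofPred_eq]
      omega
  rw [length_ext_one_two_gen.{w} Γ hA (2 * δ + 1 - 2 * i) (2 * δ) hL hLm hN (4 * δ + 2) ?_ F ?_ ?_,
    hcard]
  · intro n hn
    rw [hSD]
    omega
  · intro n
    rw [hSH, hSD, hmemF]
    omega
  · intro n hn
    rw [hmemF] at hn
    rw [hSD]
    omega

end Groth.Agent.H3.ExtP
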