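import Mathlib
import Groth.Agent.Lib.Helper3.ExtB

/-! helper3: the length of `H / D` when `H` is a product `H₀^r`:
`ℓ(H/D) + ℓ(N/(N : M)) = r · ℓ(H₀/dN)`. -/

set_option autoImplicit false
universe u

open Pointwise
open Groth.Agent.H3.Gor

namespace Groth.Agent.H3.ExtP

section pi

variable {A E : Type u} [CommRing A] [AddCommGroup E] [Module A E]

/-- `↥(Q₀^r) ≃ (↥Q₀)^r`. -/
def piSubtypeEquiv (Q₀ : Submodule A E) (r : ℕ) :
    ↥(Submodule.pi Set.univ fun _ : Fin r => Q₀) ≃ₗ[A] (Fin r → ↥Q₀) where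
  toFun y j := ⟨y.1 j, y.2 j trivial⟩
  invFun z := ⟨fun j => z j, fun j _ => (z j).2⟩
  map_add' _ _ := rfl
  map_smul' _ _ := rfl
  left_inv _ := rfl
  right_inv _ := rfl

theorem relLen_pi (P₀ Q₀ : Submodule A E) (r : ℕ) :
    relLen (Submodule.pi Set.univ fun _ : Fin r => P₀)
      (Submodule.pi Set.univ fun _ : Fin r => Q₀) = (r : ℕ∞) * relLen P₀ Q₀ := by
  classical
  rw [relLen_def, relLen_def]
  have e1 : (↥(Submodule.pi Set.univ fun _ : Fin r => Q₀) ⧸
      Submodule.comap (Submodule.pi Set.univ fun _ : Fin r => Q₀).subtype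
        (Submodule.pi Set.univ fun _ : Fin r => P₀)) ≃ₗ[A]
      ((Fin r → ↥Q₀) ⧸ Submodule.pi Set.univ fun _ : Fin r => Submodule.comap Q₀.subtype P₀) := by
    refine Submodule.Quotient.equiv _ _ (piSubtypeEquiv Q₀ r) ?_
    ext z
    rw [Submodule.mem_map, Submodule.mem_pi]
    constructor
    · rintro ⟨y, hy, rfl⟩ j _
      exact hy j trivial
    · intro hz
      refine ⟨(piSubtypeEquiv Q₀ r).symm z, ?_, (piSubtypeEquiv Q₀ r).apply_symm_apply z⟩
      intro j _
      exact hz j trivial
  rw [e1.length_eq, (Submodule.quotientPi _).length_eq, Module.length_pi_of_fintype,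
    Finset.sum_const, Finset.card_univ, Fintype.card_fin, nsmul_eq_mul]

end pi

section main

variable {A : Type u} {E : Type u} [CommRing A] [CommRing E] [Algebra A E]
  (hinj : Function.Injective (algebraMap A E))
  {r : ℕ} (g : Fin r → E) (d : A) (hd : ∀ e : E, algebraMap A E d * e = 0 → e = 0)
  (g' : Fin r → A) (hg' : ∀ j, algebraMap A E (g' j) = algebraMap A E d * g j)
  (N : Submodule A E)

/-- `(N : M) = {n ∈ N | g_j n ∈ N for all j}`. -/
def colonN : Submodule A E := N ⊓ ⨅ j, N.comap (LinearMap.mulLeft A (g j))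

theorem mem_colonN (x : E) : x ∈ colonN g N ↔ x ∈ N ∧ ∀ j, g j * x ∈ N := by
  unfold colonN
  rw [Submodule.mem_inf, Submodule.mem_iInf]
  rfl

include hd in
theorem smul_mem_smul_iff (x : E) : d • x ∈ d • N ↔ x ∈ N := by
  constructor
  · intro h
    obtain ⟨n, hn, hnx⟩ := (Submodule.mem_smul_pointwise_iff_exists _ _ _).mp h
    rw [← smul_d_cancel d hd hnx]
    exact hn
  · intro h
    exact Submodule.smul_mem_pointwise_smul _ _ _ h

theorem pi_le_modD : (Submodule.pi Set.univ fun _ : Fin r => d • N) ≤ modD A g d N := by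
  intro y hy
  rw [Submodule.mem_pi] at hy
  have : ∀ j, ∃ n : N, d • (n : E) = y j := by
    intro j
    obtain ⟨n, hn, hny⟩ := (Submodule.mem_smul_pointwise_iff_exists _ _ _).mp (hy j trivial)
    exact ⟨⟨n, hn⟩, hny⟩
  choose n hn using this
  refine ⟨(0, n), ?_⟩
  funext j
  rw [theta_apply, ← hn j]
  simp

include hd in
theorem relLen_pi_modD :
    relLen (Submodule.pi Set.univ fun _ : Fin r => d • N) (modD A g d N) =
      relLen (colonN g N) N := by
  rw [relLen_def, relLen_def]
  let D₀ := Submodule.pi Set.univ fun _ : Fin r => d • N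
  let τ : N →ₗ[A] (↥(modD A g d N) ⧸ Submodule.comap (modD A g d N).subtype D₀) :=
    (Submodule.mkQ _) ∘ₗ (LinearMap.codRestrict (modD A g d N)
      ((theta A g d N) ∘ₗ LinearMap.inl A N (Fin r → N))
      (fun x => LinearMap.mem_range_self _ _))
  have hτsurj : Function.Surjective τ := by
    intro z
    obtain ⟨⟨y, ⟨⟨n₀, n⟩, rfl⟩⟩, rfl⟩ := Submodule.Quotient.mk_surjective _ z
    refine ⟨n₀, ?_⟩
    change Submodule.Quotient.mk _ = Submodule.Quotient.mk _
    rw [Submodule.Quotient.eq, Submodule.mem_comap]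
    change theta A g d N (n₀, 0) - theta A g d N (n₀, n) ∈ D₀
    rw [Submodule.mem_pi]
    intro j _
    change theta A g d N (n₀, 0) j - theta A g d N (n₀, n) j ∈ d • N
    rw [theta_apply, theta_apply, ← smul_sub]
    apply Submodule.smul_mem_pointwise_smul
    have : ((0 : Fin r → N) j : E) - g j * (n₀ : E) - (((n j : N) : E) - g j * (n₀ : E)) =
        -((n j : N) : E) := by
      simp only [Pi.zero_apply, ZeroMemClass.coe_zero]
      ring
    rw [this]
    exact N.neg_mem (n j).2
  have hker : LinearMap.ker τ = Submodule.comap N.subtype (colonN g N) := by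
    ext n₀
    rw [LinearMap.mem_ker, Submodule.mem_comap, mem_colonN]
    change Submodule.Quotient.mk _ = 0 ↔ _
    rw [Submodule.Quotient.mk_eq_zero, Submodule.mem_comap]
    change theta A g d N (n₀, 0) ∈ D₀ ↔ _
    rw [Submodule.mem_pi]
    constructor
    · intro h
      refine ⟨n₀.2, fun j => ?_⟩
      have h1 := h j trivial
      rw [theta_apply] at h1
      have h2 := (smul_mem_smul_iff d hd N _).mp h1
      have : g j * (n₀ : E) = -(((0 : Fin r → N) j : E) - g j * (n₀ : E)) := by simp
      change g j * (n₀ : E) ∈ N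
      rw [this]
      exact N.neg_mem h2
    · rintro ⟨-, h⟩ j _
      rw [theta_apply]
      apply Submodule.smul_mem_pointwise_smul
      have : ((0 : Fin r → N) j : E) - g j * (n₀ : E) = -(g j * (n₀ : E)) := by simp
      rw [this]
      exact N.neg_mem (h j)
  have e := (τ.quotKerEquivOfSurjective hτsurj).length_eq
  rw [← e]
  exact (Submodule.quotEquivOfEq _ _ hker).length_eq

include hinj hd hg' in
/-- the length formula when `H` is a product. -/
theorem relLen_modD_modH_of_pi (H₀ : Submodule A E)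
    (hH : modH A g d N = Submodule.pi Set.univ fun _ : Fin r => H₀) :
    relLen (modD A g d N) (modH A g d N) + relLen (colonN g N) N =
      (r : ℕ∞) * relLen (d • N) H₀ := by
  have h1 := relLen_add (Submodule.pi Set.univ fun _ : Fin r => d • N) (modD A g d N)
    (modH A g d N) (pi_le_modD g d N) (modD_le_modH hinj g d g' hg' N)
  rw [relLen_pi_modD g d hd N] at h1
  rw [← h1, hH, relLen_pi]

end main

end Groth.Agent.H3.ExtP
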