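import Mathlib
import Groth.Agent.Lib.Helper3.ExtD
import Groth.Agent.Lib.Helper3.ExtE

/-! helper3: `ℓ Ext¹_A(A + Σ A X^{s_j}, N)` over a monomial subalgebra `A ⊆ k⟦X⟧` when the module
`H` is a product of colon modules `(dN : X^{n'} k⟦X⟧)`. -/

set_option autoImplicit false
universe w u

open PowerSeries Pointwise CategoryTheory CategoryTheory.Abelian
open Groth.Agent.H3.Gor Groth.Agent.H3.VS

namespace Groth.Agent.H3.ExtP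

variable {k : Type u} [Field k] {A : Subalgebra k k⟦X⟧}

/-- `(Z : X^{n'} k⟦X⟧)`. -/
def colonX (n' : ℕ) (Z : Submodule ↥A k⟦X⟧) : Submodule ↥A k⟦X⟧ where
  carrier := {y | ∀ p : k⟦X⟧, (∀ t, coeff t p ≠ 0 → t ∈ {γ | n' ≤ γ}) → p * y ∈ Z}
  add_mem' := by
    intro y y' hy hy' p hp
    rw [mul_add]
    exact Z.add_mem (hy p hp) (hy' p hp)
  zero_mem' := by
    intro p _
    rw [mul_zero]
    exact Z.zero_mem
  smul_mem' := by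
    intro a y hy p hp
    have : p * (a • y) = a • (p * y) := by
      change p * ((a : k⟦X⟧) * y) = (a : k⟦X⟧) * (p * y)
      ring
    rw [this]
    exact Z.smul_mem a (hy p hp)

theorem isMono_colonX {Z : Submodule ↥A k⟦X⟧} {T' : Set ℕ} (hZ : IsMono A Z T') (n' : ℕ) :
    IsMono A (colonX n' Z) {h | ∀ γ, n' ≤ γ → γ + h ∈ T'} := by
  intro y
  have := mul_mem_iff_of_isMono hZ {γ | n' ≤ γ} y
  change (∀ p : k⟦X⟧, (∀ t, coeff t p ≠ 0 → t ∈ {γ | n' ≤ γ}) → p * y ∈ Z) ↔ _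
  rw [this]
  constructor
  · intro H h hh γ hγ
    exact H h hh γ hγ
  · intro H h hh γ hγ
    exact H h hh γ hγ

theorem isMono_colonN {r : ℕ} (s : Fin r → ℕ) {N : Submodule ↥A k⟦X⟧} {T : Set ℕ}
    (hN : IsMono A N T) :
    IsMono A (colonN (fun j => (X : k⟦X⟧) ^ s j) N) {t | t ∈ T ∧ ∀ j, s j + t ∈ T} := by
  intro x
  rw [mem_colonN]
  constructor
  · rintro ⟨h1, h2⟩ t ht
    refine ⟨(hN x).mp h1 t ht, fun j => ?_⟩
    apply (hN _).mp (h2 j)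
    rw [coeff_X_pow_mul', if_pos (Nat.le_add_right _ _), Nat.add_sub_cancel_left]
    exact ht
  · intro H
    refine ⟨(hN x).mpr fun t ht => (H t ht).1, fun j => (hN _).mpr fun t ht => ?_⟩
    rw [coeff_X_pow_mul'] at ht
    by_cases hst : s j ≤ t
    · rw [if_pos hst] at ht
      have := (H _ ht).2 j
      rwa [Nat.add_sub_cancel' hst] at this
    · rw [if_neg hst] at ht
      exact absurd rfl ht

section main

variable (Γ : Set ℕ) (hA : ∀ f : k⟦X⟧, f ∈ A ↔ ∀ n, coeff n f ≠ 0 → n ∈ Γ)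
  {r : ℕ} (s : Fin r → ℕ) (L : ℕ) (hL : L ∈ Γ) (hLs : ∀ j, L + s j ∈ Γ)
  (N : Submodule ↥A k⟦X⟧) [HasExt.{w} (ModuleCat.{u} ↥A)]

include hA hLs in
/-- the length formula in the product case. -/
theorem length_ext_one_of_pi (n' : ℕ)
    (hH : modH ↥A (fun j => (X : k⟦X⟧) ^ s j) ⟨X ^ L, X_pow_mem_A Γ hA hL⟩ N =
      Submodule.pi Set.univ fun _ : Fin r =>
        colonX n' ((⟨X ^ L, X_pow_mem_A Γ hA hL⟩ : ↥A) • N))
    (c₁ c₂ : ℕ)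
    (hc₁ : relLen ((⟨X ^ L, X_pow_mem_A Γ hA hL⟩ : ↥A) • N)
      (colonX n' ((⟨X ^ L, X_pow_mem_A Γ hA hL⟩ : ↥A) • N)) = (c₁ : ℕ∞))
    (hc₂ : relLen (colonN (fun j => (X : k⟦X⟧) ^ s j) N) N = (c₂ : ℕ∞)) :
    Module.length ↥A (Ext.{w} (ModuleCat.of ↥A ↥(modM ↥A (fun j => (X : k⟦X⟧) ^ s j)))
      (ModuleCat.of ↥A ↥N) 1) = ((r * c₁ - c₂ : ℕ) : ℕ∞) := by
  have hd : ∀ e : k⟦X⟧, algebraMap ↥A k⟦X⟧ ⟨X ^ L, X_pow_mem_A Γ hA hL⟩ * e = 0 → e = 0 := by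
    intro e he
    change (X : k⟦X⟧) ^ L * e = 0 at he
    rcases mul_eq_zero.mp he with h | h
    · exact absurd h (pow_ne_zero _ X_ne_zero)
    · exact h
  have hg' : ∀ j : Fin r, algebraMap ↥A k⟦X⟧
      ((fun j : Fin r => (⟨X ^ (L + s j), X_pow_mem_A Γ hA (hLs j)⟩ : ↥A)) j) =
      algebraMap ↥A k⟦X⟧ ⟨X ^ L, X_pow_mem_A Γ hA hL⟩ *
        (fun j : Fin r => (X : k⟦X⟧) ^ s j) j := by
    intro j
    change (X : k⟦X⟧) ^ (L + s j) = X ^ L * X ^ s j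
    rw [pow_add]
  rw [length_ext_one_eq.{w} Subtype.val_injective (fun j : Fin r => (X : k⟦X⟧) ^ s j)
    ⟨X ^ L, X_pow_mem_A Γ hA hL⟩ hd _ hg' N]
  have h1 := relLen_modD_modH_of_pi Subtype.val_injective (fun j : Fin r => (X : k⟦X⟧) ^ s j)
    ⟨X ^ L, X_pow_mem_A Γ hA hL⟩ hd _ hg' N _ hH
  have h2 : (r : ℕ∞) * relLen ((⟨X ^ L, X_pow_mem_A Γ hA hL⟩ : ↥A) • N)
      (colonX n' ((⟨X ^ L, X_pow_mem_A Γ hA hL⟩ : ↥A) • N)) = ((r * c₁ : ℕ) : ℕ∞) := by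
    rw [hc₁]
    push_cast
    rfl
  have h1 := h1.trans h2
  rw [hc₂] at h1
  obtain ⟨x, hx, hx'⟩ := enat_aux _ _ _ (h1 :
    relLen (modD ↥A (fun j : Fin r => (X : k⟦X⟧) ^ s j) ⟨X ^ L, X_pow_mem_A Γ hA hL⟩ N)
      (modH ↥A (fun j : Fin r => (X : k⟦X⟧) ^ s j) ⟨X ^ L, X_pow_mem_A Γ hA hL⟩ N) +
      ((c₂ : ℕ) : ℕ∞) = ((r * c₁ : ℕ) : ℕ∞))
  rw [hx]
  congr 1
  omega

end main

end Groth.Agent.H3.ExtP
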