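import Mathlib
import Groth.Agent.Lib.Helper3.ExtF

/-! helper3: `Ext¹` lengths of monomial modules over the cubical ring `k + X^n k⟦X⟧`. -/

set_option autoImplicit false
universe w u

open PowerSeries Pointwise CategoryTheory CategoryTheory.Abelian
open Groth.Agent.H3.Gor Groth.Agent.H3.VS

namespace Groth.Agent.H3.ExtP

variable {k : Type u} [Field k] {A : Subalgebra k k⟦X⟧} (n : ℕ)
  (hA : ∀ f : k⟦X⟧, f ∈ A ↔ ∀ m : ℕ, coeff m f ≠ 0 → m ∈ {m | m = 0 ∨ n ≤ m})

include hA in
/-- over the cubical ring, `H` is a product of colon modules. -/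
theorem modH_cubical {r : ℕ} (s : Fin r → ℕ) (hs : Function.Injective s)
    (hs1 : ∀ j, 0 < s j) (hs2 : ∀ j, s j < n) (L : ℕ) (hL : L ∈ {m | m = 0 ∨ n ≤ m})
    (N : Submodule ↥A k⟦X⟧) :
    modH ↥A (fun j => (X : k⟦X⟧) ^ s j) ⟨X ^ L, X_pow_mem_A _ hA hL⟩ N =
      Submodule.pi Set.univ fun _ : Fin r =>
        colonX n ((⟨X ^ L, X_pow_mem_A _ hA hL⟩ : ↥A) • N) := by
  classical
  ext y
  rw [Submodule.mem_pi]
  constructor
  · intro hy j _ p hp
    have hpA : p ∈ A := by
      rw [hA]
      intro t ht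
      exact Or.inr (hp t ht)
    have hpX : p * X ^ s j ∈ A := by
      rw [hA]
      intro t ht
      rw [coeff_mul_X_pow'] at ht
      by_cases hst : s j ≤ t
      · rw [if_pos hst] at ht
        have := hp _ ht
        rw [Set.mem_ofPred_eq] at this
        right
        omega
      · rw [if_neg hst] at ht
        exact absurd rfl ht
    have h1 := hy (Pi.single j ⟨p, hpA⟩) ⟨⟨p * X ^ s j, hpX⟩, by
      rw [Finset.sum_eq_single j]
      · rw [Pi.single_eq_same]
        rfl
      · intro i _ hij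
        rw [Pi.single_eq_of_ne hij, zero_smul]
      · intro h
        exact absurd (Finset.mem_univ j) h⟩
    rw [Finset.sum_eq_single j] at h1
    · rw [Pi.single_eq_same] at h1
      exact h1
    · intro i _ hij
      rw [Pi.single_eq_of_ne hij, zero_smul]
    · intro h
      exact absurd (Finset.mem_univ j) h
  · intro hy a ha
    obtain ⟨b, hb⟩ := ha
    have hb' : (b : k⟦X⟧) = ∑ j, (a j : k⟦X⟧) * X ^ s j := hb
    -- each `a j` has no constant term
    have h0 : ∀ i, coeff 0 (a i : k⟦X⟧) = 0 := by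
      intro i
      have h1 : coeff (s i) (b : k⟦X⟧) = 0 := by
        by_contra hne
        have := (hA _).mp b.2 _ hne
        rw [Set.mem_ofPred_eq] at this
        have h2 := hs1 i
        have h3 := hs2 i
        omega
      rw [hb', map_sum, Finset.sum_eq_single i] at h1
      · rw [coeff_mul_X_pow', if_pos le_rfl, Nat.sub_self] at h1
        exact h1
      · intro j _ hji
        rw [coeff_mul_X_pow']
        split_ifs with hle
        · by_contra hne
          have := (hA _).mp (a j).2 _ hne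
          rw [Set.mem_ofPred_eq] at this
          have h2 : s j ≠ s i := fun h => hji (hs h)
          have h3 := hs2 i
          omega
        · rfl
      · intro h
        exact absurd (Finset.mem_univ i) h
    refine Submodule.sum_mem _ fun j _ => ?_
    apply hy j trivial
    intro t ht
    have := (hA _).mp (a j).2 _ ht
    rw [Set.mem_ofPred_eq] at this ⊢
    rcases this with h | h
    · subst h
      exact absurd (h0 j) ht
    · exact h

variable [HasExt.{w} (ModuleCat.{u} ↥A)]

include hA in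
/-- `ℓ Ext¹(M_i, M_i) = i (n - 2 - i)`. -/
theorem length_ext_cubical_monomial (i : ℕ) (hi : i + 2 ≤ n) :
    Module.length ↥A (Ext.{w}
      (ModuleCat.of ↥A ↥(Submodule.span ↥A ((fun a : ℕ => (X : k⟦X⟧) ^ a) '' Set.Iic i)))
      (ModuleCat.of ↥A ↥(Submodule.span ↥A ((fun a : ℕ => (X : k⟦X⟧) ^ a) '' Set.Iic i))) 1) =
      ((i * (n - 2 - i) : ℕ) : ℕ∞) := by
  classical
  set Γ : Set ℕ := {m | m = 0 ∨ n ≤ m} with hΓ
  set T : Set ℕ := {t | t ≤ i ∨ n ≤ t} with hT
  have hN : IsMono A (Submodule.span ↥A ((fun a : ℕ => (X : k⟦X⟧) ^ a) '' Set.Iic i)) T := by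
    have h1 := isMono_span Γ hA (Finset.range (i + 1))
    have h2 : ((Finset.range (i + 1) : Finset ℕ) : Set ℕ) = Set.Iic i := by
      ext a
      simp only [Finset.coe_range, Set.mem_Iio, Set.mem_Iic]
      omega
    rw [h2] at h1
    refine h1.congr ?_
    ext t
    simp only [Set.mem_ofPred_eq, hT, hΓ, Finset.mem_range]
    constructor
    · rintro ⟨s, hs, γ, hγ, rfl⟩
      omega
    · intro h
      by_cases hti : t ≤ i
      · exact ⟨t, by omega, 0, Or.inl rfl, by omega⟩
      · exact ⟨0, by omega, t, Or.inr (by omega), by omega⟩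
  have hM : Submodule.span ↥A ((fun a : ℕ => (X : k⟦X⟧) ^ a) '' Set.Iic i) =
      modM ↥A (fun j : Fin i => (X : k⟦X⟧) ^ ((j : ℕ) + 1)) := by
    unfold modM
    congr 1
    ext x
    simp only [Set.mem_image, Set.mem_Iic, Set.mem_insert_iff, Set.mem_range]
    constructor
    · rintro ⟨a, ha, rfl⟩
      rcases Nat.eq_zero_or_pos a with h | h
      · left; rw [h, pow_zero]
      · right
        exact ⟨⟨a - 1, by omega⟩, by congr 1; change a - 1 + 1 = a; omega⟩
    · rintro (rfl | ⟨j, rfl⟩)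
      · exact ⟨0, by omega, pow_zero _⟩
      · exact ⟨(j : ℕ) + 1, by have := j.2; omega, rfl⟩
  have hL : n ∈ Γ := Or.inr le_rfl
  have hLs : ∀ j : Fin i, n + ((j : ℕ) + 1) ∈ Γ := fun j => Or.inr (by omega)
  have hH := modH_cubical n hA (fun j : Fin i => (j : ℕ) + 1)
    (fun a b hab => Fin.ext (by simpa using hab)) (fun j => by omega)
    (fun j => by have := j.2; omega) n hL
    (Submodule.span ↥A ((fun a : ℕ => (X : k⟦X⟧) ^ a) '' Set.Iic i))
  have hdN := isMono_smul hN n (X_pow_mem_A Γ hA hL)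
  have hcol := isMono_colonX hdN n
  have hc₁ : relLen ((⟨X ^ n, X_pow_mem_A Γ hA hL⟩ : ↥A) •
      (Submodule.span ↥A ((fun a : ℕ => (X : k⟦X⟧) ^ a) '' Set.Iic i)))
      (colonX n ((⟨X ^ n, X_pow_mem_A Γ hA hL⟩ : ↥A) •
        (Submodule.span ↥A ((fun a : ℕ => (X : k⟦X⟧) ^ a) '' Set.Iic i)))) =
      ((n - 1 - i : ℕ) : ℕ∞) := by
    rw [relLen_eq_card_of_isMono hdN hcol (2 * n) ?_
      ((Finset.range (n - 1 - i)).image (fun t => n + i + 1 + t)) ?_ ?_,
      Finset.card_image_of_injective _ (fun a b hab => by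
        have : n + i + 1 + a = n + i + 1 + b := hab
        omega),
      Finset.card_range]
    · intro m hm
      simp only [Set.mem_ofPred_eq, hT]
      omega
    · intro m
      simp only [Set.mem_ofPred_eq, hT, Finset.mem_image, Finset.mem_range]
      constructor
      · intro H
        have h1 := H n le_rfl
        have h2 := H (n + (i + 1 - m)) (by omega)
        by_cases hm : n + i < m ∧ m < 2 * n
        · right
          exact ⟨m - (n + i + 1), by omega, by omega⟩
        · left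
          omega
      · rintro (H | ⟨t, ht, rfl⟩) γ hγ
        · omega
        · omega
    · intro m hm
      obtain ⟨t, ht, rfl⟩ := Finset.mem_image.mp hm
      rw [Finset.mem_range] at ht
      simp only [Set.mem_ofPred_eq, hT]
      omega
  have hcN := isMono_colonN (fun j : Fin i => (j : ℕ) + 1) hN
  have hc₂ : relLen (colonN (fun j : Fin i => (X : k⟦X⟧) ^ ((j : ℕ) + 1))
      (Submodule.span ↥A ((fun a : ℕ => (X : k⟦X⟧) ^ a) '' Set.Iic i)))
      (Submodule.span ↥A ((fun a : ℕ => (X : k⟦X⟧) ^ a) '' Set.Iic i)) = ((i : ℕ) : ℕ∞) := by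
    rw [relLen_eq_card_of_isMono hcN hN n ?_
      ((Finset.range i).image (fun t => t + 1)) ?_ ?_,
      Finset.card_image_of_injective _ (fun a b hab => by
        have : a + 1 = b + 1 := hab
        omega),
      Finset.card_range]
    · intro m hm
      simp only [Set.mem_ofPred_eq, hT]
      refine ⟨Or.inr hm, fun j => Or.inr (by omega)⟩
    · intro m
      simp only [Set.mem_ofPred_eq, hT, Finset.mem_image, Finset.mem_range]
      constructor
      · intro H
        by_cases hm : 1 ≤ m ∧ m ≤ i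
        · right
          exact ⟨m - 1, by omega, by omega⟩
        · left
          refine ⟨H, fun j => ?_⟩
          have := j.2
          omega
      · rintro (⟨H, -⟩ | ⟨t, ht, rfl⟩)
        · exact H
        · left; omega
    · intro m hm
      obtain ⟨t, ht, rfl⟩ := Finset.mem_image.mp hm
      rw [Finset.mem_range] at ht
      simp only [Set.mem_ofPred_eq, hT, not_and, not_forall]
      intro _
      refine ⟨⟨i - (t + 1), by omega⟩, ?_⟩
      change ¬ (i - (t + 1) + 1 + (t + 1) ≤ i ∨ n ≤ i - (t + 1) + 1 + (t + 1))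
      omega
  rw [hM] at hH hc₁ hc₂ hN ⊢
  rw [length_ext_one_of_pi.{w} Γ hA (fun j : Fin i => (j : ℕ) + 1) n hL hLs _ n hH _ _ hc₁ hc₂]
  congr 1
  have : n - 1 - i = (n - 2 - i) + 1 := by omega
  rw [this, Nat.mul_succ, Nat.add_sub_cancel]

include hA in
/-- `ℓ Ext¹(R_{n-i}, R_{n-i}) = i (n - 1)`. -/
theorem length_ext_cubical_partial (i : ℕ) (hi : i + 2 ≤ n) :
    Module.length ↥A (Ext.{w}
      (ModuleCat.of ↥A ↥(Submodule.span ↥A
        ((fun a : ℕ => (X : k⟦X⟧) ^ a) '' ({0} ∪ Set.Icc (n - i) (n - 1)))))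
      (ModuleCat.of ↥A ↥(Submodule.span ↥A
        ((fun a : ℕ => (X : k⟦X⟧) ^ a) '' ({0} ∪ Set.Icc (n - i) (n - 1))))) 1) =
      ((i * (n - 1) : ℕ) : ℕ∞) := by
  classical
  set Γ : Set ℕ := {m | m = 0 ∨ n ≤ m} with hΓ
  set T : Set ℕ := {t | t = 0 ∨ n - i ≤ t} with hT
  have hN : IsMono A (Submodule.span ↥A
      ((fun a : ℕ => (X : k⟦X⟧) ^ a) '' ({0} ∪ Set.Icc (n - i) (n - 1)))) T := by
    have h1 := isMono_span Γ hA (insert 0 (Finset.Icc (n - i) (n - 1)))
    have h2 : ((insert 0 (Finset.Icc (n - i) (n - 1)) : Finset ℕ) : Set ℕ) =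
        {0} ∪ Set.Icc (n - i) (n - 1) := by
      rw [Finset.coe_insert, Finset.coe_Icc]
      rfl
    rw [h2] at h1
    refine h1.congr ?_
    ext t
    simp only [Set.mem_ofPred_eq, hT, hΓ, Finset.mem_insert, Finset.mem_Icc]
    constructor
    · rintro ⟨s, hs | hs, γ, hγ, rfl⟩ <;> omega
    · intro h
      by_cases ht : n - i ≤ t ∧ t ≤ n - 1
      · exact ⟨t, Or.inr ht, 0, Or.inl rfl, by omega⟩
      · exact ⟨0, Or.inl rfl, t, by omega, by omega⟩
  have hM : Submodule.span ↥A
      ((fun a : ℕ => (X : k⟦X⟧) ^ a) '' ({0} ∪ Set.Icc (n - i) (n - 1))) =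
      modM ↥A (fun j : Fin i => (X : k⟦X⟧) ^ (n - i + (j : ℕ))) := by
    unfold modM
    congr 1
    ext x
    simp only [Set.mem_image, Set.mem_union, Set.mem_singleton_iff, Set.mem_Icc,
      Set.mem_insert_iff, Set.mem_range]
    constructor
    · rintro ⟨a, ha | ha, rfl⟩
      · left; rw [ha, pow_zero]
      · right
        exact ⟨⟨a - (n - i), by omega⟩, by congr 1; change n - i + (a - (n - i)) = a; omega⟩
    · rintro (rfl | ⟨j, rfl⟩)
      · exact ⟨0, Or.inl rfl, pow_zero _⟩
      · exact ⟨n - i + (j : ℕ), Or.inr (by have := j.2; omega), rfl⟩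
  have hL : n ∈ Γ := Or.inr le_rfl
  have hLs : ∀ j : Fin i, n + (n - i + (j : ℕ)) ∈ Γ := fun j => Or.inr (by omega)
  have hH := modH_cubical n hA (fun j : Fin i => n - i + (j : ℕ))
    (fun a b hab => Fin.ext (by simp only at hab; omega)) (fun j => by omega)
    (fun j => by have := j.2; omega) n hL
    (Submodule.span ↥A ((fun a : ℕ => (X : k⟦X⟧) ^ a) '' ({0} ∪ Set.Icc (n - i) (n - 1))))
  have hdN := isMono_smul hN n (X_pow_mem_A Γ hA hL)
  have hcol := isMono_colonX hdN n
  have hc₁ : relLen ((⟨X ^ n, X_pow_mem_A Γ hA hL⟩ : ↥A) •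
      (Submodule.span ↥A ((fun a : ℕ => (X : k⟦X⟧) ^ a) '' ({0} ∪ Set.Icc (n - i) (n - 1)))))
      (colonX n ((⟨X ^ n, X_pow_mem_A Γ hA hL⟩ : ↥A) •
        (Submodule.span ↥A
          ((fun a : ℕ => (X : k⟦X⟧) ^ a) '' ({0} ∪ Set.Icc (n - i) (n - 1)))))) =
      ((n - 1 : ℕ) : ℕ∞) := by
    rw [relLen_eq_card_of_isMono hdN hcol (2 * n) ?_
      ((Finset.Ico (n - i) (2 * n - i)).erase n) ?_ ?_,
      Finset.card_erase_of_mem (Finset.mem_Ico.mpr ⟨by omega, by omega⟩), Nat.card_Ico]
    · congr 1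
      omega
    · intro m hm
      simp only [Set.mem_ofPred_eq, hT]
      omega
    · intro m
      simp only [Set.mem_ofPred_eq, hT, Finset.mem_erase, Finset.mem_Ico]
      constructor
      · intro H
        have h1 := H n le_rfl
        have h2 := H (n + 1) (by omega)
        omega
      · rintro (H | H) γ hγ <;> omega
    · intro m hm
      rw [Finset.mem_erase, Finset.mem_Ico] at hm
      simp only [Set.mem_ofPred_eq, hT]
      omega
  have hcN := isMono_colonN (fun j : Fin i => n - i + (j : ℕ)) hN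
  have hc₂ : relLen (colonN (fun j : Fin i => (X : k⟦X⟧) ^ (n - i + (j : ℕ)))
      (Submodule.span ↥A ((fun a : ℕ => (X : k⟦X⟧) ^ a) '' ({0} ∪ Set.Icc (n - i) (n - 1)))))
      (Submodule.span ↥A ((fun a : ℕ => (X : k⟦X⟧) ^ a) '' ({0} ∪ Set.Icc (n - i) (n - 1)))) =
      ((0 : ℕ) : ℕ∞) := by
    rw [relLen_eq_card_of_isMono hcN hN n ?_ ∅ ?_ ?_, Finset.card_empty]
    · intro m hm
      simp only [Set.mem_ofPred_eq, hT]
      refine ⟨Or.inr (by omega), fun j => Or.inr (by omega)⟩
    · intro m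
      simp only [Set.mem_ofPred_eq, hT, Finset.notMem_empty, or_false]
      constructor
      · intro H
        exact ⟨H, fun j => Or.inr (by omega)⟩
      · intro H
        exact H.1
    · intro m hm
      exact absurd hm (Finset.notMem_empty m)
  rw [hM] at hH hc₁ hc₂ hN ⊢
  rw [length_ext_one_of_pi.{w} Γ hA (fun j : Fin i => n - i + (j : ℕ)) n hL hLs _ n hH _ _ hc₁ hc₂]
  congr 1

end Groth.Agent.H3.ExtP
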