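import Mathlib
import Groth.Agent.Lib.Helper3.ExtCub

/-! helper3: invariance of `Ext` lengths under isomorphisms, and `χ₁` of the normalisation of the
cubical ring. -/

set_option autoImplicit false
universe w u

open PowerSeries Pointwise CategoryTheory CategoryTheory.Abelian
open Groth.Agent.H3.Gor Groth.Agent.H3.VS

namespace Groth.Agent.H3.ExtP

section congr

variable {A : Type u} [CommRing A] [HasExt.{w} (ModuleCat.{u} A)]

/-- `Ext` lengths are invariant under isomorphisms. -/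
theorem length_ext_congr {X X' Y Y' : ModuleCat.{u} A} (φ : X ≅ X') (ψ : Y ≅ Y') (i : ℕ) :
    Module.length A (Ext.{w} X Y i) = Module.length A (Ext.{w} X' Y' i) := by
  let Φ : Ext.{w} X Y i →ₗ[A] Ext.{w} X' Y' i :=
    (Ext.precompOfLinear (Ext.mk₀ φ.inv) A Y' (zero_add i)) ∘ₗ
      (Ext.postcompOfLinear (Ext.mk₀ ψ.hom) A X (add_zero i))
  let Ψ : Ext.{w} X' Y' i →ₗ[A] Ext.{w} X Y i :=
    (Ext.precompOfLinear (Ext.mk₀ φ.hom) A Y (zero_add i)) ∘ₗ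
      (Ext.postcompOfLinear (Ext.mk₀ ψ.inv) A X' (add_zero i))
  have h1 : ∀ x, Ψ (Φ x) = x := by
    intro x
    change (Ext.mk₀ φ.hom).comp (((Ext.mk₀ φ.inv).comp (x.comp (Ext.mk₀ ψ.hom) (add_zero i))
      (zero_add i)).comp (Ext.mk₀ ψ.inv) (add_zero i)) (zero_add i) = x
    rw [Ext.comp_assoc_of_third_deg_zero, Ext.comp_assoc_of_third_deg_zero, Ext.mk₀_comp_mk₀,
      ψ.hom_inv_id, Ext.comp_mk₀_id, Ext.mk₀_comp_mk₀_assoc, φ.hom_inv_id, Ext.mk₀_id_comp]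
  have h2 : ∀ x, Φ (Ψ x) = x := by
    intro x
    change (Ext.mk₀ φ.inv).comp (((Ext.mk₀ φ.hom).comp (x.comp (Ext.mk₀ ψ.inv) (add_zero i))
      (zero_add i)).comp (Ext.mk₀ ψ.hom) (add_zero i)) (zero_add i) = x
    rw [Ext.comp_assoc_of_third_deg_zero, Ext.comp_assoc_of_third_deg_zero, Ext.mk₀_comp_mk₀,
      ψ.inv_hom_id, Ext.comp_mk₀_id, Ext.mk₀_comp_mk₀_assoc, φ.inv_hom_id, Ext.mk₀_id_comp]
  exact (LinearEquiv.ofLinear Φ Ψ (LinearMap.ext h2) (LinearMap.ext h1)).length_eq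

end congr

variable {k : Type u} [Field k] {A : Subalgebra k k⟦X⟧} (n : ℕ)
  (hA : ∀ f : k⟦X⟧, f ∈ A ↔ ∀ m : ℕ, coeff m f ≠ 0 → m ∈ {m | m = 0 ∨ n ≤ m})

theorem isMono_top : IsMono A (⊤ : Submodule ↥A k⟦X⟧) Set.univ := by
  intro f
  simp

include hA in
theorem isMono_one : IsMono A (LinearMap.range (Algebra.linearMap ↥A k⟦X⟧))
    {m | m = 0 ∨ n ≤ m} := by
  intro f
  rw [← hA]
  constructor
  · rintro ⟨a, rfl⟩
    exact a.2
  · intro hf
    exact ⟨⟨f, hf⟩, rfl⟩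

include hA in
/-- `ℓ(k⟦X⟧ / A) = n - 1`. -/
theorem length_quot_one (hn : 2 ≤ n) :
    Module.length ↥A (k⟦X⟧ ⧸ LinearMap.range (Algebra.linearMap ↥A k⟦X⟧)) =
      ((n - 1 : ℕ) : ℕ∞) := by
  classical
  have h1 : relLen (LinearMap.range (Algebra.linearMap ↥A k⟦X⟧)) (⊤ : Submodule ↥A k⟦X⟧) =
      ((n - 1 : ℕ) : ℕ∞) := by
    rw [relLen_eq_card_of_isMono (isMono_one n hA) isMono_top n ?_
      ((Finset.range (n - 1)).image (fun t => t + 1)) ?_ ?_,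
      Finset.card_image_of_injective _ (fun a b hab => by
        have : a + 1 = b + 1 := hab
        omega), Finset.card_range]
    · intro m hm
      exact Or.inr hm
    · intro m
      simp only [Set.mem_univ, Set.mem_ofPred_eq, Finset.mem_image, Finset.mem_range, true_iff]
      by_cases hm : m = 0 ∨ n ≤ m
      · exact Or.inl hm
      · exact Or.inr ⟨m - 1, by omega, by omega⟩
    · intro m hm
      obtain ⟨t, ht, rfl⟩ := Finset.mem_image.mp hm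
      rw [Finset.mem_range] at ht
      simp only [Set.mem_ofPred_eq]
      omega
  rw [← h1, relLen_def]
  symm
  refine (Submodule.Quotient.equiv _ _ Submodule.topEquiv ?_).length_eq
  ext y
  rw [Submodule.mem_map]
  constructor
  · rintro ⟨x, hx, rfl⟩
    exact hx
  · intro hy
    exact ⟨⟨y, trivial⟩, hy, rfl⟩

include hA in
/-- evaluation at `1` identifies `End_A(k⟦X⟧)` with `k⟦X⟧`. -/
theorem apply_eq_mul (hn : 1 ≤ n) (φ : k⟦X⟧ →ₗ[↥A] k⟦X⟧) (p : k⟦X⟧) : φ p = p * φ 1 := by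
  have hXn : (X : k⟦X⟧) ^ n ∈ A := X_pow_mem_A _ hA (Or.inr le_rfl)
  have hXp : (X : k⟦X⟧) ^ n * p ∈ A := by
    rw [hA]
    intro t ht
    rw [coeff_X_pow_mul'] at ht
    by_cases hnt : n ≤ t
    · exact Or.inr hnt
    · rw [if_neg hnt] at ht
      exact absurd rfl ht
  have h1 : φ ((⟨X ^ n * p, hXp⟩ : ↥A) • (1 : k⟦X⟧)) = (X ^ n * p) * φ 1 := by
    rw [map_smul]
    rfl
  have h2 : φ ((⟨X ^ n, hXn⟩ : ↥A) • p) = X ^ n * φ p := by
    rw [map_smul]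
    rfl
  have h3 : ((⟨X ^ n * p, hXp⟩ : ↥A) • (1 : k⟦X⟧)) = (⟨X ^ n, hXn⟩ : ↥A) • p := by
    change (X ^ n * p) * 1 = X ^ n * p
    rw [mul_one]
  rw [h3, h2] at h1
  have h4 : (X : k⟦X⟧) ^ n * φ p = X ^ n * (p * φ 1) := by rw [h1]; ring
  exact mul_left_cancel₀ (pow_ne_zero _ X_ne_zero) h4

include hA in
/-- `ℓ(End_A(k⟦X⟧) / A) = n - 1`. -/
theorem length_end_quot (hn : 2 ≤ n) :
    Module.length ↥A ((k⟦X⟧ →ₗ[↥A] k⟦X⟧) ⧸ LinearMap.range
      (Algebra.lsmul ↥A ↥A k⟦X⟧ : ↥A →ₐ[↥A] Module.End ↥A k⟦X⟧).toLinearMap) =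
      ((n - 1 : ℕ) : ℕ∞) := by
  rw [← length_quot_one n hA hn]
  let ev : (k⟦X⟧ →ₗ[↥A] k⟦X⟧) ≃ₗ[↥A] k⟦X⟧ :=
    LinearEquiv.ofBijective (LinearMap.applyₗ (1 : k⟦X⟧))
      ⟨fun φ ψ h => by
          ext p
          have h' : φ 1 = ψ 1 := h
          rw [apply_eq_mul n hA (by omega) φ p, apply_eq_mul n hA (by omega) ψ p, h'],
        fun q => ⟨LinearMap.mulLeft ↥A q, by
          change q * 1 = q
          rw [mul_one]⟩⟩
  refine (Submodule.Quotient.equiv _ _ ev ?_).length_eq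
  ext y
  rw [Submodule.mem_map]
  constructor
  · rintro ⟨_, ⟨a, rfl⟩, rfl⟩
    refine ⟨a, ?_⟩
    change (a : k⟦X⟧) = (a : k⟦X⟧) * 1
    rw [mul_one]
  · rintro ⟨a, rfl⟩
    refine ⟨_, ⟨a, rfl⟩, ?_⟩
    change (a : k⟦X⟧) * 1 = (a : k⟦X⟧)
    rw [mul_one]

variable [HasExt.{w} (ModuleCat.{u} ↥A)]

include hA in
/-- `ℓ Ext¹_A(k⟦X⟧, k⟦X⟧) = (n - 1) n`. -/
theorem length_ext_cubical_top (hn : 2 ≤ n) :
    Module.length ↥A (Ext.{w} (ModuleCat.of ↥A k⟦X⟧) (ModuleCat.of ↥A k⟦X⟧) 1) =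
      (((n - 1) * n : ℕ) : ℕ∞) := by
  classical
  set Γ : Set ℕ := {m | m = 0 ∨ n ≤ m} with hΓ
  have hspan : IsMono A (Submodule.span ↥A ((fun a : ℕ => (X : k⟦X⟧) ^ a) ''
      ((Finset.range n : Finset ℕ) : Set ℕ))) Set.univ := by
    refine (isMono_span Γ hA (Finset.range n)).congr ?_
    ext t
    simp only [Set.mem_ofPred_eq, Set.mem_univ, iff_true, Finset.mem_range, hΓ]
    by_cases ht : t < n
    · exact ⟨t, ht, 0, Or.inl rfl, by omega⟩
    · exact ⟨0, by omega, t, Or.inr (by omega), by omega⟩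
  have hM : modM ↥A (fun j : Fin (n - 1) => (X : k⟦X⟧) ^ ((j : ℕ) + 1)) = ⊤ := by
    refine IsMono.eq ?_ isMono_top
    have : modM ↥A (fun j : Fin (n - 1) => (X : k⟦X⟧) ^ ((j : ℕ) + 1)) =
        Submodule.span ↥A ((fun a : ℕ => (X : k⟦X⟧) ^ a) ''
          ((Finset.range n : Finset ℕ) : Set ℕ)) := by
      unfold modM
      congr 1
      ext x
      simp only [Set.mem_image, Finset.coe_range, Set.mem_Iio, Set.mem_insert_iff, Set.mem_range]
      constructor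
      · rintro (rfl | ⟨j, rfl⟩)
        · exact ⟨0, by omega, pow_zero _⟩
        · exact ⟨(j : ℕ) + 1, by have := j.2; omega, rfl⟩
      · rintro ⟨a, ha, rfl⟩
        rcases Nat.eq_zero_or_pos a with h | h
        · left; rw [h, pow_zero]
        · right
          exact ⟨⟨a - 1, by omega⟩, by congr 1; change a - 1 + 1 = a; omega⟩
    rw [this]
    exact hspan
  have hL : n ∈ Γ := Or.inr le_rfl
  have hLs : ∀ j : Fin (n - 1), n + ((j : ℕ) + 1) ∈ Γ := fun j => Or.inr (by omega)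
  have hH := modH_cubical n hA (fun j : Fin (n - 1) => (j : ℕ) + 1)
    (fun a b hab => Fin.ext (by simpa using hab)) (fun j => by omega)
    (fun j => by have := j.2; omega) n hL (⊤ : Submodule ↥A k⟦X⟧)
  have hdN := isMono_smul (isMono_top (A := A)) n (X_pow_mem_A Γ hA hL)
  have hcol := isMono_colonX hdN n
  have hc₁ : relLen ((⟨X ^ n, X_pow_mem_A Γ hA hL⟩ : ↥A) • (⊤ : Submodule ↥A k⟦X⟧))
      (colonX n ((⟨X ^ n, X_pow_mem_A Γ hA hL⟩ : ↥A) • (⊤ : Submodule ↥A k⟦X⟧))) =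
      ((n : ℕ) : ℕ∞) := by
    rw [relLen_eq_card_of_isMono hdN hcol n ?_ (Finset.range n) ?_ ?_, Finset.card_range]
    · intro m hm
      simp only [Set.mem_ofPred_eq, Set.mem_univ, and_true]
      exact hm
    · intro m
      simp only [Set.mem_ofPred_eq, Set.mem_univ, and_true, Finset.mem_range]
      constructor
      · intro _
        omega
      · intro _ γ hγ
        omega
    · intro m hm
      rw [Finset.mem_range] at hm
      simp only [Set.mem_ofPred_eq, Set.mem_univ, and_true]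
      omega
  have hcN := isMono_colonN (fun j : Fin (n - 1) => (j : ℕ) + 1) (isMono_top (A := A))
  have hc₂ : relLen (colonN (fun j : Fin (n - 1) => (X : k⟦X⟧) ^ ((j : ℕ) + 1))
      (⊤ : Submodule ↥A k⟦X⟧)) (⊤ : Submodule ↥A k⟦X⟧) = ((0 : ℕ) : ℕ∞) := by
    rw [relLen_eq_card_of_isMono hcN isMono_top 0 ?_ ∅ ?_ ?_, Finset.card_empty]
    · intro m _
      simp
    · intro m
      simp
    · intro m hm
      exact absurd hm (Finset.notMem_empty m)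
  have h1 := length_ext_one_of_pi.{w} Γ hA (fun j : Fin (n - 1) => (j : ℕ) + 1) n hL hLs ⊤ n hH
    _ _ hc₁ hc₂
  rw [Nat.sub_zero] at h1
  rw [← h1]
  symm
  have e1 : (ModuleCat.of ↥A ↥(modM ↥A (fun j : Fin (n - 1) => (X : k⟦X⟧) ^ ((j : ℕ) + 1)))) ≅
      ModuleCat.of ↥A k⟦X⟧ :=
    ((LinearEquiv.ofEq _ _ hM).trans Submodule.topEquiv).toModuleIso
  have e2 : (ModuleCat.of ↥A ↥(⊤ : Submodule ↥A k⟦X⟧)) ≅ ModuleCat.of ↥A k⟦X⟧ :=
    (Submodule.topEquiv).toModuleIso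
  exact length_ext_congr.{w} e1 e2 1

end Groth.Agent.H3.ExtP
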