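import Mathlib
import Groth.Agent.Lib.Helper3.ExtG

/-! helper3: `Ext¹` of the rank one torsion-free modules over the two-branch singularity
`A_{2δ-1}`, `O = {(f, g) | f ≡ g mod X^δ} ⊆ k⟦X⟧ × k⟦X⟧`. -/

set_option autoImplicit false
universe w u

open PowerSeries Pointwise CategoryTheory CategoryTheory.Abelian
open Groth.Agent.H3.Gor Groth.Agent.H3.ExtP

namespace Groth.Agent.H3.ExtBr

/-- covering criterion via a functional. -/
theorem covBy_of_functional {k O E : Type*} [Field k] [CommRing O] [Algebra k O] [AddCommGroup E]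
    [Module k E] [Module O E] [IsScalarTower k O E] (P Q : Submodule O E) (φ : E →ₗ[k] k)
    (hP : ∀ x, x ∈ P ↔ x ∈ Q ∧ φ x = 0) (q : E) (hq : q ∈ Q) (hφq : φ q ≠ 0) : P ⋖ Q := by
  have hPQ : P ≤ Q := fun x hx => ((hP x).mp hx).1
  refine ⟨lt_of_le_of_ne hPQ ?_, ?_⟩
  · intro h
    rw [← h] at hq
    exact hφq ((hP q).mp hq).2
  · intro Z hPZ hZQ
    obtain ⟨z, hzZ, hzP⟩ := SetLike.exists_of_lt hPZ
    have hzQ : z ∈ Q := hZQ.le hzZ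
    have hφz : φ z ≠ 0 := fun h => hzP ((hP z).mpr ⟨hzQ, h⟩)
    apply hZQ.ne
    apply le_antisymm hZQ.le
    intro w hw
    have h1 : w - (φ w / φ z) • z ∈ P := by
      rw [hP]
      refine ⟨Q.sub_mem hw ?_, ?_⟩
      · rw [← algebraMap_smul O (φ w / φ z) z]
        exact Q.smul_mem _ hzQ
      · rw [map_sub, map_smul, smul_eq_mul, div_mul_cancel₀ _ hφz, sub_self]
    have h2 : (φ w / φ z) • z ∈ Z := by
      rw [← algebraMap_smul O (φ w / φ z) z]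
      exact Z.smul_mem _ hzZ
    have := Z.add_mem (hPZ.le h1) h2
    rwa [sub_add_cancel] at this

variable {k : Type u} [Field k]

section W

variable (δ : ℕ) (O : Subalgebra k (k⟦X⟧ × k⟦X⟧))
  (hO : ∀ f : k⟦X⟧ × k⟦X⟧, f ∈ O ↔ (X : k⟦X⟧) ^ δ ∣ f.1 - f.2)

/-- `W(a, b) = {(f, g) | X^a ∣ f - g, X^b ∣ g}`. -/
def W (a b : ℕ) : Submodule ↥O (k⟦X⟧ × k⟦X⟧) where
  carrier := {y | (X : k⟦X⟧) ^ (min a (b + δ)) ∣ y.1 - y.2 ∧ (X : k⟦X⟧) ^ b ∣ y.2}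
  add_mem' := by
    rintro y y' ⟨h1, h2⟩ ⟨h1', h2'⟩
    refine ⟨?_, dvd_add h2 h2'⟩
    have : (y + y').1 - (y + y').2 = (y.1 - y.2) + (y'.1 - y'.2) := by
      rw [Prod.fst_add, Prod.snd_add]
      ring
    rw [this]
    exact dvd_add h1 h1'
  zero_mem' := by
    refine ⟨?_, dvd_zero _⟩
    rw [Prod.fst_zero, Prod.snd_zero, sub_self]
    exact dvd_zero _
  smul_mem' := by
    rintro ⟨x, hx⟩ y ⟨h1, h2⟩
    have hx' := (hO x).mp hx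
    change (X : k⟦X⟧) ^ (min a (b + δ)) ∣ x.1 * y.1 - x.2 * y.2 ∧ (X : k⟦X⟧) ^ b ∣ x.2 * y.2
    refine ⟨?_, h2.mul_left _⟩
    have : x.1 * y.1 - x.2 * y.2 = x.1 * (y.1 - y.2) + (x.1 - x.2) * y.2 := by ring
    rw [this]
    refine dvd_add (h1.mul_left _) ?_
    refine dvd_trans (pow_dvd_pow X (min_le_right a (b + δ))) ?_
    rw [add_comm, pow_add]
    exact mul_dvd_mul hx' h2

variable {δ O hO}

theorem mem_W {a b : ℕ} (hab : a ≤ b + δ) (y : k⟦X⟧ × k⟦X⟧) :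
    y ∈ W δ O hO a b ↔ (X : k⟦X⟧) ^ a ∣ y.1 - y.2 ∧ (X : k⟦X⟧) ^ b ∣ y.2 := by
  change (X : k⟦X⟧) ^ (min a (b + δ)) ∣ y.1 - y.2 ∧ (X : k⟦X⟧) ^ b ∣ y.2 ↔ _
  rw [min_eq_left hab]

theorem W_mono {a b a' b' : ℕ} (hab : a ≤ b + δ) (hab' : a' ≤ b' + δ) (ha : a ≤ a')
    (hb : b ≤ b') : W δ O hO a' b' ≤ W δ O hO a b := by
  intro y hy
  rw [mem_W hab'] at hy
  rw [mem_W hab]
  exact ⟨dvd_trans (pow_dvd_pow X ha) hy.1, dvd_trans (pow_dvd_pow X hb) hy.2⟩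

theorem X_pow_succ_dvd_iff (n : ℕ) (f : k⟦X⟧) :
    (X : k⟦X⟧) ^ (n + 1) ∣ f ↔ (X : k⟦X⟧) ^ n ∣ f ∧ coeff n f = 0 := by
  rw [X_pow_dvd_iff, X_pow_dvd_iff]
  constructor
  · intro h
    exact ⟨fun m hm => h m (by omega), h n (by omega)⟩
  · rintro ⟨h1, h2⟩ m hm
    rcases Nat.lt_succ_iff_lt_or_eq.mp hm with h | h
    · exact h1 m h
    · rw [h]
      exact h2

theorem covBy_b {a b : ℕ} (hab : a ≤ b + δ) : W δ O hO a (b + 1) ⋖ W δ O hO a b := by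
  have hab' : a ≤ b + 1 + δ := by omega
  refine covBy_of_functional (k := k) _ _
    ((coeff b : k⟦X⟧ →ₗ[k] k) ∘ₗ LinearMap.snd k k⟦X⟧ k⟦X⟧) ?_ ((X : k⟦X⟧) ^ b, (X : k⟦X⟧) ^ b)
    ?_ ?_
  · intro y
    rw [mem_W hab', mem_W hab, X_pow_succ_dvd_iff]
    change _ ↔ _ ∧ coeff b y.2 = 0
    tauto
  · rw [mem_W hab]
    refine ⟨?_, dvd_rfl⟩
    change (X : k⟦X⟧) ^ a ∣ X ^ b - X ^ b
    rw [sub_self]
    exact dvd_zero _
  · change coeff b ((X : k⟦X⟧) ^ b) ≠ 0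
    rw [coeff_X_pow_self]
    exact one_ne_zero

theorem covBy_a {a b : ℕ} (hab : a + 1 ≤ b + δ) : W δ O hO (a + 1) b ⋖ W δ O hO a b := by
  have hab' : a ≤ b + δ := by omega
  refine covBy_of_functional (k := k) _ _
    ((coeff a : k⟦X⟧ →ₗ[k] k) ∘ₗ (LinearMap.fst k k⟦X⟧ k⟦X⟧ - LinearMap.snd k k⟦X⟧ k⟦X⟧)) ?_
    ((X : k⟦X⟧) ^ a, 0) ?_ ?_
  · intro y
    rw [mem_W hab, mem_W hab', X_pow_succ_dvd_iff]
    change _ ↔ _ ∧ coeff a (y.1 - y.2) = 0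
    tauto
  · rw [mem_W hab']
    refine ⟨?_, dvd_zero _⟩
    change (X : k⟦X⟧) ^ a ∣ X ^ a - 0
    rw [sub_zero]
  · change coeff a ((X : k⟦X⟧) ^ a - 0) ≠ 0
    rw [sub_zero, coeff_X_pow_self]
    exact one_ne_zero

theorem relLen_b {a b : ℕ} (hab : a ≤ b + δ) (c : ℕ) :
    relLen (W δ O hO a (b + c)) (W δ O hO a b) = (c : ℕ∞) := by
  induction c with
  | zero =>
    rw [add_zero, relLen_self]
    rfl
  | succ c ih =>
    have e : b + (c + 1) = b + c + 1 := rfl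
    rw [e, relLen_add (W δ O hO a (b + c + 1)) (W δ O hO a (b + c)) (W δ O hO a b)
      (W_mono (by omega) (by omega) le_rfl (by omega))
      (W_mono hab (by omega) le_rfl (by omega)), ih,
      relLen_eq_one_of_covBy _ _ (covBy_b (hO := hO) (a := a) (b := b + c) (by omega))]
    push_cast
    rfl

theorem relLen_a {a b : ℕ} (c : ℕ) (hab : a + c ≤ b + δ) :
    relLen (W δ O hO (a + c) b) (W δ O hO a b) = (c : ℕ∞) := by
  induction c with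
  | zero =>
    rw [add_zero, relLen_self]
    rfl
  | succ c ih =>
    have e : a + (c + 1) = a + c + 1 := rfl
    rw [e, relLen_add (W δ O hO (a + c + 1) b) (W δ O hO (a + c) b) (W δ O hO a b)
      (W_mono (by omega) (by omega) (by omega) le_rfl)
      (W_mono (by omega) (by omega) (by omega) le_rfl), ih (by omega),
      relLen_eq_one_of_covBy _ _ (covBy_a (hO := hO) (a := a + c) (b := b) (by omega))]
    push_cast
    rfl

theorem relLen_W {a b a' b' : ℕ} (hab : a ≤ b + δ) (hab' : a' ≤ b' + δ) (ha : a ≤ a')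
    (hb : b ≤ b') :
    relLen (W δ O hO a' b') (W δ O hO a b) = (((a' - a) + (b' - b) : ℕ) : ℕ∞) := by
  obtain ⟨c, rfl⟩ : ∃ c, a' = a + c := ⟨a' - a, by omega⟩
  obtain ⟨e, rfl⟩ : ∃ e, b' = b + e := ⟨b' - b, by omega⟩
  rw [relLen_add (W δ O hO (a + c) (b + e)) (W δ O hO a (b + e)) (W δ O hO a b)
    (W_mono (by omega) hab' (by omega) le_rfl) (W_mono hab (by omega) le_rfl (by omega)),
    relLen_b hab e, relLen_a c hab']
  rw [Nat.add_sub_cancel_left, Nat.add_sub_cancel_left, add_comm]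
  push_cast
  rfl

include hO in
theorem diag_mem (v : k⟦X⟧) : ((v, v) : k⟦X⟧ × k⟦X⟧) ∈ O := by
  rw [hO]
  change (X : k⟦X⟧) ^ δ ∣ v - v
  rw [sub_self]
  exact dvd_zero _

include hO in
theorem left_mem {c : ℕ} (hc : δ ≤ c) (v : k⟦X⟧) : ((X ^ c * v, 0) : k⟦X⟧ × k⟦X⟧) ∈ O := by
  rw [hO]
  change (X : k⟦X⟧) ^ δ ∣ X ^ c * v - 0
  rw [sub_zero]
  exact (pow_dvd_pow X hc).mul_right _

/-- `I_j = W(δ, j)`. -/
theorem span_eq_W (j : ℕ) :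
    Submodule.span ↥O ({((X : k⟦X⟧) ^ j, (X : k⟦X⟧) ^ j), ((X : k⟦X⟧) ^ δ, 0)} :
      Set (k⟦X⟧ × k⟦X⟧)) = W δ O hO δ j := by
  have hab : δ ≤ j + δ := by omega
  apply le_antisymm
  · rw [Submodule.span_le]
    rintro _ (rfl | rfl)
    · rw [SetLike.mem_coe, mem_W hab]
      refine ⟨?_, dvd_rfl⟩
      change (X : k⟦X⟧) ^ δ ∣ X ^ j - X ^ j
      rw [sub_self]
      exact dvd_zero _
    · rw [SetLike.mem_coe, mem_W hab]
      refine ⟨?_, dvd_zero _⟩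
      change (X : k⟦X⟧) ^ δ ∣ X ^ δ - 0
      rw [sub_zero]
  · intro y hy
    rw [mem_W hab] at hy
    obtain ⟨⟨u, hu⟩, ⟨v, hv⟩⟩ := hy
    have hy' : y = (⟨(v, v), diag_mem (hO := hO) v⟩ : ↥O) • (((X : k⟦X⟧) ^ j, (X : k⟦X⟧) ^ j) :
        k⟦X⟧ × k⟦X⟧) + (⟨(u, u), diag_mem (hO := hO) u⟩ : ↥O) •
        (((X : k⟦X⟧) ^ δ, 0) : k⟦X⟧ × k⟦X⟧) := by
      change y = ((v, v) : k⟦X⟧ × k⟦X⟧) * ((X : k⟦X⟧) ^ j, (X : k⟦X⟧) ^ j) +
        ((u, u) : k⟦X⟧ × k⟦X⟧) * ((X : k⟦X⟧) ^ δ, 0)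
      refine Prod.ext ?_ ?_
      · change y.1 = v * X ^ j + u * X ^ δ
        have : y.1 = y.2 + (y.1 - y.2) := by ring
        rw [this, hu, hv]
        ring
      · change y.2 = v * X ^ j + u * 0
        rw [hv]
        ring
    rw [hy']
    exact Submodule.add_mem _
      (Submodule.smul_mem _ _ (Submodule.subset_span (Set.mem_insert _ _)))
      (Submodule.smul_mem _ _ (Submodule.subset_span (Set.mem_insert_of_mem _ rfl)))

end W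

section main

variable (δ : ℕ) (O : Subalgebra k (k⟦X⟧ × k⟦X⟧))
  (hO : ∀ f : k⟦X⟧ × k⟦X⟧, f ∈ O ↔ (X : k⟦X⟧) ^ δ ∣ f.1 - f.2)

include hO in
theorem left_mem' {c : ℕ} (hc : δ ≤ c) : (((X : k⟦X⟧) ^ c, 0) : k⟦X⟧ × k⟦X⟧) ∈ O := by
  rw [hO]
  change (X : k⟦X⟧) ^ δ ∣ X ^ c - 0
  rw [sub_zero]
  exact pow_dvd_pow X hc

theorem X_pow_dvd_of_mul {c n : ℕ} {f : k⟦X⟧} (h : (X : k⟦X⟧) ^ (c + n) ∣ X ^ c * f) :
    (X : k⟦X⟧) ^ n ∣ f := by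
  rw [pow_add] at h
  exact (mul_dvd_mul_iff_left (pow_ne_zero c X_ne_zero)).mp h

/-- the diagonal element `(X^c, X^c)`. -/
noncomputable def diagX (c : ℕ) : ↥O := ⟨((X : k⟦X⟧) ^ c, (X : k⟦X⟧) ^ c), diag_mem (hO := hO) _⟩

theorem smul_W (c : ℕ) {a b : ℕ} (hab : a ≤ b + δ) :
    diagX δ O hO c • W δ O hO a b = W δ O hO (a + c) (b + c) := by
  have hab' : a + c ≤ b + c + δ := by omega
  ext y
  constructor
  · intro hy
    obtain ⟨n, hn, rfl⟩ := (Submodule.mem_smul_pointwise_iff_exists _ _ _).mp hy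
    rw [mem_W hab] at hn
    rw [mem_W hab']
    change (X : k⟦X⟧) ^ (a + c) ∣ X ^ c * n.1 - X ^ c * n.2 ∧ (X : k⟦X⟧) ^ (b + c) ∣ X ^ c * n.2
    rw [← mul_sub, pow_add, pow_add, mul_comm (X ^ a : k⟦X⟧), mul_comm (X ^ b : k⟦X⟧)]
    exact ⟨mul_dvd_mul_left _ hn.1, mul_dvd_mul_left _ hn.2⟩
  · intro hy
    rw [mem_W hab'] at hy
    obtain ⟨⟨u, hu⟩, ⟨v, hv⟩⟩ := hy
    refine (Submodule.mem_smul_pointwise_iff_exists _ _ _).mpr
      ⟨(X ^ b * v + X ^ a * u, X ^ b * v), ?_, ?_⟩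
    · rw [mem_W hab]
      refine ⟨?_, Dvd.intro _ rfl⟩
      change (X : k⟦X⟧) ^ a ∣ X ^ b * v + X ^ a * u - X ^ b * v
      rw [add_sub_cancel_left]
      exact Dvd.intro _ rfl
    · change ((X : k⟦X⟧) ^ c, (X : k⟦X⟧) ^ c) * (X ^ b * v + X ^ a * u, X ^ b * v) = y
      refine Prod.ext ?_ ?_
      · change (X : k⟦X⟧) ^ c * (X ^ b * v + X ^ a * u) = y.1
        have : y.1 = y.2 + (y.1 - y.2) := by ring
        rw [this, hu, hv, pow_add, pow_add]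
        ring
      · change (X : k⟦X⟧) ^ c * (X ^ b * v) = y.2
        rw [hv, pow_add]
        ring

theorem mem_smul_W (c : ℕ) {a b : ℕ} (hab : a ≤ b + δ) (y : k⟦X⟧ × k⟦X⟧) :
    y ∈ diagX δ O hO c • W δ O hO a b ↔ y ∈ W δ O hO (a + c) (b + c) := by
  rw [smul_W δ O hO c hab]

variable (i j : ℕ)

/-- the generator `(X^{δ-i}, 0)`. -/
noncomputable def gg : Fin 1 → k⟦X⟧ × k⟦X⟧ := fun _ => ((X : k⟦X⟧) ^ (δ - i), 0)

/-- `d g`. -/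
noncomputable def gg' : Fin 1 → ↥O := fun _ => ⟨((X : k⟦X⟧) ^ (δ + (δ - i)), 0), left_mem' δ O hO (by omega)⟩

theorem map_modH (hi : i ≤ δ) (hj : j ≤ δ) :
    (modH ↥O (gg δ i) (diagX δ O hO δ) (W δ O hO δ j)).map
      (LinearEquiv.funUnique (Fin 1) ↥O (k⟦X⟧ × k⟦X⟧) :
        (Fin 1 → k⟦X⟧ × k⟦X⟧) →ₗ[↥O] k⟦X⟧ × k⟦X⟧) =
      W δ O hO (2 * δ - i) (δ + max i j - i) := by
  have hm1 := le_max_left i j
  have hm2 := le_max_right i j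
  have hm3 : max i j = i ∨ max i j = j := max_choice i j
  generalize max i j = m at *
  have hN : δ ≤ j + δ := by omega
  have hW : 2 * δ - i ≤ δ + m - i + δ := by omega
  ext y
  rw [Submodule.mem_map, mem_W hW]
  constructor
  · rintro ⟨y', hy', rfl⟩
    change (X : k⟦X⟧) ^ (2 * δ - i) ∣ (y' default).1 - (y' default).2 ∧
      (X : k⟦X⟧) ^ (δ + m - i) ∣ (y' default).2
    have h1 := hy' (fun _ => diagX δ O hO i) ⟨⟨((X : k⟦X⟧) ^ δ, 0), left_mem' δ O hO le_rfl⟩, by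
      simp only [Finset.univ_unique, Finset.sum_singleton]
      change (((X : k⟦X⟧) ^ δ, 0) : k⟦X⟧ × k⟦X⟧) =
        ((X : k⟦X⟧) ^ i, (X : k⟦X⟧) ^ i) * ((X : k⟦X⟧) ^ (δ - i), 0)
      refine Prod.ext ?_ ?_
      · change (X : k⟦X⟧) ^ δ = X ^ i * X ^ (δ - i)
        rw [pow_mul_pow_sub _ hi]
      · change (0 : k⟦X⟧) = X ^ i * 0
        rw [mul_zero]⟩
    simp only [Finset.univ_unique, Finset.sum_singleton] at h1
    replace h1 := (mem_W (by omega) _).mp ((mem_smul_W δ O hO δ hN _).mp h1)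
    change (X : k⟦X⟧) ^ (δ + δ) ∣ X ^ i * (y' default).1 - X ^ i * (y' default).2 ∧
      (X : k⟦X⟧) ^ (j + δ) ∣ X ^ i * (y' default).2 at h1
    have h2 := hy' (fun _ => ⟨((X : k⟦X⟧) ^ δ, 0), left_mem' δ O hO le_rfl⟩)
      ⟨⟨((X : k⟦X⟧) ^ (2 * δ - i), 0), left_mem' δ O hO (by omega)⟩, by
      simp only [Finset.univ_unique, Finset.sum_singleton]
      change (((X : k⟦X⟧) ^ (2 * δ - i), 0) : k⟦X⟧ × k⟦X⟧) =
        ((X : k⟦X⟧) ^ δ, 0) * ((X : k⟦X⟧) ^ (δ - i), 0)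
      refine Prod.ext ?_ ?_
      · change (X : k⟦X⟧) ^ (2 * δ - i) = X ^ δ * X ^ (δ - i)
        rw [← pow_add]
        congr 1
        omega
      · change (0 : k⟦X⟧) = 0 * 0
        rw [mul_zero]⟩
    simp only [Finset.univ_unique, Finset.sum_singleton] at h2
    replace h2 := (mem_W (by omega) _).mp ((mem_smul_W δ O hO δ hN _).mp h2)
    change (X : k⟦X⟧) ^ (δ + δ) ∣ X ^ δ * (y' default).1 - 0 * (y' default).2 ∧
      (X : k⟦X⟧) ^ (j + δ) ∣ 0 * (y' default).2 at h2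
    have e1 : (X : k⟦X⟧) ^ (2 * δ - i) ∣ (y' default).1 - (y' default).2 := by
      apply X_pow_dvd_of_mul (c := i)
      rw [mul_sub]
      have : i + (2 * δ - i) = δ + δ := by omega
      rw [this]
      exact h1.1
    have e2 : (X : k⟦X⟧) ^ (δ + j - i) ∣ (y' default).2 := by
      apply X_pow_dvd_of_mul (c := i)
      have : i + (δ + j - i) = j + δ := by omega
      rw [this]
      exact h1.2
    have e3 : (X : k⟦X⟧) ^ δ ∣ (y' default).1 := by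
      apply X_pow_dvd_of_mul (c := δ)
      have := h2.1
      rwa [zero_mul, sub_zero] at this
    have e4 : (X : k⟦X⟧) ^ δ ∣ (y' default).2 := by
      have : (y' default).2 = (y' default).1 - ((y' default).1 - (y' default).2) := by ring
      rw [this]
      exact dvd_sub e3 (dvd_trans (pow_dvd_pow X (by omega)) e1)
    refine ⟨e1, ?_⟩
    rcases hm3 with h | h
    · have : δ + m - i = δ := by omega
      rw [this]
      exact e4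
    · rw [h]
      exact e2
  · rintro ⟨hy1, hy2⟩
    refine ⟨fun _ => y, ?_, rfl⟩
    intro a ha
    obtain ⟨b, hb⟩ := ha
    simp only [Finset.univ_unique, Finset.sum_singleton] at hb ⊢
    have ha0 := (hO _).mp (a default).2
    have hb0 := (hO _).mp b.2
    have hb' : (b : k⟦X⟧ × k⟦X⟧) = ((a default : k⟦X⟧ × k⟦X⟧).1 * X ^ (δ - i),
        (a default : k⟦X⟧ × k⟦X⟧).2 * 0) := hb
    rw [hb'] at hb0
    change (X : k⟦X⟧) ^ δ ∣ (a default : k⟦X⟧ × k⟦X⟧).1 * X ^ (δ - i) -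
      (a default : k⟦X⟧ × k⟦X⟧).2 * 0 at hb0
    rw [mul_zero, sub_zero] at hb0
    have hai : (X : k⟦X⟧) ^ i ∣ (a default : k⟦X⟧ × k⟦X⟧).1 := by
      apply X_pow_dvd_of_mul (c := δ - i)
      have : δ - i + i = δ := by omega
      rw [this, mul_comm]
      exact hb0
    have hai2 : (X : k⟦X⟧) ^ i ∣ (a default : k⟦X⟧ × k⟦X⟧).2 := by
      have : (a default : k⟦X⟧ × k⟦X⟧).2 = (a default : k⟦X⟧ × k⟦X⟧).1 -
          ((a default : k⟦X⟧ × k⟦X⟧).1 - (a default : k⟦X⟧ × k⟦X⟧).2) := by ring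
      rw [this]
      exact dvd_sub hai (dvd_trans (pow_dvd_pow X hi) ha0)
    refine (mem_smul_W δ O hO δ hN _).mpr ((mem_W (by omega) _).mpr ?_)
    change (X : k⟦X⟧) ^ (δ + δ) ∣ (a default : k⟦X⟧ × k⟦X⟧).1 * y.1 -
      (a default : k⟦X⟧ × k⟦X⟧).2 * y.2 ∧
      (X : k⟦X⟧) ^ (j + δ) ∣ (a default : k⟦X⟧ × k⟦X⟧).2 * y.2
    constructor
    · have : (a default : k⟦X⟧ × k⟦X⟧).1 * y.1 - (a default : k⟦X⟧ × k⟦X⟧).2 * y.2 =
          (a default : k⟦X⟧ × k⟦X⟧).1 * (y.1 - y.2) +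
          ((a default : k⟦X⟧ × k⟦X⟧).1 - (a default : k⟦X⟧ × k⟦X⟧).2) * y.2 := by ring
      rw [this]
      refine dvd_add ?_ ?_
      · have e : δ + δ = i + (2 * δ - i) := by omega
        rw [e, pow_add]
        exact mul_dvd_mul hai hy1
      · refine dvd_trans (pow_dvd_pow X (show δ + δ ≤ δ + (δ + m - i) by omega)) ?_
        rw [pow_add]
        exact mul_dvd_mul ha0 hy2
    · refine dvd_trans (pow_dvd_pow X (show j + δ ≤ i + (δ + m - i) by omega)) ?_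
      rw [pow_add]
      exact mul_dvd_mul hai2 hy2

theorem map_modD (hi : i ≤ δ) (hj : j ≤ δ) :
    (modD ↥O (gg δ i) (diagX δ O hO δ) (W δ O hO δ j)).map
      (LinearEquiv.funUnique (Fin 1) ↥O (k⟦X⟧ × k⟦X⟧) :
        (Fin 1 → k⟦X⟧ × k⟦X⟧) →ₗ[↥O] k⟦X⟧ × k⟦X⟧) =
      W δ O hO (2 * δ - max i j + j) (δ + j) := by
  have hm1 := le_max_left i j
  have hm2 := le_max_right i j
  have hm3 : max i j = i ∨ max i j = j := max_choice i j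
  generalize max i j = m at *
  have hN : δ ≤ j + δ := by omega
  have hW : 2 * δ - m + j ≤ δ + j + δ := by omega
  ext y
  rw [Submodule.mem_map, mem_W hW]
  constructor
  · rintro ⟨_, ⟨⟨n₀, n⟩, rfl⟩, rfl⟩
    have hn1 := (mem_W hN _).mp (n default).2
    have hn0 := (mem_W hN _).mp n₀.2
    change (X : k⟦X⟧) ^ (2 * δ - m + j) ∣
        X ^ δ * ((n default : k⟦X⟧ × k⟦X⟧).1 - X ^ (δ - i) * (n₀ : k⟦X⟧ × k⟦X⟧).1) -
        X ^ δ * ((n default : k⟦X⟧ × k⟦X⟧).2 - 0 * (n₀ : k⟦X⟧ × k⟦X⟧).2) ∧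
      (X : k⟦X⟧) ^ (δ + j) ∣
        X ^ δ * ((n default : k⟦X⟧ × k⟦X⟧).2 - 0 * (n₀ : k⟦X⟧ × k⟦X⟧).2)
    rw [zero_mul, sub_zero]
    have hj0 : (X : k⟦X⟧) ^ j ∣ (n₀ : k⟦X⟧ × k⟦X⟧).1 := by
      have : (n₀ : k⟦X⟧ × k⟦X⟧).1 = (n₀ : k⟦X⟧ × k⟦X⟧).2 +
          ((n₀ : k⟦X⟧ × k⟦X⟧).1 - (n₀ : k⟦X⟧ × k⟦X⟧).2) := by ring
      rw [this]
      exact dvd_add hn0.2 (dvd_trans (pow_dvd_pow X hj) hn0.1)
    constructor
    · have : (X : k⟦X⟧) ^ δ * ((n default : k⟦X⟧ × k⟦X⟧).1 -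
          X ^ (δ - i) * (n₀ : k⟦X⟧ × k⟦X⟧).1) - X ^ δ * (n default : k⟦X⟧ × k⟦X⟧).2 =
          X ^ δ * ((n default : k⟦X⟧ × k⟦X⟧).1 - (n default : k⟦X⟧ × k⟦X⟧).2) -
          X ^ δ * (X ^ (δ - i) * (n₀ : k⟦X⟧ × k⟦X⟧).1) := by ring
      rw [this]
      refine dvd_sub ?_ ?_
      · refine dvd_trans (pow_dvd_pow X (show 2 * δ - m + j ≤ δ + δ by omega)) ?_
        rw [pow_add]
        exact mul_dvd_mul_left _ hn1.1
      · refine dvd_trans (pow_dvd_pow X (show 2 * δ - m + j ≤ δ + ((δ - i) + j) by omega)) ?_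
        rw [pow_add, pow_add]
        exact mul_dvd_mul_left _ (mul_dvd_mul_left _ hj0)
    · rw [pow_add]
      exact mul_dvd_mul_left _ hn1.2
  · rintro ⟨⟨u, hu⟩, ⟨v, hv⟩⟩
    rcases hm3 with h | h
    · subst h
      have hn1 : (((X : k⟦X⟧) ^ j * v, (X : k⟦X⟧) ^ j * v) : k⟦X⟧ × k⟦X⟧) ∈ W δ O hO δ j := by
        rw [mem_W hN]
        refine ⟨?_, Dvd.intro _ rfl⟩
        change (X : k⟦X⟧) ^ δ ∣ X ^ j * v - X ^ j * v
        rw [sub_self]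
        exact dvd_zero _
      have hn0 : ((-((X : k⟦X⟧) ^ j * u), -((X : k⟦X⟧) ^ j * u)) : k⟦X⟧ × k⟦X⟧) ∈
          W δ O hO δ j := by
        rw [mem_W hN]
        refine ⟨?_, (dvd_neg).mpr (Dvd.intro _ rfl)⟩
        change (X : k⟦X⟧) ^ δ ∣ -(X ^ j * u) - -(X ^ j * u)
        rw [sub_self]
        exact dvd_zero _
      refine ⟨theta ↥O (gg δ m) (diagX δ O hO δ) (W δ O hO δ j)
        (⟨_, hn0⟩, fun _ => ⟨_, hn1⟩), ⟨_, rfl⟩, ?_⟩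
      refine Prod.ext ?_ ?_
      · change (X : k⟦X⟧) ^ δ * (X ^ j * v - X ^ (δ - m) * -(X ^ j * u)) = y.1
        have : y.1 = y.2 + (y.1 - y.2) := by ring
        rw [this, hu, hv]
        have e : 2 * δ - m + j = δ + (δ - m) + j := by omega
        rw [e, pow_add, pow_add, pow_add]
        ring
      · change (X : k⟦X⟧) ^ δ * (X ^ j * v - 0 * -(X ^ j * u)) = y.2
        rw [hv, pow_add]
        ring
    · subst h
      have hn1 : (((X : k⟦X⟧) ^ m * v + X ^ δ * u, (X : k⟦X⟧) ^ m * v) : k⟦X⟧ × k⟦X⟧) ∈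
          W δ O hO δ m := by
        rw [mem_W hN]
        refine ⟨?_, Dvd.intro _ rfl⟩
        change (X : k⟦X⟧) ^ δ ∣ X ^ m * v + X ^ δ * u - X ^ m * v
        rw [add_sub_cancel_left]
        exact Dvd.intro _ rfl
      refine ⟨theta ↥O (gg δ i) (diagX δ O hO δ) (W δ O hO δ m)
        (0, fun _ => ⟨_, hn1⟩), ⟨_, rfl⟩, ?_⟩
      refine Prod.ext ?_ ?_
      · change (X : k⟦X⟧) ^ δ * (X ^ m * v + X ^ δ * u - X ^ (δ - i) * 0) = y.1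
        have : y.1 = y.2 + (y.1 - y.2) := by ring
        rw [this, hu, hv]
        have e : 2 * δ - m + m = δ + δ := by omega
        rw [e, pow_add, pow_add]
        ring
      · change (X : k⟦X⟧) ^ δ * (X ^ m * v - 0 * 0) = y.2
        rw [hv, pow_add]
        ring

variable [HasExt.{w} (ModuleCat.{u} ↥O)]

include hO in
/-- `ℓ Ext¹(I_i, I_j) = 2 min(i, j)`. -/
theorem length_ext_two_branch (hi : i ≤ δ) (hj : j ≤ δ) :
    Module.length ↥O (Ext.{w}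
      (ModuleCat.of ↥O ↥(Submodule.span ↥O ({((X : k⟦X⟧) ^ i, (X : k⟦X⟧) ^ i),
        ((X : k⟦X⟧) ^ δ, 0)} : Set (k⟦X⟧ × k⟦X⟧))))
      (ModuleCat.of ↥O ↥(Submodule.span ↥O ({((X : k⟦X⟧) ^ j, (X : k⟦X⟧) ^ j),
        ((X : k⟦X⟧) ^ δ, 0)} : Set (k⟦X⟧ × k⟦X⟧)))) 1) = ((2 * min i j : ℕ) : ℕ∞) := by
  let μ : (k⟦X⟧ × k⟦X⟧) →ₗ[↥O] (k⟦X⟧ × k⟦X⟧) :=
    LinearMap.mulLeft ↥O (((X : k⟦X⟧) ^ i, (X : k⟦X⟧) ^ i) : k⟦X⟧ × k⟦X⟧)
  have hμ : Function.Injective μ := by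
    intro e e' h
    have h' : (((X : k⟦X⟧) ^ i, (X : k⟦X⟧) ^ i) : k⟦X⟧ × k⟦X⟧) * e =
        ((X : k⟦X⟧) ^ i, (X : k⟦X⟧) ^ i) * e' := h
    have h1 : (X : k⟦X⟧) ^ i * e.1 = X ^ i * e'.1 := congrArg Prod.fst h'
    have h2 : (X : k⟦X⟧) ^ i * e.2 = X ^ i * e'.2 := congrArg Prod.snd h'
    exact Prod.ext (mul_left_cancel₀ (pow_ne_zero i X_ne_zero) h1)
      (mul_left_cancel₀ (pow_ne_zero i X_ne_zero) h2)
  have hmap : (modM ↥O (gg δ i)).map μ = Submodule.span ↥O ({((X : k⟦X⟧) ^ i, (X : k⟦X⟧) ^ i),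
      ((X : k⟦X⟧) ^ δ, 0)} : Set (k⟦X⟧ × k⟦X⟧)) := by
    unfold modM gg
    rw [Set.range_const, Submodule.map_span, Set.image_insert_eq, Set.image_singleton]
    have e1 : μ 1 = (((X : k⟦X⟧) ^ i, (X : k⟦X⟧) ^ i) : k⟦X⟧ × k⟦X⟧) := mul_one _
    have e2 : μ (((X : k⟦X⟧) ^ (δ - i), 0) : k⟦X⟧ × k⟦X⟧) = ((X : k⟦X⟧) ^ δ, 0) :=
      Prod.ext (pow_mul_pow_sub _ hi) (mul_zero _)
    rw [e1, e2]
  let e : ↥(modM ↥O (gg δ i)) ≃ₗ[↥O] ↥(Submodule.span ↥O ({((X : k⟦X⟧) ^ i, (X : k⟦X⟧) ^ i),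
      ((X : k⟦X⟧) ^ δ, 0)} : Set (k⟦X⟧ × k⟦X⟧))) :=
    (Submodule.equivMapOfInjective μ hμ _).trans (LinearEquiv.ofEq _ _ hmap)
  rw [length_ext_congr.{w} e.symm.toModuleIso (Iso.refl _) 1, span_eq_W (hO := hO) j]
  have hd : ∀ x : k⟦X⟧ × k⟦X⟧,
      algebraMap ↥O (k⟦X⟧ × k⟦X⟧) (diagX δ O hO δ) * x = 0 → x = 0 := by
    intro x hx
    have hx' : (((X : k⟦X⟧) ^ δ, (X : k⟦X⟧) ^ δ) : k⟦X⟧ × k⟦X⟧) * x = 0 := hx
    have h1 : (X : k⟦X⟧) ^ δ * x.1 = 0 := congrArg Prod.fst hx'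
    have h2 : (X : k⟦X⟧) ^ δ * x.2 = 0 := congrArg Prod.snd hx'
    exact Prod.ext ((mul_eq_zero.mp h1).resolve_left (pow_ne_zero _ X_ne_zero))
      ((mul_eq_zero.mp h2).resolve_left (pow_ne_zero _ X_ne_zero))
  have hg' : ∀ l : Fin 1, algebraMap ↥O (k⟦X⟧ × k⟦X⟧) (gg' δ O hO i l) =
      algebraMap ↥O (k⟦X⟧ × k⟦X⟧) (diagX δ O hO δ) * gg δ i l := by
    intro l
    change (((X : k⟦X⟧) ^ (δ + (δ - i)), 0) : k⟦X⟧ × k⟦X⟧) =
      ((X : k⟦X⟧) ^ δ, (X : k⟦X⟧) ^ δ) * ((X : k⟦X⟧) ^ (δ - i), 0)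
    exact Prod.ext (pow_add _ _ _) (mul_zero _).symm
  rw [length_ext_one_eq.{w} Subtype.val_injective (gg δ i) (diagX δ O hO δ) hd (gg' δ O hO i) hg'
    (W δ O hO δ j), ← relLen_equiv (LinearEquiv.funUnique (Fin 1) ↥O (k⟦X⟧ × k⟦X⟧)),
    map_modD δ O hO i j hi hj, map_modH δ O hO i j hi hj]
  have hm1 := le_max_left i j
  have hm2 := le_max_right i j
  have hm3 : max i j = i ∨ max i j = j := max_choice i j
  have hn1 := min_le_left i j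
  have hn2 := min_le_right i j
  have hn3 : min i j = i ∨ min i j = j := min_choice i j
  rw [relLen_W (by omega) (by omega) (by omega) (by omega)]
  congr 1
  omega

end main

end Groth.Agent.H3.ExtBr
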