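import Mathlib
import Groth.Agent.Lib.Helper3.ExtF

/-! helper3: `Ext¹` lengths of the rank one torsion-free modules over `E₆ = k⟦X³, X⁴⟧`. -/

set_option autoImplicit false
universe w u

open PowerSeries Pointwise CategoryTheory CategoryTheory.Abelian
open Groth.Agent.H3.Gor Groth.Agent.H3.VS

namespace Groth.Agent.H3.ExtP

theorem mem_closure_34 (n : ℕ) :
    n ∈ AddSubmonoid.closure ({3, 4} : Set ℕ) ↔ n = 0 ∨ n = 3 ∨ n = 4 ∨ 6 ≤ n := by
  constructor
  · intro h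
    induction h using AddSubmonoid.closure_induction with
    | mem x hx =>
      rcases hx with rfl | rfl
      · right; left; rfl
      · right; right; left; rfl
    | zero => left; rfl
    | add x y _ _ hx hy => omega
  · intro h
    have h3 : 3 ∈ AddSubmonoid.closure ({3, 4} : Set ℕ) :=
      AddSubmonoid.subset_closure (Set.mem_insert _ _)
    have h4 : 4 ∈ AddSubmonoid.closure ({3, 4} : Set ℕ) :=
      AddSubmonoid.subset_closure (Set.mem_insert_of_mem _ rfl)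
    rcases h with rfl | rfl | rfl | h
    · exact zero_mem _
    · exact h3
    · exact h4
    · have h' : n % 3 = 0 ∨ n % 3 = 1 ∨ n % 3 = 2 := by omega
      rcases h' with h0 | h1 | h2
      · have : n = (n / 3) • 3 := by rw [smul_eq_mul]; omega
        rw [this]
        exact AddSubmonoid.nsmul_mem _ h3 _
      · have : n = 4 + ((n - 4) / 3) • 3 := by rw [smul_eq_mul]; omega
        rw [this]
        exact add_mem h4 (AddSubmonoid.nsmul_mem _ h3 _)
      · have : n = 4 + (4 + ((n - 8) / 3) • 3) := by rw [smul_eq_mul]; omega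
        rw [this]
        exact add_mem h4 (add_mem h4 (AddSubmonoid.nsmul_mem _ h3 _))

variable {k : Type u} [Field k]

/-- `A + A X^m` is monomial. -/
theorem isMono_pair {A : Subalgebra k k⟦X⟧} (Γ : Set ℕ)
    (hA : ∀ f : k⟦X⟧, f ∈ A ↔ ∀ n, coeff n f ≠ 0 → n ∈ Γ) (m : ℕ) (T : Set ℕ)
    (hT : ∀ n, n ∈ T ↔ (n ∈ Γ ∨ (m ≤ n ∧ n - m ∈ Γ))) :
    IsMono A (Submodule.span ↥A ({1, (X : k⟦X⟧) ^ m} : Set k⟦X⟧)) T := by
  classical
  have h1 := isMono_span Γ hA ({0, m} : Finset ℕ)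
  have h2 : (fun a : ℕ => (X : k⟦X⟧) ^ a) '' (({0, m} : Finset ℕ) : Set ℕ) =
      {1, (X : k⟦X⟧) ^ m} := by
    rw [Finset.coe_insert, Finset.coe_singleton, Set.image_pair, pow_zero]
  rw [h2] at h1
  refine h1.congr ?_
  ext n
  simp only [Set.mem_ofPred_eq, Finset.mem_insert, Finset.mem_singleton]
  rw [hT]
  constructor
  · rintro ⟨s, hs | hs, γ, hγ, rfl⟩
    · subst hs
      left
      rwa [zero_add]
    · subst hs
      right
      refine ⟨Nat.le_add_right _ _, ?_⟩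
      rwa [Nat.add_sub_cancel_left]
  · rintro (h | ⟨h1, h2⟩)
    · exact ⟨0, Or.inl rfl, n, h, (zero_add n).symm⟩
    · exact ⟨m, Or.inr rfl, n - m, h2, by omega⟩

section E6

variable (A : Subalgebra k k⟦X⟧)
  (hmono : ∀ f : k⟦X⟧, f ∈ A ↔ ∀ n : ℕ, coeff n f ≠ 0 →
    n ∈ AddSubmonoid.closure ({3, 4} : Set ℕ))
  [HasExt.{w} (ModuleCat.{u} ↥A)]

include hmono in
/-- `M₁ = A + A X⁵`. -/
theorem length_ext_E6_a :
    Module.length ↥A (Ext.{w} (ModuleCat.of ↥A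
        ↥(Submodule.span ↥A ({1, (X : k⟦X⟧) ^ 5} : Set k⟦X⟧)))
      (ModuleCat.of ↥A ↥(Submodule.span ↥A ({1, (X : k⟦X⟧) ^ 5} : Set k⟦X⟧))) 1) = 2 := by
  classical
  set Γ : Set ℕ := {n | n ∈ AddSubmonoid.closure ({3, 4} : Set ℕ)} with hΓ
  have hA : ∀ f : k⟦X⟧, f ∈ A ↔ ∀ n, coeff n f ≠ 0 → n ∈ Γ := hmono
  have hΓiff : ∀ n, n ∈ Γ ↔ n = 0 ∨ n = 3 ∨ n = 4 ∨ 6 ≤ n := fun n => mem_closure_34 n
  set T : Set ℕ := {t | t = 0 ∨ 3 ≤ t} with hT
  have hN : IsMono A (Submodule.span ↥A ({1, (X : k⟦X⟧) ^ 5} : Set k⟦X⟧)) T := by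
    refine isMono_pair Γ hA 5 T fun n => ?_
    rw [hΓiff, hΓiff]
    simp only [hT, Set.mem_ofPred_eq]
    omega
  have hL : 6 ∈ Γ := (hΓiff _).mpr (by omega)
  have hLm : 6 + 5 ∈ Γ := (hΓiff _).mpr (by omega)
  have hSD : ∀ n, n ∈ SD 5 6 T ↔ n = 6 ∨ 9 ≤ n := by
    intro n
    simp only [SD, Set.mem_ofPred_eq, hT]
    omega
  have hSH : ∀ n, n ∈ SH Γ 5 6 T ↔ 6 ≤ n := by
    intro n
    simp only [SH, Set.mem_ofPred_eq]
    constructor
    · intro H
      have h1 := H 3 ((hΓiff _).mpr (by omega)) ((hΓiff _).mpr (by omega))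
      have h2 := H 4 ((hΓiff _).mpr (by omega)) ((hΓiff _).mpr (by omega))
      simp only [hT, Set.mem_ofPred_eq] at h1 h2
      omega
    · intro H γ hγ hγm
      rw [hΓiff] at hγ hγm
      simp only [hT, Set.mem_ofPred_eq]
      omega
  rw [length_ext_one_two_gen.{w} Γ hA 5 6 hL hLm hN 9 ?_ ({7, 8} : Finset ℕ) ?_ ?_]
  · rfl
  · intro n hn
    rw [hSD]
    omega
  · intro n
    rw [hSH, hSD, Finset.mem_insert, Finset.mem_singleton]
    omega
  · intro n hn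
    rw [Finset.mem_insert, Finset.mem_singleton] at hn
    rw [hSD]
    omega

include hmono in
/-- `M₁* = A + A X`. -/
theorem length_ext_E6_b :
    Module.length ↥A (Ext.{w} (ModuleCat.of ↥A
        ↥(Submodule.span ↥A ({1, (X : k⟦X⟧)} : Set k⟦X⟧)))
      (ModuleCat.of ↥A ↥(Submodule.span ↥A ({1, (X : k⟦X⟧)} : Set k⟦X⟧))) 1) = 2 := by
  classical
  set Γ : Set ℕ := {n | n ∈ AddSubmonoid.closure ({3, 4} : Set ℕ)} with hΓ
  have hA : ∀ f : k⟦X⟧, f ∈ A ↔ ∀ n, coeff n f ≠ 0 → n ∈ Γ := hmono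
  have hΓiff : ∀ n, n ∈ Γ ↔ n = 0 ∨ n = 3 ∨ n = 4 ∨ 6 ≤ n := fun n => mem_closure_34 n
  set T : Set ℕ := {t | t ≠ 2} with hT
  have hX : ({1, (X : k⟦X⟧)} : Set k⟦X⟧) = {1, (X : k⟦X⟧) ^ 1} := by rw [pow_one]
  rw [hX]
  have hN : IsMono A (Submodule.span ↥A ({1, (X : k⟦X⟧) ^ 1} : Set k⟦X⟧)) T := by
    refine isMono_pair Γ hA 1 T fun n => ?_
    rw [hΓiff, hΓiff]
    simp only [hT, Set.mem_ofPred_eq]
    omega
  have hL : 6 ∈ Γ := (hΓiff _).mpr (by omega)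
  have hLm : 6 + 1 ∈ Γ := (hΓiff _).mpr (by omega)
  have hSD : ∀ n, n ∈ SD 1 6 T ↔ 6 ≤ n := by
    intro n
    simp only [SD, Set.mem_ofPred_eq, hT]
    omega
  have hSH : ∀ n, n ∈ SH Γ 1 6 T ↔ 3 ≤ n ∧ n ≠ 5 := by
    intro n
    simp only [SH, Set.mem_ofPred_eq]
    constructor
    · intro H
      have h1 := H 3 ((hΓiff _).mpr (by omega)) ((hΓiff _).mpr (by omega))
      simp only [hT, Set.mem_ofPred_eq] at h1
      omega
    · intro H γ hγ hγm
      rw [hΓiff] at hγ hγm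
      simp only [hT, Set.mem_ofPred_eq]
      omega
  rw [length_ext_one_two_gen.{w} Γ hA 1 6 hL hLm hN 6 ?_ ({3, 4} : Finset ℕ) ?_ ?_]
  · rfl
  · intro n hn
    rw [hSD]
    omega
  · intro n
    rw [hSH, hSD, Finset.mem_insert, Finset.mem_singleton]
    omega
  · intro n hn
    rw [Finset.mem_insert, Finset.mem_singleton] at hn
    rw [hSD]
    omega

include hmono in
/-- `M₂ = A + A X²`. -/
theorem length_ext_E6_c :
    Module.length ↥A (Ext.{w} (ModuleCat.of ↥A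
        ↥(Submodule.span ↥A ({1, (X : k⟦X⟧) ^ 2} : Set k⟦X⟧)))
      (ModuleCat.of ↥A ↥(Submodule.span ↥A ({1, (X : k⟦X⟧) ^ 2} : Set k⟦X⟧))) 1) = 4 := by
  classical
  set Γ : Set ℕ := {n | n ∈ AddSubmonoid.closure ({3, 4} : Set ℕ)} with hΓ
  have hA : ∀ f : k⟦X⟧, f ∈ A ↔ ∀ n, coeff n f ≠ 0 → n ∈ Γ := hmono
  have hΓiff : ∀ n, n ∈ Γ ↔ n = 0 ∨ n = 3 ∨ n = 4 ∨ 6 ≤ n := fun n => mem_closure_34 n
  set T : Set ℕ := {t | t ≠ 1} with hT
  have hN : IsMono A (Submodule.span ↥A ({1, (X : k⟦X⟧) ^ 2} : Set k⟦X⟧)) T := by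
    refine isMono_pair Γ hA 2 T fun n => ?_
    rw [hΓiff, hΓiff]
    simp only [hT, Set.mem_ofPred_eq]
    omega
  have hL : 6 ∈ Γ := (hΓiff _).mpr (by omega)
  have hLm : 6 + 2 ∈ Γ := (hΓiff _).mpr (by omega)
  have hSD : ∀ n, n ∈ SD 2 6 T ↔ 6 ≤ n ∧ n ≠ 7 := by
    intro n
    simp only [SD, Set.mem_ofPred_eq, hT]
    omega
  have hSH : ∀ n, n ∈ SH Γ 2 6 T ↔ 2 ≤ n ∧ n ≠ 3 := by
    intro n
    simp only [SH, Set.mem_ofPred_eq]
    constructor
    · intro H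
      have h1 := H 4 ((hΓiff _).mpr (by omega)) ((hΓiff _).mpr (by omega))
      simp only [hT, Set.mem_ofPred_eq] at h1
      omega
    · intro H γ hγ hγm
      rw [hΓiff] at hγ hγm
      simp only [hT, Set.mem_ofPred_eq]
      omega
  rw [length_ext_one_two_gen.{w} Γ hA 2 6 hL hLm hN 8 ?_ ({2, 4, 5, 7} : Finset ℕ) ?_ ?_]
  · rfl
  · intro n hn
    rw [hSD]
    omega
  · intro n
    rw [hSH, hSD]
    simp only [Finset.mem_insert, Finset.mem_singleton]
    omega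
  · intro n hn
    simp only [Finset.mem_insert, Finset.mem_singleton] at hn
    rw [hSD]
    omega

include hmono in
/-- `M₃ = k⟦X⟧ = A + A X + A X²`. -/
theorem length_ext_E6_d :
    Module.length ↥A (Ext.{w} (ModuleCat.of ↥A
        ↥(Submodule.span ↥A ({1, (X : k⟦X⟧), (X : k⟦X⟧) ^ 2} : Set k⟦X⟧)))
      (ModuleCat.of ↥A ↥(Submodule.span ↥A ({1, (X : k⟦X⟧), (X : k⟦X⟧) ^ 2} : Set k⟦X⟧))) 1) =
      6 := by
  classical
  set Γ : Set ℕ := {n | n ∈ AddSubmonoid.closure ({3, 4} : Set ℕ)} with hΓ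
  have hA : ∀ f : k⟦X⟧, f ∈ A ↔ ∀ n, coeff n f ≠ 0 → n ∈ Γ := hmono
  have hΓiff : ∀ n, n ∈ Γ ↔ n = 0 ∨ n = 3 ∨ n = 4 ∨ 6 ≤ n := fun n => mem_closure_34 n
  have hN : IsMono A (Submodule.span ↥A ({1, (X : k⟦X⟧), (X : k⟦X⟧) ^ 2} : Set k⟦X⟧))
      Set.univ := by
    have h1 := isMono_span Γ hA ({0, 1, 2} : Finset ℕ)
    have h2 : (fun a : ℕ => (X : k⟦X⟧) ^ a) '' (({0, 1, 2} : Finset ℕ) : Set ℕ) =
        {1, (X : k⟦X⟧), (X : k⟦X⟧) ^ 2} := by
      rw [Finset.coe_insert, Finset.coe_insert, Finset.coe_singleton, Set.image_insert_eq,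
        Set.image_pair, pow_zero, pow_one]
    rw [h2] at h1
    refine h1.congr ?_
    ext n
    simp only [Set.mem_ofPred_eq, Set.mem_univ, iff_true, Finset.mem_insert,
      Finset.mem_singleton]
    by_cases hn : n ∈ Γ
    · exact ⟨0, Or.inl rfl, n, hn, (zero_add n).symm⟩
    · rw [hΓiff] at hn
      have : n = 1 ∨ n = 2 ∨ n = 5 := by omega
      rcases this with rfl | rfl | rfl
      · exact ⟨1, Or.inr (Or.inl rfl), 0, (hΓiff 0).mpr (Or.inl rfl), rfl⟩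
      · exact ⟨2, Or.inr (Or.inr rfl), 0, (hΓiff 0).mpr (Or.inl rfl), rfl⟩
      · exact ⟨2, Or.inr (Or.inr rfl), 3, (hΓiff 3).mpr (by omega), rfl⟩
  have hM : Submodule.span ↥A ({1, (X : k⟦X⟧), (X : k⟦X⟧) ^ 2} : Set k⟦X⟧) =
      modM ↥A (fun j : Fin 2 => (X : k⟦X⟧) ^ ((j : ℕ) + 1)) := by
    unfold modM
    congr 1
    ext x
    simp only [Set.mem_insert_iff, Set.mem_singleton_iff, Set.mem_range, Fin.exists_fin_two]
    have e0 : (X : k⟦X⟧) ^ (((0 : Fin 2) : ℕ) + 1) = X := pow_one _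
    have e1 : (X : k⟦X⟧) ^ (((1 : Fin 2) : ℕ) + 1) = X ^ 2 := rfl
    rw [e0, e1]
    exact ⟨fun h => h.imp id fun h => h.imp Eq.symm Eq.symm,
      fun h => h.imp id fun h => h.imp Eq.symm Eq.symm⟩
  rw [hM] at hN ⊢
  have hL : 6 ∈ Γ := (hΓiff _).mpr (by omega)
  have hLs : ∀ j : Fin 2, 6 + ((j : ℕ) + 1) ∈ Γ := fun j => (hΓiff _).mpr (by omega)
  have hdN := isMono_smul hN 6 (X_pow_mem_A Γ hA hL)
  have h3A : (X : k⟦X⟧) ^ 3 ∈ A := X_pow_mem_A Γ hA ((hΓiff 3).mpr (by omega))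
  have h4A : (X : k⟦X⟧) ^ 4 ∈ A := X_pow_mem_A Γ hA ((hΓiff 4).mpr (by omega))
  have hH : modH ↥A (fun j : Fin 2 => (X : k⟦X⟧) ^ ((j : ℕ) + 1))
      ⟨X ^ 6, X_pow_mem_A Γ hA hL⟩ (modM ↥A (fun j : Fin 2 => (X : k⟦X⟧) ^ ((j : ℕ) + 1))) =
      Submodule.pi Set.univ fun _ : Fin 2 =>
        colonX 3 ((⟨X ^ 6, X_pow_mem_A Γ hA hL⟩ : ↥A) •
          (modM ↥A (fun j : Fin 2 => (X : k⟦X⟧) ^ ((j : ℕ) + 1)))) := by
    ext y
    rw [Submodule.mem_pi]
    constructor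
    · intro hy
      have hy0 : ∀ t, coeff t (y 0) ≠ 0 → 3 ≤ t := by
        intro t ht
        have h1 := hy ![⟨X ^ 3, h3A⟩, 0] ⟨⟨X ^ 4, h4A⟩, by
          rw [Fin.sum_univ_two]
          change (X : k⟦X⟧) ^ 4 = X ^ 3 * X ^ 1 + 0 * X ^ 2
          ring⟩
        rw [Fin.sum_univ_two] at h1
        have h2 := (hdN _).mp h1 (t + 3) (by
          change coeff (t + 3) ((X : k⟦X⟧) ^ 3 * y 0 + 0 * y 1) ≠ 0
          rw [zero_mul, add_zero, coeff_X_pow_mul', if_pos (Nat.le_add_left _ _),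
            Nat.add_sub_cancel]
          exact ht)
        rw [Set.mem_ofPred_eq] at h2
        omega
      have hy1 : ∀ t, coeff t (y 1) ≠ 0 → 3 ≤ t := by
        intro t ht
        by_contra hlt
        have h1 := hy ![⟨X ^ 4, h4A⟩, -⟨X ^ 3, h3A⟩] ⟨0, by
          rw [Fin.sum_univ_two]
          change (0 : k⟦X⟧) = X ^ 4 * X ^ 1 + -(X ^ 3) * X ^ 2
          ring⟩
        rw [Fin.sum_univ_two] at h1
        have h2 := (hdN _).mp h1 (t + 3) (by
          change coeff (t + 3) ((X : k⟦X⟧) ^ 4 * y 0 + -(X ^ 3) * y 1) ≠ 0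
          rw [neg_mul, map_add, map_neg, coeff_X_pow_mul', coeff_X_pow_mul',
            if_pos (Nat.le_add_left _ _), Nat.add_sub_cancel]
          have h0 : (if 4 ≤ t + 3 then coeff (t + 3 - 4) (y 0) else 0) = 0 := by
            split_ifs with h4
            · by_contra hne
              have := hy0 _ hne
              omega
            · rfl
          rw [h0, zero_add]
          exact neg_ne_zero.mpr ht)
        rw [Set.mem_ofPred_eq] at h2
        omega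
      have hyj : ∀ (j : Fin 2) t, coeff t (y j) ≠ 0 → 3 ≤ t := by
        intro j
        fin_cases j
        · exact hy0
        · exact hy1
      intro j _ p hp
      refine (hdN _).mpr fun n hn => ?_
      obtain ⟨i, l, hil, hi, hl⟩ := exists_coeff_ne_zero_of_coeff_mul hn
      have h1 := hp i hi
      have h2 := hyj j l hl
      rw [Set.mem_ofPred_eq] at h1 ⊢
      exact ⟨by omega, trivial⟩
    · intro hy a ha
      obtain ⟨b, hb⟩ := ha
      have hb' : (b : k⟦X⟧) = (a 0 : k⟦X⟧) * X ^ 1 + (a 1 : k⟦X⟧) * X ^ 2 := by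
        have h := hb
        rw [Fin.sum_univ_two] at h
        exact h
      have hb1 : coeff 1 (b : k⟦X⟧) = 0 := by
        by_contra hne
        have := (hΓiff _).mp ((hA _).mp b.2 _ hne)
        omega
      have hb2 : coeff 2 (b : k⟦X⟧) = 0 := by
        by_contra hne
        have := (hΓiff _).mp ((hA _).mp b.2 _ hne)
        omega
      have ha01 : coeff 1 (a 0 : k⟦X⟧) = 0 := by
        by_contra hne
        have := (hΓiff _).mp ((hA _).mp (a 0).2 _ hne)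
        omega
      have h00 : coeff 0 (a 0 : k⟦X⟧) = 0 := by
        rw [hb', map_add, coeff_mul_X_pow', coeff_mul_X_pow', if_pos le_rfl,
          if_neg (by omega), add_zero, Nat.sub_self] at hb1
        exact hb1
      have h10 : coeff 0 (a 1 : k⟦X⟧) = 0 := by
        rw [hb', map_add, coeff_mul_X_pow', coeff_mul_X_pow', if_pos (by omega),
          if_pos le_rfl, Nat.sub_self] at hb2
        have e : 2 - 1 = 1 := rfl
        rw [e, ha01, zero_add] at hb2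
        exact hb2
      have h0 : ∀ j : Fin 2, coeff 0 (a j : k⟦X⟧) = 0 := by
        intro j
        fin_cases j
        · exact h00
        · exact h10
      refine Submodule.sum_mem _ fun j _ => ?_
      apply hy j trivial
      intro t ht
      have := (hΓiff _).mp ((hA _).mp (a j).2 _ ht)
      rw [Set.mem_ofPred_eq]
      rcases this with h | h
      · subst h
        exact absurd (h0 j) ht
      · omega
  have hcol := isMono_colonX hdN 3
  have hc₁ : relLen ((⟨X ^ 6, X_pow_mem_A Γ hA hL⟩ : ↥A) •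
      (modM ↥A (fun j : Fin 2 => (X : k⟦X⟧) ^ ((j : ℕ) + 1))))
      (colonX 3 ((⟨X ^ 6, X_pow_mem_A Γ hA hL⟩ : ↥A) •
        (modM ↥A (fun j : Fin 2 => (X : k⟦X⟧) ^ ((j : ℕ) + 1))))) = ((3 : ℕ) : ℕ∞) := by
    rw [relLen_eq_card_of_isMono hdN hcol 6 ?_ ({3, 4, 5} : Finset ℕ) ?_ ?_]
    · rfl
    · intro m hm
      exact ⟨hm, trivial⟩
    · intro m
      simp only [Set.mem_ofPred_eq, Set.mem_univ, and_true, Finset.mem_insert,
        Finset.mem_singleton]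
      constructor
      · intro H
        have := H 3 le_rfl
        omega
      · intro H γ hγ
        omega
    · intro m hm
      simp only [Finset.mem_insert, Finset.mem_singleton] at hm
      simp only [Set.mem_ofPred_eq, Set.mem_univ, and_true]
      omega
  have hcN := isMono_colonN (fun j : Fin 2 => (j : ℕ) + 1) hN
  have hc₂ : relLen (colonN (fun j : Fin 2 => (X : k⟦X⟧) ^ ((j : ℕ) + 1))
      (modM ↥A (fun j : Fin 2 => (X : k⟦X⟧) ^ ((j : ℕ) + 1))))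
      (modM ↥A (fun j : Fin 2 => (X : k⟦X⟧) ^ ((j : ℕ) + 1))) = ((0 : ℕ) : ℕ∞) := by
    rw [relLen_eq_card_of_isMono hcN hN 0 ?_ (∅ : Finset ℕ) ?_ ?_]
    · rfl
    · intro m _
      exact ⟨trivial, fun _ => trivial⟩
    · intro m
      simp only [Set.mem_ofPred_eq, Set.mem_univ, true_and, Finset.notMem_empty, or_false,
        implies_true]
    · intro m hm
      exact absurd hm (Finset.notMem_empty m)
  rw [length_ext_one_of_pi.{w} Γ hA (fun j : Fin 2 => (j : ℕ) + 1) 6 hL hLs _ 3 hH 3 0 hc₁ hc₂]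
  rfl

end E6

end Groth.Agent.H3.ExtP
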