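import Mathlib
import Groth.Prelude.Def_CGrpSh

/-! Ext groups of a commutative group scheme killed by `m` are killed by `m`. -/

universe u

open CategoryTheory CategoryTheory.Limits AlgebraicGeometry Opposite MonObj MonoidalCategory
  CartesianMonoidalCategory

namespace Groth.Agent.H3.ExtKill

variable {S : Scheme.{u}} (K : Precoverage Scheme.{u}) [(QuotSh.J K S).Subcanonical]

/-- If the `m`-th power of the identity of a commutative group scheme `G` is trivial, then
`m • 𝟙` is zero on its sheaf of points. -/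
theorem nsmul_id_pts (G : Over S) [GrpObj G] [IsCommMonObj G] (m : ℕ)
    (h : (𝟙 G : G ⟶ G) ^ m = 1) : m • 𝟙 (CGrpSh.pts K G) = 0 := by
  apply (sheafToPresheaf _ _).map_injective
  rw [Functor.map_nsmul, Functor.map_zero]
  apply NatTrans.ext
  funext T
  rw [NatTrans.app_nsmul, NatTrans.app_zero]
  apply AddCommGrpCat.ext
  intro x
  change m • x = 0
  apply ULift.ext
  change m • x.down = 0
  have h1 : (Additive.toMul x.down) ^ m = 1 := by
    have := MonObj.comp_pow (𝟙 G : G ⟶ G) m (Additive.toMul x.down)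
    rw [h, MonObj.comp_one, Category.comp_id] at this
    exact this.symm
  exact congrArg Additive.ofMul h1

theorem nsmul_ext_left (G : Over S) [GrpObj G] [IsCommMonObj G] (m : ℕ)
    (h : (𝟙 G : G ⟶ G) ^ m = 1) (F : BigSite.Ab K S) (n : ℕ)
    (x : Abelian.Ext (CGrpSh.pts K G) F n) : m • x = 0 := by
  have h0 := nsmul_id_pts K G m h
  have h1 : m • x = (Abelian.Ext.mk₀ (m • 𝟙 (CGrpSh.pts K G))).comp x (zero_add n) := by
    have h2 : Abelian.Ext.mk₀ (m • 𝟙 (CGrpSh.pts K G)) =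
        m • Abelian.Ext.mk₀ (𝟙 (CGrpSh.pts K G)) :=
      map_nsmul (Abelian.Ext.addEquiv₀ (X := CGrpSh.pts K G) (Y := CGrpSh.pts K G)).symm _ _
    rw [h2]
    have h3 := map_nsmul (x.postcomp (CGrpSh.pts K G) (zero_add n))
      m (Abelian.Ext.mk₀ (𝟙 (CGrpSh.pts K G)))
    simp only [AddMonoidHom.flip_apply, Abelian.Ext.bilinearComp_apply_apply,
      Abelian.Ext.mk₀_id_comp] at h3
    exact h3.symm
  rw [h1, h0, Abelian.Ext.mk₀_zero, Abelian.Ext.zero_comp]

theorem nsmul_ext_right (G : Over S) [GrpObj G] [IsCommMonObj G] (m : ℕ)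
    (h : (𝟙 G : G ⟶ G) ^ m = 1) (F : BigSite.Ab K S) (n : ℕ)
    (x : Abelian.Ext F (CGrpSh.pts K G) n) : m • x = 0 := by
  have h0 := nsmul_id_pts K G m h
  have h1 : m • x = x.comp (Abelian.Ext.mk₀ (m • 𝟙 (CGrpSh.pts K G))) (add_zero n) := by
    have h2 : Abelian.Ext.mk₀ (m • 𝟙 (CGrpSh.pts K G)) =
        m • Abelian.Ext.mk₀ (𝟙 (CGrpSh.pts K G)) :=
      map_nsmul (Abelian.Ext.addEquiv₀ (X := CGrpSh.pts K G) (Y := CGrpSh.pts K G)).symm _ _
    rw [h2]
    have h3 := map_nsmul (x.precomp (CGrpSh.pts K G) (add_zero n))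
      m (Abelian.Ext.mk₀ (𝟙 (CGrpSh.pts K G)))
    simp only [Abelian.Ext.bilinearComp_apply_apply,
      Abelian.Ext.comp_mk₀_id] at h3
    exact h3.symm
  rw [h1, h0, Abelian.Ext.mk₀_zero, Abelian.Ext.comp_zero]

end Groth.Agent.H3.ExtKill
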