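import Groth.Agent.Lib.Helper3.FBaseDim2

/-!
# Dimension of the irreducible components of the inverse image of an irreducible closed set under
extension of the base field
-/

set_option autoImplicit false

universe u

open CategoryTheory Limits AlgebraicGeometry TopologicalSpace Opposite

namespace Groth.Agent.H3.FBaseDim

section Top

variable {A B : Type*} [TopologicalSpace A] [TopologicalSpace B]

theorem preimage_mem_irreducibleComponents (h : A ≃ₜ B) {W : Set B}
    (hW : W ∈ irreducibleComponents B) : h ⁻¹' W ∈ irreducibleComponents A := by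
  refine ⟨?_, fun T hT hWT => ?_⟩
  · have := hW.1.image h.symm h.symm.continuous.continuousOn
    rwa [h.symm.image_eq_preimage_symm] at this
  · have hT' : IsIrreducible (h '' T) := hT.image h h.continuous.continuousOn
    have h1 : W ⊆ h '' T := by
      intro w hw
      refine ⟨h.symm w, hWT ?_, by simp⟩
      simpa using hw
    have h2 := hW.2 hT' h1
    intro t ht
    exact h2 ⟨t, ht, rfl⟩

theorem dim_preimage_eq (h : A ≃ₜ B) (W : Set B) :
    topologicalKrullDim ↥(h ⁻¹' W) = topologicalKrullDim ↥W := by
  have e : ↥(h ⁻¹' W) ≃ₜ ↥W :=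
    (Homeomorph.setCongr (h.symm.image_eq_preimage_symm W).symm).trans (h.symm.image W).symm
  exact IsHomeomorph.topologicalKrullDim_eq _ e.isHomeomorph

end Top

end Groth.Agent.H3.FBaseDim

namespace Groth.Agent.H3.FBaseDim

variable {k K : Type u} [Field k] [Field K] [Algebra k K] {X : Scheme.{u}}

/-- S4663 -/
theorem dim_irreducibleComponent_preimage (f : X ⟶ Spec (CommRingCat.of k))
    [LocallyOfFiniteType f] (Z : Set ↥X) (hZc : IsClosed Z) (hZi : IsIrreducible Z)
    (W : Set ↥(⇑(FBase.bcπ f K) ⁻¹' Z))
    (hW : W ∈ irreducibleComponents ↥(⇑(FBase.bcπ f K) ⁻¹' Z)) :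
    topologicalKrullDim ↥W = topologicalKrullDim ↥Z := by
  -- the reduced induced structure on `Z`
  let I : X.IdealSheafData := Scheme.IdealSheafData.vanishingIdeal ⟨Z, hZc⟩
  let i : I.subscheme ⟶ X := I.subschemeι
  have hri : Set.range i = Z := by
    rw [Scheme.IdealSheafData.range_subschemeι, Scheme.IdealSheafData.coe_support_vanishingIdeal]
    rfl
  let p := FBase.bcπ f K
  let j : pullback i p ⟶ FBase.bc f K := pullback.snd i p
  have hrj : Set.range j = p ⁻¹' Z := by
    rw [Scheme.Pullback.range_snd, hri]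
  -- homeomorphisms
  let hZ : ↥I.subscheme ≃ₜ ↥Z :=
    (i.isEmbedding.toHomeomorph).trans (Homeomorph.setCongr hri)
  let hT : ↥(pullback i p) ≃ₜ ↥(⇑p ⁻¹' Z) :=
    (j.isEmbedding.toHomeomorph).trans (Homeomorph.setCongr hrj)
  haveI : IrreducibleSpace ↥Z := Subtype.irreducibleSpace hZi
  haveI : IrreducibleSpace ↥I.subscheme := hZ.irreducibleSpace_iff.mpr inferInstance
  -- the pullback square over the field extension
  have sq : IsPullback (pullback.fst i p) (j ≫ FBase.bcStr f K) (i ≫ f)
      (Spec.map (CommRingCat.ofHom (algebraMap k K))) :=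
    (IsPullback.of_hasPullback i p).paste_vert (isPullback_bc f K)
  haveI : LocallyOfFiniteType (i ≫ f) := inferInstance
  have key := image_dim_irreducibleComponents_eq (CommRingCat.ofHom (algebraMap k K)) (i ≫ f)
    (j ≫ FBase.bcStr f K) (pullback.fst i p) sq
  have hW₀ := preimage_mem_irreducibleComponents hT hW
  have h1 : topologicalKrullDim ↥(hT ⁻¹' W) ∈
      (fun V : Set ↥(pullback i p) => topologicalKrullDim ↥V) ''
        irreducibleComponents ↥(pullback i p) := ⟨_, hW₀, rfl⟩
  rw [key] at h1
  obtain ⟨V, hV, hVd⟩ := h1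
  rw [irreducibleComponents_eq_singleton, Set.mem_singleton_iff] at hV
  subst hV
  rw [← dim_preimage_eq hT W, ← hVd]
  calc topologicalKrullDim ↥(Set.univ : Set ↥I.subscheme)
      = topologicalKrullDim ↥I.subscheme :=
        IsHomeomorph.topologicalKrullDim_eq _ (Homeomorph.Set.univ _).isHomeomorph
    _ = topologicalKrullDim ↥Z := IsHomeomorph.topologicalKrullDim_eq _ hZ.isHomeomorph

end Groth.Agent.H3.FBaseDim
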