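import Groth.Agent.Lib.Helper3.FBaseDim3

/-!
# Irreducible components of a product of integral schemes of finite type over a field
-/

set_option autoImplicit false

universe u

open CategoryTheory Limits AlgebraicGeometry TopologicalSpace Opposite

namespace Groth.Agent.H3.FBaseDim

open Groth.Agent.H1.FibDimTot Groth.Agent.H1.DimFormula

/-- flat morphisms map maximal points to maximal points -/
theorem isMaxPt_map_of_flat {X Y : Scheme.{u}} (h : X ⟶ Y) [Flat h] (x : X) (hx : IsMaxPt x) :
    IsMaxPt (h x) := by
  intro y hy
  obtain ⟨a', ha', rfl⟩ := (Flat.generalizingMap h) hy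
  rw [hx a' ha']

/-- in an irreducible space, the closure of a maximal point is everything -/
theorem closure_eq_univ_of_isMaxPt {T : Type*} [TopologicalSpace T] [QuasiSober T] [T0Space T]
    [IrreducibleSpace T] (x : T) (hx : IsMaxPt x) : closure ({x} : Set T) = Set.univ := by
  have h1 : closure ({x} : Set T) ∈ irreducibleComponents T :=
    (Groth.Agent.H3.IrrCompBC.mem_genericPoints_iff x).mpr hx
  rw [irreducibleComponents_eq_singleton, Set.mem_singleton_iff] at h1
  exact h1

theorem dim_closure_eq_of_isMaxPt_of_irreducibleSpace {T : Type*} [TopologicalSpace T]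
    [QuasiSober T] [T0Space T] [IrreducibleSpace T] (x : T) (hx : IsMaxPt x) :
    topologicalKrullDim ↥(closure ({x} : Set T)) = topologicalKrullDim T := by
  rw [closure_eq_univ_of_isMaxPt x hx]
  exact IsHomeomorph.topologicalKrullDim_eq _ (Homeomorph.Set.univ _).isHomeomorph

variable {k : Type u} [Field k] {X Y : Scheme.{u}}

/-- S4662 -/
theorem dim_irreducibleComponent_pullback (f : X ⟶ Spec (CommRingCat.of k))
    (g : Y ⟶ Spec (CommRingCat.of k)) [IsIntegral X] [IsIntegral Y]
    [LocallyOfFiniteType f] [LocallyOfFiniteType g] (Z : Set ↥(pullback f g))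
    (hZ : Z ∈ irreducibleComponents ↥(pullback f g)) :
    topologicalKrullDim ↥Z = topologicalKrullDim ↥X + topologicalKrullDim ↥Y := by
  obtain ⟨ζ, hζ, rfl⟩ := exists_isMaxPt_closure_eq hZ
  haveI : LocallyOfFiniteType (pullback.snd f g) := inferInstance
  haveI : Subsingleton (Spec (CommRingCat.of k)) := inferInstanceAs (Subsingleton (PrimeSpectrum k))
  haveI : Flat f := inferInstance
  haveI : Flat (pullback.snd f g) := inferInstance
  rw [dim_closure_eq_add g (pullback.snd f g) ζ]
  -- the image in `Y`
  have h1 : topologicalKrullDim ↥(closure ({pullback.snd f g ζ} : Set Y)) =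
      topologicalKrullDim ↥Y :=
    dim_closure_eq_of_isMaxPt_of_irreducibleSpace _ (isMaxPt_map_of_flat _ ζ hζ)
  -- the fibre
  set η := pullback.snd f g ζ with hη
  have hmax : IsMaxPt ((pullback.snd f g).asFiber ζ) := by
    intro w hw
    have h2 : (pullback.snd f g).fiberι η w ⤳ (pullback.snd f g).fiberι η
        ((pullback.snd f g).asFiber ζ) := hw.map ((pullback.snd f g).fiberι η).continuous
    rw [Scheme.Hom.fiberι_asFiber] at h2
    have h3 := hζ _ h2
    apply ((pullback.snd f g).fiberι η).isEmbedding.injective
    rw [h3, Scheme.Hom.fiberι_asFiber]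
  have left : IsPullback ((pullback.snd f g).fiberι η)
      ((pullback.snd f g).fiberToSpecResidueField η) (pullback.snd f g)
      (Y.fromSpecResidueField η) := IsPullback.of_hasPullback _ _
  have right : IsPullback (pullback.fst f g) (pullback.snd f g) f g := IsPullback.of_hasPullback _ _
  have big := left.paste_horiz right
  let φ : CommRingCat.of k ⟶ CommRingCat.of (Y.residueField η) :=
    Spec.preimage (Y.fromSpecResidueField η ≫ g)
  have hφ : Spec.map φ = Y.fromSpecResidueField η ≫ g := Spec.map_preimage _
  rw [← hφ] at big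
  have key := image_dim_irreducibleComponents_eq φ f
    ((pullback.snd f g).fiberToSpecResidueField η) _ big
  have h4 : topologicalKrullDim ↥(closure ({(pullback.snd f g).asFiber ζ} :
      Set ↥((pullback.snd f g).fiber η))) ∈
      (fun V : Set ↥((pullback.snd f g).fiber η) => topologicalKrullDim ↥V) ''
        irreducibleComponents ↥((pullback.snd f g).fiber η) :=
    ⟨_, (Groth.Agent.H3.IrrCompBC.mem_genericPoints_iff _).mpr hmax, rfl⟩
  rw [key] at h4
  obtain ⟨V, hV, hVd⟩ := h4
  rw [irreducibleComponents_eq_singleton, Set.mem_singleton_iff] at hV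
  subst hV
  have h5 : topologicalKrullDim ↥(Set.univ : Set ↥X) = topologicalKrullDim ↥X :=
    IsHomeomorph.topologicalKrullDim_eq _ (Homeomorph.Set.univ _).isHomeomorph
  rw [h1, ← hVd]
  change _ + topologicalKrullDim ↥(Set.univ : Set ↥X) = _
  rw [h5, add_comm]

end Groth.Agent.H3.FBaseDim
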