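import Groth.Agent.Lib.Helper3.FBaseDim4

/-!
# Irreducible components of a product over a field (S4672)
-/

set_option autoImplicit false

universe u

open CategoryTheory Limits AlgebraicGeometry TopologicalSpace Opposite

namespace Groth.Agent.H3.FBaseIrr

open Groth.Agent.H1.FibDimTot Groth.Agent.H3.FBaseDim

variable {k : Type u} [Field k] {X Y : Scheme.{u}}

/-- the generic point of a maximal irreducible subset of `p⁻¹(X') ∩ q⁻¹(Y')` lies over the
generic points of `X'` and `Y'`. -/
theorem exists_generic (f : X ⟶ Spec (CommRingCat.of k)) (g : Y ⟶ Spec (CommRingCat.of k))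
    (X' : Set ↥X) (hX'c : IsClosed X') (hX'i : IsIrreducible X')
    (Y' : Set ↥Y) (hY'c : IsClosed Y') (hY'i : IsIrreducible Y')
    (W : Set ↥(pullback f g))
    (hW : Maximal (fun V : Set ↥(pullback f g) => IsIrreducible V ∧
      V ⊆ ⇑(pullback.fst f g) ⁻¹' X' ∩ ⇑(pullback.snd f g) ⁻¹' Y') W) :
    ∃ w : ↥(pullback f g), closure {w} = W ∧ closure {pullback.fst f g w} = X' ∧
      closure {pullback.snd f g w} = Y' := by
  set C : Set ↥(pullback f g) := ⇑(pullback.fst f g) ⁻¹' X' ∩ ⇑(pullback.snd f g) ⁻¹' Y' with hC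
  have hCc : IsClosed C :=
    (hX'c.preimage (pullback.fst f g).continuous).inter (hY'c.preimage (pullback.snd f g).continuous)
  -- W is closed
  have hWc : IsClosed W := by
    have h1 : closure W ⊆ W := by
      apply hW.2 ⟨hW.1.1.closure, closure_minimal hW.1.2 hCc⟩ subset_closure
    exact closure_subset_iff_isClosed.mp h1
  obtain ⟨w, hw⟩ := QuasiSober.sober hW.1.1 hWc
  have hwW : closure ({w} : Set ↥(pullback f g)) = W := hw.def
  -- subscheme structures
  let I := Scheme.IdealSheafData.vanishingIdeal ⟨X', hX'c⟩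
  let J := Scheme.IdealSheafData.vanishingIdeal ⟨Y', hY'c⟩
  let iX : I.subscheme ⟶ X := I.subschemeι
  let iY : J.subscheme ⟶ Y := J.subschemeι
  have hrX : Set.range iX = X' := by
    rw [Scheme.IdealSheafData.range_subschemeι, Scheme.IdealSheafData.coe_support_vanishingIdeal]
    rfl
  have hrY : Set.range iY = Y' := by
    rw [Scheme.IdealSheafData.range_subschemeι, Scheme.IdealSheafData.coe_support_vanishingIdeal]
    rfl
  let j : pullback (iX ≫ f) (iY ≫ g) ⟶ pullback f g :=
    pullback.map (iX ≫ f) (iY ≫ g) f g iX iY (𝟙 _) ((Category.comp_id _).trans rfl)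
      ((Category.comp_id _).trans rfl)
  haveI : IsClosedImmersion j :=
    MorphismProperty.pullbackMap (P := @IsClosedImmersion) (inferInstanceAs (IsClosedImmersion iX))
      (inferInstanceAs (IsClosedImmersion iY)) rfl rfl
  have hrj : Set.range j = C := by
    rw [Scheme.Pullback.range_map, hrX, hrY]
  have hwC : w ∈ C := hW.1.2 (hwW ▸ subset_closure (Set.mem_singleton w))
  obtain ⟨t, ht⟩ : w ∈ Set.range j := hrj ▸ hwC
  -- t is a maximal point
  have htmax : IsMaxPt t := by
    intro t' ht'
    have h1 : j t' ⤳ j t := ht'.map j.continuous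
    rw [ht] at h1
    have h2 : closure ({j t'} : Set ↥(pullback f g)) ⊆ W := by
      apply hW.2 ⟨isIrreducible_singleton.closure, ?_⟩
      · rw [← hwW]
        apply closure_minimal _ isClosed_closure
        rw [Set.singleton_subset_iff]
        exact specializes_iff_mem_closure.mp h1
      · apply closure_minimal _ hCc
        rw [Set.singleton_subset_iff, ← hrj]
        exact ⟨t', rfl⟩
    have h3 : w ⤳ j t' := by
      rw [specializes_iff_mem_closure, hwW]
      exact h2 (subset_closure (Set.mem_singleton _))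
    have h4 : j t' = w := (h1.antisymm h3).eq
    apply j.isEmbedding.injective
    rw [h4, ht]
  haveI : Subsingleton (Spec (CommRingCat.of k)) := inferInstanceAs (Subsingleton (PrimeSpectrum k))
  haveI : Flat (iX ≫ f) := inferInstance
  haveI : Flat (iY ≫ g) := inferInstance
  haveI : IrreducibleSpace ↥I.subscheme := by
    have e : ↥I.subscheme ≃ₜ ↥(Set.range iX) := iX.isEmbedding.toHomeomorph
    rw [e.irreducibleSpace_iff, hrX]
    exact Subtype.irreducibleSpace hX'i
  haveI : IrreducibleSpace ↥J.subscheme := by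
    have e : ↥J.subscheme ≃ₜ ↥(Set.range iY) := iY.isEmbedding.toHomeomorph
    rw [e.irreducibleSpace_iff, hrY]
    exact Subtype.irreducibleSpace hY'i
  refine ⟨w, hwW, ?_, ?_⟩
  · have h1 : closure ({pullback.fst (iX ≫ f) (iY ≫ g) t} : Set ↥I.subscheme) = Set.univ :=
      closure_eq_univ_of_isMaxPt _ (isMaxPt_map_of_flat _ t htmax)
    have h2 : pullback.fst f g w = iX (pullback.fst (iX ≫ f) (iY ≫ g) t) := by
      have e : j ≫ pullback.fst f g = pullback.fst (iX ≫ f) (iY ≫ g) ≫ iX :=
        pullback.lift_fst _ _ _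
      rw [← ht, ← Scheme.Hom.comp_apply, e, Scheme.Hom.comp_apply]
    rw [h2, ← Set.image_singleton, iX.isClosedEmbedding.closure_image_eq, h1, Set.image_univ, hrX]
  · have h1 : closure ({pullback.snd (iX ≫ f) (iY ≫ g) t} : Set ↥J.subscheme) = Set.univ :=
      closure_eq_univ_of_isMaxPt _ (isMaxPt_map_of_flat _ t htmax)
    have h2 : pullback.snd f g w = iY (pullback.snd (iX ≫ f) (iY ≫ g) t) := by
      have e : j ≫ pullback.snd f g = pullback.snd (iX ≫ f) (iY ≫ g) ≫ iY :=
        pullback.lift_snd _ _ _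
      rw [← ht, ← Scheme.Hom.comp_apply, e, Scheme.Hom.comp_apply]
    rw [h2, ← Set.image_singleton, iY.isClosedEmbedding.closure_image_eq, h1, Set.image_univ, hrY]

/-- S4672 -/
theorem mem_irreducibleComponents_pullback_iff (f : X ⟶ Spec (CommRingCat.of k))
    (g : Y ⟶ Spec (CommRingCat.of k)) (W : Set ↥(pullback f g)) :
    W ∈ irreducibleComponents ↥(pullback f g) ↔
      ∃ X' ∈ irreducibleComponents ↥X, ∃ Y' ∈ irreducibleComponents ↥Y,
        Maximal (fun V : Set ↥(pullback f g) => IsIrreducible V ∧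
          V ⊆ ⇑(pullback.fst f g) ⁻¹' X' ∩ ⇑(pullback.snd f g) ⁻¹' Y') W := by
  constructor
  · intro hW
    obtain ⟨X', hX', hX'W⟩ := exists_mem_irreducibleComponents_subset_of_isIrreducible _
      (hW.1.image (pullback.fst f g) (pullback.fst f g).continuous.continuousOn)
    obtain ⟨Y', hY', hY'W⟩ := exists_mem_irreducibleComponents_subset_of_isIrreducible _
      (hW.1.image (pullback.snd f g) (pullback.snd f g).continuous.continuousOn)
    refine ⟨X', hX', Y', hY', ⟨hW.1, ?_⟩, fun V hV hWV => hW.2 hV.1 hWV⟩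
    intro z hz
    exact ⟨hX'W ⟨z, hz, rfl⟩, hY'W ⟨z, hz, rfl⟩⟩
  · rintro ⟨X', hX', Y', hY', hW⟩
    obtain ⟨w, hwW, hwX, hwY⟩ := exists_generic f g X'
      (isClosed_of_mem_irreducibleComponents X' hX') hX'.1 Y'
      (isClosed_of_mem_irreducibleComponents Y' hY') hY'.1 W hW
    refine ⟨hW.1.1, ?_⟩
    intro V hV hWV
    have hwV : w ∈ V := hWV (hwW ▸ subset_closure (Set.mem_singleton w))
    apply hW.2 ⟨hV, ?_⟩ hWV
    have hVX : closure (pullback.fst f g '' V) ⊆ X' := by
      apply hX'.2 (hV.image _ (pullback.fst f g).continuous.continuousOn).closure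
      rw [← hwX]
      apply closure_mono
      rw [Set.singleton_subset_iff]
      exact ⟨w, hwV, rfl⟩
    have hVY : closure (pullback.snd f g '' V) ⊆ Y' := by
      apply hY'.2 (hV.image _ (pullback.snd f g).continuous.continuousOn).closure
      rw [← hwY]
      apply closure_mono
      rw [Set.singleton_subset_iff]
      exact ⟨w, hwV, rfl⟩
    intro z hz
    exact ⟨hVX (subset_closure ⟨z, hz, rfl⟩), hVY (subset_closure ⟨z, hz, rfl⟩)⟩

end Groth.Agent.H3.FBaseIrr
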