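import Groth.Agent.Lib.Helper1.GeomRed
import Groth.Prelude.Def_FDesc

/-!
# Products of geometrically reduced schemes over a field
-/

set_option autoImplicit false

universe u

open CategoryTheory Limits AlgebraicGeometry TopologicalSpace Opposite TensorProduct

namespace Groth.Agent.H3.FBaseRed

variable {k : Type u} [Field k]

/-- if `A` stays reduced after every field extension, `B ⊗ A` is reduced for every reduced `B` -/
theorem isReduced_tensor_of_geomReduced {A B : Type u} [CommRing A] [CommRing B] [Algebra k A]
    [Algebra k B] [IsReduced B]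
    (hA : ∀ (L : Type u) [Field L] [Algebra k L], IsReduced (L ⊗[k] A)) : IsReduced (B ⊗[k] A) :=
  Groth.Agent.H1.GeomRed.isReduced_tensor_of_forall_prime fun p _ => hA p.ResidueField

/-- open immersion followed by a geometrically reduced morphism -/
theorem geometricallyReduced_comp_of_isOpenImmersion {U X S : Scheme.{u}} (j : U ⟶ X)
    [IsOpenImmersion j] (f : X ⟶ S) [GeometricallyReduced f] : GeometricallyReduced (j ≫ f) := by
  refine ⟨fun K _ y Z fst snd h => ?_⟩
  haveI hW : IsReduced (pullback f y) :=
    GeometricallyReduced.geometrically_isReduced (f := f) y (pullback.fst f y) (pullback.snd f y)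
      (IsPullback.of_hasPullback f y)
  let l : Z ⟶ pullback f y := pullback.lift (fst ≫ j) snd (by rw [Category.assoc]; exact h.w)
  have hl1 : l ≫ pullback.fst f y = fst ≫ j := pullback.lift_fst _ _ _
  have hl2 : l ≫ pullback.snd f y = snd := pullback.lift_snd _ _ _
  have big : IsPullback (l ≫ pullback.snd f y) fst y (j ≫ f) := by
    rw [hl2]; exact h.flip
  have left : IsPullback l fst (pullback.fst f y) j :=
    IsPullback.of_right big hl1 (IsPullback.of_hasPullback f y).flip
  haveI : IsOpenImmersion l :=
    MorphismProperty.of_isPullback (P := @IsOpenImmersion) left.flip inferInstance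
  exact isReduced_of_isOpenImmersion l

/-- the ring of an affine scheme geometrically reduced over `k` stays reduced after any field
extension -/
theorem isReduced_tensor_of_geometricallyReduced_Spec (A : Type u) [CommRing A] [Algebra k A]
    [GeometricallyReduced (Spec.map (CommRingCat.ofHom (algebraMap k A)))]
    (L : Type u) [Field L] [Algebra k L] : IsReduced (L ⊗[k] A) := by
  haveI h1 : IsReduced (pullback (Spec.map (CommRingCat.ofHom (algebraMap k A)))
      (Spec.map (CommRingCat.ofHom (algebraMap k L)))) :=
    GeometricallyReduced.geometrically_isReduced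
      (f := Spec.map (CommRingCat.ofHom (algebraMap k A)))
      (Spec.map (CommRingCat.ofHom (algebraMap k L))) (pullback.fst _ _) (pullback.snd _ _)
      (IsPullback.of_hasPullback _ _)
  haveI h2 : IsReduced (Spec (.of (A ⊗[k] L))) :=
    isReduced_of_isOpenImmersion (pullbackSpecIso k A L).inv
  have h3 : IsReduced (A ⊗[k] L) := (affine_isReduced_iff (.of (A ⊗[k] L))).mp h2
  let e := Algebra.TensorProduct.comm k L A
  exact isReduced_of_injective e.toRingHom e.injective

/-- **a geometrically reduced scheme times a reduced scheme is reduced** (no Noetherian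
hypothesis) -/
theorem isReduced_pullback_of_geomReduced {X Z : Scheme.{u}} (f : X ⟶ Spec (CommRingCat.of k))
    [GeometricallyReduced f] (h : Z ⟶ Spec (CommRingCat.of k)) [IsReduced Z] :
    IsReduced (pullback f h) := by
  refine @IsReduced.of_openCover _
    (Scheme.Pullback.openCoverOfLeftRight X.affineOpenCover.openCover
      Z.affineOpenCover.openCover f h) ?_
  rintro ⟨i, j⟩
  change IsReduced (pullback (X.affineOpenCover.f i ≫ f) (Z.affineOpenCover.f j ≫ h))
  obtain ⟨φ, hφ⟩ : ∃ φ : CommRingCat.of k ⟶ X.affineOpenCover.X i,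
      Spec.map φ = X.affineOpenCover.f i ≫ f := ⟨Spec.preimage _, Spec.map_preimage _⟩
  obtain ⟨ψ, hψ⟩ : ∃ ψ : CommRingCat.of k ⟶ Z.affineOpenCover.X j,
      Spec.map ψ = Z.affineOpenCover.f j ≫ h := ⟨Spec.preimage _, Spec.map_preimage _⟩
  haveI hg : GeometricallyReduced (X.affineOpenCover.f i ≫ f) :=
    geometricallyReduced_comp_of_isOpenImmersion _ f
  rw [← hφ] at hg
  rw [← hφ, ← hψ]
  algebraize [φ.hom, ψ.hom]
  haveI hB1 : IsReduced (Spec (Z.affineOpenCover.X j)) :=
    isReduced_of_isOpenImmersion (Z.affineOpenCover.f j)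
  haveI hB : IsReduced (Z.affineOpenCover.X j) := (affine_isReduced_iff _).mp hB1
  have hφ' : φ = CommRingCat.ofHom (algebraMap k (X.affineOpenCover.X i)) := rfl
  have hψ' : ψ = CommRingCat.ofHom (algebraMap k (Z.affineOpenCover.X j)) := rfl
  rw [hφ'] at hg
  haveI := hg
  haveI h1 : IsReduced ((Z.affineOpenCover.X j) ⊗[k] (X.affineOpenCover.X i)) :=
    isReduced_tensor_of_geomReduced
      (fun L _ _ => isReduced_tensor_of_geometricallyReduced_Spec (X.affineOpenCover.X i) L)
  let e := Algebra.TensorProduct.comm k (X.affineOpenCover.X i) (Z.affineOpenCover.X j)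
  haveI h2 : IsReduced ((X.affineOpenCover.X i) ⊗[k] (Z.affineOpenCover.X j)) :=
    isReduced_of_injective e.toRingHom e.injective
  haveI h3 : IsReduced (Spec (.of ((X.affineOpenCover.X i) ⊗[k] (Z.affineOpenCover.X j)))) :=
    (affine_isReduced_iff _).mpr h2
  rw [hφ', hψ']
  exact isReduced_of_isOpenImmersion
    (pullbackSpecIso k (X.affineOpenCover.X i) (Z.affineOpenCover.X j)).hom

variable {X Y : Scheme.{u}}

/-- **products of geometrically reduced schemes over a field are geometrically reduced** -/
theorem geometricallyReduced_pullback (f : X ⟶ Spec (CommRingCat.of k))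
    (g : Y ⟶ Spec (CommRingCat.of k)) [GeometricallyReduced f] [GeometricallyReduced g] :
    GeometricallyReduced (pullback.fst f g ≫ f) := by
  rw [pullback.condition]
  refine ⟨fun K _ y Z fst snd h => ?_⟩
  haveI hZ : IsReduced (pullback g y) :=
    GeometricallyReduced.geometrically_isReduced (f := g) y (pullback.fst g y) (pullback.snd g y)
      (IsPullback.of_hasPullback g y)
  haveI h1 : IsReduced (pullback f (pullback.fst g y ≫ g)) :=
    isReduced_pullback_of_geomReduced f (pullback.fst g y ≫ g)
  let e1 : pullback (pullback.snd f g) (pullback.fst g y) ≅ pullback (pullback.snd f g ≫ g) y :=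
    pullbackRightPullbackFstIso g y (pullback.snd f g)
  let e2 : pullback (pullback.snd f g) (pullback.fst g y) ≅ pullback f (pullback.fst g y ≫ g) :=
    pullbackLeftPullbackSndIso f g (pullback.fst g y)
  let e3 : Z ≅ pullback (pullback.snd f g ≫ g) y := h.isoPullback
  exact isReduced_of_isOpenImmersion (e3 ≪≫ e1.symm ≪≫ e2).hom

end Groth.Agent.H3.FBaseRed
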