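import Mathlib

/-!
# Effectivity of descent for modules: the abstract comodule lemma (Mathlib only)

`R → S` flat, `N` an `S`-module, `P` a model of `S ⊗[R] N` (via `j`), `Q` a model of `S ⊗[R] P`
(via `j'`), `ρ : N → P` an `S`-linear "coaction" with counit and coassociativity.
Then the equalizer `M` of `ρ` and `j` satisfies `S ⊗[R] M ≃ N`.
-/

set_option autoImplicit false
open TensorProduct

namespace Groth.Agent.H3.FFDesc

variable {R S N P Q : Type*} [CommRing R] [CommRing S] [Algebra R S] [Module.Flat R S]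
  [AddCommGroup N] [Module R N] [Module S N] [IsScalarTower R S N]
  [AddCommGroup P] [Module R P] [Module S P] [IsScalarTower R S P]
  [AddCommGroup Q] [Module R Q] [Module S Q] [IsScalarTower R S Q]

theorem isBaseChange_eqLocus (j : N →ₗ[R] P) (hj : IsBaseChange S j) (ρ : N →ₗ[S] P)
    (j' : P →ₗ[R] Q) (hj' : IsBaseChange S j')
    (hcounit : ∀ n, hj.lift LinearMap.id (ρ n) = n)
    (hcoassoc : ∀ n, hj.lift (j' ∘ₗ ρ.restrictScalars R) (ρ n) = hj.lift (j' ∘ₗ j) (ρ n)) :
    IsBaseChange S (LinearMap.eqLocus (ρ.restrictScalars R) j).subtype := by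
  classical
  set M := LinearMap.eqLocus (ρ.restrictScalars R) j with hM
  set ρ' : P →ₗ[S] Q := hj.lift (j' ∘ₗ ρ.restrictScalars R) with hρ'
  set ι' : P →ₗ[S] Q := hj.lift (j' ∘ₗ j) with hι'
  set ε : P →ₗ[S] N := hj.lift LinearMap.id with hε
  set μ : Q →ₗ[S] P := hj'.lift LinearMap.id with hμ
  have hρ'j : ∀ n, ρ' (j n) = j' (ρ n) := fun n => by
    rw [hρ', hj.lift_eq]; rfl
  have hι'j : ∀ n, ι' (j n) = j' (j n) := fun n => by
    rw [hι', hj.lift_eq]; rfl
  have hεj : ∀ n, ε (j n) = n := fun n => by rw [hε, hj.lift_eq]; rfl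
  have hμj : ∀ p, μ (j' p) = p := fun p => by rw [hμ, hj'.lift_eq]; rfl
  -- Claim A and B
  have hA : μ ∘ₗ ρ' = ρ ∘ₗ ε := by
    apply hj.algHom_ext
    intro n
    simp only [LinearMap.comp_apply, hρ'j, hμj, hεj]
  have hB : μ ∘ₗ ι' = LinearMap.id := by
    apply hj.algHom_ext
    intro n
    simp only [LinearMap.comp_apply, hι'j, hμj, LinearMap.id_apply]
  have hkey : ∀ p, ρ' p = ι' p → ρ (ε p) = p := by
    intro p hp
    have h1 := LinearMap.congr_fun hA p
    have h2 := LinearMap.congr_fun hB p
    simp only [LinearMap.comp_apply, LinearMap.id_apply] at h1 h2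
    rw [← h1, hp, h2]
  -- the equivalences
  let e₁ : S ⊗[R] N ≃ₗ[S] P := hj.equiv
  let e₂ : S ⊗[R] P ≃ₗ[S] Q := hj'.equiv
  let d : N →ₗ[R] P := ρ.restrictScalars R - j
  have hexact : Function.Exact M.subtype d := by
    intro n
    constructor
    · intro hn
      have h2 : ρ n - j n = 0 := hn
      exact ⟨⟨n, (LinearMap.mem_eqLocus).mpr (sub_eq_zero.mp h2)⟩, rfl⟩
    · rintro ⟨m, rfl⟩
      have h2 : (ρ.restrictScalars R) m.1 = j m.1 := (LinearMap.mem_eqLocus).mp m.2
      change ρ m.1 - j m.1 = 0
      exact sub_eq_zero.mpr h2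
  have hexact' : Function.Exact (LinearMap.lTensor S M.subtype) (LinearMap.lTensor S d) :=
    Module.Flat.lTensor_exact S hexact
  have hinj' : Function.Injective (LinearMap.lTensor S M.subtype) :=
    Module.Flat.lTensor_preserves_injective_linearMap M.subtype Subtype.val_injective
  have hc1 : ∀ y : S ⊗[R] N, e₂ (LinearMap.lTensor S (ρ.restrictScalars R) y) = ρ' (e₁ y) := by
    intro y
    induction y using TensorProduct.induction_on with
    | zero => simp
    | tmul s n =>
      simp only [LinearMap.lTensor_tmul, e₁, e₂, IsBaseChange.equiv_tmul, map_smul, hρ'j]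
      rfl
    | add x y hx hy => simp only [map_add, hx, hy]
  have hc2 : ∀ y : S ⊗[R] N, e₂ (LinearMap.lTensor S j y) = ι' (e₁ y) := by
    intro y
    induction y using TensorProduct.induction_on with
    | zero => simp
    | tmul s n =>
      simp only [LinearMap.lTensor_tmul, e₁, e₂, IsBaseChange.equiv_tmul, map_smul, hι'j]
    | add x y hx hy => simp only [map_add, hx, hy]
  have hd : ∀ y : S ⊗[R] N, LinearMap.lTensor S d y = 0 ↔ ρ' (e₁ y) = ι' (e₁ y) := by
    intro y
    rw [← hc1, ← hc2, e₂.injective.eq_iff]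
    simp only [d, LinearMap.lTensor_sub, LinearMap.sub_apply, sub_eq_zero]
  let lam : S ⊗[R] M →ₗ[S] N := LinearMap.liftBaseChange S M.subtype
  have hlam : ∀ x, lam x = ε (e₁ (LinearMap.lTensor S M.subtype x)) := by
    intro x
    induction x using TensorProduct.induction_on with
    | zero => simp
    | tmul s m =>
      simp only [lam, LinearMap.liftBaseChange_tmul, LinearMap.lTensor_tmul, e₁,
        IsBaseChange.equiv_tmul, map_smul, hεj]
    | add x y hx hy => simp only [map_add, hx, hy]
  have hbij : Function.Bijective lam := by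
    constructor
    · rw [injective_iff_map_eq_zero]
      intro x hx
      set y := LinearMap.lTensor S M.subtype x with hy
      have h0 : LinearMap.lTensor S d y = 0 := by
        have := hexact'.apply_apply_eq_zero x
        exact this
      have h1 := hkey _ ((hd y).mp h0)
      rw [← hlam, hx, map_zero] at h1
      have h2 : y = 0 := e₁.injective (by rw [← h1, map_zero])
      exact hinj' (by rw [← hy, h2, map_zero])
    · intro n
      set y := e₁.symm (ρ n) with hy
      have hy' : e₁ y = ρ n := by simp [hy]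
      have h0 : LinearMap.lTensor S d y = 0 := by
        rw [hd, hy']
        exact hcoassoc n
      obtain ⟨x, hx⟩ := (hexact' y).mp h0
      refine ⟨x, ?_⟩
      rw [hlam, hx, hy', hε]
      exact hcounit n
  exact IsBaseChange.of_equiv (LinearEquiv.ofBijective lam hbij) (fun m => by
    simp [lam, LinearMap.liftBaseChange_tmul])

end Groth.Agent.H3.FFDesc
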