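import Mathlib

/-!
# Base change along a pushout square, `IsBaseChange` form (Mathlib only)
-/

set_option autoImplicit false
open TensorProduct

namespace Groth.Agent.H3.FFDesc

section Pushout

variable (R S A B M : Type*) [CommRing R] [CommRing S] [CommRing A] [CommRing B]
  [Algebra R S] [Algebra R A] [Algebra R B] [Algebra A B] [Algebra S B]
  [IsScalarTower R A B] [IsScalarTower R S B] [Algebra.IsPushout R S A B]
  [AddCommGroup M] [Module R M] [Module A M] [IsScalarTower R A M]

/-- For a pushout square `R → S`, `R → A`, `B = S ⊗[R] A` and an `A`-module `M`, the `A`-base change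
`B ⊗[A] M`, viewed as an `S`-module, is the base change of `M` (as `R`-module) along `R → S`. -/
theorem isBaseChange_mk_of_isPushout :
    IsBaseChange S ((TensorProduct.mk A B M 1).restrictScalars R) := by
  refine IsBaseChange.of_equiv (Algebra.IsPushout.cancelBaseChange R S A B M).symm ?_
  intro m
  simp

end Pushout

end Groth.Agent.H3.FFDesc
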