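import Groth.Prelude.Def_Desc
import Mathlib

/-!
# Unwrapping Mathlib descent data for `Desc.ringModPF` relative to a single ring map
-/

set_option autoImplicit false
open CategoryTheory Opposite TensorProduct ChangeOfRings
universe u

namespace Groth.Agent.H3.FFDesc

variable {R S : Type u} [CommRing R] [CommRing S] [Algebra R S]

/-- the structure map as a morphism of `CommRingCat` -/
abbrev phi0 (R S : Type u) [CommRing R] [CommRing S] [Algebra R S] :
    CommRingCat.of R ⟶ CommRingCat.of S := CommRingCat.ofHom (algebraMap R S)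

variable (D : Desc.ringModPF.{u}.DescentData
  (fun _ : PUnit.{u + 1} => (CommRingCat.ofHom (algebraMap R S)).op))

/-- the underlying `S`-module of a descent datum -/
def DN : ModuleCat.{u} S := D.obj PUnit.unit

/-- the comparison morphism attached to two ring maps `S ⇉ T` agreeing on `R` -/
def Psi {T : Type u} [CommRing T] (g₁ g₂ : CommRingCat.of S ⟶ CommRingCat.of T)
    (h : phi0 R S ≫ g₁ = phi0 R S ≫ g₂) :
    (ModuleCat.extendScalars g₁.hom).obj (DN D) ⟶ (ModuleCat.extendScalars g₂.hom).obj (DN D) :=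
  D.hom (g₁.op ≫ (phi0 R S).op) (i₁ := PUnit.unit) (i₂ := PUnit.unit) g₁.op g₂.op rfl
    (by rw [← op_comp, ← op_comp, h])

theorem hom_eq_Psi {T : Type u} [CommRing T] (q : op (CommRingCat.of T) ⟶ op (CommRingCat.of R))
    (g₁ g₂ : CommRingCat.of S ⟶ CommRingCat.of T)
    (h₁ : g₁.op ≫ (phi0 R S).op = q) (h₂ : g₂.op ≫ (phi0 R S).op = q) :
    D.hom q (i₁ := PUnit.unit) (i₂ := PUnit.unit) g₁.op g₂.op h₁ h₂ =
      Psi D g₁ g₂ (by
        have := h₁.trans h₂.symm
        rw [← op_comp, ← op_comp] at this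
        exact Quiver.Hom.op_inj this) := by
  subst h₁
  rfl

theorem Psi_self {T : Type u} [CommRing T] (g : CommRingCat.of S ⟶ CommRingCat.of T) :
    Psi D g g rfl = 𝟙 _ :=
  D.hom_self _ _ rfl

theorem Psi_comp {T : Type u} [CommRing T] (g₁ g₂ g₃ : CommRingCat.of S ⟶ CommRingCat.of T)
    (h₁₂ : phi0 R S ≫ g₁ = phi0 R S ≫ g₂) (h₂₃ : phi0 R S ≫ g₂ = phi0 R S ≫ g₃) :
    Psi D g₁ g₂ h₁₂ ≫ Psi D g₂ g₃ h₂₃ = Psi D g₁ g₃ (h₁₂.trans h₂₃) := by
  have e2 : g₂.op ≫ (phi0 R S).op = g₁.op ≫ (phi0 R S).op := by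
    rw [← op_comp, ← op_comp, h₁₂]
  have e3 : g₃.op ≫ (phi0 R S).op = g₁.op ≫ (phi0 R S).op := by
    rw [← op_comp, ← op_comp, ← h₂₃, h₁₂]
  have := D.hom_comp (g₁.op ≫ (phi0 R S).op) (i₁ := PUnit.unit) (i₂ := PUnit.unit)
    (i₃ := PUnit.unit) g₁.op g₂.op g₃.op rfl e2 e3
  rw [hom_eq_Psi D _ g₁ g₂ rfl e2, hom_eq_Psi D _ g₂ g₃ e2 e3, hom_eq_Psi D _ g₁ g₃ rfl e3] at this
  exact this

end Groth.Agent.H3.FFDesc

namespace Groth.Agent.H3.FFDesc

variable {R S : Type u} [CommRing R] [CommRing S] [Algebra R S]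
variable (D : Desc.ringModPF.{u}.DescentData
  (fun _ : PUnit.{u + 1} => (CommRingCat.ofHom (algebraMap R S)).op))

theorem Psi_pull {T T' : Type u} [CommRing T] [CommRing T'] (g₁ g₂ : CommRingCat.of S ⟶ CommRingCat.of T)
    (h : phi0 R S ≫ g₁ = phi0 R S ≫ g₂) (k : CommRingCat.of T ⟶ CommRingCat.of T') :
    Psi D (g₁ ≫ k) (g₂ ≫ k) (by rw [← Category.assoc, ← Category.assoc, h]) =
      (ModuleCat.extendScalarsComp g₁.hom k.hom).hom.app (DN D) ≫
        (ModuleCat.extendScalars k.hom).map (Psi D g₁ g₂ h) ≫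
          (ModuleCat.extendScalarsComp g₂.hom k.hom).inv.app (DN D) := by
  have e2 : g₂.op ≫ (phi0 R S).op = g₁.op ≫ (phi0 R S).op := by
    rw [← op_comp, ← op_comp, h]
  have e2' : (g₂ ≫ k).op ≫ (phi0 R S).op = (g₁ ≫ k).op ≫ (phi0 R S).op := by
    rw [← op_comp, ← op_comp, ← Category.assoc, ← Category.assoc, h]
  have := D.pullHom_hom k.op (g₁.op ≫ (phi0 R S).op) ((g₁ ≫ k).op ≫ (phi0 R S).op) (by simp)
    (i₁ := PUnit.unit) (i₂ := PUnit.unit) g₁.op g₂.op rfl e2 (g₁ ≫ k).op (g₂ ≫ k).op rfl rfl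
  rw [hom_eq_Psi D _ g₁ g₂ rfl e2, hom_eq_Psi D _ (g₁ ≫ k) (g₂ ≫ k) rfl e2'] at this
  rw [← this]
  dsimp only [Pseudofunctor.LocallyDiscreteOpToCat.pullHom]
  have e1 : Desc.ringModPF.{u}.mapComp' g₁.op.op.toLoc k.op.op.toLoc (g₁ ≫ k).op.op.toLoc rfl =
      Desc.ringModPF.{u}.mapComp g₁.op.op.toLoc k.op.op.toLoc :=
    Pseudofunctor.mapComp'_eq_mapComp _ _ _
  have e2'' : Desc.ringModPF.{u}.mapComp' g₂.op.op.toLoc k.op.op.toLoc (g₂ ≫ k).op.op.toLoc rfl =
      Desc.ringModPF.{u}.mapComp g₂.op.op.toLoc k.op.op.toLoc :=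
    Pseudofunctor.mapComp'_eq_mapComp _ _ _
  rw [e1, e2'']
  rfl

end Groth.Agent.H3.FFDesc

namespace Groth.Agent.H3.FFDesc

variable {S : Type u} [CommRing S]

/-- the element `1 ⊗ n` of the extension of scalars -/
noncomputable def eta {A : Type u} [CommRing A] (N : ModuleCat.{u} A) {T : Type u} [CommRing T]
    (g : CommRingCat.of A ⟶ CommRingCat.of T) (n : N) : (ModuleCat.extendScalars g.hom).obj N :=
  (ModuleCat.extendRestrictScalarsAdj g.hom).unit.app N n

theorem eta_add {A : Type u} [CommRing A] (N : ModuleCat.{u} A) {T : Type u} [CommRing T]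
    (g : CommRingCat.of A ⟶ CommRingCat.of T) (n n' : N) : eta N g (n + n') = eta N g n + eta N g n' :=
  map_add ((ModuleCat.extendRestrictScalarsAdj g.hom).unit.app N).hom n n'

theorem eta_smul {A : Type u} [CommRing A] (N : ModuleCat.{u} A) {T : Type u} [CommRing T]
    (g : CommRingCat.of A ⟶ CommRingCat.of T) (a : A) (n : N) : eta N g (a • n) = (g.hom a : T) • eta N g n :=
  map_smul ((ModuleCat.extendRestrictScalarsAdj g.hom).unit.app N).hom a n

theorem hom_ext_eta {A : Type u} [CommRing A] (N : ModuleCat.{u} A) {T : Type u} [CommRing T]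
    (g : CommRingCat.of A ⟶ CommRingCat.of T) {X : ModuleCat.{u} T}
    {α β : (ModuleCat.extendScalars g.hom).obj N ⟶ X} (h : ∀ n : N, α (eta N g n) = β (eta N g n)) :
    α = β :=
  ModuleCat.ExtendScalars.hom_ext h

/-- base change of elements along `k`: `t ⊗ n ↦ k t ⊗ n`, as a `T`-linear map into the restriction. -/
noncomputable def bc (N : ModuleCat.{u} S) {T T' : Type u} [CommRing T] [CommRing T'] (g : CommRingCat.of S ⟶ CommRingCat.of T)
    (k : CommRingCat.of T ⟶ CommRingCat.of T') (g' : CommRingCat.of S ⟶ CommRingCat.of T') (e : g ≫ k = g') :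
    (ModuleCat.extendScalars g.hom).obj N ⟶
      (ModuleCat.restrictScalars k.hom).obj ((ModuleCat.extendScalars g'.hom).obj N) :=
  (ModuleCat.extendRestrictScalarsAdj k.hom).unit.app _ ≫
    (ModuleCat.restrictScalars k.hom).map ((ModuleCat.extendScalarsComp g.hom k.hom).inv.app N ≫
      eqToHom (by subst e; rfl))

theorem extendScalarsComp_hom_eta (N : ModuleCat.{u} S) {T T' : Type u} [CommRing T] [CommRing T']
    (g : CommRingCat.of S ⟶ CommRingCat.of T) (k : CommRingCat.of T ⟶ CommRingCat.of T') (n : N) :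
    (ModuleCat.extendScalarsComp g.hom k.hom).hom.app N (eta N (g ≫ k) n) =
      eta (A := T) ((ModuleCat.extendScalars g.hom).obj N) k (eta N g n) :=
  ModuleCat.extendScalarsComp_hom_app_one_tmul g.hom k.hom N n

theorem bc_eta (N : ModuleCat.{u} S) {T T' : Type u} [CommRing T] [CommRing T'] (g : CommRingCat.of S ⟶ CommRingCat.of T)
    (k : CommRingCat.of T ⟶ CommRingCat.of T') (g' : CommRingCat.of S ⟶ CommRingCat.of T') (e : g ≫ k = g') (n : N) :
    bc N g k g' e (eta N g n) = eta N g' n := by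
  subst e
  have h := extendScalarsComp_hom_eta N g k n
  have h2 := ConcreteCategory.congr_hom (Iso.hom_inv_id_app (ModuleCat.extendScalarsComp g.hom k.hom) N)
    (eta N (g ≫ k) n)
  rw [ModuleCat.comp_apply, h] at h2
  simp only [bc, eqToHom_refl, Category.comp_id]
  exact h2

theorem bc_smul (N : ModuleCat.{u} S) {T T' : Type u} [CommRing T] [CommRing T'] (g : CommRingCat.of S ⟶ CommRingCat.of T)
    (k : CommRingCat.of T ⟶ CommRingCat.of T') (g' : CommRingCat.of S ⟶ CommRingCat.of T') (e : g ≫ k = g') (t : T)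
    (p : (ModuleCat.extendScalars g.hom).obj N) :
    bc N g k g' e (t • p) = (k.hom t : T') • (show (ModuleCat.extendScalars g'.hom).obj N from bc N g k g' e p) := by
  rw [map_smul]
  rfl

end Groth.Agent.H3.FFDesc

namespace Groth.Agent.H3.FFDesc

variable {R S : Type u} [CommRing R] [CommRing S] [Algebra R S]
variable (D : Desc.ringModPF.{u}.DescentData
  (fun _ : PUnit.{u + 1} => (CommRingCat.ofHom (algebraMap R S)).op))

theorem Psi_pull_apply {T T' : Type u} [CommRing T] [CommRing T'] (g₁ g₂ : CommRingCat.of S ⟶ CommRingCat.of T)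
    (h : phi0 R S ≫ g₁ = phi0 R S ≫ g₂) (k : CommRingCat.of T ⟶ CommRingCat.of T') (g₁' g₂' : CommRingCat.of S ⟶ CommRingCat.of T')
    (e₁ : g₁ ≫ k = g₁') (e₂ : g₂ ≫ k = g₂') (h' : phi0 R S ≫ g₁' = phi0 R S ≫ g₂') (n : DN D) :
    Psi D g₁' g₂' h' (eta (DN D) g₁' n) =
      bc (DN D) g₂ k g₂' e₂ (Psi D g₁ g₂ h (eta (DN D) g₁ n)) := by
  subst e₁ e₂
  have hP := ConcreteCategory.congr_hom (Psi_pull D g₁ g₂ h k) (eta (DN D) (g₁ ≫ k) n)
  rw [ModuleCat.comp_apply, ModuleCat.comp_apply, extendScalarsComp_hom_eta] at hP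
  rw [hP]
  simp only [bc, eqToHom_refl, Category.comp_id]
  rfl

theorem Psi_self_apply {T : Type u} [CommRing T] (g g' : CommRingCat.of S ⟶ CommRingCat.of T) (e : g = g')
    (h : phi0 R S ≫ g = phi0 R S ≫ g') (n : DN D) :
    Psi D g g' h (eta (DN D) g n) = eta (DN D) g' n := by
  subst e
  rw [Psi_self]
  rfl

theorem Psi_comp_apply {T : Type u} [CommRing T] (g₁ g₂ g₃ : CommRingCat.of S ⟶ CommRingCat.of T)
    (h₁₂ : phi0 R S ≫ g₁ = phi0 R S ≫ g₂) (h₂₃ : phi0 R S ≫ g₂ = phi0 R S ≫ g₃)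
    (x : (ModuleCat.extendScalars g₁.hom).obj (DN D)) :
    Psi D g₂ g₃ h₂₃ (Psi D g₁ g₂ h₁₂ x) = Psi D g₁ g₃ (h₁₂.trans h₂₃) x := by
  rw [← Psi_comp D g₁ g₂ g₃ h₁₂ h₂₃]
  rfl

end Groth.Agent.H3.FFDesc
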