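import Mathlib

/-!
# The cosimplicial rings `S ⊗ S`, `S ⊗ S ⊗ S` and their structure maps (Mathlib only)
-/

set_option autoImplicit false
open CategoryTheory Opposite TensorProduct
universe u

namespace Groth.Agent.H3.FFDesc

/-- a type copy of `S`, used as the second tensor factor to avoid instance diamonds. -/
def Cp (S : Type u) : Type u := S

section Rings

variable (R S : Type u) [CommRing R] [CommRing S] [Algebra R S]

instance : CommRing (Cp S) := inferInstanceAs (CommRing S)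
instance : Algebra R (Cp S) := inferInstanceAs (Algebra R S)

/-- `S ⊗[R] S` -/
abbrev T2 := S ⊗[R] Cp S
/-- `S ⊗[R] S ⊗[R] S` -/
abbrev T3 := S ⊗[R] T2 R S

/-- `s ↦ s ⊗ 1` -/
noncomputable def a1 : S →ₐ[R] T2 R S := Algebra.TensorProduct.includeLeft
/-- `s ↦ 1 ⊗ s` -/
noncomputable def a2 : S →ₐ[R] T2 R S :=
  (Algebra.TensorProduct.includeRight : Cp S →ₐ[R] T2 R S)
/-- `s ↦ s ⊗ 1 ⊗ 1` -/
noncomputable def b1 : S →ₐ[R] T3 R S := Algebra.TensorProduct.includeLeft
/-- `t ↦ 1 ⊗ t` -/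
noncomputable def q23 : T2 R S →ₐ[R] T3 R S := Algebra.TensorProduct.includeRight
/-- `s ↦ 1 ⊗ s ⊗ 1` -/
noncomputable def b2 : S →ₐ[R] T3 R S := (q23 R S).comp (a1 R S)
/-- `s ↦ 1 ⊗ 1 ⊗ s` -/
noncomputable def b3 : S →ₐ[R] T3 R S := (q23 R S).comp (a2 R S)
/-- `s ⊗ s' ↦ s ⊗ s' ⊗ 1` -/
noncomputable def q12 : T2 R S →ₐ[R] T3 R S :=
  Algebra.TensorProduct.lift (b1 R S) (show Cp S →ₐ[R] T3 R S from b2 R S)
    (fun _ _ => Commute.all _ _)
/-- `s ⊗ s' ↦ s ⊗ 1 ⊗ s'` -/
noncomputable def q13 : T2 R S →ₐ[R] T3 R S :=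
  Algebra.TensorProduct.lift (b1 R S) (show Cp S →ₐ[R] T3 R S from b3 R S)
    (fun _ _ => Commute.all _ _)
/-- multiplication `s ⊗ s' ↦ s s'` -/
noncomputable def mu : T2 R S →ₐ[R] S :=
  Algebra.TensorProduct.lift (AlgHom.id R S) (show Cp S →ₐ[R] S from AlgHom.id R S)
    (fun _ _ => Commute.all _ _)

theorem q12_a1 : (q12 R S).comp (a1 R S) = b1 R S := by
  ext s
  simp [q12, a1]

theorem q12_a2 : (q12 R S).comp (a2 R S) = b2 R S := by
  ext s
  change (Algebra.TensorProduct.lift (b1 R S) (show Cp S →ₐ[R] T3 R S from b2 R S)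
    (fun _ _ => Commute.all _ _)) ((1 : S) ⊗ₜ[R] (s : Cp S)) = _
  rw [Algebra.TensorProduct.lift_tmul, map_one, one_mul]
  rfl

theorem q13_a1 : (q13 R S).comp (a1 R S) = b1 R S := by
  ext s
  simp [q13, a1]

theorem q13_a2 : (q13 R S).comp (a2 R S) = b3 R S := by
  ext s
  change (Algebra.TensorProduct.lift (b1 R S) (show Cp S →ₐ[R] T3 R S from b3 R S)
    (fun _ _ => Commute.all _ _)) ((1 : S) ⊗ₜ[R] (s : Cp S)) = _
  rw [Algebra.TensorProduct.lift_tmul, map_one, one_mul]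
  rfl

theorem mu_a1 : (mu R S).comp (a1 R S) = AlgHom.id R S := by
  ext s
  simp [mu, a1]

theorem mu_a2 : (mu R S).comp (a2 R S) = AlgHom.id R S := by
  ext s
  change (Algebra.TensorProduct.lift (AlgHom.id R S) (show Cp S →ₐ[R] S from AlgHom.id R S)
    (fun _ _ => Commute.all _ _)) ((1 : S) ⊗ₜ[R] (s : Cp S)) = _
  rw [Algebra.TensorProduct.lift_tmul, map_one, one_mul]
  rfl

end Rings

section Cr

variable {R : Type u} [CommRing R]

/-- an `R`-algebra map as a morphism of `CommRingCat` -/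
abbrev cr {A B : Type u} [CommRing A] [CommRing B] [Algebra R A] [Algebra R B] (a : A →ₐ[R] B) :
    CommRingCat.of A ⟶ CommRingCat.of B := CommRingCat.ofHom a.toRingHom

theorem cr_comp {A B C : Type u} [CommRing A] [CommRing B] [CommRing C] [Algebra R A] [Algebra R B]
    [Algebra R C] (a : A →ₐ[R] B) (b : B →ₐ[R] C) : cr a ≫ cr b = cr (b.comp a) := rfl

theorem algMap_cr {A B : Type u} [CommRing A] [CommRing B] [Algebra R A] [Algebra R B]
    (a : A →ₐ[R] B) :
    CommRingCat.ofHom (algebraMap R A) ≫ cr a = CommRingCat.ofHom (algebraMap R B) := by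
  ext r
  simp

theorem algMap_cr_eq {A B : Type u} [CommRing A] [CommRing B] [Algebra R A] [Algebra R B]
    (a a' : A →ₐ[R] B) :
    CommRingCat.ofHom (algebraMap R A) ≫ cr a = CommRingCat.ofHom (algebraMap R A) ≫ cr a' :=
  (algMap_cr a).trans (algMap_cr a').symm

end Cr

end Groth.Agent.H3.FFDesc
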