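import Groth.Agent.Lib.Helper3.FFDescA
import Groth.Agent.Lib.Helper3.FFDescB
import Groth.Agent.Lib.Helper3.FFDescC
import Groth.Agent.Lib.Helper3.FFDescD

/-!
# Bundled extension of scalars along one leg of a pushout square is a base change
-/

set_option autoImplicit false
open CategoryTheory Opposite TensorProduct
universe u

namespace Groth.Agent.H3.FFDesc

/-- a distinguished ring hom `A → B`, used to define an algebra structure over the copy `Cp A` -/
class SndMap (A B : Type u) [CommRing A] [CommRing B] where
  /-- the ring hom -/
  hom : A →+* B

/-- algebra structure on `B` over the copy of `A` given by the distinguished map -/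
@[reducible] def SndMap.algebra (A B : Type u) [CommRing A] [CommRing B] [SndMap A B] :
    Algebra (Cp A) B :=
  (show Cp A →+* B from (SndMap.hom : A →+* B)).toAlgebra

attribute [local instance] SndMap.algebra

section GenBridge

variable (A B : Type u) [CommRing A] [CommRing B] [SndMap A B] (M : ModuleCat.{u} A)

/-- the distinguished map as a morphism of `CommRingCat` -/
abbrev snd : CommRingCat.of A ⟶ CommRingCat.of B := CommRingCat.ofHom (SndMap.hom : A →+* B)

/-- `M` as a module over the copy of `A` -/
@[reducible] def modCp : Module (Cp A) M := inferInstanceAs (Module A M)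

attribute [local instance] modCp

/-- unbundled model of the extension of scalars -/
abbrev PPg := B ⊗[Cp A] M

/-- explicit cast from the unbundled model to the bundled extension of scalars -/
noncomputable def toBg : PPg A B M ≃ₗ[B] ((ModuleCat.extendScalars (snd A B).hom).obj M) :=
  LinearEquiv.refl _ _

theorem toBg_mk (m : M) : toBg A B M ((1 : B) ⊗ₜ[Cp A] m) = eta M (snd A B) m := rfl

end GenBridge

attribute [local instance] modCp

section GenBC

variable (S A B : Type u) [CommRing S] [CommRing A] [CommRing B] [Algebra S B] [SndMap A B]
  (M : ModuleCat.{u} A)

/-- the bundled extension of scalars of `M` along the distinguished map -/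
noncomputable abbrev XB : ModuleCat.{u} B := (ModuleCat.extendScalars (snd A B).hom).obj M

/-- `S` acts on the extension of scalars through `S → B` -/
@[reducible] noncomputable def modSX : Module S (XB A B M) :=
  Module.compHom (XB A B M) (algebraMap S B)

attribute [local instance 10] modSX

theorem smulX (s : S) (x : XB A B M) : s • x = (algebraMap S B s : B) • x := rfl

end GenBC

attribute [local instance 10] modSX

section GenBC2

variable (R S A B : Type u) [CommRing R] [CommRing S] [CommRing A] [CommRing B] [Algebra S B]
  [SndMap A B] (M : ModuleCat.{u} A) [Algebra R S] [Algebra R B] [IsScalarTower R S B]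

theorem towerX : IsScalarTower R S (XB A B M) :=
  IsScalarTower.of_algebraMap_smul fun r x => by
    change (algebraMap S B (algebraMap R S r)) • x = (algebraMap R B r) • x
    rw [← IsScalarTower.algebraMap_apply]

end GenBC2

section GenBC3

variable (R S A B : Type u) [CommRing R] [CommRing S] [CommRing A] [CommRing B]
  [SndMap A B] (M : ModuleCat.{u} A) [Algebra R A] [Algebra R B]
  [Module R M] [IsScalarTower R (Cp A) M] [IsScalarTower R (Cp A) B]

/-- `m ↦ 1 ⊗ m` as an `R`-linear map into the bundled extension of scalars -/
noncomputable def etaR : M →ₗ[R] XB A B M where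
  toFun m := eta M (snd A B) m
  map_add' m m' := eta_add M (snd A B) m m'
  map_smul' r m := by
    have h1 : r • m = (algebraMap R (Cp A) r : Cp A) • m := (algebraMap_smul (Cp A) r m).symm
    rw [h1]
    have h2 := eta_smul M (snd A B) (show A from algebraMap R (Cp A) r) m
    rw [RingHom.id_apply]
    refine h2.trans ?_
    change _ = (algebraMap R B r : B) • eta M (snd A B) m
    congr 1
    exact (IsScalarTower.algebraMap_apply R (Cp A) B r).symm

theorem etaR_apply (m : M) : etaR R A B M m = eta M (snd A B) m := rfl

variable [Algebra S B] [Algebra R S] [IsScalarTower R S B] [Algebra.IsPushout R S (Cp A) B]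

attribute [local instance] towerX

theorem isBaseChange_etaR : IsBaseChange S (etaR R A B M) := by
  have hj : IsBaseChange S ((TensorProduct.mk (Cp A) B M 1).restrictScalars R) :=
    isBaseChange_mk_of_isPushout R S (Cp A) B M
  let e : PPg A B M ≃ₗ[S] XB A B M :=
    { toBg A B M with
      map_smul' := fun s p => by
        change toBg A B M (s • p) = (algebraMap S B s : B) • toBg A B M p
        rw [← map_smul]
        congr 1
        exact (algebraMap_smul B s p).symm }
  refine IsBaseChange.of_equiv (hj.equiv.trans e) ?_
  intro m
  rw [LinearEquiv.trans_apply, IsBaseChange.equiv_tmul, one_smul]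
  rfl

end GenBC3

end Groth.Agent.H3.FFDesc
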