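import Groth.Agent.Lib.Helper3.FFDescE

/-!
# The coaction attached to a descent datum and its counit property (abstract pushout setting)
-/

set_option autoImplicit false
open CategoryTheory Opposite TensorProduct
universe u

namespace Groth.Agent.H3.FFDesc

section Ev

variable {S : Type u} [CommRing S]

/-- evaluation `(ext 𝟙) N → N` -/
noncomputable def ev (N : ModuleCat.{u} S) (g : CommRingCat.of S ⟶ CommRingCat.of S)
    (hg : g = 𝟙 _) : (ModuleCat.extendScalars g.hom).obj N ⟶ N := by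
  subst hg
  exact (ModuleCat.extendScalarsId S).hom.app N

theorem ev_eta (N : ModuleCat.{u} S) (g : CommRingCat.of S ⟶ CommRingCat.of S)
    (hg : g = 𝟙 _) (n : N) : ev N g hg (eta N g n) = n := by
  subst hg
  exact ModuleCat.extendScalarsId_hom_app_one_tmul N n

theorem ev_zero (N : ModuleCat.{u} S) (g : CommRingCat.of S ⟶ CommRingCat.of S)
    (hg : g = 𝟙 _) : ev N g hg 0 = 0 := map_zero (ev N g hg).hom

theorem ev_add (N : ModuleCat.{u} S) (g : CommRingCat.of S ⟶ CommRingCat.of S)
    (hg : g = 𝟙 _) (x y : (ModuleCat.extendScalars g.hom).obj N) :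
    ev N g hg (x + y) = ev N g hg x + ev N g hg y := map_add (ev N g hg).hom x y

theorem ev_smul (N : ModuleCat.{u} S) (g : CommRingCat.of S ⟶ CommRingCat.of S)
    (hg : g = 𝟙 _) (s : S) (x : (ModuleCat.extendScalars g.hom).obj N) :
    ev N g hg (s • x) = s • ev N g hg x := map_smul (ev N g hg).hom s x

/-- the comparison `(ext k) ((ext g) N) ≅ (ext g') N` for `g ≫ k = g'` -/
noncomputable def ccIso (N : ModuleCat.{u} S) {T T' : Type u} [CommRing T] [CommRing T']
    (g : CommRingCat.of S ⟶ CommRingCat.of T)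
    (k : CommRingCat.of T ⟶ CommRingCat.of T') (g' : CommRingCat.of S ⟶ CommRingCat.of T')
    (e : g ≫ k = g') :
    (ModuleCat.extendScalars k.hom).obj ((ModuleCat.extendScalars g.hom).obj N) ≅
      (ModuleCat.extendScalars g'.hom).obj N :=
  ((ModuleCat.extendScalarsComp g.hom k.hom).app N).symm ≪≫ eqToIso (by subst e; rfl)

/-- `bc` as an additive map with the expected codomain -/
noncomputable def bcf (N : ModuleCat.{u} S) {T T' : Type u} [CommRing T] [CommRing T']
    (g : CommRingCat.of S ⟶ CommRingCat.of T)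
    (k : CommRingCat.of T ⟶ CommRingCat.of T') (g' : CommRingCat.of S ⟶ CommRingCat.of T')
    (e : g ≫ k = g') :
    (ModuleCat.extendScalars g.hom).obj N →+ (ModuleCat.extendScalars g'.hom).obj N where
  toFun p := bc N g k g' e p
  map_zero' := map_zero (bc N g k g' e).hom
  map_add' := map_add (bc N g k g' e).hom

theorem bcf_eta (N : ModuleCat.{u} S) {T T' : Type u} [CommRing T] [CommRing T']
    (g : CommRingCat.of S ⟶ CommRingCat.of T)
    (k : CommRingCat.of T ⟶ CommRingCat.of T') (g' : CommRingCat.of S ⟶ CommRingCat.of T')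
    (e : g ≫ k = g') (n : N) :
    bcf N g k g' e (eta N g n) = eta N g' n := bc_eta N g k g' e n

theorem bcf_smul (N : ModuleCat.{u} S) {T T' : Type u} [CommRing T] [CommRing T']
    (g : CommRingCat.of S ⟶ CommRingCat.of T)
    (k : CommRingCat.of T ⟶ CommRingCat.of T') (g' : CommRingCat.of S ⟶ CommRingCat.of T')
    (e : g ≫ k = g') (t : T) (p : (ModuleCat.extendScalars g.hom).obj N) :
    bcf N g k g' e (t • p) = (k.hom t : T') • bcf N g k g' e p := bc_smul N g k g' e t p

theorem bcf_zero (N : ModuleCat.{u} S) {T T' : Type u} [CommRing T] [CommRing T']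
    (g : CommRingCat.of S ⟶ CommRingCat.of T)
    (k : CommRingCat.of T ⟶ CommRingCat.of T') (g' : CommRingCat.of S ⟶ CommRingCat.of T')
    (e : g ≫ k = g') : bcf N g k g' e 0 = 0 := map_zero _

theorem bcf_add (N : ModuleCat.{u} S) {T T' : Type u} [CommRing T] [CommRing T']
    (g : CommRingCat.of S ⟶ CommRingCat.of T)
    (k : CommRingCat.of T ⟶ CommRingCat.of T') (g' : CommRingCat.of S ⟶ CommRingCat.of T')
    (e : g ≫ k = g') (p p' : (ModuleCat.extendScalars g.hom).obj N) :
    bcf N g k g' e (p + p') = bcf N g k g' e p + bcf N g k g' e p' := map_add _ _ _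

theorem ccIso_eta (N : ModuleCat.{u} S) {T T' : Type u} [CommRing T] [CommRing T']
    (g : CommRingCat.of S ⟶ CommRingCat.of T)
    (k : CommRingCat.of T ⟶ CommRingCat.of T') (g' : CommRingCat.of S ⟶ CommRingCat.of T')
    (e : g ≫ k = g') (p : (ModuleCat.extendScalars g.hom).obj N) :
    (ccIso N g k g' e).hom (eta (A := T) ((ModuleCat.extendScalars g.hom).obj N) k p) =
      bcf N g k g' e p := rfl

end Ev

section PsiB

variable {R S : Type u} [CommRing R] [CommRing S] [Algebra R S]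
variable (D : Desc.ringModPF.{u}.DescentData
  (fun _ : PUnit.{u + 1} => (CommRingCat.ofHom (algebraMap R S)).op))

theorem Psi_pull_apply' {T T' : Type u} [CommRing T] [CommRing T']
    (g₁ g₂ : CommRingCat.of S ⟶ CommRingCat.of T)
    (h : phi0 R S ≫ g₁ = phi0 R S ≫ g₂) (k : CommRingCat.of T ⟶ CommRingCat.of T')
    (g₁' g₂' : CommRingCat.of S ⟶ CommRingCat.of T')
    (e₁ : g₁ ≫ k = g₁') (e₂ : g₂ ≫ k = g₂') (h' : phi0 R S ≫ g₁' = phi0 R S ≫ g₂') (n : DN D) :
    Psi D g₁' g₂' h' (eta (DN D) g₁' n) =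
      bcf (DN D) g₂ k g₂' e₂ (Psi D g₁ g₂ h (eta (DN D) g₁ n)) :=
  Psi_pull_apply D g₁ g₂ h k g₁' g₂' e₁ e₂ h' n

theorem Psi_zero {T : Type u} [CommRing T] (g₁ g₂ : CommRingCat.of S ⟶ CommRingCat.of T)
    (h : phi0 R S ≫ g₁ = phi0 R S ≫ g₂) : Psi D g₁ g₂ h 0 = 0 := map_zero (Psi D g₁ g₂ h).hom

theorem Psi_add {T : Type u} [CommRing T] (g₁ g₂ : CommRingCat.of S ⟶ CommRingCat.of T)
    (h : phi0 R S ≫ g₁ = phi0 R S ≫ g₂) (x y : (ModuleCat.extendScalars g₁.hom).obj (DN D)) :
    Psi D g₁ g₂ h (x + y) = Psi D g₁ g₂ h x + Psi D g₁ g₂ h y :=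
  map_add (Psi D g₁ g₂ h).hom x y

theorem Psi_smul {T : Type u} [CommRing T] (g₁ g₂ : CommRingCat.of S ⟶ CommRingCat.of T)
    (h : phi0 R S ≫ g₁ = phi0 R S ≫ g₂) (t : T)
    (x : (ModuleCat.extendScalars g₁.hom).obj (DN D)) :
    Psi D g₁ g₂ h (t • x) = t • Psi D g₁ g₂ h x :=
  map_smul (Psi D g₁ g₂ h).hom t x

end PsiB

section Setup

variable (R S : Type u) [CommRing R] [CommRing S] [Algebra R S] (N : ModuleCat.{u} S)

/-- `N` as an `R`-module -/
@[reducible] def modR : Module R N := Module.compHom N (algebraMap R S)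

attribute [local instance] modR modCp

theorem towerN : IsScalarTower R S N := IsScalarTower.of_algebraMap_smul fun _ _ => rfl

theorem towerCpN : IsScalarTower R (Cp S) N := towerN R S N

end Setup

attribute [local instance] SndMap.algebra modCp modR towerN towerCpN towerX
attribute [local instance 10] modSX

section Coaction

variable {R S T2 : Type u} [CommRing R] [CommRing S] [CommRing T2] [Algebra R S] [Algebra R T2]
  [Algebra S T2] [SndMap S T2] [IsScalarTower R S T2] [IsScalarTower R (Cp S) T2]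
variable (D : Desc.ringModPF.{u}.DescentData
  (fun _ : PUnit.{u + 1} => (CommRingCat.ofHom (algebraMap R S)).op))

variable (S T2) in
/-- the structure map `S → T2` as a morphism of `CommRingCat` -/
abbrev fst : CommRingCat.of S ⟶ CommRingCat.of T2 := CommRingCat.ofHom (algebraMap S T2)

omit [SndMap S T2] [IsScalarTower R (Cp S) T2] in
theorem phi0_fst : phi0 R S ≫ fst S T2 = CommRingCat.ofHom (algebraMap R T2) := by
  ext r
  exact (IsScalarTower.algebraMap_apply R S T2 r).symm

omit [Algebra S T2] [IsScalarTower R S T2] in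
theorem phi0_snd : phi0 R S ≫ snd S T2 = CommRingCat.ofHom (algebraMap R T2) := by
  ext r
  exact (IsScalarTower.algebraMap_apply R (Cp S) T2 r).symm

theorem phi0_fst_snd : phi0 R S ≫ fst S T2 = phi0 R S ≫ snd S T2 :=
  phi0_fst.trans phi0_snd.symm

/-- the coaction `n ↦ φ(1 ⊗ n)` -/
noncomputable def rho : DN D →ₗ[S] XB S T2 (DN D) where
  toFun n := Psi D (fst S T2) (snd S T2) phi0_fst_snd (eta (DN D) (fst S T2) n)
  map_add' n n' := by
    rw [eta_add, Psi_add]
  map_smul' s n := by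
    rw [eta_smul, Psi_smul]
    rfl

theorem rho_apply (n : DN D) :
    rho D n = Psi D (fst S T2) (snd S T2) phi0_fst_snd (eta (DN D) (fst S T2) n) := rfl

section Counit

variable (m : T2 →+* S)

omit [Algebra R T2] [IsScalarTower R S T2] [IsScalarTower R (Cp S) T2] [Algebra S T2] in
theorem mu_snd (hm2 : m.comp (SndMap.hom : S →+* T2) = RingHom.id S) :
    snd S T2 ≫ CommRingCat.ofHom m = 𝟙 (CommRingCat.of S) := by
  ext s
  exact RingHom.congr_fun hm2 s

omit [Algebra R T2] [IsScalarTower R S T2] [IsScalarTower R (Cp S) T2] [SndMap S T2] in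
theorem mu_fst (hm1 : m.comp (algebraMap S T2) = RingHom.id S) :
    fst S T2 ≫ CommRingCat.ofHom m = 𝟙 (CommRingCat.of S) := by
  ext s
  exact RingHom.congr_fun hm1 s

/-- the counit `t ⊗ n ↦ μ(t) n` on the bundled extension of scalars -/
noncomputable def epsB (N : ModuleCat.{u} S)
    (hm2 : m.comp (SndMap.hom : S →+* T2) = RingHom.id S) (p : XB S T2 N) : N :=
  ev N (𝟙 _) rfl (bcf N (snd S T2) (CommRingCat.ofHom m) (𝟙 _) (mu_snd m hm2) p)

omit [Algebra R T2] [IsScalarTower R S T2] [IsScalarTower R (Cp S) T2] [Algebra S T2] in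
theorem epsB_zero (N : ModuleCat.{u} S)
    (hm2 : m.comp (SndMap.hom : S →+* T2) = RingHom.id S) : epsB m N hm2 0 = 0 := by
  unfold epsB
  rw [bcf_zero, ev_zero]

omit [Algebra R T2] [IsScalarTower R S T2] [IsScalarTower R (Cp S) T2] [Algebra S T2] in
theorem epsB_add (N : ModuleCat.{u} S)
    (hm2 : m.comp (SndMap.hom : S →+* T2) = RingHom.id S) (p p' : XB S T2 N) :
    epsB m N hm2 (p + p') = epsB m N hm2 p + epsB m N hm2 p' := by
  unfold epsB
  rw [bcf_add, ev_add]

omit [Algebra R T2] [IsScalarTower R S T2] [IsScalarTower R (Cp S) T2] in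
theorem epsB_smul (N : ModuleCat.{u} S)
    (hm1 : m.comp (algebraMap S T2) = RingHom.id S)
    (hm2 : m.comp (SndMap.hom : S →+* T2) = RingHom.id S) (s : S) (p : XB S T2 N) :
    epsB m N hm2 (s • p) = s • epsB m N hm2 p := by
  have h2 : (CommRingCat.ofHom m).hom (algebraMap S T2 s) = s := RingHom.congr_fun hm1 s
  unfold epsB
  rw [smulX, bcf_smul, h2, ev_smul]

omit [Algebra R T2] [IsScalarTower R S T2] [IsScalarTower R (Cp S) T2] [Algebra S T2] in
theorem epsB_eta (N : ModuleCat.{u} S)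
    (hm2 : m.comp (SndMap.hom : S →+* T2) = RingHom.id S) (n : N) :
    epsB m N hm2 (eta N (snd S T2) n) = n := by
  unfold epsB
  rw [bcf_eta, ev_eta]

variable [Algebra.IsPushout R S (Cp S) T2]

theorem eps_eq (N : ModuleCat.{u} S)
    (hm1 : m.comp (algebraMap S T2) = RingHom.id S)
    (hm2 : m.comp (SndMap.hom : S →+* T2) = RingHom.id S) (p : XB S T2 N) :
    (isBaseChange_etaR R S S T2 N).lift LinearMap.id p = epsB m N hm2 p := by
  refine (isBaseChange_etaR R S S T2 N).inductionOn p _ ?_ ?_ ?_ ?_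
  · rw [map_zero, epsB_zero]
  · intro n
    rw [IsBaseChange.lift_eq, etaR_apply, epsB_eta]
    rfl
  · intro s p hp
    rw [map_smul, hp, epsB_smul m N hm1]
  · intro p p' hp hp'
    rw [map_add, hp, hp', epsB_add]

theorem counit_rho (hm1 : m.comp (algebraMap S T2) = RingHom.id S)
    (hm2 : m.comp (SndMap.hom : S →+* T2) = RingHom.id S) (n : DN D) :
    (isBaseChange_etaR R S S T2 (DN D)).lift LinearMap.id (rho D n) = n := by
  rw [eps_eq m (DN D) hm1 hm2, rho_apply]
  unfold epsB
  rw [← Psi_pull_apply' D (fst S T2) (snd S T2) phi0_fst_snd (CommRingCat.ofHom m)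
    (𝟙 _) (𝟙 _) (mu_fst m hm1) (mu_snd m hm2) rfl n, Psi_self_apply D _ _ rfl, ev_eta]

end Counit

end Coaction

end Groth.Agent.H3.FFDesc
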