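import Groth.Agent.Lib.Helper3.FFDescF

/-!
# Coassociativity of the coaction attached to a descent datum (abstract pushout setting)
-/

set_option autoImplicit false
set_option linter.unusedSectionVars false
open CategoryTheory Opposite TensorProduct
universe u

namespace Groth.Agent.H3.FFDesc

attribute [local instance] SndMap.algebra modCp modR towerN towerCpN towerX
attribute [local instance 10] modSX

section Tower2

variable (R S A B : Type u) [CommRing R] [CommRing S] [CommRing A] [CommRing B]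
  [SndMap A B] [Algebra R B] (M : ModuleCat.{u} A)

/-- the `R`-action on the bundled extension of scalars is compatible with the action of the copy
of `B` -/
theorem towerCpX : IsScalarTower R (Cp B) (XB A B M) :=
  IsScalarTower.of_algebraMap_smul fun _ _ => rfl

end Tower2

attribute [local instance] towerCpX

section Coassoc

variable {R S T2 T3 : Type u} [CommRing R] [CommRing S] [CommRing T2] [CommRing T3]
  [Algebra R S] [Algebra R T2] [Algebra S T2] [SndMap S T2] [IsScalarTower R S T2]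
  [IsScalarTower R (Cp S) T2]
  [Algebra R T3] [Algebra S T3] [SndMap T2 T3] [IsScalarTower R S T3] [IsScalarTower R (Cp T2) T3]
variable (D : Desc.ringModPF.{u}.DescentData
  (fun _ : PUnit.{u + 1} => (CommRingCat.ofHom (algebraMap R S)).op))

variable (S T2 T3) in
/-- `s ↦ 1 ⊗ s ⊗ 1` -/
abbrev k2 : CommRingCat.of S ⟶ CommRingCat.of T3 := fst S T2 ≫ snd T2 T3

variable (S T2 T3) in
/-- `s ↦ 1 ⊗ 1 ⊗ s` -/
abbrev k3 : CommRingCat.of S ⟶ CommRingCat.of T3 := snd S T2 ≫ snd T2 T3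

omit [Algebra S T3] [IsScalarTower R S T3] [SndMap S T2] [IsScalarTower R (Cp S) T2] in
theorem phi0_k2 : phi0 R S ≫ k2 S T2 T3 = CommRingCat.ofHom (algebraMap R T3) := by
  rw [← Category.assoc, phi0_fst]
  ext r
  exact (IsScalarTower.algebraMap_apply R (Cp T2) T3 r).symm

omit [Algebra S T3] [IsScalarTower R S T3] [Algebra S T2] [IsScalarTower R S T2] in
theorem phi0_k3 : phi0 R S ≫ k3 S T2 T3 = CommRingCat.ofHom (algebraMap R T3) := by
  rw [← Category.assoc, phi0_snd]
  ext r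
  exact (IsScalarTower.algebraMap_apply R (Cp T2) T3 r).symm

theorem phi0_k12 : phi0 R S ≫ fst S T3 = phi0 R S ≫ k2 S T2 T3 :=
  phi0_fst.trans phi0_k2.symm

theorem phi0_k23 : phi0 R S ≫ k2 S T2 T3 = phi0 R S ≫ k3 S T2 T3 :=
  phi0_k2.trans phi0_k3.symm

theorem phi0_k13 : phi0 R S ≫ fst S T3 = phi0 R S ≫ k3 S T2 T3 :=
  phi0_fst.trans phi0_k3.symm

/-- the comparison `p₂₃^* a₂^* N ≅ k₃^* N` as a function -/
noncomputable def ccf (N : ModuleCat.{u} S) (x : XB T2 T3 (XB S T2 N)) :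
    (ModuleCat.extendScalars (k3 S T2 T3).hom).obj N :=
  (ccIso N (snd S T2) (snd T2 T3) (k3 S T2 T3) rfl).hom x

theorem ccf_zero (N : ModuleCat.{u} S) : ccf (T2 := T2) (T3 := T3) N 0 = 0 :=
  map_zero (ccIso N (snd S T2) (snd T2 T3) (k3 S T2 T3) rfl).hom.hom

theorem ccf_add (N : ModuleCat.{u} S) (x y : XB T2 T3 (XB S T2 N)) :
    ccf N (x + y) = ccf N x + ccf N y :=
  map_add (ccIso N (snd S T2) (snd T2 T3) (k3 S T2 T3) rfl).hom.hom x y

theorem ccf_smul' (N : ModuleCat.{u} S) (t : T3) (x : XB T2 T3 (XB S T2 N)) :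
    ccf N (t • x) = t • ccf N x :=
  map_smul (ccIso N (snd S T2) (snd T2 T3) (k3 S T2 T3) rfl).hom.hom t x

theorem ccf_smul (N : ModuleCat.{u} S) (s : S) (x : XB T2 T3 (XB S T2 N)) :
    ccf N (s • x) = (algebraMap S T3 s : T3) • ccf N x := by
  rw [smulX, ccf_smul']

theorem ccf_eta (N : ModuleCat.{u} S) (p : XB S T2 N) :
    ccf N (eta (A := T2) (XB S T2 N) (snd T2 T3) p) =
      bcf N (snd S T2) (snd T2 T3) (k3 S T2 T3) rfl p := rfl

theorem ccf_injective (N : ModuleCat.{u} S) :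
    Function.Injective (ccf (T2 := T2) (T3 := T3) N) := by
  intro x y h
  have := congrArg (ccIso N (snd S T2) (snd T2 T3) (k3 S T2 T3) rfl).inv h
  have h1 : ∀ x, (ccIso N (snd S T2) (snd T2 T3) (k3 S T2 T3) rfl).inv
      (ccf N x) = x := fun x =>
    ConcreteCategory.congr_hom
      (ccIso N (snd S T2) (snd T2 T3) (k3 S T2 T3) rfl).hom_inv_id x
  exact (h1 x).symm.trans (this.trans (h1 y))

section Claims

variable [Algebra.IsPushout R S (Cp S) T2] (p12 p13 : T2 →+* T3)

theorem e12 (h : p12.comp (SndMap.hom : S →+* T2) =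
      (SndMap.hom : T2 →+* T3).comp (algebraMap S T2)) :
    snd S T2 ≫ CommRingCat.ofHom p12 = k2 S T2 T3 := by
  ext s
  exact RingHom.congr_fun h s

theorem e12' (h : p12.comp (algebraMap S T2) = algebraMap S T3) :
    fst S T2 ≫ CommRingCat.ofHom p12 = fst S T3 := by
  ext s
  exact RingHom.congr_fun h s

theorem e13 (h : p13.comp (SndMap.hom : S →+* T2) =
      (SndMap.hom : T2 →+* T3).comp (SndMap.hom : S →+* T2)) :
    snd S T2 ≫ CommRingCat.ofHom p13 = k3 S T2 T3 := by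
  ext s
  exact RingHom.congr_fun h s

/-- `id ⊗ ρ` -/
noncomputable def rhoP : XB S T2 (DN D) →ₗ[S] XB T2 T3 (XB S T2 (DN D)) :=
  (isBaseChange_etaR R S S T2 (DN D)).lift
    (etaR R T2 T3 (XB S T2 (DN D)) ∘ₗ (rho D).restrictScalars R)

/-- `id ⊗ j` -/
noncomputable def iotaP (N : ModuleCat.{u} S) : XB S T2 N →ₗ[S] XB T2 T3 (XB S T2 N) :=
  (isBaseChange_etaR R S S T2 N).lift
    (etaR R T2 T3 (XB S T2 N) ∘ₗ etaR R S T2 N)

theorem rhoP_eta (n : DN D) :
    rhoP (T3 := T3) D (eta (DN D) (snd S T2) n) =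
      eta (A := T2) (XB S T2 (DN D)) (snd T2 T3) (rho D n) :=
  (isBaseChange_etaR R S S T2 (DN D)).lift_eq _ n

theorem iotaP_eta (N : ModuleCat.{u} S) (n : N) :
    iotaP (R := R) (T3 := T3) N (eta N (snd S T2) n) =
      eta (A := T2) (XB S T2 N) (snd T2 T3) (eta N (snd S T2) n) :=
  (isBaseChange_etaR R S S T2 N).lift_eq _ n

theorem claim1 (h1 : p12.comp (algebraMap S T2) = algebraMap S T3)
    (h2 : p12.comp (SndMap.hom : S →+* T2) = (SndMap.hom : T2 →+* T3).comp (algebraMap S T2))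
    (p : XB S T2 (DN D)) :
    ccf (DN D) (rhoP D p) =
      Psi D (k2 S T2 T3) (k3 S T2 T3) phi0_k23
        (bcf (DN D) (snd S T2) (CommRingCat.ofHom p12) (k2 S T2 T3) (e12 p12 h2) p) := by
  refine (isBaseChange_etaR R S S T2 (DN D)).inductionOn p
    (fun p => ccf (DN D) (rhoP D p) =
      Psi D (k2 S T2 T3) (k3 S T2 T3) phi0_k23
        (bcf (DN D) (snd S T2) (CommRingCat.ofHom p12) (k2 S T2 T3) (e12 p12 h2) p)) ?_ ?_ ?_ ?_
  · rw [map_zero, ccf_zero, bcf_zero, Psi_zero]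
  · intro n
    rw [etaR_apply, rhoP_eta, ccf_eta, bcf_eta, rho_apply]
    exact (Psi_pull_apply' D (fst S T2) (snd S T2) phi0_fst_snd (snd T2 T3)
      (k2 S T2 T3) (k3 S T2 T3) rfl rfl phi0_k23 n).symm
  · intro s p hp
    have h3 : (CommRingCat.ofHom p12).hom (algebraMap S T2 s) = algebraMap S T3 s :=
      RingHom.congr_fun h1 s
    rw [map_smul, ccf_smul, hp, smulX S S T2 (DN D) s p, bcf_smul, h3, Psi_smul]
  · intro p p' hp hp'
    rw [map_add, ccf_add, hp, hp', bcf_add, Psi_add]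

theorem e13' (h : p13.comp (algebraMap S T2) = algebraMap S T3) :
    fst S T2 ≫ CommRingCat.ofHom p13 = fst S T3 := by
  ext s
  exact RingHom.congr_fun h s

theorem claim2 (h1 : p13.comp (algebraMap S T2) = algebraMap S T3)
    (h2 : p13.comp (SndMap.hom : S →+* T2) =
      (SndMap.hom : T2 →+* T3).comp (SndMap.hom : S →+* T2))
    (N : ModuleCat.{u} S) (p : XB S T2 N) :
    ccf N (iotaP (R := R) N p) =
      bcf N (snd S T2) (CommRingCat.ofHom p13) (k3 S T2 T3) (e13 p13 h2) p := by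
  refine (isBaseChange_etaR R S S T2 N).inductionOn p
    (fun p => ccf N (iotaP (R := R) N p) =
      bcf N (snd S T2) (CommRingCat.ofHom p13) (k3 S T2 T3) (e13 p13 h2) p) ?_ ?_ ?_ ?_
  · rw [map_zero, ccf_zero, bcf_zero]
  · intro n
    rw [etaR_apply, iotaP_eta, ccf_eta, bcf_eta, bcf_eta]
  · intro s p hp
    have h3 : (CommRingCat.ofHom p13).hom (algebraMap S T2 s) = algebraMap S T3 s :=
      RingHom.congr_fun h1 s
    rw [map_smul, ccf_smul, hp, smulX S S T2 N s p, bcf_smul, h3]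
  · intro p p' hp hp'
    rw [map_add, ccf_add, hp, hp', bcf_add]

theorem coassoc_rho (h12_1 : p12.comp (algebraMap S T2) = algebraMap S T3)
    (h12_2 : p12.comp (SndMap.hom : S →+* T2) =
      (SndMap.hom : T2 →+* T3).comp (algebraMap S T2))
    (h13_1 : p13.comp (algebraMap S T2) = algebraMap S T3)
    (h13_2 : p13.comp (SndMap.hom : S →+* T2) =
      (SndMap.hom : T2 →+* T3).comp (SndMap.hom : S →+* T2)) (n : DN D) :
    rhoP (T2 := T2) (T3 := T3) D (rho (T2 := T2) D n) =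
      iotaP (R := R) (T2 := T2) (T3 := T3) (DN D) (rho (T2 := T2) D n) := by
  apply ccf_injective (DN D)
  rw [claim1 D p12 h12_1 h12_2 (rho D n), claim2 (R := R) (T2 := T2) (T3 := T3) p13 h13_1 h13_2 (DN D) (rho D n), rho_apply,
    ← Psi_pull_apply' D (fst S T2) (snd S T2) phi0_fst_snd (CommRingCat.ofHom p12)
      (fst S T3) (k2 S T2 T3) (e12' p12 h12_1) (e12 p12 h12_2) phi0_k12 n,
    ← Psi_pull_apply' D (fst S T2) (snd S T2) phi0_fst_snd (CommRingCat.ofHom p13)
      (fst S T3) (k3 S T2 T3) (e13' p13 h13_1) (e13 p13 h13_2) phi0_k13 n,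
    Psi_comp_apply]

end Claims

end Coassoc

end Groth.Agent.H3.FFDesc
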