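import Groth.Agent.Lib.Helper3.FFDescG

/-!
# Effectivity: the descended module and the isomorphism of descent data
-/

set_option autoImplicit false
set_option linter.unusedSectionVars false
open CategoryTheory Opposite TensorProduct
universe u

namespace Groth.Agent.H3.FFDesc

section General

theorem hom_ext_eta2 {A : Type u} [CommRing A] (M : ModuleCat.{u} A) {B C : Type u} [CommRing B]
    [CommRing C] (f : CommRingCat.of A ⟶ CommRingCat.of B)
    (g : CommRingCat.of B ⟶ CommRingCat.of C) {Z : ModuleCat.{u} C}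
    {α β : (ModuleCat.extendScalars g.hom).obj ((ModuleCat.extendScalars f.hom).obj M) ⟶ Z}
    (h : ∀ m : M, α (eta (A := B) ((ModuleCat.extendScalars f.hom).obj M) g (eta M f m)) =
      β (eta (A := B) ((ModuleCat.extendScalars f.hom).obj M) g (eta M f m))) : α = β := by
  apply ((ModuleCat.extendRestrictScalarsAdj g.hom).homEquiv _ _).injective
  apply hom_ext_eta
  intro m
  exact h m

theorem map_eta {A : Type u} [CommRing A] {M M' : ModuleCat.{u} A} (φ : M ⟶ M') {B : Type u}
    [CommRing B] (f : CommRingCat.of A ⟶ CommRingCat.of B) (m : M) :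
    (ModuleCat.extendScalars f.hom).map φ (eta M f m) = eta M' f (φ m) :=
  ModuleCat.ExtendScalars.map_tmul f.hom φ (1 : B) m

/-- the component of the composition isomorphism of `Desc.ringModPF`, with `ModuleCat` types -/
noncomputable def mcHom {A B C : Type u} [CommRing A] [CommRing B] [CommRing C]
    (a : CommRingCat.of A ⟶ CommRingCat.of B) (b : CommRingCat.of B ⟶ CommRingCat.of C)
    (c : CommRingCat.of A ⟶ CommRingCat.of C)
    (h' : a.op.op.toLoc ≫ b.op.op.toLoc = c.op.op.toLoc) (M : ModuleCat.{u} A) :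
    (ModuleCat.extendScalars c.hom).obj M ⟶
      (ModuleCat.extendScalars b.hom).obj ((ModuleCat.extendScalars a.hom).obj M) :=
  (Desc.ringModPF.{u}.mapComp' a.op.op.toLoc b.op.op.toLoc c.op.op.toLoc h').hom.toNatTrans.app M

/-- the component of the inverse of the composition isomorphism of `Desc.ringModPF` -/
noncomputable def mcInv {A B C : Type u} [CommRing A] [CommRing B] [CommRing C]
    (a : CommRingCat.of A ⟶ CommRingCat.of B) (b : CommRingCat.of B ⟶ CommRingCat.of C)
    (c : CommRingCat.of A ⟶ CommRingCat.of C)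
    (h' : a.op.op.toLoc ≫ b.op.op.toLoc = c.op.op.toLoc) (M : ModuleCat.{u} A) :
    (ModuleCat.extendScalars b.hom).obj ((ModuleCat.extendScalars a.hom).obj M) ⟶
      (ModuleCat.extendScalars c.hom).obj M :=
  (Desc.ringModPF.{u}.mapComp' a.op.op.toLoc b.op.op.toLoc c.op.op.toLoc h').inv.toNatTrans.app M

theorem mcHom_mcInv {A B C : Type u} [CommRing A] [CommRing B] [CommRing C]
    (a : CommRingCat.of A ⟶ CommRingCat.of B) (b : CommRingCat.of B ⟶ CommRingCat.of C)
    (c : CommRingCat.of A ⟶ CommRingCat.of C)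
    (h' : a.op.op.toLoc ≫ b.op.op.toLoc = c.op.op.toLoc) (M : ModuleCat.{u} A) :
    mcHom a b c h' M ≫ mcInv a b c h' M = 𝟙 _ :=
  Cat.Hom.hom_inv_id_toNatTrans_app
    (Desc.ringModPF.{u}.mapComp' a.op.op.toLoc b.op.op.toLoc c.op.op.toLoc h') M

theorem mcHom_eta {A B C : Type u} [CommRing A] [CommRing B] [CommRing C]
    (a : CommRingCat.of A ⟶ CommRingCat.of B) (b : CommRingCat.of B ⟶ CommRingCat.of C)
    (c : CommRingCat.of A ⟶ CommRingCat.of C) (h : a ≫ b = c)
    (h' : a.op.op.toLoc ≫ b.op.op.toLoc = c.op.op.toLoc) (M : ModuleCat.{u} A) (m : M) :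
    mcHom a b c h' M (eta M c m) =
      eta (A := B) ((ModuleCat.extendScalars a.hom).obj M) b (eta M a m) := by
  subst h
  have e1 : Desc.ringModPF.{u}.mapComp' a.op.op.toLoc b.op.op.toLoc (a ≫ b).op.op.toLoc h' =
      Desc.ringModPF.{u}.mapComp a.op.op.toLoc b.op.op.toLoc :=
    Pseudofunctor.mapComp'_eq_mapComp _ _ _
  unfold mcHom
  rw [e1]
  exact extendScalarsComp_hom_eta M a b m

theorem mcInv_eta {A B C : Type u} [CommRing A] [CommRing B] [CommRing C]
    (a : CommRingCat.of A ⟶ CommRingCat.of B) (b : CommRingCat.of B ⟶ CommRingCat.of C)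
    (c : CommRingCat.of A ⟶ CommRingCat.of C) (h : a ≫ b = c)
    (h' : a.op.op.toLoc ≫ b.op.op.toLoc = c.op.op.toLoc) (M : ModuleCat.{u} A) (m : M) :
    mcInv a b c h' M (eta (A := B) ((ModuleCat.extendScalars a.hom).obj M) b (eta M a m)) =
      eta M c m := by
  rw [← mcHom_eta a b c h h' M m]
  exact ConcreteCategory.congr_hom (mcHom_mcInv a b c h' M) (eta M c m)

end General

attribute [local instance] modR towerN

section Descended

variable {R S : Type u} [CommRing R] [CommRing S] [Algebra R S] (N : ModuleCat.{u} S)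
  (M : Submodule R N)

/-- the descended module, bundled -/
abbrev Mc : ModuleCat.{u} R := ModuleCat.of R M

/-- the inclusion `M → N` as a morphism to the restriction of scalars -/
noncomputable def incl : Mc N M ⟶ (ModuleCat.restrictScalars (phi0 R S).hom).obj N :=
  ModuleCat.ofHom (Y := (ModuleCat.restrictScalars (phi0 R S).hom).obj N) M.subtype

/-- `S ⊗ M`, bundled -/
noncomputable abbrev XM : ModuleCat.{u} S :=
  (ModuleCat.extendScalars (phi0 R S).hom).obj (Mc N M)

/-- `S ⊗ M → N` -/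
noncomputable def eHom : XM N M ⟶ N :=
  ((ModuleCat.extendRestrictScalarsAdj (phi0 R S).hom).homEquiv _ _).symm (incl N M)

theorem eHom_eta (m : M) : eHom N M (eta (Mc N M) (phi0 R S) m) = m.1 := by
  have := congrArg (fun h => h m)
    (((ModuleCat.extendRestrictScalarsAdj (phi0 R S).hom).homEquiv _ _).apply_symm_apply
      (incl N M))
  exact this

/-- `m ↦ 1 ⊗ m`, as an `R`-linear map -/
noncomputable def etaM : M →ₗ[R] XM N M where
  toFun m := eta (Mc N M) (phi0 R S) m
  map_add' m m' := eta_add (Mc N M) (phi0 R S) m m'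
  map_smul' r m := by
    rw [eta_smul]
    rfl

variable (hM : IsBaseChange S M.subtype)

/-- the inverse `N → S ⊗ M` -/
noncomputable def eInv : N →ₗ[S] XM N M :=
  hM.lift (Q := XM N M) (etaM N M)

theorem eInv_incl (m : M) : eInv N M hM m.1 = eta (Mc N M) (phi0 R S) m :=
  hM.lift_eq (etaM N M) m

/-- the isomorphism `S ⊗ M ≅ N` -/
noncomputable def eIso : XM N M ≅ N where
  hom := eHom N M
  inv := ModuleCat.ofHom (X := N) (Y := XM N M) (eInv N M hM)
  hom_inv_id := by
    apply hom_ext_eta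
    intro m
    rw [ModuleCat.comp_apply, eHom_eta]
    exact eInv_incl N M hM m
  inv_hom_id := by
    ext : 1
    apply hM.algHom_ext
    intro m
    change eHom N M (eInv N M hM m.1) = m.1
    rw [eInv_incl, eHom_eta]

end Descended

attribute [local instance] SndMap.algebra modCp towerCpN towerX towerCpX
attribute [local instance 10] modSX

section Key

variable {R S T2 : Type u} [CommRing R] [CommRing S] [CommRing T2] [Algebra R S] [Algebra R T2]
  [Algebra S T2] [SndMap S T2] [IsScalarTower R S T2] [IsScalarTower R (Cp S) T2]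
  [Algebra.IsPushout R S (Cp S) T2]
variable (D : Desc.ringModPF.{u}.DescentData
  (fun _ : PUnit.{u + 1} => (CommRingCat.ofHom (algebraMap R S)).op))

variable (T2) in
/-- the descended submodule: the equalizer of the coaction and `n ↦ 1 ⊗ n` -/
noncomputable def Msub : Submodule R (DN D) :=
  LinearMap.eqLocus ((rho (T2 := T2) D).restrictScalars R) (etaR R S T2 (DN D))

theorem exists_desc {T : Type u} [CommRing T] (g₁ g₂ : CommRingCat.of S ⟶ CommRingCat.of T)
    (h : phi0 R S ≫ g₁ = phi0 R S ≫ g₂) :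
    ∃ k : T2 →+* T, fst S T2 ≫ CommRingCat.ofHom k = g₁ ∧
      snd S T2 ≫ CommRingCat.ofHom k = g₂ := by
  letI : Algebra R T := (g₁.hom.comp (algebraMap R S)).toAlgebra
  let f : S →ₐ[R] T := { g₁.hom with commutes' := fun r => rfl }
  let g : Cp S →ₐ[R] T :=
    { (show Cp S →+* T from g₂.hom) with
      commutes' := fun r => by
        have := congrArg (fun φ => φ.hom r) h
        exact this.symm }
  refine ⟨(Algebra.pushoutDesc T2 f g (fun _ _ => mul_comm _ _)).toRingHom, ?_, ?_⟩
  · ext s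
    exact Algebra.pushoutDesc_left T2 f g (fun _ _ => mul_comm _ _) s
  · ext s
    exact Algebra.pushoutDesc_right T2 f g (fun _ _ => mul_comm _ _) s

theorem Psi_eq_of_mem (m : DN D) (hm : m ∈ Msub T2 D) {T : Type u} [CommRing T]
    (g₁ g₂ : CommRingCat.of S ⟶ CommRingCat.of T) (h : phi0 R S ≫ g₁ = phi0 R S ≫ g₂) :
    Psi D g₁ g₂ h (eta (DN D) g₁ m) = eta (DN D) g₂ m := by
  obtain ⟨k, hk1, hk2⟩ := exists_desc (T2 := T2) g₁ g₂ h
  rw [Psi_pull_apply' D (fst S T2) (snd S T2) phi0_fst_snd (CommRingCat.ofHom k) g₁ g₂ hk1 hk2 h m]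
  have hm' : rho (T2 := T2) D m = eta (DN D) (snd S T2) m := hm
  rw [← rho_apply, hm', bcf_eta]

theorem comm_aux (hM : IsBaseChange S (Msub T2 D).subtype) {T : Type u} [CommRing T]
    (g₁ g₂ : CommRingCat.of S ⟶ CommRingCat.of T) (w : CommRingCat.of R ⟶ CommRingCat.of T)
    (h₁ : phi0 R S ≫ g₁ = w) (h₂ : phi0 R S ≫ g₂ = w)
    (h₁' : (phi0 R S).op.op.toLoc ≫ g₁.op.op.toLoc = w.op.op.toLoc)
    (h₂' : (phi0 R S).op.op.toLoc ≫ g₂.op.op.toLoc = w.op.op.toLoc) :
    (ModuleCat.extendScalars g₁.hom).map (eIso (DN D) (Msub T2 D) hM).hom ≫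
        Psi D g₁ g₂ (h₁.trans h₂.symm) =
      mcInv (phi0 R S) g₁ w h₁' (Mc (DN D) (Msub T2 D)) ≫
        mcHom (phi0 R S) g₂ w h₂' (Mc (DN D) (Msub T2 D)) ≫
          (ModuleCat.extendScalars g₂.hom).map (eIso (DN D) (Msub T2 D) hM).hom := by
  apply hom_ext_eta2 (Mc (DN D) (Msub T2 D)) (phi0 R S) g₁
  intro m
  rw [ModuleCat.comp_apply, ModuleCat.comp_apply, ModuleCat.comp_apply, map_eta,
    mcInv_eta _ _ _ h₁, mcHom_eta _ _ _ h₂, map_eta]
  change Psi D g₁ g₂ _ (eta (DN D) g₁ (eHom (DN D) (Msub T2 D) (eta _ (phi0 R S) m))) =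
    eta (DN D) g₂ (eHom (DN D) (Msub T2 D) (eta _ (phi0 R S) m))
  rw [eHom_eta, Psi_eq_of_mem D m.1 m.2]

end Key

end Groth.Agent.H3.FFDesc
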