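import Groth.Agent.Lib.Helper3.FFDescH

/-!
# Effectivity of descent for modules in an abstract pushout setting
-/

set_option autoImplicit false
set_option linter.unusedSectionVars false
open CategoryTheory Opposite TensorProduct
universe u

namespace Groth.Agent.H3.FFDesc

attribute [local instance] SndMap.algebra modCp modR towerN towerCpN towerX towerCpX
attribute [local instance 10] modSX

section Final

variable {R S T2 T3 : Type u} [CommRing R] [CommRing S] [CommRing T2] [CommRing T3]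
  [Algebra R S] [Algebra R T2] [Algebra S T2] [SndMap S T2] [IsScalarTower R S T2]
  [IsScalarTower R (Cp S) T2] [Algebra.IsPushout R S (Cp S) T2]
  [Algebra R T3] [Algebra S T3] [SndMap T2 T3] [IsScalarTower R S T3] [IsScalarTower R (Cp T2) T3]
  [Algebra.IsPushout R S (Cp T2) T3] [Module.Flat R S]
variable (D : Desc.ringModPF.{u}.DescentData
  (fun _ : PUnit.{u + 1} => (CommRingCat.ofHom (algebraMap R S)).op))
variable (m : T2 →+* S) (p12 p13 : T2 →+* T3)

include T3 in
theorem isBaseChange_Msub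
    (hm1 : m.comp (algebraMap S T2) = RingHom.id S)
    (hm2 : m.comp (SndMap.hom : S →+* T2) = RingHom.id S)
    (h12_1 : p12.comp (algebraMap S T2) = algebraMap S T3)
    (h12_2 : p12.comp (SndMap.hom : S →+* T2) =
      (SndMap.hom : T2 →+* T3).comp (algebraMap S T2))
    (h13_1 : p13.comp (algebraMap S T2) = algebraMap S T3)
    (h13_2 : p13.comp (SndMap.hom : S →+* T2) =
      (SndMap.hom : T2 →+* T3).comp (SndMap.hom : S →+* T2)) :
    IsBaseChange S (Msub T2 D).subtype :=
  isBaseChange_eqLocus (etaR R S T2 (DN D)) (isBaseChange_etaR R S S T2 (DN D)) (rho D)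
    (etaR R T2 T3 (XB S T2 (DN D))) (isBaseChange_etaR R S T2 T3 (XB S T2 (DN D)))
    (counit_rho D m hm1 hm2)
    (coassoc_rho D p12 p13 h12_1 h12_2 h13_1 h13_2)

include T3 in
theorem exists_descent
    (hm1 : m.comp (algebraMap S T2) = RingHom.id S)
    (hm2 : m.comp (SndMap.hom : S →+* T2) = RingHom.id S)
    (h12_1 : p12.comp (algebraMap S T2) = algebraMap S T3)
    (h12_2 : p12.comp (SndMap.hom : S →+* T2) =
      (SndMap.hom : T2 →+* T3).comp (algebraMap S T2))
    (h13_1 : p13.comp (algebraMap S T2) = algebraMap S T3)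
    (h13_2 : p13.comp (SndMap.hom : S →+* T2) =
      (SndMap.hom : T2 →+* T3).comp (SndMap.hom : S →+* T2)) :
    ∃ M : ModuleCat.{u} R, Nonempty ((Desc.ringModPF.{u}.toDescentData
      (fun _ : PUnit.{u + 1} => (CommRingCat.ofHom (algebraMap R S)).op)).obj M ≅ D) := by
  have hM := isBaseChange_Msub D m p12 p13 hm1 hm2 h12_1 h12_2 h13_1 h13_2
  refine ⟨Mc (DN D) (Msub T2 D),
    ⟨Pseudofunctor.DescentData.isoMk (fun _ => eIso (DN D) (Msub T2 D) hM) ?_⟩⟩
  intro Y q i₁ i₂ f₁ f₂ hf₁ hf₂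
  subst hf₁
  obtain ⟨Tc⟩ := Y
  have h₂ : phi0 R S ≫ f₂.unop = phi0 R S ≫ f₁.unop := congrArg Quiver.Hom.unop hf₂
  have h₂' : (phi0 R S).op.op.toLoc ≫ f₂.unop.op.op.toLoc =
      (phi0 R S ≫ f₁.unop).op.op.toLoc := by
    rw [← h₂]
    rfl
  exact comm_aux D hM (T := Tc) f₁.unop f₂.unop (phi0 R S ≫ f₁.unop) rfl h₂ rfl h₂'

end Final

end Groth.Agent.H3.FFDesc
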