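import Groth.Agent.Lib.Helper3.FFDescI

/-!
# Effectivity of faithfully flat descent for modules: the concrete cosimplicial rings
-/

set_option autoImplicit false
set_option linter.unusedSectionVars false
open CategoryTheory Opposite TensorProduct
universe u

namespace Groth.Agent.H3.FFDesc

attribute [local instance] SndMap.algebra

section Concrete

variable (R S : Type u) [CommRing R] [CommRing S] [Algebra R S]

/-- `s ↦ 1 ⊗ s` as the distinguished map `S → S ⊗ S` -/
@[reducible] noncomputable def sndMap2 : SndMap S (T2 R S) := ⟨(a2 R S).toRingHom⟩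

/-- `t ↦ 1 ⊗ t` as the distinguished map `S ⊗ S → S ⊗ S ⊗ S` -/
@[reducible] noncomputable def sndMap3 : SndMap (T2 R S) (T3 R S) := ⟨(q23 R S).toRingHom⟩

attribute [local instance] sndMap2 sndMap3

theorem tower2 : IsScalarTower R (Cp S) (T2 R S) :=
  IsScalarTower.of_algebraMap_eq fun r => ((a2 R S).commutes r).symm

theorem tower3 : IsScalarTower R (Cp (T2 R S)) (T3 R S) :=
  IsScalarTower.of_algebraMap_eq fun r => ((q23 R S).commutes r).symm

attribute [local instance] tower2 tower3

theorem pushout2 : Algebra.IsPushout R S (Cp S) (T2 R S) :=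
  letI := Algebra.TensorProduct.rightAlgebra (R := R) (A := S) (B := Cp S)
  (TensorProduct.isPushout : Algebra.IsPushout R S (Cp S) (S ⊗[R] Cp S))

theorem pushout3 : Algebra.IsPushout R S (Cp (T2 R S)) (T3 R S) :=
  letI := Algebra.TensorProduct.rightAlgebra (R := R) (A := S) (B := T2 R S)
  (TensorProduct.isPushout : Algebra.IsPushout R S (T2 R S) (S ⊗[R] T2 R S))

attribute [local instance] pushout2 pushout3

theorem effective [Module.Flat R S] (D : Desc.ringModPF.{u}.DescentData
    (fun _ : PUnit.{u + 1} => (CommRingCat.ofHom (algebraMap R S)).op)) :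
    ∃ M : ModuleCat.{u} R, Nonempty ((Desc.ringModPF.{u}.toDescentData
      (fun _ : PUnit.{u + 1} => (CommRingCat.ofHom (algebraMap R S)).op)).obj M ≅ D) := by
  refine exists_descent (T2 := T2 R S) (T3 := T3 R S) D (mu R S).toRingHom (q12 R S).toRingHom
    (q13 R S).toRingHom ?_ ?_ ?_ ?_ ?_ ?_
  · ext s
    exact AlgHom.congr_fun (mu_a1 R S) s
  · ext s
    exact AlgHom.congr_fun (mu_a2 R S) s
  · ext s
    exact AlgHom.congr_fun (q12_a1 R S) s
  · ext s
    exact AlgHom.congr_fun (q12_a2 R S) s
  · ext s
    exact AlgHom.congr_fun (q13_a1 R S) s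
  · ext s
    exact AlgHom.congr_fun (q13_a2 R S) s

end Concrete

end Groth.Agent.H3.FFDesc
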