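import Mathlib
import Groth.Prelude.Def_FlatMod2
import Groth.Agent.Lib.Lead.QC.FlatBC

set_option autoImplicit false

universe u

open AlgebraicGeometry CategoryTheory CategoryTheory.Limits TopologicalSpace TensorProduct

namespace Groth.Agent.H3.FFlatComp

section Alg

/-- if a faithfully flat `B`-module is flat over `A`, then `B` is flat over `A`. -/
theorem flat_of_faithfullyFlat_module {A B M : Type u} [CommRing A] [CommRing B] [Algebra A B]
    [AddCommGroup M] [Module A M] [Module B M] [IsScalarTower A B M]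
    [Module.FaithfullyFlat B M] [Module.Flat A M] : Module.Flat A B := by
  rw [Module.Flat.iff_lTensor_preserves_injective_linearMap'.{u, u, u}]
  intro N' N _ _ _ _ ι hι
  suffices h : Function.Injective (ι.baseChange B) by
    rwa [LinearMap.baseChange_eq_ltensor] at h
  rw [← Module.FaithfullyFlat.lTensor_injective_iff_injective B M]
  let e' := AlgebraTensorModule.cancelBaseChange A B B M N'
  let e := AlgebraTensorModule.cancelBaseChange A B B M N
  have hcomm : ∀ t, e ((ι.baseChange B).lTensor M t) = (ι.lTensor M) (e' t) := by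
    intro t
    induction t using TensorProduct.induction_on with
    | zero => simp
    | tmul m s =>
      induction s using TensorProduct.induction_on with
      | zero => simp
      | tmul b n => simp [e, e']
      | add s1 s2 h1 h2 =>
        rw [TensorProduct.tmul_add, map_add, map_add, map_add, map_add, h1, h2]
    | add t1 t2 h1 h2 => rw [map_add, map_add, map_add, map_add, h1, h2]
  have hinj : Function.Injective (ι.lTensor M) :=
    Module.Flat.lTensor_preserves_injective_linearMap ι hι
  intro t1 t2 ht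
  apply e'.injective
  apply hinj
  rw [← hcomm, ← hcomm, ht]

theorem faithfullyFlat_of_flat_of_smul_top_ne {B M : Type*} [CommRing B] [IsLocalRing B]
    [AddCommGroup M] [Module B M] [Module.Flat B M]
    (h : IsLocalRing.maximalIdeal B • (⊤ : Submodule B M) ≠ ⊤) : Module.FaithfullyFlat B M :=
  ⟨fun m hm => by rwa [IsLocalRing.eq_maximalIdeal hm]⟩

theorem smul_top_ne_top_of_isLocalHom {A B M : Type*} [CommRing A] [CommRing B] [IsLocalRing A]
    [IsLocalRing B] [Algebra A B] [IsLocalHom (algebraMap A B)]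
    [AddCommGroup M] [Module A M] [Module B M] [IsScalarTower A B M]
    (h : IsLocalRing.maximalIdeal B • (⊤ : Submodule B M) ≠ ⊤) :
    IsLocalRing.maximalIdeal A • (⊤ : Submodule A M) ≠ ⊤ := by
  intro htop
  apply h
  rw [eq_top_iff]
  intro x _
  have hx : x ∈ (IsLocalRing.maximalIdeal A • (⊤ : Submodule A M)) := by rw [htop]; trivial
  refine Submodule.smul_induction_on hx ?_ ?_
  · intro r hr n _
    rw [← algebraMap_smul B r n]
    refine Submodule.smul_mem_smul ?_ trivial
    rw [IsLocalRing.mem_maximalIdeal, mem_nonunits_iff] at hr ⊢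
    exact fun h => hr (isUnit_of_map_unit (algebraMap A B) r h)
  · intro a b ha hb
    exact add_mem ha hb

end Alg

open Groth.Agent.LD.QC

theorem main {X Y Z : Scheme.{u}} (f : X ⟶ Y) (g : Y ⟶ Z)
    (F : X.Modules) (hFfl : FlatMod.IsFlatOver f F)
    (hFff : (∀ y : ↥Y, ∃ x : ↥X, f x = y ∧
      letI := FlatMod.moduleStalkOver f F x
      IsLocalRing.maximalIdeal (Y.presheaf.stalk (f x)) • (⊤ : Submodule (Y.presheaf.stalk (f x)) (F.presheaf.stalk x)) ≠ ⊤)) :
    (Flat g ∧ Surjective g) ↔
      (FlatMod.IsFlatOver (f ≫ g) F ∧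
        (∀ z : ↥Z, ∃ x : ↥X, (f ≫ g) x = z ∧
      letI := FlatMod.moduleStalkOver (f ≫ g) F x
      IsLocalRing.maximalIdeal (Z.presheaf.stalk ((f ≫ g) x)) • (⊤ : Submodule (Z.presheaf.stalk ((f ≫ g) x)) (F.presheaf.stalk x)) ≠ ⊤)) := by
  constructor
  · rintro ⟨hfl, hsurj⟩
    refine ⟨fun x => isFlatOverAt_comp f g F x (Flat.stalkMap g (f x)) (hFfl x), fun z => ?_⟩
    obtain ⟨y, rfl⟩ := g.surjective z
    obtain ⟨x, rfl, hne⟩ := hFff y
    refine ⟨x, rfl, ?_⟩
    letI algCA : Algebra (Z.presheaf.stalk (g (f x))) (Y.presheaf.stalk (f x)) :=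
      (g.stalkMap (f x)).hom.toAlgebra
    letI mAP : Module (Y.presheaf.stalk (f x)) (F.presheaf.stalk x) :=
      FlatMod.moduleStalkOver f F x
    letI mCP : Module (Z.presheaf.stalk (g (f x))) (F.presheaf.stalk x) :=
      FlatMod.moduleStalkOver (f ≫ g) F x
    haveI : IsScalarTower (Z.presheaf.stalk (g (f x))) (Y.presheaf.stalk (f x))
        (F.presheaf.stalk x) := ⟨fun c a m => by
      change (f.stalkMap x) ((g.stalkMap (f x)) c * a) • m =
        ((f ≫ g).stalkMap x) c • ((f.stalkMap x) a • m)
      rw [map_mul, mul_smul, Scheme.Hom.stalkMap_comp]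
      rfl⟩
    haveI : IsLocalHom (algebraMap (Z.presheaf.stalk (g (f x))) (Y.presheaf.stalk (f x))) :=
      inferInstanceAs (IsLocalHom (g.stalkMap (f x)).hom)
    exact smul_top_ne_top_of_isLocalHom (A := Z.presheaf.stalk (g (f x)))
      (B := Y.presheaf.stalk (f x)) hne
  · rintro ⟨h1, h2⟩
    refine ⟨?_, ⟨fun z => ?_⟩⟩
    · rw [Flat.iff_flat_stalkMap]
      intro y
      obtain ⟨x, rfl, hne⟩ := hFff y
      letI algCA : Algebra (Z.presheaf.stalk (g (f x))) (Y.presheaf.stalk (f x)) :=
        (g.stalkMap (f x)).hom.toAlgebra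
      letI mAP : Module (Y.presheaf.stalk (f x)) (F.presheaf.stalk x) :=
        FlatMod.moduleStalkOver f F x
      letI mCP : Module (Z.presheaf.stalk (g (f x))) (F.presheaf.stalk x) :=
        FlatMod.moduleStalkOver (f ≫ g) F x
      haveI : IsScalarTower (Z.presheaf.stalk (g (f x))) (Y.presheaf.stalk (f x))
        (F.presheaf.stalk x) := ⟨fun c a m => by
      change (f.stalkMap x) ((g.stalkMap (f x)) c * a) • m =
        ((f ≫ g).stalkMap x) c • ((f.stalkMap x) a • m)
      rw [map_mul, mul_smul, Scheme.Hom.stalkMap_comp]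
      rfl⟩
      haveI : Module.Flat (Y.presheaf.stalk (f x)) (F.presheaf.stalk x) := hFfl x
      haveI : Module.Flat (Z.presheaf.stalk (g (f x))) (F.presheaf.stalk x) := h1 x
      haveI : Module.FaithfullyFlat (Y.presheaf.stalk (f x)) (F.presheaf.stalk x) :=
        faithfullyFlat_of_flat_of_smul_top_ne hne
      exact flat_of_faithfullyFlat_module (A := Z.presheaf.stalk (g (f x)))
        (B := Y.presheaf.stalk (f x)) (M := F.presheaf.stalk x)
    · obtain ⟨x, hx, -⟩ := h2 z
      exact ⟨f x, hx⟩

end Groth.Agent.H3.FFlatComp
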