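import Groth.Prelude.Def_AlgSp4
import Groth.Prelude.Def_AlgSpGpd
import Groth.Agent.Lib.Helper5.AlgSp.FTPoints
import Groth.Agent.Lib.Helper5.AlgSp.EtaleQuot
import Groth.Agent.Lib.Helper5.AlgSp.LocPCalc
import Groth.Agent.Lib.Helper5.AlgSp.MonoDesc
import Groth.Agent.Lib.Helper5.AlgSp.DiagPres
import Groth.Agent.Lib.Helper8.AlgSp.Quot
import Mathlib

/-!
# Finite type points of an algebraic space via monomorphisms from quotients of field spectra

For an algebraic space `F` and a finite type point `x`, we pick an étale chart `U` with a closed point `u`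
over `x`, take the kernel pair `R ⇉ Spec κ(u)` of `Spec κ(u) → U → F` (an étale equivalence relation,
because `R → Spec κ(u)` is locally of finite type and unramified over a field), and show that the quotient
sheaf `Spec κ(u) / R` is an algebraic space mapping monomorphically to `F`.
-/

set_option autoImplicit false

universe u

open CategoryTheory CategoryTheory.Limits AlgebraicGeometry Opposite Topology

namespace Groth.Agent.H3.FTQuot

open _root_.AlgSp Groth.Agent.H5.AlgSp Groth.Agent.H5.EtSrc

variable {S : Scheme.{u}}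

/-- A morphism locally of finite type and formally unramified to a one-point integral locally Noetherian
scheme (e.g. the spectrum of a field) is étale. -/
theorem etale_of_lft_unramified_of_field {W Y : Scheme.{u}} [Subsingleton ↥Y] [IsIntegral Y]
    [IsLocallyNoetherian Y] (g : W ⟶ Y) [LocallyOfFiniteType g] [FormallyUnramified g] :
    Etale g := by
  haveI : Flat g := inferInstance
  haveI : LocallyOfFinitePresentation g := inferInstance
  exact Etale.of_formallyUnramified_of_flat g

theorem etale_le_lft : (@Etale : MorphismProperty Scheme.{u}) ≤ @LocallyOfFiniteType :=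
  fun _ _ g (_ : Etale g) => (inferInstance : LocallyOfFiniteType g)

theorem etale_le_unram : (@Etale : MorphismProperty Scheme.{u}) ≤ @FormallyUnramified :=
  fun _ _ g (_ : Etale g) => (inferInstance : FormallyUnramified g)

/-- The kernel pair of a morphism `h_T ⟶ F` which is locally of finite type and unramified, `T` a
one-point integral locally Noetherian scheme, is an étale equivalence relation. -/
theorem isEtaleEqvRel_kernelPair_field {F : Sp S} (hF : IsAlgSpace F) {T R : Over S}
    [Subsingleton ↥T.left] [IsIntegral T.left] [IsLocallyNoetherian T.left]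
    (ξ₀ : (yon S).obj T ⟶ F) (h1 : LocP @LocallyOfFiniteType ξ₀)
    (h2 : LocP @FormallyUnramified ξ₀) (s t : R ⟶ T)
    (sq : IsPullback ((yon S).map t) ((yon S).map s) ξ₀ ξ₀) : IsEtaleEqvRel s t := by
  have hs1 : LocallyOfFiniteType s.left := (locP_yon_map_iff etale_le_lft s).1
    (locP_of_isPullback etale_le_lft sq (IsAlgSpace.yon_obj T) hF (IsAlgSpace.yon_obj T) h1)
  have hs2 : FormallyUnramified s.left := (locP_yon_map_iff etale_le_unram s).1
    (locP_of_isPullback etale_le_unram sq (IsAlgSpace.yon_obj T) hF (IsAlgSpace.yon_obj T) h2)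
  have ht1 : LocallyOfFiniteType t.left := (locP_yon_map_iff etale_le_lft t).1
    (locP_of_isPullback etale_le_lft sq.flip (IsAlgSpace.yon_obj T) hF (IsAlgSpace.yon_obj T) h1)
  have ht2 : FormallyUnramified t.left := (locP_yon_map_iff etale_le_unram t).1
    (locP_of_isPullback etale_le_unram sq.flip (IsAlgSpace.yon_obj T) hF (IsAlgSpace.yon_obj T) h2)
  exact ⟨isEqvRel_of_isPullback ξ₀ s t sq, etale_of_lft_unramified_of_field s.left,
    etale_of_lft_unramified_of_field t.left⟩

/-- If `h_R = h_T ×_F h_T`, the induced map `h_T / h_R ⟶ F` is a monomorphism. -/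
theorem mono_quotSpDesc {F : Sp S} {T R : Over S} (ξ₀ : (yon S).obj T ⟶ F) (s t : R ⟶ T)
    (sq : IsPullback ((yon S).map t) ((yon S).map s) ξ₀ ξ₀) :
    Mono (quotSpDesc (s := (yon S).map s) (t := (yon S).map t) ξ₀ sq.w.symm) := by
  apply mono_of_yon
  intro T' x y hxy
  apply yon_hom_ext_of_mem_J ((J S).intersection_covering
    (Groth.Agent.H8.AlgSp.liftSieve_quotSpπ_mem _ _ x)
    (Groth.Agent.H8.AlgSp.liftSieve_quotSpπ_mem _ _ y))
  rintro T'' g ⟨⟨x', hx'⟩, ⟨y', hy'⟩⟩
  rw [← hx', ← hy']
  have h : x' ≫ ξ₀ = y' ≫ ξ₀ := by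
    have hx := congrArg (· ≫ quotSpDesc (s := (yon S).map s) (t := (yon S).map t) ξ₀ sq.w.symm) hx'
    have hy := congrArg (· ≫ quotSpDesc (s := (yon S).map s) (t := (yon S).map t) ξ₀ sq.w.symm) hy'
    simp only [Category.assoc, quotSpπ_desc] at hx hy
    rw [hx, hy, hxy]
  have e1 : sq.lift x' y' h ≫ (yon S).map t = x' := sq.lift_fst _ _ _
  have e2 : sq.lift x' y' h ≫ (yon S).map s = y' := sq.lift_snd _ _ _
  calc x' ≫ quotSpπ ((yon S).map s) ((yon S).map t)
      = (sq.lift x' y' h ≫ (yon S).map t) ≫ quotSpπ ((yon S).map s) ((yon S).map t) := by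
        rw [e1]
    _ = (sq.lift x' y' h ≫ (yon S).map s) ≫ quotSpπ ((yon S).map s) ((yon S).map t) := by
        rw [Category.assoc, Category.assoc, quotSp_condition]
    _ = y' ≫ quotSpπ ((yon S).map s) ((yon S).map t) := by rw [e2]

/-- A morphism `h_T ⟶ F`, locally of finite type and unramified, from a one-point integral locally
Noetherian scheme to an algebraic space factors as an étale surjection `h_T ⟶ Z` onto an algebraic space
followed by a monomorphism `Z ⟶ F` locally of finite type. -/
theorem exists_mono_quot {F : Sp S} (hF : IsAlgSpace F) {T : Over S}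
    [Subsingleton ↥T.left] [IsIntegral T.left] [IsLocallyNoetherian T.left]
    (ξ₀ : (yon S).obj T ⟶ F) (h1 : LocP @LocallyOfFiniteType ξ₀)
    (h2 : LocP @FormallyUnramified ξ₀) :
    ∃ (Z : Sp S) (_ : IsAlgSpace Z) (f : Z ⟶ F) (z : (yon S).obj T ⟶ Z),
      RepWith @Etale z ∧ RepWith @Surjective z ∧ LocP @LocallyOfFiniteType f ∧ Mono f ∧
      z ≫ f = ξ₀ := by
  have hrep : Representable ξ₀ := hF.representable_from_yon ξ₀
  have sq := hrep.isPullback' ξ₀
  have heq := isEtaleEqvRel_kernelPair_field hF ξ₀ h1 h2 (hrep.snd ξ₀) (hrep.fst' ξ₀) sq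
  have hpres := isPresentation_quotSpπ (hrep.snd ξ₀) (hrep.fst' ξ₀) heq
  refine ⟨quotSp ((yon S).map (hrep.snd ξ₀)) ((yon S).map (hrep.fst' ξ₀)),
    isAlgSpace_quotSp _ _ heq, quotSpDesc ξ₀ sq.w.symm, quotSpπ _ _, hpres.etale,
    hpres.surjective, ?_, mono_quotSpDesc ξ₀ _ _ sq, quotSpπ_desc _ _ _ _⟩
  exact locP_of_comp_etale_surjective etale_le_lft (IsAlgSpace.yon_obj T) hF hpres.etale
    hpres.surjective (by rw [quotSpπ_desc]; exact h1)

/-- (1) ⇒ (3): a finite type point is the image of a monomorphism, locally of finite type, from the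
quotient of the spectrum of a field by an étale equivalence relation. -/
theorem exists_mono_quot_of_isFTPoint {F : Sp S} (hF : IsAlgSpace F) {x : Points F}
    (hx : IsFTPoint F x) :
    ∃ (Z : Sp S) (_ : IsAlgSpace Z) (f : Z ⟶ F) (k : Type u) (_ : Field k)
      (str : Spec (CommRingCat.of k) ⟶ S) (z : (yon S).obj (Over.mk str) ⟶ Z),
      RepWith @Etale z ∧ RepWith @Surjective z ∧ LocP @LocallyOfFiniteType f ∧ Mono f ∧
      Points.ofPt (z ≫ f) (IsLocalRing.closedPoint k) = x := by
  obtain ⟨U, φ, u, hφ, hu, rfl⟩ := exists_closed_chart_of_isFTPoint hF hx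
  let ι : Over.mk (U.left.fromSpecResidueField u ≫ U.hom) ⟶ U :=
    Over.homMk (U.left.fromSpecResidueField u) rfl
  have hci : IsClosedImmersion (U.left.fromSpecResidueField u) :=
    isClosed_singleton_iff_isClosedImmersion.mp hu
  have hι1 : LocallyOfFiniteType ι.left := by
    change LocallyOfFiniteType (U.left.fromSpecResidueField u)
    infer_instance
  have hι2 : FormallyUnramified ι.left := by
    change FormallyUnramified (U.left.fromSpecResidueField u)
    infer_instance
  have h1 : LocP @LocallyOfFiniteType ((yon S).map ι ≫ φ) :=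
    locP_comp etale_le_lft (IsAlgSpace.yon_obj _) (IsAlgSpace.yon_obj _) hF
      ((locP_yon_map_iff etale_le_lft ι).2 hι1)
      (locP_of_repWith etale_le_lft (repWith_mono etale_le_lft hφ))
  have h2 : LocP @FormallyUnramified ((yon S).map ι ≫ φ) :=
    locP_comp etale_le_unram (IsAlgSpace.yon_obj _) (IsAlgSpace.yon_obj _) hF
      ((locP_yon_map_iff etale_le_unram ι).2 hι2)
      (locP_of_repWith etale_le_unram (repWith_mono etale_le_unram hφ))
  haveI : Subsingleton ↥(Over.mk (U.left.fromSpecResidueField u ≫ U.hom)).left :=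
    (inferInstance : Subsingleton (PrimeSpectrum ↥(U.left.residueField u)))
  haveI : IsIntegral (Over.mk (U.left.fromSpecResidueField u ≫ U.hom)).left :=
    (inferInstance : IsIntegral (Spec (U.left.residueField u)))
  haveI : IsLocallyNoetherian (Over.mk (U.left.fromSpecResidueField u ≫ U.hom)).left :=
    (inferInstance : IsLocallyNoetherian (Spec (U.left.residueField u)))
  obtain ⟨Z, hZ, f, z, hze, hzs, hf, hm, hzf⟩ := exists_mono_quot hF ((yon S).map ι ≫ φ) h1 h2
  refine ⟨Z, hZ, f, ↥(U.left.residueField u), inferInstance,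
    U.left.fromSpecResidueField u ≫ U.hom, z, hze, hzs, hf, hm, ?_⟩
  rw [hzf, ofPt_yon_map_comp]
  congr 1
  exact Scheme.fromSpecResidueField_apply _ _

/-- (3) ⇒ (1). -/
theorem isFTPoint_of_etale_comp {F Z : Sp S} (hF : IsAlgSpace F) (hZ : IsAlgSpace Z) (f : Z ⟶ F)
    {k : Type u} [Field k] (str : Spec (CommRingCat.of k) ⟶ S)
    (z : (yon S).obj (Over.mk str) ⟶ Z) (hze : RepWith @Etale z)
    (hf : LocP @LocallyOfFiniteType f) :
    IsFTPoint F (Points.ofPt (z ≫ f) (IsLocalRing.closedPoint k)) :=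
  ⟨k, inferInstance, str, z ≫ f, locP_comp etale_le_lft (IsAlgSpace.yon_obj _) hZ hF
    (locP_of_repWith etale_le_lft (repWith_mono etale_le_lft hze)) hf, rfl⟩

/-- (1) ⇒ (2): the spectrum of a field is a one-point algebraic space. -/
theorem exists_onePoint_of_isFTPoint {F : Sp S} {x : Points F} (hx : IsFTPoint F x) :
    ∃ (Z : Sp S) (_ : IsAlgSpace Z) (f : Z ⟶ F), Nonempty (Unique (Points Z)) ∧
      LocP @LocallyOfFiniteType f ∧ Set.range (Points.map f) = {x} := by
  obtain ⟨k, _, str, ξ, hξ, rfl⟩ := hx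
  haveI : Unique ↥(Over.mk str).left := (inferInstance : Unique (PrimeSpectrum k))
  refine ⟨(yon S).obj (Over.mk str), IsAlgSpace.yon_obj _, ξ,
    ⟨(Points.schemeHomeo (Over.mk str)).toEquiv.symm.unique⟩, hξ, ?_⟩
  ext y
  simp only [Set.mem_range, Set.mem_singleton_iff]
  constructor
  · rintro ⟨z, rfl⟩
    obtain ⟨t, rfl⟩ := (Points.schemeHomeo (Over.mk str)).surjective z
    have ht : t = IsLocalRing.closedPoint k := Subsingleton.elim (α := PrimeSpectrum k) _ _
    rw [ht]
    exact (Points.ofPt_eq_map_ofScheme ξ _).symm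
  · rintro rfl
    exact ⟨Points.ofScheme (Over.mk str) (IsLocalRing.closedPoint k),
      (Points.ofPt_eq_map_ofScheme ξ _).symm⟩

/-- (2) ⇒ (1). -/
theorem isFTPoint_of_onePoint {F Z : Sp S} (hF : IsAlgSpace F) (hZ : IsAlgSpace Z) (f : Z ⟶ F)
    {x : Points F} (hu : Nonempty (Unique (Points Z))) (hf : LocP @LocallyOfFiniteType f)
    (hr : Set.range (Points.map f) = {x}) : IsFTPoint F x := by
  obtain ⟨hU⟩ := hu
  obtain ⟨z, -, k, _, str, ξ, hξ, rfl⟩ := exists_isFTPoint_mem hZ
    (isOpen_univ.isLocallyClosed) ⟨hU.default, trivial⟩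
  refine ⟨k, inferInstance, str, ξ ≫ f,
    locP_comp etale_le_lft (IsAlgSpace.yon_obj _) hZ hF hξ hf, ?_⟩
  have hmem : Points.map f (Points.ofPt ξ (IsLocalRing.closedPoint k)) ∈ ({x} : Set (Points F)) := by
    rw [← hr]
    exact ⟨_, rfl⟩
  rw [← Points.map_ofPt]
  exact hmem

end Groth.Agent.H3.FTQuot
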