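import Mathlib
import Groth.Agent.Lib.Helper3.FibCatAux

set_option autoImplicit false

universe v₃ u₃ v₂ u₂ v u

open CategoryTheory CategoryTheory.Functor CategoryTheory.Limits

namespace Groth.Agent.H3.FibCatProd

open Groth.Agent.H3.FibCatAux

variable {C : Type u} [Category.{v} C] {𝒳 : BasedCategory.{v₂, u₂} C} {𝒴 : BasedCategory.{v₃, u₃} C}

lemma self_hom_eq {R S A B : C} (f : R ⟶ S) (ψ₁ ψ₂ : A ⟶ B) [h1 : (𝟭 C).IsHomLift f ψ₁]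
    [h2 : (𝟭 C).IsHomLift f ψ₂] : ψ₁ = ψ₂ := by
  have e1 := IsHomLift.fac' (𝟭 C) f ψ₁
  have e2 := IsHomLift.fac' (𝟭 C) f ψ₂
  exact e1.trans e2.symm

lemma isCartesian_of_isHomLift_of {𝒵 : Type u₂} [Category.{v₂} 𝒵] (p : 𝒵 ⥤ C) {R S R' S' : C}
    (f : R ⟶ S) (f' : R' ⟶ S') {a b : 𝒵} (φ : a ⟶ b) [p.IsCartesian f φ] [p.IsHomLift f' φ] :
    p.IsCartesian f' φ := by
  subst_hom_lift p f' φ
  have h : p.IsCartesian f φ := inferInstance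
  subst_hom_lift p f φ
  exact h

/-- abbreviation for the product over `C` -/
abbrev Prod (𝒳 : BasedCategory.{v₂, u₂} C) (𝒴 : BasedCategory.{v₃, u₃} C) :=
  FibCat.fp (FibCat.toSelf 𝒳) (FibCat.toSelf 𝒴)

/-- constructor for morphisms of the product over `C` -/
def prodHomMk {X'' X' : (Prod 𝒳 𝒴).obj} (χa : X''.obj.fst ⟶ X'.obj.fst) (χb : X''.obj.snd ⟶ X'.obj.snd)
    {R S : C} (g : R ⟶ S) [ha : 𝒳.p.IsHomLift g χa] [hb : 𝒴.p.IsHomLift g χb] : X'' ⟶ X' :=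
  fpHomMk χa χb (by
    have hX' : (FibCat.selfOver C).p.IsHomLift (𝟙 (𝒳.p.obj X'.obj.fst)) X'.obj.iso.hom := X'.property
    have hX'' : (FibCat.selfOver C).p.IsHomLift (𝟙 (𝒳.p.obj X''.obj.fst)) X''.obj.iso.hom :=
      X''.property
    have h1 : (FibCat.selfOver C).p.IsHomLift g ((FibCat.toSelf 𝒳).map χa) := inferInstance
    have h2 : (FibCat.selfOver C).p.IsHomLift g ((FibCat.toSelf 𝒴).map χb) := inferInstance
    have h3 : (FibCat.selfOver C).p.IsHomLift g ((FibCat.toSelf 𝒳).map χa ≫ X'.obj.iso.hom) :=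
      IsHomLift.comp_lift_id_right' (FibCat.selfOver C).p g _ (𝒳.p.obj X'.obj.fst) X'.obj.iso.hom
    have h4 : (FibCat.selfOver C).p.IsHomLift g (X''.obj.iso.hom ≫ (FibCat.toSelf 𝒴).map χb) :=
      IsHomLift.comp_lift_id_left' (FibCat.selfOver C).p (𝒳.p.obj X''.obj.fst) X''.obj.iso.hom g _
    exact self_hom_eq (h1 := h3) (h2 := h4) g _ _)

@[simp] lemma prodHomMk_fst {X'' X' : (Prod 𝒳 𝒴).obj} (χa : X''.obj.fst ⟶ X'.obj.fst)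
    (χb : X''.obj.snd ⟶ X'.obj.snd) {R S : C} (g : R ⟶ S) [ha : 𝒳.p.IsHomLift g χa]
    [hb : 𝒴.p.IsHomLift g χb] : (prodHomMk χa χb g).hom.fst = χa := rfl

@[simp] lemma prodHomMk_snd {X'' X' : (Prod 𝒳 𝒴).obj} (χa : X''.obj.fst ⟶ X'.obj.fst)
    (χb : X''.obj.snd ⟶ X'.obj.snd) {R S : C} (g : R ⟶ S) [ha : 𝒳.p.IsHomLift g χa]
    [hb : 𝒴.p.IsHomLift g χb] : (prodHomMk χa χb g).hom.snd = χb := rfl

/-- both components of a morphism of the product lift `f` as soon as the morphism does -/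
lemma snd_isHomLift_of {X'' X : (Prod 𝒳 𝒴).obj} (φ : X'' ⟶ X) {R S : C} (f : R ⟶ S)
    [h : 𝒳.p.IsHomLift f φ.hom.fst] : 𝒴.p.IsHomLift f φ.hom.snd := by
  have h1 : 𝒴.p.IsHomLift (𝒳.p.map φ.hom.fst) φ.hom.snd := fp_isHomLift_snd' φ
  rw [IsHomLift.fac' 𝒳.p f φ.hom.fst] at h1
  simpa using h1

lemma fst_isHomLift_of {X'' X : (Prod 𝒳 𝒴).obj} (φ : X'' ⟶ X) {R S : C} (f : R ⟶ S)
    [h : 𝒴.p.IsHomLift f φ.hom.snd] : 𝒳.p.IsHomLift f φ.hom.fst := by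
  have h1 : 𝒴.p.IsHomLift (𝒳.p.map φ.hom.fst) φ.hom.snd := fp_isHomLift_snd' φ
  have hd : 𝒳.p.obj X''.obj.fst = R :=
    (IsHomLift.domain_eq 𝒴.p (𝒳.p.map φ.hom.fst) φ.hom.snd).symm.trans
      (IsHomLift.domain_eq 𝒴.p f φ.hom.snd)
  have hc : 𝒳.p.obj X.obj.fst = S :=
    (IsHomLift.codomain_eq 𝒴.p (𝒳.p.map φ.hom.fst) φ.hom.snd).symm.trans
      (IsHomLift.codomain_eq 𝒴.p f φ.hom.snd)
  apply IsHomLift.of_fac' 𝒳.p f φ.hom.fst hd hc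
  have e1 := IsHomLift.fac 𝒴.p (𝒳.p.map φ.hom.fst) φ.hom.snd
  have e2 := IsHomLift.fac' 𝒴.p f φ.hom.snd
  rw [e1, e2]
  simp

/-- a morphism of the product with cartesian components is cartesian -/
lemma prod_isCartesian {X' X : (Prod 𝒳 𝒴).obj} (φ : X' ⟶ X) {R S : C} (f : R ⟶ S)
    [ha : 𝒳.p.IsCartesian f φ.hom.fst] [hb : 𝒴.p.IsCartesian f φ.hom.snd] :
    (Prod 𝒳 𝒴).p.IsCartesian f φ where
  toIsHomLift := (fp_isHomLift_iff _ _ f φ).2 inferInstance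
  universal_property := by
    intro X'' φ'' hφ''
    have h1 : 𝒳.p.IsHomLift f φ''.hom.fst := (fp_isHomLift_iff _ _ f φ'').1 hφ''
    have h2 : 𝒴.p.IsHomLift f φ''.hom.snd := snd_isHomLift_of φ'' f
    have hχa : 𝒳.p.IsHomLift (𝟙 R) (IsCartesian.map 𝒳.p f φ.hom.fst φ''.hom.fst) :=
      IsCartesian.map_isHomLift 𝒳.p f φ.hom.fst φ''.hom.fst
    have hχb : 𝒴.p.IsHomLift (𝟙 R) (IsCartesian.map 𝒴.p f φ.hom.snd φ''.hom.snd) :=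
      IsCartesian.map_isHomLift 𝒴.p f φ.hom.snd φ''.hom.snd
    refine ⟨prodHomMk (IsCartesian.map 𝒳.p f φ.hom.fst φ''.hom.fst)
      (IsCartesian.map 𝒴.p f φ.hom.snd φ''.hom.snd) (𝟙 R), ⟨?_, ?_⟩, ?_⟩
    · exact (fp_isHomLift_iff _ _ (𝟙 R) _).2 hχa
    · apply fp_hom_ext
      · exact IsCartesian.fac 𝒳.p f φ.hom.fst φ''.hom.fst
      · exact IsCartesian.fac 𝒴.p f φ.hom.snd φ''.hom.snd
    · rintro χ ⟨h3, h4⟩
      have h5 : 𝒳.p.IsHomLift (𝟙 R) χ.hom.fst := (fp_isHomLift_iff _ _ (𝟙 R) χ).1 h3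
      have h6 : 𝒴.p.IsHomLift (𝟙 R) χ.hom.snd := snd_isHomLift_of χ (𝟙 R)
      apply fp_hom_ext
      · exact IsCartesian.map_uniq 𝒳.p f φ.hom.fst φ''.hom.fst χ.hom.fst
          (congrArg (fun t => t.hom.fst) h4)
      · exact IsCartesian.map_uniq 𝒴.p f φ.hom.snd φ''.hom.snd χ.hom.snd
          (congrArg (fun t => t.hom.snd) h4)

/-- object constructor for the product over `C` -/
def prodMk (x : 𝒳.obj) (y : 𝒴.obj) (h : 𝒳.p.obj x = 𝒴.p.obj y) : (Prod 𝒳 𝒴).obj :=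
  fpMk (FibCat.toSelf 𝒳) (FibCat.toSelf 𝒴) x y (eqToIso h)
    (IsHomLift.eqToHom_domain_lift_id (p := (FibCat.selfOver C).p) h rfl)

lemma fst_isCartesian_of_prod {X' X : (Prod 𝒳 𝒴).obj} (φ : X' ⟶ X)
    (f : 𝒳.p.obj X'.obj.fst ⟶ 𝒳.p.obj X.obj.fst) (hf : f = 𝒳.p.map φ.hom.fst)
    [hφ : (Prod 𝒳 𝒴).p.IsCartesian f φ] : 𝒳.p.IsCartesian f φ.hom.fst where
  toIsHomLift := by rw [hf]; exact IsHomLift.map 𝒳.p φ.hom.fst
  universal_property := by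
    intro x'' a'' ha''
    have hb : 𝒴.p.IsHomLift f φ.hom.snd := by rw [hf]; exact fp_isHomLift_snd' φ
    have hy' : 𝒴.p.obj X'.obj.snd = 𝒳.p.obj X'.obj.fst := (FibCat.fpSnd _ _).w_obj X'
    have hx'' : 𝒳.p.obj x'' = 𝒳.p.obj X'.obj.fst := IsHomLift.domain_eq 𝒳.p f a''
    let X'' : (Prod 𝒳 𝒴).obj := prodMk x'' X'.obj.snd (hx''.trans hy'.symm)
    let φ'' : X'' ⟶ X := prodHomMk (X'' := X'') a'' φ.hom.snd f (ha := ha'') (hb := hb)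
    have hφ'' : (Prod 𝒳 𝒴).p.IsHomLift f φ'' :=
      (fp_isHomLift_iff _ _ f φ'').2 (show 𝒳.p.IsHomLift f φ''.hom.fst from ha'')
    obtain ⟨χ, hχd⟩ : ∃ χ : X'' ⟶ X', χ = IsCartesian.map (Prod 𝒳 𝒴).p f φ φ'' := ⟨_, rfl⟩
    have hχ1 : (Prod 𝒳 𝒴).p.IsHomLift (𝟙 (𝒳.p.obj X'.obj.fst)) χ := by
      rw [hχd]; exact IsCartesian.map_isHomLift (Prod 𝒳 𝒴).p f φ φ''
    have hχ2 : χ ≫ φ = φ'' := by rw [hχd]; exact IsCartesian.fac (Prod 𝒳 𝒴).p f φ φ''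
    have hχa : 𝒳.p.IsHomLift (𝟙 (𝒳.p.obj X'.obj.fst)) χ.hom.fst := (fp_isHomLift_iff _ _ _ χ).1 hχ1
    have hχb : 𝒴.p.IsHomLift (𝟙 (𝒳.p.obj X'.obj.fst)) χ.hom.snd := snd_isHomLift_of χ _
    refine ⟨χ.hom.fst, ⟨hχa, congrArg (fun t => t.hom.fst) hχ2⟩, ?_⟩
    rintro χa' ⟨h1, h2⟩
    let χ' : X'' ⟶ X' := prodHomMk (X'' := X'') χa' χ.hom.snd (𝟙 (𝒳.p.obj X'.obj.fst))
      (ha := h1) (hb := hχb)
    have hχ'1 : (Prod 𝒳 𝒴).p.IsHomLift (𝟙 (𝒳.p.obj X'.obj.fst)) χ' :=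
      (fp_isHomLift_iff _ _ _ χ').2 (show 𝒳.p.IsHomLift (𝟙 (𝒳.p.obj X'.obj.fst)) χ'.hom.fst from h1)
    have hχ'2 : χ' ≫ φ = φ'' := by
      apply fp_hom_ext
      · exact h2
      · exact congrArg (fun t => t.hom.snd) hχ2
    have h3 : χ' = χ := by
      rw [hχd]; exact IsCartesian.map_uniq (Prod 𝒳 𝒴).p f φ φ'' χ' hχ'2
    exact congrArg (fun t => t.hom.fst) h3

lemma snd_isCartesian_of_prod {X' X : (Prod 𝒳 𝒴).obj} (φ : X' ⟶ X)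
    (f : 𝒳.p.obj X'.obj.fst ⟶ 𝒳.p.obj X.obj.fst) (hf : f = 𝒳.p.map φ.hom.fst)
    [hφ : (Prod 𝒳 𝒴).p.IsCartesian f φ] : 𝒴.p.IsCartesian f φ.hom.snd where
  toIsHomLift := by rw [hf]; exact fp_isHomLift_snd' φ
  universal_property := by
    intro y'' b'' hb''
    have ha : 𝒳.p.IsHomLift f φ.hom.fst := by rw [hf]; exact IsHomLift.map 𝒳.p φ.hom.fst
    have hy'' : 𝒴.p.obj y'' = 𝒳.p.obj X'.obj.fst := IsHomLift.domain_eq 𝒴.p f b''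
    let X'' : (Prod 𝒳 𝒴).obj := prodMk X'.obj.fst y'' hy''.symm
    let φ'' : X'' ⟶ X := prodHomMk (X'' := X'') φ.hom.fst b'' f (ha := ha) (hb := hb'')
    have hφ'' : (Prod 𝒳 𝒴).p.IsHomLift f φ'' :=
      (fp_isHomLift_iff _ _ f φ'').2 (show 𝒳.p.IsHomLift f φ''.hom.fst from ha)
    obtain ⟨χ, hχd⟩ : ∃ χ : X'' ⟶ X', χ = IsCartesian.map (Prod 𝒳 𝒴).p f φ φ'' := ⟨_, rfl⟩
    have hχ1 : (Prod 𝒳 𝒴).p.IsHomLift (𝟙 (𝒳.p.obj X'.obj.fst)) χ := by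
      rw [hχd]; exact IsCartesian.map_isHomLift (Prod 𝒳 𝒴).p f φ φ''
    have hχ2 : χ ≫ φ = φ'' := by rw [hχd]; exact IsCartesian.fac (Prod 𝒳 𝒴).p f φ φ''
    have hχa : 𝒳.p.IsHomLift (𝟙 (𝒳.p.obj X'.obj.fst)) χ.hom.fst := (fp_isHomLift_iff _ _ _ χ).1 hχ1
    have hχb : 𝒴.p.IsHomLift (𝟙 (𝒳.p.obj X'.obj.fst)) χ.hom.snd := snd_isHomLift_of χ _
    refine ⟨χ.hom.snd, ⟨hχb, congrArg (fun t => t.hom.snd) hχ2⟩, ?_⟩
    rintro χb' ⟨h1, h2⟩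
    let χ' : X'' ⟶ X' := prodHomMk (X'' := X'') χ.hom.fst χb' (𝟙 (𝒳.p.obj X'.obj.fst))
      (ha := hχa) (hb := h1)
    have hχ'1 : (Prod 𝒳 𝒴).p.IsHomLift (𝟙 (𝒳.p.obj X'.obj.fst)) χ' :=
      (fp_isHomLift_iff _ _ _ χ').2 (show 𝒳.p.IsHomLift (𝟙 (𝒳.p.obj X'.obj.fst)) χ'.hom.fst from hχa)
    have hχ'2 : χ' ≫ φ = φ'' := by
      apply fp_hom_ext
      · exact congrArg (fun t => t.hom.fst) hχ2
      · exact h2
    have h3 : χ' = χ := by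
      rw [hχd]; exact IsCartesian.map_uniq (Prod 𝒳 𝒴).p f φ φ'' χ' hχ'2
    exact congrArg (fun t => t.hom.snd) h3

theorem X5142 {x y : (Prod 𝒳 𝒴).obj} (φ : x ⟶ y) :
    (Prod 𝒳 𝒴).p.IsCartesian ((Prod 𝒳 𝒴).p.map φ) φ ↔
      𝒳.p.IsCartesian (𝒳.p.map φ.hom.fst) φ.hom.fst ∧
        𝒴.p.IsCartesian (𝒴.p.map φ.hom.snd) φ.hom.snd := by
  constructor
  · intro h
    have h1 : (Prod 𝒳 𝒴).p.IsCartesian (𝒳.p.map φ.hom.fst) φ := h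
    refine ⟨fst_isCartesian_of_prod φ _ rfl, ?_⟩
    have h2 : 𝒴.p.IsCartesian (𝒳.p.map φ.hom.fst) φ.hom.snd := snd_isCartesian_of_prod φ _ rfl
    exact isCartesian_of_isHomLift_of 𝒴.p (𝒳.p.map φ.hom.fst) _ φ.hom.snd
  · rintro ⟨h1, h2⟩
    have h3 : 𝒴.p.IsHomLift (𝒳.p.map φ.hom.fst) φ.hom.snd := fp_isHomLift_snd' φ
    have h4 : 𝒴.p.IsCartesian (𝒳.p.map φ.hom.fst) φ.hom.snd :=
      isCartesian_of_isHomLift_of 𝒴.p (𝒴.p.map φ.hom.snd) _ φ.hom.snd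
    exact prod_isCartesian φ (𝒳.p.map φ.hom.fst)

lemma isFibered_self : (FibCat.selfOver C).p.IsFibered :=
  isFibered_of_isFibGrpd (𝟭 C) isFibGrpd_id

theorem X5143 :
    (𝒳.p.IsFibered → 𝒴.p.IsFibered → (Prod 𝒳 𝒴).p.IsFibered) ∧
      (𝒳.p.IsPreFibered → 𝒴.p.IsPreFibered → (Prod 𝒳 𝒴).p.IsPreFibered) := by
  constructor
  · intro h1 h2
    have h3 : (FibCat.selfOver C).p.IsFibered := isFibered_self
    apply X6400 (FibCat.toSelf 𝒳) (FibCat.toSelf 𝒴)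
    · intro R S f a b φ hφ
      have : (FibCat.selfOver C).p.IsHomLift f ((FibCat.toSelf 𝒳).map φ) := inferInstance
      exact isStronglyCartesian_of_isHomLift (FibCat.selfOver C).p isFibGrpd_id f _
    · intro R S f a b φ hφ
      have : (FibCat.selfOver C).p.IsHomLift f ((FibCat.toSelf 𝒴).map φ) := inferInstance
      exact isStronglyCartesian_of_isHomLift (FibCat.selfOver C).p isFibGrpd_id f _
  · intro h1 h2
    constructor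
    intro X R (f : R ⟶ 𝒳.p.obj X.obj.fst)
    have hy : 𝒴.p.obj X.obj.snd = 𝒳.p.obj X.obj.fst := (FibCat.fpSnd _ _).w_obj X
    obtain ⟨y', b, hb⟩ := IsPreFibered.exists_isCartesian' (p := 𝒴.p) (a := X.obj.snd)
      (f ≫ eqToHom hy.symm)
    obtain ⟨x', a, ha⟩ := IsPreFibered.exists_isCartesian' (p := 𝒳.p) (a := X.obj.fst) f
    have hb0 : 𝒴.p.IsHomLift f b :=
      (IsHomLift.lift_comp_eqToHom_iff 𝒴.p f b hy.symm).1 hb.toIsHomLift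
    have hb' : 𝒴.p.IsCartesian f b := isCartesian_of_isHomLift_of 𝒴.p (f ≫ eqToHom hy.symm) f b
    have hxy : 𝒳.p.obj x' = 𝒴.p.obj y' :=
      (IsHomLift.domain_eq 𝒳.p f a).trans (IsHomLift.domain_eq 𝒴.p f b).symm
    let φ : prodMk x' y' hxy ⟶ X := prodHomMk (X'' := prodMk x' y' hxy) a b f
      (ha := ha.toIsHomLift) (hb := hb0)
    exact ⟨prodMk x' y' hxy, φ, prod_isCartesian φ f
      (ha := (show 𝒳.p.IsCartesian f φ.hom.fst from ha))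
      (hb := (show 𝒴.p.IsCartesian f φ.hom.snd from hb'))⟩

end Groth.Agent.H3.FibCatProd
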