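import Mathlib
import Groth.Agent.Lib.Helper3.FibCatAux

set_option autoImplicit false

universe v₂ u₂ v u

open CategoryTheory CategoryTheory.Functor CategoryTheory.Limits

namespace Groth.Agent.H3.FibCatSetoid

open Groth.Agent.H3.FibCatAux

variable {C : Type u} [Category.{v} C] (𝒳 : BasedCategory.{v₂, u₂} C)

/-- two objects are related when some morphism between them lies over an identity -/
def Rel (x y : 𝒳.obj) : Prop := ∃ (U : C) (φ : x ⟶ y), 𝒳.p.IsHomLift (𝟙 U) φ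

variable {𝒳}

lemma rel_refl (x : 𝒳.obj) : Rel 𝒳 x x := ⟨𝒳.p.obj x, 𝟙 x, inferInstance⟩

lemma rel_symm (h𝒳 : FibCat.IsFibGrpd 𝒳.p) {x y : 𝒳.obj} (h : Rel 𝒳 x y) : Rel 𝒳 y x := by
  obtain ⟨U, φ, hφ⟩ := h
  have : IsIso φ := isIso_of_isHomLift_id 𝒳.p h𝒳 (U := U) φ
  exact ⟨U, inv φ, inferInstance⟩

lemma rel_trans {x y z : 𝒳.obj} (h : Rel 𝒳 x y) (h' : Rel 𝒳 y z) : Rel 𝒳 x z := by
  obtain ⟨U, φ, hφ⟩ := h
  obtain ⟨U', ψ, hψ⟩ := h'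
  have h1 : 𝒳.p.obj y = U := IsHomLift.codomain_eq 𝒳.p (𝟙 U) φ
  have h2 : 𝒳.p.obj y = U' := IsHomLift.domain_eq 𝒳.p (𝟙 U') ψ
  obtain rfl : U = U' := h1.symm.trans h2
  exact ⟨U, φ ≫ ψ, inferInstance⟩

lemma rel_proj {x y : 𝒳.obj} (h : Rel 𝒳 x y) : 𝒳.p.obj x = 𝒳.p.obj y := by
  obtain ⟨U, φ, hφ⟩ := h
  exact (IsHomLift.domain_eq 𝒳.p (𝟙 U) φ).trans (IsHomLift.codomain_eq 𝒳.p (𝟙 U) φ).symm

/-- the setoid of fibrewise isomorphism -/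
def stoid (h𝒳 : FibCat.IsFibGrpd 𝒳.p) : Setoid 𝒳.obj where
  r := Rel 𝒳
  iseqv := ⟨rel_refl, rel_symm h𝒳, rel_trans⟩

/-- objects of the quotient category -/
def QObj (h𝒳 : FibCat.IsFibGrpd 𝒳.p) : Type u₂ := Quotient (stoid h𝒳)

variable (h𝒳 : FibCat.IsFibGrpd 𝒳.p)

/-- the projection on objects -/
def qproj (a : QObj h𝒳) : C := Quotient.lift (s := stoid h𝒳) (fun x => 𝒳.p.obj x) (fun _ _ h => rel_proj h) a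

/-- the class of an object -/
def qmk (x : 𝒳.obj) : QObj h𝒳 := Quotient.mk (stoid h𝒳) x

@[simp] lemma qproj_qmk (x : 𝒳.obj) : qproj h𝒳 (qmk h𝒳 x) = 𝒳.p.obj x := rfl

lemma qmk_eq_iff {x y : 𝒳.obj} : qmk h𝒳 x = qmk h𝒳 y ↔ Rel 𝒳 x y :=
  ⟨fun h => Quotient.exact (s := stoid h𝒳) h, fun h => Quotient.sound (s := stoid h𝒳) h⟩

/-- morphisms of the quotient category -/
def QHom (a b : QObj h𝒳) : Type v :=
  { f : qproj h𝒳 a ⟶ qproj h𝒳 b // ∃ (x y : 𝒳.obj) (φ : x ⟶ y), qmk h𝒳 x = a ∧ qmk h𝒳 y = b ∧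
      𝒳.p.IsHomLift f φ }

lemma exists_rep (a : QObj h𝒳) : ∃ x : 𝒳.obj, qmk h𝒳 x = a := Quotient.exists_rep a

instance : Category (QObj h𝒳) where
  Hom a b := QHom h𝒳 a b
  id a := ⟨𝟙 _, by
    obtain ⟨x, rfl⟩ := exists_rep h𝒳 a
    exact ⟨x, x, 𝟙 x, rfl, rfl, IsHomLift.id rfl⟩⟩
  comp {a b c} f g := ⟨f.1 ≫ g.1, by
    obtain ⟨x, y, φ, rfl, hy, hφ⟩ := f.2
    obtain ⟨y', z, ψ, hy', rfl, hψ⟩ := g.2
    have hr : Rel 𝒳 y y' := (qmk_eq_iff h𝒳).1 (hy.trans hy'.symm)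
    obtain ⟨U, θ, hθ⟩ := hr
    have h1 : 𝒳.p.IsHomLift f.1 (φ ≫ θ) := IsHomLift.comp_lift_id_right' 𝒳.p f.1 φ U θ
    have h2 : 𝒳.p.IsHomLift (f.1 ≫ g.1) ((φ ≫ θ) ≫ ψ) := inferInstance
    exact ⟨x, z, (φ ≫ θ) ≫ ψ, rfl, rfl, h2⟩⟩
  id_comp f := Subtype.ext (Category.id_comp _)
  comp_id f := Subtype.ext (Category.comp_id _)
  assoc f g h := Subtype.ext (Category.assoc _ _ _)

/-- the structure functor of the quotient -/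
def qp : QObj h𝒳 ⥤ C where
  obj a := qproj h𝒳 a
  map f := f.1

/-- the quotient as a based category -/
def Q : BasedCategory.{v, u₂} C where
  obj := QObj h𝒳
  p := qp h𝒳

/-- the quotient functor -/
def toQ : 𝒳 ⥤ᵇ Q h𝒳 where
  toFunctor :=
    { obj := fun x => qmk h𝒳 x
      map := fun {x y} φ => ⟨𝒳.p.map φ, x, y, φ, rfl, rfl, IsHomLift.map 𝒳.p φ⟩
      map_id := fun x => Subtype.ext (𝒳.p.map_id x)
      map_comp := fun φ ψ => Subtype.ext (𝒳.p.map_comp φ ψ) }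
  w := rfl

lemma q_isHomLift_iff {R S : C} (f : R ⟶ S) {a b : QObj h𝒳} (m : a ⟶ b) :
    (qp h𝒳).IsHomLift f m ↔ ∃ (ha : qproj h𝒳 a = R) (hb : qproj h𝒳 b = S),
      m.1 = eqToHom ha ≫ f ≫ eqToHom hb.symm := by
  constructor
  · intro h
    exact ⟨IsHomLift.domain_eq (qp h𝒳) f m, IsHomLift.codomain_eq (qp h𝒳) f m,
      IsHomLift.fac' (qp h𝒳) f m⟩
  · rintro ⟨ha, hb, h⟩
    exact IsHomLift.of_fac' (qp h𝒳) f m ha hb h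

lemma q_hom_ext {a b : QObj h𝒳} {m m' : a ⟶ b} (h : m.1 = m'.1) : m = m' := Subtype.ext h

lemma isFibGrpd_q : FibCat.IsFibGrpd (qp h𝒳) where
  exists_lift := by
    intro a V f
    obtain ⟨x, rfl⟩ := exists_rep h𝒳 a
    change V ⟶ 𝒳.p.obj x at f
    obtain ⟨y, φ, hφ⟩ := h𝒳.exists_lift (x := x) f
    have hy : 𝒳.p.obj y = V := IsHomLift.domain_eq 𝒳.p f φ
    refine ⟨qmk h𝒳 y, ⟨eqToHom hy ≫ f, y, x, φ, rfl, rfl,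
      (IsHomLift.lift_eqToHom_comp_iff 𝒳.p f φ hy).2 hφ⟩, ?_⟩
    rw [q_isHomLift_iff]
    refine ⟨hy, rfl, ?_⟩
    change eqToHom hy ≫ f = eqToHom hy ≫ f ≫ 𝟙 _
    rw [Category.comp_id]
  isStronglyCartesian := by
    intro b a m
    refine { toIsHomLift := IsHomLift.map _ m, universal_property' := ?_ }
    intro c (g : qproj h𝒳 c ⟶ qproj h𝒳 b) m' hm'
    have h1 : g ≫ m.1 = m'.1 := @IsHomLift.eq_of_isHomLift _ _ _ _ (qp h𝒳) c a _ m' hm'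
    obtain ⟨y, x, φ, rfl, hx, hφ⟩ := m.2
    obtain ⟨z, x', φ', rfl, hx', hφ'⟩ := m'.2
    have hr : Rel 𝒳 x' x := (qmk_eq_iff h𝒳).1 (hx'.trans hx.symm)
    obtain ⟨U, θ, hθ⟩ := hr
    have h2 : 𝒳.p.IsHomLift m'.1 (φ' ≫ θ) := IsHomLift.comp_lift_id_right' 𝒳.p m'.1 φ' U θ
    have h3 : 𝒳.p.IsHomLift (g ≫ m.1) (φ' ≫ θ) := by rw [h1]; exact h2
    have h4 : 𝒳.p.IsStronglyCartesian m.1 φ := isStronglyCartesian_of_isHomLift 𝒳.p h𝒳 m.1 φ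
    have h5 : 𝒳.p.IsHomLift g (IsStronglyCartesian.map 𝒳.p m.1 φ (f' := g ≫ m.1) rfl (φ' ≫ θ)) :=
      IsStronglyCartesian.map_isHomLift 𝒳.p m.1 φ rfl (φ' ≫ θ)
    refine ⟨⟨g, z, y, _, rfl, rfl, h5⟩, ⟨?_, q_hom_ext h𝒳 h1⟩, ?_⟩
    · exact IsHomLift.map (qp h𝒳) (⟨g, z, y, _, rfl, rfl, h5⟩ : qmk h𝒳 z ⟶ qmk h𝒳 y)
    · rintro χ ⟨h6, h7⟩
      apply q_hom_ext
      exact (@IsHomLift.eq_of_isHomLift _ _ _ _ (qp h𝒳) (qmk h𝒳 z) (qmk h𝒳 y) g χ h6).symm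

lemma isFibSet_q : FibCat.IsFibSet (qp h𝒳) := by
  refine ⟨isFibGrpd_q h𝒳, ?_⟩
  intro U
  refine { subsingleton := ?_, eq_of_hom := ?_ }
  · intro a b
    constructor
    intro m m'
    apply Fiber.hom_ext
    apply q_hom_ext
    have h1 : (qp h𝒳).IsHomLift (𝟙 U) m.1 := m.2
    have h2 : (qp h𝒳).IsHomLift (𝟙 U) m'.1 := m'.2
    exact (IsHomLift.fac' (qp h𝒳) (𝟙 U) m.1).trans (IsHomLift.fac' (qp h𝒳) (𝟙 U) m'.1).symm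
  · intro a b m
    apply Subtype.ext
    have h1 : (qp h𝒳).IsHomLift (𝟙 U) m.1 := m.2
    obtain ⟨ha, hb, hm⟩ := (q_isHomLift_iff h𝒳 (𝟙 U) m.1).1 h1
    obtain ⟨x, y, φ, hx, hy, hφ⟩ := m.1.2
    rw [← hx, ← hy, qmk_eq_iff]
    refine ⟨U, φ, ?_⟩
    rw [hm] at hφ
    have h2 : 𝒳.p.IsHomLift (𝟙 U ≫ eqToHom hb.symm) φ :=
      (IsHomLift.lift_eqToHom_comp_iff 𝒳.p _ φ ha).1 hφ
    exact (IsHomLift.lift_comp_eqToHom_iff 𝒳.p (𝟙 U) φ _).1 h2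

lemma toQ_isEquivalence (hs : FibCat.IsFibSetoid 𝒳.p) : (toQ hs.1).toFunctor.IsEquivalence where
  faithful := by
    constructor
    intro x y φ ψ h
    have h1 : 𝒳.p.map φ = 𝒳.p.map ψ := congrArg (fun t => t.1) h
    have h2 : 𝒳.p.IsHomLift (𝒳.p.map φ) ψ := by rw [h1]; infer_instance
    exact hom_eq_of_isFibSetoid 𝒳.p hs (𝒳.p.map φ) φ ψ
  full := by
    constructor
    intro x y m
    obtain ⟨x', y', φ', hx, hy, hφ'⟩ := m.2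
    obtain ⟨U₁, θ₁, hθ₁⟩ := (qmk_eq_iff hs.1).1 hx.symm
    obtain ⟨U₂, θ₂, hθ₂⟩ := (qmk_eq_iff hs.1).1 hy
    have h1 : 𝒳.p.IsHomLift m.1 (φ' ≫ θ₂) := IsHomLift.comp_lift_id_right' 𝒳.p m.1 φ' U₂ θ₂
    have h2 : 𝒳.p.IsHomLift m.1 (θ₁ ≫ φ' ≫ θ₂) := IsHomLift.comp_lift_id_left' 𝒳.p U₁ θ₁ m.1 _
    refine ⟨θ₁ ≫ φ' ≫ θ₂, ?_⟩
    apply q_hom_ext
    exact (@IsHomLift.eq_of_isHomLift _ _ _ _ 𝒳.p x y m.1 (θ₁ ≫ φ' ≫ θ₂) h2).symm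
  essSurj := by
    constructor
    intro a
    obtain ⟨x, rfl⟩ := exists_rep hs.1 a
    exact ⟨x, ⟨Iso.refl _⟩⟩

theorem X6406 (hs : FibCat.IsFibSetoid 𝒳.p) :
    ∃ (𝒴 : BasedCategory.{v, u₂} C) (F : 𝒳 ⥤ᵇ 𝒴), FibCat.IsFibSet 𝒴.p ∧ FibCat.IsEquivOver F := by
  have := toQ_isEquivalence hs
  exact ⟨Q hs.1, toQ hs.1, isFibSet_q hs.1,
    isEquivOver_of_isEquivalence (toQ hs.1) (liftsIsos_of_isFibGrpd hs.1)⟩

end Groth.Agent.H3.FibCatSetoid
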