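import Mathlib
import Groth.Prelude.Def_FibClv
set_option backward.isDefEq.respectTransparency false
set_option backward.isDefEq.respectTransparency.types false
universe v₁ v₂ v₃ u₁ u₂ u₃
open CategoryTheory CategoryTheory.Functor FibCat

namespace Groth.Agent.H3.FibClv
variable {𝒮 : Type u₁} {𝒳 : Type u₂} [Category.{v₁} 𝒮] [Category.{v₂} 𝒳] {p : 𝒳 ⥤ 𝒮}
  (K : Cleavage p)

theorem congr_hom_app_lift {R S : 𝒮} {f f' : R ⟶ S} (h : f = f') (a : p.Fiber S) :
    Fiber.fiberInclusion.map ((K.inverseImageCongr h).hom.app a) ≫ K.lift a.2 f' = K.lift a.2 f := by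
  subst h
  simp [Cleavage.inverseImageCongr]

theorem comp_app_lift {R S T : 𝒮} (f : T ⟶ S) (g : R ⟶ T) (a : p.Fiber S) :
    Fiber.fiberInclusion.map ((K.comp f g).app a) ≫ K.lift a.2 (g ≫ f) =
      K.lift (K.obj_proj a.2 f) g ≫ K.lift a.2 f := by
  rw [Cleavage.comp_app, IsCartesian.fac]

theorem map_lift {R S : 𝒮} (f : R ⟶ S) {a b : p.Fiber S} (φ : a ⟶ b) :
    Fiber.fiberInclusion.map ((K.inverseImage f).map φ) ≫ K.lift b.2 f =
      K.lift a.2 f ≫ Fiber.fiberInclusion.map φ := by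
  rw [Cleavage.inverseImage_map, IsCartesian.fac]

theorem X6016 (S T U V : 𝒮) (f : T ⟶ S) (g : U ⟶ T) (h : V ⟶ U) :
    Functor.whiskerLeft (K.inverseImage f) (K.comp g h) ≫ K.comp f (h ≫ g) ≫ (K.inverseImageCongr (Category.assoc h g f)).hom =
      Functor.whiskerRight (K.comp f g) (K.inverseImage h) ≫ K.comp (g ≫ f) h := by
  ext a
  apply IsCartesian.ext p (h ≫ g ≫ f) (K.lift a.2 (h ≫ g ≫ f))
  simp only [NatTrans.comp_app, Functor.whiskerLeft_app, Functor.whiskerRight_app, Functor.map_comp,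
    Category.assoc]
  rw [congr_hom_app_lift, comp_app_lift, comp_app_lift]
  have h1 := comp_app_lift K g h ((K.inverseImage f).obj a)
  have h2 := map_lift K h ((K.comp f g).app a)
  rw [← Category.assoc, h1, ← Category.assoc, h2, Category.assoc, Category.assoc, comp_app_lift]


theorem X6018 (C : Type u₃) [Category.{v₃} C] (F G : 𝒳 ⥤ C)
    (u : ∀ S : 𝒮, (Functor.Fiber.fiberInclusion ⋙ F : p.Fiber S ⥤ C) ⟶ Functor.Fiber.fiberInclusion ⋙ G)
    (hu : ∀ ⦃T S : 𝒮⦄ (f : T ⟶ S) (a : p.Fiber S),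
      F.map ((K.transport f).app a) ≫ (u S).app a = (u T).app ((K.inverseImage f).obj a) ≫ G.map ((K.transport f).app a)) :
    ∃! v : F ⟶ G, ∀ (S : 𝒮) (a : p.Fiber S), v.app a.1 = (u S).app a := by
  have key : ∀ (S : 𝒮) (a : p.Fiber S), (u (p.obj a.1)).app ⟨a.1, rfl⟩ = (u S).app a := by
    rintro S ⟨x, hx⟩
    subst hx
    rfl
  refine ⟨{ app := fun x => (u (p.obj x)).app ⟨x, rfl⟩, naturality := ?_ }, ?_, ?_⟩
  · intro x y φ
    -- factor φ through the chosen lift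
    let b : p.Fiber (p.obj y) := ⟨y, rfl⟩
    let ψ : x ⟶ K.obj b.2 (p.map φ) := IsCartesian.map p (p.map φ) (K.lift b.2 (p.map φ)) φ
    have hψ : ψ ≫ K.lift b.2 (p.map φ) = φ := IsCartesian.fac p (p.map φ) (K.lift b.2 (p.map φ)) φ
    let x' : p.Fiber (p.obj x) := ⟨x, rfl⟩
    let ψ' : x' ⟶ (K.inverseImage (p.map φ)).obj b :=
      Fiber.homMk p (p.obj x) ψ
    have hnat := (u (p.obj x)).naturality ψ'
    have hu' := hu (p.map φ) b
    simp only [Functor.comp_obj, Functor.comp_map, Cleavage.transport_app] at hnat hu'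
    have e1 : Fiber.fiberInclusion.map ψ' = ψ := rfl
    rw [e1] at hnat
    calc F.map φ ≫ (u (p.obj y)).app ⟨y, rfl⟩
        = F.map ψ ≫ F.map (K.lift b.2 (p.map φ)) ≫ (u (p.obj y)).app b := by
          rw [← Category.assoc, ← F.map_comp, hψ]
      _ = F.map ψ ≫ (u (p.obj x)).app ((K.inverseImage (p.map φ)).obj b) ≫ G.map (K.lift b.2 (p.map φ)) := by
          rw [hu']
      _ = (u (p.obj x)).app ⟨x, rfl⟩ ≫ G.map ψ ≫ G.map (K.lift b.2 (p.map φ)) := by
          rw [← Category.assoc, hnat, Category.assoc]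
      _ = (u (p.obj x)).app ⟨x, rfl⟩ ≫ G.map φ := by
          rw [← G.map_comp, hψ]
  · intro S a
    exact key S a
  · intro v hv
    ext x
    exact hv (p.obj x) ⟨x, rfl⟩


/-- A morphism of a fibre whose underlying morphism of `𝒳` has a two-sided inverse lying over the
identity is an isomorphism. -/
theorem isIso_fiber_of_inverse {S : 𝒮} {a b : p.Fiber S} (φ : a ⟶ b) (ψ : b.1 ⟶ a.1)
    [p.IsHomLift (𝟙 S) ψ] (h1 : Fiber.fiberInclusion.map φ ≫ ψ = 𝟙 a.1)
    (h2 : ψ ≫ Fiber.fiberInclusion.map φ = 𝟙 b.1) : IsIso φ := by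
  refine ⟨Fiber.homMk p S ψ, ?_, ?_⟩
  · apply Fiber.hom_ext
    rw [Functor.map_comp, Fiber.fiberInclusion_homMk]
    exact h1
  · apply Fiber.hom_ext
    rw [Functor.map_comp, Fiber.fiberInclusion_homMk]
    exact h2

theorem isIso_comp_app_of_isFibered [p.IsFibered] {R S T : 𝒮} (f : T ⟶ S) (g : R ⟶ T)
    (a : p.Fiber S) : IsIso ((K.comp f g).app a) := by
  let φ1 := K.lift (K.obj_proj a.2 f) g ≫ K.lift a.2 f
  let φ2 := K.lift a.2 (g ≫ f)
  have := IsHomLift.id ((K.inverseImage f ⋙ K.inverseImage g).obj a).2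
  have := IsHomLift.id ((K.inverseImage (g ≫ f)).obj a).2
  refine isIso_fiber_of_inverse _ (IsCartesian.map p (g ≫ f) φ1 φ2) ?_ ?_
  · apply IsCartesian.ext p (g ≫ f) φ1
    rw [Category.assoc, IsCartesian.fac]
    exact (comp_app_lift K f g a).trans (Category.id_comp _).symm
  · apply IsCartesian.ext p (g ≫ f) φ2
    rw [Category.assoc]
    refine Eq.trans ?_ (Category.id_comp _).symm
    refine (congrArg (fun t => IsCartesian.map p (g ≫ f) φ1 φ2 ≫ t) (comp_app_lift K f g a)).trans ?_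
    exact IsCartesian.fac p (g ≫ f) φ1 φ2

theorem isFibered_of_isIso_comp (h : ∀ (R S T : 𝒮) (f : T ⟶ S) (g : R ⟶ T), IsIso (K.comp f g)) :
    p.IsFibered := by
  have := K.isPreFibered
  refine ⟨?_⟩
  intro R S T f g a b c φ ψ _ _
  have hc : p.obj c = T := IsHomLift.codomain_eq p g ψ
  let i2 : b ≅ K.obj hc g := IsCartesian.domainUniqueUpToIso p g (K.lift hc g) ψ
  have hi2 : i2.hom ≫ K.lift hc g = ψ := IsCartesian.fac p g (K.lift hc g) ψ
  have hb' : p.obj (K.obj hc g) = S := K.obj_proj hc g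
  have : p.IsHomLift (𝟙 S) i2.hom := by
    change p.IsHomLift (𝟙 S) (IsCartesian.map p g (K.lift hc g) ψ)
    infer_instance
  have : p.IsCartesian f (φ ≫ i2.hom) := inferInstance
  let i1 : a ≅ K.obj hb' f := IsCartesian.domainUniqueUpToIso p f (K.lift hb' f) (φ ≫ i2.hom)
  have hi1 : i1.hom ≫ K.lift hb' f = φ ≫ i2.hom :=
    IsCartesian.fac p f (K.lift hb' f) (φ ≫ i2.hom)
  have : p.IsHomLift (𝟙 R) i1.hom := by
    change p.IsHomLift (𝟙 R) (IsCartesian.map p f (K.lift hb' f) (φ ≫ i2.hom))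
    infer_instance
  let c' : p.Fiber T := ⟨c, hc⟩
  have := h R T S g f
  let i3 : K.obj hb' f ≅ K.obj hc (f ≫ g) :=
    Fiber.fiberInclusion.mapIso (asIso ((K.comp g f).app c'))
  have hi3 : i3.hom ≫ K.lift hc (f ≫ g) = K.lift hb' f ≫ K.lift hc g := comp_app_lift K g f c'
  have : p.IsHomLift (𝟙 R) i3.hom := by
    change p.IsHomLift (𝟙 R) (Fiber.fiberInclusion.map ((K.comp g f).app c'))
    infer_instance
  have heq : φ ≫ ψ = (i1 ≪≫ i3).hom ≫ K.lift hc (f ≫ g) := by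
    rw [Iso.trans_hom, Category.assoc, hi3, ← Category.assoc, hi1, Category.assoc, hi2]
  rw [heq]
  have : p.IsHomLift (𝟙 R) (i1 ≪≫ i3).hom := by
    rw [Iso.trans_hom]
    infer_instance
  infer_instance

theorem X6012 : p.IsFibered ↔ ∀ (R S T : 𝒮) (f : T ⟶ S) (g : R ⟶ T), IsIso (K.comp f g) := by
  constructor
  · intro hp R S T f g
    have : ∀ a, IsIso ((K.comp f g).app a) := fun a => isIso_comp_app_of_isFibered K f g a
    exact NatIso.isIso_of_isIso_app _
  · exact isFibered_of_isIso_comp K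


theorem isIso_homMk_lift_id {S : 𝒮} (a : p.Fiber S) :
    IsIso (Fiber.homMk p S (K.lift a.2 (𝟙 S)) : (K.inverseImage (𝟙 S)).obj a ⟶ a) := by
  have := IsHomLift.id a.2
  have := IsHomLift.id ((K.inverseImage (𝟙 S)).obj a).2
  refine isIso_fiber_of_inverse (a := (K.inverseImage (𝟙 S)).obj a) (b := a) _
    (IsCartesian.map p (𝟙 S) (K.lift a.2 (𝟙 S)) (𝟙 a.1)) ?_ ?_
  · apply IsCartesian.ext p (𝟙 S) (K.lift a.2 (𝟙 S))
    rw [Category.assoc, IsCartesian.fac]
    exact (Category.comp_id _).trans (Category.id_comp _).symm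
  · exact IsCartesian.fac p (𝟙 S) (K.lift a.2 (𝟙 S)) (𝟙 a.1)

/-- `(𝟙 S)^* ≅ 𝟭`. -/
noncomputable def idIso (S : 𝒮) : K.inverseImage (𝟙 S) ≅ 𝟭 (p.Fiber S) :=
  NatIso.ofComponents
    (fun a => @asIso _ _ _ _ (Fiber.homMk p S (K.lift a.2 (𝟙 S)) : (K.inverseImage (𝟙 S)).obj a ⟶ a)
      (isIso_homMk_lift_id K a))
    (by
      intro a b φ
      apply Fiber.hom_ext
      simp only [Functor.map_comp, asIso_hom, Fiber.fiberInclusion_homMk, Functor.id_map]
      exact map_lift K (𝟙 S) φ)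

theorem X6013 [p.IsFibered] (S T : 𝒮) (f : T ⟶ S) [IsIso f] : (K.inverseImage f).IsEquivalence := by
  have h1 : IsIso (K.comp f (inv f)) := (X6012 K).mp inferInstance _ _ _ _ _
  have h2 : IsIso (K.comp (inv f) f) := (X6012 K).mp inferInstance _ _ _ _ _
  let η : 𝟭 (p.Fiber S) ≅ K.inverseImage f ⋙ K.inverseImage (inv f) :=
    ((asIso (K.comp f (inv f))) ≪≫ K.inverseImageCongr (IsIso.inv_hom_id f) ≪≫ idIso K S).symm
  let ε : K.inverseImage (inv f) ⋙ K.inverseImage f ≅ 𝟭 (p.Fiber T) :=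
    (asIso (K.comp (inv f) f)) ≪≫ K.inverseImageCongr (IsIso.hom_inv_id f) ≪≫ idIso K T
  exact (CategoryTheory.Equivalence.mk (K.inverseImage f) (K.inverseImage (inv f)) η ε).isEquivalence_functor

theorem X6014 (S T : 𝒮) (f : T ⟶ S) (a : p.Fiber S) :
    Functor.Fiber.fiberInclusion.map ((K.comp f (𝟙 T)).app a ≫ (K.inverseImageCongr (Category.id_comp f)).hom.app a) =
      (K.transport (𝟙 T)).app ((K.inverseImage f).obj a) := by
  apply IsCartesian.ext p f (K.lift a.2 f)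
  rw [Functor.map_comp, Category.assoc, congr_hom_app_lift, comp_app_lift]
  rfl

theorem X6015 (S T : 𝒮) (f : T ⟶ S) (a : p.Fiber S) :
    (K.comp (𝟙 S) f).app a ≫ (K.inverseImageCongr (Category.comp_id f)).hom.app a =
      (K.inverseImage f).map (Functor.Fiber.homMk p S (K.lift a.2 (𝟙 S))) := by
  apply Fiber.hom_ext
  apply IsCartesian.ext p f (K.lift a.2 f)
  rw [Functor.map_comp, Category.assoc, congr_hom_app_lift, comp_app_lift, map_lift]
  rfl


section Normalised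
variable (p)


theorem isCartesian_id_of_eqToHom {R S : 𝒮} {a : 𝒳} (ha : p.obj a = S) (f : R ⟶ S)
    (h : ∃ e : R = S, f = eqToHom e) : p.IsCartesian f (𝟙 a) := by
  obtain ⟨e, rfl⟩ := h
  subst e
  subst ha
  have : p.IsHomLift (eqToHom (rfl : p.obj a = p.obj a)) (𝟙 a) := by
    simp only [eqToHom_refl]; infer_instance
  infer_instance

open Classical in
noncomputable def normChoice [p.IsPreFibered] {R S : 𝒮} {a : 𝒳} (ha : p.obj a = S) (f : R ⟶ S) :
    Σ' (b : 𝒳) (φ : b ⟶ a), p.IsCartesian f φ :=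
  if h : ∃ e : R = S, f = eqToHom e then ⟨a, 𝟙 a, isCartesian_id_of_eqToHom p ha f h⟩
  else ⟨IsPreFibered.pullbackObj ha f, IsPreFibered.pullbackMap ha f, inferInstance⟩

noncomputable def normCleavage [p.IsPreFibered] : Cleavage p where
  obj ha f := (normChoice p ha f).1
  lift ha f := (normChoice p ha f).2.1
  isCartesian ha f := (normChoice p ha f).2.2

theorem aux {a : 𝒳} {R S : 𝒮} (f : R ⟶ S) (c : Σ' (b : 𝒳) (φ : b ⟶ a), p.IsCartesian f φ)
    (h0 : p.IsCartesian f (𝟙 a)) (hc : c = ⟨a, 𝟙 a, h0⟩) : ∃ h : c.1 = a, c.2.1 = eqToHom h := by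
  subst hc
  exact ⟨rfl, rfl⟩

theorem normCleavage_isNormalised [p.IsPreFibered] : (normCleavage p).IsNormalised := by
  intro S a ha
  have hex : ∃ e : S = S, (𝟙 S : S ⟶ S) = eqToHom e := ⟨rfl, by simp⟩
  exact aux p (𝟙 S) (normChoice p ha (𝟙 S)) (isCartesian_id_of_eqToHom p ha _ hex) (dif_pos hex)


end Normalised

end Groth.Agent.H3.FibClv
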