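import Groth.Agent.Lib.Helper1.DimIneqF
import Groth.Agent.Lib.Helper1.DimLocD
import Groth.Agent.Lib.Helper3.FBaseDim4
import Groth.Agent.Lib.Helper3.AG.FibreDim

/-!
# Dimension of fibres of dominant morphisms of irreducible schemes (S4702, S4690, S4692)
-/

set_option autoImplicit false

universe u

open CategoryTheory Limits AlgebraicGeometry TopologicalSpace Opposite

namespace Groth.Agent.H3.FibDimIrr

open Groth.Agent.H1.FibDimTot Groth.Agent.H3.FBaseDim Groth.Agent.H1.DimIneq
  Groth.Agent.H1.DimFormula Groth.Agent.H1.Chev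

variable {X Y : Scheme.{u}}

/-- the transcendence degree of the function field extension, as a natural number, equals the
dimension of the generic fibre -/
theorem exists_trdeg_generic [IrreducibleSpace X] [IrreducibleSpace Y] (f : X ⟶ Y)
    [LocallyOfFiniteType f] [IsDominant f] :
    ∃ tξ : ℕ, @Algebra.trdeg (Y.residueField (f (genericPoint X)))
        (X.residueField (genericPoint X)) _ _
        (f.residueFieldMap (genericPoint X)).hom.toAlgebra = tξ ∧
      topologicalKrullDim ↥(f.fiber (genericPoint Y)) = tξ := by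
  obtain ⟨tξ, htξ, hdimξ⟩ := fibreDimAt_eq_trdeg_of_generic f
    (genericPoint X) (fun x' _ hx' => (hx'.antisymm (genericPoint_specializes x')).eq)
  refine ⟨tξ, htξ, ?_⟩
  have hgen := map_genericPoint f
  haveI := irreducibleSpace_fiber f _ hgen
  have hξ : FlatMor.fibreDimAt f (genericPoint X) =
      topologicalKrullDim (f.fiber (genericPoint Y)) := by
    rw [← localDim_fiber_eq_fibreDimAt f (genericPoint X) (genericPoint Y) hgen
      ((f.fiberHomeo _).symm ⟨genericPoint X, hgen⟩) (f.fiberι_fiberHomeo_symm _ ⟨_, hgen⟩)]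
    exact @Groth.Agent.H1.EquiDim.localDim_eq_dim (Y.residueField (genericPoint Y)) _ _ _
      (f.fiberToSpecResidueField (genericPoint Y))
      (locallyOfFiniteType_fiberToSpecResidueField f _) _
  rw [← hξ, hdimξ]

/-- the dimension inequality on an irreducible scheme, in numerical form -/
theorem stalk_dim_add_le [IrreducibleSpace X] [IsLocallyNoetherian Y] (f : X ⟶ Y)
    [LocallyOfFiniteType f] (x : X) (t tξ : ℕ)
    (ht : @Algebra.trdeg (Y.residueField (f x)) (X.residueField x) _ _
        (f.residueFieldMap x).hom.toAlgebra = t)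
    (htξ : @Algebra.trdeg (Y.residueField (f (genericPoint X)))
        (X.residueField (genericPoint X)) _ _
        (f.residueFieldMap (genericPoint X)).hom.toAlgebra = tξ) :
    ringKrullDim (X.presheaf.stalk x) + (t : WithBot ℕ∞) ≤
      ringKrullDim (Y.presheaf.stalk (f x)) + (tξ : WithBot ℕ∞) := by
  have key := stalk_dim_add_resTrdeg_le f x (Dual3.resTrdeg f (genericPoint X)) (by
    intro ξ' _ hz
    rw [← eq_of_specializes_of_stalk_dim_eq_zero ξ' (genericPoint X) hz
      (genericPoint_specializes ξ')])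
  rw [toENat_resTrdeg_of_eq_natCast f x t ht,
    toENat_resTrdeg_of_eq_natCast f (genericPoint X) tξ htξ] at key
  exact key

theorem one_le_of_ne_zero {a : WithBot ℕ∞} (h0 : 0 ≤ a) (h : a ≠ 0) : 1 ≤ a := by
  induction a with
  | bot => simp at h0
  | coe a =>
    have h' : a ≠ 0 := by
      intro h'; apply h; rw [h']; rfl
    have : (1 : ℕ∞) ≤ a := Order.one_le_iff_pos.mpr (pos_iff_ne_zero.mpr h')
    exact_mod_cast this

/-- S4702 -/
theorem irreducibleComponents_fibre_dim_eq_over_dim_one (f : X ⟶ Y) [IsLocallyNoetherian Y]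
    [IrreducibleSpace Y] [IrreducibleSpace X] (hY : topologicalKrullDim Y = 1)
    [LocallyOfFiniteType f] (hf : DenseRange f.base) (y : Y)
    (Z : Set ↥(f.fiber y)) (hZ : Z ∈ irreducibleComponents ↥(f.fiber y)) :
    topologicalKrullDim Z = topologicalKrullDim ↥(f.fiber (genericPoint Y)) := by
  haveI : IsDominant f := ⟨hf⟩
  obtain ⟨tξ, htξ, hdimξ⟩ := exists_trdeg_generic f
  obtain ⟨zT, hzT, rfl⟩ := exists_isMaxPt_closure_eq hZ
  set z : X := f.fiberι y zT with hz
  have hfz : f z = y := by
    have : z ∈ Set.range (f.fiberι y) := ⟨zT, rfl⟩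
    rwa [Scheme.Hom.range_fiberι] at this
  have hzmax : ∀ x' : X, f x' = f z → x' ⤳ z → x' = z := by
    intro x' hx' hsp
    rw [hfz] at hx'
    obtain ⟨xT, hxT⟩ : x' ∈ Set.range (f.fiberι y) := by
      rw [Scheme.Hom.range_fiberι]; exact hx'
    have h1 : xT ⤳ zT := by
      apply (f.fiberι y).isEmbedding.isInducing.specializes_iff.1
      rw [hxT]; exact hsp
    rw [← hxT, hzT xT h1]
  obtain ⟨t, ht, hdim⟩ := fibreDimAt_eq_trdeg_of_generic f z hzmax
  haveI : LocallyOfFiniteType (f.fiberToSpecResidueField y) :=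
    locallyOfFiniteType_fiberToSpecResidueField f y
  have h1 : topologicalKrullDim ↥(closure ({zT} : Set ↥(f.fiber y))) = FlatMor.fibreDimAt f z := by
    rw [← @localDim_eq_dim_closure_of_isMaxPt (Y.residueField y) _ _
      (f.fiberToSpecResidueField y) (locallyOfFiniteType_fiberToSpecResidueField f y) zT hzT]
    exact localDim_fiber_eq_fibreDimAt f z y hfz zT rfl
  rw [h1, hdimξ, hdim]
  have hge : (tξ : WithBot ℕ∞) ≤ (t : WithBot ℕ∞) := by
    have := dim_generic_fiber_le_fibreDimAt f z
    rwa [hdimξ, hdim] at this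
  apply le_antisymm _ hge
  by_cases hyη : z = genericPoint X
  · have : (t : Cardinal.{u}) = tξ := by
      rw [← ht, ← htξ, hyη]
    have : t = tξ := by exact_mod_cast this
    rw [this]
  · have key := stalk_dim_add_le f z t tξ ht htξ
    have h2 : (1 : WithBot ℕ∞) ≤ ringKrullDim (X.presheaf.stalk z) := by
      apply one_le_of_ne_zero ringKrullDim_nonneg_of_nontrivial
      intro h0
      exact hyη (eq_of_specializes_of_stalk_dim_eq_zero z (genericPoint X) h0
        (genericPoint_specializes z)).symm
    have h3 : ringKrullDim (Y.presheaf.stalk (f z)) ≤ 1 := by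
      rw [← hY]
      exact Groth.Agent.H3.FibreDim.stalk_dim_le Y (f z)
    have h4 : (1 : WithBot ℕ∞) + (t : WithBot ℕ∞) ≤ 1 + (tξ : WithBot ℕ∞) :=
      (add_le_add_left h2 _).trans (key.trans (add_le_add_left h3 _))
    exact withBot_enat_add_le_add_left_cancel (by simp) (by decide) h4

end Groth.Agent.H3.FibDimIrr
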