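import Mathlib
import Groth.Agent.Lib.Helper1.FibDimTot
import Groth.Agent.Lib.Helper1.Chev4
import Groth.Agent.Lib.Helper8.ConstructibleNoeth
import Groth.Agent.Lib.Helper3.TopDim

/-! Morphisms of schemes of finite type over a field whose closed fibres are irreducible of
constant dimension: structure of the irreducible components of the source (helper3). -/

set_option autoImplicit false
universe u
open CategoryTheory CategoryTheory.Limits AlgebraicGeometry TopologicalSpace Topology

namespace Groth.Agent.H3.FibIrr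

section Top

variable {X : Type*} [TopologicalSpace X]

theorem natCast_ne_top (d : ℕ) : (d : WithBot ℕ∞) ≠ ⊤ := by
  intro h
  have : ((d : ℕ∞) : WithBot ℕ∞) = ((⊤ : ℕ∞) : WithBot ℕ∞) := h
  rw [WithBot.coe_inj] at this
  exact ENat.natCast_ne_top d this

/-- a closed subset meeting an irreducible subset `F` of finite dimension `d` in a set of
dimension at least `d` contains `F`. -/
theorem subset_of_dim_le {F Z : Set X} (hF : IsIrreducible F) (hZ : IsClosed Z) (d : ℕ)
    (hd : topologicalKrullDim ↥F = d) (h : (d : WithBot ℕ∞) ≤ topologicalKrullDim ↥(Z ∩ F)) :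
    F ⊆ Z := by
  have : IrreducibleSpace ↥F := Subtype.irreducibleSpace hF
  by_contra hcon
  have hne : (Subtype.val ⁻¹' Z : Set ↥F) ≠ Set.univ := by
    intro heq
    apply hcon
    intro x hx
    have : (⟨x, hx⟩ : ↥F) ∈ (Subtype.val ⁻¹' Z : Set ↥F) := by rw [heq]; trivial
    exact this
  have hfin : topologicalKrullDim ↥F ≠ ⊤ := by
    rw [hd]
    exact natCast_ne_top d
  have h1 := Groth.Agent.H3.TopDim.dim_lt_of_isClosed_ne_univ (X := ↥F) hfin _
    (hZ.preimage continuous_subtype_val) hne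
  have h2 : topologicalKrullDim ↥(Z ∩ F) ≤
      topologicalKrullDim ↥(Subtype.val ⁻¹' Z : Set ↥F) := by
    let φ : ↥(Z ∩ F) → ↥(Subtype.val ⁻¹' Z : Set ↥F) := fun x => ⟨⟨x.1, x.2.2⟩, x.2.1⟩
    have hφ : IsInducing φ := by
      rw [← IsInducing.subtypeVal.of_comp_iff, ← IsInducing.subtypeVal.of_comp_iff]
      exact IsInducing.subtypeVal
    exact hφ.topologicalKrullDim_le
  rw [hd] at h1
  exact absurd (h.trans h2) (not_le.mpr h1)

end Top

section Sch

variable {k : Type u} [Field k]

/-- on an irreducible source the local fibre dimension is smallest at the generic point. -/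
theorem fibreDimAt_genericPoint_le {T Y : Scheme.{u}} [IrreducibleSpace T] (g : T ⟶ Y)
    [LocallyOfFiniteType g] (x : T) :
    FlatMor.fibreDimAt g (genericPoint T) ≤ FlatMor.fibreDimAt g x := by
  generalize hn : FlatMor.fibreDimAt g x = n
  induction n with
  | bot =>
    exfalso
    have h2 := Groth.Agent.H1.Chev.zero_le_fibreDimAt g x
    rw [hn] at h2
    exact absurd h2 (by simp)
  | coe a =>
    induction a with
    | top => exact le_top
    | coe m =>
      have hopen := Groth.Agent.H1.Chev.isOpen_fibreDimAt_le g m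
      have hx : x ∈ {x : T | FlatMor.fibreDimAt g x ≤ m} := hn.le
      exact (genericPoint_specializes x).mem_open hopen hx

theorem fibreDimAt_genericPoint_eq_dim {T Y : Scheme.{u}} [IrreducibleSpace T] (g : T ⟶ Y)
    [LocallyOfFiniteType g] :
    FlatMor.fibreDimAt g (genericPoint T) =
      topologicalKrullDim (g.fiber (g (genericPoint T))) := by
  have := Groth.Agent.H1.Chev.irreducibleSpace_fiber g _ rfl
  exact Groth.Agent.H1.Chev.fibreDimAt_eq_dim_of_irreducibleSpace g (genericPoint T)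

/-- dimension of an irreducible total space: dimension of the closure of the image plus the
dimension of the generic fibre. -/
theorem dim_eq_add_genericFiber {T Y : Scheme.{u}} (q : Y ⟶ Spec (CommRingCat.of k))
    [LocallyOfFiniteType q] [IrreducibleSpace T] (g : T ⟶ Y) [LocallyOfFiniteType g] :
    topologicalKrullDim T =
      topologicalKrullDim ↥(closure ({g (genericPoint T)} : Set Y)) +
        topologicalKrullDim (g.fiber (g (genericPoint T))) := by
  have h := Groth.Agent.H1.FibDimTot.dim_closure_eq_add q g (genericPoint T)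
  have h1 : closure ({genericPoint T} : Set T) = Set.univ := (genericPoint_spec T).def
  have h2 : closure ({g.asFiber (genericPoint T)} : Set ↥(g.fiber (g (genericPoint T)))) =
      Set.univ := by
    rw [Set.eq_univ_iff_forall]
    intro z
    rw [← specializes_iff_mem_closure,
      ← (g.fiberι (g (genericPoint T))).isEmbedding.isInducing.specializes_iff, g.fiberι_asFiber]
    exact genericPoint_specializes _
  rw [h1, h2] at h
  rw [(Homeomorph.Set.univ T).isHomeomorph.topologicalKrullDim_eq,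
    (Homeomorph.Set.univ (g.fiber (g (genericPoint T)))).isHomeomorph.topologicalKrullDim_eq] at h
  exact h

variable {T X Y : Scheme.{u}}

theorem fiberRange (ι : T ⟶ X) (f : X ⟶ Y) (y : Y) :
    Set.range (fun z : (ι ≫ f).fiber y => ι ((ι ≫ f).fiberι y z)) =
      Set.range ι ∩ f ⁻¹' {y} := by
  ext x
  constructor
  · rintro ⟨z, rfl⟩
    refine ⟨⟨_, rfl⟩, ?_⟩
    have h1 : (ι ≫ f).fiberι y z ∈ Set.range ((ι ≫ f).fiberι y) := ⟨z, rfl⟩
    rw [Scheme.Hom.range_fiberι] at h1
    exact h1
  · rintro ⟨⟨t, rfl⟩, hx⟩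
    have h1 : t ∈ Set.range ((ι ≫ f).fiberι y) := by
      rw [Scheme.Hom.range_fiberι]
      exact hx
    obtain ⟨z, rfl⟩ := h1
    exact ⟨z, rfl⟩

theorem exists_homeo_fiber (ι : T ⟶ X) [IsClosedImmersion ι] (f : X ⟶ Y) (y : Y) :
    Nonempty ((ι ≫ f).fiber y ≃ₜ ↥(Set.range ι ∩ f ⁻¹' {y})) := by
  have hemb : IsEmbedding (fun z : (ι ≫ f).fiber y => ι ((ι ≫ f).fiberι y z)) :=
    ι.isEmbedding.comp ((ι ≫ f).fiberι y).isEmbedding
  exact ⟨hemb.toHomeomorph.trans (Homeomorph.setCongr (fiberRange ι f y))⟩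

end Sch

section Main

variable {k : Type u} [Field k] {X Y : Scheme.{u}} [IsNoetherian X] [JacobsonSpace X]
  [JacobsonSpace Y] (qY : Y ⟶ Spec (CommRingCat.of k)) [LocallyOfFiniteType qY]
  (f : X ⟶ Y) [LocallyOfFiniteType f] (d : ℕ)
  (hirr : ∀ y : ↥Y, IsClosed ({y} : Set ↥Y) → IsIrreducible (f.base ⁻¹' {y}))
  (hdim : ∀ y : ↥Y, IsClosed ({y} : Set ↥Y) → topologicalKrullDim ↥(f.base ⁻¹' {y}) = d)

omit [JacobsonSpace X] in
theorem range_irreducibleComponentι {Z : Set X} (hZ : Z ∈ irreducibleComponents X) :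
    Set.range (X.irreducibleComponentι Z hZ) = Z :=
  (X.irreducibleComponentIdeal Z hZ).range_subschemeι

include hirr hdim in
/-- the generic fibre of an irreducible component over (the closure of) its image has
dimension `d`. -/
theorem fibreDimAt_genericPoint_component {Z : Set X} (hZ : Z ∈ irreducibleComponents X) :
    FlatMor.fibreDimAt (X.irreducibleComponentι Z hZ ≫ f)
      (genericPoint (X.irreducibleComponent Z hZ)) = d := by
  have hrange := range_irreducibleComponentι hZ
  have hJ : JacobsonSpace (X.irreducibleComponent Z hZ) :=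
    LocallyOfFiniteType.jacobsonSpace (X.irreducibleComponentι Z hZ)
  have hcl : ∀ x : X.irreducibleComponent Z hZ, IsClosed ({x} : Set _) →
      IsClosed ({(X.irreducibleComponentι Z hZ ≫ f) x} : Set Y) := fun x hx =>
    (X.irreducibleComponentι Z hZ ≫ f).closePoints_subset_preimage_closedPoints hx
  have hle : ∀ x : X.irreducibleComponent Z hZ, IsClosed ({x} : Set _) →
      FlatMor.fibreDimAt (X.irreducibleComponentι Z hZ ≫ f) x ≤ d := by
    intro x hx
    obtain ⟨e⟩ := exists_homeo_fiber (X.irreducibleComponentι Z hZ) f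
      ((X.irreducibleComponentι Z hZ ≫ f) x)
    calc FlatMor.fibreDimAt (X.irreducibleComponentι Z hZ ≫ f) x
        ≤ topologicalKrullDim ((X.irreducibleComponentι Z hZ ≫ f).fiber
            ((X.irreducibleComponentι Z hZ ≫ f) x)) := Groth.Agent.H3.TopDim.localDim_le_dim _
      _ = topologicalKrullDim ↥(Set.range (X.irreducibleComponentι Z hZ) ∩
            f ⁻¹' {(X.irreducibleComponentι Z hZ ≫ f) x}) :=
          IsHomeomorph.topologicalKrullDim_eq _ e.isHomeomorph
      _ ≤ topologicalKrullDim ↥(f ⁻¹' {(X.irreducibleComponentι Z hZ ≫ f) x}) :=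
          Groth.Agent.H3.TopDim.dim_mono Set.inter_subset_right
      _ = d := hdim _ (hcl x hx)
  obtain ⟨x₀, -, hx₀⟩ := nonempty_inter_closedPoints (X := X.irreducibleComponent Z hZ)
    Set.univ_nonempty isOpen_univ.isLocallyClosed
  apply le_antisymm ((fibreDimAt_genericPoint_le _ x₀).trans (hle x₀ hx₀))
  generalize hn : FlatMor.fibreDimAt (X.irreducibleComponentι Z hZ ≫ f)
      (genericPoint (X.irreducibleComponent Z hZ)) = n
  induction n with
  | bot =>
    exfalso
    have h2 := Groth.Agent.H1.Chev.zero_le_fibreDimAt (X.irreducibleComponentι Z hZ ≫ f)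
      (genericPoint (X.irreducibleComponent Z hZ))
    rw [hn] at h2
    exact absurd h2 (by simp)
  | coe a =>
    induction a with
    | top => exact le_top
    | coe m =>
      have hO := Groth.Agent.H1.Chev.isOpen_fibreDimAt_le (X.irreducibleComponentι Z hZ ≫ f) m
      have hξO : genericPoint (X.irreducibleComponent Z hZ) ∈
          {x : X.irreducibleComponent Z hZ |
            FlatMor.fibreDimAt (X.irreducibleComponentι Z hZ ≫ f) x ≤ m} := hn.le
      have hU'o : IsOpen ((X.irreducibleComponentι Z hZ) ⁻¹'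
          ((X.irreducibleComponentOpen Z : X.Opens) : Set X)) :=
        (X.irreducibleComponentOpen Z).isOpen.preimage (X.irreducibleComponentι Z hZ).continuous
      have hU'ne : ((X.irreducibleComponentι Z hZ) ⁻¹'
          ((X.irreducibleComponentOpen Z : X.Opens) : Set X)).Nonempty := by
        have hc := closure_sUnion_irreducibleComponents_sdiff_singleton
          TopologicalSpace.NoetherianSpace.finite_irreducibleComponents Z hZ
        have hne : ((⋃₀ (irreducibleComponents X \ {Z}))ᶜ).Nonempty := by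
          rw [Set.nonempty_iff_ne_empty]
          intro he
          rw [he, closure_empty] at hc
          exact hZ.1.nonempty.ne_empty hc.symm
        obtain ⟨p, hp⟩ := hne
        have hpZ : p ∈ Z := by rw [← hc]; exact subset_closure hp
        rw [← hrange] at hpZ
        obtain ⟨t, rfl⟩ := hpZ
        exact ⟨t, hp⟩
      obtain ⟨x, ⟨hxO, hxU⟩, hxcl⟩ := nonempty_inter_closedPoints
        (nonempty_preirreducible_inter hO hU'o ⟨_, hξO⟩ hU'ne) (hO.inter hU'o).isLocallyClosed
      have hy := hcl x hxcl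
      obtain ⟨Z', hZ', hFZ'⟩ := exists_mem_irreducibleComponents_subset_of_isIrreducible _
        (hirr _ hy)
      have hZZ' : Z' = Z := by
        by_contra hne
        exact hxU ⟨Z', ⟨hZ', hne⟩, hFZ' rfl⟩
      subst hZZ'
      obtain ⟨e⟩ := exists_homeo_fiber (X.irreducibleComponentι Z' hZ) f
        ((X.irreducibleComponentι Z' hZ ≫ f) x)
      have hset : Set.range (X.irreducibleComponentι Z' hZ) ∩
          f ⁻¹' {(X.irreducibleComponentι Z' hZ ≫ f) x} =
          f ⁻¹' {(X.irreducibleComponentι Z' hZ ≫ f) x} := by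
        rw [Set.inter_eq_right, hrange]
        exact hFZ'
      have hI1 : IrreducibleSpace ↥(f ⁻¹' {(X.irreducibleComponentι Z' hZ ≫ f) x}) :=
        Subtype.irreducibleSpace (hirr _ hy)
      have hI2 : IrreducibleSpace ((X.irreducibleComponentι Z' hZ ≫ f).fiber
          ((X.irreducibleComponentι Z' hZ ≫ f) x)) :=
        (e.trans (Homeomorph.setCongr hset)).irreducibleSpace_iff.mpr hI1
      have h3 : FlatMor.fibreDimAt (X.irreducibleComponentι Z' hZ ≫ f) x = d := by
        rw [Groth.Agent.H1.Chev.fibreDimAt_eq_dim_of_irreducibleSpace,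
          IsHomeomorph.topologicalKrullDim_eq _ (e.trans (Homeomorph.setCongr hset)).isHomeomorph]
        exact hdim _ hy
      rw [← h3]
      exact hxO

include qY hirr hdim in
/-- each irreducible component is a union of closed fibres and has dimension `d` plus the
dimension of the closure of its image. -/
theorem component_props {Z : Set X} (hZ : Z ∈ irreducibleComponents X) :
    (∀ y : ↥Y, IsClosed ({y} : Set ↥Y) → (f.base ⁻¹' {y} ∩ Z).Nonempty → f.base ⁻¹' {y} ⊆ Z) ∧
      topologicalKrullDim ↥Z = d + topologicalKrullDim ↥(closure (f.base '' Z)) := by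
  have hrange := range_irreducibleComponentι hZ
  have hkey := fibreDimAt_genericPoint_component f d hirr hdim hZ
  have hZcl : IsClosed Z := isClosed_of_mem_irreducibleComponents Z hZ
  constructor
  · rintro y hy ⟨x₀, hx₀F, hx₀Z⟩
    rw [← hrange] at hx₀Z
    obtain ⟨t, rfl⟩ := hx₀Z
    obtain rfl : (X.irreducibleComponentι Z hZ ≫ f) t = y := hx₀F
    obtain ⟨e⟩ := exists_homeo_fiber (X.irreducibleComponentι Z hZ) f
      ((X.irreducibleComponentι Z hZ ≫ f) t)
    apply subset_of_dim_le (hirr _ hy) hZcl d (hdim _ hy)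
    calc (d : WithBot ℕ∞) = FlatMor.fibreDimAt (X.irreducibleComponentι Z hZ ≫ f)
          (genericPoint (X.irreducibleComponent Z hZ)) := hkey.symm
      _ ≤ FlatMor.fibreDimAt (X.irreducibleComponentι Z hZ ≫ f) t :=
          fibreDimAt_genericPoint_le _ t
      _ ≤ topologicalKrullDim ((X.irreducibleComponentι Z hZ ≫ f).fiber
            ((X.irreducibleComponentι Z hZ ≫ f) t)) := Groth.Agent.H3.TopDim.localDim_le_dim _
      _ = topologicalKrullDim ↥(Set.range (X.irreducibleComponentι Z hZ) ∩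
            f ⁻¹' {(X.irreducibleComponentι Z hZ ≫ f) t}) :=
          IsHomeomorph.topologicalKrullDim_eq _ e.isHomeomorph
      _ = topologicalKrullDim ↥(Z ∩ f.base ⁻¹' {(X.irreducibleComponentι Z hZ ≫ f) t}) := by
          rw [hrange]
  · have h1 := dim_eq_add_genericFiber qY (X.irreducibleComponentι Z hZ ≫ f)
    rw [← fibreDimAt_genericPoint_eq_dim, hkey] at h1
    have h2 : topologicalKrullDim (X.irreducibleComponent Z hZ) = topologicalKrullDim ↥Z :=
      IsHomeomorph.topologicalKrullDim_eq _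
        ((X.irreducibleComponentι Z hZ).isEmbedding.toHomeomorph.trans
          (Homeomorph.setCongr hrange)).isHomeomorph
    have h3 : closure ({(X.irreducibleComponentι Z hZ)
        (genericPoint (X.irreducibleComponent Z hZ))} : Set X) = Z := by
      have := ((genericPoint_spec (X.irreducibleComponent Z hZ)).image
        (X.irreducibleComponentι Z hZ).continuous).def
      rw [this]
      change closure ((X.irreducibleComponentι Z hZ) '' Set.univ) = Z
      rw [Set.image_univ, hrange, hZcl.closure_eq]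
    have h4 : closure (f.base '' Z) = closure ({(X.irreducibleComponentι Z hZ ≫ f)
        (genericPoint (X.irreducibleComponent Z hZ))} : Set Y) := by
      conv_lhs => rw [← h3]
      rw [closure_image_closure f.continuous, Set.image_singleton]
      rfl
    rw [← h2, h1, h4, add_comm]

omit [JacobsonSpace X] [LocallyOfFiniteType f] in
include hirr in
/-- some irreducible component dominates `Y`. -/
theorem exists_dominant [IrreducibleSpace Y] :
    ∃ Z : Set X, Z ∈ irreducibleComponents X ∧ Dense (f.base '' Z) := by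
  by_contra hcon
  push Not at hcon
  have hfin : (irreducibleComponents X).Finite :=
    TopologicalSpace.NoetherianSpace.finite_irreducibleComponents
  have hCcl : IsClosed (⋃ Z ∈ irreducibleComponents X, closure (f.base '' Z)) :=
    hfin.isClosed_biUnion fun Z _ => isClosed_closure
  have hη : genericPoint Y ∈ (⋃ Z ∈ irreducibleComponents X, closure (f.base '' Z))ᶜ := by
    intro hmem
    simp only [Set.mem_iUnion, exists_prop] at hmem
    obtain ⟨Z, hZ, hηZ⟩ := hmem
    apply hcon Z hZ
    rw [dense_iff_closure_eq, ← Set.univ_subset_iff]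
    intro y _
    exact (isClosed_closure.closure_subset_iff.mpr (Set.singleton_subset_iff.mpr hηZ))
      ((genericPoint_specializes y).mem_closure)
  obtain ⟨y, hyV, hycl⟩ := nonempty_inter_closedPoints ⟨_, hη⟩ hCcl.isOpen_compl.isLocallyClosed
  obtain ⟨x, hx⟩ := (hirr y hycl).nonempty
  obtain ⟨Z, hZ, hxZ⟩ := exists_mem_irreducibleComponents_subset_of_isIrreducible _
    (isIrreducible_singleton (x := x))
  apply hyV
  simp only [Set.mem_iUnion, exists_prop]
  exact ⟨Z, hZ, subset_closure ⟨x, hxZ rfl, hx⟩⟩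

/-- a dominant component is contained in every other dominant component. -/
theorem subset_of_dominant [IsNoetherian Y] [IrreducibleSpace Y]
    (hii : ∀ Z ∈ irreducibleComponents X, ∀ y : ↥Y, IsClosed ({y} : Set ↥Y) →
      (f.base ⁻¹' {y} ∩ Z).Nonempty → f.base ⁻¹' {y} ⊆ Z)
    {Z₁ Z₂ : Set X} (hZ₁ : Z₁ ∈ irreducibleComponents X) (hZ₂ : Z₂ ∈ irreducibleComponents X)
    (hd₁ : Dense (f.base '' Z₁)) (hd₂ : Dense (f.base '' Z₂)) : Z₁ ⊆ Z₂ := by
  have hqc : QuasiCompact f :=
    ⟨fun U _ _ => TopologicalSpace.NoetherianSpace.isCompact _⟩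
  have hZ₁cl : IsClosed Z₁ := isClosed_of_mem_irreducibleComponents Z₁ hZ₁
  have hZ₂cl : IsClosed Z₂ := isClosed_of_mem_irreducibleComponents Z₂ hZ₂
  have hc₁ : IsConstructible (f.base '' Z₁) :=
    f.isConstructible_image (Groth.Agent.H8.CNoeth.isConstructible_of_isClosed hZ₁cl)
  have hc₂ : IsConstructible (f.base '' Z₂) :=
    f.isConstructible_image (Groth.Agent.H8.CNoeth.isConstructible_of_isClosed hZ₂cl)
  have hY : IsIrreducible (Set.univ : Set Y) := IrreducibleSpace.isIrreducible_univ Y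
  obtain ⟨V₁, hV₁o, ⟨v₁, hv₁, -⟩, hV₁⟩ := Groth.Agent.H8.CNoeth.exists_open_of_dense hY hc₁
    (by rw [Set.inter_univ, hd₁.closure_eq])
  obtain ⟨V₂, hV₂o, ⟨v₂, hv₂, -⟩, hV₂⟩ := Groth.Agent.H8.CNoeth.exists_open_of_dense hY hc₂
    (by rw [Set.inter_univ, hd₂.closure_eq])
  rw [Set.inter_univ] at hV₁ hV₂
  obtain ⟨v, hvV₁, hvV₂⟩ := nonempty_preirreducible_inter hV₁o hV₂o ⟨v₁, hv₁⟩ ⟨v₂, hv₂⟩
  have hVo : IsOpen (f.base ⁻¹' (V₁ ∩ V₂)) := (hV₁o.inter hV₂o).preimage f.continuous
  -- `f⁻¹(V) ⊆ Z₂`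
  have hsub : f.base ⁻¹' (V₁ ∩ V₂) ⊆ Z₂ := by
    by_contra hns
    rw [Set.not_subset] at hns
    obtain ⟨x', hx'V, hx'Z⟩ := hns
    obtain ⟨x, ⟨hxV, hxZ⟩, hxcl⟩ := nonempty_inter_closedPoints
      (Z := f.base ⁻¹' (V₁ ∩ V₂) ∩ Z₂ᶜ) ⟨x', hx'V, hx'Z⟩
      (hVo.inter hZ₂cl.isOpen_compl).isLocallyClosed
    have hy : IsClosed ({f.base x} : Set Y) := f.closePoints_subset_preimage_closedPoints hxcl
    obtain ⟨x₂, hx₂Z, hx₂⟩ := hV₂ hxV.2
    exact hxZ (hii Z₂ hZ₂ _ hy ⟨x₂, hx₂, hx₂Z⟩ rfl)
  obtain ⟨x₁, hx₁Z, hx₁⟩ := hV₁ hvV₁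
  have hne : (f.base ⁻¹' (V₁ ∩ V₂) ∩ Z₁).Nonempty := ⟨x₁, by rw [Set.mem_preimage, hx₁]; exact ⟨hvV₁, hvV₂⟩, hx₁Z⟩
  calc Z₁ ⊆ closure (f.base ⁻¹' (V₁ ∩ V₂) ∩ Z₁) :=
        Groth.Agent.H8.CNoeth.subset_closure_inter_of_isOpen hZ₁.1 hVo hne
    _ ⊆ closure Z₂ := closure_mono (Set.inter_subset_left.trans hsub)
    _ = Z₂ := hZ₂cl.closure_eq

end Main

/-- **Main theorem**: for a morphism of schemes of finite type over a field whose closed fibres
are irreducible of constant dimension `d`, exactly one irreducible component dominates the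
(irreducible) target, each component is a union of closed fibres and has dimension `d` plus the
dimension of the closure of its image. -/
theorem main (k : Type u) [Field k]
    {X Y : Scheme.{u}} (qX : X ⟶ Spec (CommRingCat.of k)) (qY : Y ⟶ Spec (CommRingCat.of k))
    [LocallyOfFiniteType qX] [QuasiCompact qX] [LocallyOfFiniteType qY] [QuasiCompact qY]
    (f : X ⟶ Y) (hf : f ≫ qY = qX) [IrreducibleSpace ↥Y] (d : ℕ)
    (hirr : ∀ y : ↥Y, IsClosed ({y} : Set ↥Y) → IsIrreducible (f.base ⁻¹' {y}))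
    (hdim : ∀ y : ↥Y, IsClosed ({y} : Set ↥Y) → topologicalKrullDim ↥(f.base ⁻¹' {y}) = d) :
    (∃! Z : Set ↥X, Z ∈ irreducibleComponents ↥X ∧ Dense (f.base '' Z)) ∧
      ∀ Z ∈ irreducibleComponents ↥X,
        (∀ y : ↥Y, IsClosed ({y} : Set ↥Y) → (f.base ⁻¹' {y} ∩ Z).Nonempty → f.base ⁻¹' {y} ⊆ Z) ∧
        topologicalKrullDim ↥Z = d + topologicalKrullDim ↥(closure (f.base '' Z)) := by
  have hX1 : IsLocallyNoetherian X := LocallyOfFiniteType.isLocallyNoetherian qX
  have hX2 : CompactSpace X := QuasiCompact.compactSpace_of_compactSpace qX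
  have hXN : IsNoetherian X := {}
  have hY1 : IsLocallyNoetherian Y := LocallyOfFiniteType.isLocallyNoetherian qY
  have hY2 : CompactSpace Y := QuasiCompact.compactSpace_of_compactSpace qY
  have hYN : IsNoetherian Y := {}
  have hXJ : JacobsonSpace X := LocallyOfFiniteType.jacobsonSpace qX
  have hYJ : JacobsonSpace Y := LocallyOfFiniteType.jacobsonSpace qY
  have hfl : LocallyOfFiniteType f := by
    have : LocallyOfFiniteType (f ≫ qY) := by rw [hf]; infer_instance
    exact locallyOfFiniteType_of_comp f qY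
  have h2 := fun Z hZ => component_props qY f d hirr hdim (Z := Z) hZ
  refine ⟨?_, h2⟩
  obtain ⟨Z₀, hZ₀, hd₀⟩ := exists_dominant f hirr
  refine ⟨Z₀, ⟨hZ₀, hd₀⟩, ?_⟩
  rintro Z ⟨hZ, hdZ⟩
  exact (subset_of_dominant f (fun Z hZ => (h2 Z hZ).1) hZ hZ₀ hdZ hd₀).antisymm
    (subset_of_dominant f (fun Z hZ => (h2 Z hZ).1) hZ₀ hZ hd₀ hdZ)



theorem add_natCast_cancel {a b : WithBot ℕ∞} (t : ℕ)
    (hab : (t : WithBot ℕ∞) + a = (t : WithBot ℕ∞) + b) : a = b := by
  rw [add_comm _ a, add_comm _ b] at hab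
  induction a with
  | bot =>
    rw [WithBot.bot_add] at hab
    induction b with
    | bot => rfl
    | coe b =>
      rcases WithBot.add_eq_bot.1 hab.symm with h | h
      · exact absurd h WithBot.coe_ne_bot
      · exact absurd h (WithBot.natCast_ne_bot t)
  | coe a =>
    induction b with
    | bot =>
      rw [WithBot.bot_add] at hab
      rcases WithBot.add_eq_bot.1 hab with h | h
      · exact absurd h WithBot.coe_ne_bot
      · exact absurd h (WithBot.natCast_ne_bot t)
    | coe b =>
      have h' : a + (t : ℕ∞) = b + (t : ℕ∞) := by exact_mod_cast hab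
      have : a = b := (ENat.add_left_injective_of_ne_top (ENat.natCast_ne_top t)) h'
      rw [this]

/-- if moreover the unique dominant component is everything, `X` is irreducible of dimension
`d + dim Y`. -/
theorem irreducible_of_eq_univ {X Y : Scheme.{u}} (f : X ⟶ Y) (d : ℕ) {Z₀ : Set X}
    (hZ₀ : Z₀ ∈ irreducibleComponents X) (hd₀ : Dense (f.base '' Z₀))
    (hdim₀ : topologicalKrullDim ↥Z₀ = d + topologicalKrullDim ↥(closure (f.base '' Z₀)))
    (hall : Z₀ = Set.univ) :
    IrreducibleSpace ↥X ∧ topologicalKrullDim ↥X = d + topologicalKrullDim ↥Y := by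
  subst hall
  refine ⟨(irreducibleSpace_def X).mpr hZ₀.1, ?_⟩
  rw [hd₀.closure_eq, (Homeomorph.Set.univ X).isHomeomorph.topologicalKrullDim_eq,
    (Homeomorph.Set.univ Y).isHomeomorph.topologicalKrullDim_eq] at hdim₀
  exact hdim₀

/-- closed morphisms with irreducible equidimensional closed fibres have irreducible source. -/
theorem irreducible_of_isClosedMap (k : Type u) [Field k]
    {X Y : Scheme.{u}} (qX : X ⟶ Spec (CommRingCat.of k)) (qY : Y ⟶ Spec (CommRingCat.of k))
    [LocallyOfFiniteType qX] [QuasiCompact qX] [LocallyOfFiniteType qY] [QuasiCompact qY]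
    (f : X ⟶ Y) (hf : f ≫ qY = qX) [IrreducibleSpace ↥Y] (hcl : IsClosedMap f.base) (d : ℕ)
    (hirr : ∀ y : ↥Y, IsClosed ({y} : Set ↥Y) → IsIrreducible (f.base ⁻¹' {y}))
    (hdim : ∀ y : ↥Y, IsClosed ({y} : Set ↥Y) → topologicalKrullDim ↥(f.base ⁻¹' {y}) = d) :
    IrreducibleSpace ↥X ∧ topologicalKrullDim ↥X = d + topologicalKrullDim ↥Y := by
  obtain ⟨⟨Z₀, ⟨hZ₀, hd₀⟩, -⟩, h2⟩ := main k qX qY f hf d hirr hdim
  have hXJ : JacobsonSpace X := LocallyOfFiniteType.jacobsonSpace qX
  have hYJ : JacobsonSpace Y := LocallyOfFiniteType.jacobsonSpace qY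
  have hfl : LocallyOfFiniteType f := by
    have : LocallyOfFiniteType (f ≫ qY) := by rw [hf]; infer_instance
    exact locallyOfFiniteType_of_comp f qY
  have hZ₀cl : IsClosed Z₀ := isClosed_of_mem_irreducibleComponents Z₀ hZ₀
  have hfZ₀ : f.base '' Z₀ = Set.univ := by
    rw [← hd₀.closure_eq, (hcl Z₀ hZ₀cl).closure_eq]
  apply irreducible_of_eq_univ f d hZ₀ hd₀ (h2 Z₀ hZ₀).2
  rw [← Set.univ_subset_iff, ← closure_closedPoints (X := X)]
  apply hZ₀cl.closure_subset_iff.mpr
  intro x hx
  have hy : IsClosed ({f.base x} : Set Y) := f.closePoints_subset_preimage_closedPoints hx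
  obtain ⟨x₂, hx₂Z, hx₂⟩ : f.base x ∈ f.base '' Z₀ := by rw [hfZ₀]; trivial
  exact (h2 Z₀ hZ₀).1 _ hy ⟨x₂, hx₂, hx₂Z⟩ rfl

/-- pure-dimensional source with irreducible equidimensional closed fibres is irreducible. -/
theorem irreducible_of_pure (k : Type u) [Field k]
    {X Y : Scheme.{u}} (qX : X ⟶ Spec (CommRingCat.of k)) (qY : Y ⟶ Spec (CommRingCat.of k))
    [LocallyOfFiniteType qX] [QuasiCompact qX] [LocallyOfFiniteType qY] [QuasiCompact qY]
    (f : X ⟶ Y) (hf : f ≫ qY = qX) [IrreducibleSpace ↥Y]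
    (hpure : ∀ Z ∈ irreducibleComponents (↥X), topologicalKrullDim ↥Z = topologicalKrullDim ↥X)
    (d : ℕ)
    (hirr : ∀ y : ↥Y, IsClosed ({y} : Set ↥Y) → IsIrreducible (f.base ⁻¹' {y}))
    (hdim : ∀ y : ↥Y, IsClosed ({y} : Set ↥Y) → topologicalKrullDim ↥(f.base ⁻¹' {y}) = d) :
    IrreducibleSpace ↥X ∧ topologicalKrullDim ↥X = d + topologicalKrullDim ↥Y := by
  obtain ⟨⟨Z₀, ⟨hZ₀, hd₀⟩, huniq⟩, h2⟩ := main k qX qY f hf d hirr hdim
  -- `dim Y` is finite
  have hYfin : topologicalKrullDim ↥Y ≠ ⊤ := by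
    obtain ⟨t, -, ht⟩ := Groth.Agent.H1.ClosureDim.exists_trdeg_eq_dim_closure qY (genericPoint Y)
    rw [(genericPoint_spec Y).def] at ht
    change topologicalKrullDim ↥(Set.univ : Set Y) = _ at ht
    rw [(Homeomorph.Set.univ Y).isHomeomorph.topologicalKrullDim_eq] at ht
    rw [ht]
    exact natCast_ne_top t
  have hdom : ∀ Z ∈ irreducibleComponents X, Z = Z₀ := by
    intro Z hZ
    apply huniq Z ⟨hZ, ?_⟩
    have e1 := (h2 Z hZ).2
    have e2 := (h2 Z₀ hZ₀).2
    rw [hpure Z hZ] at e1
    rw [hpure Z₀ hZ₀, e1] at e2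
    have e3 := add_natCast_cancel d e2
    rw [hd₀.closure_eq, (Homeomorph.Set.univ Y).isHomeomorph.topologicalKrullDim_eq] at e3
    rw [dense_iff_closure_eq]
    by_contra hne
    have := Groth.Agent.H3.TopDim.dim_lt_of_isClosed_ne_univ hYfin _ isClosed_closure hne
    rw [e3] at this
    exact lt_irrefl _ this
  apply irreducible_of_eq_univ f d hZ₀ hd₀ (h2 Z₀ hZ₀).2
  rw [← sUnion_irreducibleComponents (X := X)]
  apply subset_antisymm
  · exact Set.subset_sUnion_of_mem hZ₀
  · apply Set.sUnion_subset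
    intro Z hZ
    rw [hdom Z hZ]

end Groth.Agent.H3.FibIrr
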