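import Mathlib

/-!
# Associated maximal ideals under flat local base change (helper3)

For a flat local homomorphism `A → B` of local rings (`A` Noetherian) and an `A`-module `M`:
`𝔪_B ∈ Ass_B(B ⊗_A M)` iff `𝔪_A ∈ Ass_A(M)` and `𝔪_B ∈ Ass_B(B / 𝔪_A B)`.
We phrase this with "socle elements" (nonzero elements killed by the maximal ideal).
-/

set_option autoImplicit false

open TensorProduct IsLocalRing

namespace Groth.Agent.H3.FlatAss

/-- `N` has a nonzero element killed by the maximal ideal. -/
def HasSocle (R : Type*) [CommRing R] [IsLocalRing R] (N : Type*) [AddCommGroup N] [Module R N] :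
    Prop :=
  ∃ c : N, c ≠ 0 ∧ ∀ r ∈ maximalIdeal R, r • c = 0

section Basic

variable {R : Type*} [CommRing R] [IsLocalRing R] {N N' : Type*} [AddCommGroup N] [Module R N]
  [AddCommGroup N'] [Module R N']

theorem HasSocle.of_injective (h : HasSocle R N) (f : N →ₗ[R] N') (hf : Function.Injective f) :
    HasSocle R N' := by
  obtain ⟨c, hc, hm⟩ := h
  refine ⟨f c, fun h0 => hc (hf (by rw [h0, map_zero])), fun r hr => ?_⟩
  rw [← map_smul, hm r hr, map_zero]

theorem hasSocle_congr (e : N ≃ₗ[R] N') : HasSocle R N ↔ HasSocle R N' :=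
  ⟨fun h => h.of_injective e.toLinearMap e.injective,
    fun h => h.of_injective e.symm.toLinearMap e.symm.injective⟩

theorem HasSocle.isAssociatedPrime (h : HasSocle R N) :
    IsAssociatedPrime (maximalIdeal R) N := by
  obtain ⟨c, hc, hm⟩ := h
  refine ⟨(maximalIdeal.isMaximal R).isPrime, c, ?_⟩
  have h1 : maximalIdeal R ≤ (⊥ : Submodule R N).colon {c} := by
    intro r hr
    rw [Submodule.mem_colon_singleton, Submodule.mem_bot]
    exact hm r hr
  have h2 : (⊥ : Submodule R N).colon {c} ≠ ⊤ := by
    intro htop
    have : (1 : R) ∈ (⊥ : Submodule R N).colon {c} := by rw [htop]; trivial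
    rw [Submodule.mem_colon_singleton, Submodule.mem_bot, one_smul] at this
    exact hc this
  have h3 : (⊥ : Submodule R N).colon {c} = maximalIdeal R :=
    ((maximalIdeal.isMaximal R).eq_of_le h2 h1).symm
  rw [h3, (maximalIdeal.isMaximal R).isPrime.radical]

theorem hasSocle_of_isAssociatedPrime [IsNoetherianRing R]
    (h : IsAssociatedPrime (maximalIdeal R) N) : HasSocle R N := by
  obtain ⟨-, c, hc⟩ := isAssociatedPrime_iff.mp h
  refine ⟨c, ?_, fun r hr => ?_⟩
  · rintro rfl
    have : (1 : R) ∈ maximalIdeal R := by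
      rw [hc, Submodule.mem_colon_singleton]
      simp
    exact (Ideal.ne_top_iff_one _).mp (maximalIdeal.isMaximal R).ne_top this
  · rw [hc, Submodule.mem_colon_singleton, Submodule.mem_bot] at hr
    exact hr

theorem isAssociatedPrime_maximalIdeal_iff [IsNoetherianRing R] :
    IsAssociatedPrime (maximalIdeal R) N ↔ HasSocle R N :=
  ⟨hasSocle_of_isAssociatedPrime, HasSocle.isAssociatedPrime⟩

end Basic

section Flat

variable {A B : Type*} [CommRing A] [CommRing B] [IsLocalRing A] [IsLocalRing B] [Algebra A B]
  [IsLocalHom (algebraMap A B)] (M : Type*) [AddCommGroup M] [Module A M]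

theorem algebraMap_mem_maximalIdeal {a : A} (ha : a ∈ maximalIdeal A) :
    algebraMap A B a ∈ maximalIdeal B := by
  rw [mem_maximalIdeal, mem_nonunits_iff] at ha ⊢
  exact fun hu => ha (isUnit_of_map_unit (algebraMap A B) a hu)

/-- The `𝔪_A`-torsion submodule. -/
def socleSub : Submodule A M where
  carrier := {m | ∀ a ∈ maximalIdeal A, a • m = 0}
  add_mem' := fun {x y} hx hy a ha => by rw [smul_add, hx a ha, hy a ha, add_zero]
  zero_mem' := fun a _ => smul_zero a
  smul_mem' := fun r x hx a ha => by rw [smul_comm, hx a ha, smul_zero]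

variable [Module.Flat A B] [IsNoetherianRing A]

/-- An element of `B ⊗ M` killed by `𝔪_A` comes from `B ⊗ socleSub M`. -/
theorem exists_of_forall_smul_eq_zero (c : B ⊗[A] M)
    (hc : ∀ a ∈ maximalIdeal A, a • c = 0) :
    ∃ d : B ⊗[A] socleSub (A := A) M,
      AlgebraTensorModule.lTensor B B (socleSub (A := A) M).subtype d = c := by
  classical
  obtain ⟨s, hs⟩ := (isNoetherianRing_iff_ideal_fg A).mp inferInstance (maximalIdeal A)
  let f : M →ₗ[A] (s → M) := LinearMap.pi fun i => (i : A) • LinearMap.id
  have hker : LinearMap.ker f = socleSub (A := A) M := by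
    ext m
    rw [LinearMap.mem_ker]
    constructor
    · intro h a ha
      rw [← hs] at ha
      refine Submodule.span_induction (p := fun a _ => a • m = 0) ?_ ?_ ?_ ?_ ha
      · intro x hx
        have := congrFun h ⟨x, hx⟩
        simpa [f] using this
      · exact zero_smul _ _
      · intro x y _ _ hx hy
        rw [add_smul, hx, hy, add_zero]
      · intro r x _ hx
        rw [smul_assoc, hx, smul_zero]
    · intro h
      funext i
      have hi : (i : A) ∈ maximalIdeal A := by
        rw [← hs]
        exact Submodule.subset_span i.2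
      simpa [f] using h _ hi
  have hcker : c ∈ LinearMap.ker (AlgebraTensorModule.lTensor B B f) := by
    rw [LinearMap.mem_ker]
    have key : ∀ t : B ⊗[A] M, ∀ i : s,
        TensorProduct.piRight A B B (fun _ : s => M) (AlgebraTensorModule.lTensor B B f t) i =
          (i : A) • t := by
      intro t i
      induction t with
      | zero => simp
      | tmul b m =>
        simp only [AlgebraTensorModule.lTensor_tmul, TensorProduct.piRight_apply,
          TensorProduct.piRightHom_tmul]
        simp [f, TensorProduct.tmul_smul]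
      | add x y hx hy => rw [map_add, map_add, Pi.add_apply, hx, hy, smul_add]
    apply (TensorProduct.piRight A B B (fun _ : s => M)).injective
    rw [map_zero]
    funext i
    rw [key c i, Pi.zero_apply]
    exact hc _ (by rw [← hs]; exact Submodule.subset_span i.2)
  rw [Module.Flat.ker_lTensor_eq] at hcker
  obtain ⟨d, hd⟩ := hcker
  let e := LinearEquiv.ofEq _ _ hker
  have key2 : ∀ d' : B ⊗[A] LinearMap.ker f,
      AlgebraTensorModule.lTensor B B (socleSub (A := A) M).subtype
        (AlgebraTensorModule.lTensor B B e.toLinearMap d') =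
      AlgebraTensorModule.lTensor B B (LinearMap.ker f).subtype d' := by
    intro d'
    induction d' with
    | zero => simp
    | tmul b m => simp [e]
    | add x y hx hy => simp only [map_add, hx, hy]
  exact ⟨AlgebraTensorModule.lTensor B B e.toLinearMap d, (key2 d).trans hd⟩


/-- `L1`: a socle element upstairs forces a socle element downstairs. -/
theorem HasSocle.of_baseChange (h : HasSocle B (B ⊗[A] M)) : HasSocle A M := by
  obtain ⟨c, hc0, hc⟩ := h
  obtain ⟨d, hd⟩ := exists_of_forall_smul_eq_zero M c (fun a ha => by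
    rw [← algebraMap_smul B a c]
    exact hc _ (algebraMap_mem_maximalIdeal ha))
  have hd0 : d ≠ 0 := by
    rintro rfl
    rw [map_zero] at hd
    exact hc0 hd.symm
  have hnt : Nontrivial (socleSub (A := A) M) := by
    by_contra hnt
    rw [not_nontrivial_iff_subsingleton] at hnt
    exact hd0 (Subsingleton.elim _ _)
  obtain ⟨v, hv⟩ := exists_ne (0 : socleSub (A := A) M)
  exact ⟨v.1, fun h0 => hv (Subtype.ext h0), v.2⟩

/-- `L2`: a socle element upstairs forces a socle element of the fibre `B ⊗ A/𝔪_A`. -/
theorem HasSocle.fibre_of_baseChange (h : HasSocle B (B ⊗[A] M)) :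
    HasSocle B (B ⊗[A] (A ⧸ maximalIdeal A)) := by
  classical
  obtain ⟨c, hc0, hc⟩ := h
  obtain ⟨d, hd⟩ := exists_of_forall_smul_eq_zero M c (fun a ha => by
    rw [← algebraMap_smul B a c]
    exact hc _ (algebraMap_mem_maximalIdeal ha))
  have hd0 : d ≠ 0 := by
    rintro rfl
    rw [map_zero] at hd
    exact hc0 hd.symm
  have hinj : Function.Injective
      (AlgebraTensorModule.lTensor B B (socleSub (A := A) M).subtype) :=
    Module.Flat.lTensor_preserves_injective_linearMap _ (Submodule.injective_subtype _)
  have hdm : ∀ b ∈ maximalIdeal B, b • d = 0 := by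
    intro b hb
    apply hinj
    rw [map_smul, hd, map_zero]
    exact hc b hb
  -- the residue field acts on the socle
  letI : Field (A ⧸ maximalIdeal A) := Ideal.Quotient.field (maximalIdeal A)
  have hV : Module.IsTorsionBySet A (socleSub (A := A) M) (maximalIdeal A : Set A) := by
    intro v a
    exact Subtype.ext (v.2 a.1 a.2)
  letI : Module (A ⧸ maximalIdeal A) (socleSub (A := A) M) := hV.module
  let bas := Module.Free.chooseBasis (A ⧸ maximalIdeal A) (socleSub (A := A) M)
  let E : socleSub (A := A) M ≃ₗ[A] (Module.Free.ChooseBasisIndex (A ⧸ maximalIdeal A)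
      (socleSub (A := A) M) →₀ (A ⧸ maximalIdeal A)) := bas.repr.restrictScalars A
  by_contra hno
  have hall : ∀ i, AlgebraTensorModule.lTensor B B
      ((Finsupp.lapply i : _ →ₗ[A] (A ⧸ maximalIdeal A)) ∘ₗ E.toLinearMap) d = 0 := by
    intro i
    by_contra hne
    exact hno ⟨_, hne, fun b hb => by rw [← map_smul, hdm b hb, map_zero]⟩
  have h1 : TensorProduct.finsuppRight A B B (A ⧸ maximalIdeal A) _
      (AlgebraTensorModule.lTensor B B E.toLinearMap d) = 0 := by
    ext i
    rw [TensorProduct.finsuppRight_apply, Finsupp.zero_apply]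
    have := hall i
    rw [AlgebraTensorModule.lTensor_comp] at this
    exact this
  have h2 : AlgebraTensorModule.lTensor B B E.toLinearMap d = 0 :=
    (TensorProduct.finsuppRight A B B (A ⧸ maximalIdeal A) _).injective (by rw [h1, map_zero])
  have h3 : Function.Injective (AlgebraTensorModule.lTensor B B E.toLinearMap) :=
    Module.Flat.lTensor_preserves_injective_linearMap _ E.injective
  exact hd0 (h3 (by rw [h2, map_zero]))

/-- `L3`: socle elements downstairs and in the fibre give a socle element upstairs. -/
theorem HasSocle.baseChange (h1 : HasSocle A M)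
    (h2 : HasSocle B (B ⊗[A] (A ⧸ maximalIdeal A))) : HasSocle B (B ⊗[A] M) := by
  obtain ⟨m, hm0, hm⟩ := h1
  let ψ : (A ⧸ maximalIdeal A) →ₗ[A] M :=
    Submodule.liftQ (maximalIdeal A) (LinearMap.toSpanSingleton A M m) (fun a ha => by
      rw [LinearMap.mem_ker, LinearMap.toSpanSingleton_apply]
      exact hm a ha)
  have hψ : Function.Injective ψ := by
    rw [injective_iff_map_eq_zero]
    intro x hx
    obtain ⟨a, rfl⟩ := Ideal.Quotient.mk_surjective x
    have hx' : a • m = 0 := hx
    rw [Ideal.Quotient.eq_zero_iff_mem]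
    by_contra ha
    have hu : IsUnit a := by
      by_contra hnu
      exact ha ((mem_maximalIdeal a).mpr hnu)
    obtain ⟨u, rfl⟩ := hu
    exact hm0 (by rw [← one_smul A m, ← u.inv_mul, mul_smul, hx', smul_zero])
  exact h2.of_injective (AlgebraTensorModule.lTensor B B ψ)
    (Module.Flat.lTensor_preserves_injective_linearMap _ hψ)


theorem hasSocle_fibre_iff :
    HasSocle B (B ⊗[A] (A ⧸ maximalIdeal A)) ↔
      HasSocle B (B ⧸ (maximalIdeal A).map (algebraMap A B)) :=
  (hasSocle_congr
    (Algebra.TensorProduct.quotIdealMapEquivTensorQuot B (maximalIdeal A)).toLinearEquiv).symm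

/-- **Associated maximal ideal under flat local base change.** -/
theorem hasSocle_of_isBaseChange_iff {M} [AddCommGroup M] [Module A M] {N : Type*} [AddCommGroup N]
    [Module A N] [Module B N] [IsScalarTower A B N] (σ : M →ₗ[A] N) (hσ : IsBaseChange B σ) :
    HasSocle B N ↔
      HasSocle A M ∧ HasSocle B (B ⧸ (maximalIdeal A).map (algebraMap A B)) := by
  rw [← hasSocle_congr hσ.equiv, ← hasSocle_fibre_iff]
  exact ⟨fun h => ⟨h.of_baseChange M, h.fibre_of_baseChange M⟩, fun h => h.1.baseChange M h.2⟩

theorem isAssociatedPrime_of_isBaseChange_iff [IsNoetherianRing B] {M} [AddCommGroup M]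
    [Module A M] {N : Type*} [AddCommGroup N]
    [Module A N] [Module B N] [IsScalarTower A B N] (σ : M →ₗ[A] N) (hσ : IsBaseChange B σ) :
    IsAssociatedPrime (maximalIdeal B) N ↔
      IsAssociatedPrime (maximalIdeal A) M ∧
        IsAssociatedPrime (maximalIdeal B) (B ⧸ (maximalIdeal A).map (algebraMap A B)) := by
  rw [isAssociatedPrime_maximalIdeal_iff, isAssociatedPrime_maximalIdeal_iff,
    isAssociatedPrime_maximalIdeal_iff]
  exact hasSocle_of_isBaseChange_iff σ hσ

theorem length_of_isBaseChange {M} [AddCommGroup M] [Module A M] {N : Type*} [AddCommGroup N]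
    [Module A N] [Module B N] [IsScalarTower A B N] (σ : M →ₗ[A] N) (hσ : IsBaseChange B σ) :
    Module.length B N = Module.length A M *
      Module.length B (B ⧸ (maximalIdeal A).map (algebraMap A B)) := by
  rw [← hσ.equiv.length_eq]
  exact IsLocalRing.length_baseChange A B M

end Flat


section Reduced

variable {R : Type*} [CommRing R] [IsLocalRing R]

/-- a reduced local ring with a socle element is a field -/
theorem maximalIdeal_eq_bot_of_hasSocle [IsReduced R] (h : HasSocle R R) :
    maximalIdeal R = ⊥ := by
  obtain ⟨c, hc0, hc⟩ := h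
  have hcu : IsUnit c := by
    by_contra hnu
    have hcm : c ∈ maximalIdeal R := (mem_maximalIdeal c).mpr hnu
    have h2 : c * c = 0 := hc c hcm
    exact hc0 (IsReduced.eq_zero c ⟨2, by rw [pow_two, h2]⟩)
  rw [eq_bot_iff]
  intro r hr
  have h1 : r * c = 0 := hc r hr
  rw [Submodule.mem_bot]
  exact (hcu.mul_left_eq_zero).mp h1

theorem length_self_eq_one_of_maximalIdeal_eq_bot (h : maximalIdeal R = ⊥) :
    Module.length R R = 1 := by
  have h4 : IsField R := IsLocalRing.isField_iff_maximalIdeal_eq.mpr h
  haveI : IsSimpleModule R R :=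
    { toIsSimpleOrder := Ring.isField_iff_isSimpleOrder_ideal.mp h4 }
  exact Module.length_eq_one _ _

theorem maximalIdeal_eq_bot_of_length_self_eq_one (h : Module.length R R = 1) :
    maximalIdeal R = ⊥ := by
  haveI : IsSimpleModule R R := Module.length_eq_one_iff.mp h
  have h4 : IsField R := Ring.isField_iff_isSimpleOrder_ideal.mpr inferInstance
  exact IsLocalRing.isField_iff_maximalIdeal_eq.mp h4

/-- a zero-dimensional Noetherian local ring has a socle element -/
theorem hasSocle_self_of_forall_prime [IsNoetherianRing R]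
    (h : ∀ P : Ideal R, P.IsPrime → P = maximalIdeal R) : HasSocle R R := by
  obtain ⟨P, hP⟩ := associatedPrimes.nonempty R R
  have hPm : P = maximalIdeal R := h P hP.isPrime
  exact hasSocle_of_isAssociatedPrime (hPm ▸ hP)

end Reduced

end Groth.Agent.H3.FlatAss
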