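import Mathlib
import Groth.Prelude.Def_FDesc
import Groth.Agent.Lib.Lead.QC.StalkPullback
import Groth.Agent.Lib.Helper1.FibreStalk
import Groth.Agent.Lib.Helper1.StalkGen
import Groth.Agent.Lib.Helper3.FlatAssA

/-!
# Associated points of a flat pullback (helper3)

For a flat morphism `π : X' ⟶ X` of locally Noetherian schemes and a quasi-coherent `F` on `X`:
`z ∈ Ass(π^*F)` iff `π z ∈ Ass(F)` and the fibre ring `O_{X',z}/𝔪_{π z}O_{X',z}` has a socle element;
and `ℓ((π^*F)_z) = ℓ(F_{π z}) · ℓ(fibre ring)`.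
-/

set_option autoImplicit false
universe u
open CategoryTheory CategoryTheory.Limits AlgebraicGeometry IsLocalRing TensorProduct

namespace Groth.Agent.H3.FlatAss

open Groth.Agent.LD.QC Groth.Agent.H1.StalkGen

attribute [-instance] Groth.Agent.LD.QC.stalkModule

variable {X' X : Scheme.{u}} (π : X' ⟶ X)

/-- the ideal `𝔪_{π z} O_{X',z}` -/
noncomputable abbrev fibreIdeal (z : X') : Ideal (X'.presheaf.stalk z) :=
  (maximalIdeal (X.presheaf.stalk (π z))).map (π.stalkMap z).hom

/-- the fibre ring `O_{X',z}/𝔪_{π z} O_{X',z}` -/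
abbrev fibreRing (z : X') : Type u := X'.presheaf.stalk z ⧸ fibreIdeal π z

theorem fibreIdeal_le (z : X') : fibreIdeal π z ≤ maximalIdeal (X'.presheaf.stalk z) :=
  ((local_hom_TFAE (π.stalkMap z).hom).out 0 2 rfl rfl).mp inferInstance

section Flat

variable [Flat π] [IsLocallyNoetherian X] [IsLocallyNoetherian X'] (F : X.Modules)
  [F.IsQuasicoherent] (z : X')

theorem mem_ass_pullback_iff :
    z ∈ AssSch.Ass ((Scheme.Modules.pullback π).obj F) ↔
      π z ∈ AssSch.Ass F ∧ HasSocle (X'.presheaf.stalk z) (fibreRing π z) := by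
  letI := FlatMod.moduleStalkOver π ((Scheme.Modules.pullback π).obj F) z
  letI : Algebra (X.presheaf.stalk (π z)) (X'.presheaf.stalk z) := (π.stalkMap z).hom.toAlgebra
  haveI : IsScalarTower (X.presheaf.stalk (π z)) (X'.presheaf.stalk z)
      (((Scheme.Modules.pullback π).obj F).presheaf.stalk z) :=
    IsScalarTower.of_algebraMap_smul fun r m => rfl
  obtain ⟨σ, hσ⟩ : ∃ σ : F.presheaf.stalk (π z) →ₗ[X.presheaf.stalk (π z)]
      ((Scheme.Modules.pullback π).obj F).presheaf.stalk z,
      IsBaseChange (X'.presheaf.stalk z) σ := exists_stalk_pullback_isBaseChange π F z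
  haveI : Module.Flat (X.presheaf.stalk (π z)) (X'.presheaf.stalk z) :=
    (Flat.iff_flat_stalkMap π).mp inferInstance z
  haveI : IsLocalHom (algebraMap (X.presheaf.stalk (π z)) (X'.presheaf.stalk z)) :=
    inferInstanceAs (IsLocalHom (π.stalkMap z).hom)
  rw [← isAssociatedPrime_maximalIdeal_iff]
  exact isAssociatedPrime_of_isBaseChange_iff σ hσ

theorem length_stalk_pullback :
    Module.length (X'.presheaf.stalk z) (((Scheme.Modules.pullback π).obj F).presheaf.stalk z) =
      Module.length (X.presheaf.stalk (π z)) (F.presheaf.stalk (π z)) *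
        Module.length (X'.presheaf.stalk z) (fibreRing π z) := by
  letI := FlatMod.moduleStalkOver π ((Scheme.Modules.pullback π).obj F) z
  letI : Algebra (X.presheaf.stalk (π z)) (X'.presheaf.stalk z) := (π.stalkMap z).hom.toAlgebra
  haveI : IsScalarTower (X.presheaf.stalk (π z)) (X'.presheaf.stalk z)
      (((Scheme.Modules.pullback π).obj F).presheaf.stalk z) :=
    IsScalarTower.of_algebraMap_smul fun r m => rfl
  obtain ⟨σ, hσ⟩ : ∃ σ : F.presheaf.stalk (π z) →ₗ[X.presheaf.stalk (π z)]
      ((Scheme.Modules.pullback π).obj F).presheaf.stalk z,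
      IsBaseChange (X'.presheaf.stalk z) σ := exists_stalk_pullback_isBaseChange π F z
  haveI : Module.Flat (X.presheaf.stalk (π z)) (X'.presheaf.stalk z) :=
    (Flat.iff_flat_stalkMap π).mp inferInstance z
  haveI : IsLocalHom (algebraMap (X.presheaf.stalk (π z)) (X'.presheaf.stalk z)) :=
    inferInstanceAs (IsLocalHom (π.stalkMap z).hom)
  exact length_of_isBaseChange σ hσ

end Flat

/-- A generization `w` of `z` in the same fibre is equal to `z` when `𝔪_{π z}` generates the maximal
ideal of `O_{X',z}`. -/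
theorem eq_of_specializes_of_fibreIdeal_eq (z w : X') (h : w ⤳ z) (hπ : π w = π z)
    (hI : fibreIdeal π z = maximalIdeal (X'.presheaf.stalk z)) : w = z := by
  have h1 := map_fromSpecStalk π z (primeOf h)
  rw [fromSpecStalk_primeOf, hπ] at h1
  have h2 : X.fromSpecStalk (π z) (closedPoint (X.presheaf.stalk (π z))) = π z :=
    Scheme.fromSpecStalk_closedPoint
  have h3 : PrimeSpectrum.comap (π.stalkMap z).hom (primeOf h) =
      closedPoint (X.presheaf.stalk (π z)) :=
    fromSpecStalk_injective (π z) (h1.symm.trans h2.symm)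
  have h4 : maximalIdeal (X.presheaf.stalk (π z)) ≤
      (primeOf h).asIdeal.comap (π.stalkMap z).hom := by
    have := congrArg PrimeSpectrum.asIdeal h3
    rw [PrimeSpectrum.comap_asIdeal] at this
    rw [this]
    rfl
  have h5 : maximalIdeal (X'.presheaf.stalk z) ≤ (primeOf h).asIdeal := by
    rw [← hI]
    exact Ideal.map_le_iff_le_comap.mpr h4
  have h6 : (primeOf h).asIdeal = maximalIdeal (X'.presheaf.stalk z) :=
    le_antisymm (IsLocalRing.le_maximalIdeal (primeOf h).2.ne_top) h5
  have h7 : primeOf h = closedPoint (X'.presheaf.stalk z) := PrimeSpectrum.ext h6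
  rw [← fromSpecStalk_primeOf h, h7, Scheme.fromSpecStalk_closedPoint]

end Groth.Agent.H3.FlatAss
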