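import Mathlib
import Groth.Prelude.Def_FDesc
import Groth.Agent.Lib.Helper3.FlatAssB

/-!
# Fibre rings of a base change `X_K → X` (helper3)

For `f : X ⟶ Spec k`, `K/k` a field extension and `π : X_K ⟶ X`, the fibre rings
`O_{X_K,z}/𝔪_{π z}O_{X_K,z}` are the localisations of `κ(x) ⊗_k K` at its primes.
-/

set_option autoImplicit false
universe u
open CategoryTheory CategoryTheory.Limits AlgebraicGeometry IsLocalRing TensorProduct

namespace Groth.Agent.H3.FlatAss

section General

variable {X' X : Scheme.{u}} (π : X' ⟶ X)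

theorem nonempty_fibreRing_equiv_aux (x' : X') (t : π.fiber (π x'))
    (ht : π.fiberι (π x') t = x') :
    Nonempty (fibreRing π x' ≃+* (π.fiber (π x')).presheaf.stalk t) := by
  have h : t = π.asFiber x' :=
    (π.fiberι (π x')).isEmbedding.injective (by rw [ht, Scheme.Hom.fiberι_asFiber])
  subst h
  exact ⟨Groth.Agent.H1.FibreStalk.fiberStalkEquiv π x'⟩

/-- the local ring of the fibre at a point is the fibre ring -/
theorem nonempty_fibreRing_equiv (x : X) (t : π.fiber x) (x' : X') (ht : π.fiberι x t = x') :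
    Nonempty (fibreRing π x' ≃+* (π.fiber x).presheaf.stalk t) := by
  have h : π x' = x := by
    have h1 : x' ∈ Set.range (π.fiberι x) := ⟨t, ht⟩
    rw [Scheme.Hom.range_fiberι] at h1
    exact h1
  subst h
  exact nonempty_fibreRing_equiv_aux π x' t ht

theorem map_fiberι (x : X) (t : π.fiber x) : π (π.fiberι x t) = x := by
  have h1 : π.fiberι x t ∈ Set.range (π.fiberι x) := ⟨t, rfl⟩
  rw [Scheme.Hom.range_fiberι] at h1
  exact h1

/-- local rings of a scheme isomorphic to an affine scheme -/
theorem nonempty_stalk_equiv_of_iso_spec {Z : Scheme.{u}} {R : Type u} [CommRing R]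
    (e : Z ≅ Spec (CommRingCat.of R)) (t : Z) :
    Nonempty (Z.presheaf.stalk t ≃+*
      Localization.AtPrime ((e.hom t : PrimeSpectrum R).asIdeal)) := by
  have e2 : (Spec (CommRingCat.of R)).presheaf.stalk (e.hom t) ≃+* Z.presheaf.stalk t :=
    RingEquiv.ofBijective (e.hom.stalkMap t).hom
      (ConcreteCategory.bijective_of_isIso (e.hom.stalkMap t))
  have e3 : Localization.AtPrime ((e.hom t : PrimeSpectrum R).asIdeal) ≃+*
      (Spec (CommRingCat.of R)).presheaf.stalk (e.hom t) :=
    (StructureSheaf.stalkIso R (e.hom t)).toRingEquiv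
  exact ⟨e2.symm.trans e3.symm⟩

end General

section BaseChange

variable {k : Type u} [Field k] {X : Scheme.{u}} (f : X ⟶ Spec (CommRingCat.of k))

/-- the `k`-algebra structure of the residue field of a point of a `k`-scheme -/
noncomputable def resAlg (x : X) : k →+* X.residueField x :=
  (Spec.preimage (X.fromSpecResidueField x ≫ f)).hom

theorem specMap_resAlg (x : X) :
    Spec.map (CommRingCat.ofHom (resAlg f x)) = X.fromSpecResidueField x ≫ f :=
  Spec.map_preimage _

variable (K : Type u) [Field K] [Algebra k K]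

/-- the fibre of `X_K → X` over `x` is `Spec (κ(x) ⊗_k K)` -/
noncomputable def fiberIso (x : X) :
    letI : Algebra k (X.residueField x) := (resAlg f x).toAlgebra
    (FBase.bcπ f K).fiber x ≅ Spec (CommRingCat.of (TensorProduct k (X.residueField x) K)) :=
  letI : Algebra k (X.residueField x) := (resAlg f x).toAlgebra
  pullbackSymmetry _ _ ≪≫
    pullbackRightPullbackFstIso f (Spec.map (CommRingCat.ofHom (algebraMap k K)))
      (X.fromSpecResidueField x) ≪≫
    pullback.congrHom (specMap_resAlg f x).symm rfl ≪≫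
    pullbackSpecIso k (X.residueField x) K

/-- fibre rings of `X_K → X` are localisations of `κ(x) ⊗_k K` -/
theorem exists_prime_fibreRing (z : ↥(FBase.bc f K)) :
    letI : Algebra k (X.residueField (FBase.bcπ f K z)) := (resAlg f (FBase.bcπ f K z)).toAlgebra
    ∃ q : PrimeSpectrum (TensorProduct k (X.residueField (FBase.bcπ f K z)) K),
      Nonempty (fibreRing (FBase.bcπ f K) z ≃+* Localization.AtPrime q.asIdeal) := by
  letI : Algebra k (X.residueField (FBase.bcπ f K z)) := (resAlg f (FBase.bcπ f K z)).toAlgebra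
  obtain ⟨e1⟩ := nonempty_fibreRing_equiv_aux (FBase.bcπ f K) z ((FBase.bcπ f K).asFiber z)
    (Scheme.Hom.fiberι_asFiber _ _)
  obtain ⟨e2⟩ := nonempty_stalk_equiv_of_iso_spec (fiberIso f K (FBase.bcπ f K z))
    ((FBase.bcπ f K).asFiber z)
  exact ⟨_, ⟨e1.trans e2⟩⟩

/-- every prime of `κ(x) ⊗_k K` is a point of `X_K` over `x` -/
theorem exists_point_of_prime (x : X)
    (q : letI : Algebra k (X.residueField x) := (resAlg f x).toAlgebra
      PrimeSpectrum (TensorProduct k (X.residueField x) K)) :
    letI : Algebra k (X.residueField x) := (resAlg f x).toAlgebra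
    ∃ x' : ↥(FBase.bc f K), FBase.bcπ f K x' = x ∧
      Nonempty (fibreRing (FBase.bcπ f K) x' ≃+* Localization.AtPrime q.asIdeal) := by
  letI : Algebra k (X.residueField x) := (resAlg f x).toAlgebra
  set t := (fiberIso f K x).inv q with ht
  have htq : (fiberIso f K x).hom t = q := by
    rw [ht, ← Scheme.Hom.comp_apply, Iso.inv_hom_id]
    rfl
  obtain ⟨e1⟩ := nonempty_fibreRing_equiv (FBase.bcπ f K) x t _ rfl
  obtain ⟨e2⟩ := nonempty_stalk_equiv_of_iso_spec (fiberIso f K x) t
  rw [htq] at e2
  exact ⟨_, map_fiberι _ x t, ⟨e1.trans e2⟩⟩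

end BaseChange

end Groth.Agent.H3.FlatAss
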