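import Mathlib
import Groth.Prelude.Def_FDesc
import Groth.Agent.Lib.Helper1.GeomRed
import Groth.Agent.Lib.Helper3.FlatAssC

/-!
# Reduced modules and base field extension (helper3, S4659)
-/

set_option autoImplicit false
universe u
open CategoryTheory CategoryTheory.Limits AlgebraicGeometry IsLocalRing TensorProduct

namespace Groth.Agent.H3.FlatAss

section Alg

theorem enat_mul_eq_one {a b : ℕ∞} (h : a * b = 1) : a = 1 ∧ b = 1 := by
  have ha0 : a ≠ 0 := by rintro rfl; simp at h
  have hb0 : b ≠ 0 := by rintro rfl; simp at h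
  have hat : a ≠ ⊤ := by
    rintro rfl
    rw [ENat.top_mul hb0] at h
    exact ENat.top_ne_one h
  have hbt : b ≠ ⊤ := by
    rintro rfl
    rw [ENat.mul_top ha0] at h
    exact ENat.top_ne_one h
  lift a to ℕ using hat
  lift b to ℕ using hbt
  have h' : a * b = 1 := by exact_mod_cast h
  obtain ⟨h1, h2⟩ := Nat.eq_one_of_mul_eq_one_right h', Nat.eq_one_of_mul_eq_one_left h'
  exact ⟨by exact_mod_cast h1, by exact_mod_cast h2⟩

variable {B : Type*} [CommRing B] [IsLocalRing B] (I : Ideal B)

theorem isLocalRing_quotient [Nontrivial (B ⧸ I)] : IsLocalRing (B ⧸ I) :=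
  IsLocalRing.of_surjective' (Ideal.Quotient.mk I) Ideal.Quotient.mk_surjective

theorem mk_mem_maximalIdeal_iff [Nontrivial (B ⧸ I)] (r : B) :
    letI := isLocalRing_quotient I
    Ideal.Quotient.mk I r ∈ maximalIdeal (B ⧸ I) ↔ r ∈ maximalIdeal B := by
  letI := isLocalRing_quotient I
  have hI : I ≤ maximalIdeal B :=
    IsLocalRing.le_maximalIdeal (Ideal.Quotient.nontrivial_iff.mp inferInstance)
  rw [mem_maximalIdeal, mem_nonunits_iff, mem_maximalIdeal, mem_nonunits_iff, not_iff_not]
  constructor
  · intro hu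
    obtain ⟨s, hs⟩ := hu.exists_right_inv
    obtain ⟨s, rfl⟩ := Ideal.Quotient.mk_surjective s
    rw [← map_mul, ← map_one (Ideal.Quotient.mk I), Ideal.Quotient.eq] at hs
    by_contra hr
    have hr' : r ∈ maximalIdeal B := (mem_maximalIdeal r).mpr hr
    have h1 : (1 : B) ∈ maximalIdeal B := by
      have h2 : r * s - (r * s - 1) ∈ maximalIdeal B :=
        Ideal.sub_mem _ (Ideal.mul_mem_right _ _ hr') (hI hs)
      simpa using h2
    exact (Ideal.ne_top_iff_one _).mp (maximalIdeal.isMaximal B).ne_top h1
  · intro hu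
    exact hu.map (Ideal.Quotient.mk I)

theorem hasSocle_quotient_iff [Nontrivial (B ⧸ I)] :
    letI := isLocalRing_quotient I
    HasSocle B (B ⧸ I) ↔ HasSocle (B ⧸ I) (B ⧸ I) := by
  letI := isLocalRing_quotient I
  constructor
  · rintro ⟨c, hc0, hc⟩
    refine ⟨c, hc0, fun r hr => ?_⟩
    obtain ⟨r, rfl⟩ := Ideal.Quotient.mk_surjective r
    exact hc r ((mk_mem_maximalIdeal_iff I r).mp hr)
  · rintro ⟨c, hc0, hc⟩
    exact ⟨c, hc0, fun r hr => hc _ ((mk_mem_maximalIdeal_iff I r).mpr hr)⟩

theorem eq_maximalIdeal_of_maximalIdeal_quotient_eq_bot [Nontrivial (B ⧸ I)]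
    (h : letI := isLocalRing_quotient I; maximalIdeal (B ⧸ I) = ⊥) : I = maximalIdeal B := by
  letI := isLocalRing_quotient I
  have hI : I ≤ maximalIdeal B :=
    IsLocalRing.le_maximalIdeal (Ideal.Quotient.nontrivial_iff.mp inferInstance)
  refine le_antisymm hI fun r hr => ?_
  have h1 := (mk_mem_maximalIdeal_iff I r).mpr hr
  rw [h, Submodule.mem_bot] at h1
  exact Ideal.Quotient.eq_zero_iff_mem.mp h1

theorem length_quotient_eq [Nontrivial (B ⧸ I)] :
    Module.length B (B ⧸ I) = Module.length (B ⧸ I) (B ⧸ I) :=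
  Module.length_eq_of_surjective Ideal.Quotient.mk_surjective

theorem hasSocle_of_ringEquiv {S T : Type*} [CommRing S] [CommRing T] [IsLocalRing S]
    [IsLocalRing T] (e : S ≃+* T) (h : HasSocle S S) : HasSocle T T := by
  obtain ⟨c, hc0, hc⟩ := h
  refine ⟨e c, fun h0 => hc0 (e.injective (by rw [h0, map_zero])), fun r hr => ?_⟩
  have hr' : e.symm r ∈ maximalIdeal S := by
    rw [mem_maximalIdeal, mem_nonunits_iff] at hr ⊢
    intro hu
    exact hr (by simpa using hu.map e)
  have := congrArg e (hc _ hr')
  simpa using this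

theorem maximalIdeal_eq_bot_of_ringEquiv {S T : Type*} [CommRing S] [CommRing T] [IsLocalRing S]
    [IsLocalRing T] (e : S ≃+* T) (h : maximalIdeal S = ⊥) : maximalIdeal T = ⊥ := by
  rw [eq_bot_iff]
  intro r hr
  have hr' : e.symm r ∈ maximalIdeal S := by
    rw [mem_maximalIdeal, mem_nonunits_iff] at hr ⊢
    intro hu
    exact hr (by simpa using hu.map e)
  rw [h, Submodule.mem_bot] at hr'
  rw [Submodule.mem_bot]
  simpa using congrArg e hr'

theorem isReduced_of_maximalIdeal_eq_bot {S : Type*} [CommRing S] [IsLocalRing S]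
    (h : maximalIdeal S = ⊥) : IsReduced S := by
  have h4 : IsField S := IsLocalRing.isField_iff_maximalIdeal_eq.mpr h
  letI := h4.toField
  infer_instance

theorem hasSocle_self_of_isArtinianRing {S : Type*} [CommRing S] [IsLocalRing S]
    [IsArtinianRing S] : HasSocle S S :=
  hasSocle_self_of_forall_prime fun P hP =>
    IsLocalRing.eq_maximalIdeal ((IsArtinianRing.isPrime_iff_isMaximal P).mp hP)

end Alg


section Main

instance nontrivial_fibreRing {X' X : Scheme.{u}} (π : X' ⟶ X) (z : X') :
    Nontrivial (fibreRing π z) :=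
  Ideal.Quotient.nontrivial_iff.mpr
    (ne_top_of_le_ne_top (maximalIdeal.isMaximal _).ne_top (fibreIdeal_le π z))

instance isLocalRing_fibreRing {X' X : Scheme.{u}} (π : X' ⟶ X) (z : X') :
    IsLocalRing (fibreRing π z) := isLocalRing_quotient _

variable {k : Type u} [Field k] {X : Scheme.{u}} (f : X ⟶ Spec (CommRingCat.of k))

instance flat_bcπ (K : Type u) [Field K] [Algebra k K] : Flat (FBase.bcπ f K) :=
  MorphismProperty.pullback_fst (P := @Flat) _ _ inferInstance

instance surjective_bcπ (K : Type u) [Field K] [Algebra k K] : Surjective (FBase.bcπ f K) :=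
  MorphismProperty.pullback_fst (P := @Surjective) _ _ inferInstance

theorem isLocallyNoetherian_bc_of_finite [IsLocallyNoetherian X] (k' : Type u) [Field k']
    [Algebra k k'] [FiniteDimensional k k'] : IsLocallyNoetherian (FBase.bc f k') := by
  haveI : LocallyOfFiniteType (Spec.map (CommRingCat.ofHom (algebraMap k k'))) := by
    rw [HasRingHomProperty.Spec_iff (P := @LocallyOfFiniteType)]
    exact RingHom.finiteType_algebraMap.mpr inferInstance
  haveI : LocallyOfFiniteType (FBase.bcπ f k') := MorphismProperty.pullback_fst _ _ inferInstance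
  exact LocallyOfFiniteType.isLocallyNoetherian (FBase.bcπ f k')

variable [IsLocallyNoetherian X] (F : X.Modules) [F.IsQuasicoherent]

/-- finite base field extension: every point over an associated point is associated -/
theorem mem_ass_bc_of_finite (k' : Type u) [Field k'] [Algebra k k'] [FiniteDimensional k k']
    [IsLocallyNoetherian (FBase.bc f k')] (x' : ↥(FBase.bc f k'))
    (hx : FBase.bcπ f k' x' ∈ AssSch.Ass F) :
    x' ∈ AssSch.Ass ((Scheme.Modules.pullback (FBase.bcπ f k')).obj F) := by
  rw [mem_ass_pullback_iff]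
  refine ⟨hx, ?_⟩
  rw [hasSocle_quotient_iff]
  letI : Algebra k (X.residueField (FBase.bcπ f k' x')) :=
    (resAlg f (FBase.bcπ f k' x')).toAlgebra
  obtain ⟨q, ⟨e⟩⟩ := exists_prime_fibreRing f k' x'
  haveI : IsArtinianRing (TensorProduct k (X.residueField (FBase.bcπ f k' x')) k') :=
    IsArtinianRing.of_finite (X.residueField (FBase.bcπ f k' x')) _
  exact hasSocle_of_ringEquiv e.symm hasSocle_self_of_isArtinianRing

theorem fibre_facts_of_finite (k' : Type u) [Field k'] [Algebra k k'] [FiniteDimensional k k']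
    [IsLocallyNoetherian (FBase.bc f k')]
    (hred : AssSch.IsReducedMod ((Scheme.Modules.pullback (FBase.bcπ f k')).obj F))
    (x' : ↥(FBase.bc f k')) (hx : FBase.bcπ f k' x' ∈ AssSch.Ass F) :
    Module.length (X.presheaf.stalk (FBase.bcπ f k' x'))
        (F.presheaf.stalk (FBase.bcπ f k' x')) = 1 ∧
      maximalIdeal (fibreRing (FBase.bcπ f k') x') = ⊥ := by
  have h1 := hred.2 x' (mem_ass_bc_of_finite f F k' x' hx)
  rw [length_stalk_pullback] at h1
  obtain ⟨ha, hb⟩ := enat_mul_eq_one h1
  refine ⟨ha, ?_⟩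
  rw [length_quotient_eq] at hb
  exact maximalIdeal_eq_bot_of_length_self_eq_one hb

theorem length_stalk_eq_one_of_mem_ass
    (hred : AssSch.IsReducedMod ((Scheme.Modules.pullback (FBase.bcπ f k)).obj F))
    (x : X) (hx : x ∈ AssSch.Ass F) :
    Module.length (X.presheaf.stalk x) (F.presheaf.stalk x) = 1 := by
  haveI := isLocallyNoetherian_bc_of_finite f k
  obtain ⟨x₀, rfl⟩ := (surjective_bcπ f k).surj x
  exact (fibre_facts_of_finite f F k hred x₀ hx).1

theorem noEmbedded_of_bc_finite (k' : Type u) [Field k'] [Algebra k k'] [FiniteDimensional k k']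
    [IsLocallyNoetherian (FBase.bc f k')]
    (hne : AssSch.NoEmbedded ((Scheme.Modules.pullback (FBase.bcπ f k')).obj F)) :
    AssSch.NoEmbedded F := by
  intro xz hz xw hw hsp
  obtain ⟨z₀, rfl⟩ := (surjective_bcπ f k').surj xz
  obtain ⟨w₀, hw₀, rfl⟩ := (Flat.generalizingMap (f := FBase.bcπ f k')) hsp
  rw [hne z₀ (mem_ass_bc_of_finite f F k' z₀ hz) w₀ (mem_ass_bc_of_finite f F k' w₀ hw) hw₀]

theorem isReduced_residue_tensor_of_finite (k' : Type u) [Field k'] [Algebra k k']
    [FiniteDimensional k k'] [IsLocallyNoetherian (FBase.bc f k')]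
    (hred : AssSch.IsReducedMod ((Scheme.Modules.pullback (FBase.bcπ f k')).obj F))
    (x : X) (hx : x ∈ AssSch.Ass F) :
    letI : Algebra k (X.residueField x) := (resAlg f x).toAlgebra
    IsReduced (TensorProduct k (X.residueField x) k') := by
  letI : Algebra k (X.residueField x) := (resAlg f x).toAlgebra
  apply isReduced_ofLocalizationMaximal
  intro J hJ
  haveI := hJ.isPrime
  obtain ⟨x', hx', ⟨e⟩⟩ := exists_point_of_prime f k' x ⟨J, hJ.isPrime⟩
  have h1 := (fibre_facts_of_finite f F k' hred x' (hx' ▸ hx)).2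
  exact isReduced_of_maximalIdeal_eq_bot (maximalIdeal_eq_bot_of_ringEquiv e h1)

/-- the residue fields of the associated points of a geometrically reduced module are separable -/
theorem isReduced_residue_tensor
    (H : ∀ (k' : Type u) [Field k'] [Algebra k k'] [FiniteDimensional k k']
      [IsPurelyInseparable k k'],
      AssSch.IsReducedMod ((Scheme.Modules.pullback (FBase.bcπ f k')).obj F))
    (x : X) (hx : x ∈ AssSch.Ass F) (K : Type u) [Field K] [Algebra k K] :
    letI : Algebra k (X.residueField x) := (resAlg f x).toAlgebra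
    IsReduced (TensorProduct k (X.residueField x) K) := by
  letI : Algebra k (X.residueField x) := (resAlg f x).toAlgebra
  have h1 : ∀ (k' : Type u) [Field k'] [Algebra k k'] [Module.Finite k k']
      [IsPurelyInseparable k k'], IsReduced (k' ⊗[k] X.residueField x) := by
    intro k' _ _ _ _
    haveI := isLocallyNoetherian_bc_of_finite f k'
    haveI := isReduced_residue_tensor_of_finite f F k' (H k') x hx
    exact isReduced_of_injective
      (Algebra.TensorProduct.comm k k' (X.residueField x)).toRingHom (AlgEquiv.injective _)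
  haveI := Groth.Agent.H1.GeomRed.red_algClosure_of_finite_insep h1
  haveI := Groth.Agent.H1.GeomRed.red_of_algClosure (k := k) (S := X.residueField x) K
  exact isReduced_of_injective
    (Algebra.TensorProduct.comm k (X.residueField x) K).toRingHom (AlgEquiv.injective _)

theorem maximalIdeal_fibreRing_eq_bot
    (H : ∀ (k' : Type u) [Field k'] [Algebra k k'] [FiniteDimensional k k']
      [IsPurelyInseparable k k'],
      AssSch.IsReducedMod ((Scheme.Modules.pullback (FBase.bcπ f k')).obj F))
    (K : Type u) [Field K] [Algebra k K] (z : ↥(FBase.bc f K))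
    (hz : FBase.bcπ f K z ∈ AssSch.Ass F)
    (hs : HasSocle ((FBase.bc f K).presheaf.stalk z) (fibreRing (FBase.bcπ f K) z)) :
    maximalIdeal (fibreRing (FBase.bcπ f K) z) = ⊥ := by
  letI : Algebra k (X.residueField (FBase.bcπ f K z)) := (resAlg f (FBase.bcπ f K z)).toAlgebra
  obtain ⟨q, ⟨e⟩⟩ := exists_prime_fibreRing f K z
  haveI : IsReduced (TensorProduct k (X.residueField (FBase.bcπ f K z)) K) :=
    isReduced_residue_tensor f F H (FBase.bcπ f K z) hz K
  haveI : IsReduced (fibreRing (FBase.bcπ f K) z) :=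
    isReduced_of_injective e.toRingHom e.injective
  exact maximalIdeal_eq_bot_of_hasSocle ((hasSocle_quotient_iff _).mp hs)

/-- **S4659** -/
theorem isReducedMod_bc_iff :
    (∀ (k' : Type u) [Field k'] [Algebra k k'] [FiniteDimensional k k']
      [IsPurelyInseparable k k'],
        AssSch.IsReducedMod ((Scheme.Modules.pullback (FBase.bcπ f k')).obj F)) ↔
      ∀ (K : Type u) [Field K] [Algebra k K] [IsLocallyNoetherian (FBase.bc f K)],
        AssSch.IsReducedMod ((Scheme.Modules.pullback (FBase.bcπ f K)).obj F) := by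
  constructor
  · intro H K _ _ _
    haveI := isLocallyNoetherian_bc_of_finite f k
    have hk := H k
    have hne : AssSch.NoEmbedded F := noEmbedded_of_bc_finite f F k hk.1
    constructor
    · intro z hz w hw hsp
      have hz' := (mem_ass_pullback_iff (FBase.bcπ f K) F z).mp hz
      have hw' := (mem_ass_pullback_iff (FBase.bcπ f K) F w).mp hw
      have hπ : FBase.bcπ f K z = FBase.bcπ f K w :=
        hne _ hz'.1 _ hw'.1 (hsp.map (FBase.bcπ f K).continuous)
      have hbot := maximalIdeal_fibreRing_eq_bot f F H K z hz'.1 hz'.2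
      exact (eq_of_specializes_of_fibreIdeal_eq (FBase.bcπ f K) z w hsp hπ.symm
        (eq_maximalIdeal_of_maximalIdeal_quotient_eq_bot _ hbot)).symm
    · intro z hz
      have hz' := (mem_ass_pullback_iff (FBase.bcπ f K) F z).mp hz
      have hbot := maximalIdeal_fibreRing_eq_bot f F H K z hz'.1 hz'.2
      rw [length_stalk_pullback, length_quotient_eq,
        length_self_eq_one_of_maximalIdeal_eq_bot hbot, mul_one]
      exact length_stalk_eq_one_of_mem_ass f F hk _ hz'.1
  · intro H k' _ _ _ _
    haveI := isLocallyNoetherian_bc_of_finite f k'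
    exact H k'

end Main

end Groth.Agent.H3.FlatAss
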