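import Mathlib

/-!
# p-power lengths at minimal primes: basics (helper3, for S1875)
-/

namespace Groth.Agent.H3.PLen

open TensorProduct

/-- The length of a ring over itself is invariant under ring isomorphisms. -/
theorem length_eq_of_ringEquiv {A B : Type*} [CommRing A] [CommRing B] (e : A ≃+* B) :
    Module.length A A = Module.length B B := by
  letI : Algebra A B := e.toRingHom.toAlgebra
  have h1 : Module.length A B = Module.length B B :=
    Module.length_eq_of_surjective (S := A) (R := B) (M := B) e.surjective
  have e' : A ≃ₗ[A] B :=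
    { e.toAddEquiv with
      map_smul' := fun a x => by
        rw [RingHom.id_apply, Algebra.smul_def (R := A) (A := B), smul_eq_mul]
        exact map_mul e a x }
  rw [← h1]
  exact e'.length_eq

/-- All localisations at minimal primes have length a power of `p`. -/
def PGood (p : ℕ) (R : Type*) [CommRing R] : Prop :=
  ∀ (q : Ideal R) [q.IsPrime], q ∈ minimalPrimes R →
    ∃ n : ℕ, Module.length (Localization.AtPrime q) (Localization.AtPrime q) = (p ^ n : ℕ)

theorem comap_mem_minimalPrimes_of_ringEquiv {A B : Type*} [CommRing A] [CommRing B]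
    (e : A ≃+* B) (q : Ideal B) (hq : q ∈ minimalPrimes B) :
    q.comap (e : A →+* B) ∈ minimalPrimes A := by
  have hqp : q.IsPrime := hq.1.1
  refine ⟨⟨Ideal.comap_isPrime _ _, bot_le⟩, ?_⟩
  rintro p' ⟨hp', -⟩ hle
  have h1 : p'.comap (e.symm : B →+* A) ≤ q := by
    intro x hx
    have : e.symm x ∈ q.comap (e : A →+* B) := hle hx
    rw [Ideal.mem_comap] at this
    simpa using this
  have h2 : q ≤ p'.comap (e.symm : B →+* A) :=
    hq.2 ⟨Ideal.comap_isPrime _ _, bot_le⟩ h1
  intro y hy
  have : e y ∈ p'.comap (e.symm : B →+* A) := h2 hy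
  rw [Ideal.mem_comap] at this
  simpa using this

theorem PGood.of_ringEquiv {p : ℕ} {A B : Type*} [CommRing A] [CommRing B] (e : A ≃+* B)
    (h : PGood p A) : PGood p B := by
  intro q hqp hq
  have hq0 := comap_mem_minimalPrimes_of_ringEquiv e q hq
  haveI : (q.comap (e : A →+* B)).IsPrime := hq0.1.1
  obtain ⟨n, hn⟩ := h (q.comap (e : A →+* B)) hq0
  refine ⟨n, ?_⟩
  rw [← hn]
  exact (length_eq_of_ringEquiv
    (Localization.localRingEquiv (q.comap (e : A →+* B)) q e rfl)).symm

/-- In a reduced ring the localisation at a minimal prime is a field, so has length one. -/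
theorem length_eq_one_of_isReduced {R : Type*} [CommRing R] [IsReduced R] (q : Ideal R)
    [q.IsPrime] (hq : q ∈ minimalPrimes R) :
    Module.length (Localization.AtPrime q) (Localization.AtPrime q) = 1 := by
  have h1 := IsLocalization.AtPrime.radical_map_of_mem_minimalPrimes
    (A := Localization.AtPrime q) q ⊥ hq
  rw [Ideal.map_bot, Localization.AtPrime.map_eq_maximalIdeal] at h1
  have h2 : (⊥ : Ideal (Localization.AtPrime q)).radical = ⊥ := by
    have := nilradical_eq_zero (Localization.AtPrime q)
    simpa [nilradical] using this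
  have h3 : IsLocalRing.maximalIdeal (Localization.AtPrime q) = ⊥ := by rw [← h1, h2]
  have h4 : IsField (Localization.AtPrime q) :=
    IsLocalRing.isField_iff_maximalIdeal_eq.mpr h3
  haveI : IsSimpleModule (Localization.AtPrime q) (Localization.AtPrime q) :=
    { toIsSimpleOrder := Ring.isField_iff_isSimpleOrder_ideal.mp h4 }
  exact Module.length_eq_one _ _

theorem PGood.of_isReduced (p : ℕ) (R : Type*) [CommRing R] [IsReduced R] : PGood p R := by
  intro q hqp hq
  exact ⟨0, by rw [length_eq_one_of_isReduced q hq]; simp⟩

/-- For a local ring whose maximal ideal is the prime in question, localisation does nothing. -/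
theorem length_localization_maximalIdeal {T : Type*} [CommRing T] [IsLocalRing T]
    (q : Ideal T) [q.IsPrime] (hq : q = IsLocalRing.maximalIdeal T) :
    Module.length (Localization.AtPrime q) (Localization.AtPrime q) = Module.length T T := by
  have H : q.primeCompl ≤ IsUnit.submonoid T := by
    intro x hx
    have hx' : x ∉ IsLocalRing.maximalIdeal T := by rw [← hq]; exact hx
    have hu : IsUnit x := by
      simpa [IsLocalRing.mem_maximalIdeal, mem_nonunits_iff] using hx'
    exact hu
  exact (length_eq_of_ringEquiv
    (IsLocalization.atUnits T q.primeCompl (S := Localization.AtPrime q) H).toRingEquiv).symm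

end Groth.Agent.H3.PLen
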