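import Mathlib
import Groth.Agent.Lib.Helper3.PLenA

/-!
# p-power lengths at minimal primes: the flat step (helper3, for S1875)
-/

namespace Groth.Agent.H3.PLen

open TensorProduct

universe u v

section Formula

variable {R : Type u} {S : Type v} [CommRing R] [CommRing S] [Algebra R S] [Module.Flat R S]

/-- `ℓ(S_r) = ℓ(R_q) · ℓ((κ(q) ⊗ S)_{q''})` for a flat `R`-algebra `S`, where `q''` is the prime
of the fibre corresponding to `r`. -/
theorem length_localization_eq_mul (q : Ideal R) [q.IsPrime] (q'' : Ideal (q.Fiber S))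
    [q''.IsPrime] (r : Ideal S) [r.IsPrime]
    (hr : q''.comap (Algebra.TensorProduct.includeRight : S →ₐ[R] q.Fiber S) = r) :
    Module.length (Localization.AtPrime r) (Localization.AtPrime r) =
      Module.length (Localization.AtPrime q) (Localization.AtPrime q) *
        Module.length (Localization.AtPrime q'') (Localization.AtPrime q'') := by
  subst hr
  set r := q''.comap (Algebra.TensorProduct.includeRight : S →ₐ[R] q.Fiber S) with hrdef
  haveI : r.LiesOver q := inferInstance
  letI : Algebra (Localization.AtPrime q) (Localization.AtPrime r) :=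
    Localization.AtPrime.algebraOfLiesOver q r
  haveI : Localization.AtPrime.IsLiesOverAlgebra q r := inferInstance
  haveI : Module.Flat (Localization.AtPrime q) (Localization.AtPrime r) := inferInstance
  haveI : IsLocalHom (algebraMap (Localization.AtPrime q) (Localization.AtPrime r)) := by
    rw [Localization.AtPrime.IsLiesOverAlgebra.algebraMap_eq]
    infer_instance
  have h1 := IsLocalRing.length_baseChange (Localization.AtPrime q) (Localization.AtPrime r)
    (Localization.AtPrime q)
  have h2 : Module.length (Localization.AtPrime r)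
      (Localization.AtPrime r ⊗[Localization.AtPrime q] Localization.AtPrime q) =
      Module.length (Localization.AtPrime r) (Localization.AtPrime r) :=
    (TensorProduct.AlgebraTensorModule.rid (Localization.AtPrime q) (Localization.AtPrime r)
      (Localization.AtPrime r)).length_eq
  rw [h2] at h1
  rw [h1]
  congr 1
  set I := (IsLocalRing.maximalIdeal (Localization.AtPrime q)).map
    (algebraMap (Localization.AtPrime q) (Localization.AtPrime r)) with hI
  have h3 : Module.length (Localization.AtPrime r) (Localization.AtPrime r ⧸ I) =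
      Module.length (Localization.AtPrime r ⧸ I) (Localization.AtPrime r ⧸ I) :=
    Module.length_eq_of_surjective Ideal.Quotient.mk_surjective
  rw [h3]
  have hIeq : I = q.map (algebraMap R (Localization.AtPrime r)) := by
    rw [hI, ← Localization.AtPrime.map_eq_maximalIdeal, Ideal.map_map,
      ← IsScalarTower.algebraMap_eq]
  have e1 : (Localization.AtPrime r ⧸ I) ≃+*
      (Localization.AtPrime r ⧸ q.map (algebraMap R (Localization.AtPrime r))) :=
    Ideal.quotEquivOfEq hIeq
  have e2 := (Ideal.Fiber.localizationAlgEquivQuotient q q'').toRingEquiv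
  have h4 := length_eq_of_ringEquiv e1
  have h5 := length_eq_of_ringEquiv (A := Localization.AtPrime q'')
    (B := Localization.AtPrime r ⧸ q.map (algebraMap R (Localization.AtPrime r))) e2
  rw [h4]
  exact h5.symm

end Formula

section Step

theorem under_mem_minimalPrimes_of_flat {R : Type*} {S : Type*} [CommRing R] [CommRing S]
    [Algebra R S] [Module.Flat R S] (q' : Ideal S) (hq' : q' ∈ minimalPrimes S) :
    q'.under R ∈ minimalPrimes R := by
  haveI : q'.IsPrime := hq'.1.1
  refine ⟨⟨inferInstance, bot_le⟩, ?_⟩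
  rintro p' ⟨hp', -⟩ hle
  haveI := hp'
  haveI : q'.LiesOver (q'.under R) := ⟨rfl⟩
  obtain ⟨P, hPle, hPprime, hPlies⟩ :=
    Ideal.exists_ideal_le_liesOver_of_le (p := p') (q := q'.under R) q' hle
  have h1 : q' ≤ P := hq'.2 ⟨hPprime, bot_le⟩ hPle
  have hPq : P = q' := le_antisymm hPle h1
  have h2 := hPlies.over
  rw [hPq] at h2
  exact h2.ge

variable {F : Type*} [Field F] (F' : Type*) [Field F'] [Algebra F F'] (R : Type u) [CommRing R]
  [Algebra F R]

/-- The flat step: if `R` is `p`-good and all `M ⊗[F] F'` (`M` a field) are `p`-good then so is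
`R ⊗[F] F'`. -/
theorem PGood.step (p : ℕ) (hR : PGood p R)
    (hbase : ∀ (M : Type u) [Field M] [Algebra F M], PGood p (M ⊗[F] F')) :
    PGood p (R ⊗[F] F') := by
  intro q' hq'p hq'
  have hqmin : q'.under R ∈ minimalPrimes R := under_mem_minimalPrimes_of_flat q' hq'
  haveI : (q'.under R).IsPrime := hqmin.1.1
  haveI : q'.LiesOver (q'.under R) := ⟨rfl⟩
  let Q : PrimeSpectrum ((q'.under R).Fiber (R ⊗[F] F')) :=
    PrimeSpectrum.primesOverOrderIsoFiber R (R ⊗[F] F') (q'.under R) ⟨q', ⟨hq'p, inferInstance⟩⟩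
  have hQ : Q.asIdeal.comap (Algebra.TensorProduct.includeRight :
      (R ⊗[F] F') →ₐ[R] (q'.under R).Fiber (R ⊗[F] F')) = q' := by
    have := (PrimeSpectrum.primesOverOrderIsoFiber R (R ⊗[F] F') (q'.under R)).symm_apply_apply
      ⟨q', ⟨hq'p, inferInstance⟩⟩
    exact congrArg Subtype.val this
  have hQmin : Q.asIdeal ∈ minimalPrimes ((q'.under R).Fiber (R ⊗[F] F')) := by
    refine ⟨⟨Q.2, bot_le⟩, ?_⟩
    rintro t ⟨ht, -⟩ hle
    have h1 : t.comap (Algebra.TensorProduct.includeRight :
        (R ⊗[F] F') →ₐ[R] (q'.under R).Fiber (R ⊗[F] F')) ≤ q' := by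
      exact (Ideal.comap_mono hle).trans hQ.le
    have h2 : q' ≤ t.comap (Algebra.TensorProduct.includeRight :
        (R ⊗[F] F') →ₐ[R] (q'.under R).Fiber (R ⊗[F] F')) :=
      hq'.2 ⟨Ideal.comap_isPrime _ _, bot_le⟩ h1
    have h3 : (PrimeSpectrum.primesOverOrderIsoFiber R (R ⊗[F] F') (q'.under R)).symm Q ≤
        (PrimeSpectrum.primesOverOrderIsoFiber R (R ⊗[F] F') (q'.under R)).symm ⟨t, ht⟩ := by
      rw [← Subtype.coe_le_coe]
      show Q.asIdeal.comap (Algebra.TensorProduct.includeRight :
        (R ⊗[F] F') →ₐ[R] (q'.under R).Fiber (R ⊗[F] F')) ≤ t.comap _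
      exact hQ.le.trans h2
    have h4 : Q ≤ ⟨t, ht⟩ := (OrderIso.le_iff_le _).mp h3
    exact h4
  have hfib : PGood p ((q'.under R).Fiber (R ⊗[F] F')) :=
    (hbase (q'.under R).ResidueField).of_ringEquiv
      (Algebra.TensorProduct.cancelBaseChange F R R (q'.under R).ResidueField F').symm.toRingEquiv
  haveI : Q.asIdeal.IsPrime := Q.2
  obtain ⟨m, hm⟩ := hfib Q.asIdeal hQmin
  obtain ⟨n, hn⟩ := hR (q'.under R) hqmin
  refine ⟨n + m, ?_⟩
  rw [length_localization_eq_mul (q'.under R) Q.asIdeal q' hQ, hn, hm]
  push_cast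
  ring

end Step

end Groth.Agent.H3.PLen
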