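import Mathlib
import Groth.Agent.Lib.Helper3.PLenB

/-!
# p-power lengths at minimal primes: base cases and assembly (helper3, for S1875)
-/

namespace Groth.Agent.H3.PLen

open TensorProduct

universe u v

section Transcendental

attribute [local instance] Algebra.TensorProduct.rightAlgebra in
/-- `k(t) ⊗_k K` is a domain. -/
theorem isDomain_fractionRing_mvPolynomial_tensor (ι : Type*) (k K : Type*) [Field k] [Field K]
    [Algebra k K] : IsDomain (FractionRing (MvPolynomial ι k) ⊗[k] K) := by
  have e0 : (MvPolynomial ι k ⊗[k] K) ≃+* MvPolynomial ι K :=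
    ((Algebra.TensorProduct.comm k (MvPolynomial ι k) K).trans
      ((MvPolynomial.algebraTensorAlgEquiv k K).restrictScalars k)).toRingEquiv
  haveI : IsDomain (MvPolynomial ι k ⊗[k] K) := MulEquiv.isDomain _ e0.toMulEquiv
  have hinj : Function.Injective (algebraMap (MvPolynomial ι k) (MvPolynomial ι k ⊗[k] K)) :=
    Algebra.TensorProduct.includeLeft_injective (S := MvPolynomial ι k)
      (algebraMap k K).injective
  have hM : Algebra.algebraMapSubmonoid (MvPolynomial ι k ⊗[k] K)
      (nonZeroDivisors (MvPolynomial ι k)) ≤ nonZeroDivisors (MvPolynomial ι k ⊗[k] K) := by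
    rintro x ⟨a, ha, rfl⟩
    refine mem_nonZeroDivisors_of_ne_zero ?_
    intro h0
    have : a = 0 := hinj (by rw [h0, map_zero])
    exact (nonZeroDivisors.ne_zero ha) this
  haveI : IsDomain (FractionRing (MvPolynomial ι k) ⊗[MvPolynomial ι k]
      (MvPolynomial ι k ⊗[k] K)) :=
    IsLocalization.isDomain_of_le_nonZeroDivisors (R := MvPolynomial ι k ⊗[k] K)
      (M := Algebra.algebraMapSubmonoid (MvPolynomial ι k ⊗[k] K)
        (nonZeroDivisors (MvPolynomial ι k)))
      (FractionRing (MvPolynomial ι k) ⊗[MvPolynomial ι k] (MvPolynomial ι k ⊗[k] K)) hM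
  exact MulEquiv.isDomain _
    (Algebra.TensorProduct.cancelBaseChange k (MvPolynomial ι k) (MvPolynomial ι k)
      (FractionRing (MvPolynomial ι k)) K).symm.toRingEquiv.toMulEquiv

end Transcendental

section Separable

/-- Separable base case: `M ⊗[F] F'` is reduced. -/
theorem PGood.of_isSeparable (p : ℕ) {F : Type*} [Field F] (F' : Type*) [Field F'] [Algebra F F']
    [Algebra.IsSeparable F F'] [FiniteDimensional F F'] (M : Type*) [Field M] [Algebra F M] :
    PGood p (M ⊗[F] F') := by
  haveI : Algebra.FormallyUnramified F F' := Algebra.FormallyUnramified.of_isSeparable F F'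
  haveI : Algebra.FormallyUnramified M (M ⊗[F] F') := inferInstance
  haveI : Algebra.EssFiniteType M (M ⊗[F] F') := inferInstance
  haveI : IsReduced (M ⊗[F] F') := Algebra.FormallyUnramified.isReduced_of_field M (M ⊗[F] F')
  exact PGood.of_isReduced p _

end Separable

section Insep

theorem enat_mul_eq_pow {p : ℕ} (hp : p.Prime ∨ p = 1) {x y : ℕ∞} {a : ℕ}
    (hx0 : x ≠ 0) (hy0 : y ≠ 0) (h : x * y = (p ^ a : ℕ)) : ∃ n : ℕ, x = (p ^ n : ℕ) := by
  have hxt : x ≠ ⊤ := by
    rintro rfl
    rw [ENat.top_mul hy0] at h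
    exact ENat.top_ne_natCast _ h
  have hyt : y ≠ ⊤ := by
    rintro rfl
    rw [ENat.mul_top hx0] at h
    exact ENat.top_ne_natCast _ h
  lift x to ℕ using hxt
  lift y to ℕ using hyt
  have h' : x * y = p ^ a := by exact_mod_cast h
  have hdvd : x ∣ p ^ a := ⟨y, h'.symm⟩
  rcases hp with hp | rfl
  · obtain ⟨n, -, hn⟩ := (Nat.dvd_prime_pow hp).mp hdvd
    exact ⟨n, by rw [hn]⟩
  · rw [one_pow] at hdvd
    exact ⟨0, by rw [Nat.dvd_one.mp hdvd]; simp⟩

/-- Purely inseparable base case. -/
theorem PGood.of_isPurelyInseparable (p : ℕ) {F : Type*} [Field F] [ExpChar F p] (F' : Type*)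
    [Field F'] [Algebra F F'] [IsPurelyInseparable F F'] [FiniteDimensional F F'] (M : Type*)
    [Field M] [Algebra F M] : PGood p (M ⊗[F] F') := by
  have hhomeo := PrimeSpectrum.isHomeomorph_comap_of_isPurelyInseparable F F' M
  have hbij := hhomeo.bijective
  have hsub : ∀ a b : PrimeSpectrum (M ⊗[F] F'), a = b := fun a b =>
    hbij.1 (Subsingleton.elim _ _)
  obtain ⟨P0, -⟩ := hbij.2 default
  haveI : Nontrivial (M ⊗[F] F') := by
    by_contra hnt
    rw [not_nontrivial_iff_subsingleton] at hnt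
    exact P0.2.ne_top (Subsingleton.elim _ _)
  haveI : IsLocalRing (M ⊗[F] F') := by
    obtain ⟨m, hm⟩ := Ideal.exists_maximal (M ⊗[F] F')
    refine IsLocalRing.of_unique_max_ideal ⟨m, hm, fun m' hm' => ?_⟩
    exact congrArg PrimeSpectrum.asIdeal (hsub ⟨m', hm'.isPrime⟩ ⟨m, hm.isPrime⟩)
  haveI : IsLocalHom (algebraMap M (M ⊗[F] F')) := by
    refine ⟨fun a ha => ?_⟩
    rcases eq_or_ne a 0 with rfl | h0
    · rw [map_zero] at ha
      exact absurd ha not_isUnit_zero
    · exact isUnit_iff_ne_zero.mpr h0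
  have hlen := IsLocalRing.length_restrictScalars M (M ⊗[F] F') (M ⊗[F] F')
  rw [Module.length_eq_finrank, Module.finrank_baseChange] at hlen
  obtain ⟨a, ha⟩ := IsPurelyInseparable.finrank_eq_pow (F := F) F' p
  rw [ha] at hlen
  have hx0 : Module.length (M ⊗[F] F') (M ⊗[F] F') ≠ 0 := by
    rw [← pos_iff_ne_zero]; exact Module.length_pos
  have hy0 : Module.length (IsLocalRing.ResidueField M)
      (IsLocalRing.ResidueField (M ⊗[F] F')) ≠ 0 := by
    rw [← pos_iff_ne_zero]; exact Module.length_pos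
  obtain ⟨n, hn⟩ := enat_mul_eq_pow (expChar_is_prime_or_one F p) hx0 hy0 hlen.symm
  intro q hqp hq
  have hqm : q = IsLocalRing.maximalIdeal (M ⊗[F] F') :=
    congrArg PrimeSpectrum.asIdeal
      (hsub ⟨q, hqp⟩ ⟨IsLocalRing.maximalIdeal _, inferInstance⟩)
  exact ⟨n, by rw [length_localization_maximalIdeal q hqm, hn]⟩

end Insep

section Main

theorem PGood.of_isDomain (p : ℕ) (R : Type*) [CommRing R] [IsDomain R] : PGood p R :=
  PGood.of_isReduced p R

/-- The chain `k ⊆ E0 ⊆ Ls ⊆ L` with `E0 ⊗ K` good, `Ls/E0` finite separable and `L/Ls` finite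
purely inseparable. -/
theorem pgood_chain (k K E0 Ls L : Type u) [Field k] [Field K] [Field E0] [Field Ls] [Field L]
    [Algebra k K] [Algebra k E0] [Algebra k Ls] [Algebra k L] [Algebra E0 Ls] [Algebra Ls L]
    [IsScalarTower k E0 Ls] [IsScalarTower k Ls L] [Algebra.IsSeparable E0 Ls]
    [FiniteDimensional E0 Ls] [IsPurelyInseparable Ls L] [FiniteDimensional Ls L]
    (p : ℕ) [ExpChar k p] (h0 : PGood p (E0 ⊗[k] K)) : PGood p (K ⊗[k] L) := by
  haveI : ExpChar Ls p := expChar_of_injective_algebraMap (algebraMap k Ls).injective p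
  have h1' : PGood p ((E0 ⊗[k] K) ⊗[E0] Ls) :=
    PGood.step Ls (E0 ⊗[k] K) p h0 (fun M _ _ => PGood.of_isSeparable p Ls M)
  have h1 : PGood p (Ls ⊗[k] K) :=
    h1'.of_ringEquiv
      (((Algebra.TensorProduct.comm E0 (E0 ⊗[k] K) Ls).trans
        (Algebra.TensorProduct.cancelBaseChange k E0 E0 Ls K)).toRingEquiv)
  have h2' : PGood p ((Ls ⊗[k] K) ⊗[Ls] L) :=
    PGood.step L (Ls ⊗[k] K) p h1 (fun M _ _ => PGood.of_isPurelyInseparable p L M)
  have h2 : PGood p (L ⊗[k] K) :=
    h2'.of_ringEquiv
      (((Algebra.TensorProduct.comm Ls (Ls ⊗[k] K) L).trans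
        (Algebra.TensorProduct.cancelBaseChange k Ls Ls L K)).toRingEquiv)
  exact h2.of_ringEquiv (Algebra.TensorProduct.comm k L K).toRingEquiv

/-- Main theorem: for `L/k` finitely generated, all minimal-prime localisations of `K ⊗[k] L`
have length a power of the exponential characteristic. -/
theorem pgood_tensor (k K L : Type u) [Field k] [Field K] [Field L] [Algebra k K] [Algebra k L]
    (hL : (⊤ : IntermediateField k L).FG) (p : ℕ) [ExpChar k p] : PGood p (K ⊗[k] L) := by
  haveI : Algebra.EssFiniteType k L := IntermediateField.fg_top_iff.mp hL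
  obtain ⟨s, hs⟩ := exists_isTranscendenceBasis k L
  let E0 : IntermediateField k L := IntermediateField.adjoin k (Set.range ((↑) : s → L))
  haveI : Algebra.IsAlgebraic E0 L := hs.isAlgebraic_field
  haveI : Algebra.EssFiniteType E0 L := Algebra.EssFiniteType.of_comp k E0 L
  haveI : Module.Finite E0 L := Algebra.finite_of_essFiniteType_of_isAlgebraic
  let Ls : IntermediateField E0 L := separableClosure E0 L
  haveI : Algebra.IsSeparable E0 Ls := inferInstance
  haveI : IsPurelyInseparable Ls L := separableClosure.isPurelyInseparable E0 L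
  haveI : FiniteDimensional E0 Ls := inferInstance
  haveI : FiniteDimensional Ls L := inferInstance
  haveI : IsScalarTower k Ls L := IsScalarTower.of_algebraMap_eq (fun x => rfl)
  haveI : IsScalarTower k E0 Ls := inferInstance
  -- step 0: `E0 ⊗ K` is a domain
  have h0 : PGood p (E0 ⊗[k] K) := by
    haveI : IsDomain (FractionRing (MvPolynomial s k) ⊗[k] K) :=
      isDomain_fractionRing_mvPolynomial_tensor s k K
    exact (PGood.of_isDomain p (FractionRing (MvPolynomial s k) ⊗[k] K)).of_ringEquiv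
      (Algebra.TensorProduct.congr hs.1.aevalEquivField (AlgEquiv.refl : K ≃ₐ[k] K)).toRingEquiv
  exact pgood_chain k K E0 Ls L p h0

end Main

end Groth.Agent.H3.PLen
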