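import Mathlib
import Groth.Agent.Lib.Helper3.PLenA
import Groth.Agent.Lib.Helper3.PLenC

/-!
# Socle elements in localisations of `K ⊗[k] L` force minimal primes (helper3, for S4635)
-/

universe u

open TensorProduct IsLocalRing

namespace Groth.Agent.H3.ProdAss

/-- flat integral extension of a domain: a prime whose localisation has a nonzero element killed by
the maximal ideal is minimal (no Noetherian hypothesis). -/
theorem minimal_of_socle_flat_integral (D B : Type*) [CommRing D] [IsDomain D] [CommRing B]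
    [Algebra D B] [Module.Flat D B] [Algebra.IsIntegral D B] (Q : Ideal B) [hQ : Q.IsPrime]
    (c : Localization.AtPrime Q) (hc : c ≠ 0)
    (hm : ∀ m ∈ maximalIdeal (Localization.AtPrime Q), m * c = 0) : Q ∈ minimalPrimes B := by
  have hcomap : Q.comap (algebraMap D B) = ⊥ := by
    rw [eq_bot_iff]
    intro d hd
    rw [Ideal.mem_comap] at hd
    by_contra hne
    have hd0 : d ≠ 0 := hne
    have hreg : IsSMulRegular D d := (IsRegular.of_ne_zero hd0).left.isSMulRegular
    have hreg' : IsSMulRegular B (algebraMap D B d) := hreg.of_flat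
    have hreg'' : IsSMulRegular (Localization.AtPrime Q)
        (algebraMap B (Localization.AtPrime Q) (algebraMap D B d)) :=
      hreg'.of_isLocalization (Localization.AtPrime Q) Q.primeCompl
    have hmem : algebraMap B (Localization.AtPrime Q) (algebraMap D B d) ∈
        maximalIdeal (Localization.AtPrime Q) :=
      (IsLocalization.AtPrime.to_map_mem_maximal_iff (Localization.AtPrime Q) Q _).mpr hd
    have h0 := hm _ hmem
    have h1 : algebraMap B (Localization.AtPrime Q) (algebraMap D B d) • c =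
        algebraMap B (Localization.AtPrime Q) (algebraMap D B d) • (0 : Localization.AtPrime Q) := by
      rw [smul_zero, smul_eq_mul]
      exact h0
    exact hc (hreg'' h1)
  refine ⟨⟨hQ, bot_le⟩, ?_⟩
  rintro q ⟨hq, -⟩ hqp
  by_contra hnot
  have hlt : q < Q := lt_of_le_of_ne hqp (fun h => hnot (h ▸ le_rfl))
  haveI := hq
  have h2 := Ideal.IsIntegral.comap_lt_comap (R := D) hlt
  rw [hcomap] at h2
  exact not_lt_bot h2

/-- transport along a ring isomorphism -/
theorem minimal_of_socle_of_ringEquiv {B' B : Type*} [CommRing B'] [CommRing B] (e : B' ≃+* B)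
    (H : ∀ (Q' : Ideal B') [Q'.IsPrime] (c : Localization.AtPrime Q'), c ≠ 0 →
      (∀ m ∈ maximalIdeal (Localization.AtPrime Q'), m * c = 0) → Q' ∈ minimalPrimes B')
    (Q : Ideal B) [hQ : Q.IsPrime] (c : Localization.AtPrime Q) (hc : c ≠ 0)
    (hm : ∀ m ∈ maximalIdeal (Localization.AtPrime Q), m * c = 0) : Q ∈ minimalPrimes B := by
  haveI : (Q.comap (e : B' →+* B)).IsPrime := Ideal.comap_isPrime _ _
  let ε := Localization.localRingEquiv (Q.comap (e : B' →+* B)) Q e rfl
  have h1 : Q.comap (e : B' →+* B) ∈ minimalPrimes B' := by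
    refine H _ (ε.symm c) ?_ ?_
    · intro h0
      exact hc (by simpa using congrArg ε h0)
    · intro m hmm
      have hm' : ε m ∈ maximalIdeal (Localization.AtPrime Q) := by
        rw [mem_maximalIdeal, mem_nonunits_iff] at hmm ⊢
        intro hu
        exact hmm (by simpa using hu.map ε.symm)
      have := hm _ hm'
      apply ε.injective
      rw [map_mul, RingEquiv.apply_symm_apply, this, map_zero]
  have h2 := Groth.Agent.H3.PLen.comap_mem_minimalPrimes_of_ringEquiv e.symm _ h1
  have h3 : (Q.comap (e : B' →+* B)).comap (e.symm : B →+* B') = Q := by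
    ext b
    show e (e.symm b) ∈ Q ↔ b ∈ Q
    rw [RingEquiv.apply_symm_apply]
  rwa [h3] at h2

variable (k K L : Type u) [Field k] [Field K] [Field L] [Algebra k K] [Algebra k L]

theorem minimal_of_socle_aux (E : Type u) [Field E] [Algebra k E] [Algebra E K]
    [IsScalarTower k E K] [Algebra.IsAlgebraic E K] [IsDomain (E ⊗[k] L)]
    (Q : Ideal (K ⊗[k] L)) [Q.IsPrime]
    (c : Localization.AtPrime Q) (hc : c ≠ 0)
    (hm : ∀ m ∈ maximalIdeal (Localization.AtPrime Q), m * c = 0) :
    Q ∈ minimalPrimes (K ⊗[k] L) := by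
  let e1 : (E ⊗[k] L) ⊗[E] K ≃ₐ[E] K ⊗[E] (E ⊗[k] L) := Algebra.TensorProduct.comm E _ K
  let e2 : K ⊗[E] (E ⊗[k] L) ≃ₐ[K] K ⊗[k] L := Algebra.TensorProduct.cancelBaseChange k E K K L
  let e : (E ⊗[k] L) ⊗[E] K ≃+* K ⊗[k] L := e1.toRingEquiv.trans e2.toRingEquiv
  haveI : Algebra.IsIntegral E K := inferInstance
  exact minimal_of_socle_of_ringEquiv e
    (fun Q' _ c' hc' hm' => minimal_of_socle_flat_integral (E ⊗[k] L) _ Q' c' hc' hm') Q c hc hm

/-- In `K ⊗[k] L`, a prime whose localisation has a nonzero socle element is minimal. -/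
theorem minimal_of_socle (Q : Ideal (K ⊗[k] L)) [Q.IsPrime]
    (c : Localization.AtPrime Q) (hc : c ≠ 0)
    (hm : ∀ m ∈ maximalIdeal (Localization.AtPrime Q), m * c = 0) :
    Q ∈ minimalPrimes (K ⊗[k] L) := by
  obtain ⟨ι, x, hx⟩ := exists_isTranscendenceBasis' k K
  haveI : Algebra.IsAlgebraic (IntermediateField.adjoin k (Set.range x)) K :=
    hx.isAlgebraic_field
  haveI : IsDomain (IntermediateField.adjoin k (Set.range x) ⊗[k] L) := by
    haveI := Groth.Agent.H3.PLen.isDomain_fractionRing_mvPolynomial_tensor ι k L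
    exact MulEquiv.isDomain (FractionRing (MvPolynomial ι k) ⊗[k] L)
      (Algebra.TensorProduct.congr hx.1.aevalEquivField
        (AlgEquiv.refl : L ≃ₐ[k] L)).symm.toRingEquiv.toMulEquiv
  exact minimal_of_socle_aux k K L (IntermediateField.adjoin k (Set.range x)) Q c hc hm

end Groth.Agent.H3.ProdAss
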