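import Mathlib
import Groth.Prelude.Def_FDesc
import Groth.Agent.Lib.Helper1.ProdStalk
import Groth.Agent.Lib.Helper1.StalkGen
import Groth.Agent.Lib.Helper5.SepPT.E0
import Groth.Agent.Lib.Lead.QC.TensorPow
import Groth.Agent.Lib.Helper3.ProdAssA

/-!
# Products of integral schemes over a field have no embedded components (helper3, S4635)
-/

set_option autoImplicit false
universe u
open CategoryTheory CategoryTheory.Limits AlgebraicGeometry IsLocalRing TensorProduct

namespace Groth.Agent.H3.ProdAss

open Groth.Agent.H1.StalkGen

/-- If the maximal ideal of the local ring at `x` is zero then `x` has no proper generization. -/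
theorem eq_of_specializes_of_maximalIdeal_le {X : Scheme.{u}} (x : X)
    (hle : ∀ P : Ideal (X.presheaf.stalk x), P.IsPrime → maximalIdeal (X.presheaf.stalk x) ≤ P)
    (w : X) (h : w ⤳ x) : w = x := by
  have h1 : (primeOf h).asIdeal = maximalIdeal (X.presheaf.stalk x) :=
    le_antisymm (IsLocalRing.le_maximalIdeal (primeOf h).2.ne_top) (hle _ (primeOf h).2)
  have h2 : primeOf h = closedPoint (X.presheaf.stalk x) := PrimeSpectrum.ext h1
  rw [← fromSpecStalk_primeOf h, h2, Scheme.fromSpecStalk_closedPoint]

/-- In the localisation at a minimal prime, every prime is the maximal ideal. -/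
theorem maximalIdeal_le_of_minimal {R : Type*} [CommRing R] (Q : Ideal R) [Q.IsPrime]
    (hQ : Q ∈ minimalPrimes R) (J : Ideal (Localization.AtPrime Q)) [J.IsPrime] :
    maximalIdeal (Localization.AtPrime Q) ≤ J := by
  have h1 : J.comap (algebraMap R (Localization.AtPrime Q)) ≤ Q := by
    have := Ideal.comap_mono (f := algebraMap R (Localization.AtPrime Q))
      (IsLocalRing.le_maximalIdeal (Ideal.IsPrime.ne_top ‹_›) : J ≤ maximalIdeal _)
    have h0 : (maximalIdeal (Localization.AtPrime Q)).comap
        (algebraMap R (Localization.AtPrime Q)) = Q :=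
      IsLocalization.AtPrime.under_maximalIdeal (Localization.AtPrime Q) Q
    rwa [h0] at this
  have h2 : Q ≤ J.comap (algebraMap R (Localization.AtPrime Q)) :=
    hQ.2 ⟨Ideal.comap_isPrime _ _, bot_le⟩ h1
  rw [← Localization.AtPrime.map_eq_maximalIdeal, Ideal.map_le_iff_le_comap]
  exact h2

/-- the stalk of the structure module is free of rank one over the local ring (light version of
helper2's `HomSh.unitStalkEquiv`). -/
noncomputable def unitStalkEquiv {X : Scheme.{u}} (x : X) :
    X.presheaf.stalk x ≃ₗ[X.presheaf.stalk x] (Coh.structureModule X).presheaf.stalk x :=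
  LinearEquiv.ofBijective _
    (Groth.Agent.H5.SepPT.bijective_toSpanSingleton_germ (Groth.Agent.LD.QC.unitMod X) ⊤
      (1 : Γ(X, ⊤)) (Groth.Agent.LD.QC.isBasisOver_one ⊤) x trivial)

/-- flat morphism to an integral scheme: a point whose local ring has a nonzero socle element lies
over the generic point. -/
theorem map_eq_genericPoint_of_socle {P X : Scheme.{u}} (f : P ⟶ X) [Flat f] [IsIntegral X]
    (z : P) (c : P.presheaf.stalk z) (hc : c ≠ 0)
    (hm : ∀ m ∈ maximalIdeal (P.presheaf.stalk z), m * c = 0) :
    f z = genericPoint X := by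
  have hfl : (f.stalkMap z).hom.Flat := (Flat.iff_flat_stalkMap f).mp inferInstance z
  letI : Algebra (X.presheaf.stalk (f z)) (P.presheaf.stalk z) := (f.stalkMap z).hom.toAlgebra
  haveI : Module.Flat (X.presheaf.stalk (f z)) (P.presheaf.stalk z) := hfl
  have hbot : maximalIdeal (X.presheaf.stalk (f z)) = ⊥ := by
    rw [eq_bot_iff]
    intro a ha
    rw [Submodule.mem_bot]
    by_contra ha0
    have hreg : IsSMulRegular (X.presheaf.stalk (f z)) a :=
      (IsRegular.of_ne_zero ha0).left.isSMulRegular
    have hreg' : IsSMulRegular (P.presheaf.stalk z)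
        (algebraMap (X.presheaf.stalk (f z)) (P.presheaf.stalk z) a) := hreg.of_flat
    have hmem : algebraMap (X.presheaf.stalk (f z)) (P.presheaf.stalk z) a ∈
        maximalIdeal (P.presheaf.stalk z) := by
      rw [mem_maximalIdeal, mem_nonunits_iff] at ha ⊢
      intro hu
      exact ha (isUnit_of_map_unit (f.stalkMap z).hom a hu)
    have h0 := hm _ hmem
    have h1 : algebraMap (X.presheaf.stalk (f z)) (P.presheaf.stalk z) a • c =
        algebraMap (X.presheaf.stalk (f z)) (P.presheaf.stalk z) a • (0 : P.presheaf.stalk z) := by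
      rw [smul_zero, smul_eq_mul]
      exact h0
    exact hc (hreg' h1)
  exact (eq_of_specializes_of_maximalIdeal_le (f z) (fun P _ => by rw [hbot]; exact bot_le)
    (genericPoint X) (genericPoint_specializes _)).symm

section Main

variable {k : Type u} [Field k] {X Y : Scheme.{u}}

attribute [local instance] Curv2.stalkAlgebra

/-- **S4635**: the product of two integral locally Noetherian `k`-schemes has no embedded
associated points (when locally Noetherian). -/
theorem noEmbedded_prod (f : X ⟶ Spec (CommRingCat.of k)) (g : Y ⟶ Spec (CommRingCat.of k))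
    [IsIntegral X] [IsIntegral Y] [IsLocallyNoetherian (pullback f g)] :
    AssSch.NoEmbedded (Coh.structureModule (pullback f g)) := by
  intro z hz w _ hwz
  letI : X.Over (Spec (CommRingCat.of k)) := ⟨f⟩
  letI : Y.Over (Spec (CommRingCat.of k)) := ⟨g⟩
  haveI : Flat f := inferInstance
  haveI : Flat g := inferInstance
  have hass : IsAssociatedPrime (maximalIdeal ((pullback f g).presheaf.stalk z))
      ((pullback f g).presheaf.stalk z) :=
    (unitStalkEquiv z).isAssociatedPrime_iff.mpr hz
  obtain ⟨-, c, hc⟩ := isAssociatedPrime_iff.mp hass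
  have hc0 : c ≠ 0 := by
    rintro rfl
    have : (1 : (pullback f g).presheaf.stalk z) ∈
        maximalIdeal ((pullback f g).presheaf.stalk z) := by
      rw [hc, Submodule.mem_colon_singleton]
      simp
    exact (Ideal.ne_top_iff_one _).mp (IsLocalRing.maximalIdeal.isMaximal _).ne_top this
  have hmc : ∀ m ∈ maximalIdeal ((pullback f g).presheaf.stalk z), m * c = 0 := by
    intro m hm
    rw [hc, Submodule.mem_colon_singleton, Submodule.mem_bot, smul_eq_mul] at hm
    exact hm
  have hx := map_eq_genericPoint_of_socle (pullback.fst f g) z c hc0 hmc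
  have hy := map_eq_genericPoint_of_socle (pullback.snd f g) z c hc0 hmc
  obtain ⟨Q, ⟨e⟩⟩ := Groth.Agent.H1.ProdStalk.exists_prime_of_point_aux k X Y f g rfl rfl z
    (genericPoint X) (genericPoint Y) hx hy
  have hQmin : Q.asIdeal ∈ minimalPrimes (X.functionField ⊗[k] Y.functionField) := by
    refine minimal_of_socle k X.functionField Y.functionField Q.asIdeal (e c) ?_ ?_
    · intro h0
      exact hc0 (e.injective (by rw [h0, map_zero]))
    · intro m hm
      have hm' : e.symm m ∈ maximalIdeal ((pullback f g).presheaf.stalk z) := by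
        rw [mem_maximalIdeal, mem_nonunits_iff] at hm ⊢
        intro hu
        exact hm (by simpa using hu.map e)
      have := congrArg e (hmc _ hm')
      rwa [map_mul, RingEquiv.apply_symm_apply, map_zero] at this
  refine (eq_of_specializes_of_maximalIdeal_le z ?_ w hwz).symm
  intro P hP
  haveI : (P.comap (e.symm : Localization.AtPrime Q.asIdeal →+*
      (pullback f g).presheaf.stalk z)).IsPrime := Ideal.comap_isPrime _ _
  have h1 := maximalIdeal_le_of_minimal Q.asIdeal hQmin
    (P.comap (e.symm : Localization.AtPrime Q.asIdeal →+* (pullback f g).presheaf.stalk z))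
  intro x hx
  have hx' : e x ∈ maximalIdeal (Localization.AtPrime Q.asIdeal) := by
    rw [mem_maximalIdeal, mem_nonunits_iff] at hx ⊢
    intro hu
    exact hx (by simpa using hu.map e.symm)
  have h2 := h1 hx'
  rw [Ideal.mem_comap] at h2
  simpa using h2

end Main

end Groth.Agent.H3.ProdAss
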