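import Mathlib
import Groth.Prelude.Def_FDesc
import Groth.Agent.Lib.Helper3.FlatAssD
import Groth.Agent.Lib.Helper3.ProdAssB

/-!
# Embedded points of the structure sheaf and base field extension (helper3, S2513)
-/

set_option autoImplicit false
universe u
open CategoryTheory CategoryTheory.Limits AlgebraicGeometry IsLocalRing TensorProduct

namespace Groth.Agent.H3.FlatAss

open Groth.Agent.H1.StalkGen

section Points

variable {X' X : Scheme.{u}} (π : X' ⟶ X)

/-- generizations of `z` in the fibre through `z` are the primes containing `𝔪_{π z}O_{X',z}`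
(argument of helper1's `exists_fibre_generic_specializes`). -/
theorem map_fromSpecStalk_eq_iff (z : X') (Q : PrimeSpectrum (X'.presheaf.stalk z)) :
    π (X'.fromSpecStalk z Q) = π z ↔ fibreIdeal π z ≤ Q.asIdeal := by
  rw [map_fromSpecStalk π z Q]
  constructor
  · intro h
    have h1 : PrimeSpectrum.comap (π.stalkMap z).hom Q = closedPoint (X.presheaf.stalk (π z)) :=
      fromSpecStalk_injective (π z) (h.trans Scheme.fromSpecStalk_closedPoint.symm)
    rw [Ideal.map_le_iff_le_comap]
    have := congrArg PrimeSpectrum.asIdeal h1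
    rw [PrimeSpectrum.comap_asIdeal] at this
    rw [this]
    rfl
  · intro h
    have h1 : PrimeSpectrum.comap (π.stalkMap z).hom Q = closedPoint (X.presheaf.stalk (π z)) := by
      apply PrimeSpectrum.ext
      symm
      apply (maximalIdeal.isMaximal _).eq_of_le
        (PrimeSpectrum.comap (π.stalkMap z).hom Q).2.ne_top
      exact Ideal.map_le_iff_le_comap.mp h
    rw [h1, Scheme.fromSpecStalk_closedPoint]

/-- every point is a specialisation of a point of its fibre which is maximal in that fibre -/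
theorem exists_maximal_in_fibre (z : X') :
    ∃ y : X', π y = π z ∧ y ⤳ z ∧ ∀ w : X', π w = π y → w ⤳ y → w = y := by
  obtain ⟨q, hqmin, -⟩ := Ideal.exists_minimalPrimes_le (fibreIdeal_le π z)
  haveI hqp : q.IsPrime := hqmin.1.1
  have hIq : fibreIdeal π z ≤ q := hqmin.1.2
  let Q : PrimeSpectrum (X'.presheaf.stalk z) := ⟨q, hqp⟩
  have hfy : π (X'.fromSpecStalk z Q) = π z := (map_fromSpecStalk_eq_iff π z Q).mpr hIq
  have hyx : X'.fromSpecStalk z Q ⤳ z := fromSpecStalk_specializes z Q
  refine ⟨X'.fromSpecStalk z Q, hfy, hyx, ?_⟩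
  intro w hfw hwy
  have hwz : w ⤳ z := hwy.trans hyx
  have hw : X'.fromSpecStalk z (primeOf hwz) = w := fromSpecStalk_primeOf hwz
  have h1 : fibreIdeal π z ≤ (primeOf hwz).asIdeal :=
    (map_fromSpecStalk_eq_iff π z _).mp (by rw [hw, hfw, hfy])
  have h2 : primeOf hwz ⤳ Q := by
    refine (X'.fromSpecStalk z).isEmbedding.isInducing.specializes_iff.1 ?_
    rw [hw]
    exact hwy
  have h3 : (primeOf hwz).asIdeal ≤ q := (PrimeSpectrum.le_iff_specializes _ Q).2 h2
  have h4 : q ≤ (primeOf hwz).asIdeal := hqmin.2 ⟨(primeOf hwz).2, h1⟩ h3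
  have h5 : primeOf hwz = Q := PrimeSpectrum.ext (le_antisymm h3 h4)
  rw [← hw, h5]

/-- at a maximal point of a fibre, every prime containing the fibre ideal is the maximal ideal -/
theorem forall_prime_of_maximal_in_fibre (z : X')
    (hmax : ∀ w : X', π w = π z → w ⤳ z → w = z) (P : Ideal (X'.presheaf.stalk z))
    (hP : P.IsPrime) (hle : fibreIdeal π z ≤ P) : P = maximalIdeal (X'.presheaf.stalk z) := by
  let Q : PrimeSpectrum (X'.presheaf.stalk z) := ⟨P, hP⟩
  have h1 := hmax _ ((map_fromSpecStalk_eq_iff π z Q).mpr hle) (fromSpecStalk_specializes z Q)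
  have h2 : Q = closedPoint (X'.presheaf.stalk z) :=
    fromSpecStalk_injective z (h1.trans Scheme.fromSpecStalk_closedPoint.symm)
  exact congrArg PrimeSpectrum.asIdeal h2

/-- if every prime containing the fibre ideal at `z` is maximal, `z` has no proper generization in
its fibre -/
theorem eq_of_specializes_of_forall_prime (z w : X') (h : w ⤳ z) (hπ : π w = π z)
    (hP : ∀ P : Ideal (X'.presheaf.stalk z), P.IsPrime → fibreIdeal π z ≤ P →
      P = maximalIdeal (X'.presheaf.stalk z)) : w = z := by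
  have h1 : fibreIdeal π z ≤ (primeOf h).asIdeal :=
    (map_fromSpecStalk_eq_iff π z _).mp (by rw [fromSpecStalk_primeOf, hπ])
  have h7 : primeOf h = closedPoint (X'.presheaf.stalk z) :=
    PrimeSpectrum.ext (hP _ (primeOf h).2 h1)
  rw [← fromSpecStalk_primeOf h, h7, Scheme.fromSpecStalk_closedPoint]

end Points

section Alg

variable {B : Type*} [CommRing B] [IsLocalRing B] (I : Ideal B)

/-- zero-dimensional Noetherian fibre ring has a socle element -/
theorem hasSocle_quotient_of_forall_prime [IsNoetherianRing B] [Nontrivial (B ⧸ I)]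
    (hP : ∀ P : Ideal B, P.IsPrime → I ≤ P → P = maximalIdeal B) : HasSocle B (B ⧸ I) := by
  obtain ⟨P, hP'⟩ := associatedPrimes.nonempty B (B ⧸ I)
  obtain ⟨hPp, c, hc⟩ := isAssociatedPrime_iff.mp hP'
  have hIP : I ≤ P := by
    intro r hr
    rw [hc, Submodule.mem_colon_singleton, Submodule.mem_bot]
    obtain ⟨c, rfl⟩ := Ideal.Quotient.mk_surjective c
    rw [← Ideal.Quotient.mk_eq_mk, ← Submodule.Quotient.mk_smul, Ideal.Quotient.mk_eq_mk,
      Ideal.Quotient.eq_zero_iff_mem]
    exact I.mul_mem_right _ hr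
  have := hP P hPp hIP
  exact hasSocle_of_isAssociatedPrime (this ▸ hP')

/-- primes of the quotient -/
theorem forall_prime_of_forall_prime_quotient [Nontrivial (B ⧸ I)]
    (h : letI := isLocalRing_quotient I
      ∀ P : Ideal (B ⧸ I), P.IsPrime → P = maximalIdeal (B ⧸ I))
    (P : Ideal B) (hP : P.IsPrime) (hle : I ≤ P) : P = maximalIdeal B := by
  letI := isLocalRing_quotient I
  have h1 : (P.map (Ideal.Quotient.mk I)).IsPrime :=
    Ideal.map_isPrime_of_surjective Ideal.Quotient.mk_surjective (by rwa [Ideal.mk_ker])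
  have h2 := h _ h1
  refine le_antisymm (IsLocalRing.le_maximalIdeal hP.ne_top) fun r hr => ?_
  have h3 : Ideal.Quotient.mk I r ∈ P.map (Ideal.Quotient.mk I) := by
    rw [h2]
    exact (mk_mem_maximalIdeal_iff I r).mpr hr
  rw [Ideal.mem_map_iff_of_surjective _ Ideal.Quotient.mk_surjective] at h3
  obtain ⟨s, hs, hrs⟩ := h3
  rw [Ideal.Quotient.eq] at hrs
  have : r = s - (s - r) := by ring
  rw [this]
  exact P.sub_mem hs (hle hrs)

theorem forall_prime_of_ringEquiv {S T : Type*} [CommRing S] [CommRing T] [IsLocalRing S]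
    [IsLocalRing T] (e : S ≃+* T) (h : ∀ P : Ideal T, P.IsPrime → maximalIdeal T ≤ P)
    (P : Ideal S) (hP : P.IsPrime) : P = maximalIdeal S := by
  haveI : (P.comap (e.symm : T →+* S)).IsPrime := Ideal.comap_isPrime _ _
  have h1 := h (P.comap (e.symm : T →+* S)) inferInstance
  refine le_antisymm (IsLocalRing.le_maximalIdeal hP.ne_top) fun x hx => ?_
  have hx' : e x ∈ maximalIdeal T := by
    rw [mem_maximalIdeal, mem_nonunits_iff] at hx ⊢
    intro hu
    exact hx (by simpa using hu.map e.symm)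
  have h2 := h1 hx'
  rw [Ideal.mem_comap] at h2
  simpa using h2

end Alg


section Str

theorem mem_ass_structureModule_iff {X : Scheme.{u}} [IsLocallyNoetherian X] (x : X) :
    x ∈ AssSch.Ass (Coh.structureModule X) ↔
      HasSocle (X.presheaf.stalk x) (X.presheaf.stalk x) := by
  rw [← isAssociatedPrime_maximalIdeal_iff]
  exact (Groth.Agent.H3.ProdAss.unitStalkEquiv x).isAssociatedPrime_iff.symm

variable {X' X : Scheme.{u}} (π : X' ⟶ X) [Flat π] [IsLocallyNoetherian X]

theorem hasSocle_stalk_iff (z : X') :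
    HasSocle (X'.presheaf.stalk z) (X'.presheaf.stalk z) ↔
      HasSocle (X.presheaf.stalk (π z)) (X.presheaf.stalk (π z)) ∧
        HasSocle (X'.presheaf.stalk z) (fibreRing π z) := by
  letI : Algebra (X.presheaf.stalk (π z)) (X'.presheaf.stalk z) := (π.stalkMap z).hom.toAlgebra
  haveI : Module.Flat (X.presheaf.stalk (π z)) (X'.presheaf.stalk z) :=
    (Flat.iff_flat_stalkMap π).mp inferInstance z
  haveI : IsLocalHom (algebraMap (X.presheaf.stalk (π z)) (X'.presheaf.stalk z)) :=
    inferInstanceAs (IsLocalHom (π.stalkMap z).hom)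
  exact hasSocle_of_isBaseChange_iff _
    (IsBaseChange.linearMap (X.presheaf.stalk (π z)) (X'.presheaf.stalk z))

/-- a maximal point of the fibre over an associated point is associated -/
theorem mem_ass_of_maximal_in_fibre [IsLocallyNoetherian X'] (z : X')
    (hz : HasSocle (X.presheaf.stalk (π z)) (X.presheaf.stalk (π z)))
    (hmax : ∀ w : X', π w = π z → w ⤳ z → w = z) :
    z ∈ AssSch.Ass (Coh.structureModule X') :=
  (mem_ass_structureModule_iff z).mpr ((hasSocle_stalk_iff π z).mpr
    ⟨hz, hasSocle_quotient_of_forall_prime _ (forall_prime_of_maximal_in_fibre π z hmax)⟩)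

/-- **descent**: no embedded points descends along flat surjective morphisms -/
theorem noEmbedded_of_flat_surjective [IsLocallyNoetherian X'] [Surjective π]
    (hne : AssSch.NoEmbedded (Coh.structureModule X')) :
    AssSch.NoEmbedded (Coh.structureModule X) := by
  intro xz hz xw hw hsp
  rw [mem_ass_structureModule_iff] at hz hw
  obtain ⟨z', rfl⟩ := (inferInstance : Surjective π).surj xz
  obtain ⟨z₀, hz₀π, -, hz₀max⟩ := exists_maximal_in_fibre π z'
  have hz₀ : z₀ ∈ AssSch.Ass (Coh.structureModule X') :=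
    mem_ass_of_maximal_in_fibre π z₀ (by rw [hz₀π]; exact hz) hz₀max
  have hsp' : xw ⤳ π z₀ := by rw [hz₀π]; exact hsp
  obtain ⟨w', hw'sp, rfl⟩ := (Flat.generalizingMap (f := π)) hsp'
  obtain ⟨w₀, hw₀π, hw₀sp, hw₀max⟩ := exists_maximal_in_fibre π w'
  have hw₀ : w₀ ∈ AssSch.Ass (Coh.structureModule X') :=
    mem_ass_of_maximal_in_fibre π w₀ (by rw [hw₀π]; exact hw) hw₀max
  have h := hne z₀ hz₀ w₀ hw₀ (hw₀sp.trans hw'sp)
  rw [← hz₀π, h, hw₀π]

end Str

section BC

variable {k : Type u} [Field k] {X : Scheme.{u}} (f : X ⟶ Spec (CommRingCat.of k))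
  [IsLocallyNoetherian X] (K : Type u) [Field K] [Algebra k K]

/-- **ascent** for field extensions -/
theorem noEmbedded_bc [IsLocallyNoetherian (FBase.bc f K)]
    (hne : AssSch.NoEmbedded (Coh.structureModule X)) :
    AssSch.NoEmbedded (Coh.structureModule (FBase.bc f K)) := by
  intro z hz w hw hsp
  rw [mem_ass_structureModule_iff, hasSocle_stalk_iff (FBase.bcπ f K)] at hz hw
  have hπ : FBase.bcπ f K z = FBase.bcπ f K w :=
    hne _ ((mem_ass_structureModule_iff _).mpr hz.1) _ ((mem_ass_structureModule_iff _).mpr hw.1)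
      (hsp.map (FBase.bcπ f K).continuous)
  letI : Algebra k (X.residueField (FBase.bcπ f K z)) := (resAlg f (FBase.bcπ f K z)).toAlgebra
  obtain ⟨q, ⟨e⟩⟩ := exists_prime_fibreRing f K z
  have hs : HasSocle (fibreRing (FBase.bcπ f K) z) (fibreRing (FBase.bcπ f K) z) :=
    (hasSocle_quotient_iff _).mp hz.2
  obtain ⟨c, hc0, hc⟩ := hasSocle_of_ringEquiv e hs
  have hqmin : q.asIdeal ∈ minimalPrimes (X.residueField (FBase.bcπ f K z) ⊗[k] K) :=
    Groth.Agent.H3.ProdAss.minimal_of_socle k (X.residueField (FBase.bcπ f K z)) K q.asIdeal c hc0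
      (fun m hm => hc m hm)
  have hall : ∀ P : Ideal (fibreRing (FBase.bcπ f K) z), P.IsPrime →
      P = maximalIdeal (fibreRing (FBase.bcπ f K) z) :=
    forall_prime_of_ringEquiv e (fun J hJ =>
      Groth.Agent.H3.ProdAss.maximalIdeal_le_of_minimal q.asIdeal hqmin J)
  exact (eq_of_specializes_of_forall_prime (FBase.bcπ f K) z w hsp hπ.symm
    (forall_prime_of_forall_prime_quotient _ hall)).symm

/-- **S2513** -/
theorem noEmbedded_bc_iff [IsLocallyNoetherian (FBase.bc f K)] :
    AssSch.NoEmbedded (Coh.structureModule X) ↔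
      AssSch.NoEmbedded (Coh.structureModule (FBase.bc f K)) :=
  ⟨noEmbedded_bc f K, noEmbedded_of_flat_surjective (FBase.bcπ f K)⟩

end BC

end Groth.Agent.H3.FlatAss
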