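import Mathlib
import Groth.Agent.Lib.Helper3.FlatAssA

/-!
# Associated maximal ideals of `N ⊗_A M` for a `B`-module `N` flat over `A` (helper3)

`A → B` local homomorphism of local rings, `A` Noetherian, `M` an `A`-module, `N` a `B`-module which
is flat over `A`.  Then `𝔪_B ∈ Ass_B(N ⊗_A M)` iff `𝔪_A ∈ Ass_A(M)` and `𝔪_B ∈ Ass_B(N ⊗_A A/𝔪_A)`
(phrased with socle elements), and `ℓ_B(N ⊗_A M) = ℓ_A(M) · ℓ_B(N ⊗_A A/𝔪_A)` when the fibre is
nonzero.
-/

set_option autoImplicit false

open TensorProduct IsLocalRing

namespace Groth.Agent.H3.TenAss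

open Groth.Agent.H3.FlatAss

section Flat

variable {A B : Type*} [CommRing A] [CommRing B] [IsLocalRing A] [IsLocalRing B] [Algebra A B]
  [IsLocalHom (algebraMap A B)] (M : Type*) [AddCommGroup M] [Module A M]
  (N : Type*) [AddCommGroup N] [Module A N] [Module B N] [IsScalarTower A B N]

variable [Module.Flat A N] [IsNoetherianRing A]

/-- An element of `N ⊗ M` killed by `𝔪_A` comes from `N ⊗ socleSub M`. -/
theorem exists_of_forall_smul_eq_zero (c : N ⊗[A] M)
    (hc : ∀ a ∈ maximalIdeal A, a • c = 0) :
    ∃ d : N ⊗[A] socleSub (A := A) M,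
      AlgebraTensorModule.lTensor B N (socleSub (A := A) M).subtype d = c := by
  classical
  obtain ⟨s, hs⟩ := (isNoetherianRing_iff_ideal_fg A).mp inferInstance (maximalIdeal A)
  let f : M →ₗ[A] (s → M) := LinearMap.pi fun i => (i : A) • LinearMap.id
  have hker : LinearMap.ker f = socleSub (A := A) M := by
    ext m
    rw [LinearMap.mem_ker]
    constructor
    · intro h a ha
      rw [← hs] at ha
      refine Submodule.span_induction (p := fun a _ => a • m = 0) ?_ ?_ ?_ ?_ ha
      · intro x hx
        have := congrFun h ⟨x, hx⟩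
        simpa [f] using this
      · exact zero_smul _ _
      · intro x y _ _ hx hy
        rw [add_smul, hx, hy, add_zero]
      · intro r x _ hx
        rw [smul_assoc, hx, smul_zero]
    · intro h
      funext i
      have hi : (i : A) ∈ maximalIdeal A := by
        rw [← hs]
        exact Submodule.subset_span i.2
      simpa [f] using h _ hi
  have hcker : c ∈ LinearMap.ker (AlgebraTensorModule.lTensor B N f) := by
    rw [LinearMap.mem_ker]
    have key : ∀ t : N ⊗[A] M, ∀ i : s,
        TensorProduct.piRight A B N (fun _ : s => M) (AlgebraTensorModule.lTensor B N f t) i =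
          (i : A) • t := by
      intro t i
      induction t with
      | zero => simp
      | tmul b m =>
        simp only [AlgebraTensorModule.lTensor_tmul, TensorProduct.piRight_apply,
          TensorProduct.piRightHom_tmul]
        simp [f, TensorProduct.tmul_smul]
      | add x y hx hy => rw [map_add, map_add, Pi.add_apply, hx, hy, smul_add]
    apply (TensorProduct.piRight A B N (fun _ : s => M)).injective
    rw [map_zero]
    funext i
    rw [key c i, Pi.zero_apply]
    exact hc _ (by rw [← hs]; exact Submodule.subset_span i.2)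
  rw [Module.Flat.ker_lTensor_eq] at hcker
  obtain ⟨d, hd⟩ := hcker
  let e := LinearEquiv.ofEq _ _ hker
  have key2 : ∀ d' : N ⊗[A] LinearMap.ker f,
      AlgebraTensorModule.lTensor B N (socleSub (A := A) M).subtype
        (AlgebraTensorModule.lTensor B N e.toLinearMap d') =
      AlgebraTensorModule.lTensor B N (LinearMap.ker f).subtype d' := by
    intro d'
    induction d' with
    | zero => simp
    | tmul b m => simp [e]
    | add x y hx hy => simp only [map_add, hx, hy]
  exact ⟨AlgebraTensorModule.lTensor B N e.toLinearMap d, (key2 d).trans hd⟩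

omit [IsNoetherianRing A] [Module.Flat A N] in
theorem smul_eq_zero_of_mem (c : N ⊗[A] M) (hc : ∀ b ∈ maximalIdeal B, b • c = 0) :
    ∀ a ∈ maximalIdeal A, a • c = 0 := by
  intro a ha
  rw [← algebraMap_smul B a c]
  exact hc _ (algebraMap_mem_maximalIdeal ha)

/-- a socle element upstairs forces a socle element downstairs. -/
theorem HasSocle.of_tensor (h : HasSocle B (N ⊗[A] M)) : HasSocle A M := by
  obtain ⟨c, hc0, hc⟩ := h
  obtain ⟨d, hd⟩ := exists_of_forall_smul_eq_zero (B := B) M N c (smul_eq_zero_of_mem M N c hc)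
  have hd0 : d ≠ 0 := by
    rintro rfl
    rw [map_zero] at hd
    exact hc0 hd.symm
  have hnt : Nontrivial (socleSub (A := A) M) := by
    by_contra hnt
    rw [not_nontrivial_iff_subsingleton] at hnt
    have : Subsingleton (N ⊗[A] socleSub (A := A) M) := inferInstance
    exact hd0 (Subsingleton.elim _ _)
  obtain ⟨v, hv⟩ := exists_ne (0 : socleSub (A := A) M)
  exact ⟨v.1, fun h0 => hv (Subtype.ext h0), v.2⟩

/-- a socle element upstairs forces a socle element of the fibre `N ⊗ A/𝔪_A`. -/
theorem HasSocle.fibre_of_tensor (h : HasSocle B (N ⊗[A] M)) :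
    HasSocle B (N ⊗[A] (A ⧸ maximalIdeal A)) := by
  classical
  obtain ⟨c, hc0, hc⟩ := h
  obtain ⟨d, hd⟩ := exists_of_forall_smul_eq_zero (B := B) M N c (smul_eq_zero_of_mem M N c hc)
  have hd0 : d ≠ 0 := by
    rintro rfl
    rw [map_zero] at hd
    exact hc0 hd.symm
  have hinj : Function.Injective
      (AlgebraTensorModule.lTensor B N (socleSub (A := A) M).subtype) :=
    Module.Flat.lTensor_preserves_injective_linearMap _ (Submodule.injective_subtype _)
  have hdm : ∀ b ∈ maximalIdeal B, b • d = 0 := by
    intro b hb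
    apply hinj
    rw [map_smul, hd, map_zero]
    exact hc b hb
  letI : Field (A ⧸ maximalIdeal A) := Ideal.Quotient.field (maximalIdeal A)
  have hV : Module.IsTorsionBySet A (socleSub (A := A) M) (maximalIdeal A : Set A) := by
    intro v a
    exact Subtype.ext (v.2 a.1 a.2)
  letI : Module (A ⧸ maximalIdeal A) (socleSub (A := A) M) := hV.module
  let bas := Module.Free.chooseBasis (A ⧸ maximalIdeal A) (socleSub (A := A) M)
  let E : socleSub (A := A) M ≃ₗ[A] (Module.Free.ChooseBasisIndex (A ⧸ maximalIdeal A)
      (socleSub (A := A) M) →₀ (A ⧸ maximalIdeal A)) := bas.repr.restrictScalars A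
  by_contra hno
  have hall : ∀ i, AlgebraTensorModule.lTensor B N
      ((Finsupp.lapply i : _ →ₗ[A] (A ⧸ maximalIdeal A)) ∘ₗ E.toLinearMap) d = 0 := by
    intro i
    by_contra hne
    exact hno ⟨_, hne, fun b hb => by rw [← map_smul, hdm b hb, map_zero]⟩
  have h1 : TensorProduct.finsuppRight A B N (A ⧸ maximalIdeal A) _
      (AlgebraTensorModule.lTensor B N E.toLinearMap d) = 0 := by
    ext i
    rw [TensorProduct.finsuppRight_apply, Finsupp.zero_apply]
    have := hall i
    rw [AlgebraTensorModule.lTensor_comp] at this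
    exact this
  have h2 : AlgebraTensorModule.lTensor B N E.toLinearMap d = 0 :=
    (TensorProduct.finsuppRight A B N (A ⧸ maximalIdeal A) _).injective (by rw [h1, map_zero])
  have h3 : Function.Injective (AlgebraTensorModule.lTensor B N E.toLinearMap) :=
    Module.Flat.lTensor_preserves_injective_linearMap _ E.injective
  exact hd0 (h3 (by rw [h2, map_zero]))

omit [IsNoetherianRing A] in
/-- socle elements downstairs and in the fibre give a socle element upstairs. -/
theorem HasSocle.tensor (h1 : HasSocle A M)
    (h2 : HasSocle B (N ⊗[A] (A ⧸ maximalIdeal A))) : HasSocle B (N ⊗[A] M) := by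
  obtain ⟨m, hm0, hm⟩ := h1
  let ψ : (A ⧸ maximalIdeal A) →ₗ[A] M :=
    Submodule.liftQ (maximalIdeal A) (LinearMap.toSpanSingleton A M m) (fun a ha => by
      rw [LinearMap.mem_ker, LinearMap.toSpanSingleton_apply]
      exact hm a ha)
  have hψ : Function.Injective ψ := by
    rw [injective_iff_map_eq_zero]
    intro x hx
    obtain ⟨a, rfl⟩ := Ideal.Quotient.mk_surjective x
    have hx' : a • m = 0 := hx
    rw [Ideal.Quotient.eq_zero_iff_mem]
    by_contra ha
    have hu : IsUnit a := by
      by_contra hnu
      exact ha ((mem_maximalIdeal a).mpr hnu)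
    obtain ⟨u, rfl⟩ := hu
    exact hm0 (by rw [← one_smul A m, ← u.inv_mul, mul_smul, hx', smul_zero])
  exact h2.of_injective (AlgebraTensorModule.lTensor B N ψ)
    (Module.Flat.lTensor_preserves_injective_linearMap _ hψ)

/-- **Associated maximal ideal of a tensor product with a flat module.** -/
theorem hasSocle_tensor_iff :
    HasSocle B (N ⊗[A] M) ↔ HasSocle A M ∧ HasSocle B (N ⊗[A] (A ⧸ maximalIdeal A)) :=
  ⟨fun h => ⟨HasSocle.of_tensor M N h, HasSocle.fibre_of_tensor M N h⟩,
    fun h => HasSocle.tensor M N h.1 h.2⟩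

end Flat

section Length

variable {A B : Type*} [CommRing A] [CommRing B] [IsLocalRing A] [IsLocalRing B] [Algebra A B]
  (M : Type*) [AddCommGroup M] [Module A M]
  (N : Type*) [AddCommGroup N] [Module A N] [Module B N] [IsScalarTower A B N] [Module.Flat A N]

open Module Submodule LinearMap in
theorem covBy_length_tensor {p q : Submodule A M} (h : p ⋖ q) :
    length B (N ⊗[A] q) =
      length B (N ⊗[A] p) + length B (N ⊗[A] (A ⧸ maximalIdeal A)) := by
  let f : p →ₗ[A] q := inclusion h.le
  have key : IsSimpleModule A (q ⧸ f.range) := by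
    rwa [range_inclusion, ← covBy_iff_quot_is_simple h.le]
  obtain ⟨m, hm, ⟨e⟩⟩ := isSimpleModule_iff_quot_maximal.mp key
  obtain rfl := eq_maximalIdeal hm
  let g := e.comp f.range.mkQ
  have hf : Function.Injective f := inclusion_injective _
  have hg : Function.Surjective g := e.surjective.comp f.range.mkQ_surjective
  have hfg : Function.Exact f g := exact_iff.mpr (by simp [f, g])
  exact length_eq_add_of_exact (AlgebraTensorModule.lTensor B N f)
    (AlgebraTensorModule.lTensor B N g)
    (Module.Flat.lTensor_preserves_injective_linearMap _ hf)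
    (LinearMap.lTensor_surjective N hg) (lTensor_exact N hfg hg)

open Module Submodule in
theorem length_tensor_of_isFiniteLength (h : IsFiniteLength A M) :
    length B (N ⊗[A] M) =
      length A M * length B (N ⊗[A] (A ⧸ maximalIdeal A)) := by
  obtain ⟨s, hs_bot, hs_top⟩ := isFiniteLength_iff_exists_compositionSeries.mp h
  rw [← length_compositionSeries s hs_bot hs_top]
  suffices hk : ∀ k, length B (N ⊗[A] (s k)) =
      k * length B (N ⊗[A] (A ⧸ maximalIdeal A)) by
    have h1 := hk (Fin.last s.length)
    rw [Fin.val_last] at h1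
    rw [← h1]
    have hs' : s (Fin.last s.length) = ⊤ := hs_top
    rw [hs']
    exact (AlgebraTensorModule.congr (LinearEquiv.refl B N)
      (Submodule.topEquiv (R := A) (M := M))).symm.length_eq
  intro k
  induction k using Fin.induction with
  | zero =>
    have hs' : s 0 = ⊥ := hs_bot
    rw [hs']
    simp
  | succ i hi => simpa [hi, add_one_mul] using covBy_length_tensor M N (B := B) (s.step i)

/-- the range of `N ⊗ p → N ⊗ M` as a `B`-submodule -/
noncomputable def tensorSub (p : Submodule A M) : Submodule B (N ⊗[A] M) :=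
  LinearMap.range (AlgebraTensorModule.lTensor B N p.subtype : N ⊗[A] p →ₗ[B] N ⊗[A] M)

theorem tensorSub_strictMono [Module.FaithfullyFlat A N] :
    StrictMono (tensorSub (A := A) (B := B) M N) := by
  intro p q hpq
  have hle : tensorSub (B := B) M N p ≤ tensorSub M N q := by
    rintro _ ⟨t, rfl⟩
    refine ⟨AlgebraTensorModule.lTensor B N (Submodule.inclusion hpq.le) t, ?_⟩
    rw [← LinearMap.comp_apply, ← AlgebraTensorModule.lTensor_comp]
    rfl
  refine lt_of_le_of_ne hle fun heq => ?_
  have hinj : Function.Injective (AlgebraTensorModule.lTensor B N q.subtype) :=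
    Module.Flat.lTensor_preserves_injective_linearMap _ (Submodule.injective_subtype _)
  have hsurj : Function.Surjective ((Submodule.inclusion hpq.le).lTensor N) := by
    intro t
    have h1 : AlgebraTensorModule.lTensor B N q.subtype t ∈ tensorSub (B := B) M N p := by
      rw [heq]
      exact ⟨t, rfl⟩
    obtain ⟨t', ht'⟩ := h1
    refine ⟨t', hinj ?_⟩
    rw [← ht']
    change AlgebraTensorModule.lTensor B N q.subtype
      (AlgebraTensorModule.lTensor B N (Submodule.inclusion hpq.le) t') = _
    rw [← LinearMap.comp_apply, ← AlgebraTensorModule.lTensor_comp]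
    rfl
  rw [Module.FaithfullyFlat.lTensor_surjective_iff_surjective] at hsurj
  have : q ≤ p := by
    intro x hx
    obtain ⟨y, hy⟩ := hsurj ⟨x, hx⟩
    have h3 : (y : M) = x := by
      have := congrArg Subtype.val hy
      rwa [Submodule.coe_inclusion] at this
    rw [← h3]
    exact y.2
  exact (not_le_of_gt hpq) this

theorem isFiniteLength_of_tensor [Module.FaithfullyFlat A N]
    (h : IsFiniteLength B (N ⊗[A] M)) : IsFiniteLength A M := by
  rw [isFiniteLength_iff_isNoetherian_isArtinian] at h ⊢
  obtain ⟨h1, h2⟩ := h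
  rw [isNoetherian_iff'] at h1 ⊢
  exact ⟨(tensorSub_strictMono (A := A) (B := B) M N).wellFoundedGT,
    (tensorSub_strictMono (A := A) (B := B) M N).wellFoundedLT⟩

/-- faithfully flat iff the fibre is nonzero -/
theorem faithfullyFlat_of_nontrivial (hne : Nontrivial (N ⊗[A] (A ⧸ maximalIdeal A))) :
    Module.FaithfullyFlat A N := by
  refine ⟨fun m hm htop => ?_⟩
  obtain rfl := eq_maximalIdeal hm
  have e := TensorProduct.tensorQuotEquivQuotSMul N (maximalIdeal A)
  have h1 : Subsingleton (N ⧸ maximalIdeal A • (⊤ : Submodule A N)) := by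
    rw [htop]
    infer_instance
  have h2 : Subsingleton (N ⊗[A] (A ⧸ maximalIdeal A)) := e.injective.subsingleton
  exact not_subsingleton _ h2

open Module in
/-- **length of a tensor product with a flat module.** -/
theorem length_tensor (hne : Nontrivial (N ⊗[A] (A ⧸ maximalIdeal A))) :
    length B (N ⊗[A] M) =
      length A M * length B (N ⊗[A] (A ⧸ maximalIdeal A)) := by
  by_cases h : IsFiniteLength A M
  · exact length_tensor_of_isFiniteLength M N h
  · haveI := faithfullyFlat_of_nontrivial N hne
    have h' : ¬ IsFiniteLength B (N ⊗[A] M) := fun h' => h (isFiniteLength_of_tensor M N h')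
    rw [← length_ne_top_iff, not_ne_iff] at h h'
    have ne : length B (N ⊗[A] (A ⧸ maximalIdeal A)) ≠ 0 := by
      rw [← pos_iff_ne_zero, length_pos_iff]
      exact hne
    rw [h, h', ENat.top_mul ne]

end Length

end Groth.Agent.H3.TenAss
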