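import Mathlib
import Groth.Agent.Lib.Helper3.TenAssA

/-!
# Tensor products with flat modules: other forms of the fibre (helper3)
-/

set_option autoImplicit false

open TensorProduct IsLocalRing

namespace Groth.Agent.H3.TenAss

open Groth.Agent.H3.FlatAss

section Fibre

variable {A B : Type*} [CommRing A] [CommRing B] [Algebra A B]
  (N : Type*) [AddCommGroup N] [Module A N] [Module B N] [IsScalarTower A B N]

/-- `N ⊗_A A/J ≃ N/(JB)N`, `B`-linearly. -/
noncomputable def fibreEquiv (J : Ideal A) :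
    N ⊗[A] (A ⧸ J) ≃ₗ[B] N ⧸ (J.map (algebraMap A B) • (⊤ : Submodule B N)) :=
  (AlgebraTensorModule.cancelBaseChange A B B N (A ⧸ J)).symm ≪≫ₗ
    (TensorProduct.congr (LinearEquiv.refl B N)
      (Algebra.TensorProduct.quotIdealMapEquivTensorQuot B J).symm.toLinearEquiv) ≪≫ₗ
    TensorProduct.tensorQuotEquivQuotSMul N (J.map (algebraMap A B))

variable {M M' : Type*} [AddCommGroup M] [Module A M] [AddCommGroup M'] [Module A M']
  [Module B M'] [IsScalarTower A B M']

/-- `(B ⊗_A M) ⊗_B N ≃ N ⊗_A M`. -/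
noncomputable def tensorBaseChangeEquiv (σ : M →ₗ[A] M') (hσ : IsBaseChange B σ) :
    M' ⊗[B] N ≃ₗ[B] N ⊗[A] M :=
  TensorProduct.comm B M' N ≪≫ₗ
    (TensorProduct.congr (LinearEquiv.refl B N) hσ.equiv.symm) ≪≫ₗ
    AlgebraTensorModule.cancelBaseChange A B B N M

end Fibre

section Local

variable {A B : Type*} [CommRing A] [CommRing B] [IsLocalRing A] [IsLocalRing B] [Algebra A B]
  [IsLocalHom (algebraMap A B)]
  (N : Type*) [AddCommGroup N] [Module A N] [Module B N] [IsScalarTower A B N]
  {M M' : Type*} [AddCommGroup M] [Module A M] [AddCommGroup M'] [Module A M']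
  [Module B M'] [IsScalarTower A B M']

/-- the fibre module `N/𝔪_A N` -/
abbrev fibQ : Type _ :=
  N ⧸ ((maximalIdeal A).map (algebraMap A B) • (⊤ : Submodule B N))

variable [Module.Flat A N] [IsNoetherianRing A]

theorem hasSocle_tensor_isBaseChange_iff (σ : M →ₗ[A] M') (hσ : IsBaseChange B σ) :
    HasSocle B (M' ⊗[B] N) ↔ HasSocle A M ∧ HasSocle B (fibQ (A := A) (B := B) N) := by
  rw [hasSocle_congr (tensorBaseChangeEquiv N σ hσ), hasSocle_tensor_iff,
    hasSocle_congr (fibreEquiv (B := B) N (maximalIdeal A))]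

omit [IsNoetherianRing A] [IsLocalHom (algebraMap A B)] in
theorem length_tensor_isBaseChange (σ : M →ₗ[A] M') (hσ : IsBaseChange B σ)
    (hne : Nontrivial (fibQ (A := A) (B := B) N)) :
    Module.length B (M' ⊗[B] N) =
      Module.length A M * Module.length B (fibQ (A := A) (B := B) N) := by
  have hne' : Nontrivial (N ⊗[A] (A ⧸ maximalIdeal A)) :=
    (fibreEquiv (B := B) N (maximalIdeal A)).toEquiv.nontrivial
  rw [(tensorBaseChangeEquiv N σ hσ).length_eq, length_tensor M N hne',
    (fibreEquiv (B := B) N (maximalIdeal A)).length_eq]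

end Local

section Surj

variable {B B' : Type*} [CommRing B] [CommRing B'] [IsLocalRing B] [IsLocalRing B'] [Algebra B B']
  {N N' : Type*} [AddCommGroup N] [Module B N] [AddCommGroup N'] [Module B N'] [Module B' N']
  [IsScalarTower B B' N']

theorem hasSocle_restrictScalars_iff (hs : Function.Surjective (algebraMap B B')) :
    HasSocle B' N' ↔ HasSocle B N' := by
  haveI : IsLocalHom (algebraMap B B') := IsLocalHom.of_surjective _ hs
  constructor
  · rintro ⟨c, hc0, hc⟩
    refine ⟨c, hc0, fun r hr => ?_⟩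
    rw [← algebraMap_smul B' r c]
    exact hc _ (algebraMap_mem_maximalIdeal hr)
  · rintro ⟨c, hc0, hc⟩
    refine ⟨c, hc0, fun r' hr' => ?_⟩
    obtain ⟨r, rfl⟩ := hs r'
    rw [algebraMap_smul]
    refine hc r ?_
    rw [mem_maximalIdeal, mem_nonunits_iff] at hr' ⊢
    exact fun hu => hr' (hu.map _)

/-- base change along a surjection is the quotient by the kernel -/
noncomputable def surjBaseChangeEquiv (hs : Function.Surjective (algebraMap B B'))
    (τ : N →ₗ[B] N') (hτ : IsBaseChange B' τ) :
    N' ≃ₗ[B] N ⧸ (RingHom.ker (algebraMap B B') • (⊤ : Submodule B N)) :=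
  (hτ.equiv.symm.restrictScalars B) ≪≫ₗ
    (TensorProduct.congr
      ((Ideal.quotientKerAlgEquivOfSurjective (f := Algebra.ofId B B') hs).symm.toLinearEquiv)
      (LinearEquiv.refl B N)) ≪≫ₗ
    TensorProduct.quotTensorEquivQuotSMul N (RingHom.ker (algebraMap B B'))

theorem hasSocle_surj_isBaseChange_iff (hs : Function.Surjective (algebraMap B B'))
    (τ : N →ₗ[B] N') (hτ : IsBaseChange B' τ) :
    HasSocle B' N' ↔
      HasSocle B (N ⧸ (RingHom.ker (algebraMap B B') • (⊤ : Submodule B N))) := by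
  rw [hasSocle_restrictScalars_iff hs, hasSocle_congr (surjBaseChangeEquiv hs τ hτ)]

theorem length_surj_isBaseChange (hs : Function.Surjective (algebraMap B B'))
    (τ : N →ₗ[B] N') (hτ : IsBaseChange B' τ) :
    Module.length B' N' =
      Module.length B (N ⧸ (RingHom.ker (algebraMap B B') • (⊤ : Submodule B N))) := by
  rw [← Module.length_eq_of_surjective hs, (surjBaseChangeEquiv hs τ hτ).length_eq]

end Surj

end Groth.Agent.H3.TenAss
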