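import Mathlib
import Groth.Prelude.Def_FDesc
import Groth.Agent.Lib.Lead.QC.TensorQC
import Groth.Agent.Lib.Lead.QC.Stalk

/-!
# The stalk of a tensor product of quasi-coherent modules (helper3)
-/

set_option autoImplicit false
universe u
open CategoryTheory CategoryTheory.Limits AlgebraicGeometry IsLocalRing TensorProduct

namespace Groth.Agent.H3.TenAss

open Groth.Agent.LD.QC

variable {X : Scheme.{u}}

theorem isScalarTower_stalk' (F : X.Modules) (x : X) (U : X.Opens) (hxU : x ∈ U) :
    letI := stalkΓModule F x U hxU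
    letI : Algebra Γ(X, U) (X.presheaf.stalk x) := X.presheaf.algebra_section_stalk ⟨x, hxU⟩
    IsScalarTower Γ(X, U) (X.presheaf.stalk x) (F.presheaf.stalk x) := by
  letI := stalkΓModule F x U hxU
  letI : Algebra Γ(X, U) (X.presheaf.stalk x) := X.presheaf.algebra_section_stalk ⟨x, hxU⟩
  exact ⟨fun r s m => by
      change (r • s) • m = X.presheaf.germ U x hxU r • (s • m)
      rw [Algebra.smul_def, mul_smul]
      rfl⟩

/-- the stalk of `M ⊗ N` is the tensor product of the stalks (Lead's stalk module instance). -/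
theorem nonempty_stalk_tensor_equiv_aux (M N : X.Modules) [M.IsQuasicoherent] [N.IsQuasicoherent]
    (x : X) :
    letI := stalkModule M x
    letI := stalkModule N x
    letI := stalkModule (CohB1.tensorMod M N) x
    Nonempty ((CohB1.tensorMod M N).presheaf.stalk x ≃ₗ[X.presheaf.stalk x]
      (M.presheaf.stalk x ⊗[X.presheaf.stalk x] N.presheaf.stalk x)) := by
  letI := stalkModule M x
  letI := stalkModule N x
  letI := stalkModule (CohB1.tensorMod M N) x
  obtain ⟨V, hV, hxV, -⟩ := exists_isAffineOpen_mem_and_subset (x := x) (U := ⊤) trivial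
  letI := stalkΓModule M x V hxV
  letI := stalkΓModule N x V hxV
  letI := stalkΓModule (CohB1.tensorMod M N) x V hxV
  haveI hlocM := isLocalizedModule_germ M hV x hxV
  haveI hlocN := isLocalizedModule_germ N hV x hxV
  haveI hlocT := isLocalizedModule_germ (CohB1.tensorMod M N) hV x hxV
  letI : Algebra Γ(X, V) (X.presheaf.stalk x) := X.presheaf.algebra_section_stalk ⟨x, hxV⟩
  haveI := hV.isLocalization_stalk ⟨x, hxV⟩
  haveI := isScalarTower_stalk' M x V hxV
  haveI := isScalarTower_stalk' N x V hxV
  haveI := isScalarTower_stalk' (CohB1.tensorMod M N) x V hxV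
  set q := (hV.primeIdealOf ⟨x, hxV⟩).asIdeal with hq
  let τ := tensorSecEquiv M N hV
  haveI : IsLocalizedModule q.primeCompl
      ((germLinear (CohB1.tensorMod M N) x V hxV) ∘ₗ τ.toLinearMap) :=
    IsLocalizedModule.of_linearEquiv_right _ _ _
  haveI : IsLocalizedModule q.primeCompl
      (TensorProduct.map (germLinear M x V hxV) (germLinear N x V hxV)) := inferInstance
  let ε : (CohB1.tensorMod M N).presheaf.stalk x ≃ₗ[Γ(X, V)]
      (M.presheaf.stalk x ⊗[Γ(X, V)] N.presheaf.stalk x) :=
    IsLocalizedModule.linearEquiv q.primeCompl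
      ((germLinear (CohB1.tensorMod M N) x V hxV) ∘ₗ τ.toLinearMap)
      (TensorProduct.map (germLinear M x V hxV) (germLinear N x V hxV))
  let ε' : (CohB1.tensorMod M N).presheaf.stalk x ≃ₗ[X.presheaf.stalk x]
      (M.presheaf.stalk x ⊗[Γ(X, V)] N.presheaf.stalk x) :=
    ε.extendScalarsOfIsLocalization q.primeCompl (X.presheaf.stalk x)
  exact ⟨ε' ≪≫ₗ (IsLocalization.moduleTensorEquiv q.primeCompl (X.presheaf.stalk x)
    (M.presheaf.stalk x) (N.presheaf.stalk x)).symm⟩

end Groth.Agent.H3.TenAss
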