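import Mathlib
import Groth.Prelude.Def_FDesc
import Groth.Agent.Lib.Lead.QC.StalkPullback
import Groth.Agent.Lib.Helper3.FlatAssB
import Groth.Agent.Lib.Helper3.TenAssB
import Groth.Agent.Lib.Helper3.TenAssC

/-!
# Associated points of `f^*E ⊗ F` for `F` flat over the base (EGA IV 3.3.1) (helper3)
-/

set_option autoImplicit false
universe u
open CategoryTheory CategoryTheory.Limits AlgebraicGeometry IsLocalRing TensorProduct

namespace Groth.Agent.H3.TenAss

open Groth.Agent.LD.QC Groth.Agent.H3.FlatAss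

attribute [-instance] Groth.Agent.LD.QC.stalkModule

section Stalk

variable {X : Scheme.{u}}

/-- the stalk of `M ⊗ N` is the tensor product of the stalks. -/
theorem nonempty_stalk_tensor_equiv (M N : X.Modules) [M.IsQuasicoherent] [N.IsQuasicoherent]
    (x : X) :
    Nonempty ((CohB1.tensorMod M N).presheaf.stalk x ≃ₗ[X.presheaf.stalk x]
      (M.presheaf.stalk x ⊗[X.presheaf.stalk x] N.presheaf.stalk x)) :=
  nonempty_stalk_tensor_equiv_aux M N x

end Stalk

section T

variable {X Y : Scheme.{u}} (f : X ⟶ Y) (E : Y.Modules) [E.IsQuasicoherent] (F : X.Modules)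
  [F.IsQuasicoherent] (z : X)

/-- the fibre module `F_z / 𝔪_{f z} F_z` -/
abbrev fibMod : Type u :=
  F.presheaf.stalk z ⧸
    (fibreIdeal f z • (⊤ : Submodule (X.presheaf.stalk z) (F.presheaf.stalk z)))

theorem hasSocle_stalk_tensor_pullback_iff [IsLocallyNoetherian Y]
    (hfl : FlatMod.IsFlatOverAt f F z) :
    HasSocle (X.presheaf.stalk z)
        ((CohB1.tensorMod ((Scheme.Modules.pullback f).obj E) F).presheaf.stalk z) ↔
      HasSocle (Y.presheaf.stalk (f z)) (E.presheaf.stalk (f z)) ∧
        HasSocle (X.presheaf.stalk z) (fibMod f F z) := by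
  letI := FlatMod.moduleStalkOver f F z
  letI := FlatMod.moduleStalkOver f ((Scheme.Modules.pullback f).obj E) z
  letI : Algebra (Y.presheaf.stalk (f z)) (X.presheaf.stalk z) := (f.stalkMap z).hom.toAlgebra
  haveI : IsScalarTower (Y.presheaf.stalk (f z)) (X.presheaf.stalk z) (F.presheaf.stalk z) :=
    IsScalarTower.of_algebraMap_smul fun r m => rfl
  haveI : IsScalarTower (Y.presheaf.stalk (f z)) (X.presheaf.stalk z)
      (((Scheme.Modules.pullback f).obj E).presheaf.stalk z) :=
    IsScalarTower.of_algebraMap_smul fun r m => rfl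
  obtain ⟨σ, hσ⟩ : ∃ σ : E.presheaf.stalk (f z) →ₗ[Y.presheaf.stalk (f z)]
      ((Scheme.Modules.pullback f).obj E).presheaf.stalk z,
      IsBaseChange (X.presheaf.stalk z) σ := exists_stalk_pullback_isBaseChange f E z
  haveI : ((Scheme.Modules.pullback f).obj E).IsQuasicoherent := qc_pullback f E
  obtain ⟨e⟩ := nonempty_stalk_tensor_equiv ((Scheme.Modules.pullback f).obj E) F z
  haveI : Module.Flat (Y.presheaf.stalk (f z)) (F.presheaf.stalk z) := hfl
  haveI : IsLocalHom (algebraMap (Y.presheaf.stalk (f z)) (X.presheaf.stalk z)) :=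
    inferInstanceAs (IsLocalHom (f.stalkMap z).hom)
  rw [hasSocle_congr e]
  exact hasSocle_tensor_isBaseChange_iff (F.presheaf.stalk z) σ hσ

/-- **EGA IV 3.3.1** -/
theorem mem_ass_tensor_pullback_iff [IsLocallyNoetherian X] [IsLocallyNoetherian Y]
    (hfl : FlatMod.IsFlatOverAt f F z) :
    z ∈ AssSch.Ass (CohB1.tensorMod ((Scheme.Modules.pullback f).obj E) F) ↔
      f z ∈ AssSch.Ass E ∧ HasSocle (X.presheaf.stalk z) (fibMod f F z) := by
  have h := hasSocle_stalk_tensor_pullback_iff f E F z hfl
  rw [← isAssociatedPrime_maximalIdeal_iff, ← isAssociatedPrime_maximalIdeal_iff] at h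
  exact h

theorem length_stalk_tensor_pullback (hfl : FlatMod.IsFlatOverAt f F z)
    (hne : Nontrivial (fibMod f F z)) :
    Module.length (X.presheaf.stalk z)
        ((CohB1.tensorMod ((Scheme.Modules.pullback f).obj E) F).presheaf.stalk z) =
      Module.length (Y.presheaf.stalk (f z)) (E.presheaf.stalk (f z)) *
        Module.length (X.presheaf.stalk z) (fibMod f F z) := by
  letI := FlatMod.moduleStalkOver f F z
  letI := FlatMod.moduleStalkOver f ((Scheme.Modules.pullback f).obj E) z
  letI : Algebra (Y.presheaf.stalk (f z)) (X.presheaf.stalk z) := (f.stalkMap z).hom.toAlgebra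
  haveI : IsScalarTower (Y.presheaf.stalk (f z)) (X.presheaf.stalk z) (F.presheaf.stalk z) :=
    IsScalarTower.of_algebraMap_smul fun r m => rfl
  haveI : IsScalarTower (Y.presheaf.stalk (f z)) (X.presheaf.stalk z)
      (((Scheme.Modules.pullback f).obj E).presheaf.stalk z) :=
    IsScalarTower.of_algebraMap_smul fun r m => rfl
  obtain ⟨σ, hσ⟩ : ∃ σ : E.presheaf.stalk (f z) →ₗ[Y.presheaf.stalk (f z)]
      ((Scheme.Modules.pullback f).obj E).presheaf.stalk z,
      IsBaseChange (X.presheaf.stalk z) σ := exists_stalk_pullback_isBaseChange f E z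
  haveI : ((Scheme.Modules.pullback f).obj E).IsQuasicoherent := qc_pullback f E
  obtain ⟨e⟩ := nonempty_stalk_tensor_equiv ((Scheme.Modules.pullback f).obj E) F z
  haveI : Module.Flat (Y.presheaf.stalk (f z)) (F.presheaf.stalk z) := hfl
  rw [e.length_eq]
  exact length_tensor_isBaseChange (F.presheaf.stalk z) σ hσ hne

end T

end Groth.Agent.H3.TenAss
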