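import Mathlib
import Groth.Prelude.Def_FDesc
import Groth.Agent.Lib.Lead.QC.StalkPullback
import Groth.Agent.Lib.Helper1.FibreStalk
import Groth.Agent.Lib.Helper3.TenAssD

/-!
# Associated points of the restriction to a fibre (helper3)
-/

set_option autoImplicit false
universe u
open CategoryTheory CategoryTheory.Limits AlgebraicGeometry IsLocalRing TensorProduct

namespace Groth.Agent.H3.TenAss

open Groth.Agent.LD.QC Groth.Agent.H3.FlatAss

attribute [-instance] Groth.Agent.LD.QC.stalkModule

variable {X Y : Scheme.{u}} (f : X ⟶ Y)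

/-- transport of `fibreIdeal` along an equality of points -/
theorem fibreIdeal_map_stalkCongr {x x' : X} (h : x = x') :
    (fibreIdeal f x).map (X.presheaf.stalkCongr (Inseparable.of_eq h)).hom.hom =
      fibreIdeal f x' := by
  subst h
  have h1 : (X.presheaf.stalkCongr (Inseparable.of_eq (rfl : x = x))).hom = 𝟙 _ :=
    TopCat.Presheaf.stalkSpecializes_refl _ _
  rw [h1, CommRingCat.hom_id, Ideal.map_id]

theorem fiberι_mem (y : Y) (z' : f.fiber y) : f (f.fiberι y z') = y := by
  have : f.fiberι y z' ∈ f ⁻¹' {y} := by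
    rw [← f.range_fiberι y]
    exact ⟨z', rfl⟩
  exact this

/-- the kernel of the stalk map of the inclusion of the fibre -/
theorem ker_stalkMap_fiberι (y : Y) (z' : f.fiber y) :
    RingHom.ker ((f.fiberι y).stalkMap z').hom = fibreIdeal f (f.fiberι y z') := by
  obtain ⟨x, hx⟩ : ∃ x, f.fiberι y z' = x := ⟨_, rfl⟩
  have hy : f x = y := by
    rw [← hx]
    exact fiberι_mem f y z'
  subst hy
  have hz : z' = f.asFiber x :=
    (f.fiberι (f x)).isEmbedding.injective (hx.trans (f.fiberι_asFiber x).symm)
  subst hz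
  have h1 := Groth.Agent.H1.FibreStalk.ker_toFiberStalk f x
  rw [← fibreIdeal_map_stalkCongr f (f.fiberι_asFiber x).symm]
  have h2 : RingHom.ker (Groth.Agent.H1.FibreStalk.toFiberStalk f x) =
      (RingHom.ker ((f.fiberι (f x)).stalkMap (f.asFiber x)).hom).comap
        (X.presheaf.stalkCongr (Inseparable.of_eq (f.fiberι_asFiber x).symm)).hom.hom :=
    (RingHom.comap_ker _ _).symm
  rw [h2] at h1
  change _ = Ideal.map _ (Ideal.map _ _)
  rw [← h1]
  refine (Ideal.map_comap_of_surjective _ ?_ _).symm
  exact (ConcreteCategory.bijective_of_isIso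
    (X.presheaf.stalkCongr (Inseparable.of_eq (f.fiberι_asFiber x).symm)).hom).2

variable (F : X.Modules) [F.IsQuasicoherent]

theorem hasSocle_stalk_fiber_iff (y : Y) (z' : f.fiber y) :
    HasSocle ((f.fiber y).presheaf.stalk z')
        (((Scheme.Modules.pullback (f.fiberι y)).obj F).presheaf.stalk z') ↔
      HasSocle (X.presheaf.stalk (f.fiberι y z')) (fibMod f F (f.fiberι y z')) := by
  letI := FlatMod.moduleStalkOver (f.fiberι y) ((Scheme.Modules.pullback (f.fiberι y)).obj F) z'
  letI : Algebra (X.presheaf.stalk (f.fiberι y z')) ((f.fiber y).presheaf.stalk z') :=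
    ((f.fiberι y).stalkMap z').hom.toAlgebra
  haveI : IsScalarTower (X.presheaf.stalk (f.fiberι y z')) ((f.fiber y).presheaf.stalk z')
      (((Scheme.Modules.pullback (f.fiberι y)).obj F).presheaf.stalk z') :=
    IsScalarTower.of_algebraMap_smul fun r m => rfl
  obtain ⟨τ, hτ⟩ : ∃ τ : F.presheaf.stalk (f.fiberι y z') →ₗ[X.presheaf.stalk (f.fiberι y z')]
      ((Scheme.Modules.pullback (f.fiberι y)).obj F).presheaf.stalk z',
      IsBaseChange ((f.fiber y).presheaf.stalk z') τ :=
    exists_stalk_pullback_isBaseChange (f.fiberι y) F z'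
  have hs : Function.Surjective (algebraMap (X.presheaf.stalk (f.fiberι y z'))
      ((f.fiber y).presheaf.stalk z')) := (f.fiberι y).stalkMap_surjective z'
  have hker : RingHom.ker (algebraMap (X.presheaf.stalk (f.fiberι y z'))
      ((f.fiber y).presheaf.stalk z')) = fibreIdeal f (f.fiberι y z') := ker_stalkMap_fiberι f y z'
  rw [hasSocle_surj_isBaseChange_iff hs τ hτ]
  exact hasSocle_congr (Submodule.quotEquivOfEq _ _ (by rw [hker]))

theorem length_stalk_fiber (y : Y) (z' : f.fiber y) :
    Module.length ((f.fiber y).presheaf.stalk z')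
        (((Scheme.Modules.pullback (f.fiberι y)).obj F).presheaf.stalk z') =
      Module.length (X.presheaf.stalk (f.fiberι y z')) (fibMod f F (f.fiberι y z')) := by
  letI := FlatMod.moduleStalkOver (f.fiberι y) ((Scheme.Modules.pullback (f.fiberι y)).obj F) z'
  letI : Algebra (X.presheaf.stalk (f.fiberι y z')) ((f.fiber y).presheaf.stalk z') :=
    ((f.fiberι y).stalkMap z').hom.toAlgebra
  haveI : IsScalarTower (X.presheaf.stalk (f.fiberι y z')) ((f.fiber y).presheaf.stalk z')
      (((Scheme.Modules.pullback (f.fiberι y)).obj F).presheaf.stalk z') :=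
    IsScalarTower.of_algebraMap_smul fun r m => rfl
  obtain ⟨τ, hτ⟩ : ∃ τ : F.presheaf.stalk (f.fiberι y z') →ₗ[X.presheaf.stalk (f.fiberι y z')]
      ((Scheme.Modules.pullback (f.fiberι y)).obj F).presheaf.stalk z',
      IsBaseChange ((f.fiber y).presheaf.stalk z') τ :=
    exists_stalk_pullback_isBaseChange (f.fiberι y) F z'
  have hs : Function.Surjective (algebraMap (X.presheaf.stalk (f.fiberι y z'))
      ((f.fiber y).presheaf.stalk z')) := (f.fiberι y).stalkMap_surjective z'
  have hker : RingHom.ker (algebraMap (X.presheaf.stalk (f.fiberι y z'))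
      ((f.fiber y).presheaf.stalk z')) = fibreIdeal f (f.fiberι y z') := ker_stalkMap_fiberι f y z'
  rw [length_surj_isBaseChange hs τ hτ]
  exact (Submodule.quotEquivOfEq _ _ (by rw [hker])).length_eq

theorem isNoetherianRing_stalk_fiber [IsLocallyNoetherian X] (y : Y) (z' : f.fiber y) :
    IsNoetherianRing ((f.fiber y).presheaf.stalk z') :=
  isNoetherianRing_of_surjective _ _ ((f.fiberι y).stalkMap z').hom
    ((f.fiberι y).stalkMap_surjective z')

/-- associated points of the restriction to a fibre -/
theorem mem_ass_fiber_iff [IsLocallyNoetherian X] (y : Y) (z' : f.fiber y) :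
    z' ∈ AssSch.Ass ((Scheme.Modules.pullback (f.fiberι y)).obj F) ↔
      HasSocle (X.presheaf.stalk (f.fiberι y z')) (fibMod f F (f.fiberι y z')) := by
  haveI := isNoetherianRing_stalk_fiber f y z'
  have h := hasSocle_stalk_fiber_iff f F y z'
  rw [← isAssociatedPrime_maximalIdeal_iff] at h
  exact h

end Groth.Agent.H3.TenAss
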