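import Mathlib
import Groth.Agent.Lib.Helper3.TenAssB

/-!
# Going down for the support of a flat module (helper3)
-/

set_option autoImplicit false

open TensorProduct IsLocalRing

namespace Groth.Agent.H3.TenAss

open Groth.Agent.H3.FlatAss

section GD

variable {A B : Type*} [CommRing A] [CommRing B] [Algebra A B]
  (N : Type*) [AddCommGroup N] [Module A N] [Module B N] [IsScalarTower A B N]

theorem algebraMap_smul_mk_eq_zero (𝔭 : Ideal A) (a : A) (ha : a ∈ 𝔭)
    (t : N ⧸ (𝔭.map (algebraMap A B) • (⊤ : Submodule B N))) : algebraMap A B a • t = 0 := by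
  obtain ⟨n, rfl⟩ := Submodule.Quotient.mk_surjective _ t
  rw [← Submodule.Quotient.mk_smul, Submodule.Quotient.mk_eq_zero]
  exact Submodule.smul_mem_smul (Ideal.mem_map_of_mem _ ha) Submodule.mem_top

variable [Module.Flat A N]

theorem eq_zero_of_smul_eq_zero (𝔭 : Ideal A) [𝔭.IsPrime] (a : A) (ha : a ∉ 𝔭)
    (t : N ⧸ (𝔭.map (algebraMap A B) • (⊤ : Submodule B N)))
    (h : algebraMap A B a • t = 0) : t = 0 := by
  let e := fibreEquiv (B := B) N 𝔭
  have h1 : algebraMap A B a • e.symm t = 0 := by rw [← map_smul, h, map_zero]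
  rw [algebraMap_smul] at h1
  let φ : (A ⧸ 𝔭) →ₗ[A] (A ⧸ 𝔭) := a • LinearMap.id
  have hφ : Function.Injective φ := by
    rw [injective_iff_map_eq_zero]
    intro x hx
    obtain ⟨r, rfl⟩ := Ideal.Quotient.mk_surjective x
    have hx' : Ideal.Quotient.mk 𝔭 (a * r) = 0 := by
      simpa [φ, Algebra.smul_def] using hx
    rw [Ideal.Quotient.eq_zero_iff_mem] at hx' ⊢
    exact (Ideal.IsPrime.mem_or_mem inferInstance hx').resolve_left ha
  have h2 : LinearMap.lTensor N φ (e.symm t) = a • e.symm t := by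
    rw [LinearMap.lTensor_smul, LinearMap.lTensor_id]
    rfl
  have h3 : Function.Injective (LinearMap.lTensor N φ) :=
    Module.Flat.lTensor_preserves_injective_linearMap _ hφ
  have h4 : e.symm t = 0 := h3 (by rw [h2, h1, map_zero])
  exact e.symm.injective (by rw [h4, map_zero])

theorem exists_ass_comap_eq [IsNoetherianRing B] (𝔭 : Ideal A) [𝔭.IsPrime]
    (hne : Nontrivial (N ⧸ (𝔭.map (algebraMap A B) • (⊤ : Submodule B N)))) :
    ∃ Q : Ideal B,
      IsAssociatedPrime Q (N ⧸ (𝔭.map (algebraMap A B) • (⊤ : Submodule B N))) ∧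
      Q.comap (algebraMap A B) = 𝔭 := by
  obtain ⟨Q, hQ⟩ := associatedPrimes.nonempty B
    (N ⧸ (𝔭.map (algebraMap A B) • (⊤ : Submodule B N)))
  refine ⟨Q, hQ, ?_⟩
  obtain ⟨hQp, t, ht⟩ := hQ
  apply le_antisymm
  · intro a ha
    rw [Ideal.mem_comap, ht, Ideal.mem_radical_iff] at ha
    obtain ⟨n, hn⟩ := ha
    rw [Submodule.mem_colon_singleton, Submodule.mem_bot, ← map_pow] at hn
    by_contra hna
    have h1 : a ^ n ∉ 𝔭 := fun h => hna (Ideal.IsPrime.mem_of_pow_mem inferInstance n h)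
    have h2 : t = 0 := eq_zero_of_smul_eq_zero N 𝔭 (a ^ n) h1 t hn
    have h3 : (1 : B) ∈ Q := by
      rw [ht]
      refine Ideal.le_radical ?_
      rw [Submodule.mem_colon_singleton, h2, smul_zero]
      exact Submodule.zero_mem _
    exact hQp.ne_top ((Ideal.eq_top_iff_one _).mpr h3)
  · intro a ha
    rw [Ideal.mem_comap, ht]
    refine Ideal.le_radical ?_
    rw [Submodule.mem_colon_singleton, Submodule.mem_bot]
    exact algebraMap_smul_mk_eq_zero N 𝔭 a ha t

theorem nontrivial_quot_of_nontrivial_fibre [IsLocalRing A]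
    (hne : Nontrivial (N ⧸ ((maximalIdeal A).map (algebraMap A B) • (⊤ : Submodule B N))))
    (𝔭 : Ideal A) [𝔭.IsPrime] :
    Nontrivial (N ⧸ (𝔭.map (algebraMap A B) • (⊤ : Submodule B N))) := by
  have hne' : Nontrivial (N ⊗[A] (A ⧸ maximalIdeal A)) :=
    (fibreEquiv (B := B) N (maximalIdeal A)).toEquiv.nontrivial
  haveI := faithfullyFlat_of_nontrivial N hne'
  haveI : Nontrivial (A ⧸ 𝔭) := Ideal.Quotient.nontrivial_iff.mpr (Ideal.IsPrime.ne_top inferInstance)
  exact (fibreEquiv (B := B) N 𝔭).symm.toEquiv.nontrivial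

end GD

end Groth.Agent.H3.TenAss
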