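import Mathlib
import Groth.Prelude.Def_FDesc
import Groth.Agent.Lib.Helper1.StalkGen
import Groth.Agent.Lib.Helper2.StalkSpec
import Groth.Agent.Lib.Helper3.TenAssE
import Groth.Agent.Lib.Helper3.TenAssF

/-!
# Generizations associated to the fibres of a flat module (helper3)
-/

set_option autoImplicit false
universe u
open CategoryTheory CategoryTheory.Limits AlgebraicGeometry IsLocalRing TensorProduct

namespace Groth.Agent.H3.TenAss

open Groth.Agent.LD.QC Groth.Agent.H3.FlatAss Groth.Agent.H1.StalkGen Groth.Agent.H2.StalkSpec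

attribute [-instance] Groth.Agent.LD.QC.stalkModule

variable {X Y : Scheme.{u}} (f : X ⟶ Y) (F : X.Modules) [F.IsQuasicoherent]

/-- the extension to `O_x` of the prime of `O_{f x}` corresponding to `f w` -/
noncomputable abbrev primeExt {x w : X} (h : w ⤳ x) : Ideal (X.presheaf.stalk x) :=
  (primeOf (f.base.hom.map_specializes h)).asIdeal.map (f.stalkMap x).hom

theorem map_primeExt_eq_fibreIdeal {x w : X} (h : w ⤳ x) :
    (primeExt f h).map (X.presheaf.stalkSpecializes h).hom = fibreIdeal f w := by
  rw [primeExt, Ideal.map_map]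
  have h1 : (X.presheaf.stalkSpecializes h).hom.comp (f.stalkMap x).hom =
      (f.stalkMap w).hom.comp
        (Y.presheaf.stalkSpecializes (f.base.hom.map_specializes h)).hom := by
    rw [← CommRingCat.hom_comp, ← CommRingCat.hom_comp, Scheme.Hom.stalkSpecializes_stalkMap]
  rw [h1, ← Ideal.map_map]
  congr 1
  letI : Algebra (Y.presheaf.stalk (f x)) (Y.presheaf.stalk (f w)) :=
    (Y.presheaf.stalkSpecializes (f.base.hom.map_specializes h)).hom.toAlgebra
  haveI := isLocalization_stalkSpecializes (f.base.hom.map_specializes h)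
  exact IsLocalization.AtPrime.map_eq_maximalIdeal
    (primeOf (f.base.hom.map_specializes h)).asIdeal (Y.presheaf.stalk (f w))

theorem hasSocle_fibMod_of_ass [IsLocallyNoetherian X] {x w : X} (h : w ⤳ x)
    (hass : IsAssociatedPrime (primeOf h).asIdeal
      (F.presheaf.stalk x ⧸
        (primeExt f h • (⊤ : Submodule (X.presheaf.stalk x) (F.presheaf.stalk x))))) :
    HasSocle (X.presheaf.stalk w) (fibMod f F w) := by
  letI := specModule F h
  letI alg : Algebra (X.presheaf.stalk x) (X.presheaf.stalk w) :=
    (X.presheaf.stalkSpecializes h).hom.toAlgebra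
  haveI hloc := isLocalization_stalkSpecializes h
  haveI hlocM := isLocalizedModule_specLinear F h
  haveI : IsScalarTower (X.presheaf.stalk x) (X.presheaf.stalk w) (F.presheaf.stalk w) :=
    IsScalarTower.of_algebraMap_smul fun r m => rfl
  have h1 : maximalIdeal (X.presheaf.stalk w) ∈ associatedPrimes (X.presheaf.stalk w)
      (F.presheaf.stalk w ⧸
        (primeExt f h • (⊤ : Submodule (X.presheaf.stalk x) (F.presheaf.stalk x))).localized'
          (X.presheaf.stalk w) (primeOf h).asIdeal.primeCompl (specLinear F h)) :=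
    Module.associatedPrimes.mem_associatedPrimes_of_comap_mem_associatedPrimes_of_isLocalizedModule
      (primeOf h).asIdeal.primeCompl
      ((primeExt f h • (⊤ : Submodule (X.presheaf.stalk x)
        (F.presheaf.stalk x))).toLocalizedQuotient'
        (X.presheaf.stalk w) (primeOf h).asIdeal.primeCompl (specLinear F h))
      (maximalIdeal _) hass
  have h2 : (primeExt f h • (⊤ : Submodule (X.presheaf.stalk x) (F.presheaf.stalk x))).localized'
      (X.presheaf.stalk w) (primeOf h).asIdeal.primeCompl (specLinear F h) =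
      fibreIdeal f w • (⊤ : Submodule (X.presheaf.stalk w) (F.presheaf.stalk w)) := by
    rw [Submodule.localized'_smul, Ideal.localized'_eq_map, Submodule.localized'_top]
    congr 1
    exact map_primeExt_eq_fibreIdeal f h
  rw [← isAssociatedPrime_maximalIdeal_iff]
  exact (Submodule.quotEquivOfEq _ _ h2).isAssociatedPrime_iff.mp h1

theorem exists_generization_hasSocle [IsLocallyNoetherian X] (x : X)
    (hfl : FlatMod.IsFlatOverAt f F x) (hne : Nontrivial (fibMod f F x)) (y' : Y)
    (hy' : y' ⤳ f x) :
    ∃ w : X, w ⤳ x ∧ f w = y' ∧ HasSocle (X.presheaf.stalk w) (fibMod f F w) := by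
  letI := FlatMod.moduleStalkOver f F x
  letI : Algebra (Y.presheaf.stalk (f x)) (X.presheaf.stalk x) := (f.stalkMap x).hom.toAlgebra
  haveI : IsScalarTower (Y.presheaf.stalk (f x)) (X.presheaf.stalk x) (F.presheaf.stalk x) :=
    IsScalarTower.of_algebraMap_smul fun r m => rfl
  haveI : Module.Flat (Y.presheaf.stalk (f x)) (F.presheaf.stalk x) := hfl
  haveI : (primeOf hy').asIdeal.IsPrime := (primeOf hy').2
  have hne' := nontrivial_quot_of_nontrivial_fibre (B := X.presheaf.stalk x)
    (F.presheaf.stalk x) hne (primeOf hy').asIdeal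
  obtain ⟨Q, hQass, hQc⟩ := exists_ass_comap_eq (B := X.presheaf.stalk x)
    (F.presheaf.stalk x) (primeOf hy').asIdeal hne'
  have hQp : Q.IsPrime := hQass.1
  let q : PrimeSpectrum (X.presheaf.stalk x) := ⟨Q, hQp⟩
  have hw : X.fromSpecStalk x q ⤳ x := fromSpecStalk_specializes x q
  have hq : primeOf hw = q := primeOf_fromSpecStalk x q
  have hfw : f (X.fromSpecStalk x q) = y' := by
    rw [map_fromSpecStalk f x q]
    have h3 : PrimeSpectrum.comap (f.stalkMap x).hom q = primeOf hy' := PrimeSpectrum.ext hQc
    rw [h3, fromSpecStalk_primeOf]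
  refine ⟨X.fromSpecStalk x q, hw, hfw, hasSocle_fibMod_of_ass f F hw ?_⟩
  have h3 : primeOf (f.base.hom.map_specializes hw) = primeOf hy' := by
    apply fromSpecStalk_injective (f x)
    rw [fromSpecStalk_primeOf, fromSpecStalk_primeOf]
    exact hfw
  have h4 : primeExt f hw = (primeOf hy').asIdeal.map
      (algebraMap (Y.presheaf.stalk (f x)) (X.presheaf.stalk x)) := by
    unfold primeExt
    rw [h3]
    rfl
  rw [hq, h4]
  exact hQass

theorem nontrivial_fibMod_of_finite (x : X)
    [Module.Finite (X.presheaf.stalk x) (F.presheaf.stalk x)]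
    (hne : Nontrivial (F.presheaf.stalk x)) : Nontrivial (fibMod f F x) := by
  rw [Submodule.Quotient.nontrivial_iff, ne_comm]
  apply Submodule.top_ne_ideal_smul_of_le_jacobson_annihilator
  exact (fibreIdeal_le f x).trans (IsLocalRing.maximalIdeal_le_jacobson _)

end Groth.Agent.H3.TenAss
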