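import Mathlib
import Groth.Prelude.Def_FDesc
import Groth.Agent.Lib.Lead.QC.LocFree
import Groth.Agent.Lib.Helper3.TenAssG

/-!
# `f^*E ⊗ F` without embedded points / reduced (S2545, S2546) (helper3)
-/

set_option autoImplicit false
universe u
open CategoryTheory CategoryTheory.Limits AlgebraicGeometry IsLocalRing TensorProduct

namespace Groth.Agent.H3.TenAss

open Groth.Agent.LD.QC Groth.Agent.H3.FlatAss Groth.Agent.H1.StalkGen

attribute [-instance] Groth.Agent.LD.QC.stalkModule

theorem enat_mul_eq_one' {a b : ℕ∞} (h : a * b = 1) : a = 1 ∧ b = 1 := by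
  have ha0 : a ≠ 0 := by rintro rfl; simp at h
  have hb0 : b ≠ 0 := by rintro rfl; simp at h
  have hat : a ≠ ⊤ := by
    rintro rfl
    rw [ENat.top_mul hb0] at h
    exact ENat.top_ne_one h
  have hbt : b ≠ ⊤ := by
    rintro rfl
    rw [ENat.mul_top ha0] at h
    exact ENat.top_ne_one h
  lift a to ℕ using hat
  lift b to ℕ using hbt
  have h' : a * b = 1 := by exact_mod_cast h
  have := Nat.eq_one_of_mul_eq_one_right h'
  have := Nat.eq_one_of_mul_eq_one_left h'
  subst_vars
  exact ⟨rfl, rfl⟩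

variable {X Y : Scheme.{u}} (f : X ⟶ Y)

section Basic

variable (F : X.Modules) [F.IsQuasicoherent]

theorem finite_stalk_of_isFiniteType (hF : F.IsFiniteType) (x : X) :
    Module.Finite (X.presheaf.stalk x) (F.presheaf.stalk x) := by
  obtain ⟨U, hU, hxU, -⟩ := exists_isAffineOpen_mem_and_subset (x := x) (U := ⊤) trivial
  exact finite_stalk_of_finite_sections F hU x hxU (finite_sections_of_isFiniteType F hF hU)

theorem nontrivial_fibMod_of_hasSocle (z : X)
    (h : HasSocle (X.presheaf.stalk z) (fibMod f F z)) : Nontrivial (fibMod f F z) := by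
  obtain ⟨c, hc, -⟩ := h
  exact ⟨⟨c, 0, hc⟩⟩

theorem nontrivial_stalk_of_nontrivial_fibMod (z : X) (h : Nontrivial (fibMod f F z)) :
    Nontrivial (F.presheaf.stalk z) := by
  by_contra hnt
  rw [not_nontrivial_iff_subsingleton] at hnt
  haveI : Subsingleton (fibMod f F z) :=
    (Submodule.Quotient.mk_surjective _).subsingleton
  exact not_subsingleton _ this

theorem mem_ass_fiber_iff' [IsLocallyNoetherian X] (y : Y) (z' : f.fiber y) (z : X)
    (hz : f.fiberι y z' = z) :
    z' ∈ AssSch.Ass ((Scheme.Modules.pullback (f.fiberι y)).obj F) ↔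
      HasSocle (X.presheaf.stalk z) (fibMod f F z) := by
  subst hz
  exact mem_ass_fiber_iff f F y z'

theorem length_stalk_fiber' (y : Y) (z' : f.fiber y) (z : X) (hz : f.fiberι y z' = z) :
    Module.length ((f.fiber y).presheaf.stalk z')
        (((Scheme.Modules.pullback (f.fiberι y)).obj F).presheaf.stalk z') =
      Module.length (X.presheaf.stalk z) (fibMod f F z) := by
  subst hz
  exact length_stalk_fiber f F y z'

theorem exists_fiber_point (y : Y) (z : X) (hz : f z = y) :
    ∃ z' : f.fiber y, f.fiberι y z' = z := by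
  have : z ∈ Set.range (f.fiberι y) := by
    rw [f.range_fiberι y]
    exact hz
  exact this

end Basic

section Main

variable [IsLocallyNoetherian X] [IsLocallyNoetherian Y]
  (E : Y.Modules) (hE : Coh.IsCoh E) (F : X.Modules) (hF : Coh.IsCoh F)
  (hflat : FlatMod.IsFlatOver f F)

include hE hF hflat

theorem mem_ass_T_iff (z : X) :
    z ∈ AssSch.Ass (CohB1.tensorMod ((Scheme.Modules.pullback f).obj E) F) ↔
      f z ∈ AssSch.Ass E ∧ HasSocle (X.presheaf.stalk z) (fibMod f F z) := by
  haveI : E.IsQuasicoherent := hE.1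
  haveI : F.IsQuasicoherent := hF.1
  exact mem_ass_tensor_pullback_iff f E F z (hflat z)

/-- over an associated point `y` of `E` in the image of the support of `F` there is an associated
point of `f^*E ⊗ F` generizing any given point of the support. -/
theorem exists_ass_T_over (x₀ : X) (hx₀ : x₀ ∈ CohB1.support F) (hy : f x₀ ∈ AssSch.Ass E) :
    ∃ z : X, z ⤳ x₀ ∧ f z = f x₀ ∧
      z ∈ AssSch.Ass (CohB1.tensorMod ((Scheme.Modules.pullback f).obj E) F) := by
  haveI : F.IsQuasicoherent := hF.1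
  haveI := finite_stalk_of_isFiniteType F hF.2 x₀
  have hne : Nontrivial (fibMod f F x₀) :=
    nontrivial_fibMod_of_finite f F x₀ (not_subsingleton_iff_nontrivial.mp hx₀)
  obtain ⟨z, hzx₀, hfz, hzs⟩ :=
    exists_generization_hasSocle f F x₀ (hflat x₀) hne (f x₀) specializes_rfl
  exact ⟨z, hzx₀, hfz, (mem_ass_T_iff f E hE F hF hflat z).mpr ⟨by rw [hfz]; exact hy, hzs⟩⟩

/-- S2545 -/
theorem noEmbedded_tensor_iff :
    AssSch.NoEmbedded (CohB1.tensorMod ((Scheme.Modules.pullback f).obj E) F) ↔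
      ∀ y ∈ AssSch.Ass E ∩ f.base '' CohB1.support F,
        (∀ y' ∈ AssSch.Ass E, y' ⤳ y → y' = y) ∧
          AssSch.NoEmbedded ((Scheme.Modules.pullback (f.fiberι y)).obj F) := by
  haveI : E.IsQuasicoherent := hE.1
  haveI : F.IsQuasicoherent := hF.1
  have hT := mem_ass_T_iff f E hE F hF hflat
  constructor
  · rintro hne y ⟨hyE, x₀, hx₀, rfl⟩
    change f x₀ ∈ AssSch.Ass E at hyE
    change (∀ y' ∈ AssSch.Ass E, y' ⤳ f x₀ → y' = f x₀) ∧
      AssSch.NoEmbedded ((Scheme.Modules.pullback (f.fiberι (f x₀))).obj F)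
    constructor
    · intro y' hy'E hy'y
      obtain ⟨z, -, hfz, hz⟩ := exists_ass_T_over f E hE F hF hflat x₀ hx₀ hyE
      have hzs := ((hT z).mp hz).2
      have hnez := nontrivial_fibMod_of_hasSocle f F z hzs
      obtain ⟨w, hwz, hfw, hws⟩ := exists_generization_hasSocle f F z (hflat z) hnez y'
        (by rw [hfz]; exact hy'y)
      have hw : w ∈ AssSch.Ass (CohB1.tensorMod ((Scheme.Modules.pullback f).obj E) F) :=
        (hT w).mpr ⟨by rw [hfw]; exact hy'E, hws⟩
      have h1 : z = w := hne z hz w hw hwz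
      rw [← hfw, ← h1, hfz]
    · intro z' hz' w' hw' hw'z'
      have hfz : f (f.fiberι (f x₀) z') = f x₀ := fiberι_mem f _ z'
      have hfw : f (f.fiberι (f x₀) w') = f x₀ := fiberι_mem f _ w'
      have hz : f.fiberι (f x₀) z' ∈
          AssSch.Ass (CohB1.tensorMod ((Scheme.Modules.pullback f).obj E) F) :=
        (hT _).mpr ⟨by rw [hfz]; exact hyE, (mem_ass_fiber_iff f F _ z').mp hz'⟩
      have hw : f.fiberι (f x₀) w' ∈
          AssSch.Ass (CohB1.tensorMod ((Scheme.Modules.pullback f).obj E) F) :=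
        (hT _).mpr ⟨by rw [hfw]; exact hyE, (mem_ass_fiber_iff f F _ w').mp hw'⟩
      have h1 := hne _ hz _ hw (hw'z'.map (f.fiberι (f x₀)).continuous)
      exact (f.fiberι (f x₀)).isEmbedding.injective h1
  · intro hR z hz w hw hwz
    rw [hT] at hz hw
    have hzsupp : z ∈ CohB1.support F := not_subsingleton_iff_nontrivial.mpr
      (nontrivial_stalk_of_nontrivial_fibMod f F z (nontrivial_fibMod_of_hasSocle f F z hz.2))
    obtain ⟨hmax, hneF⟩ := hR (f z) ⟨hz.1, z, hzsupp, rfl⟩
    have hfw : f w = f z := hmax (f w) hw.1 (hwz.map f.continuous)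
    obtain ⟨z', hz'⟩ := exists_fiber_point f (f z) z rfl
    obtain ⟨w', hw'⟩ := exists_fiber_point f (f z) w hfw
    have hz'a := (mem_ass_fiber_iff' f F (f z) z' z hz').mpr hz.2
    have hw'a := (mem_ass_fiber_iff' f F (f z) w' w hw').mpr hw.2
    have hsp : w' ⤳ z' := by
      rw [← (f.fiberι (f z)).isEmbedding.isInducing.specializes_iff, hz', hw']
      exact hwz
    have h1 := hneF z' hz'a w' hw'a hsp
    rw [← hz', ← hw', h1]

/-- S2546 -/
theorem isReducedMod_tensor_iff :
    AssSch.IsReducedMod (CohB1.tensorMod ((Scheme.Modules.pullback f).obj E) F) ↔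
      ∀ y ∈ AssSch.Ass E ∩ f.base '' CohB1.support F,
        (∀ y' ∈ AssSch.Ass E, y' ⤳ y → y' = y) ∧
          Module.length (Y.presheaf.stalk y) (E.presheaf.stalk y) = 1 ∧
          AssSch.IsReducedMod ((Scheme.Modules.pullback (f.fiberι y)).obj F) := by
  haveI : E.IsQuasicoherent := hE.1
  haveI : F.IsQuasicoherent := hF.1
  have hT := mem_ass_T_iff f E hE F hF hflat
  have hlen : ∀ z, z ∈ AssSch.Ass (CohB1.tensorMod ((Scheme.Modules.pullback f).obj E) F) →
      Module.length (X.presheaf.stalk z)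
        ((CohB1.tensorMod ((Scheme.Modules.pullback f).obj E) F).presheaf.stalk z) =
      Module.length (Y.presheaf.stalk (f z)) (E.presheaf.stalk (f z)) *
        Module.length (X.presheaf.stalk z) (fibMod f F z) := fun z hz =>
    length_stalk_tensor_pullback f E F z (hflat z)
      (nontrivial_fibMod_of_hasSocle f F z ((hT z).mp hz).2)
  constructor
  · rintro ⟨hne, hl⟩ y hy
    obtain ⟨hmax, hneF⟩ := (noEmbedded_tensor_iff f E hE F hF hflat).mp hne y hy
    obtain ⟨hyE, x₀, hx₀, rfl⟩ := hy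
    change f x₀ ∈ AssSch.Ass E at hyE
    refine ⟨hmax, ?_, hneF, ?_⟩
    · obtain ⟨z, -, hfz, hz⟩ := exists_ass_T_over f E hE F hF hflat x₀ hx₀ hyE
      have h1 := hl z hz
      rw [hlen z hz] at h1
      have h2 := (enat_mul_eq_one' h1).1
      rw [hfz] at h2
      exact h2
    · intro z' hz'
      have hfz : f (f.fiberι (f x₀) z') = f x₀ := fiberι_mem f _ z'
      have hz : f.fiberι (f x₀) z' ∈
          AssSch.Ass (CohB1.tensorMod ((Scheme.Modules.pullback f).obj E) F) :=
        (hT _).mpr ⟨by rw [hfz]; exact hyE, (mem_ass_fiber_iff f F _ z').mp hz'⟩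
      have h1 := hl _ hz
      rw [hlen _ hz] at h1
      rw [length_stalk_fiber f F _ z']
      exact (enat_mul_eq_one' h1).2
  · intro hR
    refine ⟨(noEmbedded_tensor_iff f E hE F hF hflat).mpr
      fun y hy => ⟨(hR y hy).1, (hR y hy).2.2.1⟩, fun z hz => ?_⟩
    have hz2 := (hT z).mp hz
    have hzsupp : z ∈ CohB1.support F := not_subsingleton_iff_nontrivial.mpr
      (nontrivial_stalk_of_nontrivial_fibMod f F z (nontrivial_fibMod_of_hasSocle f F z hz2.2))
    obtain ⟨-, hlE, -, hlF⟩ := hR (f z) ⟨hz2.1, z, hzsupp, rfl⟩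
    obtain ⟨z', hz'⟩ := exists_fiber_point f (f z) z rfl
    have hz'a := (mem_ass_fiber_iff' f F (f z) z' z hz').mpr hz2.2
    have h1 := hlF z' hz'a
    rw [length_stalk_fiber' f F (f z) z' z hz'] at h1
    rw [hlen z hz, hlE, h1, one_mul]

end Main

end Groth.Agent.H3.TenAss
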