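import Mathlib
import Groth.Prelude.Def_FDesc
import Groth.Prelude.Def_DerSch
import Groth.Agent.Lib.Helper3.TenAssH

/-!
# Fibres of a projection of a fibre product (helper3)
-/

set_option autoImplicit false
universe u
open CategoryTheory CategoryTheory.Limits AlgebraicGeometry IsLocalRing TensorProduct

namespace Groth.Agent.H3.TenAss

open Groth.Agent.LD.QC Groth.Agent.H3.FlatAss Groth.Agent.H1.StalkGen

attribute [-instance] Groth.Agent.LD.QC.stalkModule

section Iso

variable {X : Scheme.{u}}

/-- the linear equivalence of stalks induced by an isomorphism of modules. -/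
noncomputable def stalkEquivOfIso {M N : X.Modules} (e : M ≅ N) (x : X) :
    M.presheaf.stalk x ≃ₗ[X.presheaf.stalk x] N.presheaf.stalk x :=
  ((DerSch.stalkFunctor X x).mapIso e).toLinearEquiv

theorem mem_ass_iff_of_iso {M N : X.Modules} (e : M ≅ N) (x : X) :
    x ∈ AssSch.Ass M ↔ x ∈ AssSch.Ass N :=
  (stalkEquivOfIso e x).isAssociatedPrime_iff

end Iso

section FlatPt

variable {X' X : Scheme.{u}} (π : X' ⟶ X) (F : X.Modules) [F.IsQuasicoherent] (z : X')

/-- pointwise version of `mem_ass_pullback_iff`, without Noetherian hypotheses on the schemes -/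
theorem hasSocle_stalk_pullback_iff' [IsNoetherianRing (X.presheaf.stalk (π z))]
    (hfl : (π.stalkMap z).hom.Flat) :
    HasSocle (X'.presheaf.stalk z) (((Scheme.Modules.pullback π).obj F).presheaf.stalk z) ↔
      HasSocle (X.presheaf.stalk (π z)) (F.presheaf.stalk (π z)) ∧
        HasSocle (X'.presheaf.stalk z) (fibreRing π z) := by
  letI := FlatMod.moduleStalkOver π ((Scheme.Modules.pullback π).obj F) z
  letI : Algebra (X.presheaf.stalk (π z)) (X'.presheaf.stalk z) := (π.stalkMap z).hom.toAlgebra
  haveI : IsScalarTower (X.presheaf.stalk (π z)) (X'.presheaf.stalk z)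
      (((Scheme.Modules.pullback π).obj F).presheaf.stalk z) :=
    IsScalarTower.of_algebraMap_smul fun r m => rfl
  obtain ⟨σ, hσ⟩ : ∃ σ : F.presheaf.stalk (π z) →ₗ[X.presheaf.stalk (π z)]
      ((Scheme.Modules.pullback π).obj F).presheaf.stalk z,
      IsBaseChange (X'.presheaf.stalk z) σ := exists_stalk_pullback_isBaseChange π F z
  haveI : Module.Flat (X.presheaf.stalk (π z)) (X'.presheaf.stalk z) := hfl
  haveI : IsLocalHom (algebraMap (X.presheaf.stalk (π z)) (X'.presheaf.stalk z)) :=
    inferInstanceAs (IsLocalHom (π.stalkMap z).hom)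
  exact hasSocle_of_isBaseChange_iff σ hσ

theorem length_stalk_pullback' (hfl : (π.stalkMap z).hom.Flat) :
    Module.length (X'.presheaf.stalk z) (((Scheme.Modules.pullback π).obj F).presheaf.stalk z) =
      Module.length (X.presheaf.stalk (π z)) (F.presheaf.stalk (π z)) *
        Module.length (X'.presheaf.stalk z) (fibreRing π z) := by
  letI := FlatMod.moduleStalkOver π ((Scheme.Modules.pullback π).obj F) z
  letI : Algebra (X.presheaf.stalk (π z)) (X'.presheaf.stalk z) := (π.stalkMap z).hom.toAlgebra
  haveI : IsScalarTower (X.presheaf.stalk (π z)) (X'.presheaf.stalk z)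
      (((Scheme.Modules.pullback π).obj F).presheaf.stalk z) :=
    IsScalarTower.of_algebraMap_smul fun r m => rfl
  obtain ⟨σ, hσ⟩ : ∃ σ : F.presheaf.stalk (π z) →ₗ[X.presheaf.stalk (π z)]
      ((Scheme.Modules.pullback π).obj F).presheaf.stalk z,
      IsBaseChange (X'.presheaf.stalk z) σ := exists_stalk_pullback_isBaseChange π F z
  haveI : Module.Flat (X.presheaf.stalk (π z)) (X'.presheaf.stalk z) := hfl
  haveI : IsLocalHom (algebraMap (X.presheaf.stalk (π z)) (X'.presheaf.stalk z)) :=
    inferInstanceAs (IsLocalHom (π.stalkMap z).hom)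
  rw [← hσ.equiv.length_eq]
  exact IsLocalRing.length_baseChange (X.presheaf.stalk (π z)) (X'.presheaf.stalk z)
    (F.presheaf.stalk (π z))

end FlatPt

section Fib

variable {X Y S Z : Scheme.{u}} {p : Z ⟶ X} {q : Z ⟶ Y} {f : X ⟶ S} {g : Y ⟶ S}
  (hc : IsPullback q p g f) (x : X)

/-- the fibre of `Z = Y ×_S X → X` over `x` maps to the fibre of `Y → S` over `f x` -/
noncomputable def fibMap : p.fiber x ⟶ g.fiber (f x) :=
  pullback.map _ _ _ _ q (Spec.map (f.residueFieldMap x)) f hc.w.symm (by simp)

theorem fibMap_fiberι : fibMap hc x ≫ g.fiberι (f x) = p.fiberι x ≫ q :=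
  pullback.lift_fst _ _ _

theorem isPullback_fibMap :
    IsPullback (fibMap hc x) (p.fiberToSpecResidueField x) (g.fiberToSpecResidueField (f x))
      (Spec.map (f.residueFieldMap x)) :=
  isPullback_fiberToSpecResidueField_of_isPullback hc x

instance flat_fibMap : Flat (fibMap hc x) :=
  MorphismProperty.of_isPullback (P := @Flat) (isPullback_fibMap hc x).flip inferInstance

/-- restriction to the fibre of the pullback of `G` is the pullback of the restriction of `G` -/
noncomputable def fibModIso (G : Y.Modules) :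
    (Scheme.Modules.pullback (p.fiberι x)).obj ((Scheme.Modules.pullback q).obj G) ≅
      (Scheme.Modules.pullback (fibMap hc x)).obj
        ((Scheme.Modules.pullback (g.fiberι (f x))).obj G) :=
  (Scheme.Modules.pullbackComp (p.fiberι x) q).app G ≪≫
    (Scheme.Modules.pullbackCongr (fibMap_fiberι hc x).symm).app G ≪≫
    ((Scheme.Modules.pullbackComp (fibMap hc x) (g.fiberι (f x))).app G).symm

end Fib

end Groth.Agent.H3.TenAss
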