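import Mathlib
import Groth.Prelude.Def_FDesc
import Groth.Agent.Lib.Helper3.FlatAssE
import Groth.Agent.Lib.Helper3.TenAssI

/-!
# Fibre rings of base changes of field extensions (helper3)
-/

set_option autoImplicit false
universe u
open CategoryTheory CategoryTheory.Limits AlgebraicGeometry IsLocalRing TensorProduct

namespace Groth.Agent.H3.TenAss

open Groth.Agent.LD.QC Groth.Agent.H3.FlatAss Groth.Agent.H1.StalkGen

attribute [-instance] Groth.Agent.LD.QC.stalkModule

section Transfer

variable {Z' Z'' Y' : Scheme.{u}}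

/-- fibre rings are invariant under isomorphisms of the source -/
theorem nonempty_fibreRing_equiv_of_iso (e : Z' ≅ Z'') (π'' : Z'' ⟶ Y') (π : Z' ⟶ Y')
    (h : e.hom ≫ π'' = π) (z' : Z') :
    Nonempty (fibreRing π z' ≃+* fibreRing π'' (e.hom z')) := by
  subst h
  have hiso : IsIso (e.hom.stalkMap z') := inferInstance
  let ε : Z''.presheaf.stalk (e.hom z') ≃+* Z'.presheaf.stalk z' :=
    RingEquiv.ofBijective (e.hom.stalkMap z').hom
      (ConcreteCategory.bijective_of_isIso (e.hom.stalkMap z'))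
  have h1 : fibreIdeal (e.hom ≫ π'') z' = (fibreIdeal π'' (e.hom z')).map (ε : _ →+* _) := by
    change Ideal.map _ _ = Ideal.map _ (Ideal.map _ _)
    rw [Ideal.map_map, Scheme.Hom.stalkMap_comp]
    rfl
  exact ⟨(Ideal.quotientEquiv _ _ ε h1).symm⟩

end Transfer

section Field

variable {k : Type u} [Field k] (K : Type u) [Field K] [Algebra k K] {Z' Y' : Scheme.{u}}
  {π : Z' ⟶ Y'} {a : Z' ⟶ Spec (CommRingCat.of K)} {b : Y' ⟶ Spec (CommRingCat.of k)}

/-- in a base change of a field extension, a fibre ring with a socle element has only one prime -/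
theorem forall_prime_of_hasSocle_fibreRing
    (hpb : IsPullback π a b (Spec.map (CommRingCat.ofHom (algebraMap k K)))) (z' : Z')
    (h : HasSocle (Z'.presheaf.stalk z') (fibreRing π z'))
    (P : Ideal (Z'.presheaf.stalk z')) (hP : P.IsPrime) (hle : fibreIdeal π z' ≤ P) :
    P = maximalIdeal (Z'.presheaf.stalk z') := by
  let e : Z' ≅ FBase.bc b K := hpb.isoPullback
  have he : e.hom ≫ FBase.bcπ b K = π := hpb.isoPullback_hom_fst
  obtain ⟨e1⟩ := nonempty_fibreRing_equiv_of_iso e (FBase.bcπ b K) π he z'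
  letI : Algebra k (Y'.residueField (FBase.bcπ b K (e.hom z'))) :=
    (resAlg b (FBase.bcπ b K (e.hom z'))).toAlgebra
  obtain ⟨q, ⟨e2⟩⟩ := exists_prime_fibreRing b K (e.hom z')
  have hs : HasSocle (fibreRing π z') (fibreRing π z') := (hasSocle_quotient_iff _).mp h
  obtain ⟨c, hc0, hc⟩ := hasSocle_of_ringEquiv (e1.trans e2) hs
  have hqmin : q.asIdeal ∈ minimalPrimes
      (Y'.residueField (FBase.bcπ b K (e.hom z')) ⊗[k] K) :=
    Groth.Agent.H3.ProdAss.minimal_of_socle k _ K q.asIdeal c hc0 (fun m hm => hc m hm)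
  have hall : ∀ P : Ideal (fibreRing π z'), P.IsPrime → P = maximalIdeal (fibreRing π z') :=
    forall_prime_of_ringEquiv (e1.trans e2) (fun J hJ =>
      Groth.Agent.H3.ProdAss.maximalIdeal_le_of_minimal q.asIdeal hqmin J)
  exact forall_prime_of_forall_prime_quotient _ hall P hP hle

end Field

end Groth.Agent.H3.TenAss
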