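import Mathlib
import Groth.Prelude.Def_FDesc
import Groth.Agent.Lib.Lead.QC.FlatBC
import Groth.Agent.Lib.Helper3.TenAssJ

/-!
# Associated points of `F ⊗_S G` (helper3; S4670, S4671, S4685)
-/

set_option autoImplicit false
universe u
open CategoryTheory CategoryTheory.Limits AlgebraicGeometry IsLocalRing TensorProduct

namespace Groth.Agent.H3.TenAss

open Groth.Agent.LD.QC Groth.Agent.H3.FlatAss Groth.Agent.H1.StalkGen

attribute [-instance] Groth.Agent.LD.QC.stalkModule

section Flat1

variable {Y S : Scheme.{u}} (g : Y ⟶ S) (G : Y.Modules) [G.IsQuasicoherent]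

theorem hasSocle_fibMod_congr {y₁ y₂ : Y} (h : y₁ = y₂) :
    HasSocle (Y.presheaf.stalk y₁) (fibMod g G y₁) ↔
      HasSocle (Y.presheaf.stalk y₂) (fibMod g G y₂) := by
  subst h
  rfl

/-- associated points of a module flat over the base -/
theorem mem_ass_iff_of_flat [IsLocallyNoetherian Y] [IsLocallyNoetherian S] (y : Y)
    (hfl : FlatMod.IsFlatOverAt g G y) :
    y ∈ AssSch.Ass G ↔
      g y ∈ AssSch.Ass (Coh.structureModule S) ∧ HasSocle (Y.presheaf.stalk y) (fibMod g G y) := by
  letI := FlatMod.moduleStalkOver g G y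
  letI : Algebra (S.presheaf.stalk (g y)) (Y.presheaf.stalk y) := (g.stalkMap y).hom.toAlgebra
  haveI : IsScalarTower (S.presheaf.stalk (g y)) (Y.presheaf.stalk y) (G.presheaf.stalk y) :=
    IsScalarTower.of_algebraMap_smul fun r m => rfl
  haveI : Module.Flat (S.presheaf.stalk (g y)) (G.presheaf.stalk y) := hfl
  haveI : IsLocalHom (algebraMap (S.presheaf.stalk (g y)) (Y.presheaf.stalk y)) :=
    inferInstanceAs (IsLocalHom (g.stalkMap y).hom)
  rw [mem_ass_structureModule_iff]
  change IsAssociatedPrime _ _ ↔ _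
  rw [isAssociatedPrime_maximalIdeal_iff,
    ← hasSocle_congr (AlgebraTensorModule.rid (S.presheaf.stalk (g y)) (Y.presheaf.stalk y)
      (G.presheaf.stalk y)),
    hasSocle_tensor_iff (S.presheaf.stalk (g y)) (G.presheaf.stalk y),
    hasSocle_congr (fibreEquiv (B := Y.presheaf.stalk y) (G.presheaf.stalk y)
      (maximalIdeal (S.presheaf.stalk (g y))))]
  exact Iff.rfl

end Flat1

section Main

variable {X Y S Z : Scheme.{u}} {p : Z ⟶ X} {q : Z ⟶ Y} {f : X ⟶ S} {g : Y ⟶ S}
  (hc : IsPullback q p g f)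

theorem forall_prime_fibMap (x : X) (z' : p.fiber x)
    (h : HasSocle ((p.fiber x).presheaf.stalk z') (fibreRing (fibMap hc x) z'))
    (P : Ideal ((p.fiber x).presheaf.stalk z')) (hP : P.IsPrime)
    (hle : fibreIdeal (fibMap hc x) z' ≤ P) :
    P = maximalIdeal ((p.fiber x).presheaf.stalk z') := by
  letI : Algebra (S.residueField (f x)) (X.residueField x) := (f.residueFieldMap x).hom.toAlgebra
  exact forall_prime_of_hasSocle_fibreRing (k := S.residueField (f x)) (X.residueField x)
    (isPullback_fibMap hc x) z' h P hP hle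

theorem fibMap_apply (x : X) (z' : p.fiber x) :
    g.fiberι (f x) (fibMap hc x z') = q (p.fiberι x z') :=
  congr($(fibMap_fiberι hc x) z')

variable (G : Y.Modules) [G.IsQuasicoherent]

/-- the fibre of `q^*G` over `x` at `z'` in terms of the fibre of `G` over `f x` -/
theorem hasSocle_fibMod_snd_iff [IsLocallyNoetherian Y] (x : X) (z' : p.fiber x) :
    HasSocle (Z.presheaf.stalk (p.fiberι x z'))
        (fibMod p ((Scheme.Modules.pullback q).obj G) (p.fiberι x z')) ↔
      HasSocle (Y.presheaf.stalk (q (p.fiberι x z'))) (fibMod g G (q (p.fiberι x z'))) ∧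
      HasSocle ((p.fiber x).presheaf.stalk z') (fibreRing (fibMap hc x) z') := by
  haveI : ((Scheme.Modules.pullback q).obj G).IsQuasicoherent := qc_pullback q G
  haveI : ((Scheme.Modules.pullback (g.fiberι (f x))).obj G).IsQuasicoherent :=
    qc_pullback _ G
  haveI := isNoetherianRing_stalk_fiber g (f x) (fibMap hc x z')
  rw [← hasSocle_stalk_fiber_iff p ((Scheme.Modules.pullback q).obj G) x z',
    hasSocle_congr (stalkEquivOfIso (fibModIso hc x G) z'),
    hasSocle_stalk_pullback_iff' (fibMap hc x) _ z' (Flat.stalkMap _ z'),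
    hasSocle_stalk_fiber_iff g G (f x) (fibMap hc x z'),
    hasSocle_fibMod_congr g G (fibMap_apply hc x z')]

end Main

end Groth.Agent.H3.TenAss
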