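import Mathlib
import Groth.Prelude.Def_FDesc
import Groth.Agent.Lib.Helper3.TenAssK

/-!
# Associated points of `F ⊗_S G`: the rows S4670, S4671, S4685 (helper3)
-/

set_option autoImplicit false
universe u
open CategoryTheory CategoryTheory.Limits AlgebraicGeometry IsLocalRing TensorProduct

namespace Groth.Agent.H3.TenAss

open Groth.Agent.LD.QC Groth.Agent.H3.FlatAss Groth.Agent.H1.StalkGen

attribute [-instance] Groth.Agent.LD.QC.stalkModule

section Rows

variable {X Y S : Scheme.{u}} (f : X ⟶ S) (g : Y ⟶ S)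

theorem hcS : IsPullback (pullback.snd f g) (pullback.fst f g) g f :=
  (IsPullback.of_hasPullback f g).flip

/-- common final step -/
theorem eq_of_specializes_of_fibMap_eq (x : X) (z' w' : (pullback.fst f g).fiber x)
    (hsp : w' ⤳ z')
    (hq : pullback.snd f g ((pullback.fst f g).fiberι x w') =
      pullback.snd f g ((pullback.fst f g).fiberι x z'))
    (hs : HasSocle (((pullback.fst f g).fiber x).presheaf.stalk z')
        (fibreRing (fibMap (hcS f g) x) z')) : w' = z' := by
  have hπ : fibMap (hcS f g) x w' = fibMap (hcS f g) x z' := by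
    apply (g.fiberι (f x)).isEmbedding.injective
    rw [fibMap_apply, fibMap_apply, hq]
  exact eq_of_specializes_of_forall_prime (fibMap (hcS f g) x) z' w' hsp hπ
    (forall_prime_fibMap (hcS f g) x z' hs)

variable [IsLocallyNoetherian X] [IsLocallyNoetherian Y] [IsLocallyNoetherian (pullback f g)]
  (F : X.Modules) [F.IsQuasicoherent] (G : Y.Modules) [G.IsQuasicoherent]
  (hGfl : FlatMod.IsFlatOver g G)

include hGfl

theorem mem_ass_tensorS_iff (x : X) (z' : (pullback.fst f g).fiber x) :
    (pullback.fst f g).fiberι x z' ∈ AssSch.Ass (CohB1.tensorMod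
        ((Scheme.Modules.pullback (pullback.fst f g)).obj F)
        ((Scheme.Modules.pullback (pullback.snd f g)).obj G)) ↔
      x ∈ AssSch.Ass F ∧
      HasSocle (Y.presheaf.stalk (pullback.snd f g ((pullback.fst f g).fiberι x z')))
        (fibMod g G (pullback.snd f g ((pullback.fst f g).fiberι x z'))) ∧
      HasSocle (((pullback.fst f g).fiber x).presheaf.stalk z')
        (fibreRing (fibMap (hcS f g) x) z') := by
  haveI : ((Scheme.Modules.pullback (pullback.snd f g)).obj G).IsQuasicoherent :=
    qc_pullback _ G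
  have hfl : FlatMod.IsFlatOverAt (pullback.fst f g)
      ((Scheme.Modules.pullback (pullback.snd f g)).obj G) ((pullback.fst f g).fiberι x z') :=
    isFlatOverAt_pullback_of_isPullback (hcS f g) G _ (hGfl _)
  rw [mem_ass_tensor_pullback_iff (pullback.fst f g) F _ _ hfl,
    hasSocle_fibMod_snd_iff (hcS f g) G x z', fiberι_mem]

/-- S4670 -/
theorem snd_mem_ass [IsLocallyNoetherian S]
    (hAss : ∀ x ∈ AssSch.Ass F, f x ∈ AssSch.Ass (Coh.structureModule S))
    (z : ↥(pullback f g))
    (hz : z ∈ AssSch.Ass (CohB1.tensorMod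
        ((Scheme.Modules.pullback (pullback.fst f g)).obj F)
        ((Scheme.Modules.pullback (pullback.snd f g)).obj G))) :
    pullback.snd f g z ∈ AssSch.Ass G := by
  have h := mem_ass_tensorS_iff f g F G hGfl (pullback.fst f g z) ((pullback.fst f g).asFiber z)
  rw [(pullback.fst f g).fiberι_asFiber z] at h
  obtain ⟨h1, h2, -⟩ := h.mp hz
  have hw : g (pullback.snd f g z) = f (pullback.fst f g z) :=
    congr($(pullback.condition (f := f) (g := g)) z).symm
  refine (mem_ass_iff_of_flat g G _ (hGfl _)).mpr ⟨?_, h2⟩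
  rw [hw]
  exact hAss _ h1

/-- S4671 -/
theorem noEmbedded_tensorS [IsLocallyNoetherian S]
    (hAss : ∀ x ∈ AssSch.Ass F, f x ∈ AssSch.Ass (Coh.structureModule S))
    (hFne : AssSch.NoEmbedded F) (hGne : AssSch.NoEmbedded G) :
    AssSch.NoEmbedded (CohB1.tensorMod
        ((Scheme.Modules.pullback (pullback.fst f g)).obj F)
        ((Scheme.Modules.pullback (pullback.snd f g)).obj G)) := by
  intro z hz w hw hwz
  have hqz := snd_mem_ass f g F G hGfl hAss z hz
  have hqw := snd_mem_ass f g F G hGfl hAss w hw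
  have hq : pullback.snd f g z = pullback.snd f g w :=
    hGne _ hqz _ hqw (hwz.map (pullback.snd f g).continuous)
  obtain ⟨z', hz'⟩ := exists_fiber_point (pullback.fst f g) (pullback.fst f g z) z rfl
  have hz3 := mem_ass_tensorS_iff f g F G hGfl (pullback.fst f g z) z'
  rw [hz'] at hz3
  obtain ⟨hz1, -, hz2⟩ := hz3.mp hz
  have hw1 : pullback.fst f g w ∈ AssSch.Ass F := by
    have h := mem_ass_tensorS_iff f g F G hGfl (pullback.fst f g w) ((pullback.fst f g).asFiber w)
    rw [(pullback.fst f g).fiberι_asFiber w] at h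
    exact (h.mp hw).1
  have hp : pullback.fst f g z = pullback.fst f g w :=
    hFne _ hz1 _ hw1 (hwz.map (pullback.fst f g).continuous)
  obtain ⟨w', hw'⟩ := exists_fiber_point (pullback.fst f g) (pullback.fst f g z) w hp.symm
  have hsp : w' ⤳ z' := by
    rw [← ((pullback.fst f g).fiberι (pullback.fst f g z)).isEmbedding.isInducing.specializes_iff,
      hz', hw']
    exact hwz
  have h1 := eq_of_specializes_of_fibMap_eq f g (pullback.fst f g z) z' w' hsp
    (by rw [hz', hw', hq]) hz2
  rw [← hz', ← hw', h1]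

/-- S4685 -/
theorem noEmbedded_tensorS_fibre
    (hFne : AssSch.NoEmbedded F)
    (hGne : ∀ s : ↥S, AssSch.NoEmbedded ((Scheme.Modules.pullback (g.fiberι s)).obj G)) :
    AssSch.NoEmbedded (CohB1.tensorMod
        ((Scheme.Modules.pullback (pullback.fst f g)).obj F)
        ((Scheme.Modules.pullback (pullback.snd f g)).obj G)) := by
  intro z hz w hw hwz
  obtain ⟨z', hz'⟩ := exists_fiber_point (pullback.fst f g) (pullback.fst f g z) z rfl
  have hz3 := mem_ass_tensorS_iff f g F G hGfl (pullback.fst f g z) z'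
  rw [hz'] at hz3
  obtain ⟨hz1, hzG, hz2⟩ := hz3.mp hz
  have hw1 : pullback.fst f g w ∈ AssSch.Ass F := by
    have h := mem_ass_tensorS_iff f g F G hGfl (pullback.fst f g w) ((pullback.fst f g).asFiber w)
    rw [(pullback.fst f g).fiberι_asFiber w] at h
    exact (h.mp hw).1
  have hp : pullback.fst f g z = pullback.fst f g w :=
    hFne _ hz1 _ hw1 (hwz.map (pullback.fst f g).continuous)
  obtain ⟨w', hw'⟩ := exists_fiber_point (pullback.fst f g) (pullback.fst f g z) w hp.symm
  have hw3 := mem_ass_tensorS_iff f g F G hGfl (pullback.fst f g z) w'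
  rw [hw'] at hw3
  obtain ⟨-, hwG, -⟩ := hw3.mp hw
  have hsp : w' ⤳ z' := by
    rw [← ((pullback.fst f g).fiberι (pullback.fst f g z)).isEmbedding.isInducing.specializes_iff,
      hz', hw']
    exact hwz
  -- the images in the fibre of `g`
  have hyz : g.fiberι (f (pullback.fst f g z)) (fibMap (hcS f g) _ z') = pullback.snd f g z := by
    rw [fibMap_apply, hz']
  have hyw : g.fiberι (f (pullback.fst f g z)) (fibMap (hcS f g) _ w') = pullback.snd f g w := by
    rw [fibMap_apply, hw']
  have hyza := (mem_ass_fiber_iff' g G _ _ _ hyz).mpr hzG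
  have hywa := (mem_ass_fiber_iff' g G _ _ _ hyw).mpr hwG
  have hyeq := hGne _ _ hyza _ hywa (hsp.map (fibMap (hcS f g) _).continuous)
  have hq : pullback.snd f g w = pullback.snd f g z := by
    rw [← hyw, ← hyz, hyeq]
  have h1 := eq_of_specializes_of_fibMap_eq f g (pullback.fst f g z) z' w' hsp
    (by rw [hz', hw', hq]) hz2
  rw [← hz', ← hw', h1]

end Rows

end Groth.Agent.H3.TenAss
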