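import Mathlib
import Groth.Prelude.Def_FDesc
import Groth.Agent.Lib.Helper3.FlatAssE
import Groth.Agent.Lib.Helper3.TenAssL

/-!
# Associated points of the structure sheaf of a fibre; the schemes `T(x,y)` (helper3; S4668, S4669)
-/

set_option autoImplicit false
universe u
open CategoryTheory CategoryTheory.Limits AlgebraicGeometry IsLocalRing TensorProduct

namespace Groth.Agent.H3.TenAss

open Groth.Agent.LD.QC Groth.Agent.H3.FlatAss

attribute [-instance] Groth.Agent.LD.QC.stalkModule

section Alg

theorem hasSocle_self_of_ringEquiv {R R' : Type*} [CommRing R] [IsLocalRing R] [CommRing R']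
    [IsLocalRing R'] (e : R ≃+* R') (h : HasSocle R R) : HasSocle R' R' := by
  obtain ⟨c, hc, hm⟩ := h
  refine ⟨e c, by simpa using hc, fun r hr => ?_⟩
  have h1 : e.symm r ∈ maximalIdeal R := by
    rw [mem_maximalIdeal, mem_nonunits_iff] at hr ⊢
    exact fun h => hr (by simpa using h.map e)
  have h2 := hm _ h1
  rw [smul_eq_mul] at h2 ⊢
  rw [← e.apply_symm_apply r, ← map_mul, h2, map_zero]

theorem hasSocle_self_iff_of_ringEquiv {R R' : Type*} [CommRing R] [IsLocalRing R] [CommRing R']
    [IsLocalRing R'] (e : R ≃+* R') : HasSocle R R ↔ HasSocle R' R' :=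
  ⟨hasSocle_self_of_ringEquiv e, hasSocle_self_of_ringEquiv e.symm⟩

theorem map_maximalIdeal_of_surjective {R R' : Type*} [CommRing R] [IsLocalRing R] [CommRing R']
    [IsLocalRing R'] (φ : R →+* R') (hs : Function.Surjective φ) :
    (maximalIdeal R).map φ = maximalIdeal R' := by
  haveI : IsLocalHom φ := IsLocalHom.of_surjective _ hs
  rcases Ideal.map_eq_top_or_isMaximal_of_surjective φ hs (maximalIdeal.isMaximal R) with h | h
  · exfalso
    have h1 : (maximalIdeal R).map φ ≤ maximalIdeal R' :=
      ((local_hom_TFAE φ).out 0 2 rfl rfl).mp inferInstance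
    rw [h] at h1
    exact (maximalIdeal.isMaximal R').ne_top (top_le_iff.mp h1)
  · exact IsLocalRing.eq_maximalIdeal h

/-- a quotient of the ring, as a module over the ring and as a module over itself -/
theorem hasSocle_quot_self_iff {B B' : Type*} [CommRing B] [IsLocalRing B] [CommRing B']
    [IsLocalRing B'] [Algebra B B'] (hs : Function.Surjective (algebraMap B B')) (I : Ideal B)
    (hI : RingHom.ker (algebraMap B B') = I) :
    HasSocle B' B' ↔ HasSocle B (B ⧸ I) := by
  rw [hasSocle_restrictScalars_iff hs]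
  have hk : LinearMap.ker (Algebra.linearMap B B') = I := by
    rw [← hI]
    ext a
    simp [RingHom.mem_ker]
  exact hasSocle_congr
    ((Submodule.quotEquivOfEq _ _ hk).symm ≪≫ₗ
      (Algebra.linearMap B B').quotKerEquivOfSurjective hs).symm

end Alg

section Str

theorem mem_ass_structureModule_iff' {X : Scheme.{u}} (x : X)
    [IsNoetherianRing (X.presheaf.stalk x)] :
    x ∈ AssSch.Ass (Coh.structureModule X) ↔
      HasSocle (X.presheaf.stalk x) (X.presheaf.stalk x) := by
  rw [← isAssociatedPrime_maximalIdeal_iff]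
  exact (Groth.Agent.H3.ProdAss.unitStalkEquiv x).isAssociatedPrime_iff.symm

/-- associated points of the structure sheaf correspond under an isomorphism -/
theorem mem_ass_structureModule_iff_of_isIso {U V : Scheme.{u}} (j : U ⟶ V) [IsIso j] (u : U)
    [IsNoetherianRing (U.presheaf.stalk u)] :
    j u ∈ AssSch.Ass (Coh.structureModule V) ↔ u ∈ AssSch.Ass (Coh.structureModule U) := by
  have e : V.presheaf.stalk (j u) ≃+* U.presheaf.stalk u :=
    (asIso (j.stalkMap u)).commRingCatIsoToRingEquiv
  haveI : IsNoetherianRing (V.presheaf.stalk (j u)) := isNoetherianRing_of_ringEquiv _ e.symm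
  rw [mem_ass_structureModule_iff', mem_ass_structureModule_iff']
  exact hasSocle_self_iff_of_ringEquiv e

variable {W Y : Scheme.{u}} (φ : W ⟶ Y)

/-- associated points of the structure sheaf of a fibre -/
theorem mem_ass_structureModule_fiber_iff (y : Y) (t' : φ.fiber y)
    [IsNoetherianRing (W.presheaf.stalk (φ.fiberι y t'))] :
    t' ∈ AssSch.Ass (Coh.structureModule (φ.fiber y)) ↔
      HasSocle (W.presheaf.stalk (φ.fiberι y t')) (fibreRing φ (φ.fiberι y t')) := by
  haveI : IsNoetherianRing ((φ.fiber y).presheaf.stalk t') :=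
    isNoetherianRing_of_surjective _ _ ((φ.fiberι y).stalkMap t').hom
      ((φ.fiberι y).stalkMap_surjective t')
  rw [mem_ass_structureModule_iff']
  letI : Algebra (W.presheaf.stalk (φ.fiberι y t')) ((φ.fiber y).presheaf.stalk t') :=
    ((φ.fiberι y).stalkMap t').hom.toAlgebra
  have hs : Function.Surjective (algebraMap (W.presheaf.stalk (φ.fiberι y t'))
      ((φ.fiber y).presheaf.stalk t')) := (φ.fiberι y).stalkMap_surjective t'
  exact hasSocle_quot_self_iff hs _ (ker_stalkMap_fiberι φ y t')

theorem mem_ass_structureModule_fiber_iff' (y : Y) (t' : φ.fiber y) (w : W)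
    (hw : φ.fiberι y t' = w) [IsNoetherianRing (W.presheaf.stalk w)] :
    t' ∈ AssSch.Ass (Coh.structureModule (φ.fiber y)) ↔
      HasSocle (W.presheaf.stalk w) (fibreRing φ w) := by
  subst hw
  exact mem_ass_structureModule_fiber_iff φ y t'

/-- the fibre ideal does not see a preimmersion-like second factor -/
theorem fibreIdeal_comp_of_surjective {V : Scheme.{u}} (ψ : W ⟶ V) (ι : V ⟶ Y) (w : W)
    (hs : Function.Surjective (ι.stalkMap (ψ w)).hom) :
    fibreIdeal (ψ ≫ ι) w = fibreIdeal ψ w := by
  have h1 : ((ψ ≫ ι).stalkMap w).hom = (ψ.stalkMap w).hom.comp (ι.stalkMap (ψ w)).hom := by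
    rw [Scheme.Hom.stalkMap_comp]
    rfl
  have h2 := Ideal.map_map (I := maximalIdeal (Y.presheaf.stalk (ι (ψ w))))
    (ι.stalkMap (ψ w)).hom (ψ.stalkMap w).hom
  rw [map_maximalIdeal_of_surjective _ hs] at h2
  show (maximalIdeal (Y.presheaf.stalk (ι (ψ w)))).map ((ψ ≫ ι).stalkMap w).hom =
    (maximalIdeal (V.presheaf.stalk (ψ w))).map (ψ.stalkMap w).hom
  rw [h2]
  exact congrArg (fun θ => Ideal.map θ (maximalIdeal (Y.presheaf.stalk (ι (ψ w))))) h1

end Str

end Groth.Agent.H3.TenAss
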