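import Mathlib

/-!
# Relative associated primes, generically (helper3): basic algebra

Elementary lemmas used for EGA IV 9.8-type statements (S1368, S1369, S1446): a flat-cokernel lemma
in elementwise form, Noetherianity of localizations of generic fibres, and the elementwise
predicate `RelAssAt`.
-/

set_option autoImplicit false
universe u

namespace Groth.Agent.H3.RelGen

section Basic

/-- `(I B) • M = I • M` as sets, for a `B`-module `M` over an `R`-algebra `B` -/
theorem mem_map_smul_top_iff {R B M : Type*} [CommRing R] [CommRing B] [Algebra R B]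
    [AddCommGroup M] [Module B M] [Module R M] [IsScalarTower R B M] (I : Ideal R) (x : M) :
    x ∈ (I.map (algebraMap R B)) • (⊤ : Submodule B M) ↔ x ∈ I • (⊤ : Submodule R M) := by
  constructor
  · intro hx
    have key : ∀ b ∈ I.map (algebraMap R B), ∀ m : M, b • m ∈ I • (⊤ : Submodule R M) := by
      intro b hb
      refine Submodule.span_induction ?_ ?_ ?_ ?_ hb
      · rintro _ ⟨a, ha, rfl⟩ m
        rw [algebraMap_smul]
        exact Submodule.smul_mem_smul ha trivial
      · intro m
        rw [zero_smul]
        exact zero_mem _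
      · intro b₁ b₂ _ _ h₁ h₂ m
        rw [add_smul]
        exact add_mem (h₁ m) (h₂ m)
      · intro c b₁ _ h₁ m
        rw [smul_eq_mul, mul_comm, mul_smul]
        exact h₁ (c • m)
    refine Submodule.smul_induction_on hx ?_ (fun _ _ => add_mem)
    intro b hb m _
    exact key b hb m
  · intro hx
    refine Submodule.smul_induction_on hx ?_ (fun _ _ => add_mem)
    intro a ha m _
    rw [← algebraMap_smul B a m]
    exact Submodule.smul_mem_smul (Ideal.mem_map_of_mem _ ha) trivial

/-- flat cokernel (after inverting `r`): elements of `u(M) ∩ p M'` come from `p M` up to a power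
of `r`. -/
theorem exists_pow_smul_eq_of_flat {R : Type*} [CommRing R] (r : R) {M M' C : Type*}
    [AddCommGroup M] [Module R M] [AddCommGroup M'] [Module R M'] [AddCommGroup C] [Module R C]
    (u : M →ₗ[R] M') (π : M' →ₗ[R] C) (hπ : Function.Surjective π) (hex : Function.Exact u π)
    (p : Ideal R) [Module.Flat R (LocalizedModule (Submonoid.powers r) C)]
    (m : M) (hm : u m ∈ p • (⊤ : Submodule R M')) :
    ∃ (k : ℕ) (m' : M), m' ∈ p • (⊤ : Submodule R M) ∧ r ^ k • u m = u m' := by
  set S := Submonoid.powers r with hS
  let fM := LocalizedModule.mkLinearMap S M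
  let fM' := LocalizedModule.mkLinearMap S M'
  let fC := LocalizedModule.mkLinearMap S C
  let uS := IsLocalizedModule.map S fM fM' u
  let πS := IsLocalizedModule.map S fM' fC π
  have hsurj : Function.Surjective πS := IsLocalizedModule.map_surjective S fM' fC π hπ
  have hexS : Function.Exact uS πS := IsLocalizedModule.map_exact S fM fM' fC u π hex
  have hker := LinearMap.ker_inf_smul_top_eq_smul_of_flat p πS hsurj
  have hx1 : fM' (u m) ∈ LinearMap.ker πS := by
    rw [LinearMap.mem_ker, IsLocalizedModule.map_apply, hex.apply_apply_eq_zero, map_zero]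
  have hx2 : fM' (u m) ∈ p • (⊤ : Submodule R (LocalizedModule S M')) := by
    have h := Submodule.mem_map_of_mem (f := fM') hm
    rw [Submodule.map_smul''] at h
    exact Submodule.smul_mono le_rfl le_top h
  have hx3 : fM' (u m) ∈ p • LinearMap.ker πS := by
    rw [← hker]; exact ⟨hx1, hx2⟩
  have key : ∀ y ∈ p • LinearMap.ker πS, ∃ (k : ℕ) (m' : M), m' ∈ p • (⊤ : Submodule R M) ∧
      r ^ k • y = fM' (u m') := by
    intro y hy
    refine Submodule.smul_induction_on hy ?_ ?_
    · intro a ha y hy
      obtain ⟨z, rfl⟩ := (hexS y).mp hy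
      obtain ⟨⟨m₀, s⟩, rfl⟩ := IsLocalizedModule.mk'_surjective S fM z
      obtain ⟨k, hk⟩ := s.2
      refine ⟨k, a • m₀, Submodule.smul_mem_smul ha trivial, ?_⟩
      rw [Function.uncurry_apply_pair, IsLocalizedModule.map_mk', smul_comm, map_smul, map_smul]
      congr 1
      have hk' : r ^ k • IsLocalizedModule.mk' fM' (u m₀) s =
          s • IsLocalizedModule.mk' fM' (u m₀) s := by
        rw [Submonoid.smul_def]; exact congrArg (· • _) hk
      rw [hk', IsLocalizedModule.mk'_cancel']
    · rintro y₁ y₂ ⟨k₁, m₁, h₁, e₁⟩ ⟨k₂, m₂, h₂, e₂⟩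
      refine ⟨k₁ + k₂, r ^ k₂ • m₁ + r ^ k₁ • m₂,
        add_mem (Submodule.smul_mem _ _ h₁) (Submodule.smul_mem _ _ h₂), ?_⟩
      rw [smul_add, map_add, map_add, map_smul, map_smul, map_smul, map_smul, ← e₁, ← e₂,
        smul_smul, smul_smul, ← pow_add, ← pow_add, add_comm k₂ k₁]
  obtain ⟨k, m', hm', e⟩ := key _ hx3
  rw [← map_smul] at e
  obtain ⟨⟨_, j, rfl⟩, hj⟩ := IsLocalizedModule.exists_of_eq (S := S) e
  refine ⟨j + k, r ^ j • m', Submodule.smul_mem _ _ hm', ?_⟩
  rw [pow_add, mul_smul, map_smul]
  exact hj

end Basic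

section Noeth

/-- a localization of a finite type algebra over a domain at a submonoid containing the nonzero
elements of the base is Noetherian -/
theorem isNoetherianRing_of_isLocalization {R B : Type u} [CommRing R] [IsDomain R] [CommRing B]
    [Algebra R B] [Algebra.FiniteType R B] (T : Submonoid B)
    (hT : Algebra.algebraMapSubmonoid B (nonZeroDivisors R) ≤ T)
    (A : Type u) [CommRing A] [Algebra B A] [IsLocalization T A] : IsNoetherianRing A := by
  let T₀ : Submonoid B := Algebra.algebraMapSubmonoid B (nonZeroDivisors R)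
  let B₀ := Localization T₀
  let K := FractionRing R
  haveI hloc₀ : IsLocalization (Submonoid.map (algebraMap R B) (nonZeroDivisors R)) B₀ :=
    inferInstanceAs (IsLocalization T₀ (Localization T₀))
  let φ : K →+* B₀ := IsLocalization.map B₀ (algebraMap R B)
    (Submonoid.le_comap_map (nonZeroDivisors R))
  have hφ : φ.FiniteType :=
    RingHom.finiteType_localizationPreserves (algebraMap R B) (nonZeroDivisors R) K B₀
      (RingHom.finiteType_algebraMap.mpr inferInstance)
  letI : Algebra K B₀ := φ.toAlgebra
  haveI : Algebra.FiniteType K B₀ := hφ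
  haveI : IsNoetherianRing B₀ := Algebra.FiniteType.isNoetherianRing K B₀
  letI := IsLocalization.localizationAlgebraOfSubmonoidLe B₀ A T₀ T hT
  haveI := IsLocalization.localization_isScalarTower_of_submonoid_le B₀ A T₀ T hT
  haveI := IsLocalization.isLocalization_of_submonoid_le B₀ A T₀ T hT
  exact IsLocalization.isNoetherianRing (T.map (algebraMap B B₀)) A inferInstance

end Noeth

end Groth.Agent.H3.RelGen
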