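import Mathlib
import Groth.Agent.Lib.Helper3.RelGenA

/-!
# Relative associated primes, generically (helper3): the predicate `RelAssAt` and the generic fibre
-/

set_option autoImplicit false
universe u

namespace Groth.Agent.H3.RelGen

section Def

variable (R : Type*) {B : Type*} [CommRing R] [CommRing B] [Algebra R B]
  (M : Type*) [AddCommGroup M] [Module B M]

/-- `p M` for `p = q ∩ R`, as a `B`-submodule -/
def pM (q : Ideal B) : Submodule B M :=
  (q.comap (algebraMap R B)).map (algebraMap R B) • (⊤ : Submodule B M)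

/-- elementwise form of: `q B_q` is an associated prime of `(M / p M)_q`, where `p = q ∩ R` -/
def RelAssAt (q : Ideal B) : Prop :=
  ∃ m : M, (∀ s : B, s ∉ q → s • m ∉ pM R M q) ∧
    ∀ b ∈ q, ∃ s : B, s ∉ q ∧ (s * b) • m ∈ pM R M q

variable {R M}

theorem pM_eq_bot {q : Ideal B} (h : q.comap (algebraMap R B) = ⊥) : pM R M q = ⊥ := by
  rw [pM, h, Ideal.map_bot, Submodule.bot_smul]

theorem mem_pM_iff [Module R M] [IsScalarTower R B M] (q : Ideal B) (x : M) :
    x ∈ pM R M q ↔ x ∈ (q.comap (algebraMap R B)) • (⊤ : Submodule R M) :=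
  mem_map_smul_top_iff _ x

end Def

section Torsion

/-- over a domain, if `M_r` is free then torsion elements of `M` are killed by a power of `r` -/
theorem exists_pow_smul_eq_zero_of_torsion {R M : Type*} [CommRing R] [IsDomain R]
    [AddCommGroup M] [Module R M] (r : R) (hr : r ≠ 0)
    [Module.Free (Localization.Away r) (LocalizedModule (Submonoid.powers r) M)] (m : M) (r' : R)
    (hr' : r' ≠ 0) (h : r' • m = 0) : ∃ k : ℕ, r ^ k • m = 0 := by
  have hle : Submonoid.powers r ≤ nonZeroDivisors R := powers_le_nonZeroDivisors_of_noZeroDivisors hr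
  haveI : IsDomain (Localization.Away r) := IsLocalization.isDomain_localization hle
  have h1 : algebraMap R (Localization.Away r) r' •
      (LocalizedModule.mk m 1 : LocalizedModule (Submonoid.powers r) M) = 0 := by
    rw [algebraMap_smul, LocalizedModule.smul'_mk, h, LocalizedModule.zero_mk]
  rcases smul_eq_zero.mp h1 with h2 | h2
  · exact absurd ((map_eq_zero_iff _ (IsLocalization.injective _ hle)).mp h2) hr'
  · rw [IsLocalizedModule.mk_eq_mk', IsLocalizedModule.mk'_eq_zero'] at h2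
    obtain ⟨⟨_, k, rfl⟩, hk⟩ := h2
    exact ⟨k, hk⟩

end Torsion

section Generic

variable {R B M : Type u} [CommRing R] [IsDomain R] [CommRing B] [Algebra R B]
  [Algebra.FiniteType R B] [AddCommGroup M] [Module B M] [Module R M] [IsScalarTower R B M]

/-- the extension of an ideal to the generic fibre is finitely generated -/
theorem exists_finset_gen (𝒮 : Set B) :
    ∃ 𝒮₀ : Finset B, (↑𝒮₀ : Set B) ⊆ 𝒮 ∧
      ∀ c ∈ 𝒮, ∃ r : R, r ≠ 0 ∧ algebraMap R B r * c ∈ Ideal.span (𝒮₀ : Set B) := by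
  classical
  let T : Submonoid B := Algebra.algebraMapSubmonoid B (nonZeroDivisors R)
  let BK := Localization T
  haveI : IsNoetherianRing BK := isNoetherianRing_of_isLocalization (R := R) T le_rfl BK
  have hfg : ((Ideal.span 𝒮).map (algebraMap B BK)).FG := IsNoetherian.noetherian _
  rw [Ideal.map_span] at hfg
  obtain ⟨t, ht, hspan⟩ := (Submodule.fg_span_iff_fg_span_finset_subset _).mp hfg
  obtain ⟨𝒮₀, h𝒮₀, rfl⟩ := Finset.subset_set_image_iff.mp ht
  refine ⟨𝒮₀, h𝒮₀, ?_⟩
  intro c hc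
  have h1 : algebraMap B BK c ∈ (Ideal.span (𝒮₀ : Set B)).map (algebraMap B BK) := by
    rw [Ideal.map_span]
    have h2 : algebraMap B BK c ∈ Ideal.span (algebraMap B BK '' 𝒮) :=
      Ideal.subset_span ⟨c, hc, rfl⟩
    rw [Ideal.span, hspan] at h2
    rw [Finset.coe_image] at h2
    exact h2
  obtain ⟨_, ⟨r, hr, rfl⟩, h3⟩ := (IsLocalization.algebraMap_mem_map_algebraMap_iff T BK _ c).mp h1
  exact ⟨r, nonZeroDivisors.ne_zero hr, h3⟩

omit [Module R M] [IsScalarTower R B M] in
theorem exists_relAssAt_of_not_torsion' (𝒮 : Set B) (m : M)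
    (hm : ∀ r : R, r ≠ 0 → algebraMap R B r • m ≠ 0)
    (h𝒮 : ∀ c ∈ 𝒮, ∃ r : R, r ≠ 0 ∧ algebraMap R B r • c • m = 0) :
    ∃ q : Ideal B, q.IsPrime ∧ q.comap (algebraMap R B) = ⊥ ∧ 𝒮 ⊆ q ∧ RelAssAt R M q := by
  let T : Submonoid B := Algebra.algebraMapSubmonoid B (nonZeroDivisors R)
  let BK := Localization T
  let MK := LocalizedModule T M
  haveI : IsNoetherianRing BK := isNoetherianRing_of_isLocalization (R := R) T le_rfl BK
  have hzero : ∀ (n : M) (t : T), (LocalizedModule.mk n t : MK) = 0 →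
      ∃ r : R, r ≠ 0 ∧ algebraMap R B r • n = 0 := by
    intro n t h
    rw [IsLocalizedModule.mk_eq_mk', IsLocalizedModule.mk'_eq_zero'] at h
    obtain ⟨⟨_, r, hr, rfl⟩, h'⟩ := h
    exact ⟨r, nonZeroDivisors.ne_zero hr, h'⟩
  have hzero' : ∀ (n : M) (t : T) (r : R), r ≠ 0 → algebraMap R B r • n = 0 →
      (LocalizedModule.mk n t : MK) = 0 := by
    intro n t r hr h
    rw [IsLocalizedModule.mk_eq_mk', IsLocalizedModule.mk'_eq_zero']
    exact ⟨⟨algebraMap R B r, r, mem_nonZeroDivisors_of_ne_zero hr, rfl⟩, h⟩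
  let x : MK := LocalizedModule.mk m 1
  have hx : x ≠ 0 := by
    intro h
    obtain ⟨r, hr, h'⟩ := hzero m 1 h
    exact hm r hr h'
  obtain ⟨Q, hQ, hle⟩ := exists_le_isAssociatedPrime_of_isNoetherianRing BK x hx
  obtain ⟨hQp, y, hy⟩ := isAssociatedPrime_iff.mp hQ
  obtain ⟨⟨m₁, t⟩, rfl⟩ : ∃ z : M × T, LocalizedModule.mk z.1 z.2 = y := by
    induction y using LocalizedModule.induction_on with
    | h m₁ t => exact ⟨⟨m₁, t⟩, rfl⟩
  have hmem : ∀ b : B, algebraMap B BK b ∈ Q ↔ (LocalizedModule.mk (b • m₁) t : MK) = 0 := by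
    intro b
    rw [hy, Submodule.mem_colon_singleton, Submodule.mem_bot, algebraMap_smul,
      LocalizedModule.smul'_mk]
  refine ⟨Q.comap (algebraMap B BK), inferInstance, ?_, ?_, ?_⟩
  · rw [eq_bot_iff]
    intro r hr
    rw [Ideal.mem_comap, Ideal.mem_comap] at hr
    rw [Ideal.mem_bot]
    by_contra hr0
    have hu : IsUnit (algebraMap B BK (algebraMap R B r)) :=
      IsLocalization.map_units BK (⟨algebraMap R B r, r, mem_nonZeroDivisors_of_ne_zero hr0, rfl⟩ : T)
    exact hQp.ne_top (Ideal.eq_top_of_isUnit_mem _ hr hu)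
  · intro c hc
    rw [SetLike.mem_coe, Ideal.mem_comap]
    apply hle
    rw [Submodule.mem_colon_singleton, Submodule.mem_bot, algebraMap_smul,
      LocalizedModule.smul'_mk]
    obtain ⟨r, hr, h'⟩ := h𝒮 c hc
    exact hzero' _ _ r hr h'
  · have hq0 : (Q.comap (algebraMap B BK)).comap (algebraMap R B) = ⊥ := by
      rw [eq_bot_iff]
      intro r hr
      rw [Ideal.mem_comap, Ideal.mem_comap] at hr
      rw [Ideal.mem_bot]
      by_contra hr0
      have hu : IsUnit (algebraMap B BK (algebraMap R B r)) :=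
        IsLocalization.map_units BK
          (⟨algebraMap R B r, r, mem_nonZeroDivisors_of_ne_zero hr0, rfl⟩ : T)
      exact hQp.ne_top (Ideal.eq_top_of_isUnit_mem _ hr hu)
    refine ⟨m₁, ?_, ?_⟩
    · intro s hs h
      rw [pM_eq_bot hq0, Submodule.mem_bot] at h
      apply hs
      rw [Ideal.mem_comap, hmem, h, LocalizedModule.zero_mk]
    · intro b hb
      rw [Ideal.mem_comap, hmem] at hb
      obtain ⟨r, hr, h'⟩ := hzero _ _ hb
      refine ⟨algebraMap R B r, ?_, ?_⟩
      · intro hmem'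
        have : r ∈ (Q.comap (algebraMap B BK)).comap (algebraMap R B) := hmem'
        rw [hq0, Ideal.mem_bot] at this
        exact hr this
      · rw [pM_eq_bot hq0, Submodule.mem_bot, mul_smul]
        exact h'

end Generic

end Groth.Agent.H3.RelGen
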