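import Mathlib
import Groth.Agent.Lib.Helper1.GenFreeRingHom
import Groth.Agent.Lib.Helper3.RelGenB

/-!
# Relative associated primes, generically (helper3): avoiding a closed set (EGA IV 9.8.3-type)
-/

set_option autoImplicit false
universe u

namespace Groth.Agent.H3.RelGen

open Groth.Agent.H1.GenFree

theorem pi_mem_smul_top {R : Type*} [CommRing R] {ι : Type*} [Fintype ι] [DecidableEq ι]
    (p : Ideal R) {N : Type*} [AddCommGroup N] [Module R N] (v : ι → N)
    (hv : ∀ i, v i ∈ p • (⊤ : Submodule R N)) : v ∈ p • (⊤ : Submodule R (ι → N)) := by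
  rw [← Finset.univ_sum_single v]
  refine Submodule.sum_mem _ fun i _ => ?_
  have h := Submodule.mem_map_of_mem (f := LinearMap.single R (fun _ : ι => N) i) (hv i)
  rw [Submodule.map_smul''] at h
  exact Submodule.smul_mono le_rfl le_top h

section A1

variable {R B M : Type u} [CommRing R] [IsDomain R] [CommRing B] [Algebra R B]
  [Algebra.FiniteType R B] [AddCommGroup M] [Module B M] [Module R M] [IsScalarTower R B M]
  [Module.Finite B M]

/-- **EGA IV 9.8.3-type statement, domain case.** If no relative associated prime of the generic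
fibre contains `𝒮`, the same holds over a nonempty basic open of the base. -/
theorem exists_forall_not_relAssAt (𝒮 : Set B)
    (H : ∀ q : Ideal B, q.IsPrime → q.comap (algebraMap R B) = ⊥ → 𝒮 ⊆ q → ¬ RelAssAt R M q) :
    ∃ r : R, r ≠ 0 ∧
      ∀ q : Ideal B, q.IsPrime → algebraMap R B r ∉ q → 𝒮 ⊆ q → ¬ RelAssAt R M q := by
  classical
  obtain ⟨𝒮₀, h𝒮₀, hgen⟩ := exists_finset_gen (R := R) 𝒮
  let ι : Type u := {c // c ∈ 𝒮₀}
  let u : M →ₗ[B] (ι → M) := LinearMap.pi fun c => (c : B) • LinearMap.id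
  have hu_apply : ∀ (m : M) (c : ι), u m c = (c : B) • m := fun m c => rfl
  let C : Type u := (ι → M) ⧸ LinearMap.range u
  obtain ⟨f₁, hf₁, hg₁⟩ := exists_good (R := R) (S := B) (M := M) 1 one_ne_zero
  obtain ⟨f₂, hf₂, hg₂⟩ := exists_good (R := R) (S := B) (M := C) (1 * f₁) hf₁
  set r := 1 * f₁ * f₂ with hr
  have hgM : Good R B M r := hg₁.mul_right f₂
  haveI freeM := hgM.free_localizedModule
  haveI freeC := hg₂.free_localizedModule
  haveI flatC : Module.Flat R (LocalizedModule (Submonoid.powers r) C) :=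
    Module.Flat.trans R (Localization.Away r) _
  refine ⟨r, hf₂, ?_⟩
  have ha : ∀ m : M, u m = 0 → ∃ k : ℕ, r ^ k • m = 0 := by
    intro m hum
    by_contra hcon
    have hnt : ∀ r' : R, r' ≠ 0 → algebraMap R B r' • m ≠ 0 := by
      intro r' hr' h0
      rw [algebraMap_smul] at h0
      exact hcon (exists_pow_smul_eq_zero_of_torsion r hf₂ m r' hr' h0)
    have hkill : ∀ b ∈ Ideal.span (𝒮₀ : Set B), b • m = 0 := by
      intro b hb
      refine Submodule.span_induction ?_ ?_ ?_ ?_ hb
      · intro c' hc'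
        have := congrFun hum ⟨c', hc'⟩
        rwa [hu_apply] at this
      · rw [zero_smul]
      · intro a b _ _ ha hb
        rw [add_smul, ha, hb, add_zero]
      · intro a b _ hb
        rw [smul_eq_mul, mul_smul, hb, smul_zero]
    have h𝒮 : ∀ c ∈ 𝒮, ∃ r' : R, r' ≠ 0 ∧ algebraMap R B r' • c • m = 0 := by
      intro c hc
      obtain ⟨r', hr', hmem⟩ := hgen c hc
      refine ⟨r', hr', ?_⟩
      rw [smul_smul]
      exact hkill _ hmem
    obtain ⟨q, hq, hq0, hSq, hrel⟩ := exists_relAssAt_of_not_torsion' (R := R) 𝒮 m hnt h𝒮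
    exact H q hq hq0 hSq hrel
  intro q hq hrq hSq hrel
  obtain ⟨m, h1, h2⟩ := hrel
  have h2' : ∀ c : ι, ∃ s : B, s ∉ q ∧ (s * c) • m ∈ pM R M q :=
    fun c => h2 c (hSq (h𝒮₀ c.2))
  choose sc hsc hscm using h2'
  let s : B := ∏ c : ι, sc c
  have hs : s ∉ q := by
    intro h
    obtain ⟨c, -, hc⟩ := (hq.prod_mem_iff).mp h
    exact hsc c hc
  have hsm : ∀ c : ι, (c : B) • s • m ∈ pM R M q := by
    intro c
    have hsplit : s = (∏ c' ∈ Finset.univ.erase c, sc c') * sc c :=
      (Finset.prod_erase_mul _ _ (Finset.mem_univ c)).symm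
    rw [smul_smul, hsplit, mul_comm (c : B), mul_assoc, mul_smul]
    exact Submodule.smul_mem _ _ (hscm c)
  set p := q.comap (algebraMap R B) with hp
  have hu : (u.restrictScalars R) (s • m) ∈ p • (⊤ : Submodule R (ι → M)) := by
    apply pi_mem_smul_top
    intro c
    have := hsm c
    rw [mem_pM_iff] at this
    exact this
  have hex : Function.Exact (u.restrictScalars R)
      ((LinearMap.range u).mkQ.restrictScalars R) := fun y => LinearMap.exact_map_mkQ_range u y
  obtain ⟨k, m', hm', e⟩ := exists_pow_smul_eq_of_flat r (u.restrictScalars R)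
    ((LinearMap.range u).mkQ.restrictScalars R) (Submodule.mkQ_surjective _) hex p (s • m) hu
  have h0 : u (r ^ k • s • m - m') = 0 := by
    rw [map_sub, sub_eq_zero]
    have e' : r ^ k • u (s • m) = u m' := e
    rw [← e', ← algebraMap_smul B (r ^ k) (s • m), map_smul, algebraMap_smul]
  obtain ⟨j, hj⟩ := ha _ h0
  apply h1 (algebraMap R B (r ^ (j + k)) * s)
  · intro hmem
    rcases hq.mem_or_mem hmem with h | h
    · rw [map_pow] at h
      exact hrq (hq.mem_of_pow_mem _ h)
    · exact hs h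
  · rw [mem_pM_iff, mul_smul, algebraMap_smul, pow_add, mul_smul]
    rw [smul_sub, sub_eq_zero] at hj
    rw [hj]
    exact Submodule.smul_mem _ _ hm'

end A1

end Groth.Agent.H3.RelGen
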