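import Mathlib
import Groth.Agent.Lib.Helper1.GenFreeRingHom
import Groth.Agent.Lib.Helper3.FlatAssA
import Groth.Agent.Lib.Helper3.RelGenB

/-!
# Relative associated primes, generically (helper3): spreading out a relative associated prime
(EGA IV 9.8-type; used for S1369, S1446)
-/

set_option autoImplicit false
universe u

namespace Groth.Agent.H3.RelGen

open Groth.Agent.H1.GenFree

section Socle

variable {R B : Type u} [CommRing R] [CommRing B] [Algebra R B] [Algebra.FiniteType R B]

/-- a socle element of the (zero-dimensional, Noetherian) local ring of the fibre of `B/q₀` at a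
minimal prime -/
theorem exists_socle_elt (q₀ q : Ideal B) [hq : q.IsPrime] (hle : q₀ ≤ q)
    (hmin : ∀ q' : Ideal B, q'.IsPrime → q₀ ≤ q' → q' ≤ q →
      q'.comap (algebraMap R B) = q.comap (algebraMap R B) → q' = q) :
    ∃ a : B,
      (∀ s : B, s ∉ q → s * a ∉ q₀ ⊔ (q.comap (algebraMap R B)).map (algebraMap R B)) ∧
      ∀ b ∈ q, ∃ s : B, s ∉ q ∧
        s * (b * a) ∈ q₀ ⊔ (q.comap (algebraMap R B)).map (algebraMap R B) := by
  set p := q.comap (algebraMap R B) with hp
  set J := q₀ ⊔ p.map (algebraMap R B) with hJ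
  have hJq : J ≤ q := sup_le hle (Ideal.map_le_iff_le_comap.mpr le_rfl)
  have hJp : J.comap (algebraMap R B) = p :=
    le_antisymm (Ideal.comap_mono hJq)
      (fun x hx => Ideal.mem_comap.mpr (Ideal.mem_sup_right (Ideal.mem_map_of_mem _ hx)))
  haveI : (J.comap (algebraMap R B)).IsPrime := by rw [hJp]; infer_instance
  let R₁ := R ⧸ J.comap (algebraMap R B)
  let B₁ := B ⧸ J
  haveI : IsScalarTower R R₁ B₁ := IsScalarTower.of_algebraMap_eq fun x => rfl
  haveI : Algebra.FiniteType R B₁ :=
    Algebra.FiniteType.of_surjective (Ideal.Quotient.mkₐ R J) (Ideal.Quotient.mkₐ_surjective R J)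
  haveI : Algebra.FiniteType R₁ B₁ := Algebra.FiniteType.of_restrictScalars_finiteType R R₁ B₁
  let mk : B →+* B₁ := Ideal.Quotient.mk J
  have hmk : Function.Surjective mk := Ideal.Quotient.mk_surjective
  let q₁ : Ideal B₁ := q.map mk
  haveI hq₁ : q₁.IsPrime :=
    Ideal.map_isPrime_of_surjective hmk (by rw [Ideal.mk_ker]; exact hJq)
  have hcomap : q₁.comap mk = q := by
    rw [Ideal.comap_map_of_surjective mk hmk, ← RingHom.ker_eq_comap_bot, Ideal.mk_ker]
    exact sup_eq_left.mpr hJq
  have hmem : ∀ s : B, mk s ∈ q₁ ↔ s ∈ q := fun s => by rw [← Ideal.mem_comap, hcomap]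
  let A₁ := Localization.AtPrime q₁
  have hT : Algebra.algebraMapSubmonoid B₁ (nonZeroDivisors R₁) ≤ q₁.primeCompl := by
    rintro _ ⟨rb, hrb, rfl⟩
    obtain ⟨r, rfl⟩ := Ideal.Quotient.mk_surjective rb
    change mk (algebraMap R B r) ∉ q₁
    rw [hmem]
    intro h
    apply nonZeroDivisors.ne_zero hrb
    exact Ideal.Quotient.eq_zero_iff_mem.mpr (by rw [hJp]; exact h)
  haveI : IsNoetherianRing A₁ :=
    isNoetherianRing_of_isLocalization (R := R₁) (B := B₁) q₁.primeCompl hT A₁
  have hprime : ∀ P : Ideal A₁, P.IsPrime → P = IsLocalRing.maximalIdeal A₁ := by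
    intro P hP
    let q'₁ := P.comap (algebraMap B₁ A₁)
    let q' := q'₁.comap mk
    have hq'le : q'₁ ≤ q₁ := by
      have := Ideal.comap_mono (f := algebraMap B₁ A₁) (IsLocalRing.le_maximalIdeal hP.ne_top)
      have h' : (IsLocalRing.maximalIdeal A₁).comap (algebraMap B₁ A₁) = q₁ :=
        IsLocalization.AtPrime.under_maximalIdeal A₁ q₁
      rwa [h'] at this
    have h1 : q' = q := by
      apply hmin q' inferInstance
      · intro x hx
        change mk x ∈ q'₁
        rw [show mk x = 0 from Ideal.Quotient.eq_zero_iff_mem.mpr (Ideal.mem_sup_left hx)]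
        exact zero_mem _
      · rw [← hcomap]
        exact Ideal.comap_mono hq'le
      · apply le_antisymm
        · have h3 : q' ≤ q := by rw [← hcomap]; exact Ideal.comap_mono hq'le
          exact Ideal.comap_mono h3
        · intro x hx
          change mk (algebraMap R B x) ∈ q'₁
          rw [show mk (algebraMap R B x) = 0 from Ideal.Quotient.eq_zero_iff_mem.mpr
            (Ideal.mem_sup_right (Ideal.mem_map_of_mem _ hx))]
          exact zero_mem _
    have h2 : q'₁ = q₁ := by
      rw [← Ideal.map_comap_of_surjective mk hmk q'₁]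
      change Ideal.map mk q' = _
      rw [h1]
    rw [← IsLocalization.map_under q₁.primeCompl A₁ P]
    change Ideal.map _ q'₁ = _
    rw [h2]
    exact IsLocalization.AtPrime.map_eq_maximalIdeal q₁ A₁
  obtain ⟨c, hc0, hc⟩ := Groth.Agent.H3.FlatAss.hasSocle_self_of_forall_prime hprime
  obtain ⟨ab, sb, rfl⟩ := IsLocalization.exists_mk'_eq q₁.primeCompl c
  obtain ⟨a, rfl⟩ := hmk ab
  refine ⟨a, ?_, ?_⟩
  · intro s hs hsa
    apply hc0
    rw [IsLocalization.mk'_eq_zero_iff]
    refine ⟨⟨mk s, (hmem s).not.mpr hs⟩, ?_⟩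
    change mk s * mk a = 0
    rw [← map_mul]
    exact Ideal.Quotient.eq_zero_iff_mem.mpr hsa
  · intro b hb
    have hbm : algebraMap B₁ A₁ (mk b) ∈ IsLocalRing.maximalIdeal A₁ :=
      (IsLocalization.AtPrime.to_map_mem_maximal_iff A₁ q₁ (mk b)).mpr ((hmem b).mpr hb)
    have h0 := hc _ hbm
    rw [smul_eq_mul, IsLocalization.mul_mk'_eq_mk'_of_mul, IsLocalization.mk'_eq_zero_iff] at h0
    obtain ⟨⟨tb, htb⟩, ht⟩ := h0
    obtain ⟨t, rfl⟩ := hmk tb
    refine ⟨t, fun h => htb ((hmem t).mpr h), ?_⟩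
    apply Ideal.Quotient.eq_zero_iff_mem.mp
    rw [map_mul, map_mul]
    exact ht

end Socle

end Groth.Agent.H3.RelGen
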