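import Mathlib
import Groth.Agent.Lib.Helper1.GenFreeRingHom
import Groth.Agent.Lib.Helper3.RelGenD

/-!
# Relative associated primes, generically (helper3): spreading out a relative associated prime,
domain case (EGA IV 9.8-type; used for S1369, S1446)
-/

set_option autoImplicit false
universe u

namespace Groth.Agent.H3.RelGen

open Groth.Agent.H1.GenFree

section A2

variable {R B M : Type u} [CommRing R] [IsDomain R] [CommRing B] [Algebra R B]
  [Algebra.FiniteType R B] [AddCommGroup M] [Module B M] [Module R M] [IsScalarTower R B M]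
  [Module.Finite B M]

omit [Algebra.FiniteType R B] in
/-- existence of primes in the fibres of a domain `D` over `R`, over `D(r)`, when `D_r` is free
(abstract localizations) -/
theorem exists_prime_over_aux {D : Type u} [CommRing D] [IsDomain D] [Algebra R D]
    (hinj : Function.Injective (algebraMap R D)) {r : R} (hr : r ≠ 0) (hgood : Good R D D r)
    (R' D' : Type u) [CommRing R'] [CommRing D'] [Algebra R R'] [Algebra D D']
    [IsLocalization.Away r R'] [IsLocalization.Away (algebraMap R D r) D']
    (p : Ideal R) [p.IsPrime] (hrp : r ∉ p) :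
    ∃ Q : Ideal D, Q.IsPrime ∧ Q.comap (algebraMap R D) = p := by
  letI : Algebra R D' := ((algebraMap D D').comp (algebraMap R D)).toAlgebra
  haveI : IsScalarTower R D D' := IsScalarTower.of_algebraMap_eq (fun _ => rfl)
  let ρ : R' →+* D' := IsLocalization.Away.map R' D' (algebraMap R D) r
  letI : Algebra R' D' := ρ.toAlgebra
  haveI : IsScalarTower R R' D' := IsScalarTower.of_algebraMap_eq (fun x => by
    change (algebraMap D D') (algebraMap R D x) = ρ (algebraMap R R' x)
    exact (IsLocalization.map_eq _ x).symm)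
  have hloc : IsLocalizedModule (Submonoid.powers r)
      (IsScalarTower.toAlgHom R D D').toLinearMap := by
    rw [isLocalizedModule_iff_isLocalization, Algebra.algebraMapSubmonoid_powers]
    infer_instance
  haveI : Module.Free R' D' := hgood.freeS.free R' (IsScalarTower.toAlgHom R D D').toLinearMap
  have hr' : algebraMap R D r ≠ 0 := fun h => hr ((map_eq_zero_iff _ hinj).mp h)
  haveI : Nontrivial D' :=
    (IsLocalization.injective D'
      (powers_le_nonZeroDivisors_of_noZeroDivisors hr')).nontrivial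
  haveI : Module.FaithfullyFlat R' D' := inferInstance
  have hdisj : Disjoint (Submonoid.powers r : Set R) (p : Set R) := by
    rw [Set.disjoint_left]
    rintro _ ⟨k, rfl⟩ hk
    exact hrp (Ideal.IsPrime.mem_of_pow_mem inferInstance _ hk)
  let p' := p.map (algebraMap R R')
  haveI hp' : p'.IsPrime :=
    IsLocalization.isPrime_of_isPrime_disjoint (Submonoid.powers r) R' p inferInstance hdisj
  have hp'c : p'.comap (algebraMap R R') = p :=
    IsLocalization.under_map_of_isPrime_disjoint (Submonoid.powers r) R' inferInstance hdisj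
  obtain ⟨Q', hQ'⟩ := PrimeSpectrum.comap_surjective_of_faithfullyFlat (A := R') (B := D')
    ⟨p', hp'⟩
  refine ⟨Q'.asIdeal.comap (algebraMap D D'), inferInstance, ?_⟩
  have hQ'' : Q'.asIdeal.comap (algebraMap R' D') = p' := congrArg PrimeSpectrum.asIdeal hQ'
  rw [Ideal.comap_comap, ← IsScalarTower.algebraMap_eq, IsScalarTower.algebraMap_eq R R' D',
    ← Ideal.comap_comap, hQ'', hp'c]

omit [Algebra.FiniteType R B] in
theorem exists_prime_over {D : Type u} [CommRing D] [IsDomain D] [Algebra R D]
    (hinj : Function.Injective (algebraMap R D)) {r : R} (hr : r ≠ 0) (hgood : Good R D D r)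
    (p : Ideal R) [p.IsPrime] (hrp : r ∉ p) :
    ∃ Q : Ideal D, Q.IsPrime ∧ Q.comap (algebraMap R D) = p :=
  exists_prime_over_aux hinj hr hgood (Localization.Away r)
    (Localization.Away (algebraMap R D r)) p hrp

/-- **Spreading out a relative associated prime, domain case.** -/
theorem exists_forall_relAssAt (q₀ : Ideal B) [hq₀p : q₀.IsPrime]
    (h₀ : q₀.comap (algebraMap R B) = ⊥) (hq₀ : RelAssAt R M q₀) :
    ∃ r : R, r ≠ 0 ∧
      (∀ q : Ideal B, q.IsPrime → q₀ ≤ q → algebraMap R B r ∉ q →
        (∀ q' : Ideal B, q'.IsPrime → q₀ ≤ q' → q' ≤ q →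
          q'.comap (algebraMap R B) = q.comap (algebraMap R B) → q' = q) → RelAssAt R M q) ∧
      (∀ p : Ideal R, p.IsPrime → r ∉ p →
        ∃ q : Ideal B, q.IsPrime ∧ q₀ ≤ q ∧ q.comap (algebraMap R B) = p) := by
  classical
  obtain ⟨m, h1, h2⟩ := hq₀
  simp only [pM_eq_bot h₀, Submodule.mem_bot] at h1 h2
  obtain ⟨𝒮₀, h𝒮₀, hgen⟩ := exists_finset_gen (R := R) (q₀ : Set B)
  let ι : Type u := {c // c ∈ 𝒮₀}
  have h2' : ∀ c : ι, ∃ s : B, s ∉ q₀ ∧ (s * c) • m = 0 := fun c => h2 c (h𝒮₀ c.2)
  choose sc hsc hscm using h2'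
  let s : B := ∏ c : ι, sc c
  have hs : s ∉ q₀ := by
    intro h
    obtain ⟨c, -, hc⟩ := (hq₀p.prod_mem_iff).mp h
    exact hsc c hc
  obtain ⟨m', hm'⟩ : ∃ m' : M, m' = s • m := ⟨_, rfl⟩
  have h1' : ∀ a : B, a • m' = 0 → a ∈ q₀ := by
    intro a ha
    rw [hm'] at ha
    by_contra hna
    refine h1 (a * s) ?_ (by rw [mul_smul]; exact ha)
    intro h
    rcases hq₀p.mem_or_mem h with h | h
    exacts [hna h, hs h]
  have hkill : ∀ b ∈ Ideal.span (𝒮₀ : Set B), b • m' = 0 := by
    intro b hb
    refine Submodule.span_induction ?_ ?_ ?_ ?_ hb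
    · intro c hc
      have hsplit : s = (∏ c' ∈ Finset.univ.erase (⟨c, hc⟩ : ι), sc c') * sc ⟨c, hc⟩ :=
        (Finset.prod_erase_mul _ _ (Finset.mem_univ _)).symm
      rw [hm', smul_smul, hsplit, mul_comm c, mul_assoc, mul_smul, hscm ⟨c, hc⟩, smul_zero]
    · rw [zero_smul]
    · intro a b _ _ ha hb
      rw [add_smul, ha, hb, add_zero]
    · intro a b _ hb
      rw [smul_eq_mul, mul_smul, hb, smul_zero]
  have h2'' : ∀ b ∈ q₀, ∃ r' : R, r' ≠ 0 ∧ r' • b • m' = 0 := by
    intro b hb
    obtain ⟨r', hr', hmem⟩ := hgen b hb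
    refine ⟨r', hr', ?_⟩
    rw [← algebraMap_smul B r', smul_smul]
    exact hkill _ hmem
  let u₀ : B →ₗ[B] M := LinearMap.toSpanSingleton B M m'
  have hu₀ : ∀ b : B, u₀ b = b • m' := fun b => rfl
  let C : Type u := M ⧸ LinearMap.range u₀
  let D : Type u := B ⧸ q₀
  haveI : Algebra.FiniteType R D :=
    Algebra.FiniteType.of_surjective (Ideal.Quotient.mkₐ R q₀) (Ideal.Quotient.mkₐ_surjective R q₀)
  obtain ⟨f₁, hf₁, hg₁⟩ := exists_good (R := R) (S := B) (M := M) 1 one_ne_zero
  obtain ⟨f₂, hf₂, hg₂⟩ := exists_good (R := R) (S := B) (M := C) (1 * f₁) hf₁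
  obtain ⟨f₃, hf₃, hg₃⟩ := exists_good (R := R) (S := D) (M := D) (1 * f₁ * f₂) hf₂
  set r := 1 * f₁ * f₂ * f₃ with hr
  have hgM : Good R B M r := (hg₁.mul_right f₂).mul_right f₃
  have hgC : Good R B C r := hg₂.mul_right f₃
  haveI freeM := hgM.free_localizedModule
  haveI freeC := hgC.free_localizedModule
  haveI flatC : Module.Flat R (LocalizedModule (Submonoid.powers r) C) :=
    Module.Flat.trans R (Localization.Away r) _
  refine ⟨r, hf₃, ?_, ?_⟩
  · intro q hq hle hrq hmin
    have hdag : ∀ b ∈ q₀, ∃ k : ℕ, r ^ k • b • m' = 0 := by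
      intro b hb
      obtain ⟨r', hr', h⟩ := h2'' b hb
      exact exists_pow_smul_eq_zero_of_torsion r hf₃ (b • m') r' hr' h
    obtain ⟨a, hα, hβ⟩ := exists_socle_elt (R := R) q₀ q hle hmin
    set p := q.comap (algebraMap R B) with hp
    have hrpow : ∀ k : ℕ, algebraMap R B (r ^ k) ∉ q := fun k h => by
      rw [map_pow] at h
      exact hrq (hq.mem_of_pow_mem _ h)
    refine ⟨a • m', ?_, ?_⟩
    · intro s' hs' hmem
      rw [mem_pM_iff] at hmem
      have hu : (u₀.restrictScalars R) (s' * a) ∈ p • (⊤ : Submodule R M) := by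
        change (s' * a) • m' ∈ _
        rw [mul_smul]
        exact hmem
      have hex : Function.Exact (u₀.restrictScalars R)
          ((LinearMap.range u₀).mkQ.restrictScalars R) :=
        fun y => LinearMap.exact_map_mkQ_range u₀ y
      obtain ⟨k, b', hb', e⟩ := exists_pow_smul_eq_of_flat r (u₀.restrictScalars R)
        ((LinearMap.range u₀).mkQ.restrictScalars R) (Submodule.mkQ_surjective _) hex p
        (s' * a) hu
      have hb'' : b' ∈ p.map (algebraMap R B) := by
        rw [Ideal.smul_top_eq_map] at hb'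
        exact hb'
      have e' : r ^ k • ((s' * a) • m') = b' • m' := e
      have h0 : (algebraMap R B (r ^ k) * (s' * a) - b') • m' = 0 := by
        rw [sub_smul, mul_smul, algebraMap_smul, e', sub_self]
      have h3 := h1' _ h0
      apply hα (algebraMap R B (r ^ k) * s')
      · intro h
        rcases hq.mem_or_mem h with h | h
        exacts [hrpow k h, hs' h]
      · rw [mul_assoc]
        have hsplit : algebraMap R B (r ^ k) * (s' * a) =
            (algebraMap R B (r ^ k) * (s' * a) - b') + b' := by ring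
        rw [hsplit]
        exact Submodule.add_mem_sup h3 hb''
    · intro b hb
      obtain ⟨s', hs', hmem⟩ := hβ b hb
      obtain ⟨a₁, ha₁, a₂, ha₂, hsum⟩ := Submodule.mem_sup.mp hmem
      obtain ⟨k, hk⟩ := hdag a₁ ha₁
      refine ⟨algebraMap R B (r ^ k) * s', ?_, ?_⟩
      · intro h
        rcases hq.mem_or_mem h with h | h
        exacts [hrpow k h, hs' h]
      · have hcalc : (algebraMap R B (r ^ k) * s' * b) • a • m' =
            r ^ k • a₁ • m' + algebraMap R B (r ^ k) • a₂ • m' := by
          calc (algebraMap R B (r ^ k) * s' * b) • a • m'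
              = algebraMap R B (r ^ k) • ((s' * (b * a)) • m') := by
                rw [smul_smul, smul_smul]; congr 1; ring
            _ = algebraMap R B (r ^ k) • ((a₁ + a₂) • m') := by rw [hsum]
            _ = r ^ k • a₁ • m' + algebraMap R B (r ^ k) • a₂ • m' := by
                rw [add_smul, smul_add, algebraMap_smul]
        rw [hcalc, hk, zero_add]
        exact Submodule.smul_mem _ _ (Submodule.smul_mem_smul ha₂ trivial)
  · intro p hp hrp
    haveI := hp
    have hinj : Function.Injective (algebraMap R D) := by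
      rw [injective_iff_map_eq_zero]
      intro x hx
      have hx' : Ideal.Quotient.mk q₀ (algebraMap R B x) = 0 := hx
      have : x ∈ q₀.comap (algebraMap R B) :=
        Ideal.mem_comap.mpr (Ideal.Quotient.eq_zero_iff_mem.mp hx')
      rwa [h₀, Ideal.mem_bot] at this
    obtain ⟨Q, hQ, hQp⟩ := exists_prime_over hinj hf₃ hg₃ p hrp
    refine ⟨Q.comap (Ideal.Quotient.mk q₀), inferInstance, ?_, ?_⟩
    · intro x hx
      rw [Ideal.mem_comap, Ideal.Quotient.eq_zero_iff_mem.mpr hx]
      exact zero_mem _
    · rw [← hQp, Ideal.comap_comap]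
      rfl

end A2

end Groth.Agent.H3.RelGen
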