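import Mathlib
import Groth.Agent.Lib.Helper3.RelGenB

/-!
# Relative associated primes (helper3): passing to the quotient by an ideal of the base
-/

set_option autoImplicit false
universe u

namespace Groth.Agent.H3.RelGen

section Quot

variable {R B M : Type*} [CommRing R] [CommRing B] [Algebra R B] [AddCommGroup M] [Module B M]
  (I₀ : Ideal R)

/-- the base ring `R/I₀` -/
abbrev QR : Type _ := R ⧸ I₀
/-- the algebra `B/I₀B` -/
abbrev QB (B : Type*) [CommRing B] [Algebra R B] : Type _ := B ⧸ I₀.map (algebraMap R B)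
/-- the module `M/I₀M` -/
abbrev QM (B : Type*) [CommRing B] [Algebra R B] (M : Type*) [AddCommGroup M] [Module B M] :
    Type _ := M ⧸ (I₀.map (algebraMap R B) • ⊤ : Submodule B M)

variable {I₀}

theorem mk_mem_map_iff {q : Ideal B} (hq : I₀.map (algebraMap R B) ≤ q) (s : B) :
    Ideal.Quotient.mk (I₀.map (algebraMap R B)) s ∈
      q.map (Ideal.Quotient.mk (I₀.map (algebraMap R B))) ↔ s ∈ q := by
  have hcomap : (q.map (Ideal.Quotient.mk (I₀.map (algebraMap R B)))).comap
      (Ideal.Quotient.mk (I₀.map (algebraMap R B))) = q := by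
    rw [Ideal.comap_map_of_surjective _ Ideal.Quotient.mk_surjective, ← RingHom.ker_eq_comap_bot,
      Ideal.mk_ker]
    exact sup_eq_left.mpr hq
  rw [← Ideal.mem_comap, hcomap]

theorem isPrime_map_mk {q : Ideal B} [q.IsPrime] (hq : I₀.map (algebraMap R B) ≤ q) :
    (q.map (Ideal.Quotient.mk (I₀.map (algebraMap R B)))).IsPrime :=
  Ideal.map_isPrime_of_surjective Ideal.Quotient.mk_surjective (by rw [Ideal.mk_ker]; exact hq)

theorem mk_mem_comap_map_iff {q : Ideal B} (hq : I₀.map (algebraMap R B) ≤ q) (x : R) :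
    Ideal.Quotient.mk I₀ x ∈ (q.map (Ideal.Quotient.mk (I₀.map (algebraMap R B)))).comap
      (algebraMap (QR I₀) (QB I₀ B)) ↔ x ∈ q.comap (algebraMap R B) := by
  rw [Ideal.mem_comap, Ideal.mem_comap]
  exact mk_mem_map_iff hq (algebraMap R B x)

/-- the ideal `p₁ B₁` is the image of `p B` -/
theorem map_comap_map_eq {q : Ideal B} (hq : I₀.map (algebraMap R B) ≤ q) :
    ((q.map (Ideal.Quotient.mk (I₀.map (algebraMap R B)))).comap
      (algebraMap (QR I₀) (QB I₀ B))).map (algebraMap (QR I₀) (QB I₀ B)) =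
    ((q.comap (algebraMap R B)).map (algebraMap R B)).map
      (Ideal.Quotient.mk (I₀.map (algebraMap R B))) := by
  have h1 : (q.map (Ideal.Quotient.mk (I₀.map (algebraMap R B)))).comap
      (algebraMap (QR I₀) (QB I₀ B)) = (q.comap (algebraMap R B)).map (Ideal.Quotient.mk I₀) := by
    ext xb
    obtain ⟨x, rfl⟩ := Ideal.Quotient.mk_surjective xb
    rw [mk_mem_comap_map_iff hq]
    constructor
    · intro h
      exact Ideal.mem_map_of_mem _ h
    · intro h
      obtain ⟨y, hy, hxy⟩ := (Ideal.mem_map_iff_of_surjective _ Ideal.Quotient.mk_surjective).mp h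
      have h2 : y - x ∈ I₀ := by
        rw [← Ideal.Quotient.eq_zero_iff_mem, map_sub, hxy, sub_self]
      have h3 : I₀ ≤ q.comap (algebraMap R B) := Ideal.map_le_iff_le_comap.mp hq
      have : x = y - (y - x) := by ring
      rw [this]
      exact sub_mem hy (h3 h2)
  rw [h1, Ideal.map_map, Ideal.map_map]
  rfl

/-- `x ↦ [x]` from `M` to `M/I₀M` -/
abbrev mkM {R : Type*} [CommRing R] (I₀ : Ideal R) (B : Type*) [CommRing B] [Algebra R B]
    {M : Type*} [AddCommGroup M] [Module B M] : M →ₗ[B] QM I₀ B M :=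
  (I₀.map (algebraMap R B) • ⊤ : Submodule B M).mkQ

theorem mkB_smul_mkM (b : B) (m : M) :
    Ideal.Quotient.mk (I₀.map (algebraMap R B)) b • mkM I₀ B m = mkM I₀ B (b • m) := rfl

/-- membership in `p₁ M₁` versus `p M` -/
theorem mkM_mem_pM_iff {q : Ideal B} (hq : I₀.map (algebraMap R B) ≤ q) (x : M) :
    mkM I₀ B x ∈ pM (QR I₀) (QM I₀ B M) (q.map (Ideal.Quotient.mk (I₀.map (algebraMap R B)))) ↔
      x ∈ pM R M q := by
  rw [pM, pM, map_comap_map_eq hq]
  set P := (q.comap (algebraMap R B)).map (algebraMap R B) with hP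
  have hIP : I₀.map (algebraMap R B) ≤ P :=
    Ideal.map_mono (Ideal.map_le_iff_le_comap.mp hq)
  constructor
  · intro h
    have key : ∀ y ∈ (P.map (Ideal.Quotient.mk (I₀.map (algebraMap R B)))) •
        (⊤ : Submodule (QB I₀ B) (QM I₀ B M)),
        ∀ x : M, mkM I₀ B x = y → x ∈ P • (⊤ : Submodule B M) := by
      intro y hy
      refine Submodule.smul_induction_on hy ?_ ?_
      · intro b₁ hb₁ y _ x hx
        obtain ⟨b, hb, rfl⟩ :=
          (Ideal.mem_map_iff_of_surjective _ Ideal.Quotient.mk_surjective).mp hb₁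
        obtain ⟨m, rfl⟩ := Submodule.mkQ_surjective _ y
        have h1 : x - b • m ∈ (I₀.map (algebraMap R B) • ⊤ : Submodule B M) := by
          rw [← Submodule.Quotient.mk_eq_zero, Submodule.Quotient.mk_sub, sub_eq_zero]
          exact hx
        have h2 : x = (x - b • m) + b • m := by abel
        rw [h2]
        exact add_mem (Submodule.smul_mono hIP le_rfl h1) (Submodule.smul_mem_smul hb trivial)
      · intro y₁ y₂ h₁ h₂ x hx
        obtain ⟨x₁, rfl⟩ := Submodule.mkQ_surjective _ y₁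
        have h3 : mkM I₀ B (x - x₁) = y₂ := by
          rw [map_sub, hx, add_sub_cancel_left]
        have h4 : x = x₁ + (x - x₁) := by abel
        rw [h4]
        exact add_mem (h₁ x₁ rfl) (h₂ _ h3)
    exact key _ h x rfl
  · intro h
    refine Submodule.smul_induction_on h ?_ ?_
    · intro b hb m _
      rw [← mkB_smul_mkM]
      exact Submodule.smul_mem_smul (Ideal.mem_map_of_mem _ hb) trivial
    · intro x y hx hy
      rw [map_add]
      exact add_mem hx hy

/-- **Transfer**: relative associated primes of `M/I₀M` over `R/I₀` are those of `M` over `R`. -/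
theorem relAssAt_quot_iff {q : Ideal B} (hq : I₀.map (algebraMap R B) ≤ q) :
    RelAssAt (QR I₀) (QM I₀ B M) (q.map (Ideal.Quotient.mk (I₀.map (algebraMap R B)))) ↔
      RelAssAt R M q := by
  constructor
  · rintro ⟨m₁, h1, h2⟩
    obtain ⟨m, rfl⟩ := Submodule.mkQ_surjective _ m₁
    refine ⟨m, ?_, ?_⟩
    · intro s hs hmem
      apply h1 (Ideal.Quotient.mk _ s) ((mk_mem_map_iff hq s).not.mpr hs)
      change Ideal.Quotient.mk _ s • mkM I₀ B m ∈ _
      rw [mkB_smul_mkM, mkM_mem_pM_iff hq]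
      exact hmem
    · intro b hb
      obtain ⟨s₁, hs₁, hmem⟩ := h2 (Ideal.Quotient.mk _ b) ((mk_mem_map_iff hq b).mpr hb)
      obtain ⟨s, rfl⟩ := Ideal.Quotient.mk_surjective s₁
      refine ⟨s, fun h => hs₁ ((mk_mem_map_iff hq s).mpr h), ?_⟩
      rw [← mkM_mem_pM_iff hq, ← mkB_smul_mkM, map_mul]
      exact hmem
  · rintro ⟨m, h1, h2⟩
    refine ⟨mkM I₀ B m, ?_, ?_⟩
    · intro s₁ hs₁ hmem
      obtain ⟨s, rfl⟩ := Ideal.Quotient.mk_surjective s₁
      apply h1 s (fun h => hs₁ ((mk_mem_map_iff hq s).mpr h))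
      rw [← mkM_mem_pM_iff hq, ← mkB_smul_mkM]
      exact hmem
    · intro b₁ hb₁
      obtain ⟨b, rfl⟩ := Ideal.Quotient.mk_surjective b₁
      obtain ⟨s, hs, hmem⟩ := h2 b ((mk_mem_map_iff hq b).mp hb₁)
      refine ⟨Ideal.Quotient.mk _ s, (mk_mem_map_iff hq s).not.mpr hs, ?_⟩
      rw [← map_mul, mkB_smul_mkM, mkM_mem_pM_iff hq]
      exact hmem

end Quot

end Groth.Agent.H3.RelGen
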