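import Mathlib
import Groth.Agent.Lib.Helper3.RelGenC
import Groth.Agent.Lib.Helper3.RelGenE
import Groth.Agent.Lib.Helper3.RelGenF

/-!
# Relative associated primes, generically (helper3): general base rings
-/

set_option autoImplicit false
universe u

namespace Groth.Agent.H3.RelGen

section General

variable {R B M : Type u} [CommRing R] [CommRing B] [Algebra R B] [Algebra.FiniteType R B]
  [AddCommGroup M] [Module B M] [Module.Finite B M]

omit [Algebra.FiniteType R B] in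
theorem finite_QM (I₀ : Ideal R) : Module.Finite (QB I₀ B) (QM I₀ B M) := by
  haveI : IsScalarTower B (QB I₀ B) (QM I₀ B M) := ⟨fun b b₁ m₁ => by
    obtain ⟨b₁', rfl⟩ := Ideal.Quotient.mk_surjective b₁
    obtain ⟨m, rfl⟩ := Submodule.mkQ_surjective _ m₁
    change mkM I₀ B ((b • b₁') • m) = mkM I₀ B (b • b₁' • m)
    rw [smul_eq_mul, mul_smul]⟩
  exact Module.Finite.of_restrictScalars_finite B (QB I₀ B) (QM I₀ B M)

omit [AddCommGroup M] [Module B M] [Module.Finite B M] in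
theorem finiteType_QB (I₀ : Ideal R) : Algebra.FiniteType (QR I₀) (QB I₀ B) := by
  haveI : Algebra.FiniteType R (QB I₀ B) :=
    Algebra.FiniteType.of_surjective (Ideal.Quotient.mkₐ R _) (Ideal.Quotient.mkₐ_surjective R _)
  exact Algebra.FiniteType.of_restrictScalars_finiteType R (QR I₀) (QB I₀ B)

/-- **EGA IV 9.8.3-type statement.** -/
theorem exists_forall_not_relAssAt' (p₀ : Ideal R) [p₀.IsPrime] (𝒮 : Set B)
    (H : ∀ q : Ideal B, q.IsPrime → q.comap (algebraMap R B) = p₀ → 𝒮 ⊆ q → ¬ RelAssAt R M q) :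
    ∃ r : R, r ∉ p₀ ∧ ∀ q : Ideal B, q.IsPrime → p₀.map (algebraMap R B) ≤ q →
      algebraMap R B r ∉ q → 𝒮 ⊆ q → ¬ RelAssAt R M q := by
  haveI := finiteType_QB (B := B) p₀
  haveI := finite_QM (B := B) (M := M) p₀
  letI : Module (QR p₀) (QM p₀ B M) := Module.compHom _ (algebraMap (QR p₀) (QB p₀ B))
  haveI : IsScalarTower (QR p₀) (QB p₀ B) (QM p₀ B M) :=
    IsScalarTower.of_algebraMap_smul fun r m => rfl
  let mkB : B →+* QB p₀ B := Ideal.Quotient.mk (p₀.map (algebraMap R B))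
  have H₁ : ∀ q₁ : Ideal (QB p₀ B), q₁.IsPrime → q₁.comap (algebraMap (QR p₀) (QB p₀ B)) = ⊥ →
      mkB '' 𝒮 ⊆ q₁ → ¬ RelAssAt (QR p₀) (QM p₀ B M) q₁ := by
    intro q₁ hq₁ h0 hS
    have hq : p₀.map (algebraMap R B) ≤ q₁.comap mkB := by
      intro x hx
      change mkB x ∈ q₁
      rw [show mkB x = 0 from Ideal.Quotient.eq_zero_iff_mem.mpr hx]
      exact zero_mem _
    have hq₁' : q₁ = (q₁.comap mkB).map mkB :=
      (Ideal.map_comap_of_surjective mkB Ideal.Quotient.mk_surjective q₁).symm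
    rw [hq₁', relAssAt_quot_iff hq]
    apply H (q₁.comap mkB) inferInstance
    · ext x
      rw [← mk_mem_comap_map_iff hq, ← hq₁', h0, Ideal.mem_bot, Ideal.Quotient.eq_zero_iff_mem]
    · intro c hc
      change mkB c ∈ q₁
      exact hS ⟨c, hc, rfl⟩
  obtain ⟨r₁, hr₁, hmain⟩ := exists_forall_not_relAssAt (R := QR p₀) (M := QM p₀ B M)
    (mkB '' 𝒮) H₁
  obtain ⟨r, rfl⟩ := Ideal.Quotient.mk_surjective r₁
  refine ⟨r, fun h => hr₁ (Ideal.Quotient.eq_zero_iff_mem.mpr h), ?_⟩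
  intro q hq hpq hrq hSq hrel
  haveI := isPrime_map_mk hpq
  refine hmain (q.map mkB) inferInstance ?_ ?_ ((relAssAt_quot_iff hpq).mpr hrel)
  · intro h
    exact hrq ((mk_mem_map_iff hpq _).mp h)
  · rintro _ ⟨c, hc, rfl⟩
    exact (mk_mem_map_iff hpq c).mpr (hSq hc)

/-- **Spreading out a relative associated prime.** -/
theorem exists_forall_relAssAt' (q₀ : Ideal B) [q₀.IsPrime] (hq₀ : RelAssAt R M q₀) :
    ∃ r : R, r ∉ q₀.comap (algebraMap R B) ∧
      (∀ q : Ideal B, q.IsPrime → q₀ ≤ q → algebraMap R B r ∉ q →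
        (∀ q' : Ideal B, q'.IsPrime → q₀ ≤ q' → q' ≤ q →
          q'.comap (algebraMap R B) = q.comap (algebraMap R B) → q' = q) → RelAssAt R M q) ∧
      (∀ p : Ideal R, p.IsPrime → q₀.comap (algebraMap R B) ≤ p → r ∉ p →
        ∃ q : Ideal B, q.IsPrime ∧ q₀ ≤ q ∧ q.comap (algebraMap R B) = p) := by
  set p₀ := q₀.comap (algebraMap R B) with hp₀
  haveI := finiteType_QB (B := B) p₀
  haveI := finite_QM (B := B) (M := M) p₀
  letI : Module (QR p₀) (QM p₀ B M) := Module.compHom _ (algebraMap (QR p₀) (QB p₀ B))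
  haveI : IsScalarTower (QR p₀) (QB p₀ B) (QM p₀ B M) :=
    IsScalarTower.of_algebraMap_smul fun r m => rfl
  let mkB : B →+* QB p₀ B := Ideal.Quotient.mk (p₀.map (algebraMap R B))
  have hle₀ : p₀.map (algebraMap R B) ≤ q₀ := Ideal.map_comap_le
  haveI := isPrime_map_mk hle₀
  have h₀₁ : (q₀.map mkB).comap (algebraMap (QR p₀) (QB p₀ B)) = ⊥ := by
    ext xb
    obtain ⟨x, rfl⟩ := Ideal.Quotient.mk_surjective xb
    rw [mk_mem_comap_map_iff hle₀, Ideal.mem_bot, Ideal.Quotient.eq_zero_iff_mem]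
  obtain ⟨r₁, hr₁, hA, hB⟩ := exists_forall_relAssAt (R := QR p₀) (M := QM p₀ B M) (q₀.map mkB)
    h₀₁ ((relAssAt_quot_iff hle₀).mpr hq₀)
  obtain ⟨r, rfl⟩ := Ideal.Quotient.mk_surjective r₁
  refine ⟨r, fun h => hr₁ (Ideal.Quotient.eq_zero_iff_mem.mpr h), ?_, ?_⟩
  · intro q hq hle hrq hmin
    have hpq : p₀.map (algebraMap R B) ≤ q := hle₀.trans hle
    haveI := isPrime_map_mk hpq
    apply (relAssAt_quot_iff hpq).mp
    apply hA (q.map mkB) inferInstance (Ideal.map_mono hle)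
    · intro h
      exact hrq ((mk_mem_map_iff hpq _).mp h)
    · intro q'₁ hq'₁ hle' hle'' hcomap'
      have hq'₁eq : q'₁ = (q'₁.comap mkB).map mkB :=
        (Ideal.map_comap_of_surjective mkB Ideal.Quotient.mk_surjective q'₁).symm
      have hpq' : p₀.map (algebraMap R B) ≤ q'₁.comap mkB := by
        intro x hx
        change mkB x ∈ q'₁
        rw [show mkB x = 0 from Ideal.Quotient.eq_zero_iff_mem.mpr hx]
        exact zero_mem _
      have h1 : q₀ ≤ q'₁.comap mkB := by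
        intro x hx
        change mkB x ∈ q'₁
        exact hle' (Ideal.mem_map_of_mem _ hx)
      have h2 : q'₁.comap mkB ≤ q := by
        intro x hx
        exact (mk_mem_map_iff hpq x).mp (hle'' hx)
      have h3 : (q'₁.comap mkB).comap (algebraMap R B) = q.comap (algebraMap R B) := by
        ext x
        rw [← mk_mem_comap_map_iff hpq', ← mk_mem_comap_map_iff hpq, ← hq'₁eq, hcomap']
      have h4 := hmin (q'₁.comap mkB) inferInstance h1 h2 h3
      rw [hq'₁eq, h4]
  · intro p hp hp₀p hrp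
    haveI := hp
    have hker : RingHom.ker (Ideal.Quotient.mk p₀) ≤ p := by rw [Ideal.mk_ker]; exact hp₀p
    haveI hp₁ : (p.map (Ideal.Quotient.mk p₀)).IsPrime :=
      Ideal.map_isPrime_of_surjective Ideal.Quotient.mk_surjective hker
    have hmemp : ∀ x : R, Ideal.Quotient.mk p₀ x ∈ p.map (Ideal.Quotient.mk p₀) ↔ x ∈ p := by
      intro x
      rw [← Ideal.mem_comap, Ideal.comap_map_of_surjective _ Ideal.Quotient.mk_surjective,
        ← RingHom.ker_eq_comap_bot, sup_eq_left.mpr hker]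
    obtain ⟨q₁, hq₁, hle₁, hc₁⟩ := hB (p.map (Ideal.Quotient.mk p₀)) hp₁
      (fun h => hrp ((hmemp r).mp h))
    refine ⟨q₁.comap mkB, inferInstance, ?_, ?_⟩
    · intro x hx
      change mkB x ∈ q₁
      exact hle₁ (Ideal.mem_map_of_mem _ hx)
    · ext x
      rw [← hmemp x, ← hc₁]
      rfl

end General

end Groth.Agent.H3.RelGen
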