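import Mathlib
import Groth.Agent.Lib.Helper3.RelGenB

/-!
# Relative associated primes (helper3): the elementwise predicate via any localization
-/

set_option autoImplicit false
universe u

namespace Groth.Agent.H3.RelGen

section Loc

variable {R B M : Type*} [CommRing R] [CommRing B] [Algebra R B] [AddCommGroup M] [Module B M]
  (q : Ideal B) [q.IsPrime] (A : Type*) [CommRing A] [Algebra B A] [IsLocalization.AtPrime A q]
  [IsLocalRing A] (L : Type*) [AddCommGroup L] [Module A L] [Module B L] [IsScalarTower B A L]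
  (𝔍 : Ideal A)
  (h𝔍 : 𝔍 = ((q.comap (algebraMap R B)).map (algebraMap R B)).map (algebraMap B A))

include h𝔍

theorem map_mem_smul_top_iff (ℓ : M →ₗ[B] L) [IsLocalizedModule q.primeCompl ℓ] (m : M) :
    ℓ m ∈ 𝔍 • (⊤ : Submodule A L) ↔ ∃ s : B, s ∉ q ∧ s • m ∈ pM R M q := by
  have hloc : (pM R M q).localized' A q.primeCompl ℓ = 𝔍 • (⊤ : Submodule A L) := by
    rw [pM, Submodule.localized'_smul, Ideal.localized'_eq_map, Submodule.localized'_top, h𝔍]
  rw [← hloc, Submodule.mem_localized']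
  constructor
  · rintro ⟨m', hm', s, hs⟩
    rw [IsLocalizedModule.mk'_eq_iff, Submonoid.smul_def, ← map_smul] at hs
    obtain ⟨t, ht⟩ := IsLocalizedModule.exists_of_eq (S := q.primeCompl) hs
    refine ⟨(t : B) * (s : B), (t * s).2, ?_⟩
    rw [mul_smul]
    change t • (s : B) • m ∈ _
    rw [← ht]
    exact Submodule.smul_mem _ _ hm'
  · rintro ⟨s, hs, hmem⟩
    exact ⟨s • m, hmem, ⟨s, hs⟩, IsLocalizedModule.mk'_cancel ℓ m ⟨s, hs⟩⟩

/-- the socle criterion in any localization is the elementwise predicate `RelAssAt` -/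
theorem exists_socle_iff_relAssAt (ℓ : M →ₗ[B] L) [IsLocalizedModule q.primeCompl ℓ] :
    (∃ y : L, y ∉ 𝔍 • (⊤ : Submodule A L) ∧
      ∀ a ∈ IsLocalRing.maximalIdeal A, a • y ∈ 𝔍 • (⊤ : Submodule A L)) ↔ RelAssAt R M q := by
  have B0 := map_mem_smul_top_iff (R := R) q A L 𝔍 h𝔍 ℓ
  have hmk : ∀ (m : M) (s : q.primeCompl),
      IsLocalizedModule.mk' ℓ m s = IsLocalization.mk' A (1 : B) s • ℓ m := by
    intro m s
    rw [← IsLocalizedModule.mk'_one q.primeCompl ℓ m, IsLocalizedModule.mk'_smul_mk', one_smul,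
      mul_one]
  constructor
  · rintro ⟨y, hy, hmax⟩
    obtain ⟨⟨m, s⟩, rfl⟩ := IsLocalizedModule.mk'_surjective q.primeCompl ℓ y
    rw [Function.uncurry_apply_pair] at hy hmax
    refine ⟨m, ?_, ?_⟩
    · intro s' hs' hmem
      apply hy
      rw [hmk]
      exact Submodule.smul_mem _ _ ((B0 m).mpr ⟨s', hs', hmem⟩)
    · intro b hb
      have h1 : algebraMap B A b ∈ IsLocalRing.maximalIdeal A :=
        (IsLocalization.AtPrime.to_map_mem_maximal_iff A q b).mpr hb
      have h2 := hmax _ h1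
      have h3 : ℓ (b • m) ∈ 𝔍 • (⊤ : Submodule A L) := by
        have h4 : ℓ (b • m) = algebraMap B A (s : B) • (algebraMap B A b •
            IsLocalizedModule.mk' ℓ m s) := by
          rw [algebraMap_smul, algebraMap_smul, smul_comm, ← Submonoid.smul_def,
            IsLocalizedModule.mk'_cancel', map_smul]
        rw [h4]
        exact Submodule.smul_mem _ _ h2
      obtain ⟨s', hs', hmem⟩ := (B0 _).mp h3
      exact ⟨s', hs', by rw [mul_smul]; exact hmem⟩
  · rintro ⟨m, h1, h2⟩
    refine ⟨ℓ m, ?_, ?_⟩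
    · intro h
      obtain ⟨s, hs, hmem⟩ := (B0 m).mp h
      exact h1 s hs hmem
    · intro a ha
      obtain ⟨b, s, rfl⟩ := IsLocalization.exists_mk'_eq q.primeCompl a
      have hb : b ∈ q := (IsLocalization.AtPrime.mk'_mem_maximal_iff A q b s).mp ha
      obtain ⟨s', hs', hmem⟩ := h2 b hb
      have h3 : ℓ (b • m) ∈ 𝔍 • (⊤ : Submodule A L) :=
        (B0 _).mpr ⟨s', hs', by rw [← mul_smul]; exact hmem⟩
      have h4 : IsLocalization.mk' A b s • ℓ m = IsLocalization.mk' A (1 : B) s • ℓ (b • m) := by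
        rw [← hmk, ← IsLocalizedModule.mk'_one q.primeCompl ℓ m, IsLocalizedModule.mk'_smul_mk',
          mul_one]
      rw [h4]
      exact Submodule.smul_mem _ _ h3

end Loc

end Groth.Agent.H3.RelGen
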