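import Mathlib
import Groth.Prelude.Def_FDesc
import Groth.Prelude.Def_MoreMor
import Groth.Agent.Lib.Helper3.RelAssB
import Groth.Agent.Lib.Helper3.GenFlatSch
import Groth.Agent.Lib.Helper3.RelGenH

/-!
# Relative associated points in affine charts (helper3)
-/

set_option autoImplicit false
universe u
open CategoryTheory CategoryTheory.Limits AlgebraicGeometry IsLocalRing TensorProduct
  TopologicalSpace

namespace Groth.Agent.H3.RelGen

open Groth.Agent.LD.QC Groth.Agent.H3.FlatAss Groth.Agent.H3.TenAss Groth.Agent.H1.SchFlat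

attribute [-instance] Groth.Agent.LD.QC.stalkModule

variable {X S : Scheme.{u}} (f : X ⟶ S)

/-- the prime of `f x` in `V` is the contraction of the prime of `x` in `U` -/
theorem primeIdealOf_comap' {U : X.Opens} {V : S.Opens} (hU : IsAffineOpen U)
    (hV : IsAffineOpen V) (hUV : U ≤ f ⁻¹ᵁ V) (x : X) (hx : x ∈ U) :
    (hV.primeIdealOf ⟨f x, hUV hx⟩).asIdeal =
      (hU.primeIdealOf ⟨x, hx⟩).asIdeal.comap (f.appLE V U hUV).hom := by
  letI : Algebra Γ(X, U) (X.presheaf.stalk x) :=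
    TopCat.Presheaf.algebra_section_stalk X.presheaf ⟨x, hx⟩
  haveI := hU.isLocalization_stalk ⟨x, hx⟩
  letI : Algebra Γ(S, V) (S.presheaf.stalk (f x)) :=
    TopCat.Presheaf.algebra_section_stalk S.presheaf ⟨f x, hUV hx⟩
  haveI := hV.isLocalization_stalk ⟨f x, hUV hx⟩
  ext a
  rw [Ideal.mem_comap]
  rw [← IsLocalization.AtPrime.to_map_mem_maximal_iff (S.presheaf.stalk (f x))
    (hV.primeIdealOf ⟨f x, hUV hx⟩).asIdeal a,
    ← IsLocalization.AtPrime.to_map_mem_maximal_iff (X.presheaf.stalk x)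
    (hU.primeIdealOf ⟨x, hx⟩).asIdeal (f.appLE V U hUV a)]
  change S.presheaf.germ V (f x) (hUV hx) a ∈ _ ↔ X.presheaf.germ U x hx (f.appLE V U hUV a) ∈ _
  rw [← stalkMap_germ_appLE f hUV x hx a, IsLocalRing.mem_maximalIdeal,
    IsLocalRing.mem_maximalIdeal, mem_nonunits_iff, mem_nonunits_iff, not_iff_not]
  exact (isUnit_map_iff (f.stalkMap x).hom _).symm

theorem fibreIdeal_eq_map {U : X.Opens} {V : S.Opens} (hU : IsAffineOpen U)
    (hV : IsAffineOpen V) (hUV : U ≤ f ⁻¹ᵁ V) (x : X) (hx : x ∈ U) :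
    letI := algΓ f hUV
    letI : Algebra Γ(X, U) (X.presheaf.stalk x) := X.presheaf.algebra_section_stalk ⟨x, hx⟩
    fibreIdeal f x = (((hU.primeIdealOf ⟨x, hx⟩).asIdeal.comap
      (algebraMap Γ(S, V) Γ(X, U))).map (algebraMap Γ(S, V) Γ(X, U))).map
        (algebraMap Γ(X, U) (X.presheaf.stalk x)) := by
  letI := algΓ f hUV
  letI : Algebra Γ(X, U) (X.presheaf.stalk x) := X.presheaf.algebra_section_stalk ⟨x, hx⟩
  letI : Algebra Γ(S, V) (S.presheaf.stalk (f x)) :=
    S.presheaf.algebra_section_stalk ⟨f x, hUV hx⟩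
  haveI := hV.isLocalization_stalk ⟨f x, hUV hx⟩
  have h1 : maximalIdeal (S.presheaf.stalk (f x)) =
      (hV.primeIdealOf ⟨f x, hUV hx⟩).asIdeal.map
        (algebraMap Γ(S, V) (S.presheaf.stalk (f x))) :=
    (IsLocalization.AtPrime.map_eq_maximalIdeal _ _).symm
  have h2 : (hV.primeIdealOf ⟨f x, hUV hx⟩).asIdeal =
      (hU.primeIdealOf ⟨x, hx⟩).asIdeal.comap (algebraMap Γ(S, V) Γ(X, U)) :=
    primeIdealOf_comap' f hU hV hUV x hx
  rw [fibreIdeal, h1, h2, Ideal.map_map, Ideal.map_map]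
  congr 1
  ext a
  exact stalkMap_germ_appLE f hUV x hx a

variable (F : X.Modules) [F.IsQuasicoherent]

/-- **Relative associated points in affine charts.** -/
theorem mem_relAss_iff_relAssAt [LocallyOfFiniteType f] {U : X.Opens} {V : S.Opens}
    (hU : IsAffineOpen U) (hV : IsAffineOpen V) (hUV : U ≤ f ⁻¹ᵁ V) (x : X) (hx : x ∈ U) :
    letI := algΓ f hUV
    x ∈ MoreMor.relAss f F ↔
      RelAssAt Γ(S, V) Γ(F, U) (hU.primeIdealOf ⟨x, hx⟩).asIdeal := by
  letI := algΓ f hUV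
  letI algst : Algebra Γ(X, U) (X.presheaf.stalk x) :=
    X.presheaf.algebra_section_stalk ⟨x, hx⟩
  haveI := hU.isLocalization_stalk ⟨x, hx⟩
  letI := stalkΓModule F x U hx
  haveI : IsScalarTower Γ(X, U) (X.presheaf.stalk x) (F.presheaf.stalk x) :=
    isScalarTower_stalk' F x U hx
  haveI := isLocalizedModule_germ F hU x hx
  rw [mem_relAss_iff]
  rw [← exists_socle_iff_relAssAt (R := Γ(S, V)) (hU.primeIdealOf ⟨x, hx⟩).asIdeal
    (X.presheaf.stalk x) (F.presheaf.stalk x) (fibreIdeal f x)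
    (fibreIdeal_eq_map f hU hV hUV x hx) (germLinear F x U hx)]
  constructor
  · rintro ⟨c, hc0, hc⟩
    obtain ⟨y, rfl⟩ := Submodule.Quotient.mk_surjective _ c
    refine ⟨y, fun h => hc0 ((Submodule.Quotient.mk_eq_zero _).mpr h), fun a ha => ?_⟩
    have := hc a ha
    rwa [← Submodule.Quotient.mk_smul, Submodule.Quotient.mk_eq_zero] at this
  · rintro ⟨y, hy, hmax⟩
    refine ⟨Submodule.Quotient.mk y, fun h => hy ((Submodule.Quotient.mk_eq_zero _).mp h),
      fun a ha => ?_⟩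
    rw [← Submodule.Quotient.mk_smul, Submodule.Quotient.mk_eq_zero]
    exact hmax a ha

end Groth.Agent.H3.RelGen
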