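import Mathlib
import Groth.Prelude.Def_FDesc
import Groth.Prelude.Def_MoreMor
import Groth.Agent.Lib.Helper3.RelGenG
import Groth.Agent.Lib.Helper3.RelGenI

/-!
# Relative associated points avoiding a closed set, generically (helper3; S1368)
-/

set_option autoImplicit false
universe u
open CategoryTheory CategoryTheory.Limits AlgebraicGeometry IsLocalRing TensorProduct
  TopologicalSpace

namespace Groth.Agent.H3.RelGen

open Groth.Agent.LD.QC Groth.Agent.H3.FlatAss Groth.Agent.H3.TenAss Groth.Agent.H1.SchFlat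

attribute [-instance] Groth.Agent.LD.QC.stalkModule

section Chart

variable {X : Scheme.{u}}

/-- membership in the prime of a point of an affine open, via basic opens -/
theorem mem_primeIdealOf_iff' {U : X.Opens} (hU : IsAffineOpen U) (x : X) (hx : x ∈ U)
    (b : Γ(X, U)) : b ∈ (hU.primeIdealOf ⟨x, hx⟩).asIdeal ↔ x ∉ X.basicOpen b := by
  have h1 : x ∈ X.basicOpen b ↔
      hU.primeIdealOf ⟨x, hx⟩ ∈ hU.fromSpec ⁻¹ᵁ X.basicOpen b := by
    change _ ↔ hU.fromSpec (hU.primeIdealOf ⟨x, hx⟩) ∈ X.basicOpen b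
    rw [hU.fromSpec_primeIdealOf]
  rw [h1, hU.fromSpec_preimage_basicOpen]
  exact not_not.symm

/-- `primeIdealOf` is monotone for specialization. -/
theorem primeIdealOf_le_of_specializes' {U : X.Opens} (hU : IsAffineOpen U) (x ξ : X)
    (hx : x ∈ U) (hξ : ξ ∈ U) (h : ξ ⤳ x) :
    (hU.primeIdealOf ⟨ξ, hξ⟩).asIdeal ≤ (hU.primeIdealOf ⟨x, hx⟩).asIdeal := by
  have h1 : hU.fromSpec (hU.primeIdealOf ⟨ξ, hξ⟩) ⤳ hU.fromSpec (hU.primeIdealOf ⟨x, hx⟩) := by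
    rw [hU.fromSpec_primeIdealOf, hU.fromSpec_primeIdealOf]
    exact h
  have h2 := hU.fromSpec.isOpenEmbedding.isInducing.specializes_iff.1 h1
  exact (PrimeSpectrum.le_iff_specializes (R := Γ(X, U)) _ _).2 h2

/-- specialization in an affine chart via the primes -/
theorem specializes_of_primeIdealOf_le' {V : X.Opens} (hV : IsAffineOpen V) {x z : X}
    (hx : x ∈ V) (hz : z ∈ V)
    (h : (hV.primeIdealOf ⟨z, hz⟩).asIdeal ≤ (hV.primeIdealOf ⟨x, hx⟩).asIdeal) : z ⤳ x := by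
  have h1 : hV.primeIdealOf ⟨z, hz⟩ ⤳ hV.primeIdealOf ⟨x, hx⟩ :=
    (PrimeSpectrum.le_iff_specializes _ _).mp h
  have h2 := h1.map hV.fromSpec.continuous
  rwa [hV.fromSpec_primeIdealOf, hV.fromSpec_primeIdealOf] at h2

theorem eq_of_primeIdealOf_eq {U : X.Opens} (hU : IsAffineOpen U) (x x' : X) (hx : x ∈ U)
    (hx' : x' ∈ U)
    (h : (hU.primeIdealOf ⟨x, hx⟩).asIdeal = (hU.primeIdealOf ⟨x', hx'⟩).asIdeal) : x = x' := by
  have := congrArg hU.fromSpec (PrimeSpectrum.ext h)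
  rwa [hU.fromSpec_primeIdealOf, hU.fromSpec_primeIdealOf] at this

/-- sections over `U` whose basic open lies in `O` -/
def secIn (U O : X.Opens) : Set Γ(X, U) := {b | X.basicOpen b ≤ O}

theorem notMem_iff_secIn_subset {U : X.Opens} (hU : IsAffineOpen U) (O : X.Opens) (x : X)
    (hx : x ∈ U) : x ∉ O ↔ secIn U O ⊆ (hU.primeIdealOf ⟨x, hx⟩).asIdeal := by
  constructor
  · intro hxO b hb
    rw [SetLike.mem_coe, mem_primeIdealOf_iff']
    exact fun h => hxO (hb h)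
  · intro hsub hxO
    obtain ⟨b, hbO, hxb⟩ := hU.exists_basicOpen_le (V := O) ⟨x, hxO⟩ hx
    have := hsub (show b ∈ secIn U O from hbO)
    rw [SetLike.mem_coe, mem_primeIdealOf_iff'] at this
    exact this hxb

end Chart

section Avoid

variable {X Y : Scheme.{u}} (f : X ⟶ Y) [LocallyOfFiniteType f] (F : X.Modules)
  [F.IsQuasicoherent] (hF : F.IsFiniteType) (O : X.Opens)

include hF

theorem chart_avoid {W : X.Opens} {V₀ : Y.Opens} (hW : IsAffineOpen W) (hV₀ : IsAffineOpen V₀)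
    (hWV : W ≤ f ⁻¹ᵁ V₀) (η : Y) (hη : η ∈ V₀) (hgen : ∀ y ∈ V₀, η ⤳ y)
    (h : ∀ x ∈ MoreMor.relAss f F, f x = η → x ∈ O) :
    ∃ r : Γ(Y, V₀), η ∈ Y.basicOpen r ∧
      ∀ x ∈ MoreMor.relAss f F, x ∈ W → f x ∈ Y.basicOpen r → x ∈ O := by
  letI := algΓ f hWV
  haveI : Algebra.FiniteType Γ(Y, V₀) Γ(X, W) :=
    (HasRingHomProperty.appLE (P := @LocallyOfFiniteType) f inferInstance ⟨V₀, hV₀⟩ ⟨W, hW⟩ hWV :
      RingHom.FiniteType _)
  haveI : Module.Finite Γ(X, W) Γ(F, W) := finite_sections_of_isFiniteType F hF hW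
  set p₀ := (hV₀.primeIdealOf ⟨η, hη⟩).asIdeal with hp₀
  have hp₀le : ∀ (x : X) (hx : x ∈ W), p₀.map (algebraMap Γ(Y, V₀) Γ(X, W)) ≤
      (hW.primeIdealOf ⟨x, hx⟩).asIdeal := by
    intro x hx
    rw [Ideal.map_le_iff_le_comap]
    have h1 := primeIdealOf_comap' f hW hV₀ hWV x hx
    have h2 := primeIdealOf_le_of_specializes' hV₀ (f x) η (hWV hx) hη (hgen _ (hWV hx))
    rw [h1] at h2
    exact h2
  have H : ∀ q : Ideal Γ(X, W), q.IsPrime → q.comap (algebraMap Γ(Y, V₀) Γ(X, W)) = p₀ →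
      secIn W O ⊆ q → ¬ RelAssAt Γ(Y, V₀) Γ(F, W) q := by
    intro q hq hq0 hS hrel
    let x : X := hW.fromSpec ⟨q, hq⟩
    have hx : x ∈ W := fromSpec_mem hW _
    have hqx : hW.primeIdealOf ⟨x, hx⟩ = ⟨q, hq⟩ := primeIdealOf_fromSpec hW _ hx
    have hqx' : (hW.primeIdealOf ⟨x, hx⟩).asIdeal = q := congrArg PrimeSpectrum.asIdeal hqx
    have hxrel : x ∈ MoreMor.relAss f F :=
      (mem_relAss_iff_relAssAt f F hW hV₀ hWV x hx).mpr (hqx'.symm ▸ hrel)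
    have hfx : f x = η := by
      apply eq_of_primeIdealOf_eq hV₀ (f x) η (hWV hx) hη
      rw [primeIdealOf_comap' f hW hV₀ hWV x hx, hqx']
      exact hq0
    have hxO := h x hxrel hfx
    exact ((notMem_iff_secIn_subset hW O x hx).mpr (hqx'.symm ▸ hS)) hxO
  obtain ⟨r, hr, hmain⟩ := exists_forall_not_relAssAt' (R := Γ(Y, V₀)) (M := Γ(F, W)) p₀
    (secIn W O) H
  refine ⟨r, ?_, ?_⟩
  · by_contra hcon
    exact hr ((mem_primeIdealOf_iff' hV₀ η hη r).mpr hcon)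
  · intro x hxrel hxW hfx
    by_contra hxO
    have hS := (notMem_iff_secIn_subset hW O x hxW).mp hxO
    refine hmain _ inferInstance (hp₀le x hxW) ?_ hS
      ((mem_relAss_iff_relAssAt f F hW hV₀ hWV x hxW).mp hxrel)
    change (f.appLE V₀ W hWV).hom r ∉ _
    rw [mem_primeIdealOf_iff', not_not, Scheme.basicOpen_appLE f W V₀ hWV r]
    exact ⟨hxW, hfx⟩

end Avoid

/-- **S1368** -/
theorem main_avoid {X Y : Scheme.{u}} (f : X ⟶ Y) [IrreducibleSpace ↑Y] [LocallyOfFiniteType f]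
    [QuasiCompact f] (F : X.Modules) (hF : Coh.IsCoh F) (U : X.Opens)
    (h : ∀ x ∈ MoreMor.relAss f F, f x = genericPoint ↑Y → x ∈ U) :
    ∃ V : Y.Opens, (V : Set ↑Y).Nonempty ∧ ∀ x ∈ MoreMor.relAss f F, f x ∈ V → x ∈ U := by
  haveI : F.IsQuasicoherent := hF.1
  have hFT : F.IsFiniteType := hF.2
  set η := genericPoint Y with hηdef
  obtain ⟨V₀, hV₀, hη, -⟩ := exists_isAffineOpen_mem_and_subset (x := η) (U := ⊤) trivial
  have hgen : ∀ y ∈ V₀, η ⤳ y := fun y _ => genericPoint_specializes y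
  obtain ⟨s, hsfin, hs⟩ := isCompact_and_isOpen_iff_finite_and_eq_biUnion_affineOpens.mp
    ⟨QuasiCompact.isCompact_preimage (f := f) _ V₀.isOpen hV₀.isCompact, (f ⁻¹ᵁ V₀).isOpen⟩
  have hle : ∀ W : s, W.1.1 ≤ f ⁻¹ᵁ V₀ := by
    intro W x hx
    have : x ∈ ⋃ i ∈ s, (i : Set X) := Set.mem_biUnion W.2 hx
    rw [← hs] at this
    exact this
  haveI : Fintype s := hsfin.fintype
  choose r hrη hr using fun W : s => chart_avoid f F hFT U W.1.2 hV₀ (hle W) η hη hgen h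
  let rr : Γ(Y, V₀) := ∏ W : s, r W
  refine ⟨Y.basicOpen rr, ⟨η, ?_⟩, ?_⟩
  · by_contra hcon
    have hmem := (mem_primeIdealOf_iff' hV₀ η hη rr).mpr hcon
    obtain ⟨W, -, hW⟩ := (Ideal.IsPrime.prod_mem_iff).mp hmem
    exact (mem_primeIdealOf_iff' hV₀ η hη (r W)).mp hW (hrη W)
  · intro x hxrel hfx
    have hfxV : f x ∈ V₀ := Y.basicOpen_le rr hfx
    have hxV : x ∈ (f ⁻¹ᵁ V₀ : Set X) := hfxV
    rw [show ((f ⁻¹ᵁ V₀ : X.Opens) : Set X) = ⋃ i ∈ s, (i : Set X) from hs] at hxV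
    obtain ⟨W, hW, hxW⟩ := Set.mem_iUnion₂.mp hxV
    refine hr ⟨W, hW⟩ x hxrel hxW ?_
    by_contra hcon
    have hmem := (mem_primeIdealOf_iff' hV₀ (f x) hfxV (r ⟨W, hW⟩)).mpr hcon
    refine (mem_primeIdealOf_iff' hV₀ (f x) hfxV rr).mp ?_ hfx
    exact Ideal.mem_of_dvd _ (Finset.dvd_prod_of_mem r (Finset.mem_univ ⟨W, hW⟩)) hmem

end Groth.Agent.H3.RelGen
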