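import Mathlib
import Groth.Prelude.Def_FDesc
import Groth.Prelude.Def_MoreMor
import Groth.Agent.Lib.Helper3.RelGenJ

/-!
# Spreading out relative associated points (helper3; S1369, S1446)
-/

set_option autoImplicit false
universe u
open CategoryTheory CategoryTheory.Limits AlgebraicGeometry IsLocalRing TensorProduct
  TopologicalSpace

namespace Groth.Agent.H3.RelGen

open Groth.Agent.LD.QC Groth.Agent.H3.FlatAss Groth.Agent.H3.TenAss Groth.Agent.H1.SchFlat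

attribute [-instance] Groth.Agent.LD.QC.stalkModule

section Alg

variable {R B : Type*} [CommRing R] [CommRing B] [Algebra R B]

/-- below a prime `q'` containing `q₀` there is a prime with the same contraction which is minimal
among primes containing `q₀` with that contraction -/
theorem exists_minimal_over (q₀ q' : Ideal B) [hq' : q'.IsPrime] (hle : q₀ ≤ q') :
    ∃ q : Ideal B, q.IsPrime ∧ q₀ ≤ q ∧ q ≤ q' ∧
      q.comap (algebraMap R B) = q'.comap (algebraMap R B) ∧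
      ∀ q'' : Ideal B, q''.IsPrime → q₀ ≤ q'' → q'' ≤ q →
        q''.comap (algebraMap R B) = q.comap (algebraMap R B) → q'' = q := by
  set p := q'.comap (algebraMap R B) with hp
  set J := q₀ ⊔ p.map (algebraMap R B) with hJ
  have hJq' : J ≤ q' := sup_le hle (Ideal.map_le_iff_le_comap.mpr le_rfl)
  obtain ⟨q, hq, hqq'⟩ := Ideal.exists_minimalPrimes_le hJq'
  have hqp : q.IsPrime := hq.1.1
  have hJq : J ≤ q := hq.1.2
  have hcomap : q.comap (algebraMap R B) = p := by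
    apply le_antisymm (Ideal.comap_mono hqq')
    intro x hx
    exact hJq (Ideal.mem_sup_right (Ideal.mem_map_of_mem _ hx))
  refine ⟨q, hqp, le_sup_left.trans hJq, hqq', hcomap, ?_⟩
  intro q'' hq'' h1 h2 h3
  have hJq'' : J ≤ q'' := by
    refine sup_le h1 ?_
    rw [Ideal.map_le_iff_le_comap, h3, hcomap]
  exact le_antisymm h2 (hq.2 ⟨hq'', hJq''⟩ h2)

end Alg

section Spread

variable {X S : Scheme.{u}} (f : X ⟶ S) [LocallyOfFiniteType f] (F : X.Modules)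
  [F.IsQuasicoherent] (hF : F.IsFiniteType)

include hF

/-- **Spreading out a relative associated point in an affine chart.** -/
theorem chart_spread {W : X.Opens} {V₀ : S.Opens} (hW : IsAffineOpen W) (hV₀ : IsAffineOpen V₀)
    (hWV : W ≤ f ⁻¹ᵁ V₀) (ξ : X) (hξW : ξ ∈ W) (hξ : ξ ∈ MoreMor.relAss f F) :
    ∃ r : Γ(S, V₀), f ξ ∈ S.basicOpen r ∧
      (∀ x : X, x ∈ W → ξ ⤳ x → f x ∈ S.basicOpen r →
        (∀ x' : X, ξ ⤳ x' → x' ⤳ x → f x' = f x → x' = x) → x ∈ MoreMor.relAss f F) ∧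
      (∀ y : S, y ∈ V₀ → f ξ ⤳ y → y ∈ S.basicOpen r →
        ∃ x : X, x ∈ W ∧ ξ ⤳ x ∧ f x = y ∧
          ∀ x' : X, ξ ⤳ x' → x' ⤳ x → f x' = f x → x' = x) := by
  letI := algΓ f hWV
  haveI : Algebra.FiniteType Γ(S, V₀) Γ(X, W) :=
    (HasRingHomProperty.appLE (P := @LocallyOfFiniteType) f inferInstance ⟨V₀, hV₀⟩ ⟨W, hW⟩ hWV :
      RingHom.FiniteType _)
  haveI : Module.Finite Γ(X, W) Γ(F, W) := finite_sections_of_isFiniteType F hF hW
  set q₀ := (hW.primeIdealOf ⟨ξ, hξW⟩).asIdeal with hq₀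
  have hrel₀ : RelAssAt Γ(S, V₀) Γ(F, W) q₀ :=
    (mem_relAss_iff_relAssAt f F hW hV₀ hWV ξ hξW).mp hξ
  obtain ⟨r, hr, hA, hB⟩ := exists_forall_relAssAt' (R := Γ(S, V₀)) (M := Γ(F, W)) q₀ hrel₀
  have hp₀ : q₀.comap (algebraMap Γ(S, V₀) Γ(X, W)) =
      (hV₀.primeIdealOf ⟨f ξ, hWV hξW⟩).asIdeal :=
    (primeIdealOf_comap' f hW hV₀ hWV ξ hξW).symm
  -- points of `W` from primes
  have hpt : ∀ (q : Ideal Γ(X, W)) (hq : q.IsPrime),
      ∃ (x : X) (hx : x ∈ W), (hW.primeIdealOf ⟨x, hx⟩).asIdeal = q := by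
    intro q hq
    refine ⟨hW.fromSpec ⟨q, hq⟩, fromSpec_mem hW _, ?_⟩
    exact congrArg PrimeSpectrum.asIdeal (primeIdealOf_fromSpec hW ⟨q, hq⟩ (fromSpec_mem hW _))
  -- minimality transfer
  have hminT : ∀ (x : X) (hx : x ∈ W),
      (∀ x' : X, ξ ⤳ x' → x' ⤳ x → f x' = f x → x' = x) →
      ∀ q' : Ideal Γ(X, W), q'.IsPrime → q₀ ≤ q' → q' ≤ (hW.primeIdealOf ⟨x, hx⟩).asIdeal →
        q'.comap (algebraMap Γ(S, V₀) Γ(X, W)) =
          (hW.primeIdealOf ⟨x, hx⟩).asIdeal.comap (algebraMap Γ(S, V₀) Γ(X, W)) →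
        q' = (hW.primeIdealOf ⟨x, hx⟩).asIdeal := by
    intro x hx hmin q' hq' h1 h2 h3
    obtain ⟨x', hx', hqx'⟩ := hpt q' hq'
    have e1 : ξ ⤳ x' := specializes_of_primeIdealOf_le' hW hx' hξW (by rw [hqx']; exact h1)
    have e2 : x' ⤳ x := specializes_of_primeIdealOf_le' hW hx hx' (by rw [hqx']; exact h2)
    have e3 : f x' = f x := by
      apply eq_of_primeIdealOf_eq hV₀ (f x') (f x) (hWV hx') (hWV hx)
      rw [primeIdealOf_comap' f hW hV₀ hWV x' hx', primeIdealOf_comap' f hW hV₀ hWV x hx, hqx']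
      exact h3
    have e4 := hmin x' e1 e2 e3
    subst e4
    exact hqx'.symm
  have hminT' : ∀ (x : X) (hx : x ∈ W),
      (∀ q' : Ideal Γ(X, W), q'.IsPrime → q₀ ≤ q' → q' ≤ (hW.primeIdealOf ⟨x, hx⟩).asIdeal →
        q'.comap (algebraMap Γ(S, V₀) Γ(X, W)) =
          (hW.primeIdealOf ⟨x, hx⟩).asIdeal.comap (algebraMap Γ(S, V₀) Γ(X, W)) →
        q' = (hW.primeIdealOf ⟨x, hx⟩).asIdeal) →
      ∀ x' : X, ξ ⤳ x' → x' ⤳ x → f x' = f x → x' = x := by
    intro x hx hmin x' e1 e2 e3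
    have hx' : x' ∈ W := e2.mem_open W.isOpen hx
    have h4 := hmin (hW.primeIdealOf ⟨x', hx'⟩).asIdeal inferInstance
      (primeIdealOf_le_of_specializes' hW x' ξ hx' hξW e1)
      (primeIdealOf_le_of_specializes' hW x x' hx hx' e2)
      (by
        change Ideal.comap (f.appLE V₀ W hWV).hom _ = Ideal.comap (f.appLE V₀ W hWV).hom _
        rw [← primeIdealOf_comap' f hW hV₀ hWV x' hx', ← primeIdealOf_comap' f hW hV₀ hWV x hx]
        congr 3)
    exact eq_of_primeIdealOf_eq hW x' x hx' hx h4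
  refine ⟨r, ?_, ?_, ?_⟩
  · by_contra hcon
    apply hr
    rw [hp₀]
    exact (mem_primeIdealOf_iff' hV₀ (f ξ) (hWV hξW) r).mpr hcon
  · intro x hxW hξx hfx hmin
    rw [mem_relAss_iff_relAssAt f F hW hV₀ hWV x hxW]
    refine hA _ inferInstance (primeIdealOf_le_of_specializes' hW x ξ hxW hξW hξx) ?_
      (hminT x hxW hmin)
    change (f.appLE V₀ W hWV).hom r ∉ _
    rw [mem_primeIdealOf_iff', not_not, Scheme.basicOpen_appLE f W V₀ hWV r]
    exact ⟨hxW, hfx⟩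
  · intro y hyV hξy hyr
    have h1 : q₀.comap (algebraMap Γ(S, V₀) Γ(X, W)) ≤ (hV₀.primeIdealOf ⟨y, hyV⟩).asIdeal := by
      rw [hp₀]
      exact primeIdealOf_le_of_specializes' hV₀ y (f ξ) hyV (hWV hξW) hξy
    have h2 : r ∉ (hV₀.primeIdealOf ⟨y, hyV⟩).asIdeal := by
      rw [mem_primeIdealOf_iff', not_not]
      exact hyr
    obtain ⟨q', hq', hle', hc'⟩ := hB (hV₀.primeIdealOf ⟨y, hyV⟩).asIdeal inferInstance h1 h2
    obtain ⟨q, hq, hle, hqq', hc, hmin⟩ :=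
      exists_minimal_over (R := Γ(S, V₀)) q₀ q' hle'
    obtain ⟨x, hx, hqx⟩ := hpt q hq
    refine ⟨x, hx, specializes_of_primeIdealOf_le' hW hx hξW (by rw [hqx]; exact hle), ?_, ?_⟩
    · apply eq_of_primeIdealOf_eq hV₀ (f x) y (hWV hx) hyV
      rw [primeIdealOf_comap' f hW hV₀ hWV x hx, hqx]
      exact hc.trans hc'
    · apply hminT' x hx
      rw [hqx]
      exact hmin

end Spread

end Groth.Agent.H3.RelGen
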