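import Mathlib
import Groth.Prelude.Def_FDesc
import Groth.Prelude.Def_MoreMor
import Groth.Agent.Lib.Helper3.RelGenK

/-!
# Spreading out relative associated points: the statements S1369 and S1446 (helper3)
-/

set_option autoImplicit false
universe u
open CategoryTheory CategoryTheory.Limits AlgebraicGeometry IsLocalRing TensorProduct
  TopologicalSpace

namespace Groth.Agent.H3.RelGen

/-- **S1369** -/
theorem main_meet {X Y : Scheme.{u}} (f : X ⟶ Y) [IrreducibleSpace ↑Y] [LocallyOfFiniteType f]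
    (F : X.Modules) (hF : Coh.IsCoh F) (U : X.Opens)
    (h : ∃ x ∈ MoreMor.relAss f F, f x = genericPoint ↑Y ∧ x ∉ U) :
    ∃ V : Y.Opens, (V : Set ↑Y).Nonempty ∧
      ∀ y ∈ V, ∃ x ∈ MoreMor.relAss f F, f x = y ∧ x ∉ U := by
  haveI : F.IsQuasicoherent := hF.1
  have hFT : F.IsFiniteType := hF.2
  obtain ⟨x₀, hx₀, hfx₀, hx₀U⟩ := h
  obtain ⟨V₀, hV₀, hη, -⟩ := exists_isAffineOpen_mem_and_subset (x := f x₀) (U := ⊤) trivial
  obtain ⟨W, hW, hx₀W, hWV⟩ :=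
    exists_isAffineOpen_mem_and_subset (x := x₀) (U := f ⁻¹ᵁ V₀) hη
  obtain ⟨r, hr, hA, hB⟩ := chart_spread f F hFT hW hV₀ hWV x₀ hx₀W hx₀
  refine ⟨Y.basicOpen r, ⟨f x₀, hr⟩, ?_⟩
  intro y hy
  have hyV : y ∈ V₀ := Y.basicOpen_le r hy
  obtain ⟨x, hxW, hx₀x, hfx, hmin⟩ := hB y hyV (hfx₀ ▸ genericPoint_specializes y) hy
  exact ⟨x, hA x hxW hx₀x (hfx ▸ hy) hmin, hfx,
    fun hxU => hx₀U (hx₀x.mem_open U.isOpen hxU)⟩

/-- **S1446** -/
theorem main_generic {X S : Scheme.{u}} (f : X ⟶ S) [LocallyOfFiniteType f]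
    (F : X.Modules) (hF : Coh.IsCoh F) (ξ : X) (hξ : ξ ∈ MoreMor.relAss f F) :
    ∃ V : Set ↑X, V ⊆ closure {ξ} ∧
      IsOpen (Subtype.val ⁻¹' V : Set ↑(closure ({ξ} : Set ↑X))) ∧ V.Nonempty ∧
      ∀ (x : X) (hx : x ∈ V),
        (∃ C ∈ irreducibleComponents ↑(V ∩ f ⁻¹' {f x}),
          IsGenericPoint (⟨x, hx, rfl⟩ : ↑(V ∩ f ⁻¹' {f x})) C) →
        x ∈ MoreMor.relAss f F := by
  haveI : F.IsQuasicoherent := hF.1
  have hFT : F.IsFiniteType := hF.2
  obtain ⟨V₀, hV₀, hη, -⟩ := exists_isAffineOpen_mem_and_subset (x := f ξ) (U := ⊤) trivial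
  obtain ⟨W, hW, hξW, hWV⟩ := exists_isAffineOpen_mem_and_subset (x := ξ) (U := f ⁻¹ᵁ V₀) hη
  obtain ⟨r, hr, hA, -⟩ := chart_spread f F hFT hW hV₀ hWV ξ hξW hξ
  let O : X.Opens := W ⊓ f ⁻¹ᵁ (S.basicOpen r)
  refine ⟨closure {ξ} ∩ (O : Set X), Set.inter_subset_left, ?_,
    ⟨ξ, subset_closure rfl, hξW, hr⟩, ?_⟩
  · have hpre : (Subtype.val ⁻¹' (closure {ξ} ∩ (O : Set X)) : Set ↑(closure ({ξ} : Set ↑X))) =
        Subtype.val ⁻¹' (O : Set X) := by
      ext z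
      simp only [Set.mem_preimage, Set.mem_inter_iff, and_iff_right_iff_imp]
      exact fun _ => z.2
    rw [hpre]
    exact O.isOpen.preimage continuous_subtype_val
  · intro x hx hgen
    obtain ⟨C, hC, hgenC⟩ := hgen
    have hξx : ξ ⤳ x := specializes_iff_mem_closure.mpr hx.1
    refine hA x hx.2.1 hξx hx.2.2 ?_
    intro x' e1 e2 e3
    have hx'V : x' ∈ closure {ξ} ∩ (O : Set X) :=
      ⟨specializes_iff_mem_closure.mp e1, e2.mem_open W.isOpen hx.2.1, by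
        show f x' ∈ S.basicOpen r
        rw [e3]
        exact hx.2.2⟩
    let xT : ↑((closure {ξ} ∩ (O : Set X)) ∩ f ⁻¹' {f x}) := ⟨x, hx, rfl⟩
    let x'T : ↑((closure {ξ} ∩ (O : Set X)) ∩ f ⁻¹' {f x}) := ⟨x', hx'V, e3⟩
    have hsp : x'T ⤳ xT := (subtype_specializes_iff x'T xT).mpr e2
    have hCx : closure {xT} = C := hgenC
    have hirr : IsIrreducible (closure ({x'T} : Set _)) := isIrreducible_singleton.closure
    have hle : C ≤ closure {x'T} := by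
      rw [← hCx]
      exact closure_minimal (Set.singleton_subset_iff.mpr hsp.mem_closure) isClosed_closure
    have hmax : closure {x'T} ≤ C := hC.2 hirr hle
    have hsp' : xT ⤳ x'T := by
      rw [specializes_iff_mem_closure, hCx]
      exact hmax (subset_closure rfl)
    have hEq : xT = x'T := (hsp'.antisymm hsp).eq
    exact (congrArg Subtype.val hEq).symm

end Groth.Agent.H3.RelGen
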