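import Groth.Agent.Lib.Helper3.RelAssB
import Groth.Agent.Lib.Helper3.ArtFlat.Fam2
import Groth.Agent.S1368
import Groth.Agent.S1369
import Groth.Agent.Lib.Helper3.ConsP.ModLocus
import Groth.Agent.Lib.Helper3.ConsP.ApproxPair
import Mathlib

/-!
# Local constructibility of the locus where the relative assassin of a fibre lies in an open
(helper3, S1370)
-/

set_option autoImplicit false
set_option linter.style.haveILetI false
universe u
open CategoryTheory CategoryTheory.Limits AlgebraicGeometry IsLocalRing Topology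

namespace Groth.Agent.H3.RelAssC

open Groth.Agent.LD Groth.Agent.LD.QC Groth.Agent.H1.SchFlat Groth.Agent.H3.ArtFlat
  Groth.Agent.H3.ConsP Groth.Agent.H5.Lim Groth.Agent.H3.ModDesc

section Iso

variable {X S : Scheme.{u}} (f : X ⟶ S)

theorem relAss_subset_of_iso {M N : X.Modules} (e : M ≅ N) :
    MoreMor.relAss f M ⊆ MoreMor.relAss f N := by
  intro x hx
  let φ : M.presheaf.stalk x ≃ₗ[X.presheaf.stalk x] N.presheaf.stalk x :=
    { toFun := stalkFun e.hom x
      map_add' := stalkFun_add e.hom x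
      map_smul' := fun r m => stalkFun_smul e.hom x r m
      invFun := stalkFun e.inv x
      left_inv := fun m => by
        rw [stalkFun_comp_apply, e.hom_inv_id, stalkFun_id_apply]
      right_inv := fun m => by
        rw [stalkFun_comp_apply, e.inv_hom_id, stalkFun_id_apply] }
  have hφ : ((Ideal.map (f.stalkMap x).hom (maximalIdeal (S.presheaf.stalk (f x)))) •
      (⊤ : Submodule (X.presheaf.stalk x) (M.presheaf.stalk x))).map φ.toLinearMap =
      (Ideal.map (f.stalkMap x).hom (maximalIdeal (S.presheaf.stalk (f x)))) •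
      (⊤ : Submodule (X.presheaf.stalk x) (N.presheaf.stalk x)) := by
    rw [Submodule.map_smul'', Submodule.map_top, LinearMap.range_eq_top.mpr φ.surjective]
  exact (LinearEquiv.isAssociatedPrime_iff (Submodule.Quotient.equiv _ _ φ hφ)).mp hx

theorem relAss_eq_of_iso {M N : X.Modules} (e : M ≅ N) :
    MoreMor.relAss f M = MoreMor.relAss f N :=
  Set.Subset.antisymm (relAss_subset_of_iso f e) (relAss_subset_of_iso f e.symm)

end Iso

/-- the set of points `y` such that the associated points of `F` on the fibre over `y` lie in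
`U`. -/
def locus {X Y : Scheme.{u}} (f : X ⟶ Y) (F : X.Modules) (U : X.Opens) : Set Y :=
  {y | ∀ x ∈ MoreMor.relAss f F, f x = y → x ∈ U}

section BC

variable {X S X' S' : Scheme.{u}} {f : X ⟶ S} {g : S' ⟶ S} {f' : X' ⟶ S'} {g' : X' ⟶ X}

theorem locus_preimage [LocallyOfFiniteType f] (hc : IsPullback g' f' f g) (F : X.Modules)
    [F.IsQuasicoherent] (U : X.Opens) (F' : X'.Modules)
    (e : F' ≅ (Scheme.Modules.pullback g').obj F) (U' : X'.Opens) (hU' : U' = g' ⁻¹ᵁ U) :
    locus f' F' U' = g ⁻¹' locus f F U := by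
  subst hU'
  ext s'
  have key := Groth.Agent.H3.TenAss.relAss_fibre_subset_open_iff_baseChange f F g f' g' hc U s'
  change (∀ x ∈ MoreMor.relAss f' F', f' x = s' → x ∈ g' ⁻¹ᵁ U) ↔
    (∀ x ∈ MoreMor.relAss f F, f x = g s' → x ∈ U)
  rw [relAss_eq_of_iso f' e]
  constructor
  · intro H x hx hxs
    exact key.mpr (fun x' hx' => H x' hx'.1 hx'.2) ⟨hx, hxs⟩
  · intro H x' hx' hxs'
    exact key.mp (fun x hx => H x hx.1 hx.2) ⟨hx', hxs'⟩

end BC

section Generic

variable {X Y : Scheme.{u}} (f : X ⟶ Y) [IrreducibleSpace ↑Y] [LocallyOfFiniteType f]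
  [QuasiCompact f] (F : X.Modules) (hF : Coh.IsCoh F) (U : X.Opens)

include hF in
theorem dichotomy_locus :
    (interior (locus f F U)).Nonempty ∨ (interior (locus f F U)ᶜ).Nonempty := by
  by_cases h : ∀ x ∈ MoreMor.relAss f F, f x = genericPoint ↑Y → x ∈ U
  · obtain ⟨V, hVne, hV⟩ := Groth.Agent.S1368.result f F hF U h
    obtain ⟨y, hy⟩ := hVne
    exact Or.inl ⟨y, mem_interior.mpr ⟨V, fun z hz x hx hxz => hV x hx (hxz ▸ hz), V.2, hy⟩⟩
  · push Not at h
    obtain ⟨V, hVne, hV⟩ := Groth.Agent.S1369.result f F hF U h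
    obtain ⟨y, hy⟩ := hVne
    refine Or.inr ⟨y, mem_interior.mpr ⟨V, fun z hz hzE => ?_, V.2, hy⟩⟩
    obtain ⟨x, hx, hxz, hxU⟩ := hV z hz
    exact hxU (hzE x hx hxz)

end Generic

section Noeth

variable {X Y : Scheme.{u}} [IsNoetherian Y] (f : X ⟶ Y) [LocallyOfFiniteType f] [QuasiCompact f]
  (F : X.Modules) (hF : F.IsFinitePresentation) (U : X.Opens)

include hF in
theorem isConstructible_locus : IsConstructible (locus f F U) := by
  have hq : F.IsQuasicoherent := inferInstance
  apply isConstructible_of_dichotomy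
  intro Z' i hi hint hnoe
  have hc : IsPullback (pullback.fst f i) (pullback.snd f i) f i := IsPullback.of_hasPullback _ _
  rw [← locus_preimage hc F U ((Scheme.Modules.pullback (pullback.fst f i)).obj F) (Iso.refl _)
    (pullback.fst f i ⁻¹ᵁ U) rfl]
  haveI : LocallyOfFiniteType (pullback.snd f i) :=
    MorphismProperty.pullback_snd (P := @LocallyOfFiniteType) _ _ inferInstance
  haveI : QuasiCompact (pullback.snd f i) :=
    MorphismProperty.pullback_snd (P := @QuasiCompact) _ _ inferInstance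
  exact dichotomy_locus _ _ (isCoh_pullback _ F hF) _

end Noeth

section Model

variable {I : Type u} [SmallCategory I] [IsCofiltered I] (D : I ⥤ Scheme.{u}) (c : Cone D)
  (hc : IsLimit c) [∀ (i j : I) (f : i ⟶ j), IsAffineHom (D.map f)]

include hc in
/-- descent of a quasi-compact open of a scheme of finite presentation over a limit to a stage of
a model. -/
theorem exists_stage_model_open {X : Scheme.{u}} {h : X ⟶ c.pt} {j : I} (M : Model D c h j)
    (U : X.Opens) (hU : IsCompact (U : Set X)) :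
    ∃ (k : I) (φ : k ⟶ j) (V : (M.bc φ).Y.Opens), (M.bc φ).g ⁻¹ᵁ V = U := by
  let ε : X ≅ pullback M.p (c.π.app j) := M.pb.isoPullback
  have hε1 : ε.hom ≫ pullback.fst M.p (c.π.app j) = M.g := M.pb.isoPullback_hom_fst
  have hε2 : ε.hom ≫ pullback.snd M.p (c.π.app j) = h := M.pb.isoPullback_hom_snd
  let U' : (bcCone D c M.p).pt.Opens := ε.inv ⁻¹ᵁ U
  have hU' : IsCompact (U' : Set (bcCone D c M.p).pt) := by
    have : (U' : Set (bcCone D c M.p).pt) = ε.hom '' (U : Set X) := by
      ext z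
      constructor
      · intro hz
        refine ⟨ε.inv z, hz, ?_⟩
        rw [← Scheme.Hom.comp_apply, ε.inv_hom_id]
        rfl
      · rintro ⟨x, hx, rfl⟩
        change ε.inv (ε.hom x) ∈ U
        rw [← Scheme.Hom.comp_apply, ε.hom_inv_id]
        exact hx
    rw [this]
    exact hU.image ε.hom.continuous
  have : ∀ (k l : Over j) (f : k ⟶ l), IsAffineHom ((bcDiagram D M.p).map f) :=
    fun k l f => isAffineHom_bcMap D M.p f inferInstance
  obtain ⟨k', V, -, hVU⟩ := exists_over_preimage_eq (bcDiagram D M.p) (bcCone D c M.p)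
    (isLimitBcCone D c M.p hc) (Over.mk (𝟙 j)) U' hU'
  refine ⟨k'.left.left, k'.left.hom, V, ?_⟩
  have hg : ε.hom ≫ bcProj D c M.p k'.left = (M.bc k'.left.hom).g := by
    apply pullback.hom_ext
    · rw [Category.assoc, bcProj_fst, hε1]
      exact (pullback.lift_fst _ _ _).symm
    · rw [Category.assoc, bcProj_snd, reassoc_of% hε2]
      exact (pullback.lift_snd _ _ _).symm
  have hVU' : bcProj D c M.p k'.left ⁻¹ᵁ V = U' := hVU
  rw [← hg, Scheme.Hom.comp_preimage, hVU']
  change ε.hom ⁻¹ᵁ (ε.inv ⁻¹ᵁ U) = U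
  rw [← Scheme.Hom.comp_preimage, ε.hom_inv_id]
  rfl

end Model

section ModelModOpen

variable {X : Scheme.{u}} (A : Type u) [CommRing A]
  (u : X ⟶ Spec (CommRingCat.of A))
  [LocallyOfFinitePresentation u] [QuasiCompact u] [QuasiSeparated u]

/-- Noetherian model of a scheme of finite presentation over `Spec A` together with a finitely
presented module and a quasi-compact open. -/
theorem exists_noeth_model_mod_open (F : X.Modules) (hF : F.IsFinitePresentation)
    (U : X.Opens) (hU : IsCompact (U : Set X)) :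
    ∃ (S₀ : Scheme.{u}) (π : Spec (CommRingCat.of A) ⟶ S₀) (X₀ : Scheme.{u})
      (u₀ : X₀ ⟶ S₀) (a : X ⟶ X₀) (F₀ : X₀.Modules) (U₀ : X₀.Opens),
      IsNoetherian S₀ ∧ LocallyOfFinitePresentation u₀ ∧ QuasiCompact u₀ ∧
        IsPullback a u u₀ π ∧ F₀.IsFinitePresentation ∧
        Nonempty (F ≅ (Scheme.Modules.pullback a).obj F₀) ∧ U = a ⁻¹ᵁ U₀ := by
  let u' : X ⟶ (fgzCone A).pt := u
  haveI : LocallyOfFinitePresentation u' := ‹LocallyOfFinitePresentation u›
  haveI : QuasiCompact u' := ‹QuasiCompact u›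
  haveI : QuasiSeparated u' := ‹QuasiSeparated u›
  obtain ⟨j₁, ⟨M₁⟩⟩ := exists_model (fgzDiagram A) (fgzCone A) (isLimitFgzCone A) u'
  obtain ⟨k, φ, F₁, hF₁, ⟨e⟩⟩ :=
    exists_stage_model_module (fgzDiagram A) (fgzCone A) (isLimitFgzCone A) M₁ hF
  obtain ⟨k₂, φ₂, V, hV⟩ :=
    exists_stage_model_open (fgzDiagram A) (fgzCone A) (isLimitFgzCone A) (M₁.bc φ) U hU
  let N := (M₁.bc φ).bc φ₂
  let t : N.Y ⟶ (M₁.bc φ).Y := (M₁.bc φ).bcFst φ₂
  have ht : N.g ≫ t = (M₁.bc φ).g := Model.bc_g_bcFst _ _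
  exact ⟨(fgzDiagram A).obj k₂, (fgzCone A).π.app k₂, N.Y, N.p, N.g,
    (Scheme.Modules.pullback t).obj F₁, V,
    inferInstance, N.lfp, N.qc, N.pb, QC.isFinitePresentation_pullback t F₁ hF₁,
    ⟨e ≪≫ (pullbackCompIso' N.g t _ ht F₁).symm⟩, hV.symm⟩

end ModelModOpen

section Local

variable {X Y : Scheme.{u}} (f : X ⟶ Y)
  [LocallyOfFinitePresentation f] [QuasiCompact f] [QuasiSeparated f]
  (F : X.Modules) (hF : F.IsFinitePresentation) (U : X.Opens)

include hF

theorem exists_noeth_model_mod_open_of_isAffine [IsAffine Y] (hU : IsCompact (U : Set X)) :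
    ∃ (S₀ : Scheme.{u}) (π : Y ⟶ S₀) (X₀ : Scheme.{u})
      (u₀ : X₀ ⟶ S₀) (a : X ⟶ X₀) (F₀ : X₀.Modules) (U₀ : X₀.Opens),
      IsNoetherian S₀ ∧ LocallyOfFinitePresentation u₀ ∧ QuasiCompact u₀ ∧
        IsPullback a f u₀ π ∧ F₀.IsFinitePresentation ∧
        Nonempty (F ≅ (Scheme.Modules.pullback a).obj F₀) ∧ U = a ⁻¹ᵁ U₀ := by
  let A : Type u := Γ(Y, ⊤)
  let e : Y ≅ Spec (CommRingCat.of A) := Y.isoSpec
  obtain ⟨S₀, π, X₀, u₀, a, F₀, U₀, h1, h3, h4, h7, h8, h9, h10⟩ :=
    exists_noeth_model_mod_open A (f ≫ e.hom) F hF U hU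
  refine ⟨S₀, e.hom ≫ π, X₀, u₀, a, F₀, U₀, h1, h3, h4, ?_, h8, h9, h10⟩
  have := (IsPullback.of_horiz_isIso (fst := 𝟙 X) (snd := f) (f := f ≫ e.hom) (g := e.hom)
    ⟨by simp⟩).paste_horiz h7
  simpa using this

theorem isConstructible_locus_of_isAffine [IsAffine Y] (hU : IsCompact (U : Set X)) :
    IsConstructible (locus f F U) := by
  obtain ⟨S₀, π, X₀, u₀, a, F₀, U₀, h1, h3, h4, h7, h8, ⟨h9⟩, h10⟩ :=
    exists_noeth_model_mod_open_of_isAffine f F hF U hU
  haveI : F₀.IsQuasicoherent := by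
    haveI := h8
    infer_instance
  rw [locus_preimage h7 F₀ U₀ F h9 U h10]
  exact π.isConstructible_preimage (isConstructible_locus u₀ F₀ h8 U₀)

/-- **S1370**: the set of points whose fibre has all its associated points (for `F`) in `U` is
locally constructible. -/
theorem isLocallyConstructible_locus [QuasiCompact (U.ι ≫ f)] :
    IsLocallyConstructible (locus f F U) := by
  have hq : F.IsQuasicoherent := inferInstance
  refine IsLocallyConstructible.of_isOpenCover (U := fun V : Y.affineOpens => V.1)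
    (iSup_affineOpens_eq_top Y) fun V => ?_
  haveI : IsAffine ↑V.1 := V.2
  have hc : IsPullback (pullback.fst f V.1.ι) (pullback.snd f V.1.ι) f V.1.ι :=
    IsPullback.of_hasPullback _ _
  have hrange : Set.range (pullback.fst f V.1.ι) = f ⁻¹' (V.1 : Set Y) := by
    rw [Scheme.Pullback.range_fst, Scheme.Opens.range_ι]
  have hK : IsCompact ((U : Set X) ∩ f ⁻¹' (V.1 : Set Y)) := by
    have h1 : IsCompact ((U.ι ≫ f) ⁻¹' (V.1 : Set Y)) :=
      QuasiCompact.isCompact_preimage (f := U.ι ≫ f) _ V.1.2 V.2.isCompact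
    have h2 := h1.image U.ι.continuous
    convert h2 using 1
    ext x
    constructor
    · rintro ⟨hxU, hxV⟩
      exact ⟨⟨x, hxU⟩, hxV, rfl⟩
    · rintro ⟨z, hz, rfl⟩
      exact ⟨z.2, hz⟩
  have hcomp : IsCompact ((pullback.fst f V.1.ι ⁻¹ᵁ U : (pullback f V.1.ι).Opens) :
      Set ↥(pullback f V.1.ι)) := by
    have e : ((pullback.fst f V.1.ι ⁻¹ᵁ U : (pullback f V.1.ι).Opens) :
        Set ↥(pullback f V.1.ι)) =
        (pullback.fst f V.1.ι) ⁻¹' ((U : Set X) ∩ f ⁻¹' (V.1 : Set Y)) := by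
      ext z
      constructor
      · intro hz
        refine ⟨hz, ?_⟩
        have : pullback.fst f V.1.ι z ∈ Set.range (pullback.fst f V.1.ι) := ⟨z, rfl⟩
        rw [hrange] at this
        exact this
      · intro hz
        exact hz.1
    rw [e]
    refine ((pullback.fst f V.1.ι).isOpenEmbedding.isInducing.isCompact_preimage_iff ?_).mpr hK
    rw [hrange]
    exact Set.inter_subset_right
  haveI : LocallyOfFinitePresentation (pullback.snd f V.1.ι) :=
    MorphismProperty.pullback_snd (P := @LocallyOfFinitePresentation) _ _ inferInstance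
  haveI : QuasiCompact (pullback.snd f V.1.ι) :=
    MorphismProperty.pullback_snd (P := @QuasiCompact) _ _ inferInstance
  haveI : QuasiSeparated (pullback.snd f V.1.ι) :=
    MorphismProperty.pullback_snd (P := @QuasiSeparated) _ _ inferInstance
  have key := isConstructible_locus_of_isAffine (pullback.snd f V.1.ι)
    ((Scheme.Modules.pullback (pullback.fst f V.1.ι)).obj F)
    (QC.isFinitePresentation_pullback _ F hF) (pullback.fst f V.1.ι ⁻¹ᵁ U) hcomp
  rw [locus_preimage hc F U _ (Iso.refl _) _ rfl] at key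
  exact key.isLocallyConstructible

end Local

end Groth.Agent.H3.RelAssC
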