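import Mathlib
import Groth.Agent.Lib.Helper3.AlgSt.NoethQC
import Groth.Agent.Lib.Helper3.AlgSt.LocEssSurj
import Groth.Agent.Lib.Helper3.AlgSt.PropFacts
import Groth.Agent.Lib.Helper3.AlgSt.LocQ3
import Groth.Agent.Lib.Helper3.AlgSt.DiagCharts
import Groth.Agent.Lib.Helper3.AlgSt.DiagLft
import Groth.Agent.Lib.Helper3.AlgSt.Points.Surj
import Groth.Agent.Lib.Helper3.AlgSpCov.Source
import Groth.Agent.Lib.Helper8.AlgSp.OverField

/-!
# Morphisms from spectra of fields into a stack flatly covered by the spectrum of a field (helper3)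

If `Spec k ⟶ 𝒵` is surjective and flat, then every `Spec k' ⟶ 𝒵` is surjective and flat.
-/

set_option autoImplicit false
universe u
open CategoryTheory CategoryTheory.Functor CategoryTheory.Limits Opposite AlgebraicGeometry

noncomputable section

namespace Groth.Agent.H3.FlatField

open Groth.Agent.H3.FibCatAux Groth.Agent.H3.GerbAux Groth.Agent.H3.FpCalc Groth.Agent.H3.TwoCart
  Groth.Agent.H3.StackPsh Groth.Agent.H3.PshBridge Groth.Agent.H3.AlgStAux Groth.Agent.H3.RepBridge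
  Groth.Agent.H3.Whisker Groth.Agent.H3.FPtRel Groth.Agent.H3.AlgStPoints
  Groth.Agent.H3.AlgStBridge2 Groth.Agent.H3.AlgStCharts Groth.Agent.H3.BaseChangeSp
  Groth.Agent.H3.AlgStComp Groth.Agent.H3.AlgStProps Groth.Agent.H3.AlgStDescent
  Groth.Agent.H3.AlgStLES Groth.Agent.H3.AlgStLocQ Groth.Agent.H3.AlgStDiag
open AlgSp

variable {S : Scheme.{u}}

/-- sheaf level: flatness descends along a flat surjective morphism of the source -/
theorem locP_flat_of_comp_surj {A B C : Sp S} (hA : IsAlgSpace A) (hB : IsAlgSpace B)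
    (α : A ⟶ B) (hα : LocP @Flat α) (hαs : IsSurjectiveMor α) (q : B ⟶ C)
    (h : LocP @Flat (α ≫ q)) : LocP @Flat q :=
  Groth.Agent.H3.AlgSpCov.locP_of_source_family (P := @Flat) (𝒟 := @Flat)
    Groth.Agent.H5.AlgSp.etale_le_flat
    (fun h _ Uk d hd hs hc => Groth.Agent.H3.AlgSpCov.flat_of_flat_family h Uk d hd hs hc) hB
    (fun _ : PUnit.{u + 1} => A) (fun _ => hA) (fun _ => α) (fun _ => hα)
    (fun x => ⟨PUnit.unit, hαs x⟩) q (fun _ => h)

variable {𝒜 ℬ 𝒞 : AlgSt.Cat S}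

/-- stack level: if `a` is flat and surjective, `b` is representable by algebraic spaces and
`a ≫ b` is flat, then `b` is flat -/
theorem rep_flat_of_comp (h𝒜 : FibCat.IsFibGrpd 𝒜.p) (hℬ : FibCat.IsFibGrpd ℬ.p)
    (a : 𝒜 ⥤ᵇ ℬ) (b : ℬ ⥤ᵇ 𝒞)
    (ha₁ : AlgSt.RepByAlgSpWith (LocP @Flat) a) (ha₂ : AlgSt.RepByAlgSpWith IsSurjectiveMor a)
    (hb : AlgSt.RepByAlgSp1 b) (hab : AlgSt.RepByAlgSpWith (LocP @Flat) (BasedFunctor.comp a b)) :
    AlgSt.RepByAlgSpWith (LocP @Flat) b := by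
  intro U y
  obtain ⟨B, eB, heB⟩ := hb U y
  refine ⟨B, eB, heB, ?_⟩
  have hg2 : Good (fun _ _ f => LocP (S := S) @Flat f ∧ IsSurjectiveMor f) :=
    good_flat.and good_isSurjectiveMor
  have ha : AlgSt.RepByAlgSpWith (fun _ _ f => LocP (S := S) @Flat f ∧ IsSurjectiveMor f) a := by
    rw [repByAlgSpWith_iff_forall _ hg2.bc hg2.toC.charts]
    refine ⟨repByAlgSp1_of_repByAlgSpWith ha₁, fun V v F e he => ⟨?_, ?_⟩⟩
    · exact ((repByAlgSpWith_iff_forall _ good_flat.bc good_flat.toC.charts a).1 ha₁).2 V v F e he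
    · exact ((repByAlgSpWith_iff_forall _ good_isSurjectiveMor.bc
        good_isSurjectiveMor.toC.charts a).1 ha₂).2 V v F e he
  obtain ⟨A, α, eA, heA, ⟨ι⟩, hα₁, hα₂⟩ := exists_space_of_fp' _ hg2.bc hg2.toC.charts h𝒜 hℬ a ha B
    (BasedFunctor.comp eB (FibCat.fpSnd y b))
  have : (BasedFunctor.id ℬ).toFunctor.Full := Functor.Full.id
  have : (BasedFunctor.id ℬ).toFunctor.Faithful := Functor.Faithful.id
  let M := fpMap (F' := BasedFunctor.comp eB (FibCat.fpSnd y b)) (G' := a)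
    (F := FibCat.fpSnd y b) (G := a) eB (BasedFunctor.id 𝒜) (BasedFunctor.id ℬ)
    (Iso.refl _) (idSq a)
  have hM : FibCat.IsEquivOver M := isEquivOver_fpMap _ _ _ _ _ heB isEquivOver_id
  obtain ⟨E, hEdef⟩ : ∃ E : AlgSt.ofSp A.obj ⥤ᵇ FibCat.fp y (BasedFunctor.comp a b),
      E = BasedFunctor.comp eA (BasedFunctor.comp M (pasteR y b a)) := ⟨_, rfl⟩
  have hE : FibCat.IsEquivOver E := by
    rw [hEdef]
    exact isEquivOver_comp _ _ heA (isEquivOver_comp _ _ hM (isEquivOver_pasteR y b a))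
  have h1 := ((repByAlgSpWith_iff_forall _ good_flat.bc good_flat.toC.charts
    (BasedFunctor.comp a b)).1 hab).2 U y A E hE
  have hEq : BasedFunctor.comp E (FibCat.fpFst y (BasedFunctor.comp a b)) =
      BasedFunctor.comp (BasedFunctor.comp eA (FibCat.fpFst _ a))
        (BasedFunctor.comp eB (FibCat.fpFst y b)) := by
    rw [hEdef]
    apply basedFunctor_ext
    rfl
  have key : AlgSt.spMapOfOver (BasedFunctor.comp E (FibCat.fpFst y (BasedFunctor.comp a b))) =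
      α.hom ≫ AlgSt.spMapOfOver (BasedFunctor.comp eB (FibCat.fpFst y b)) := by
    rw [hEq, ← spMapOfOver_ofSpMap_comp]
    exact spMapOfOver_congr (whiskerR ι _)
  rw [key] at h1
  exact locP_flat_of_comp_surj A.property B.property α.hom hα₁ hα₂ _ h1

/-- **Main theorem** (S16804) -/
theorem main {𝒵 : AlgSt.Cat S} (h𝒵 : AlgSt.IsAlgStack Scheme.fppfPrecoverage 𝒵)
    (k : Type u) [Field k] (a : Spec (CommRingCat.of k) ⟶ S)
    (z : FibCat.overCat (Over.mk a) ⥤ᵇ 𝒵)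
    (hzs : AlgSt.RepByAlgSpWith AlgSp.IsSurjectiveMor z)
    (hzf : AlgSt.RepByAlgSpWith (AlgSp.LocP @Flat) z)
    (k' : Type u) [Field k'] (a' : Spec (CommRingCat.of k') ⟶ S)
    (z' : FibCat.overCat (Over.mk a') ⥤ᵇ 𝒵) :
    AlgSt.RepByAlgSpWith AlgSp.IsSurjectiveMor z' ∧
      AlgSt.RepByAlgSpWith (AlgSp.LocP @Flat) z' := by
  have g𝒵 := h𝒵.isStack.1
  have gk := isFibGrpd_overCat (Over.mk a)
  have gk' := isFibGrpd_overCat (Over.mk a')
  have hz'1 : AlgSt.RepByAlgSp1 z' := fun U y =>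
    repByAlgSp_fp_of_diag g𝒵 h𝒵.diag y z' (AlgStDiagLft.repByAlgSp_overCat U)
      (AlgStDiagLft.repByAlgSp_overCat _)
  have hsk : Subsingleton ↥(Over.mk a).left :=
    inferInstanceAs (Subsingleton (PrimeSpectrum k))
  have hik : IsIntegral (Over.mk a).left :=
    inferInstanceAs (IsIntegral (Spec (CommRingCat.of k)))
  have hsub : Subsingleton (AlgSt.Points 𝒵) := by
    constructor
    intro p q
    obtain ⟨p', rfl⟩ := isSurjective_of_rep g𝒵 z hzs p
    obtain ⟨q', rfl⟩ := isSurjective_of_rep g𝒵 z hzs q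
    have : Subsingleton (AlgSt.Points (FibCat.overCat (Over.mk a))) :=
      (chartPtEquiv (Over.mk a)).symm.subsingleton
    rw [Subsingleton.elim p' q']
  have hsurj : AlgSt.IsSurjective z' := by
    intro p
    have hne : Nonempty ↥(Over.mk a').left := inferInstanceAs (Nonempty (PrimeSpectrum k'))
    obtain ⟨t⟩ := hne
    exact ⟨chartPt (Over.mk a') t, Subsingleton.elim _ _⟩
  refine ⟨rep_of_isSurjective gk' g𝒵 z' hz'1 hsurj, ?_⟩
  have gT := X6401 z' z gk' gk g𝒵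
  have ha₁ : AlgSt.RepByAlgSpWith (LocP @Flat) (FibCat.fpFst z' z) :=
    repByAlgSpWith_fpFst _ z z' hzf
  have ha₂ : AlgSt.RepByAlgSpWith IsSurjectiveMor (FibCat.fpFst z' z) :=
    repByAlgSpWith_fpFst _ z z' hzs
  have hsnd : AlgSt.RepByAlgSpWith (LocP @Flat) (FibCat.fpSnd z' z) := by
    obtain ⟨T, eT, heT⟩ := repByAlgSp_fp_of_diag g𝒵 h𝒵.diag z' z
      (AlgStDiagLft.repByAlgSp_overCat _) (AlgStDiagLft.repByAlgSp_overCat _)
    rw [← repByAlgSpWith_comp_equiv_iff _ eT heT,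
      repByAlgSpWith_iff_spMapOfOver _ good_flat.bc good_flat.toC.charts T]
    exact Groth.Agent.H8.AlgSp.locP_flat_of_field _
  have hab : AlgSt.RepByAlgSpWith (LocP @Flat) (BasedFunctor.comp (FibCat.fpFst z' z) z') :=
    repByAlgSpWith_of_iso _ (FibCat.fpIso z' z).symm
      (good_flat.toC.repComp gT gk _ _ hsnd hzf)
  exact rep_flat_of_comp gT gk' (FibCat.fpFst z' z) z' ha₁ ha₂ hz'1 hab

end Groth.Agent.H3.FlatField
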