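import Mathlib
import Groth.Agent.Lib.Helper3.FlatField
import Groth.Agent.Lib.Helper3.AlgSt.Points.QuasiCompact
import Groth.Agent.Lib.Helper3.AlgSt.Points.FpChart
import Groth.Agent.Lib.Helper3.AlgSt.Points.Topology
import Groth.Agent.Lib.Helper1.SmoothGeom
import Groth.Agent.Lib.Helper5.Lim.ReducedLimit

/-!
# Reduced one-point stacks and flat covers by spectra of fields (helper3)

For an algebraic stack `𝒵`: reduced with exactly one point ⇔ receives a surjective flat morphism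
from the spectrum of a field ⇔ receives a locally of finite type, surjective, flat morphism from the
spectrum of a field.
-/

set_option autoImplicit false
universe u
open CategoryTheory CategoryTheory.Functor CategoryTheory.Limits Opposite AlgebraicGeometry

noncomputable section

namespace Groth.Agent.H3.FieldCover

open Groth.Agent.H3.FibCatAux Groth.Agent.H3.GerbAux Groth.Agent.H3.FpCalc Groth.Agent.H3.TwoCart
  Groth.Agent.H3.StackPsh Groth.Agent.H3.PshBridge Groth.Agent.H3.AlgStAux Groth.Agent.H3.RepBridge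
  Groth.Agent.H3.Whisker Groth.Agent.H3.FPtRel Groth.Agent.H3.AlgStPoints
  Groth.Agent.H3.AlgStBridge2 Groth.Agent.H3.AlgStCharts Groth.Agent.H3.BaseChangeSp
  Groth.Agent.H3.AlgStComp Groth.Agent.H3.AlgStProps Groth.Agent.H3.AlgStDescent
  Groth.Agent.H3.AlgStLES Groth.Agent.H3.AlgStLocQ Groth.Agent.H3.AlgStDiag
open AlgSp

variable {S : Scheme.{u}}

/-- a nonempty scheme has a field-valued point which is locally of finite type -/
theorem exists_closed_field_point (W : Scheme.{u}) (hne : Nonempty ↥W) :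
    ∃ (K : Type u) (_ : Field K) (h : Spec (CommRingCat.of K) ⟶ W), LocallyOfFiniteType h := by
  obtain ⟨w⟩ := hne
  obtain ⟨_, ⟨V, hV, rfl⟩, hwV, -⟩ := W.isBasis_affineOpens.exists_subset_of_mem_open
    (Set.mem_univ w) isOpen_univ
  haveI : Nonempty V := ⟨⟨w, hwV⟩⟩
  haveI : Nontrivial Γ(W, V) := inferInstance
  obtain ⟨m, hm⟩ := Ideal.exists_maximal Γ(W, V)
  letI : Field (Γ(W, V) ⧸ m) := Ideal.Quotient.field m
  have hV' : IsAffineOpen V := hV
  haveI : IsClosedImmersion (Spec.map (CommRingCat.ofHom (Ideal.Quotient.mk m))) :=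
    IsClosedImmersion.spec_of_surjective (CommRingCat.ofHom (Ideal.Quotient.mk m))
      Ideal.Quotient.mk_surjective
  exact ⟨Γ(W, V) ⧸ m, inferInstance,
    Spec.map (CommRingCat.ofHom (Ideal.Quotient.mk m)) ≫ hV'.fromSpec, inferInstance⟩

/-- a nonempty reduced scheme has a flat field-valued point -/
theorem exists_flat_field_point (W : Scheme.{u}) (hne : Nonempty ↥W) [IsReduced W] :
    ∃ (K : Type u) (_ : Field K) (h : Spec (CommRingCat.of K) ⟶ W), Flat h := by
  obtain ⟨w⟩ := hne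
  obtain ⟨_, ⟨V, hV, rfl⟩, hwV, -⟩ := W.isBasis_affineOpens.exists_subset_of_mem_open
    (Set.mem_univ w) isOpen_univ
  haveI : Nonempty V := ⟨⟨w, hwV⟩⟩
  haveI : Nontrivial Γ(W, V) := inferInstance
  obtain ⟨m, hm⟩ := Ideal.exists_maximal Γ(W, V)
  haveI := hm.isPrime
  obtain ⟨𝔭, hp, -⟩ := Ideal.exists_minimalPrimes_le (I := (⊥ : Ideal Γ(W, V))) (J := m) bot_le
  haveI h𝔭 : 𝔭.IsPrime := hp.1.1
  haveI : Ring.KrullDimLE 0 (Localization.AtPrime 𝔭) :=
    Ring.KrullDimLE.of_isLocalization 𝔭 hp _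
  have hF : IsField (Localization.AtPrime 𝔭) := Ring.KrullDimLE.isField_of_isReduced
  have hbij : Function.Bijective (IsLocalRing.residue (Localization.AtPrime 𝔭)) := by
    refine ⟨?_, IsLocalRing.residue_surjective⟩
    rw [RingHom.injective_iff_ker_eq_bot, IsLocalRing.ker_residue]
    exact IsLocalRing.isField_iff_maximalIdeal_eq.1 hF
  have hφ : ((IsLocalRing.residue (Localization.AtPrime 𝔭)).comp
      (algebraMap Γ(W, V) (Localization.AtPrime 𝔭))).Flat :=
    RingHom.Flat.comp (RingHom.flat_algebraMap_iff.2 inferInstance) (RingHom.Flat.of_bijective hbij)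
  have hV' : IsAffineOpen V := hV
  haveI : Flat (Spec.map (CommRingCat.ofHom ((IsLocalRing.residue (Localization.AtPrime 𝔭)).comp
      (algebraMap Γ(W, V) (Localization.AtPrime 𝔭))))) := Flat.SpecMap_iff.2 hφ
  exact ⟨𝔭.ResidueField, inferInstance,
    Spec.map (CommRingCat.ofHom ((IsLocalRing.residue (Localization.AtPrime 𝔭)).comp
      (algebraMap Γ(W, V) (Localization.AtPrime 𝔭)))) ≫ hV'.fromSpec, inferInstance⟩

variable {𝒵 : AlgSt.Cat S}

/-- a stack covered by the spectrum of a field has at most one point -/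
theorem subsingleton_points (h𝒵 : FibCat.IsFibGrpd 𝒵.p) (k : Type u) [Field k]
    (a : Spec (CommRingCat.of k) ⟶ S) (z : FibCat.overCat (Over.mk a) ⥤ᵇ 𝒵)
    (hzs : AlgSt.RepByAlgSpWith AlgSp.IsSurjectiveMor z) : Subsingleton (AlgSt.Points 𝒵) := by
  have hsk : Subsingleton ↥(Over.mk a).left :=
    inferInstanceAs (Subsingleton (PrimeSpectrum k))
  constructor
  intro p q
  obtain ⟨p', rfl⟩ := isSurjective_of_rep h𝒵 z hzs p
  obtain ⟨q', rfl⟩ := isSurjective_of_rep h𝒵 z hzs q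
  have : Subsingleton (AlgSt.Points (FibCat.overCat (Over.mk a))) :=
    (chartPtEquiv (Over.mk a)).symm.subsingleton
  rw [Subsingleton.elim p' q']

/-- a field point of a one-point stack is surjective -/
theorem rep_surj_of_subsingleton (h𝒵 : AlgSt.IsAlgStack Scheme.fppfPrecoverage 𝒵)
    (hsub : Subsingleton (AlgSt.Points 𝒵)) (k : Type u) [Field k]
    (a : Spec (CommRingCat.of k) ⟶ S) (z : FibCat.overCat (Over.mk a) ⥤ᵇ 𝒵) :
    AlgSt.RepByAlgSpWith AlgSp.IsSurjectiveMor z := by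
  have g𝒵 := h𝒵.isStack.1
  have hz1 : AlgSt.RepByAlgSp1 z := fun U y =>
    repByAlgSp_fp_of_diag g𝒵 h𝒵.diag y z (AlgStDiagLft.repByAlgSp_overCat U)
      (AlgStDiagLft.repByAlgSp_overCat _)
  refine rep_of_isSurjective (isFibGrpd_overCat _) g𝒵 z hz1 ?_
  intro p
  have hne : Nonempty ↥(Over.mk a).left := inferInstanceAs (Nonempty (PrimeSpectrum k))
  obtain ⟨t⟩ := hne
  exact ⟨chartPt (Over.mk a) t, Subsingleton.elim _ _⟩

/-- (2) ⇒ (1): reducedness -/
theorem reduced_of_field_cover (h𝒵 : AlgSt.IsAlgStack Scheme.fppfPrecoverage 𝒵)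
    (k : Type u) [Field k] (a : Spec (CommRingCat.of k) ⟶ S)
    (z : FibCat.overCat (Over.mk a) ⥤ᵇ 𝒵)
    (hzs : AlgSt.RepByAlgSpWith AlgSp.IsSurjectiveMor z)
    (hzf : AlgSt.RepByAlgSpWith (AlgSp.LocP @Flat) z) :
    AlgSt.SmoothLocally (fun T => IsReduced T) 𝒵 := by
  have g𝒵 := h𝒵.isStack.1
  intro U x hx
  obtain ⟨G, e, he⟩ := repByAlgSp_fp_of_diag g𝒵 h𝒵.diag x z (AlgStDiagLft.repByAlgSp_overCat U)
    (AlgStDiagLft.repByAlgSp_overCat _)
  obtain ⟨T, q, c, t, hqe, hqs, hc, ht, -, -⟩ :=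
    exists_scheme_chart_fp_scheme g𝒵 (Over.mk a) z U x G e he
  have hb1 := fst_prop _ good_flat.bc good_flat.toC.charts z hzf U x G e he
  have hb2 := fst_prop _ good_isSurjectiveMor.bc good_isSurjectiveMor.toC.charts z hzs U x G e he
  have hb3 := snd_prop _ good_smooth.bc good_smooth.toC.charts z U x hx G e he
  haveI hc1 : Flat c.left := prop_of_chart q _ c hc hqe hb1
  have hc2 : Function.Surjective c.left := surjective_of_chart q _ c hc hqs hb2
  haveI ht1 : Smooth t.left := prop_of_chart q _ t ht hqe hb3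
  haveI : IsReduced T.left := Groth.Agent.H1.SmoothGeom.isReduced_of_smooth_field k t.left
  haveI : Surjective c.left := ⟨hc2⟩
  exact Groth.Agent.H5.Lim.isReduced_of_flat_of_surjective c.left

/-- **Main theorem** (S16805) -/
theorem main (h𝒵 : AlgSt.IsAlgStack Scheme.fppfPrecoverage 𝒵) :
    [AlgSt.SmoothLocally (fun T => IsReduced T) 𝒵 ∧ Nonempty (AlgSt.Points 𝒵) ∧
        Subsingleton (AlgSt.Points 𝒵),
      ∃ (k : Type u) (_ : Field k) (a : Spec (CommRingCat.of k) ⟶ S)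
        (z : FibCat.overCat (Over.mk a) ⥤ᵇ 𝒵), AlgSt.RepByAlgSpWith AlgSp.IsSurjectiveMor z ∧
          AlgSt.RepByAlgSpWith (AlgSp.LocP @Flat) z,
      ∃ (k : Type u) (_ : Field k) (a : Spec (CommRingCat.of k) ⟶ S)
        (z : FibCat.overCat (Over.mk a) ⥤ᵇ 𝒵),
          AlgSt.RepByAlgSpWith (AlgSp.LocP @LocallyOfFiniteType) z ∧
          AlgSt.RepByAlgSpWith AlgSp.IsSurjectiveMor z ∧
            AlgSt.RepByAlgSpWith (AlgSp.LocP @Flat) z].TFAE := by
  have g𝒵 := h𝒵.isStack.1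
  obtain ⟨W, p, hp₁, hp₂⟩ := h𝒵.atlas
  have gW := isFibGrpd_overCat W
  tfae_have 1 → 2 := by
    rintro ⟨hred, ⟨pt⟩, hsub⟩
    obtain ⟨w, -⟩ := ofChart_surjective g𝒵 p hp₂ pt
    haveI : IsReduced W.left := hred W p hp₁
    obtain ⟨K, hK, h, hh⟩ := exists_flat_field_point W.left ⟨w⟩
    let hO : Over.mk (h ≫ W.hom) ⟶ W := Over.homMk h rfl
    refine ⟨K, hK, h ≫ W.hom, BasedFunctor.comp (AlgSt.overMap hO) p,
      rep_surj_of_subsingleton h𝒵 hsub K _ _, ?_⟩
    exact good_flat.toC.repComp (isFibGrpd_overCat _) gW _ _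
      (rep_overMap Groth.Agent.H5.AlgSp.etale_le_flat good_flat hO hh)
      (AlgStDiagLft.repByAlgSpWith_mono (AlgStDiagLft.locP_mono AlgStDiagLft.smooth_le_flat) hp₁)
  tfae_have 2 → 3 := by
    rintro ⟨k, hk, a, z, hzs, hzf⟩
    have hne : Nonempty ↥(Over.mk a).left := inferInstanceAs (Nonempty (PrimeSpectrum k))
    obtain ⟨t⟩ := hne
    obtain ⟨w, -⟩ := ofChart_surjective g𝒵 p hp₂ (AlgSt.Points.ofChart z t)
    obtain ⟨K, hK, h, hh⟩ := exists_closed_field_point W.left ⟨w⟩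
    let hO : Over.mk (h ≫ W.hom) ⟶ W := Over.homMk h rfl
    have hlft : AlgSt.RepByAlgSpWith (AlgSp.LocP @LocallyOfFiniteType)
        (BasedFunctor.comp (AlgSt.overMap hO) p) :=
      good_lft.toC.repComp (isFibGrpd_overCat _) gW _ _
        (rep_overMap Groth.Agent.H3.AlgSpCov.etale_le_lft good_lft hO hh)
        (AlgStDiagLft.repByAlgSpWith_mono (AlgStDiagLft.locP_mono AlgStDiagLft.smooth_le_lft) hp₁)
    obtain ⟨h1, h2⟩ := Groth.Agent.H3.FlatField.main h𝒵 k a z hzs hzf K (h ≫ W.hom)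
      (BasedFunctor.comp (AlgSt.overMap hO) p)
    exact ⟨K, hK, h ≫ W.hom, _, hlft, h1, h2⟩
  tfae_have 3 → 2 := by
    rintro ⟨k, hk, a, z, -, hzs, hzf⟩
    exact ⟨k, hk, a, z, hzs, hzf⟩
  tfae_have 2 → 1 := by
    rintro ⟨k, hk, a, z, hzs, hzf⟩
    refine ⟨reduced_of_field_cover h𝒵 k a z hzs hzf, ?_, subsingleton_points g𝒵 k a z hzs⟩
    have hne : Nonempty ↥(Over.mk a).left := inferInstanceAs (Nonempty (PrimeSpectrum k))
    obtain ⟨t⟩ := hne
    exact ⟨AlgSt.Points.ofChart z t⟩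
  tfae_finish

end Groth.Agent.H3.FieldCover
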