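import Mathlib
import Groth.Agent.Lib.Helper3.FieldCover
import Groth.Agent.Lib.Helper3.AlgSpCov.RedNoeth
import Groth.Agent.Lib.Helper1.RegLoc
import Groth.Agent.Lib.Helper1.SmoothDepth
import Groth.Agent.Lib.Helper3.Decent.IsolatedPt

/-!
# Reduced locally Noetherian one-point stacks (helper3)

Such a stack receives a locally finitely presented flat surjective morphism from the spectrum of a
field (and conversely), and it is regular.
-/

set_option autoImplicit false
universe u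
open CategoryTheory CategoryTheory.Functor CategoryTheory.Limits Opposite AlgebraicGeometry

noncomputable section

namespace Groth.Agent.H3.FieldCover

open Groth.Agent.H3.FibCatAux Groth.Agent.H3.GerbAux Groth.Agent.H3.FpCalc Groth.Agent.H3.TwoCart
  Groth.Agent.H3.StackPsh Groth.Agent.H3.PshBridge Groth.Agent.H3.AlgStAux Groth.Agent.H3.RepBridge
  Groth.Agent.H3.Whisker Groth.Agent.H3.FPtRel Groth.Agent.H3.AlgStPoints
  Groth.Agent.H3.AlgStBridge2 Groth.Agent.H3.AlgStCharts Groth.Agent.H3.BaseChangeSp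
  Groth.Agent.H3.AlgStComp Groth.Agent.H3.AlgStProps Groth.Agent.H3.AlgStDescent
  Groth.Agent.H3.AlgStLES Groth.Agent.H3.AlgStLocQ Groth.Agent.H3.AlgStDiag
open AlgSp

variable {S : Scheme.{u}} {𝒵 : AlgSt.Cat S}

/-- over a locally Noetherian stack, locally of finite type implies locally of finite
presentation -/
theorem lfp_of_lft (h𝒵 : AlgSt.IsAlgStack Scheme.fppfPrecoverage 𝒵)
    (hnoeth : AlgSt.SmoothLocally (fun T => IsLocallyNoetherian T) 𝒵)
    {𝒯 : AlgSt.Cat S} (z : 𝒯 ⥤ᵇ 𝒵)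
    (hzl : AlgSt.RepByAlgSpWith (AlgSp.LocP @LocallyOfFiniteType) z) :
    AlgSt.RepByAlgSpWith (AlgSp.LocP @LocallyOfFinitePresentation) z := by
  obtain ⟨W, p, hp₁, hp₂⟩ := h𝒵.atlas
  haveI : IsLocallyNoetherian W.left := hnoeth W p hp₁
  have hz1 : AlgSt.RepByAlgSp1 z := repByAlgSp1_of_repByAlgSpWith hzl
  refine repByAlgSpWith_descent _ good_lfp.bc good_lfp.loc z hz1 p
    (AlgStDiagLft.les_of_smooth_surjective p hp₁ hp₂) ?_
  obtain ⟨G, e, he⟩ := hz1 W p
  rw [← repByAlgSpWith_comp_equiv_iff _ e he,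
    repByAlgSpWith_iff_spMapOfOver _ good_lfp.bc good_lfp.toC.charts G]
  have hlft := fst_prop _ good_lft.bc good_lft.toC.charts z hzl W p G e he
  intro T V a' b h ha hb comm
  obtain ⟨b', rfl⟩ := (AlgSp.yon S).map_surjective b
  haveI hb' : Etale b'.left := (AlgSp.repWith_yon_map_iff @Etale b').1 hb
  haveI : IsLocallyNoetherian V.left := LocallyOfFiniteType.isLocallyNoetherian b'.left
  haveI : LocallyOfFiniteType h.left := hlft a' _ h ha hb comm
  infer_instance

/-- a stack with an fppf cover by the spectrum of a field is locally Noetherian -/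
theorem locNoeth_of_field_cover (h𝒵 : AlgSt.IsAlgStack Scheme.fppfPrecoverage 𝒵)
    (k : Type u) [Field k] (a : Spec (CommRingCat.of k) ⟶ S)
    (z : FibCat.overCat (Over.mk a) ⥤ᵇ 𝒵)
    (hzp : AlgSt.RepByAlgSpWith (AlgSp.LocP @LocallyOfFinitePresentation) z)
    (hzs : AlgSt.RepByAlgSpWith AlgSp.IsSurjectiveMor z)
    (hzf : AlgSt.RepByAlgSpWith (AlgSp.LocP @Flat) z) :
    AlgSt.SmoothLocally (fun T => IsLocallyNoetherian T) 𝒵 := by
  have g𝒵 := h𝒵.isStack.1
  intro U x hx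
  obtain ⟨G, e, he⟩ := repByAlgSp_fp_of_diag g𝒵 h𝒵.diag x z (AlgStDiagLft.repByAlgSp_overCat U)
    (AlgStDiagLft.repByAlgSp_overCat _)
  obtain ⟨T, q, c, t, hqe, hqs, hc, ht, -, -⟩ :=
    exists_scheme_chart_fp_scheme g𝒵 (Over.mk a) z U x G e he
  have hb1 := fst_prop _ good_flat.bc good_flat.toC.charts z hzf U x G e he
  have hb2 := fst_prop _ good_isSurjectiveMor.bc good_isSurjectiveMor.toC.charts z hzs U x G e he
  have hb3 := snd_prop _ good_smooth.bc good_smooth.toC.charts z U x hx G e he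
  have hb4 := fst_prop _ good_lfp.bc good_lfp.toC.charts z hzp U x G e he
  haveI hc1 : Flat c.left := prop_of_chart q _ c hc hqe hb1
  have hc2 : Function.Surjective c.left := surjective_of_chart q _ c hc hqs hb2
  haveI hc4 : LocallyOfFinitePresentation c.left := prop_of_chart q _ c hc hqe hb4
  haveI ht1 : Smooth t.left := prop_of_chart q _ t ht hqe hb3
  haveI : LocallyOfFiniteType t.left := inferInstance
  haveI : IsLocallyNoetherian T.left :=
    Groth.Agent.H3.Decent.isLocallyNoetherian_of_lft_field (k := k) t.left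
  exact Groth.Agent.H3.AlgSpCov.isLocallyNoetherian_of_fppf_surjective c.left hc2

/-- **S16806** -/
theorem main2 (h𝒵 : AlgSt.IsAlgStack Scheme.fppfPrecoverage 𝒵) :
    (AlgSt.SmoothLocally (fun T => IsReduced T) 𝒵 ∧
        AlgSt.SmoothLocally (fun T => IsLocallyNoetherian T) 𝒵 ∧
        Nonempty (AlgSt.Points 𝒵) ∧ Subsingleton (AlgSt.Points 𝒵)) ↔
      ∃ (k : Type u) (_ : Field k) (a : Spec (CommRingCat.of k) ⟶ S)
        (z : FibCat.overCat (Over.mk a) ⥤ᵇ 𝒵),
          AlgSt.RepByAlgSpWith (AlgSp.LocP @LocallyOfFinitePresentation) z ∧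
          AlgSt.RepByAlgSpWith AlgSp.IsSurjectiveMor z ∧
            AlgSt.RepByAlgSpWith (AlgSp.LocP @Flat) z := by
  have g𝒵 := h𝒵.isStack.1
  constructor
  · rintro ⟨hred, hnoeth, hne, hsub⟩
    have h1 : AlgSt.SmoothLocally (fun T => IsReduced T) 𝒵 ∧ Nonempty (AlgSt.Points 𝒵) ∧
        Subsingleton (AlgSt.Points 𝒵) := ⟨hred, hne, hsub⟩
    obtain ⟨k, hk, a, z, hzl, hzs, hzf⟩ := ((main h𝒵).out 0 2).1 h1
    exact ⟨k, hk, a, z, lfp_of_lft h𝒵 hnoeth z hzl, hzs, hzf⟩
  · rintro ⟨k, hk, a, z, hzp, hzs, hzf⟩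
    refine ⟨reduced_of_field_cover h𝒵 k a z hzs hzf,
      locNoeth_of_field_cover h𝒵 k a z hzp hzs hzf, ?_, subsingleton_points g𝒵 k a z hzs⟩
    have hne : Nonempty ↥(Over.mk a).left := inferInstanceAs (Nonempty (PrimeSpectrum k))
    obtain ⟨t⟩ := hne
    exact ⟨AlgSt.Points.ofChart z t⟩

/-- **S16811** -/
theorem main3 (h𝒵 : AlgSt.IsAlgStack Scheme.fppfPrecoverage 𝒵)
    (hred : AlgSt.SmoothLocally (fun T => IsReduced T) 𝒵)
    (hnoeth : AlgSt.SmoothLocally (fun T => IsLocallyNoetherian T) 𝒵)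
    (hne : Nonempty (AlgSt.Points 𝒵)) (hsub : Subsingleton (AlgSt.Points 𝒵)) :
    AlgSt.SmoothLocally (fun T => ∀ t : T, IsRegularLocalRing (T.presheaf.stalk t)) 𝒵 := by
  have g𝒵 := h𝒵.isStack.1
  obtain ⟨k, hk, a, z, hzp, hzs, hzf⟩ := (main2 h𝒵).1 ⟨hred, hnoeth, hne, hsub⟩
  intro U x hx u
  haveI : IsLocallyNoetherian U.left := hnoeth U x hx
  obtain ⟨G, e, he⟩ := repByAlgSp_fp_of_diag g𝒵 h𝒵.diag x z (AlgStDiagLft.repByAlgSp_overCat U)
    (AlgStDiagLft.repByAlgSp_overCat _)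
  obtain ⟨T, q, c, t, hqe, hqs, hc, ht, -, -⟩ :=
    exists_scheme_chart_fp_scheme g𝒵 (Over.mk a) z U x G e he
  have hb1 := fst_prop _ good_flat.bc good_flat.toC.charts z hzf U x G e he
  have hb2 := fst_prop _ good_isSurjectiveMor.bc good_isSurjectiveMor.toC.charts z hzs U x G e he
  have hb3 := snd_prop _ good_smooth.bc good_smooth.toC.charts z U x hx G e he
  haveI hc1 : Flat c.left := prop_of_chart q _ c hc hqe hb1
  have hc2 : Function.Surjective c.left := surjective_of_chart q _ c hc hqs hb2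
  haveI ht1 : Smooth t.left := prop_of_chart q _ t ht hqe hb3
  obtain ⟨τ, rfl⟩ := hc2 u
  haveI : IsRegularLocalRing (T.left.presheaf.stalk τ) :=
    Groth.Agent.H1.SmoothDepth.isRegularLocalRing_stalk_of_smooth k t.left τ
  have hfl : (c.left.stalkMap τ).hom.Flat := Flat.stalkMap c.left τ
  letI : Algebra (U.left.presheaf.stalk (c.left τ)) (T.left.presheaf.stalk τ) :=
    (c.left.stalkMap τ).hom.toAlgebra
  haveI : IsLocalHom (algebraMap (U.left.presheaf.stalk (c.left τ)) (T.left.presheaf.stalk τ)) :=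
    inferInstanceAs (IsLocalHom (c.left.stalkMap τ).hom)
  haveI : Module.Flat (U.left.presheaf.stalk (c.left τ)) (T.left.presheaf.stalk τ) := hfl
  exact Groth.Agent.H1.Reg.isRegularLocalRing_of_flat _ (T.left.presheaf.stalk τ)

end Groth.Agent.H3.FieldCover
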