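import Groth.Prelude.Def_FlatCA
import Mathlib

set_option autoImplicit false
universe u


namespace Groth.Agent.H3.FinColim

open MvPolynomial in
/-- A finite algebra is a quotient of a finite, finitely presented algebra. -/
theorem exists_finite_fp_cover (A A' : Type u) [CommRing A] [CommRing A']
    [Algebra A A'] [Module.Finite A A'] :
    ∃ (B : Type u) (_ : CommRing B) (_ : Algebra A B) (φ : B →ₐ[A] A'),
      Module.Finite A B ∧ Algebra.FinitePresentation A B ∧ Function.Surjective φ := by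
  classical
  obtain ⟨n, s, hs⟩ := Module.Finite.exists_fin (R := A) (M := A')
  have hint : ∀ k, IsIntegral A (s k) := fun k => Algebra.IsIntegral.isIntegral (s k)
  choose p hpm hp using hint
  let I : Ideal (MvPolynomial (Fin n) A) :=
    Ideal.span (Set.range fun k => Polynomial.aeval (X k : MvPolynomial (Fin n) A) (p k))
  have hIfg : I.FG := ⟨(Finset.univ.image fun k =>
      Polynomial.aeval (X k : MvPolynomial (Fin n) A) (p k)), by
    simp only [Finset.coe_image, Finset.coe_univ, Set.image_univ]; rfl⟩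
  let ψ : MvPolynomial (Fin n) A →ₐ[A] A' := MvPolynomial.aeval s
  have hψ : ∀ a ∈ I, ψ a = 0 := by
    intro a ha
    have : I ≤ RingHom.ker ψ.toRingHom := by
      rw [Ideal.span_le]
      rintro _ ⟨k, rfl⟩
      change ψ (Polynomial.aeval (X k : MvPolynomial (Fin n) A) (p k)) = 0
      rw [← Polynomial.aeval_algHom_apply]
      simp only [ψ, MvPolynomial.aeval_X]
      rw [← hp k]; rfl
    exact this ha
  let φ : (MvPolynomial (Fin n) A ⧸ I) →ₐ[A] A' := Ideal.Quotient.liftₐ I ψ hψ
  refine ⟨MvPolynomial (Fin n) A ⧸ I, inferInstance, inferInstance, φ, ?_, ?_, ?_⟩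
  · -- finite
    have hgen : Algebra.adjoin A (Set.range fun k : Fin n =>
        (Ideal.Quotient.mk I (X k) : MvPolynomial (Fin n) A ⧸ I)) = ⊤ := by
      have h1 : Algebra.adjoin A (Set.range (X : Fin n → MvPolynomial (Fin n) A)) = ⊤ :=
        MvPolynomial.adjoin_range_X
      have h2 := congrArg (Subalgebra.map (Ideal.Quotient.mkₐ A I)) h1
      rw [AlgHom.map_adjoin, Algebra.map_top, ← Set.range_comp] at h2
      rw [show (Set.range fun k : Fin n =>
        (Ideal.Quotient.mk I (X k) : MvPolynomial (Fin n) A ⧸ I)) =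
          Set.range ((Ideal.Quotient.mkₐ A I) ∘ X) from rfl, h2]
      rw [AlgHom.range_eq_top]
      exact Ideal.Quotient.mkₐ_surjective A I
    have hfin : (Algebra.adjoin A (Set.range fun k : Fin n =>
        (Ideal.Quotient.mk I (X k) : MvPolynomial (Fin n) A ⧸ I))).toSubmodule.FG := by
      apply fg_adjoin_of_finite (Set.finite_range _)
      rintro _ ⟨k, rfl⟩
      refine ⟨p k, hpm k, ?_⟩
      change Polynomial.aeval (Ideal.Quotient.mkₐ A I (X k)) (p k) = 0
      rw [Polynomial.aeval_algHom_apply]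
      exact Ideal.Quotient.eq_zero_iff_mem.2 (Ideal.subset_span ⟨k, rfl⟩)
    rw [hgen, Algebra.top_toSubmodule] at hfin
    exact ⟨hfin⟩
  · exact Algebra.FinitePresentation.quotient hIfg
  · intro a
    have ha : a ∈ Submodule.span A (Set.range s) := by rw [hs]; trivial
    induction ha using Submodule.span_induction with
    | mem x hx =>
      obtain ⟨k, rfl⟩ := hx
      exact ⟨Ideal.Quotient.mk I (X k), by simp [φ, ψ]⟩
    | zero => exact ⟨0, map_zero _⟩
    | add x y _ _ hx hy =>
      obtain ⟨x', rfl⟩ := hx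
      obtain ⟨y', rfl⟩ := hy
      exact ⟨x' + y', map_add _ _ _⟩
    | smul r x _ hx =>
      obtain ⟨x', rfl⟩ := hx
      exact ⟨r • x', map_smul _ _ _⟩


/-- Every finite algebra is a directed colimit of finite, finitely presented algebras. -/
theorem main (A A' : Type u) [CommRing A] [CommRing A']
    [Algebra A A'] [Module.Finite A A'] :
    ∃ (ι : Type u) (_ : Preorder ι) (G : ι → Type u) (_ : ∀ i, CommRing (G i)) (_ : ∀ i, Algebra A (G i))
      (g : ∀ i j, i ≤ j → G i →ₐ[A] G j) (_ : ∀ i, Algebra (G i) A') (_ : ∀ i, IsScalarTower A (G i) A'),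
      FlatCA.IsDirectedColimitRing G (fun i j h => (g i j h).toRingHom) A' ∧
        ∀ i, Module.Finite A (G i) ∧ Algebra.FinitePresentation A (G i) := by
  classical
  obtain ⟨B, _, _, φ, hfin, hfp, hsurj⟩ := exists_finite_fp_cover A A'
  let ι : Type u := {K : Ideal B // K.FG ∧ K ≤ RingHom.ker φ.toRingHom}
  let G : ι → Type u := fun K => B ⧸ K.1
  let g : ∀ i j : ι, i ≤ j → G i →ₐ[A] G j := fun i j h => Ideal.Quotient.factorₐ A h
  let ψ : ∀ i : ι, G i →ₐ[A] A' := fun i => Ideal.Quotient.liftₐ i.1 φ (fun a ha => i.2.2 ha)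
  letI alg : ∀ i : ι, Algebra (G i) A' := fun i => (ψ i).toRingHom.toAlgebra
  have hψ : ∀ (i : ι) (b : B), algebraMap (G i) A' (Ideal.Quotient.mk i.1 b) = φ b := by
    intro i b
    change ψ i (Ideal.Quotient.mk i.1 b) = φ b
    exact Ideal.Quotient.liftₐ_apply _ _ _ _
  refine ⟨ι, inferInstance, G, inferInstance, inferInstance, g, alg, ?_, ?_, ?_⟩
  · intro i
    exact IsScalarTower.of_algebraMap_eq fun a => ((ψ i).commutes a).symm
  · refine ⟨⟨fun i j => ⟨⟨i.1 ⊔ j.1, Submodule.FG.sup i.2.1 j.2.1, sup_le i.2.2 j.2.2⟩, ?_, ?_⟩⟩,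
      ⟨⟨⊥, Submodule.fg_bot, bot_le⟩⟩, ?_, ?_, ?_, ?_, ?_⟩
    · exact (le_sup_left : i.1 ≤ i.1 ⊔ j.1)
    · exact (le_sup_right : j.1 ≤ i.1 ⊔ j.1)
    · intro i
      apply RingHom.ext
      intro x
      obtain ⟨b, rfl⟩ := Ideal.Quotient.mk_surjective x
      rfl
    · intro i j k hij hjk
      apply RingHom.ext
      intro x
      obtain ⟨b, rfl⟩ := Ideal.Quotient.mk_surjective x
      rfl
    · intro i j h
      apply RingHom.ext
      intro x
      obtain ⟨b, rfl⟩ := Ideal.Quotient.mk_surjective x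
      change algebraMap (G j) A' (Ideal.Quotient.mk j.1 b) = algebraMap (G i) A' (Ideal.Quotient.mk i.1 b)
      rw [hψ, hψ]
    · intro a
      obtain ⟨b, rfl⟩ := hsurj a
      exact ⟨⟨⊥, Submodule.fg_bot, bot_le⟩, Ideal.Quotient.mk _ b, hψ _ b⟩
    · intro i x hx
      obtain ⟨b, rfl⟩ := Ideal.Quotient.mk_surjective x
      rw [hψ] at hx
      refine ⟨⟨i.1 ⊔ Ideal.span {b}, Submodule.FG.sup i.2.1 (Submodule.fg_span_singleton b), sup_le i.2.2 ?_⟩, ?_, ?_⟩
      · rw [Ideal.span_le, Set.singleton_subset_iff]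
        exact hx
      · exact (le_sup_left : i.1 ≤ i.1 ⊔ Ideal.span {b})
      · change Ideal.Quotient.mk (i.1 ⊔ Ideal.span {b}) b = 0
        exact Ideal.Quotient.eq_zero_iff_mem.2
          (Ideal.mem_sup_right (Ideal.subset_span (Set.mem_singleton b)))
  · intro i
    refine ⟨?_, ?_⟩
    · exact Module.Finite.of_surjective (Ideal.Quotient.mkₐ A i.1).toLinearMap
        (Ideal.Quotient.mkₐ_surjective A i.1)
    · exact Algebra.FinitePresentation.quotient i.2.1

end Groth.Agent.H3.FinColim
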