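import Mathlib
import Groth.Prelude.Def_FDesc
import Groth.Agent.Lib.Helper3.AssSupp
import Groth.Agent.Lib.Lead.QC.LocFree
import Groth.Agent.Lib.Lead.QC.FinType

set_option autoImplicit false

universe u

open AlgebraicGeometry CategoryTheory CategoryTheory.Limits TopologicalSpace IsLocalRing

namespace Groth.Agent.H3.FinLenSupp

section Alg

theorem isFiniteLength_of_minimalPrimes {A M : Type*} [CommRing A] [IsLocalRing A]
    [IsNoetherianRing A] [AddCommGroup M] [Module A M] [Module.Finite A M]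
    (J : Ideal A) (hJ : ∀ a ∈ J, ∀ m : M, a • m = 0)
    (hmin : maximalIdeal A ∈ J.minimalPrimes) : IsFiniteLength A M := by
  haveI : IsArtinianRing (A ⧸ J) :=
    IsLocalRing.quotient_artinian_of_mem_minimalPrimes_of_isLocalRing J hmin
  have htors : Module.IsTorsionBySet A M J := fun m a => hJ a.1 a.2 m
  letI : Module (A ⧸ J) M := htors.module
  have hN : IsNoetherian A M := inferInstance
  have hN' : IsNoetherian (A ⧸ J) M :=
    (htors.semilinearMap.isNoetherian_iff_of_bijective Function.bijective_id).1 hN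
  have hA' : IsArtinian (A ⧸ J) M := IsSemiprimaryRing.isNoetherian_iff_isArtinian.1 hN'
  have hA : IsArtinian A M :=
    (htors.semilinearMap.isArtinian_iff_of_bijective Function.bijective_id).2 hA'
  rw [isFiniteLength_iff_isNoetherian_isArtinian]
  exact ⟨hN, hA⟩

theorem exists_pow_smul_eq_zero_of_isFiniteLength {A M : Type*} [CommRing A] [IsLocalRing A]
    [AddCommGroup M] [Module A M] (h : IsFiniteLength A M) (a : A) (ha : a ∈ maximalIdeal A) :
    ∃ k : ℕ, ∀ m : M, a ^ k • m = 0 := by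
  obtain ⟨hN, hA⟩ := isFiniteLength_iff_isNoetherian_isArtinian.1 h
  obtain ⟨k, hk⟩ := IsArtinian.range_smul_pow_stabilizes M a
  refine ⟨k, fun m => ?_⟩
  obtain ⟨P, hP⟩ : ∃ P : Submodule A M,
      P = LinearMap.range (a ^ k • LinearMap.id : M →ₗ[A] M) := ⟨_, rfl⟩
  have hle : P ≤ maximalIdeal A • P := by
    intro y hy
    rw [hP, hk (k + 1) (Nat.le_succ k)] at hy
    obtain ⟨z, rfl⟩ := hy
    have : (a ^ (k + 1) • LinearMap.id : M →ₗ[A] M) z = a • (a ^ k • z) := by
      simp [pow_succ', mul_smul]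
    rw [this]
    refine Submodule.smul_mem_smul ha ?_
    rw [hP]
    exact ⟨z, rfl⟩
  have hbot : P = ⊥ := Submodule.eq_bot_of_le_smul_of_le_jacobson_bot (maximalIdeal A) P
    (IsNoetherian.noetherian P) hle (IsLocalRing.maximalIdeal_le_jacobson _)
  have hm : a ^ k • m ∈ P := by rw [hP]; exact ⟨m, rfl⟩
  rw [hbot, Submodule.mem_bot] at hm
  exact hm

end Alg

open Groth.Agent.LD.QC Groth.Agent.H3.AssSupp

variable {X : Scheme.{u}}

theorem main [IsLocallyNoetherian X] (F : X.Modules) (hF : Coh.IsCoh F) (x : X) :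
    (Nontrivial ↑(F.presheaf.stalk x) ∧
        ∀ y : X, Nontrivial ↑(F.presheaf.stalk y) → y ⤳ x → y = x) ↔
      (Nontrivial ↑(F.presheaf.stalk x) ∧
        IsFiniteLength ↑(X.presheaf.stalk x) ↑(F.presheaf.stalk x)) := by
  haveI : F.IsQuasicoherent := hF.1
  obtain ⟨U, hU, hx, -⟩ := exists_isAffineOpen_mem_and_subset (x := x) (U := (⊤ : X.Opens))
    (Set.mem_univ _)
  haveI : IsNoetherianRing Γ(X, U) := IsLocallyNoetherian.component_noetherian ⟨U, hU⟩
  haveI hfinN : Module.Finite Γ(X, U) Γ(F, U) := finite_sections_of_isFiniteType F hF.2 hU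
  have hfin : Module.Finite (X.presheaf.stalk x) (F.presheaf.stalk x) :=
    finite_stalk_of_finite_sections F hU x hx hfinN
  letI algBA : Algebra Γ(X, U) (X.presheaf.stalk x) :=
    TopCat.Presheaf.algebra_section_stalk X.presheaf ⟨x, hx⟩
  haveI hloc := hU.isLocalization_stalk ⟨x, hx⟩
  refine and_congr_right fun hnt => ⟨fun hC => ?_, fun hfl y hy hyx => ?_⟩
  · -- p_x is minimal over the annihilator
    set I : Ideal Γ(X, U) := Module.annihilator Γ(X, U) Γ(F, U) with hI
    have hsupp : hU.primeIdealOf ⟨x, hx⟩ ∈ Module.support Γ(X, U) Γ(F, U) := by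
      rw [mem_support_iff_not_subsingleton_stalk F hU x hx, not_subsingleton_iff_nontrivial]
      exact hnt
    have hIle : I ≤ (hU.primeIdealOf ⟨x, hx⟩).asIdeal :=
      Module.mem_support_iff_of_finite.1 hsupp
    obtain ⟨q, hq, hqle⟩ := Ideal.exists_minimalPrimes_le hIle
    let q' : PrimeSpectrum Γ(X, U) := ⟨q, hq.1.1⟩
    have hqU := fromSpec_mem hU q'
    have hsp : hU.fromSpec q' ⤳ x := by
      have h1 : q' ⤳ hU.primeIdealOf ⟨x, hx⟩ := (PrimeSpectrum.le_iff_specializes _ _).mp hqle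
      have h2 := h1.map hU.fromSpec.continuous
      rwa [hU.fromSpec_primeIdealOf ⟨x, hx⟩] at h2
    have hq'supp : q' ∈ Module.support Γ(X, U) Γ(F, U) :=
      Module.mem_support_iff_of_finite.2 hq.1.2
    have hnt' : Nontrivial ↑(F.presheaf.stalk (hU.fromSpec q')) := by
      rw [← not_subsingleton_iff_nontrivial,
        ← mem_support_iff_not_subsingleton_stalk F hU _ hqU, primeIdealOf_fromSpec hU q' hqU]
      exact hq'supp
    have heq : hU.fromSpec q' = x := hC _ hnt' hsp
    have hqeq : q = (hU.primeIdealOf ⟨x, hx⟩).asIdeal := by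
      have h0 := primeIdealOf_fromSpec hU q' hqU
      have h1 : hU.primeIdealOf ⟨hU.fromSpec q', hqU⟩ = hU.primeIdealOf ⟨x, hx⟩ := by
        congr 1
        exact Subtype.ext heq
      calc q = q'.asIdeal := rfl
        _ = (hU.primeIdealOf ⟨x, hx⟩).asIdeal := by rw [← h0, h1]
    rw [hqeq] at hq
    -- the extended ideal
    have hmin : maximalIdeal (X.presheaf.stalk x) ∈
        (I.map (algebraMap Γ(X, U) (X.presheaf.stalk x))).minimalPrimes := by
      rw [← radical_eq_maximalIdeal_iff, radical_map_eq_maximalIdeal_iff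
        (hU.primeIdealOf ⟨x, hx⟩).asIdeal (X.presheaf.stalk x) I]
      exact hq
    refine @isFiniteLength_of_minimalPrimes _ _ _ _ _ _ _ hfin
      (I.map (algebraMap Γ(X, U) (X.presheaf.stalk x))) ?_ hmin
    intro a ha s
    have hle : I.map (algebraMap Γ(X, U) (X.presheaf.stalk x)) ≤
        Module.annihilator (X.presheaf.stalk x) (F.presheaf.stalk x) := by
      rw [Ideal.map_le_iff_le_comap]
      intro b hb
      rw [Ideal.mem_comap, Module.mem_annihilator]
      intro s
      obtain ⟨n, t, ht, hnt'⟩ := exists_section_germ F hU x hx s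
      apply eq_zero_of_isUnit_smul F x _ ht
      rw [smul_comm, hnt']
      change X.presheaf.germ U x hx b • F.presheaf.germ U x hx n = 0
      rw [← germ_smul, Module.mem_annihilator.1 hb n, map_zero]
    exact Module.mem_annihilator.1 (hle ha) s
  · -- finite length implies maximal in the support
    have hyU : y ∈ U := hyx.mem_open U.isOpen hx
    by_contra hne
    have hqle : (hU.primeIdealOf ⟨y, hyU⟩).asIdeal ≤ (hU.primeIdealOf ⟨x, hx⟩).asIdeal := by
      refine (PrimeSpectrum.le_iff_specializes (hU.primeIdealOf ⟨y, hyU⟩)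
        (hU.primeIdealOf ⟨x, hx⟩)).2 ?_
      refine (hU.fromSpec.isOpenEmbedding.isInducing.specializes_iff).1 ?_
      rw [hU.fromSpec_primeIdealOf ⟨y, hyU⟩, hU.fromSpec_primeIdealOf ⟨x, hx⟩]
      exact hyx
    have hqne : (hU.primeIdealOf ⟨y, hyU⟩).asIdeal ≠ (hU.primeIdealOf ⟨x, hx⟩).asIdeal := by
      intro h
      apply hne
      have h1 : hU.primeIdealOf ⟨y, hyU⟩ = hU.primeIdealOf ⟨x, hx⟩ := PrimeSpectrum.ext h
      have h2 := congrArg hU.fromSpec h1
      rwa [hU.fromSpec_primeIdealOf ⟨y, hyU⟩, hU.fromSpec_primeIdealOf ⟨x, hx⟩] at h2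
    obtain ⟨a, hax, hay⟩ := SetLike.exists_of_lt (lt_of_le_of_ne hqle hqne)
    have ham : X.presheaf.germ U x hx a ∈ maximalIdeal (X.presheaf.stalk x) := by
      rw [IsLocalRing.mem_maximalIdeal, mem_nonunits_iff]
      intro hu
      have := (IsLocalization.AtPrime.isUnit_to_map_iff (X.presheaf.stalk x)
        (hU.primeIdealOf ⟨x, hx⟩).asIdeal a).mp hu
      exact this hax
    obtain ⟨k, hk⟩ := exists_pow_smul_eq_zero_of_isFiniteLength hfl _ ham
    -- all germs at y vanish
    obtain ⟨s, hs⟩ := exists_ne (0 : F.presheaf.stalk y)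
    obtain ⟨n, t, ht, hnt'⟩ := exists_section_germ F hU y hyU s
    apply hs
    apply eq_zero_of_isUnit_smul F y _ ht
    rw [hnt']
    have h0 : F.presheaf.germ U x hx (a ^ k • n) = 0 := by
      rw [germ_smul, map_pow]
      exact hk _
    obtain ⟨u, hu, hun⟩ := exists_smul_eq_zero_of_germ_eq_zero F hU x hx (a ^ k • n) h0
    have huy : IsUnit (X.presheaf.germ U y hyU (u * a ^ k)) := by
      apply isUnit_germ_of_notMem hU y hyU
      intro hmem
      rcases (hU.primeIdealOf ⟨y, hyU⟩).2.mem_or_mem hmem with h | h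
      · have hux : u ∈ (hU.primeIdealOf ⟨x, hx⟩).asIdeal := hqle h
        exact ((IsLocalization.AtPrime.isUnit_to_map_iff (X.presheaf.stalk x)
          (hU.primeIdealOf ⟨x, hx⟩).asIdeal u).mp hu) hux
      · exact hay ((hU.primeIdealOf ⟨y, hyU⟩).2.mem_of_pow_mem k h)
    apply eq_zero_of_isUnit_smul F y _ huy
    rw [← germ_smul, mul_smul, hun, map_zero]

end Groth.Agent.H3.FinLenSupp
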