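import Mathlib
import Groth.Agent.Lib.Helper1.GeomRed
import Groth.Agent.Lib.Helper1.GeomConn

/-!
# Geometrically integral algebras: finite extensions suffice (helper3, for S4660)
-/

set_option autoImplicit false
universe u

open TensorProduct

namespace Groth.Agent.H3.GeomInt

theorem nontrivial_of_nontrivial_tensor {k E S : Type*} [Field k] [CommRing E] [Algebra k E]
    [CommRing S] [Algebra k S] [Nontrivial (E ⊗[k] S)] : Nontrivial S := by
  by_contra h
  rw [not_nontrivial_iff_subsingleton] at h
  have : Subsingleton (E ⊗[k] S) := by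
    refine ⟨fun a b => ?_⟩
    have h0 : ∀ t : E ⊗[k] S, t = 0 := by
      intro t
      induction t with
      | zero => rfl
      | tmul a s => rw [Subsingleton.elim s 0, TensorProduct.tmul_zero]
      | add x y hx hy => rw [hx, hy, add_zero]
    rw [h0 a, h0 b]
  exact not_subsingleton _ this

theorem nontrivial_tensor_of_nontrivial {k E S : Type*} [Field k] [Field E] [Algebra k E]
    [CommRing S] [Algebra k S] [Nontrivial S] : Nontrivial (E ⊗[k] S) :=
  (Algebra.TensorProduct.includeRight_injective (R := k) (A := E) (B := S)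
    (algebraMap k E).injective).nontrivial

/-- a directed union of domains: `k̄ ⊗ S` is a domain if `k' ⊗ S` is for all finite `k'/k`. -/
theorem isDomain_algClosure_tensor {k S : Type u} [Field k] [CommRing S] [Algebra k S]
    (h : ∀ (k' : Type u) [Field k'] [Algebra k k'] [Module.Finite k k'], IsDomain (k' ⊗[k] S)) :
    IsDomain (AlgebraicClosure k ⊗[k] S) := by
  haveI : Nontrivial S := by
    haveI := h k
    exact nontrivial_of_nontrivial_tensor (k := k) (E := k)
  haveI : Nontrivial (AlgebraicClosure k ⊗[k] S) := nontrivial_tensor_of_nontrivial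
  haveI : NoZeroDivisors (AlgebraicClosure k ⊗[k] S) := by
    constructor
    intro x y hxy
    classical
    obtain ⟨s₁, hs₁⟩ := Groth.Agent.H1.GeomRed.exists_finset_mem_range' x
    obtain ⟨s₂, hs₂⟩ := Groth.Agent.H1.GeomRed.exists_finset_mem_range' y
    let P₀ : IntermediateField k (AlgebraicClosure k) :=
      IntermediateField.adjoin k ((s₁ ∪ s₂ : Finset (AlgebraicClosure k)) : Set (AlgebraicClosure k))
    haveI : FiniteDimensional k P₀ :=
      IntermediateField.finiteDimensional_adjoin fun x _ => Algebra.IsIntegral.isIntegral x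
    obtain ⟨x₀, hx₀⟩ := hs₁ P₀ (fun a ha => IntermediateField.subset_adjoin _ _
      (by simp only [Finset.coe_union, Set.mem_union]; exact Or.inl ha))
    obtain ⟨y₀, hy₀⟩ := hs₂ P₀ (fun a ha => IntermediateField.subset_adjoin _ _
      (by simp only [Finset.coe_union, Set.mem_union]; exact Or.inr ha))
    replace hx₀ : Algebra.TensorProduct.map P₀.val (AlgHom.id k S) x₀ = x := hx₀
    replace hy₀ : Algebra.TensorProduct.map P₀.val (AlgHom.id k S) y₀ = y := hy₀
    have hinj : Function.Injective (Algebra.TensorProduct.map P₀.val (AlgHom.id k S)) :=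
      Module.Flat.rTensor_preserves_injective_linearMap (M := S) P₀.val.toLinearMap
        Subtype.val_injective
    haveI := h P₀
    have h0 : x₀ * y₀ = 0 := hinj (by rw [map_mul, hx₀, hy₀, hxy, map_zero])
    rcases mul_eq_zero.mp h0 with h1 | h1
    · left; rw [← hx₀, h1, map_zero]
    · right; rw [← hy₀, h1, map_zero]
  exact ⟨⟩

/-- geometric integrality can be tested on an algebraic closure -/
theorem isDomain_tensor_of_algClosure {k S : Type u} [Field k] [CommRing S] [Algebra k S]
    [IsDomain (AlgebraicClosure k ⊗[k] S)]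
    (K : Type u) [Field K] [Algebra k K] : IsDomain (K ⊗[k] S) := by
  haveI : Nontrivial S := nontrivial_of_nontrivial_tensor (k := k) (E := AlgebraicClosure k)
  haveI : Nontrivial (K ⊗[k] S) := nontrivial_tensor_of_nontrivial
  let Ω := AlgebraicClosure K
  let φ : AlgebraicClosure k →ₐ[k] Ω := IsAlgClosed.lift
  letI : Algebra (AlgebraicClosure k) Ω := φ.toRingHom.toAlgebra
  haveI : IsScalarTower k (AlgebraicClosure k) Ω :=
    IsScalarTower.of_algebraMap_eq fun x => (φ.commutes x).symm
  haveI : NoZeroDivisors ((AlgebraicClosure k ⊗[k] S) ⊗[AlgebraicClosure k] Ω) :=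
    Groth.Agent.H1.GeomConn.noZeroDivisors_tensor
  let e₀ := Algebra.TensorProduct.comm (AlgebraicClosure k) Ω (AlgebraicClosure k ⊗[k] S)
  let e := Algebra.TensorProduct.cancelBaseChange k (AlgebraicClosure k) (AlgebraicClosure k) Ω S
  let ι : K ⊗[k] S →ₐ[k] Ω ⊗[k] S :=
    Algebra.TensorProduct.map (IsScalarTower.toAlgHom k K Ω) (AlgHom.id k S)
  have hι : Function.Injective ι :=
    Module.Flat.rTensor_preserves_injective_linearMap (M := S)
      (IsScalarTower.toAlgHom k K Ω).toLinearMap (algebraMap K Ω).injective
  have hinj : Function.Injective (fun x => e₀ (e.symm (ι x))) :=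
    e₀.injective.comp (e.symm.injective.comp hι)
  haveI : NoZeroDivisors (K ⊗[k] S) :=
    Function.Injective.noZeroDivisors ((e₀.toRingHom.comp e.symm.toRingHom).comp ι.toRingHom)
      hinj (map_zero _) (map_mul _)
  exact ⟨⟩

/-- **finite extensions suffice** -/
theorem isDomain_tensor_of_forall_finite {k S : Type u} [Field k] [CommRing S] [Algebra k S]
    (h : ∀ (k' : Type u) [Field k'] [Algebra k k'] [Module.Finite k k'], IsDomain (k' ⊗[k] S))
    (K : Type u) [Field K] [Algebra k K] : IsDomain (K ⊗[k] S) := by
  haveI := isDomain_algClosure_tensor h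
  exact isDomain_tensor_of_algClosure K

end Groth.Agent.H3.GeomInt
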