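import Mathlib
import Groth.Prelude.Def_FDesc
import Groth.Agent.Lib.Helper3.FlatAssD
import Groth.Agent.Lib.Helper3.GeomIntA

/-!
# Integral modules and base field extension (helper3, S4660)
-/

set_option autoImplicit false
universe u
open CategoryTheory CategoryTheory.Limits AlgebraicGeometry IsLocalRing TensorProduct

namespace Groth.Agent.H3.FlatAss

attribute [-instance] Groth.Agent.LD.QC.stalkModule

section Dict

variable {k : Type u} [Field k] {X : Scheme.{u}} (f : X ⟶ Spec (CommRingCat.of k))
  (K : Type u) [Field K] [Algebra k K] (x : X)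

/-- the point of `X_K` over `x` attached to a prime of `κ(x) ⊗_k K` -/
noncomputable def pointOfPrime
    (q : letI : Algebra k (X.residueField x) := (resAlg f x).toAlgebra
      PrimeSpectrum (TensorProduct k (X.residueField x) K)) : ↥(FBase.bc f K) :=
  letI : Algebra k (X.residueField x) := (resAlg f x).toAlgebra
  (FBase.bcπ f K).fiberι x ((fiberIso f K x).inv q)

theorem bcπ_pointOfPrime
    (q : letI : Algebra k (X.residueField x) := (resAlg f x).toAlgebra
      PrimeSpectrum (TensorProduct k (X.residueField x) K)) :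
    FBase.bcπ f K (pointOfPrime f K x q) = x :=
  map_fiberι _ x _

theorem pointOfPrime_injective : Function.Injective (pointOfPrime f K x) := by
  letI : Algebra k (X.residueField x) := (resAlg f x).toAlgebra
  intro q₁ q₂ h
  have h1 : (fiberIso f K x).inv q₁ = (fiberIso f K x).inv q₂ :=
    ((FBase.bcπ f K).fiberι x).isEmbedding.injective h
  have h2 := congrArg (fiberIso f K x).hom h1
  rwa [← Scheme.Hom.comp_apply, ← Scheme.Hom.comp_apply, Iso.inv_hom_id] at h2

theorem exists_prime_of_bcπ_eq (z : ↥(FBase.bc f K)) (hz : FBase.bcπ f K z = x) :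
    ∃ q, pointOfPrime f K x q = z := by
  letI : Algebra k (X.residueField x) := (resAlg f x).toAlgebra
  have h1 : z ∈ Set.range ((FBase.bcπ f K).fiberι x) := by
    rw [Scheme.Hom.range_fiberι]
    exact hz
  obtain ⟨t, rfl⟩ := h1
  refine ⟨(fiberIso f K x).hom t, ?_⟩
  unfold pointOfPrime
  have h2 : (fiberIso f K x).inv ((fiberIso f K x).hom t) = t := by
    rw [← Scheme.Hom.comp_apply, Iso.hom_inv_id]
    rfl
  rw [h2]

theorem nonempty_fibreRing_equiv_pointOfPrime
    (q : letI : Algebra k (X.residueField x) := (resAlg f x).toAlgebra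
      PrimeSpectrum (TensorProduct k (X.residueField x) K)) :
    letI : Algebra k (X.residueField x) := (resAlg f x).toAlgebra
    Nonempty (fibreRing (FBase.bcπ f K) (pointOfPrime f K x q) ≃+*
      Localization.AtPrime q.asIdeal) := by
  letI : Algebra k (X.residueField x) := (resAlg f x).toAlgebra
  set t := (fiberIso f K x).inv q with ht
  have htq : (fiberIso f K x).hom t = q := by
    rw [ht, ← Scheme.Hom.comp_apply, Iso.inv_hom_id]
    rfl
  obtain ⟨e1⟩ := nonempty_fibreRing_equiv (FBase.bcπ f K) x t (pointOfPrime f K x q) rfl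
  obtain ⟨e2⟩ := nonempty_stalk_equiv_of_iso_spec (fiberIso f K x) t
  rw [htq] at e2
  exact ⟨e1.trans e2⟩

end Dict


section Gen

variable {X' X : Scheme.{u}} (π : X' ⟶ X) [Flat π] [IsLocallyNoetherian X]
  [IsLocallyNoetherian X'] (F : X.Modules) [F.IsQuasicoherent]

theorem fibre_facts_of_length_eq_one (z : X')
    (h : Module.length (X'.presheaf.stalk z)
      (((Scheme.Modules.pullback π).obj F).presheaf.stalk z) = 1) :
    Module.length (X.presheaf.stalk (π z)) (F.presheaf.stalk (π z)) = 1 ∧
      maximalIdeal (fibreRing π z) = ⊥ := by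
  rw [length_stalk_pullback] at h
  obtain ⟨ha, hb⟩ := enat_mul_eq_one h
  refine ⟨ha, ?_⟩
  rw [length_quotient_eq] at hb
  exact maximalIdeal_eq_bot_of_length_self_eq_one hb

end Gen

section LocDomain

variable {R : Type*} [CommRing R] [IsDomain R]

theorem maximalIdeal_localization_bot :
    maximalIdeal (Localization.AtPrime (⊥ : Ideal R)) = ⊥ := by
  rw [← Localization.AtPrime.map_eq_maximalIdeal, Ideal.map_bot]

theorem eq_bot_of_hasSocle_localization (q : Ideal R) [q.IsPrime]
    (h : HasSocle (Localization.AtPrime q) (Localization.AtPrime q)) : q = ⊥ := by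
  haveI : IsDomain (Localization.AtPrime q) :=
    IsLocalization.isDomain_of_le_nonZeroDivisors (R := R) (M := q.primeCompl)
      (Localization.AtPrime q) q.primeCompl_le_nonZeroDivisors
  obtain ⟨c, hc0, hc⟩ := h
  rw [eq_bot_iff]
  intro a ha
  have h1 : algebraMap R (Localization.AtPrime q) a ∈ maximalIdeal (Localization.AtPrime q) :=
    (IsLocalization.AtPrime.to_map_mem_maximal_iff (Localization.AtPrime q) q a).mpr ha
  have h2 : algebraMap R (Localization.AtPrime q) a * c = 0 := hc _ h1
  have h3 : algebraMap R (Localization.AtPrime q) a = 0 :=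
    (mul_eq_zero.mp h2).resolve_right hc0
  rw [Submodule.mem_bot]
  exact (IsLocalization.injective (Localization.AtPrime q)
    q.primeCompl_le_nonZeroDivisors) (by rw [h3, map_zero])

end LocDomain

section Main

variable {k : Type u} [Field k] {X : Scheme.{u}} (f : X ⟶ Spec (CommRingCat.of k))
  [IsLocallyNoetherian X] (F : X.Modules) [F.IsQuasicoherent]

/-- exactly one associated point, with stalk of length one -/
def IsIntMod {Y : Scheme.{u}} (G : Y.Modules) : Prop :=
  ∃ y : Y, AssSch.Ass G = {y} ∧ Module.length (Y.presheaf.stalk y) (G.presheaf.stalk y) = 1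

theorem isIntMod_of_bc_self
    (H : IsIntMod ((Scheme.Modules.pullback (FBase.bcπ f k)).obj F)) : IsIntMod F := by
  haveI := isLocallyNoetherian_bc_of_finite f k
  obtain ⟨x₀, hA, hl⟩ := H
  have hx₀ : x₀ ∈ AssSch.Ass ((Scheme.Modules.pullback (FBase.bcπ f k)).obj F) := by
    rw [hA]; rfl
  refine ⟨FBase.bcπ f k x₀, ?_, (fibre_facts_of_length_eq_one (FBase.bcπ f k) F x₀ hl).1⟩
  ext y
  constructor
  · intro hy
    obtain ⟨y₀, rfl⟩ := (surjective_bcπ f k).surj y
    have h1 := mem_ass_bc_of_finite f F k y₀ hy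
    rw [hA] at h1
    rw [Set.mem_singleton_iff.mp h1]
    rfl
  · intro hy
    rw [Set.mem_singleton_iff.mp hy]
    exact ((mem_ass_pullback_iff (FBase.bcπ f k) F x₀).mp hx₀).1

theorem isDomain_residue_tensor_of_finite (k' : Type u) [Field k'] [Algebra k k']
    [FiniteDimensional k k'] [IsLocallyNoetherian (FBase.bc f k')] (x : X)
    (hx : AssSch.Ass F = {x})
    (H : IsIntMod ((Scheme.Modules.pullback (FBase.bcπ f k')).obj F)) :
    letI : Algebra k (X.residueField x) := (resAlg f x).toAlgebra
    IsDomain (TensorProduct k (X.residueField x) k') := by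
  letI : Algebra k (X.residueField x) := (resAlg f x).toAlgebra
  obtain ⟨x', hA, hl⟩ := H
  have hall : ∀ q, pointOfPrime f k' x q = x' := by
    intro q
    have h1 : pointOfPrime f k' x q ∈
        AssSch.Ass ((Scheme.Modules.pullback (FBase.bcπ f k')).obj F) :=
      mem_ass_bc_of_finite f F k' _ (by rw [bcπ_pointOfPrime, hx]; rfl)
    rw [hA] at h1
    exact h1
  have hsub : ∀ q₁ q₂ : PrimeSpectrum (TensorProduct k (X.residueField x) k'), q₁ = q₂ :=
    fun q₁ q₂ => pointOfPrime_injective f k' x ((hall q₁).trans (hall q₂).symm)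
  haveI : Nontrivial (TensorProduct k (X.residueField x) k') :=
    Groth.Agent.H3.GeomInt.nontrivial_tensor_of_nontrivial
  obtain ⟨q₀⟩ : Nonempty (PrimeSpectrum (TensorProduct k (X.residueField x) k')) := inferInstance
  have hfld := (fibre_facts_of_length_eq_one (FBase.bcπ f k') F x' hl).2
  obtain ⟨e⟩ := nonempty_fibreRing_equiv_pointOfPrime f k' x q₀
  rw [hall q₀] at e
  have hbot : maximalIdeal (Localization.AtPrime q₀.asIdeal) = ⊥ :=
    maximalIdeal_eq_bot_of_ringEquiv e hfld
  haveI : IsReduced (TensorProduct k (X.residueField x) k') := by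
    apply isReduced_ofLocalizationMaximal
    intro J hJ
    have hJ' : J = q₀.asIdeal :=
      congrArg PrimeSpectrum.asIdeal (hsub ⟨J, hJ.isPrime⟩ q₀)
    subst hJ'
    exact isReduced_of_maximalIdeal_eq_bot hbot
  have hq0 : q₀.asIdeal = ⊥ := by
    have h1 : nilradical (TensorProduct k (X.residueField x) k') = q₀.asIdeal := by
      rw [nilradical_eq_sInf]
      apply le_antisymm
      · exact sInf_le q₀.2
      · apply le_sInf
        intro J hJ
        have hJq : J = q₀.asIdeal := congrArg PrimeSpectrum.asIdeal (hsub ⟨J, hJ⟩ q₀)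
        rw [hJq]
    rw [← h1, nilradical_eq_zero, Ideal.zero_eq_bot]
  haveI : (⊥ : Ideal (TensorProduct k (X.residueField x) k')).IsPrime := hq0 ▸ q₀.2
  exact IsDomain.of_bot_isPrime _

theorem isDomain_residue_tensor
    (H : ∀ (k' : Type u) [Field k'] [Algebra k k'] [FiniteDimensional k k'],
      IsIntMod ((Scheme.Modules.pullback (FBase.bcπ f k')).obj F))
    (x : X) (hx : AssSch.Ass F = {x}) (K : Type u) [Field K] [Algebra k K] :
    letI : Algebra k (X.residueField x) := (resAlg f x).toAlgebra
    IsDomain (TensorProduct k (X.residueField x) K) := by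
  letI : Algebra k (X.residueField x) := (resAlg f x).toAlgebra
  have h1 : ∀ (k' : Type u) [Field k'] [Algebra k k'] [Module.Finite k k'],
      IsDomain (k' ⊗[k] X.residueField x) := by
    intro k' _ _ _
    haveI := isLocallyNoetherian_bc_of_finite f k'
    haveI := isDomain_residue_tensor_of_finite f F k' x hx (H k')
    exact MulEquiv.isDomain (X.residueField x ⊗[k] k')
      (Algebra.TensorProduct.comm k k' (X.residueField x)).toRingEquiv.toMulEquiv
  haveI := Groth.Agent.H3.GeomInt.isDomain_tensor_of_forall_finite h1 K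
  exact MulEquiv.isDomain (K ⊗[k] X.residueField x)
    (Algebra.TensorProduct.comm k (X.residueField x) K).toRingEquiv.toMulEquiv

theorem isIntMod_bc_of_isDomain (x : X) (hx : AssSch.Ass F = {x})
    (hl : Module.length (X.presheaf.stalk x) (F.presheaf.stalk x) = 1)
    (K : Type u) [Field K] [Algebra k K] [IsLocallyNoetherian (FBase.bc f K)]
    (hdom : letI : Algebra k (X.residueField x) := (resAlg f x).toAlgebra
      IsDomain (TensorProduct k (X.residueField x) K)) :
    IsIntMod ((Scheme.Modules.pullback (FBase.bcπ f K)).obj F) := by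
  letI : Algebra k (X.residueField x) := (resAlg f x).toAlgebra
  haveI := hdom
  let q₀ : PrimeSpectrum (TensorProduct k (X.residueField x) K) := ⟨⊥, Ideal.isPrime_bot⟩
  set z₀ := pointOfPrime f K x q₀ with hz₀
  have hπ : FBase.bcπ f K z₀ = x := bcπ_pointOfPrime f K x q₀
  obtain ⟨e₀⟩ := nonempty_fibreRing_equiv_pointOfPrime f K x q₀
  have hbot : maximalIdeal (fibreRing (FBase.bcπ f K) z₀) = ⊥ :=
    maximalIdeal_eq_bot_of_ringEquiv e₀.symm maximalIdeal_localization_bot
  have hsoc : HasSocle ((FBase.bc f K).presheaf.stalk z₀) (fibreRing (FBase.bcπ f K) z₀) := by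
    rw [hasSocle_quotient_iff]
    refine ⟨1, one_ne_zero, fun r hr => ?_⟩
    rw [hbot, Submodule.mem_bot] at hr
    rw [hr, zero_smul]
  have hxA : FBase.bcπ f K z₀ ∈ AssSch.Ass F := by rw [hπ, hx]; rfl
  have hz₀A : z₀ ∈ AssSch.Ass ((Scheme.Modules.pullback (FBase.bcπ f K)).obj F) :=
    (mem_ass_pullback_iff (FBase.bcπ f K) F z₀).mpr ⟨hxA, hsoc⟩
  refine ⟨z₀, ?_, ?_⟩
  · ext z
    constructor
    · intro hz
      have hz' := (mem_ass_pullback_iff (FBase.bcπ f K) F z).mp hz
      have hzx : FBase.bcπ f K z = x := by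
        have := hz'.1
        rw [hx] at this
        exact this
      obtain ⟨q, rfl⟩ := exists_prime_of_bcπ_eq f K x z hzx
      obtain ⟨e⟩ := nonempty_fibreRing_equiv_pointOfPrime f K x q
      have h1 := hasSocle_of_ringEquiv e ((hasSocle_quotient_iff _).mp hz'.2)
      have h2 : q.asIdeal = ⊥ := eq_bot_of_hasSocle_localization q.asIdeal h1
      have h3 : q = q₀ := PrimeSpectrum.ext h2
      rw [h3]
      rfl
    · intro hz
      rw [Set.mem_singleton_iff.mp hz]
      exact hz₀A
  · rw [length_stalk_pullback, length_quotient_eq,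
      length_self_eq_one_of_maximalIdeal_eq_bot hbot, mul_one, hπ]
    exact hl

/-- **S4660** -/
theorem isIntMod_bc_iff :
    (∀ (k' : Type u) [Field k'] [Algebra k k'] [FiniteDimensional k k'],
        IsIntMod ((Scheme.Modules.pullback (FBase.bcπ f k')).obj F)) ↔
      ∀ (K : Type u) [Field K] [Algebra k K] [IsLocallyNoetherian (FBase.bc f K)],
        IsIntMod ((Scheme.Modules.pullback (FBase.bcπ f K)).obj F) := by
  constructor
  · intro H K _ _ _
    obtain ⟨x, hx, hl⟩ := isIntMod_of_bc_self f F (H k)
    exact isIntMod_bc_of_isDomain f F x hx hl K (isDomain_residue_tensor f F H x hx K)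
  · intro H k' _ _ _
    haveI := isLocallyNoetherian_bc_of_finite f k'
    exact H k'

end Main

end Groth.Agent.H3.FlatAss
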