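import Groth.Agent.Lib.Lead.FF.FlatSheaf
import Groth.Agent.Lib.Helper7.TrdegBC3

/-!
# The functor `F_n` (flat in dimensions `≥ n`) is an fpqc sheaf (helper3, for S9023)
-/

set_option autoImplicit false
universe u
open CategoryTheory CategoryTheory.Limits AlgebraicGeometry TopologicalSpace Opposite

namespace Groth.Agent.H3.FlatDimSheaf

open Groth.Agent.LD.QC Groth.Agent.LD.FF Groth.Agent.H7.TrdegBC

variable {X S : Scheme.{u}} (f : X ⟶ S)

/-- "flat in dimensions `≥ n`" is stable under base change `T ⟶ T₀`. -/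
theorem dimFibresLT_bc (F : X.Modules) [F.IsQuasicoherent] (n : ℕ) {T T₀ : Over S} (k : T ⟶ T₀)
    (h : FlatFun.DimFibresLT n (pullback.snd f T₀.hom)
      {x | ¬ FlatMod.IsFlatOverAt (pullback.snd f T₀.hom)
        ((Scheme.Modules.pullback (pullback.fst f T₀.hom)).obj F) x}) :
    FlatFun.DimFibresLT n (pullback.snd f T.hom)
      {x | ¬ FlatMod.IsFlatOverAt (pullback.snd f T.hom)
        ((Scheme.Modules.pullback (pullback.fst f T.hom)).obj F) x} := by
  haveI := qc_pullback (pullback.fst f T₀.hom) F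
  intro x hx
  have hc : IsPullback (bcMap f k) (pullback.snd f T.hom) (pullback.snd f T₀.hom) k.left :=
    (isPullback_bcMap f k).flip
  have hx0 : ¬ FlatMod.IsFlatOverAt (pullback.snd f T₀.hom)
      ((Scheme.Modules.pullback (pullback.fst f T₀.hom)).obj F) (bcMap f k x) := fun hfl =>
    hx ((isFlatOverAt_pullback_comp (bcMap f k) (pullback.fst f T₀.hom) (bcMap_fst f k) _ F x).1
      (isFlatOverAt_pullback_of_isPullback hc _ x hfl))
  have h1 : Dual3.resTrdeg (pullback.snd f T₀.hom) (bcMap f k x) < (n : Cardinal.{u}) :=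
    h _ hx0
  have h2 := resTrdeg_le_of_isPullback (pullback.snd f T₀.hom) k.left (bcMap f k)
    (pullback.snd f T.hom) hc x
  show Dual3.resTrdeg (pullback.snd f T.hom) x < (n : Cardinal.{u})
  exact lt_of_le_of_lt h2 h1

/-- "flat in dimensions `≥ n`" descends along jointly surjective flat families. -/
theorem dimFibresLT_of_bc (F : X.Modules) [F.IsQuasicoherent] (n : ℕ) (T : Over S) {ι : Type*}
    (Ti : ι → Over S) (g : ∀ i, Ti i ⟶ T) (hfl : ∀ i, Flat (g i).left)
    (hs : ∀ t : T.left, ∃ i, t ∈ Set.range (g i).left.base)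
    (h : ∀ i, FlatFun.DimFibresLT n (pullback.snd f (Ti i).hom)
      {x | ¬ FlatMod.IsFlatOverAt (pullback.snd f (Ti i).hom)
        ((Scheme.Modules.pullback (pullback.fst f (Ti i).hom)).obj F) x}) :
    FlatFun.DimFibresLT n (pullback.snd f T.hom)
      {x | ¬ FlatMod.IsFlatOverAt (pullback.snd f T.hom)
        ((Scheme.Modules.pullback (pullback.fst f T.hom)).obj F) x} := by
  haveI := qc_pullback (pullback.fst f T.hom) F
  intro x hx
  obtain ⟨i, ti, hti⟩ := hs ((pullback.snd f T.hom).base x)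
  have hc : IsPullback (bcMap f (g i)) (pullback.snd f (Ti i).hom) (pullback.snd f T.hom)
      (g i).left := (isPullback_bcMap f (g i)).flip
  obtain ⟨xi, hxi1, hxi2, hle⟩ := exists_resTrdeg_ge_of_isPullback (pullback.snd f T.hom)
    (g i).left (bcMap f (g i)) (pullback.snd f (Ti i).hom) hc x ti hti.symm
  haveI := hfl i
  have hnf : ¬ FlatMod.IsFlatOverAt (pullback.snd f (Ti i).hom)
      ((Scheme.Modules.pullback (pullback.fst f (Ti i).hom)).obj F) xi := fun hfl' => hx (by
    have h1 := isFlatOverAt_of_pullback_of_isPullback hc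
      ((Scheme.Modules.pullback (pullback.fst f T.hom)).obj F) xi
      (Flat.stalkMap (g i).left _)
      ((isFlatOverAt_pullback_comp (bcMap f (g i)) (pullback.fst f T.hom) (bcMap_fst f (g i)) _ F
        xi).2 hfl')
    rwa [hxi1] at h1)
  have h1 : Dual3.resTrdeg (pullback.snd f (Ti i).hom) xi < (n : Cardinal.{u}) := h i xi hnf
  show Dual3.resTrdeg (pullback.snd f T.hom) x < (n : Cardinal.{u})
  exact lt_of_le_of_lt hle h1

/-- **S9023.** -/
theorem s9023 (F : X.Modules) [F.IsQuasicoherent] (n : ℕ) :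
    Presheaf.IsSheaf (QuotSh.J Scheme.fpqcPrecoverage S)
      (FlatFun.genPSp S (fun T => FlatFun.DimFibresLT n (PicF.XTproj f T)
        {x | ¬ FlatMod.IsFlatOverAt (PicF.XTproj f T) (FGA.ET f F T) x})) := by
  apply isSheaf_genPSp Scheme.fpqcPrecoverage _
    (fun T T₀ k hk => dimFibresLT_bc f F n k hk)
  intro T R hR hloc
  obtain ⟨ι, Z, g, rfl⟩ := R.exists_eq_ofArrows
  obtain ⟨hs, hfl⟩ := fpqc_flat_surj g hR
  refine dimFibresLT_of_bc f F n T (fun i => Over.mk (g i ≫ T.hom))
    (fun i => Over.homMk (g i)) hfl hs ?_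
  intro i
  exact hloc (g i) ⟨i⟩

end Groth.Agent.H3.FlatDimSheaf
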