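import Mathlib
import Groth.Prelude.Def_AlgSt
import Groth.Agent.Lib.Helper3.FibCatAux

set_option autoImplicit false

universe w v₄ u₄ v₃ u₃ v₂ u₂ v u

open CategoryTheory CategoryTheory.Functor CategoryTheory.Limits Opposite

namespace Groth.Agent.H3.FpFaithful

open Groth.Agent.H3.FibCatAux

variable {C : Type u} [Category.{v} C] {𝒳 : BasedCategory.{v₂, u₂} C} {𝒴 : BasedCategory.{v₃, u₃} C}
  {𝒮 : BasedCategory.{v₄, u₄} C}

lemma fpFst_faithful (F : 𝒳 ⥤ᵇ 𝒮) (G : 𝒴 ⥤ᵇ 𝒮) [G.toFunctor.Faithful] :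
    (FibCat.fpFst F G).toFunctor.Faithful where
  map_injective {X Y} φ ψ h := by
    have h1 : φ.hom.fst = ψ.hom.fst := h
    apply fp_hom_ext h1
    apply G.toFunctor.map_injective
    have e1 := φ.hom.w
    have e2 := ψ.hom.w
    rw [h1] at e1
    have := e1.symm.trans e2
    exact (cancel_epi X.obj.iso.hom).mp this

lemma thin_fiber_of_faithful {𝒵 : Type u₂} [Category.{v₂} 𝒵] {B : Type u₃} [Category.{v₃} B]
    (q : 𝒵 ⥤ B) [q.Faithful] (A : B) : Quiver.IsThin (q.Fiber A) := by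
  intro a b
  constructor
  intro φ ψ
  have hφ : q.IsHomLift (𝟙 A) φ.1 := φ.2
  have hψ : q.IsHomLift (𝟙 A) ψ.1 := ψ.2
  apply Fiber.hom_ext
  change φ.1 = ψ.1
  apply q.map_injective
  rw [IsHomLift.fac' q (𝟙 A) φ.1, IsHomLift.fac' q (𝟙 A) ψ.1]

theorem isFibSetoid_fpFst_diag {𝒮 : BasedCategory.{v₂, u₂} C} (h𝒮 : FibCat.IsFibGrpd 𝒮.p)
    {𝒲 : BasedCategory.{v₃, u₃} C} (P : 𝒲 ⥤ᵇ FibCat.fp (FibCat.toSelf 𝒮) (FibCat.toSelf 𝒮)) :
    FibCat.IsFibSetoid (FibCat.fpFst P (FibCat.diag (FibCat.toSelf 𝒮))).toFunctor := by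
  have h1 : FibCat.IsFibGrpd (FibCat.fp (FibCat.toSelf 𝒮) (FibCat.toSelf 𝒮)).p :=
    X6401 _ _ h𝒮 h𝒮 isFibGrpd_id
  have := diag_faithful (FibCat.toSelf 𝒮)
  have := fpFst_faithful P (FibCat.diag (FibCat.toSelf 𝒮))
  exact ⟨isFibGrpd_fpFst P _ h𝒮 h1, fun A => thin_fiber_of_faithful _ A⟩

end Groth.Agent.H3.FpFaithful
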