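import Mathlib
import Groth.Agent.Lib.Helper3.SepKrull5

set_option autoImplicit false

universe u

open TensorProduct

namespace Groth.Agent.H3.FpSep

open Groth.Agent.H3.SepCol Groth.Agent.H3.SepKrull

section T1

variable {R : Type u} [CommRing R] (P : Type u) [CommRing P] [Algebra R P]
  (M : Type u) [AddCommGroup M] [Module R M]

/-- base change of the localization map kills exactly the power torsion -/
theorem lTensor_mkLinearMap_eq_zero_iff (g : R) (y : P ⊗[R] M) :
    (LocalizedModule.mkLinearMap (Submonoid.powers g) M).lTensor P y = 0 ↔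
      ∃ k : ℕ, g ^ k • y = 0 := by
  set v := LocalizedModule.mkLinearMap (Submonoid.powers g) M with hv
  haveI : IsLocalizedModule (Submonoid.powers g) (AlgebraTensorModule.rTensor R P v) :=
    inferInstance
  have h1 : v.lTensor P y = TensorProduct.comm R _ P
      ((AlgebraTensorModule.rTensor R P v) (TensorProduct.comm R P M y)) := by
    have := congrArg (fun φ => φ y) (LinearMap.comm_comp_rTensor_comp_comm_eq (Q := P) v)
    exact this.symm
  rw [h1, LinearEquiv.map_eq_zero_iff,
    IsLocalizedModule.eq_zero_iff (Submonoid.powers g) (AlgebraTensorModule.rTensor R P v)]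
  constructor
  · rintro ⟨⟨_, k, rfl⟩, hk⟩
    refine ⟨k, ?_⟩
    have h2 : g ^ k • (TensorProduct.comm R P M) y = 0 := hk
    rw [← map_smul, LinearEquiv.map_eq_zero_iff] at h2
    exact h2
  · rintro ⟨k, hk⟩
    refine ⟨⟨g ^ k, k, rfl⟩, ?_⟩
    change g ^ k • (TensorProduct.comm R P M) y = 0
    rw [← map_smul, hk, map_zero]

end T1

section Defs

variable {R : Type u} [CommRing R]

/-- the standard family of localizations of `M` at a family of elements -/
abbrev Nloc (M : Type u) [AddCommGroup M] [Module R M] {ι : Type u} (g : ι → R) (i : ι) : Type u :=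
  LocalizedModule (Submonoid.powers (g i)) M

/-- the localization maps -/
noncomputable abbrev vloc (M : Type u) [AddCommGroup M] [Module R M] {ι : Type u} (g : ι → R)
    (i : ι) : M →ₗ[R] Nloc M g i :=
  LocalizedModule.mkLinearMap (Submonoid.powers (g i)) M

variable (P : Type u) [CommRing P] [Algebra R P] (M : Type u) [AddCommGroup M] [Module R M]
  {ι : Type u} (g : ι → R)

/-- elementwise form of torsion separation for the standard localization family -/
theorem torsionSep_iff :
    TorsionSep R P M (Nloc M g) (vloc M g) ↔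
      ∀ (b : P) (y : P ⊗[R] M), (∀ i, ∃ n k : ℕ, g i ^ k • b ^ n • y = 0) →
        ∃ n : ℕ, b ^ n • y = 0 := by
  constructor
  · intro h b y hy
    refine h b y (fun i => ?_)
    obtain ⟨n, k, hk⟩ := hy i
    refine ⟨n, ?_⟩
    rw [← lTensor_smul, lTensor_mkLinearMap_eq_zero_iff]
    exact ⟨k, hk⟩
  · intro h b y hy
    refine h b y (fun i => ?_)
    obtain ⟨n, hn⟩ := hy i
    rw [← lTensor_smul, lTensor_mkLinearMap_eq_zero_iff] at hn
    obtain ⟨k, hk⟩ := hn
    exact ⟨n, k, hk⟩

end Defs

end Groth.Agent.H3.FpSep
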