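import Mathlib
import Groth.Agent.Lib.Helper3.FpSepA
import Groth.Agent.Lib.Helper1.RegFib2

set_option autoImplicit false

universe u

open TensorProduct

namespace Groth.Agent.H3.FpSep

open Groth.Agent.H3.SepCol Groth.Agent.H3.SepKrull

section AssLemma

variable {Q : Type u} [CommRing Q] [IsNoetherianRing Q] {L : Type u} [AddCommGroup L] [Module Q L]

/-- an element not killed by any power of `β` has an associated prime above its annihilator which
avoids `β` -/
theorem exists_isAssociatedPrime_notMem (β : Q) (ξ : L) (h : ∀ n : ℕ, β ^ n • ξ ≠ 0) :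
    ∃ Q' : Ideal Q, IsAssociatedPrime Q' L ∧ (∀ x : Q, x • ξ = 0 → x ∈ Q') ∧ β ∉ Q' := by
  simp only [isAssociatedPrime_iff]
  obtain ⟨P, ⟨l, y, hy, rfl⟩, h₃⟩ :=
    set_has_maximal_iff_noetherian.mpr (inferInstance : IsNoetherianRing Q)
      { P | (⊥ : Submodule Q L).colon {ξ} ≤ P ∧
        ∃ y : L, (∀ n : ℕ, β ^ n • y ≠ 0) ∧ P = (⊥ : Submodule Q L).colon {y} }
      ⟨_, le_rfl, ξ, h, rfl⟩
  have hmono : ∀ a : Q, (⊥ : Submodule Q L).colon {y} ≤ (⊥ : Submodule Q L).colon {a • y} := by
    intro a c hc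
    rw [Submodule.mem_colon_singleton, Submodule.mem_bot] at hc ⊢
    rw [smul_comm, hc, smul_zero]
  -- maximality: every admissible multiple of `y` has the same annihilator
  have hmax : ∀ a : Q, (∀ n : ℕ, β ^ n • a • y ≠ 0) →
      (⊥ : Submodule Q L).colon {a • y} = (⊥ : Submodule Q L).colon {y} := by
    intro a ha
    exact ((hmono a).eq_of_not_lt (h₃ _ ⟨l.trans (hmono a), a • y, ha, rfl⟩)).symm
  have hβpow : ∀ k : ℕ, (⊥ : Submodule Q L).colon {β ^ k • y} = (⊥ : Submodule Q L).colon {y} := by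
    intro k
    apply hmax
    intro n
    rw [smul_smul, ← pow_add]
    exact hy _
  refine ⟨_, ⟨⟨?_, ?_⟩, y, rfl⟩, ?_, ?_⟩
  · intro htop
    have : (1 : Q) ∈ (⊥ : Submodule Q L).colon {y} := by rw [htop]; trivial
    rw [Submodule.mem_colon_singleton, Submodule.mem_bot, one_smul] at this
    have := hy 0
    rw [pow_zero, one_smul] at this
    exact this ‹_›
  · intro a b hab
    rw [or_iff_not_imp_left]
    intro ha
    rw [Submodule.mem_colon_singleton, Submodule.mem_bot] at ha hab
    have hay : ∀ n : ℕ, β ^ n • a • y ≠ 0 := by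
      intro n hn
      apply ha
      have h1 : a ∈ (⊥ : Submodule Q L).colon {β ^ n • y} := by
        rw [Submodule.mem_colon_singleton, Submodule.mem_bot, smul_comm]
        exact hn
      rw [hβpow n, Submodule.mem_colon_singleton, Submodule.mem_bot] at h1
      exact h1
    rw [← hmax a hay, Submodule.mem_colon_singleton, Submodule.mem_bot, smul_smul, mul_comm]
    exact hab
  · intro x hx
    apply l
    rw [Submodule.mem_colon_singleton, Submodule.mem_bot]
    exact hx
  · intro hβ
    rw [Submodule.mem_colon_singleton, Submodule.mem_bot] at hβ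
    have := hy 1
    rw [pow_one] at this
    exact this hβ

end AssLemma

section Avoid

variable {R Q : Type u} [CommRing R] [CommRing Q] [Algebra R Q] [IsNoetherianRing Q]
  {L : Type u} [AddCommGroup L] [Module Q L] [Module.Finite Q L]

/-- prime avoidance on the associated primes of a fibre -/
theorem exists_avoid {ι : Type u} (g : ι → R) (β : Q)
    (h : ∀ y : L, (∀ i, algebraMap R Q (g i) • y = 0) → ∃ n : ℕ, β ^ n • y = 0) :
    ∃ r ∈ Ideal.span (Set.range g), ∀ ξ : L, algebraMap R Q r • ξ = 0 → ∃ n : ℕ, β ^ n • ξ = 0 := by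
  classical
  set s : Finset (Ideal Q) := (associatedPrimes.finite Q L).toFinset.filter (fun Q' => β ∉ Q')
    with hs
  have hsmem : ∀ Q' : Ideal Q, Q' ∈ s ↔ IsAssociatedPrime Q' L ∧ β ∉ Q' := by
    intro Q'
    rw [hs, Finset.mem_filter, Set.Finite.mem_toFinset]
    exact Iff.rfl
  have hnot : ¬ ∃ Q' ∈ s, Ideal.span (Set.range g) ≤ Q'.comap (algebraMap R Q) := by
    rintro ⟨Q', hQ's, hle⟩
    obtain ⟨hass, hβ⟩ := (hsmem Q').1 hQ's
    obtain ⟨hprime, x, rfl⟩ := isAssociatedPrime_iff.1 hass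
    obtain ⟨n, hn⟩ := h x (fun i => by
      have h1 : g i ∈ Ideal.span (Set.range g) := Ideal.subset_span ⟨i, rfl⟩
      have h2 := hle h1
      rw [Ideal.mem_comap, Submodule.mem_colon_singleton, Submodule.mem_bot] at h2
      exact h2)
    apply hβ
    apply hprime.mem_of_pow_mem n
    rw [Submodule.mem_colon_singleton, Submodule.mem_bot]
    exact hn
  have hav := (Ideal.subset_union_prime (s := s) (f := fun Q' => Q'.comap (algebraMap R Q))
    (⊥ : Ideal Q) ⊥ (fun Q' hQ' _ _ => by
      haveI := ((hsmem Q').1 hQ').1.isPrime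
      exact Ideal.comap_isPrime _ _) (I := Ideal.span (Set.range g))).not.2 hnot
  rw [Set.not_subset] at hav
  obtain ⟨r, hr, hrn⟩ := hav
  refine ⟨r, hr, ?_⟩
  intro ξ hξ
  by_contra hne
  push Not at hne
  obtain ⟨Q', hass, hann, hβ⟩ := exists_isAssociatedPrime_notMem β ξ hne
  apply hrn
  simp only [Set.mem_iUnion, SetLike.mem_coe, exists_prop]
  exact ⟨Q', (hsmem Q').2 ⟨hass, hβ⟩, Ideal.mem_comap.2 (hann _ hξ)⟩

end Avoid

end Groth.Agent.H3.FpSep
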