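import Mathlib
import Groth.Agent.Lib.Helper3.FpSepB
import Groth.Agent.Lib.Helper1.FibreFree

set_option autoImplicit false

universe u

open TensorProduct

namespace Groth.Agent.H3.FpSep

open Groth.Agent.H3.SepCol Groth.Agent.H3.SepKrull

section Ideal

variable {R : Type u} [CommRing R] {M : Type u} [AddCommGroup M] [Module R M]

/-- the elements `x` with `(b x)`-power torsion on `m` form an ideal -/
theorem exists_pow_of_mem_span {ι : Type u} (g : ι → R) (b : R) (m : M)
    (hm : ∀ i, ∃ n : ℕ, (b * g i) ^ n • m = 0) (r : R) (hr : r ∈ Ideal.span (Set.range g)) :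
    ∃ n : ℕ, (b * r) ^ n • m = 0 := by
  refine Submodule.span_induction (p := fun r _ => ∃ n : ℕ, (b * r) ^ n • m = 0) ?_ ?_ ?_ ?_ hr
  · rintro _ ⟨i, rfl⟩
    exact hm i
  · exact ⟨1, by simp⟩
  · rintro x y _ _ ⟨n, hn⟩ ⟨k, hk⟩
    refine ⟨n + k, ?_⟩
    rw [mul_add, add_pow, Finset.sum_smul]
    refine Finset.sum_eq_zero (fun j hj => ?_)
    rw [Finset.mem_range] at hj
    by_cases hjn : n ≤ j
    · obtain ⟨j', rfl⟩ := Nat.exists_eq_add_of_le hjn
      have h1 : (b * x) ^ (n + j') * (b * y) ^ (n + k - (n + j')) * ((n + k).choose (n + j') : R) =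
          ((b * x) ^ j' * (b * y) ^ (n + k - (n + j')) * ((n + k).choose (n + j') : R)) *
            (b * x) ^ n := by ring
      rw [h1, mul_smul, hn, smul_zero]
    · have hk' : k ≤ n + k - j := by omega
      obtain ⟨k', hk'⟩ := Nat.exists_eq_add_of_le hk'
      have h1 : (b * x) ^ j * (b * y) ^ (n + k - j) * ((n + k).choose j : R) =
          ((b * x) ^ j * (b * y) ^ k' * ((n + k).choose j : R)) * (b * y) ^ k := by
        rw [hk']; ring
      rw [h1, mul_smul, hk, smul_zero]
  · rintro a x _ ⟨n, hn⟩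
    refine ⟨n, ?_⟩
    rw [smul_eq_mul, ← mul_assoc, mul_comm b a, mul_assoc, mul_pow, mul_smul, hn, smul_zero]

end Ideal

section Main

variable {A R : Type u} [CommRing A] [CommRing R] [Algebra A R]
  {M : Type u} [AddCommGroup M] [Module R M] [Module A M] [IsScalarTower A R M]

/-- the linear equivalence between the two forms of the fibre module -/
noncomputable def Φ (K : Type u) [CommRing K] [Algebra A K] :
    (R ⊗[A] K) ⊗[R] M ≃ₗ[R] M ⊗[A] K :=
  (TensorProduct.comm R (R ⊗[A] K) M) ≪≫ₗ (AlgebraTensorModule.cancelBaseChange A R R M K)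

theorem isNoetherianRing_tensor_field [Algebra.FiniteType A R] (K : Type u) [Field K]
    [Algebra A K] : IsNoetherianRing (R ⊗[A] K) := by
  haveI : IsNoetherianRing (K ⊗[A] R) := Algebra.FiniteType.isNoetherianRing K _
  exact isNoetherianRing_of_ringEquiv (K ⊗[A] R) (Algebra.TensorProduct.comm A K R).toRingEquiv

variable [Algebra.FinitePresentation A R] [Module.FinitePresentation R M] [Module.Flat A M]

open Groth.Agent.H1 in
/-- **fibrewise criterion**, absolute elementwise form, for finitely presented flat modules over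
finitely presented algebras (no noetherian hypothesis). -/
theorem elementwise_of_fibres {ι : Type u} (g : ι → R)
    (hF : ∀ (𝔭 : Ideal A) [𝔭.IsPrime],
      TorsionSep R (R ⊗[A] 𝔭.ResidueField) M (Nloc M g) (vloc M g))
    (b : R) (m : M) (hm : ∀ i, ∃ n : ℕ, (b * g i) ^ n • m = 0) : ∃ n : ℕ, b ^ n • m = 0 := by
  by_contra hne
  push Not at hne
  set I : Ideal R := (⊥ : Submodule R M).colon {m} with hI
  have hdisj : Disjoint (I : Set R) (Submonoid.powers b : Set R) := by
    rw [Set.disjoint_left]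
    rintro x hx ⟨n, rfl⟩
    rw [SetLike.mem_coe, hI, Submodule.mem_colon_singleton, Submodule.mem_bot] at hx
    exact hne n hx
  obtain ⟨q, hq, hIq, hqb⟩ := Ideal.exists_le_prime_disjoint I (Submonoid.powers b) hdisj
  have hbq : ∀ n : ℕ, b ^ n ∉ q := fun n hn => Set.disjoint_left.1 hqb hn ⟨n, rfl⟩
  haveI : (q.comap (algebraMap A R)).IsPrime := Ideal.comap_isPrime _ _
  haveI : Algebra.FiniteType A R := inferInstance
  haveI : IsNoetherianRing (R ⊗[A] (q.comap (algebraMap A R)).ResidueField) :=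
    isNoetherianRing_tensor_field _
  have hel := (torsionSep_iff (R ⊗[A] (q.comap (algebraMap A R)).ResidueField) M g).1
    (hF (q.comap (algebraMap A R)))
  obtain ⟨r, hr, hreg⟩ := exists_avoid
    (Q := R ⊗[A] (q.comap (algebraMap A R)).ResidueField)
    (L := (R ⊗[A] (q.comap (algebraMap A R)).ResidueField) ⊗[R] M) g
    (algebraMap R (R ⊗[A] (q.comap (algebraMap A R)).ResidueField) b) (by
    intro y hy
    refine hel _ y (fun i => ⟨0, 1, ?_⟩)
    rw [pow_zero, one_smul, pow_one, ← algebraMap_smul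
      (R ⊗[A] (q.comap (algebraMap A R)).ResidueField)]
    exact hy i)
  have hfib : ∀ ξ : M ⊗[A] (q.comap (algebraMap A R)).ResidueField,
      (∃ σ ∈ q.primeCompl, σ • r • ξ ∈
        ((⊥ : Ideal R) • ⊤ : Submodule R (M ⊗[A] (q.comap (algebraMap A R)).ResidueField))) →
      ∃ τ ∈ q.primeCompl, τ • ξ ∈
        ((⊥ : Ideal R) • ⊤ : Submodule R (M ⊗[A] (q.comap (algebraMap A R)).ResidueField)) := by
    rintro ξ' ⟨σ, hσ, hσr⟩
    rw [Submodule.bot_smul, Submodule.mem_bot] at hσr
    set ξ := (Φ (R := R) (M := M) (q.comap (algebraMap A R)).ResidueField).symm ξ' with hξ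
    have h1 : algebraMap R (R ⊗[A] (q.comap (algebraMap A R)).ResidueField) r • (σ • ξ) = 0 := by
      rw [algebraMap_smul, hξ, ← map_smul, ← map_smul, smul_comm, hσr, map_zero]
    obtain ⟨n, hn⟩ := hreg _ h1
    rw [← map_pow, algebraMap_smul, hξ, ← map_smul, ← map_smul,
      LinearEquiv.map_eq_zero_iff] at hn
    refine ⟨b ^ n * σ, q.primeCompl.mul_mem (hbq n) hσ, ?_⟩
    rw [Submodule.bot_smul, Submodule.mem_bot, mul_smul]
    exact hn
  have hflat : Module.Flat A (LocalizedModule q.primeCompl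
      (M ⧸ ((⊥ : Ideal R) • ⊤ : Submodule R M))) := by
    haveI : Module.Flat A (LocalizedModule q.primeCompl M) :=
      FibreFree.flat_localizedModule_of_flat q.primeCompl
    have h0 : ((⊥ : Ideal R) • (⊤ : Submodule R M)) = ⊥ := Submodule.bot_smul _
    exact LimFlat.flat_localizedModule_congr q.primeCompl (Submodule.quotEquivOfEqBot _ h0).symm
  obtain ⟨hstep, -⟩ := RegFib.step M q ⊥ Submodule.fg_bot r hflat hfib
  obtain ⟨N, hN⟩ := exists_pow_of_mem_span g b m hm r hr
  have key : ∀ j : ℕ, (∃ σ ∈ q.primeCompl, σ • r ^ j • m = 0) → ∃ τ ∈ q.primeCompl, τ • m = 0 := by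
    intro j
    induction j with
    | zero =>
      rintro ⟨σ, hσ, h⟩
      rw [pow_zero, one_smul] at h
      exact ⟨σ, hσ, h⟩
    | succ j ih =>
      rintro ⟨σ, hσ, h⟩
      obtain ⟨τ, hτ, hτm⟩ := hstep (r ^ j • m) ⟨σ, hσ, by
        rw [Submodule.bot_smul, Submodule.mem_bot, smul_smul r, ← pow_succ']
        exact h⟩
      rw [Submodule.bot_smul, Submodule.mem_bot] at hτm
      exact ih ⟨τ, hτ, hτm⟩
  obtain ⟨τ, hτ, hτm⟩ := key N ⟨b ^ N, hbq N, by rw [smul_smul, ← mul_pow]; exact hN⟩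
  apply hτ
  apply hIq
  rw [hI, Submodule.mem_colon_singleton, Submodule.mem_bot]
  exact hτm

end Main

end Groth.Agent.H3.FpSep
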