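import Mathlib
import Groth.Agent.Lib.Helper3.FpSepC

set_option autoImplicit false

universe u

open TensorProduct

namespace Groth.Agent.H3.FpSep

open Groth.Agent.H3.SepCol Groth.Agent.H3.SepKrull

section PowMul

variable {P : Type u} [CommRing P] {L : Type u} [AddCommGroup L] [Module P L]

lemma exists_pow_mul_iff (b γ : P) (y : L) :
    (∃ n k : ℕ, γ ^ k • b ^ n • y = 0) ↔ ∃ n : ℕ, (b * γ) ^ n • y = 0 := by
  constructor
  · rintro ⟨n, k, h⟩
    refine ⟨n + k, ?_⟩
    have h1 : (b * γ) ^ (n + k) = (b ^ k * γ ^ n) * (γ ^ k * b ^ n) := by ring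
    rw [h1, mul_smul, mul_smul (γ ^ k) (b ^ n) y, h, smul_zero]
  · rintro ⟨n, h⟩
    refine ⟨n, n, ?_⟩
    rw [smul_smul, ← mul_pow, mul_comm]
    exact h

end PowMul

section Abstract

attribute [local instance] Algebra.TensorProduct.rightAlgebra

/-- **fibrewise criterion**, finitely presented case, abstract pushout form -/
theorem torsionSep_of_fibres_fp_abstract {A R : Type u} (C₀ : Type u) {P : Type u} [CommRing A]
    [CommRing R] [CommRing C₀] [CommRing P]
    [Algebra A R] [Algebra A C₀] [Algebra R P] [Algebra C₀ P] [Algebra A P] [IsScalarTower A R P]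
    [IsScalarTower A C₀ P] [Algebra.IsPushout A R C₀ P] [Algebra.FinitePresentation A R]
    {M : Type u} [AddCommGroup M] [Module R M] [Module A M] [IsScalarTower A R M]
    [Module.FinitePresentation R M] [Module.Flat A M]
    {ι : Type u} (g : ι → R)
    (hF : ∀ (𝔭 : Ideal A) [𝔭.IsPrime],
      TorsionSep R (R ⊗[A] 𝔭.ResidueField) M (Nloc M g) (vloc M g)) :
    TorsionSep R P M (Nloc M g) (vloc M g) := by
  haveI hpo' : Algebra.IsPushout A C₀ R P := Algebra.IsPushout.symm inferInstance
  haveI hfpP : Algebra.FinitePresentation C₀ P :=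
    Algebra.FinitePresentation.equiv (Algebra.IsPushout.equiv A C₀ R P)
  haveI hflat : Module.Flat C₀ (P ⊗[R] M) :=
    Module.Flat.of_linearEquiv (Algebra.IsPushout.cancelBaseChange A C₀ R P M)
  -- the fibres of the base-changed situation
  have hF' : ∀ (𝔭' : Ideal C₀) [𝔭'.IsPrime],
      TorsionSep P (P ⊗[C₀] 𝔭'.ResidueField) (P ⊗[R] M)
        (Nloc (P ⊗[R] M) (fun i => algebraMap R P (g i)))
        (vloc (P ⊗[R] M) (fun i => algebraMap R P (g i))) := by
    intro 𝔭' _
    haveI : (Ideal.comap (algebraMap A C₀) 𝔭').IsPrime := Ideal.comap_isPrime _ _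
    have h1 := hF (Ideal.comap (algebraMap A C₀) 𝔭')
    letI algKK' : Algebra (Ideal.comap (algebraMap A C₀) 𝔭').ResidueField 𝔭'.ResidueField :=
      (Ideal.ResidueField.map (Ideal.comap (algebraMap A C₀) 𝔭') 𝔭' (algebraMap A C₀)
        rfl).toAlgebra
    haveI : IsScalarTower A (Ideal.comap (algebraMap A C₀) 𝔭').ResidueField 𝔭'.ResidueField := by
      refine IsScalarTower.of_algebraMap_eq fun a => ?_
      change _ = Ideal.ResidueField.map (Ideal.comap (algebraMap A C₀) 𝔭') 𝔭' (algebraMap A C₀)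
        rfl (algebraMap A _ a)
      rw [Ideal.ResidueField.map_algebraMap, ← IsScalarTower.algebraMap_apply]
    have h2 : TorsionSep R ((R ⊗[A] (Ideal.comap (algebraMap A C₀) 𝔭').ResidueField)
        ⊗[(Ideal.comap (algebraMap A C₀) 𝔭').ResidueField] 𝔭'.ResidueField) M (Nloc M g)
        (vloc M g) :=
      torsionSep_fieldExt h1
    have h3 : TorsionSep R (R ⊗[A] 𝔭'.ResidueField) M (Nloc M g) (vloc M g) :=
      h2.of_algEquiv (Algebra.IsPushout.cancelBaseChangeAlg A R
        (Ideal.comap (algebraMap A C₀) 𝔭').ResidueField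
        (R ⊗[A] (Ideal.comap (algebraMap A C₀) 𝔭').ResidueField) 𝔭'.ResidueField)
    have h4 : TorsionSep R (P ⊗[C₀] 𝔭'.ResidueField) M (Nloc M g) (vloc M g) :=
      h3.of_algEquiv (Algebra.IsPushout.cancelBaseChangeAlg A R C₀ P 𝔭'.ResidueField).symm
    have h5 := (torsionSep_iff (P ⊗[C₀] 𝔭'.ResidueField) M g).1 h4
    rw [torsionSep_iff]
    intro β y hy
    obtain ⟨n, hn⟩ := h5 β (AlgebraTensorModule.cancelBaseChange R P (P ⊗[C₀] 𝔭'.ResidueField)
      (P ⊗[C₀] 𝔭'.ResidueField) M y) (by
      intro i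
      obtain ⟨n, k, hk⟩ := hy i
      refine ⟨n, k, ?_⟩
      have h6 : (algebraMap R (P ⊗[C₀] 𝔭'.ResidueField) (g i)) ^ k • β ^ n • y = 0 := by
        rw [IsScalarTower.algebraMap_apply R P (P ⊗[C₀] 𝔭'.ResidueField), ← map_pow,
          algebraMap_smul]
        exact hk
      rw [← algebraMap_smul (P ⊗[C₀] 𝔭'.ResidueField) (g i ^ k), map_pow, ← map_smul,
        ← map_smul, h6, map_zero])
    refine ⟨n, ?_⟩
    rw [← map_smul, LinearEquiv.map_eq_zero_iff] at hn
    exact hn
  rw [torsionSep_iff]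
  intro b y hy
  refine elementwise_of_fibres (A := C₀) (R := P) (M := P ⊗[R] M)
    (fun i => algebraMap R P (g i)) (fun 𝔭' _ => hF' 𝔭') b y (fun i => ?_)
  have := (exists_pow_mul_iff b (algebraMap R P (g i)) y).1 (by
    obtain ⟨n, k, hk⟩ := hy i
    refine ⟨n, k, ?_⟩
    rw [← map_pow, algebraMap_smul]
    exact hk)
  exact this

/-- **fibrewise criterion**, finitely presented case: a family of localizations of a finitely
presented `A`-flat module over a finitely presented `A`-algebra which is torsion separating on all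
fibres is universally torsion separating. -/
theorem torsionSep_of_fibres_fp {A R A' : Type u} [CommRing A] [CommRing R] [CommRing A']
    [Algebra A R] [Algebra A A'] [Algebra.FinitePresentation A R]
    {M : Type u} [AddCommGroup M] [Module R M] [Module A M] [IsScalarTower A R M]
    [Module.FinitePresentation R M] [Module.Flat A M]
    {ι : Type u} (g : ι → R)
    (hF : ∀ (𝔭 : Ideal A) [𝔭.IsPrime],
      TorsionSep R (R ⊗[A] 𝔭.ResidueField) M (Nloc M g) (vloc M g)) :
    TorsionSep R (R ⊗[A] A') M (Nloc M g) (vloc M g) :=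
  torsionSep_of_fibres_fp_abstract A' g hF

end Abstract

end Groth.Agent.H3.FpSep
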