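import Mathlib
import Groth.Agent.Lib.Helper3.FpSepD
import Groth.Agent.Lib.Helper3.SepKrull7
import Groth.Agent.Lib.Lead.QC.FinPres

set_option autoImplicit false

universe u

open AlgebraicGeometry CategoryTheory CategoryTheory.Limits Opposite TensorProduct TopologicalSpace

namespace Groth.Agent.H3.FpSep

open Groth.Agent.H3.SepGF Groth.Agent.LD.QC Groth.Agent.H5.Lim Groth.Agent.H3.SepArt
  Groth.Agent.H3.SepCol Groth.Agent.H3.SepField Groth.Agent.H3.SepKrull

section Units

variable {X : Scheme.{u}}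

/-- a section is invertible on every open inside its basic open -/
theorem isUnit_res_of_le_basicOpen {W O : X.Opens} (b : Γ(X, W)) (h : O ≤ X.basicOpen b) :
    IsUnit (X.presheaf.map (homOfLE (h.trans (X.basicOpen_le b))).op b) := by
  have h1 := (X.toRingedSpace.isUnit_res_basicOpen b).map (X.presheaf.map (homOfLE h).op).hom
  have h2 : X.presheaf.map (homOfLE h).op (X.presheaf.map (homOfLE (X.basicOpen_le b)).op b) =
      X.presheaf.map (homOfLE (h.trans (X.basicOpen_le b))).op b := sres_res _ _ _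
  rw [← h2]
  exact h1

/-- a section of a module killed by a function invertible on `O` vanishes on `O` -/
theorem res_eq_zero_of_smul_eq_zero (M : X.Modules) {W O : X.Opens} (hOW : O ≤ W)
    (c : Γ(X, W)) (hc : IsUnit (X.presheaf.map (homOfLE hOW).op c)) (s : Γ(M, W))
    (hs : c • s = 0) : M.presheaf.map (homOfLE hOW).op s = 0 := by
  have h1 := congrArg (M.presheaf.map (homOfLE hOW).op) hs
  rw [Scheme.Modules.map_smul, map_zero] at h1
  obtain ⟨w, hw⟩ := hc
  have h2 := congrArg (fun z => (↑w⁻¹ : Γ(X, O)) • z) h1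
  simp only [smul_zero] at h2
  rw [← hw, smul_smul, Units.inv_mul, one_smul] at h2
  exact h2

end Units

section SL1

variable {X X' : Scheme.{u}}

/-- injectivity of the restrictions to the preimage of `U` for the pulled back module gives torsion
separation on sections over affine charts, for the family of basic opens inside `U`. -/
theorem torsionSep_of_restrict_injective (g₀ : X' ⟶ X) (F : X.Modules) [F.IsQuasicoherent]
    (U : X.Opens)
    (h' : ∀ V : X'.Opens, Function.Injective
      (((Scheme.Modules.pullback g₀).obj F).presheaf.map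
        (homOfLE (inf_le_left : V ⊓ g₀ ⁻¹ᵁ U ≤ V)).op))
    {UX : X.Opens} {U' : X'.Opens} (hUX : IsAffineOpen UX) (hU' : IsAffineOpen U')
    (e : U' ≤ g₀ ⁻¹ᵁ UX) :
    letI := (g₀.appLE UX U' e).hom.toAlgebra
    TorsionSep Γ(X, UX) Γ(X', U') Γ(F, UX)
      (Nloc Γ(F, UX) (fun i : {g : Γ(X, UX) // X.basicOpen g ≤ U} => i.1))
      (vloc Γ(F, UX) (fun i : {g : Γ(X, UX) // X.basicOpen g ≤ U} => i.1)) := by
  letI alg : Algebra Γ(X, UX) Γ(X', U') := (g₀.appLE UX U' e).hom.toAlgebra
  haveI := qc_pullback g₀ F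
  rw [torsionSep_iff]
  intro b y hy
  obtain ⟨e₀, -, h₀, -, -⟩ := pullback_map_app_equiv g₀ hU' hUX e (𝟙 F)
  have hres : ((Scheme.Modules.pullback g₀).obj F).presheaf.map
      (homOfLE (X'.basicOpen_le b)).op (e₀ y) = 0 := by
    apply h' (X'.basicOpen b)
    rw [map_zero]
    refine section_ext_of_cover ((Scheme.Modules.pullback g₀).obj F)
      (fun i : {g : Γ(X, UX) // X.basicOpen g ≤ U} =>
        X'.basicOpen b ⊓ X'.basicOpen (g₀.appLE UX U' e i.1)) ?_ ?_ _ 0 ?_
    · intro i
      refine le_inf inf_le_left ?_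
      intro x' hx'
      have h1 : x' ∈ X'.basicOpen (g₀.appLE UX U' e i.1) := hx'.2
      rw [Scheme.basicOpen_appLE] at h1
      exact i.2 h1.2
    · intro x' hx'
      have hxb : x' ∈ X'.basicOpen b := hx'.1
      have hxU : g₀ x' ∈ U := hx'.2
      have hxU' : x' ∈ U' := X'.basicOpen_le b hxb
      have hxUX : g₀ x' ∈ UX := e hxU'
      obtain ⟨f, hfU, hxf⟩ := hUX.exists_basicOpen_le (V := U) ⟨g₀ x', hxU⟩ hxUX
      refine TopologicalSpace.Opens.mem_iSup.2 ⟨⟨f, hfU⟩, hxb, ?_⟩
      change x' ∈ X'.basicOpen (g₀.appLE UX U' e f)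
      rw [Scheme.basicOpen_appLE]
      exact ⟨hxU', hxf⟩
    · intro i
      rw [map_zero, res_res, res_res]
      obtain ⟨n, k, hk⟩ := hy i
      have h1 : ((g₀.appLE UX U' e i.1) ^ k * b ^ n) • e₀ y = 0 := by
        rw [mul_smul, ← map_smul, ← map_smul]
        have h2 : (g₀.appLE UX U' e i.1) ^ k • b ^ n • y = i.1 ^ k • b ^ n • y := by
          rw [← map_pow]
          exact algebraMap_smul Γ(X', U') (i.1 ^ k) (b ^ n • y)
        rw [h2, hk, map_zero]
      refine res_eq_zero_of_smul_eq_zero _ _ _ ?_ _ h1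
      rw [map_mul, map_pow, map_pow]
      refine IsUnit.mul (IsUnit.pow _ ?_) (IsUnit.pow _ ?_)
      · exact isUnit_res_of_le_basicOpen _ inf_le_right
      · exact isUnit_res_of_le_basicOpen _ inf_le_left
  obtain ⟨n, hn⟩ := affine_inj ((Scheme.Modules.pullback g₀).obj F) hU' b (e₀ y) hres
  refine ⟨n, e₀.injective ?_⟩
  rw [map_smul, map_zero]
  exact hn

end SL1

end Groth.Agent.H3.FpSep
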