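import Mathlib
import Groth.Agent.Lib.Helper3.FpSepE

set_option autoImplicit false

universe u

open AlgebraicGeometry CategoryTheory CategoryTheory.Limits Opposite TensorProduct TopologicalSpace

namespace Groth.Agent.H3.FpSep

open Groth.Agent.H3.SepGF Groth.Agent.LD.QC Groth.Agent.H5.Lim Groth.Agent.H3.SepArt
  Groth.Agent.H3.SepCol Groth.Agent.H3.SepField Groth.Agent.H3.SepKrull

variable {X S : Scheme.{u}}

/-- the fibre hypothesis gives torsion separation over the residue field of each prime -/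
theorem torsionSep_residueField_of_fibre_inj (p : X ⟶ S) (F : X.Modules) [F.IsQuasicoherent]
    (U : X.Opens)
    (hfib : ∀ (s : S) (V : (p.fiber s).Opens), Function.Injective
      (((Scheme.Modules.pullback (p.fiberι s)).obj F).presheaf.map
        (homOfLE (inf_le_left : V ⊓ (p.fiberι s) ⁻¹ᵁ U ≤ V)).op))
    {VS : S.Opens} {UX : X.Opens} (hVS : IsAffineOpen VS) (hUX : IsAffineOpen UX)
    (hUSX : UX ≤ p ⁻¹ᵁ VS) (𝔭 : Ideal Γ(S, VS)) [𝔭.IsPrime] :
    letI := (p.appLE VS UX hUSX).hom.toAlgebra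
    TorsionSep Γ(X, UX) (Γ(X, UX) ⊗[Γ(S, VS)] 𝔭.ResidueField) Γ(F, UX)
      (Nloc Γ(F, UX) (fun i : {g : Γ(X, UX) // X.basicOpen g ≤ U} => i.1))
      (vloc Γ(F, UX) (fun i : {g : Γ(X, UX) // X.basicOpen g ≤ U} => i.1)) := by
  letI algAR : Algebra Γ(S, VS) Γ(X, UX) := (p.appLE VS UX hUSX).hom.toAlgebra
  set s : S := hVS.fromSpec ⟨𝔭, inferInstance⟩ with hs
  have hsV : s ∈ VS := SepKrull.fromSpec_mem hVS _
  have H : IsPullback (pullback.fst p (S.fromSpecResidueField s))
      (pullback.snd p (S.fromSpecResidueField s)) p (S.fromSpecResidueField s) :=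
    IsPullback.of_hasPullback p (S.fromSpecResidueField s)
  have hUST : (⊤ : (Spec (S.residueField s)).Opens) ≤ (S.fromSpecResidueField s) ⁻¹ᵁ VS := by
    rw [fromSpecResidueField_preimage_eq_top s hsV]
  have hT : IsAffineOpen (⊤ : (Spec (S.residueField s)).Opens) := isAffineOpen_top _
  have hUs := isAffineOpen_inf H hUST hUSX hVS hT hUX
  obtain ⟨ε⟩ := nonempty_algEquiv_of_isPullback H hUST hUSX hVS hT hUX
  letI algAK : Algebra Γ(S, VS) Γ(Spec (S.residueField s), ⊤) :=
    ((S.fromSpecResidueField s).appLE VS ⊤ hUST).hom.toAlgebra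
  letI algRP : Algebra Γ(X, UX) Γ(pullback p (S.fromSpecResidueField s),
      (pullback.fst p (S.fromSpecResidueField s)) ⁻¹ᵁ UX ⊓
        (pullback.snd p (S.fromSpecResidueField s)) ⁻¹ᵁ ⊤) :=
    ((pullback.fst p (S.fromSpecResidueField s)).appLE UX _ inf_le_left).hom.toAlgebra
  have h1 := torsionSep_of_restrict_injective (p.fiberι s) F U (hfib s) hUX hUs inf_le_left
  have h2 : TorsionSep Γ(X, UX) (Γ(X, UX) ⊗[Γ(S, VS)] Γ(Spec (S.residueField s), ⊤)) Γ(F, UX)
      (Nloc Γ(F, UX) (fun i : {g : Γ(X, UX) // X.basicOpen g ≤ U} => i.1))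
      (vloc Γ(F, UX) (fun i : {g : Γ(X, UX) // X.basicOpen g ≤ U} => i.1)) :=
    TorsionSep.of_algEquiv ε h1
  refine torsionSep_residueField_of_isField
    (isField_Γ_Spec' _ (Field.toIsField (S.residueField s))) 𝔭 ?_ h2
  intro a
  change (S.fromSpecResidueField s).appLE VS ⊤ hUST a = 0 ↔ _
  rw [appLE_fromSpecResidueField_eq_zero_iff, hs, mem_basicOpen_fromSpec_iff, not_not]

theorem main_inj (p : X ⟶ S) [LocallyOfFinitePresentation p] (F : X.Modules) [F.IsQuasicoherent]
    (hFP : F.IsFinitePresentation) (hflat : FlatMod.IsFlatOver p F) (U : X.Opens)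
    (hfib : ∀ (s : S) (V : (p.fiber s).Opens), Function.Injective
      (((Scheme.Modules.pullback (p.fiberι s)).obj F).presheaf.map
        (homOfLE (inf_le_left : V ⊓ (p.fiberι s) ⁻¹ᵁ U ≤ V)).op))
    {S' : Scheme.{u}} (g : S' ⟶ S) (V : (pullback p g).Opens) :
    Function.Injective (((Scheme.Modules.pullback (pullback.fst p g)).obj F).presheaf.map
      (homOfLE (inf_le_left : V ⊓ (pullback.fst p g) ⁻¹ᵁ U ≤ V)).op) := by
  haveI := qc_pullback (pullback.fst p g) F
  intro t₁ t₂ h12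
  have ht : ((Scheme.Modules.pullback (pullback.fst p g)).obj F).presheaf.map
      (homOfLE (inf_le_left : V ⊓ (pullback.fst p g) ⁻¹ᵁ U ≤ V)).op (t₁ - t₂) = 0 := by
    rw [map_sub, h12, sub_self]
  suffices h0 : t₁ - t₂ = 0 from sub_eq_zero.1 h0
  set t := t₁ - t₂ with htdef
  have hpt : ∀ x' : V, ∃ W' : (pullback p g).Opens, ∃ hle : W' ≤ V, x'.1 ∈ W' ∧
      ((Scheme.Modules.pullback (pullback.fst p g)).obj F).presheaf.map (homOfLE hle).op t = 0 := by
    rintro ⟨x', hx'⟩
    have H : IsPullback (pullback.fst p g) (pullback.snd p g) p g := IsPullback.of_hasPullback p g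
    have hw : p (pullback.fst p g x') = g (pullback.snd p g x') := by
      rw [← Scheme.Hom.comp_apply, ← Scheme.Hom.comp_apply, pullback.condition]
    obtain ⟨VS, hVS, hsVS, -⟩ := exists_isAffineOpen_mem_and_subset
      (x := p (pullback.fst p g x')) (U := ⊤) (TopologicalSpace.Opens.mem_top _)
    obtain ⟨W, hW, hxW, hWle⟩ := exists_isAffineOpen_mem_and_subset
      (x := pullback.snd p g x') (U := g ⁻¹ᵁ VS) (by
        change g (pullback.snd p g x') ∈ VS
        rw [← hw]; exact hsVS)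
    obtain ⟨UX, hUX, hxU, hUle⟩ := exists_isAffineOpen_mem_and_subset
      (x := pullback.fst p g x') (U := p ⁻¹ᵁ VS) hsVS
    have hUST : W ≤ g ⁻¹ᵁ VS := hWle
    have hUSX : UX ≤ p ⁻¹ᵁ VS := hUle
    have hUY := isAffineOpen_inf H hUST hUSX hVS hW hUX
    obtain ⟨εφ⟩ := nonempty_algEquiv_of_isPullback H hUST hUSX hVS hW hUX
    have hx'UY : x' ∈ (pullback.fst p g) ⁻¹ᵁ UX ⊓ (pullback.snd p g) ⁻¹ᵁ W := ⟨hxU, hxW⟩
    obtain ⟨b', hb'le, hxb'⟩ := hUY.exists_basicOpen_le (V := V) ⟨x', hx'⟩ hx'UY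
    refine ⟨(pullback p g).basicOpen b', hb'le, hxb', ?_⟩
    letI algAA' : Algebra Γ(S, VS) Γ(S', W) := (g.appLE VS W hUST).hom.toAlgebra
    letI algAR : Algebra Γ(S, VS) Γ(X, UX) := (p.appLE VS UX hUSX).hom.toAlgebra
    letI algRP : Algebra Γ(X, UX) Γ(pullback p g,
        (pullback.fst p g) ⁻¹ᵁ UX ⊓ (pullback.snd p g) ⁻¹ᵁ W) :=
      ((pullback.fst p g).appLE UX _ inf_le_left).hom.toAlgebra
    letI modkF : Module Γ(S, VS) Γ(F, UX) := sectionsModuleOver p F hUSX
    haveI : IsScalarTower Γ(S, VS) Γ(X, UX) Γ(F, UX) :=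
      IsScalarTower.of_algebraMap_smul fun r m => rfl
    haveI : Module.Flat Γ(S, VS) Γ(F, UX) :=
      flat_sections_of_isFlatOverAt p F hUX hVS hUSX (fun x _ => hflat x)
    haveI : Algebra.FinitePresentation Γ(S, VS) Γ(X, UX) :=
      p.finitePresentation_appLE hVS hUX hUSX
    haveI : Module.FinitePresentation Γ(X, UX) Γ(F, UX) :=
      finitePresentation_sections_of_isFinitePresentation F hFP hUX
    have hT' : TorsionSep Γ(X, UX) (Γ(X, UX) ⊗[Γ(S, VS)] Γ(S', W)) Γ(F, UX)
        (Nloc Γ(F, UX) (fun i : {g : Γ(X, UX) // X.basicOpen g ≤ U} => i.1))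
        (vloc Γ(F, UX) (fun i : {g : Γ(X, UX) // X.basicOpen g ≤ U} => i.1)) := by
      refine torsionSep_of_fibres_fp _ (fun 𝔭 _ => ?_)
      exact torsionSep_residueField_of_fibre_inj p F U hfib hVS hUX hUSX 𝔭
    have hT := (torsionSep_iff _ _ _).1 (hT'.of_algEquiv εφ.symm)
    -- extend the section from the basic open
    obtain ⟨n₀, ŷ, hŷ⟩ := affine_surj ((Scheme.Modules.pullback (pullback.fst p g)).obj F) hUY b'
      (((Scheme.Modules.pullback (pullback.fst p g)).obj F).presheaf.map (homOfLE hb'le).op t)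
    obtain ⟨e₀, -, h₀, -, -⟩ := pullback_map_app_equiv (pullback.fst p g) hUY hUX inf_le_left (𝟙 F)
    obtain ⟨y, rfl⟩ := e₀.surjective ŷ
    obtain ⟨n, hn⟩ := hT b' y (by
      intro i
      have hle1 : (pullback p g).basicOpen (b' * (pullback.fst p g).appLE UX ((pullback.fst p g) ⁻¹ᵁ UX ⊓ (pullback.snd p g) ⁻¹ᵁ W) inf_le_left i.1) ≤
          (pullback p g).basicOpen b' := by
        rw [Scheme.basicOpen_mul]; exact inf_le_left
      have hle2 : (pullback p g).basicOpen (b' * (pullback.fst p g).appLE UX ((pullback.fst p g) ⁻¹ᵁ UX ⊓ (pullback.snd p g) ⁻¹ᵁ W) inf_le_left i.1) ≤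
          V ⊓ (pullback.fst p g) ⁻¹ᵁ U := by
        rw [Scheme.basicOpen_mul]
        refine le_inf (inf_le_left.trans hb'le) ?_
        intro z hz
        have h1 : z ∈ (pullback p g).basicOpen ((pullback.fst p g).appLE UX ((pullback.fst p g) ⁻¹ᵁ UX ⊓ (pullback.snd p g) ⁻¹ᵁ W) inf_le_left i.1) :=
          hz.2
        rw [Scheme.basicOpen_appLE] at h1
        exact i.2 h1.2
      have hzero : ((Scheme.Modules.pullback (pullback.fst p g)).obj F).presheaf.map
          (homOfLE ((pullback p g).basicOpen_le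
            (b' * (pullback.fst p g).appLE UX ((pullback.fst p g) ⁻¹ᵁ UX ⊓ (pullback.snd p g) ⁻¹ᵁ W) inf_le_left i.1))).op (e₀ y) = 0 := by
        have h1 := congrArg (((Scheme.Modules.pullback (pullback.fst p g)).obj F).presheaf.map
          (homOfLE hle1).op) hŷ
        rw [res_res, Scheme.Modules.map_smul, res_res] at h1
        have h2 : ((Scheme.Modules.pullback (pullback.fst p g)).obj F).presheaf.map
            (homOfLE (hle1.trans hb'le)).op t = 0 := by
          have := congrArg (((Scheme.Modules.pullback (pullback.fst p g)).obj F).presheaf.map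
            (homOfLE hle2).op) ht
          rw [res_res, map_zero] at this
          exact this
        rw [h2, smul_zero] at h1
        exact h1
      obtain ⟨m, hm⟩ := affine_inj ((Scheme.Modules.pullback (pullback.fst p g)).obj F) hUY _ _ hzero
      obtain ⟨n, k, hk⟩ := (exists_pow_mul_iff b'
        ((pullback.fst p g).appLE UX ((pullback.fst p g) ⁻¹ᵁ UX ⊓ (pullback.snd p g) ⁻¹ᵁ W) inf_le_left i.1) (e₀ y)).2 ⟨m, hm⟩
      refine ⟨n, k, e₀.injective ?_⟩
      rw [map_zero]
      have h2 : i.1 ^ k • b' ^ n • y =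
          ((pullback.fst p g).appLE UX ((pullback.fst p g) ⁻¹ᵁ UX ⊓ (pullback.snd p g) ⁻¹ᵁ W) inf_le_left i.1) ^ k • b' ^ n • y := by
        rw [← map_pow]
        exact (algebraMap_smul Γ(pullback p g,
          (pullback.fst p g) ⁻¹ᵁ UX ⊓ (pullback.snd p g) ⁻¹ᵁ W) (i.1 ^ k) (b' ^ n • y)).symm
      rw [h2, map_smul, map_smul]
      exact hk)
    have h3 : b' ^ n • e₀ y = 0 := by rw [← map_smul, hn, map_zero]
    have h4 := res_eq_zero_of_smul_eq_zero ((Scheme.Modules.pullback (pullback.fst p g)).obj F)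
      ((pullback p g).basicOpen_le b') (b' ^ n) (by
        rw [map_pow]
        exact (isUnit_res_of_le_basicOpen b' le_rfl).pow n) (e₀ y) h3
    rw [hŷ] at h4
    have hu : IsUnit ((pullback p g).presheaf.map
        (homOfLE ((pullback p g).basicOpen_le b')).op b' ^ n₀) :=
      (isUnit_res_of_le_basicOpen b' le_rfl).pow n₀
    obtain ⟨w, hw⟩ := hu
    have h5 := congrArg (fun z => (↑w⁻¹ : Γ(pullback p g, (pullback p g).basicOpen b')) • z) h4
    simp only [smul_zero] at h5
    rw [← hw, smul_smul, Units.inv_mul, one_smul] at h5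
    exact h5
  choose W' hle hx' hres using hpt
  apply section_ext_of_cover ((Scheme.Modules.pullback (pullback.fst p g)).obj F) W' hle ?_ t 0
  · intro x'
    rw [hres x', map_zero]
  · intro x hx
    exact TopologicalSpace.Opens.mem_iSup.2 ⟨⟨x, hx⟩, hx' ⟨x, hx⟩⟩

end Groth.Agent.H3.FpSep
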