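import Mathlib
import Groth.Agent.Lib.Helper3.FpSepF
import Groth.Agent.Lib.Helper3.SchDomKrull2
import Groth.Prelude.Def_CInt

set_option autoImplicit false

universe u

open AlgebraicGeometry CategoryTheory CategoryTheory.Limits Opposite TensorProduct TopologicalSpace

namespace Groth.Agent.H3.FpSep

open Groth.Agent.H2.SchDense Groth.Agent.H3.SepGF Groth.Agent.LD.QC Groth.Agent.H5.Lim
  Groth.Agent.H3.SepArt Groth.Agent.H3.SepCol Groth.Agent.H3.SepField Groth.Agent.H3.SepKrull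

section SL1

variable {X X' : Scheme.{u}}

/-- schematic density of the preimage of `U` gives torsion separation of the structure sheaf
sections over affine charts, for the family of basic opens inside `U`. -/
theorem torsionSep_of_schDense (g₀ : X' ⟶ X) (U : X.Opens)
    (h' : CInt.IsSchematicallyDense (g₀ ⁻¹ᵁ U))
    {UX : X.Opens} {U' : X'.Opens} (hUX : IsAffineOpen UX) (hU' : IsAffineOpen U')
    (e : U' ≤ g₀ ⁻¹ᵁ UX) :
    letI := (g₀.appLE UX U' e).hom.toAlgebra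
    TorsionSep Γ(X, UX) Γ(X', U') Γ(X, UX)
      (Nloc Γ(X, UX) (fun i : {g : Γ(X, UX) // X.basicOpen g ≤ U} => i.1))
      (vloc Γ(X, UX) (fun i : {g : Γ(X, UX) // X.basicOpen g ≤ U} => i.1)) := by
  letI alg : Algebra Γ(X, UX) Γ(X', U') := (g₀.appLE UX U' e).hom.toAlgebra
  rw [torsionSep_iff]
  intro b y hy
  set t₀ : Γ(X', U') := TensorProduct.rid Γ(X, UX) Γ(X', U') y with ht₀
  have hy0 : y = t₀ ⊗ₜ[Γ(X, UX)] (1 : Γ(X, UX)) := by
    have := (TensorProduct.rid Γ(X, UX) Γ(X', U')).symm_apply_apply y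
    rw [← ht₀, TensorProduct.rid_symm_apply] at this
    exact this.symm
  have hres : X'.presheaf.map (homOfLE (X'.basicOpen_le b)).op t₀ = 0 := by
    apply h' (X'.basicOpen b)
    rw [map_zero]
    apply eq_zero_of_locally
    intro x' hx'
    have hxb : x' ∈ X'.basicOpen b := hx'.1
    have hxU : g₀ x' ∈ U := hx'.2
    have hxU' : x' ∈ U' := X'.basicOpen_le b hxb
    have hxUX : g₀ x' ∈ UX := e hxU'
    obtain ⟨f, hfU, hxf⟩ := hUX.exists_basicOpen_le (V := U) ⟨g₀ x', hxU⟩ hxUX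
    have hxf' : x' ∈ X'.basicOpen (g₀.appLE UX U' e f) := by
      rw [Scheme.basicOpen_appLE]
      exact ⟨hxU', hxf⟩
    have hOle : X'.basicOpen b ⊓ X'.basicOpen (g₀.appLE UX U' e f) ≤
        X'.basicOpen b ⊓ g₀ ⁻¹ᵁ U := by
      refine le_inf inf_le_left ?_
      intro z hz
      have h1 : z ∈ X'.basicOpen (g₀.appLE UX U' e f) := hz.2
      rw [Scheme.basicOpen_appLE] at h1
      exact hfU h1.2
    refine ⟨X'.basicOpen b ⊓ X'.basicOpen (g₀.appLE UX U' e f), hOle, ⟨hxb, hxf'⟩, ?_⟩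
    rw [sres_res, sres_res]
    obtain ⟨n, k, hk⟩ := hy ⟨f, hfU⟩
    have h1 : (g₀.appLE UX U' e f) ^ k * b ^ n * t₀ = 0 := by
      have h2 : f ^ k • b ^ n • y = ((g₀.appLE UX U' e f) ^ k * b ^ n * t₀) ⊗ₜ[Γ(X, UX)]
          (1 : Γ(X, UX)) := by
        rw [hy0, smul_tmul', smul_tmul', smul_eq_mul, Algebra.smul_def, map_pow, mul_assoc]
        rfl
      rw [h2] at hk
      have h3 := congrArg (TensorProduct.rid Γ(X, UX) Γ(X', U')) hk
      rw [TensorProduct.rid_tmul, one_smul, map_zero] at h3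
      exact h3
    have h4 := congrArg (X'.presheaf.map (homOfLE ((inf_le_left :
      X'.basicOpen b ⊓ X'.basicOpen (g₀.appLE UX U' e f) ≤ X'.basicOpen b).trans
        (X'.basicOpen_le b))).op) h1
    rw [map_mul, map_mul, map_pow, map_pow, map_zero] at h4
    have hu : IsUnit ((X'.presheaf.map (homOfLE ((inf_le_left :
        X'.basicOpen b ⊓ X'.basicOpen (g₀.appLE UX U' e f) ≤ X'.basicOpen b).trans
        (X'.basicOpen_le b))).op (g₀.appLE UX U' e f)) ^ k *
        (X'.presheaf.map (homOfLE ((inf_le_left :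
        X'.basicOpen b ⊓ X'.basicOpen (g₀.appLE UX U' e f) ≤ X'.basicOpen b).trans
        (X'.basicOpen_le b))).op b) ^ n) := by
      refine IsUnit.mul (IsUnit.pow _ ?_) (IsUnit.pow _ ?_)
      · exact isUnit_res_of_le_basicOpen _ inf_le_right
      · exact isUnit_res_of_le_basicOpen _ inf_le_left
    exact hu.mul_right_eq_zero.1 h4
  obtain ⟨n, hn⟩ := exists_pow_mul_eq_zero_of_res_basicOpen_eq_zero_of_isAffineOpen X' hU' t₀ b hres
  refine ⟨n, ?_⟩
  rw [hy0, smul_tmul', smul_eq_mul, hn, zero_tmul]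

end SL1

section Main

variable {X S : Scheme.{u}}

/-- the fibre hypothesis gives torsion separation over the residue field of each prime -/
theorem torsionSep_residueField_of_fibre_schDense (p : X ⟶ S) (U : X.Opens)
    (hfib : ∀ s : S, CInt.IsSchematicallyDense ((p.fiberι s) ⁻¹ᵁ U))
    {VS : S.Opens} {UX : X.Opens} (hVS : IsAffineOpen VS) (hUX : IsAffineOpen UX)
    (hUSX : UX ≤ p ⁻¹ᵁ VS) (𝔭 : Ideal Γ(S, VS)) [𝔭.IsPrime] :
    letI := (p.appLE VS UX hUSX).hom.toAlgebra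
    TorsionSep Γ(X, UX) (Γ(X, UX) ⊗[Γ(S, VS)] 𝔭.ResidueField) Γ(X, UX)
      (Nloc Γ(X, UX) (fun i : {g : Γ(X, UX) // X.basicOpen g ≤ U} => i.1))
      (vloc Γ(X, UX) (fun i : {g : Γ(X, UX) // X.basicOpen g ≤ U} => i.1)) := by
  letI algAR : Algebra Γ(S, VS) Γ(X, UX) := (p.appLE VS UX hUSX).hom.toAlgebra
  set s : S := hVS.fromSpec ⟨𝔭, inferInstance⟩ with hs
  have hsV : s ∈ VS := SepKrull.fromSpec_mem hVS _
  have H : IsPullback (pullback.fst p (S.fromSpecResidueField s))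
      (pullback.snd p (S.fromSpecResidueField s)) p (S.fromSpecResidueField s) :=
    IsPullback.of_hasPullback p (S.fromSpecResidueField s)
  have hUST : (⊤ : (Spec (S.residueField s)).Opens) ≤ (S.fromSpecResidueField s) ⁻¹ᵁ VS := by
    rw [fromSpecResidueField_preimage_eq_top s hsV]
  have hT : IsAffineOpen (⊤ : (Spec (S.residueField s)).Opens) := isAffineOpen_top _
  have hUs := isAffineOpen_inf H hUST hUSX hVS hT hUX
  obtain ⟨ε⟩ := nonempty_algEquiv_of_isPullback H hUST hUSX hVS hT hUX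
  letI algAK : Algebra Γ(S, VS) Γ(Spec (S.residueField s), ⊤) :=
    ((S.fromSpecResidueField s).appLE VS ⊤ hUST).hom.toAlgebra
  letI algRP : Algebra Γ(X, UX) Γ(pullback p (S.fromSpecResidueField s),
      (pullback.fst p (S.fromSpecResidueField s)) ⁻¹ᵁ UX ⊓
        (pullback.snd p (S.fromSpecResidueField s)) ⁻¹ᵁ ⊤) :=
    ((pullback.fst p (S.fromSpecResidueField s)).appLE UX _ inf_le_left).hom.toAlgebra
  have h1 := torsionSep_of_schDense (p.fiberι s) U (hfib s) hUX hUs inf_le_left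
  have h2 : TorsionSep Γ(X, UX) (Γ(X, UX) ⊗[Γ(S, VS)] Γ(Spec (S.residueField s), ⊤)) Γ(X, UX)
      (Nloc Γ(X, UX) (fun i : {g : Γ(X, UX) // X.basicOpen g ≤ U} => i.1))
      (vloc Γ(X, UX) (fun i : {g : Γ(X, UX) // X.basicOpen g ≤ U} => i.1)) :=
    TorsionSep.of_algEquiv ε h1
  refine torsionSep_residueField_of_isField
    (isField_Γ_Spec' _ (Field.toIsField (S.residueField s))) 𝔭 ?_ h2
  intro a
  change (S.fromSpecResidueField s).appLE VS ⊤ hUST a = 0 ↔ _
  rw [appLE_fromSpecResidueField_eq_zero_iff, hs, mem_basicOpen_fromSpec_iff, not_not]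

theorem main_schDense (p : X ⟶ S) [Flat p] [LocallyOfFinitePresentation p] (U : X.Opens)
    (hfib : ∀ s : S, CInt.IsSchematicallyDense ((p.fiberι s) ⁻¹ᵁ U))
    {S' : Scheme.{u}} (g : S' ⟶ S) :
    CInt.IsSchematicallyDense ((pullback.fst p g) ⁻¹ᵁ U) := by
  intro V t₁ t₂ h12
  have ht : (pullback p g).presheaf.map
      (homOfLE (inf_le_left : V ⊓ (pullback.fst p g) ⁻¹ᵁ U ≤ V)).op (t₁ - t₂) = 0 := by
    rw [map_sub, h12, sub_self]
  suffices h0 : t₁ - t₂ = 0 from sub_eq_zero.1 h0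
  set t := t₁ - t₂ with htdef
  apply eq_zero_of_locally
  intro x' hx'
  have H : IsPullback (pullback.fst p g) (pullback.snd p g) p g := IsPullback.of_hasPullback p g
  have hw : p (pullback.fst p g x') = g (pullback.snd p g x') := by
    rw [← Scheme.Hom.comp_apply, ← Scheme.Hom.comp_apply, pullback.condition]
  obtain ⟨VS, hVS, hsVS, -⟩ := exists_isAffineOpen_mem_and_subset
    (x := p (pullback.fst p g x')) (U := ⊤) (TopologicalSpace.Opens.mem_top _)
  obtain ⟨W, hW, hxW, hWle⟩ := exists_isAffineOpen_mem_and_subset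
    (x := pullback.snd p g x') (U := g ⁻¹ᵁ VS) (by
      change g (pullback.snd p g x') ∈ VS
      rw [← hw]; exact hsVS)
  obtain ⟨UX, hUX, hxU, hUle⟩ := exists_isAffineOpen_mem_and_subset
    (x := pullback.fst p g x') (U := p ⁻¹ᵁ VS) hsVS
  have hUST : W ≤ g ⁻¹ᵁ VS := hWle
  have hUSX : UX ≤ p ⁻¹ᵁ VS := hUle
  have hUY := isAffineOpen_inf H hUST hUSX hVS hW hUX
  obtain ⟨εφ⟩ := nonempty_algEquiv_of_isPullback H hUST hUSX hVS hW hUX
  have hx'UY : x' ∈ (pullback.fst p g) ⁻¹ᵁ UX ⊓ (pullback.snd p g) ⁻¹ᵁ W := ⟨hxU, hxW⟩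
  obtain ⟨b', hb'le, hxb'⟩ := hUY.exists_basicOpen_le (V := V) ⟨x', hx'⟩ hx'UY
  refine ⟨(pullback p g).basicOpen b', hb'le, hxb', ?_⟩
  letI algAA' : Algebra Γ(S, VS) Γ(S', W) := (g.appLE VS W hUST).hom.toAlgebra
  letI algAR : Algebra Γ(S, VS) Γ(X, UX) := (p.appLE VS UX hUSX).hom.toAlgebra
  letI algRP : Algebra Γ(X, UX) Γ(pullback p g,
      (pullback.fst p g) ⁻¹ᵁ UX ⊓ (pullback.snd p g) ⁻¹ᵁ W) :=
    ((pullback.fst p g).appLE UX _ inf_le_left).hom.toAlgebra
  haveI : Module.Flat Γ(S, VS) Γ(X, UX) :=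
    HasRingHomProperty.appLE @Flat p inferInstance ⟨VS, hVS⟩ ⟨UX, hUX⟩ hUSX
  haveI : Algebra.FinitePresentation Γ(S, VS) Γ(X, UX) :=
    p.finitePresentation_appLE hVS hUX hUSX
  have hT' : TorsionSep Γ(X, UX) (Γ(X, UX) ⊗[Γ(S, VS)] Γ(S', W)) Γ(X, UX)
      (Nloc Γ(X, UX) (fun i : {g : Γ(X, UX) // X.basicOpen g ≤ U} => i.1))
      (vloc Γ(X, UX) (fun i : {g : Γ(X, UX) // X.basicOpen g ≤ U} => i.1)) := by
    refine torsionSep_of_fibres_fp _ (fun 𝔭 _ => ?_)
    exact torsionSep_residueField_of_fibre_schDense p U hfib hVS hUX hUSX 𝔭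
  have hT := (torsionSep_iff _ _ _).1 (hT'.of_algEquiv εφ.symm)
  -- extend the section from the basic open
  haveI hloc : IsLocalization.Away b' Γ(pullback p g, (pullback p g).basicOpen b') :=
    hUY.isLocalization_basicOpen b'
  obtain ⟨⟨ŷ, ⟨_, n₀, rfl⟩⟩, hŷ⟩ := IsLocalization.surj (Submonoid.powers b')
    ((pullback p g).presheaf.map (homOfLE hb'le).op t)
  have hŷ' : (pullback p g).presheaf.map (homOfLE hb'le).op t *
      ((pullback p g).presheaf.map (homOfLE ((pullback p g).basicOpen_le b')).op b') ^ n₀ =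
      (pullback p g).presheaf.map (homOfLE ((pullback p g).basicOpen_le b')).op ŷ := by
    rw [← map_pow]
    exact hŷ
  obtain ⟨n, hn⟩ := hT b' (ŷ ⊗ₜ[Γ(X, UX)] (1 : Γ(X, UX))) (by
    intro i
    have hle1 : (pullback p g).basicOpen (b' * (pullback.fst p g).appLE UX
        ((pullback.fst p g) ⁻¹ᵁ UX ⊓ (pullback.snd p g) ⁻¹ᵁ W) inf_le_left i.1) ≤
        (pullback p g).basicOpen b' := by
      rw [Scheme.basicOpen_mul]; exact inf_le_left
    have hle2 : (pullback p g).basicOpen (b' * (pullback.fst p g).appLE UX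
        ((pullback.fst p g) ⁻¹ᵁ UX ⊓ (pullback.snd p g) ⁻¹ᵁ W) inf_le_left i.1) ≤
        V ⊓ (pullback.fst p g) ⁻¹ᵁ U := by
      rw [Scheme.basicOpen_mul]
      refine le_inf (inf_le_left.trans hb'le) ?_
      intro z hz
      have h1 : z ∈ (pullback p g).basicOpen ((pullback.fst p g).appLE UX
        ((pullback.fst p g) ⁻¹ᵁ UX ⊓ (pullback.snd p g) ⁻¹ᵁ W) inf_le_left i.1) := hz.2
      rw [Scheme.basicOpen_appLE] at h1
      exact i.2 h1.2
    have hzero : (pullback p g).presheaf.map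
        (homOfLE ((pullback p g).basicOpen_le (b' * (pullback.fst p g).appLE UX
        ((pullback.fst p g) ⁻¹ᵁ UX ⊓ (pullback.snd p g) ⁻¹ᵁ W) inf_le_left i.1))).op ŷ = 0 := by
      have h1 := congrArg ((pullback p g).presheaf.map (homOfLE hle1).op) hŷ'
      rw [sres_res, map_mul, sres_res] at h1
      have h2 : (pullback p g).presheaf.map (homOfLE (hle1.trans hb'le)).op t = 0 := by
        have := congrArg ((pullback p g).presheaf.map (homOfLE hle2).op) ht
        rw [sres_res, map_zero] at this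
        exact this
      rw [h2, zero_mul] at h1
      exact h1.symm
    obtain ⟨m, hm⟩ := exists_pow_mul_eq_zero_of_res_basicOpen_eq_zero_of_isAffineOpen
      (pullback p g) hUY ŷ _ hzero
    have hm' : (b' * (pullback.fst p g).appLE UX
        ((pullback.fst p g) ⁻¹ᵁ UX ⊓ (pullback.snd p g) ⁻¹ᵁ W) inf_le_left i.1) ^ m • ŷ = 0 := hm
    obtain ⟨n, k, hk⟩ := (exists_pow_mul_iff b' ((pullback.fst p g).appLE UX
      ((pullback.fst p g) ⁻¹ᵁ UX ⊓ (pullback.snd p g) ⁻¹ᵁ W) inf_le_left i.1) ŷ).2 ⟨m, hm'⟩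
    refine ⟨n, k, ?_⟩
    have h2 : i.1 ^ k • b' ^ n • (ŷ ⊗ₜ[Γ(X, UX)] (1 : Γ(X, UX))) =
        (((pullback.fst p g).appLE UX
          ((pullback.fst p g) ⁻¹ᵁ UX ⊓ (pullback.snd p g) ⁻¹ᵁ W) inf_le_left i.1) ^ k • b' ^ n • ŷ)
          ⊗ₜ[Γ(X, UX)] (1 : Γ(X, UX)) := by
      rw [smul_tmul', smul_tmul', Algebra.smul_def, map_pow]
      rfl
    rw [h2, hk, zero_tmul])
  rw [smul_tmul', smul_eq_mul] at hn
  have h3 := congrArg (TensorProduct.rid Γ(X, UX) Γ(pullback p g,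
    (pullback.fst p g) ⁻¹ᵁ UX ⊓ (pullback.snd p g) ⁻¹ᵁ W)) hn
  rw [TensorProduct.rid_tmul, one_smul, map_zero] at h3
  have h4 := congrArg ((pullback p g).presheaf.map
    (homOfLE ((pullback p g).basicOpen_le b')).op) h3
  rw [map_mul, map_pow, map_zero] at h4
  have hu : IsUnit ((pullback p g).presheaf.map
      (homOfLE ((pullback p g).basicOpen_le b')).op b') := isUnit_res_of_le_basicOpen b' le_rfl
  have h5 := (hu.pow n).mul_right_eq_zero.1 h4
  rw [← hŷ'] at h5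
  exact (hu.pow n₀).mul_left_eq_zero.1 h5

end Main

end Groth.Agent.H3.FpSep
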