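import Mathlib

/-!
# Congruence calculus for `2 × 2` matrices over `ℤ_[p]`

`Pi k` is reduction of matrices modulo `p ^ k`.  Main result `surjective_of_mod_p_of_elementary`:
a homomorphism from a compact group to `GL₂(ℤ_p)` with continuous matrix entries is surjective as soon as
it is surjective modulo `p` and hits, for each `n ≥ 1`, an element `1 + pⁿ (a E₁₁) mod p^{n+1}` with `a` a unit.
-/

set_option autoImplicit false

namespace Groth.Agent.H3.GL2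

open Matrix

variable {p : ℕ} [Fact p.Prime]

/-- Reduction of `2 × 2` matrices modulo `p ^ k`. -/
noncomputable def Pi (k : ℕ) : Matrix (Fin 2) (Fin 2) ℤ_[p] →+*
    Matrix (Fin 2) (Fin 2) (ℤ_[p] ⧸ Ideal.span {(p : ℤ_[p]) ^ k}) :=
  (Ideal.Quotient.mk (Ideal.span {(p : ℤ_[p]) ^ k})).mapMatrix

theorem Pi_eq_iff (k : ℕ) (A B : Matrix (Fin 2) (Fin 2) ℤ_[p]) :
    Pi k A = Pi k B ↔ ∀ i j, (p : ℤ_[p]) ^ k ∣ A i j - B i j := by
  unfold Pi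
  constructor
  · intro h i j
    have := congrFun (congrFun h i) j
    simp only [RingHom.mapMatrix_apply, Matrix.map_apply] at this
    rwa [Ideal.Quotient.eq, Ideal.mem_span_singleton] at this
  · intro h
    ext i j
    simp only [RingHom.mapMatrix_apply, Matrix.map_apply]
    rw [Ideal.Quotient.eq, Ideal.mem_span_singleton]
    exact h i j

theorem Pi_mono {k l : ℕ} (hkl : k ≤ l) {A B : Matrix (Fin 2) (Fin 2) ℤ_[p]}
    (h : Pi l A = Pi l B) : Pi k A = Pi k B := by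
  rw [Pi_eq_iff] at h ⊢
  intro i j
  exact dvd_trans (pow_dvd_pow _ hkl) (h i j)

theorem Pi_smul_pow {k l : ℕ} (hkl : k ≤ l) (N : Matrix (Fin 2) (Fin 2) ℤ_[p]) :
    Pi k ((p : ℤ_[p]) ^ l • N) = 0 := by
  rw [← map_zero (Pi (p := p) k), Pi_eq_iff]
  intro i j
  simp only [Matrix.smul_apply, Matrix.zero_apply, sub_zero, smul_eq_mul]
  exact Dvd.dvd.mul_right (pow_dvd_pow _ hkl) _

theorem exists_eq_add {k : ℕ} {A B : Matrix (Fin 2) (Fin 2) ℤ_[p]} (h : Pi k A = Pi k B) :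
    ∃ N : Matrix (Fin 2) (Fin 2) ℤ_[p], A = B + (p : ℤ_[p]) ^ k • N := by
  rw [Pi_eq_iff] at h
  choose N hN using h
  refine ⟨Matrix.of N, ?_⟩
  ext i j
  simp only [Matrix.add_apply, Matrix.smul_apply, Matrix.of_apply, smul_eq_mul]
  linear_combination hN i j

theorem dvd_of_toZMod_eq {x y : ℤ_[p]} (h : PadicInt.toZMod x = PadicInt.toZMod y) :
    (p : ℤ_[p]) ∣ x - y := by
  have h0 : x - y ∈ RingHom.ker (PadicInt.toZMod (p := p)) := by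
    rw [RingHom.mem_ker, map_sub, h, sub_self]
  rw [PadicInt.ker_toZMod, PadicInt.maximalIdeal_eq_span_p, Ideal.mem_span_singleton] at h0
  exact h0

theorem toZMod_eq_of_dvd {x y : ℤ_[p]} (h : (p : ℤ_[p]) ∣ x - y) :
    PadicInt.toZMod x = PadicInt.toZMod y := by
  have h0 : x - y ∈ RingHom.ker (PadicInt.toZMod (p := p)) := by
    rw [PadicInt.ker_toZMod, PadicInt.maximalIdeal_eq_span_p, Ideal.mem_span_singleton]
    exact h
  rw [RingHom.mem_ker, map_sub, sub_eq_zero] at h0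
  exact h0

theorem Pi_one_eq_iff (A B : Matrix (Fin 2) (Fin 2) ℤ_[p]) :
    Pi 1 A = Pi 1 B ↔ ∀ i j, PadicInt.toZMod (A i j) = PadicInt.toZMod (B i j) := by
  rw [Pi_eq_iff]
  constructor
  · intro h i j
    exact toZMod_eq_of_dvd (by simpa using h i j)
  · intro h i j
    simpa using dvd_of_toZMod_eq (h i j)

theorem eq_zero_of_forall_pow_dvd {x : ℤ_[p]} (h : ∀ n : ℕ, (p : ℤ_[p]) ^ n ∣ x) : x = 0 := by
  by_contra hx
  have h1 := h (x.valuation + 1)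
  rw [← Ideal.mem_span_singleton, PadicInt.mem_span_pow_iff_le_valuation x hx] at h1
  omega

theorem isClosed_setOf_pow_dvd_sub (n : ℕ) (u : ℤ_[p]) :
    IsClosed {x : ℤ_[p] | (p : ℤ_[p]) ^ n ∣ x - u} := by
  have : {x : ℤ_[p] | (p : ℤ_[p]) ^ n ∣ x - u} = {x : ℤ_[p] | ‖x - u‖ ≤ (p : ℝ) ^ (-n : ℤ)} := by
    ext x
    simp only [Set.mem_ofPred_eq]
    rw [PadicInt.norm_le_pow_iff_mem_span_pow, Ideal.mem_span_singleton]
  rw [this]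
  exact isClosed_le (continuous_norm.comp (continuous_id.sub continuous_const)) continuous_const

theorem isClosed_setOf_Pi_eq (n : ℕ) (U : Matrix (Fin 2) (Fin 2) ℤ_[p]) :
    IsClosed {A : Matrix (Fin 2) (Fin 2) ℤ_[p] | Pi n A = Pi n U} := by
  have : {A : Matrix (Fin 2) (Fin 2) ℤ_[p] | Pi n A = Pi n U} =
      ⋂ i : Fin 2, ⋂ j : Fin 2, (fun A : Matrix (Fin 2) (Fin 2) ℤ_[p] => A i j) ⁻¹'
        {x : ℤ_[p] | (p : ℤ_[p]) ^ n ∣ x - U i j} := by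
    ext A
    simp only [Set.mem_ofPred_eq, Set.mem_iInter, Set.mem_preimage]
    exact Pi_eq_iff n A U
  rw [this]
  refine isClosed_iInter fun i => isClosed_iInter fun j => ?_
  exact (isClosed_setOf_pow_dvd_sub n (U i j)).preimage (continuous_id.matrix_elem i j)

section Hom

variable {G : Type*} [Group G] (ϕ : G →* GL (Fin 2) ℤ_[p])

/-- `N` is hit modulo `p`, at level `n`: some `ϕ g` is congruent to `1 + pⁿ N` modulo `p^{n+1}`. -/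
def InT (n : ℕ) (N : Matrix (Fin 2) (Fin 2) ℤ_[p]) : Prop :=
  ∃ g : G, Pi (n + 1) ((ϕ g : GL (Fin 2) ℤ_[p]) : Matrix (Fin 2) (Fin 2) ℤ_[p]) =
    Pi (n + 1) (1 + (p : ℤ_[p]) ^ n • N)

variable {ϕ}

theorem inT_congr {n : ℕ} {N N' : Matrix (Fin 2) (Fin 2) ℤ_[p]} (h : Pi 1 N = Pi 1 N')
    (hN : InT ϕ n N) : InT ϕ n N' := by
  obtain ⟨g, hg⟩ := hN
  obtain ⟨Y, hY⟩ := exists_eq_add h
  refine ⟨g, hg.trans ?_⟩
  have : (1 : Matrix (Fin 2) (Fin 2) ℤ_[p]) + (p : ℤ_[p]) ^ n • N =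
      (1 + (p : ℤ_[p]) ^ n • N') + (p : ℤ_[p]) ^ (n + 1) • Y := by
    rw [hY, smul_add, smul_smul, ← pow_add, add_assoc]
  rw [this, map_add, Pi_smul_pow le_rfl, add_zero]

theorem inT_zero (n : ℕ) : InT ϕ n 0 :=
  ⟨1, by simp⟩

theorem inT_add {n : ℕ} (hn : 1 ≤ n) {N N' : Matrix (Fin 2) (Fin 2) ℤ_[p]}
    (hN : InT ϕ n N) (hN' : InT ϕ n N') : InT ϕ n (N + N') := by
  obtain ⟨g, hg⟩ := hN
  obtain ⟨g', hg'⟩ := hN'
  refine ⟨g * g', ?_⟩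
  obtain ⟨m, rfl⟩ : ∃ m, n = m + 1 := ⟨n - 1, by omega⟩
  have hmul : ((ϕ (g * g') : GL (Fin 2) ℤ_[p]) : Matrix (Fin 2) (Fin 2) ℤ_[p]) =
      ((ϕ g : GL (Fin 2) ℤ_[p]) : Matrix (Fin 2) (Fin 2) ℤ_[p]) *
        ((ϕ g' : GL (Fin 2) ℤ_[p]) : Matrix (Fin 2) (Fin 2) ℤ_[p]) := by
    rw [map_mul]; rfl
  rw [hmul, map_mul, hg, hg', ← map_mul]
  have : ((1 : Matrix (Fin 2) (Fin 2) ℤ_[p]) + (p : ℤ_[p]) ^ (m + 1) • N) *
      (1 + (p : ℤ_[p]) ^ (m + 1) • N') =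
      (1 + (p : ℤ_[p]) ^ (m + 1) • (N + N')) + (p : ℤ_[p]) ^ (m + 1 + 1) • ((p : ℤ_[p]) ^ m • (N * N')) := by
    rw [add_mul, mul_add, mul_add, one_mul, mul_one, one_mul, smul_mul_assoc, mul_smul_comm,
      smul_smul, smul_smul, smul_add]
    have e : (p : ℤ_[p]) ^ (m + 1) * (p : ℤ_[p]) ^ (m + 1) = (p : ℤ_[p]) ^ (m + 1 + 1) * (p : ℤ_[p]) ^ m := by
      ring
    rw [e]
    abel
  rw [this, map_add, Pi_smul_pow le_rfl, add_zero]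

theorem inT_nsmul {n : ℕ} (hn : 1 ≤ n) {N : Matrix (Fin 2) (Fin 2) ℤ_[p]} (hN : InT ϕ n N) (m : ℕ) :
    InT ϕ n (m • N) := by
  induction m with
  | zero => rw [zero_smul]; exact inT_zero n
  | succ m ih => rw [succ_nsmul]; exact inT_add hn ih hN

theorem inT_neg {n : ℕ} (hn : 1 ≤ n) {N : Matrix (Fin 2) (Fin 2) ℤ_[p]} (hN : InT ϕ n N) :
    InT ϕ n (-N) := by
  have h1 := inT_nsmul hn hN (p - 1)
  refine inT_congr ?_ h1
  have hp : 1 ≤ p := (Fact.out : p.Prime).one_lt.le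
  have h2 : ((p - 1 : ℕ) • N) + N = (p : ℤ_[p]) ^ 1 • N := by
    rw [← succ_nsmul, Nat.sub_add_cancel hp, pow_one, Nat.cast_smul_eq_nsmul]
  have h3 : Pi (p := p) 1 (((p - 1 : ℕ) • N) + N) = 0 := by
    rw [h2]; exact Pi_smul_pow le_rfl N
  rw [map_add] at h3
  rw [map_neg]
  exact eq_neg_of_add_eq_zero_left h3

theorem inT_conj {n : ℕ} {N : Matrix (Fin 2) (Fin 2) ℤ_[p]} (hN : InT ϕ n N) (g₀ : G) :
    InT ϕ n (((ϕ g₀ : GL (Fin 2) ℤ_[p]) : Matrix (Fin 2) (Fin 2) ℤ_[p]) * N *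
      (((ϕ g₀)⁻¹ : GL (Fin 2) ℤ_[p]) : Matrix (Fin 2) (Fin 2) ℤ_[p])) := by
  obtain ⟨g, hg⟩ := hN
  refine ⟨g₀ * g * g₀⁻¹, ?_⟩
  have hmul : ((ϕ (g₀ * g * g₀⁻¹) : GL (Fin 2) ℤ_[p]) : Matrix (Fin 2) (Fin 2) ℤ_[p]) =
      ((ϕ g₀ : GL (Fin 2) ℤ_[p]) : Matrix (Fin 2) (Fin 2) ℤ_[p]) *
        ((ϕ g : GL (Fin 2) ℤ_[p]) : Matrix (Fin 2) (Fin 2) ℤ_[p]) *
        (((ϕ g₀)⁻¹ : GL (Fin 2) ℤ_[p]) : Matrix (Fin 2) (Fin 2) ℤ_[p]) := by
    rw [map_mul, map_mul, map_inv]; rfl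
  have hinv : ((ϕ g₀ : GL (Fin 2) ℤ_[p]) : Matrix (Fin 2) (Fin 2) ℤ_[p]) *
      (((ϕ g₀)⁻¹ : GL (Fin 2) ℤ_[p]) : Matrix (Fin 2) (Fin 2) ℤ_[p]) = 1 :=
    Units.mul_inv (ϕ g₀)
  rw [hmul, map_mul, map_mul, hg, ← map_mul, ← map_mul]
  congr 1
  rw [mul_add, add_mul, mul_one, hinv, mul_smul_comm, smul_mul_assoc]

end Hom

end Groth.Agent.H3.GL2
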