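import Groth.Agent.Lib.Helper3.GL2PadicA

/-!
# Surjectivity onto `GL₂(ℤ_p)`: the generation argument and the main criterion
-/

set_option autoImplicit false

namespace Groth.Agent.H3.GL2

open Matrix

variable {p : ℕ} [Fact p.Prime]

/-- A unit of `M₂(ℤ_p)` from a pair of mutually inverse matrices. -/
def mkGL (A B : Matrix (Fin 2) (Fin 2) ℤ_[p]) (h1 : A * B = 1) (h2 : B * A = 1) : GL (Fin 2) ℤ_[p] :=
  ⟨A, B, h1, h2⟩

section Hom

variable {G : Type*} [Group G] {ϕ : G →* GL (Fin 2) ℤ_[p]}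

theorem exists_Pi_one_eq
    (hsurj : Function.Surjective ((Matrix.GeneralLinearGroup.map (n := Fin 2) (PadicInt.toZMod (p := p))).comp ϕ))
    (U : GL (Fin 2) ℤ_[p]) :
    ∃ g : G, Pi 1 ((ϕ g : GL (Fin 2) ℤ_[p]) : Matrix (Fin 2) (Fin 2) ℤ_[p]) =
      Pi 1 (U : Matrix (Fin 2) (Fin 2) ℤ_[p]) := by
  obtain ⟨g, hg⟩ := hsurj (Matrix.GeneralLinearGroup.map (n := Fin 2) (PadicInt.toZMod (p := p)) U)
  refine ⟨g, ?_⟩
  rw [Pi_one_eq_iff]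
  intro i j
  have := congrArg (fun V : GL (Fin 2) (ZMod p) => (V : Matrix (Fin 2) (Fin 2) (ZMod p)) i j) hg
  simpa [Matrix.GeneralLinearGroup.map_apply] using this

theorem inT_conj_GL
    (hsurj : Function.Surjective ((Matrix.GeneralLinearGroup.map (n := Fin 2) (PadicInt.toZMod (p := p))).comp ϕ))
    {n : ℕ} {N : Matrix (Fin 2) (Fin 2) ℤ_[p]} (hN : InT ϕ n N) (U : GL (Fin 2) ℤ_[p]) :
    InT ϕ n ((U : Matrix (Fin 2) (Fin 2) ℤ_[p]) * N *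
      ((U⁻¹ : GL (Fin 2) ℤ_[p]) : Matrix (Fin 2) (Fin 2) ℤ_[p])) := by
  obtain ⟨g₀, hg₀⟩ := exists_Pi_one_eq hsurj U
  refine inT_congr ?_ (inT_conj hN g₀)
  have hinv : Pi 1 (((ϕ g₀)⁻¹ : GL (Fin 2) ℤ_[p]) : Matrix (Fin 2) (Fin 2) ℤ_[p]) =
      Pi 1 ((U⁻¹ : GL (Fin 2) ℤ_[p]) : Matrix (Fin 2) (Fin 2) ℤ_[p]) := by
    have e1 : Pi (p := p) 1 ((U⁻¹ : GL (Fin 2) ℤ_[p]) : Matrix (Fin 2) (Fin 2) ℤ_[p]) *
        Pi 1 ((ϕ g₀ : GL (Fin 2) ℤ_[p]) : Matrix (Fin 2) (Fin 2) ℤ_[p]) = 1 := by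
      rw [hg₀, ← map_mul]
      have : ((U⁻¹ : GL (Fin 2) ℤ_[p]) : Matrix (Fin 2) (Fin 2) ℤ_[p]) *
          (U : Matrix (Fin 2) (Fin 2) ℤ_[p]) = 1 := Units.inv_mul U
      rw [this, map_one]
    have e2 : Pi (p := p) 1 ((ϕ g₀ : GL (Fin 2) ℤ_[p]) : Matrix (Fin 2) (Fin 2) ℤ_[p]) *
        Pi 1 (((ϕ g₀)⁻¹ : GL (Fin 2) ℤ_[p]) : Matrix (Fin 2) (Fin 2) ℤ_[p]) = 1 := by
      rw [← map_mul]
      have : ((ϕ g₀ : GL (Fin 2) ℤ_[p]) : Matrix (Fin 2) (Fin 2) ℤ_[p]) *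
          (((ϕ g₀)⁻¹ : GL (Fin 2) ℤ_[p]) : Matrix (Fin 2) (Fin 2) ℤ_[p]) = 1 := Units.mul_inv (ϕ g₀)
      rw [this, map_one]
    calc Pi 1 (((ϕ g₀)⁻¹ : GL (Fin 2) ℤ_[p]) : Matrix (Fin 2) (Fin 2) ℤ_[p])
        = (Pi (p := p) 1 ((U⁻¹ : GL (Fin 2) ℤ_[p]) : Matrix (Fin 2) (Fin 2) ℤ_[p]) *
            Pi 1 ((ϕ g₀ : GL (Fin 2) ℤ_[p]) : Matrix (Fin 2) (Fin 2) ℤ_[p])) *
            Pi 1 (((ϕ g₀)⁻¹ : GL (Fin 2) ℤ_[p]) : Matrix (Fin 2) (Fin 2) ℤ_[p]) := by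
          rw [e1, one_mul]
      _ = Pi 1 ((U⁻¹ : GL (Fin 2) ℤ_[p]) : Matrix (Fin 2) (Fin 2) ℤ_[p]) := by
          rw [mul_assoc, e2, mul_one]
  rw [map_mul, map_mul, map_mul, map_mul, hg₀, hinv]

/-- every element of `ℤ_p` is congruent modulo `p` to a natural number -/
theorem exists_nat_toZMod_eq (x : ℤ_[p]) : ∃ m : ℕ, PadicInt.toZMod ((m : ℤ_[p])) = PadicInt.toZMod x := by
  refine ⟨(PadicInt.toZMod x).val, ?_⟩
  rw [map_natCast, ZMod.natCast_zmod_val]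

theorem inT_all
    (hsurj : Function.Surjective ((Matrix.GeneralLinearGroup.map (n := Fin 2) (PadicInt.toZMod (p := p))).comp ϕ))
    {n : ℕ} (hn : 1 ≤ n)
    (hii : ∃ (g : G) (a b c d : ℤ_[p]), ¬ ((p : ℤ_[p]) ∣ a) ∧
          ((ϕ g : GL (Fin 2) ℤ_[p]) : Matrix (Fin 2) (Fin 2) ℤ_[p]) =
            !![1 + (p : ℤ_[p]) ^ n * a, (p : ℤ_[p]) ^ (n + 1) * b;
               (p : ℤ_[p]) ^ (n + 1) * c, 1 + (p : ℤ_[p]) ^ (n + 1) * d])
    (N : Matrix (Fin 2) (Fin 2) ℤ_[p]) : InT ϕ n N := by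
  obtain ⟨g, a, b, c, d, ha, hg⟩ := hii
  -- step 1
  have h0 : InT ϕ n !![a, (p : ℤ_[p]) * b; (p : ℤ_[p]) * c, (p : ℤ_[p]) * d] := by
    refine ⟨g, ?_⟩
    congr 1
    rw [hg]
    ext i j
    fin_cases i <;> fin_cases j <;> simp [pow_succ] <;> ring
  have h1 : InT ϕ n !![a, 0; 0, 0] := by
    refine inT_congr ?_ h0
    rw [Pi_eq_iff]
    intro i j
    fin_cases i <;> fin_cases j <;> simp
  -- step 2
  have hza : PadicInt.toZMod a ≠ 0 := by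
    intro h
    apply ha
    have := dvd_of_toZMod_eq (x := a) (y := 0) (by rw [h, map_zero])
    simpa using this
  have hE11 : InT ϕ n !![1, 0; 0, 0] := by
    haveI : Fact p.Prime := inferInstance
    have h2 := inT_nsmul hn h1 ((PadicInt.toZMod a)⁻¹).val
    refine inT_congr ?_ h2
    rw [Pi_one_eq_iff]
    intro i j
    fin_cases i <;> fin_cases j <;> simp [hza]
  -- step 3: E22
  have hE22 : InT ϕ n !![0, 0; 0, 1] := by
    have := inT_conj_GL hsurj hE11 (mkGL !![0, 1; 1, 0] !![0, 1; 1, 0]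
      (by ext i j; fin_cases i <;> fin_cases j <;> simp)
      (by ext i j; fin_cases i <;> fin_cases j <;> simp))
    convert this using 1
    simp [mkGL]
  have hE12' : InT ϕ n !![1, 1; 0, 0] := by
    have := inT_conj_GL hsurj hE11 (mkGL !![1, -1; 0, 1] !![1, 1; 0, 1]
      (by ext i j; fin_cases i <;> fin_cases j <;> simp)
      (by ext i j; fin_cases i <;> fin_cases j <;> simp))
    convert this using 1
    simp [mkGL]
  have hE21' : InT ϕ n !![1, 0; 1, 0] := by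
    have := inT_conj_GL hsurj hE11 (mkGL !![1, 0; 1, 1] !![1, 0; -1, 1]
      (by ext i j; fin_cases i <;> fin_cases j <;> simp)
      (by ext i j; fin_cases i <;> fin_cases j <;> simp))
    convert this using 1
    simp [mkGL]
  have hE12 : InT ϕ n !![0, 1; 0, 0] := by
    have := inT_add hn hE12' (inT_neg hn hE11)
    convert this using 1
    ext i j
    fin_cases i <;> fin_cases j <;> simp
  have hE21 : InT ϕ n !![0, 0; 1, 0] := by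
    have := inT_add hn hE21' (inT_neg hn hE11)
    convert this using 1
    ext i j
    fin_cases i <;> fin_cases j <;> simp
  -- step 6
  obtain ⟨m00, h00⟩ := exists_nat_toZMod_eq (N 0 0)
  obtain ⟨m01, h01⟩ := exists_nat_toZMod_eq (N 0 1)
  obtain ⟨m10, h10⟩ := exists_nat_toZMod_eq (N 1 0)
  obtain ⟨m11, h11⟩ := exists_nat_toZMod_eq (N 1 1)
  have hsum := inT_add hn (inT_add hn (inT_add hn (inT_nsmul hn hE11 m00) (inT_nsmul hn hE12 m01))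
    (inT_nsmul hn hE21 m10)) (inT_nsmul hn hE22 m11)
  refine inT_congr ?_ hsum
  rw [Pi_one_eq_iff]
  intro i j
  fin_cases i <;> fin_cases j <;> simp [h00, h01, h10, h11]

theorem exists_Pi_eq
    (hsurj : Function.Surjective ((Matrix.GeneralLinearGroup.map (n := Fin 2) (PadicInt.toZMod (p := p))).comp ϕ))
    (hii : ∀ n : ℕ, 1 ≤ n → ∃ (g : G) (a b c d : ℤ_[p]), ¬ ((p : ℤ_[p]) ∣ a) ∧
          ((ϕ g : GL (Fin 2) ℤ_[p]) : Matrix (Fin 2) (Fin 2) ℤ_[p]) =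
            !![1 + (p : ℤ_[p]) ^ n * a, (p : ℤ_[p]) ^ (n + 1) * b;
               (p : ℤ_[p]) ^ (n + 1) * c, 1 + (p : ℤ_[p]) ^ (n + 1) * d])
    (U : GL (Fin 2) ℤ_[p]) (n : ℕ) :
    ∃ g : G, Pi (n + 1) ((ϕ g : GL (Fin 2) ℤ_[p]) : Matrix (Fin 2) (Fin 2) ℤ_[p]) =
      Pi (n + 1) (U : Matrix (Fin 2) (Fin 2) ℤ_[p]) := by
  induction n with
  | zero => exact exists_Pi_one_eq hsurj U
  | succ n ih =>
    obtain ⟨g, hg⟩ := ih
    have hinv : ((ϕ g : GL (Fin 2) ℤ_[p]) : Matrix (Fin 2) (Fin 2) ℤ_[p]) *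
        (((ϕ g)⁻¹ : GL (Fin 2) ℤ_[p]) : Matrix (Fin 2) (Fin 2) ℤ_[p]) = 1 := Units.mul_inv (ϕ g)
    have hinv' : (((ϕ g)⁻¹ : GL (Fin 2) ℤ_[p]) : Matrix (Fin 2) (Fin 2) ℤ_[p]) *
        ((ϕ g : GL (Fin 2) ℤ_[p]) : Matrix (Fin 2) (Fin 2) ℤ_[p]) = 1 := Units.inv_mul (ϕ g)
    have h1 : Pi (p := p) (n + 1) ((U : Matrix (Fin 2) (Fin 2) ℤ_[p]) *
        (((ϕ g)⁻¹ : GL (Fin 2) ℤ_[p]) : Matrix (Fin 2) (Fin 2) ℤ_[p])) = Pi (n + 1) 1 := by
      rw [map_mul, ← hg, ← map_mul, hinv]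
    obtain ⟨N, hN⟩ := exists_eq_add h1
    obtain ⟨h, hh⟩ := inT_all hsurj (Nat.succ_le_succ (Nat.zero_le n)) (hii (n + 1) (by omega)) N
    refine ⟨h * g, ?_⟩
    have hmul : ((ϕ (h * g) : GL (Fin 2) ℤ_[p]) : Matrix (Fin 2) (Fin 2) ℤ_[p]) =
        ((ϕ h : GL (Fin 2) ℤ_[p]) : Matrix (Fin 2) (Fin 2) ℤ_[p]) *
          ((ϕ g : GL (Fin 2) ℤ_[p]) : Matrix (Fin 2) (Fin 2) ℤ_[p]) := by
      rw [map_mul]; rfl
    rw [hmul, map_mul, hh, ← hN, ← map_mul, mul_assoc, hinv', mul_one]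

theorem surjective_of_mod_p_of_elementary [TopologicalSpace G] [CompactSpace G]
    (hϕ : Continuous fun g => ((ϕ g : GL (Fin 2) ℤ_[p]) : Matrix (Fin 2) (Fin 2) ℤ_[p]))
    (hsurj : Function.Surjective ((Matrix.GeneralLinearGroup.map (n := Fin 2) (PadicInt.toZMod (p := p))).comp ϕ))
    (hii : ∀ n : ℕ, 1 ≤ n → ∃ (g : G) (a b c d : ℤ_[p]), ¬ ((p : ℤ_[p]) ∣ a) ∧
          ((ϕ g : GL (Fin 2) ℤ_[p]) : Matrix (Fin 2) (Fin 2) ℤ_[p]) =
            !![1 + (p : ℤ_[p]) ^ n * a, (p : ℤ_[p]) ^ (n + 1) * b;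
               (p : ℤ_[p]) ^ (n + 1) * c, 1 + (p : ℤ_[p]) ^ (n + 1) * d]) :
    Function.Surjective ϕ := by
  intro U
  let t : ℕ → Set G := fun n => {g | Pi (n + 1) ((ϕ g : GL (Fin 2) ℤ_[p]) : Matrix (Fin 2) (Fin 2) ℤ_[p]) =
      Pi (n + 1) (U : Matrix (Fin 2) (Fin 2) ℤ_[p])}
  have hcl : ∀ n, IsClosed (t n) := fun n =>
    (isClosed_setOf_Pi_eq (n + 1) (U : Matrix (Fin 2) (Fin 2) ℤ_[p])).preimage hϕ
  have hne : ∀ n, (t n).Nonempty := fun n => exists_Pi_eq hsurj hii U n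
  have hmono : ∀ n, t (n + 1) ⊆ t n := fun n g hg => Pi_mono (Nat.le_succ _) hg
  obtain ⟨g, hg⟩ := IsCompact.nonempty_iInter_of_sequence_nonempty_isCompact_isClosed t hmono hne
    (hcl 0).isCompact hcl
  refine ⟨g, ?_⟩
  rw [Set.mem_iInter] at hg
  apply Units.ext
  ext i j
  have : ((ϕ g : GL (Fin 2) ℤ_[p]) : Matrix (Fin 2) (Fin 2) ℤ_[p]) i j - (U : Matrix (Fin 2) (Fin 2) ℤ_[p]) i j = 0 := by
    apply eq_zero_of_forall_pow_dvd
    intro n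
    have h1 : Pi (n + 1) ((ϕ g : GL (Fin 2) ℤ_[p]) : Matrix (Fin 2) (Fin 2) ℤ_[p]) =
      Pi (n + 1) (U : Matrix (Fin 2) (Fin 2) ℤ_[p]) := hg n
    rw [Pi_eq_iff] at h1
    exact dvd_trans (pow_dvd_pow _ (Nat.le_succ n)) (h1 i j)
  exact sub_eq_zero.mp this

end Hom

/-- reduction `GL₂(ℤ_p) → GL₂(𝔽_p)` is surjective -/
theorem map_toZMod_surjective :
    Function.Surjective (Matrix.GeneralLinearGroup.map (n := Fin 2) (PadicInt.toZMod (p := p))) := by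
  intro V
  have hs : Function.Surjective (PadicInt.toZMod (p := p)) := ZMod.ringHom_surjective _
  choose A hA using fun i j => hs ((V : Matrix (Fin 2) (Fin 2) (ZMod p)) i j)
  have hmap : (PadicInt.toZMod (p := p)).mapMatrix (Matrix.of A) = (V : Matrix (Fin 2) (Fin 2) (ZMod p)) := by
    ext i j
    simp [hA]
  have hdet : IsUnit (Matrix.of A).det := by
    have h1 : PadicInt.toZMod (p := p) (Matrix.of A).det = (V : Matrix (Fin 2) (Fin 2) (ZMod p)).det := by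
      rw [RingHom.map_det, hmap]
    have h2 : IsUnit (V : Matrix (Fin 2) (Fin 2) (ZMod p)).det :=
      (Matrix.isUnit_iff_isUnit_det _).mp V.isUnit
    by_contra hnu
    have hmem : (Matrix.of A).det ∈ IsLocalRing.maximalIdeal ℤ_[p] := hnu
    rw [← PadicInt.ker_toZMod, RingHom.mem_ker, h1] at hmem
    rw [hmem] at h2
    exact not_isUnit_zero h2
  refine ⟨Matrix.GeneralLinearGroup.mk'' (Matrix.of A) hdet, ?_⟩
  apply Units.ext
  ext i j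
  rw [Matrix.GeneralLinearGroup.map_apply]
  exact hA i j

theorem main (p : ℕ) [Fact p.Prime]
    (G : Type*) [Group G] [TopologicalSpace G] [CompactSpace G]
    (ϕ : G →* GL (Fin 2) ℤ_[p])
    (hϕ : Continuous fun g => ((ϕ g : GL (Fin 2) ℤ_[p]) : Matrix (Fin 2) (Fin 2) ℤ_[p])) :
    Function.Surjective ϕ ↔
      (Function.Surjective ((Matrix.GeneralLinearGroup.map (n := Fin 2) (PadicInt.toZMod (p := p))).comp ϕ) ∧
        ∀ n : ℕ, 1 ≤ n → ∃ (g : G) (a b c d : ℤ_[p]), ¬ ((p : ℤ_[p]) ∣ a) ∧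
          ((ϕ g : GL (Fin 2) ℤ_[p]) : Matrix (Fin 2) (Fin 2) ℤ_[p]) =
            !![1 + (p : ℤ_[p]) ^ n * a, (p : ℤ_[p]) ^ (n + 1) * b;
               (p : ℤ_[p]) ^ (n + 1) * c, 1 + (p : ℤ_[p]) ^ (n + 1) * d]) := by
  constructor
  · intro hs
    refine ⟨?_, ?_⟩
    · rw [MonoidHom.coe_comp]
      exact map_toZMod_surjective.comp hs
    · intro n hn
      have hunit : IsUnit (1 + (p : ℤ_[p]) ^ n) := by
        by_contra hnu
        have hmem : (1 + (p : ℤ_[p]) ^ n) ∈ IsLocalRing.maximalIdeal ℤ_[p] := hnu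
        have hp : (p : ℤ_[p]) ^ n ∈ IsLocalRing.maximalIdeal ℤ_[p] := by
          rw [PadicInt.maximalIdeal_eq_span_p, Ideal.mem_span_singleton]
          exact dvd_pow_self _ (by omega)
        have h1 : (1 : ℤ_[p]) ∈ IsLocalRing.maximalIdeal ℤ_[p] := by
          have := Ideal.sub_mem _ hmem hp
          rwa [add_sub_cancel_right] at this
        exact (Ideal.ne_top_iff_one _).mp (IsLocalRing.maximalIdeal.isMaximal ℤ_[p]).ne_top h1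
      have hdet : IsUnit (!![1 + (p : ℤ_[p]) ^ n * 1, (p : ℤ_[p]) ^ (n + 1) * 0;
               (p : ℤ_[p]) ^ (n + 1) * 0, 1 + (p : ℤ_[p]) ^ (n + 1) * 0]).det := by
        rw [Matrix.det_fin_two_of]
        simpa using hunit
      obtain ⟨g, hg⟩ := hs (Matrix.GeneralLinearGroup.mk'' _ hdet)
      refine ⟨g, 1, 0, 0, 0, ?_, ?_⟩
      · exact PadicInt.prime_p.not_dvd_one
      · rw [hg]; rfl
  · rintro ⟨h1, h2⟩
    exact surjective_of_mod_p_of_elementary hϕ h1 h2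

end Groth.Agent.H3.GL2
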