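import Mathlib

/-!
# Irreducible versus connected components of a Noetherian space (helper3)
-/

set_option autoImplicit false
universe u

namespace Groth.Agent.H3.IrrConn

open TopologicalSpace Set

variable {α : Type u} [TopologicalSpace α]

/-- The connected component containing an irreducible component. -/
noncomputable def compMap (T : ↥(irreducibleComponents α)) : ConnectedComponents α :=
  ConnectedComponents.mk T.2.1.nonempty.some

theorem compMap_eq (T : ↥(irreducibleComponents α)) {x : α} (hx : x ∈ T.1) :
    compMap T = ConnectedComponents.mk x := by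
  unfold compMap
  rw [ConnectedComponents.coe_eq_coe']
  exact T.2.1.isConnected.isPreconnected.subset_connectedComponent hx T.2.1.nonempty.some_mem

theorem compMap_surjective : Function.Surjective (compMap (α := α)) := by
  intro c
  obtain ⟨x, rfl⟩ := ConnectedComponents.surjective_coe c
  exact ⟨⟨irreducibleComponent x, irreducibleComponent_mem_irreducibleComponents x⟩,
    compMap_eq _ mem_irreducibleComponent⟩

theorem isOpen_of_disjoint [NoetherianSpace α]
    (hdis : ∀ T ∈ irreducibleComponents α, ∀ T' ∈ irreducibleComponents α,
      (T ∩ T').Nonempty → T = T')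
    (T : Set α) (hT : T ∈ irreducibleComponents α) : IsOpen T := by
  rw [← isClosed_compl_iff]
  have hfin : (irreducibleComponents α \ {T}).Finite :=
    (NoetherianSpace.finite_irreducibleComponents).subset sdiff_subset
  have : Tᶜ = ⋃ T' ∈ (irreducibleComponents α \ {T}), T' := by
    ext y
    simp only [mem_compl_iff, mem_iUnion, exists_prop]
    constructor
    · intro hy
      refine ⟨irreducibleComponent y, ⟨irreducibleComponent_mem_irreducibleComponents y, ?_⟩,
        mem_irreducibleComponent⟩
      intro h
      rw [mem_singleton_iff] at h
      exact hy (h ▸ mem_irreducibleComponent)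
    · rintro ⟨T', ⟨hT', hne⟩, hy⟩ hyT
      exact hne (hdis T' hT' T hT ⟨y, hy, hyT⟩)
  rw [this]
  exact hfin.isClosed_biUnion fun T' hT' => isClosed_of_mem_irreducibleComponents T' hT'.1

/-- If the irreducible components of a Noetherian space are pairwise disjoint, there are as many
irreducible as connected components. -/
theorem card_eq_of_disjoint [NoetherianSpace α]
    (hdis : ∀ T ∈ irreducibleComponents α, ∀ T' ∈ irreducibleComponents α,
      (T ∩ T').Nonempty → T = T') :
    Nat.card ↥(irreducibleComponents α) = Nat.card (ConnectedComponents α) := by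
  refine Nat.card_eq_of_bijective compMap ⟨?_, compMap_surjective⟩
  rintro ⟨T, hT⟩ ⟨T', hT'⟩ h
  obtain ⟨t, ht⟩ := hT.1.nonempty
  obtain ⟨t', ht'⟩ := hT'.1.nonempty
  rw [compMap_eq ⟨T, hT⟩ ht, compMap_eq ⟨T', hT'⟩ ht', ConnectedComponents.coe_eq_coe'] at h
  -- `t ∈ connectedComponent t'`
  have hclopen : IsClopen T' :=
    ⟨isClosed_of_mem_irreducibleComponents T' hT', isOpen_of_disjoint hdis T' hT'⟩
  have hsub : connectedComponent t' ⊆ T' :=
    hclopen.connectedComponent_subset ht'
  exact Subtype.ext (hdis T hT T' hT' ⟨t, ht, hsub h⟩)

/-- If a Noetherian space has as many irreducible as connected components, then the irreducible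
components are pairwise disjoint. -/
theorem disjoint_of_card_eq [NoetherianSpace α]
    (h : Nat.card ↥(irreducibleComponents α) = Nat.card (ConnectedComponents α)) :
    ∀ T ∈ irreducibleComponents α, ∀ T' ∈ irreducibleComponents α,
      (T ∩ T').Nonempty → T = T' := by
  haveI : Finite ↥(irreducibleComponents α) :=
    (NoetherianSpace.finite_irreducibleComponents (α := α)).to_subtype
  have hbij : Function.Bijective (compMap (α := α)) :=
    compMap_surjective.bijective_of_nat_card_le h.le
  intro T hT T' hT' ⟨y, hy, hy'⟩
  have := hbij.1 ((compMap_eq ⟨T, hT⟩ hy).trans (compMap_eq ⟨T', hT'⟩ hy').symm)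
  exact congrArg Subtype.val this

/-- In a Noetherian space with as many irreducible as connected components, every point has an
open irreducible neighbourhood. -/
theorem exists_open_irreducible_of_card_eq [NoetherianSpace α]
    (h : Nat.card ↥(irreducibleComponents α) = Nat.card (ConnectedComponents α)) (x : α) :
    ∃ U : Set α, IsOpen U ∧ x ∈ U ∧ IsIrreducible U :=
  ⟨irreducibleComponent x,
    isOpen_of_disjoint (disjoint_of_card_eq h) _ (irreducibleComponent_mem_irreducibleComponents x),
    mem_irreducibleComponent, isIrreducible_irreducibleComponent⟩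

end Groth.Agent.H3.IrrConn
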