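import Mathlib
import Groth.Agent.Lib.Helper3.IrrConnA
import Groth.Agent.S4630
import Groth.Agent.S4631

/-!
# Geometric pointwise integrality via counts of components (helper3)
-/

set_option autoImplicit false
universe u

namespace Groth.Agent.H3.IrrConn

open CategoryTheory CategoryTheory.Limits AlgebraicGeometry TopologicalSpace Set

/-- A point whose local ring is a domain lies on exactly one irreducible component. -/
theorem eq_of_isDomain_stalk {Y : Scheme.{u}} (x : Y) [IsDomain (Y.presheaf.stalk x)]
    (T T' : Set Y) (hT : T ∈ irreducibleComponents Y) (hT' : T' ∈ irreducibleComponents Y)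
    (hx : x ∈ T) (hx' : x ∈ T') : T = T' := by
  let ξ0 : PrimeSpectrum (Y.presheaf.stalk x) := ⟨⊥, Ideal.isPrime_bot⟩
  let ξ : Y := Y.fromSpecStalk x ξ0
  have key : ∀ S : Set Y, S ∈ irreducibleComponents Y → x ∈ S → S = closure {ξ} := by
    intro S hS hxS
    have hSc : IsClosed S := isClosed_of_mem_irreducibleComponents S hS
    have hη : IsGenericPoint hS.1.genericPoint S := hS.1.isGenericPoint_genericPoint hSc
    set η := hS.1.genericPoint with hηdef
    have hηx : η ⤳ x := hη.specializes hxS
    obtain ⟨p, hp⟩ : η ∈ Set.range (Y.fromSpecStalk x) := by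
      rw [Scheme.range_fromSpecStalk]; exact hηx
    have hle : ξ0 ⤳ p := by
      rw [← PrimeSpectrum.le_iff_specializes]
      exact bot_le (a := p.asIdeal)
    have hξη : ξ ⤳ η := by
      rw [← hp]
      exact hle.map (Y.fromSpecStalk x).continuous
    have hsub : S ⊆ closure {ξ} := by
      rw [← hη.def]
      exact closure_minimal (by
        intro y hy
        rw [mem_singleton_iff] at hy
        rw [hy]
        exact hξη.mem_closure) isClosed_closure
    exact subset_antisymm hsub (hS.2 isIrreducible_singleton.closure hsub)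
  rw [key T hT hx, key T' hT' hx']

/-- On a reduced scheme, a point with an irreducible open neighbourhood has a domain as local
ring. -/
theorem isDomain_stalk_of_irreducible_nhd {Y : Scheme.{u}} [IsReduced Y] (x : Y) (U : Y.Opens)
    (hxU : x ∈ U) (hU : IsIrreducible (U : Set Y)) : IsDomain (Y.presheaf.stalk x) := by
  haveI : IrreducibleSpace ↥(U : Scheme.{u}) := Subtype.irreducibleSpace hU
  haveI : IsIntegral (U : Scheme.{u}) := isIntegral_of_irreducibleSpace_of_isReduced _
  have hd : IsDomain ((U : Scheme.{u}).presheaf.stalk ⟨x, hxU⟩) := inferInstance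
  have e : Y.presheaf.stalk x ≃+* (U : Scheme.{u}).presheaf.stalk ⟨x, hxU⟩ :=
    (asIso (U.ι.stalkMap ⟨x, hxU⟩)).commRingCatIsoToRingEquiv
  exact e.toMulEquiv.isDomain _

end Groth.Agent.H3.IrrConn

namespace Groth.Agent.H3.IrrConn

open CategoryTheory CategoryTheory.Limits AlgebraicGeometry TopologicalSpace Set

theorem main {k Ω : Type u} [Field k] [Field Ω] [Algebra k Ω] [IsAlgClosed Ω]
    {X : Scheme.{u}} (f : X ⟶ Spec (CommRingCat.of k)) [LocallyOfFiniteType f] [QuasiCompact f] :
    (∀ x : X, FBase.IsGeomPtIntegralAt f x) ↔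
      (GeometricallyReduced f ∧
        Nat.card ↥(irreducibleComponents ↥(FBase.bc f Ω)) =
          Nat.card (_root_.ConnectedComponents ↥(FBase.bc f Ω))) := by
  haveI : LocallyOfFiniteType (FBase.bcStr f Ω) := by
    unfold FBase.bcStr; exact MorphismProperty.pullback_snd _ _ inferInstance
  haveI : QuasiCompact (FBase.bcStr f Ω) := by
    unfold FBase.bcStr; exact MorphismProperty.pullback_snd _ _ inferInstance
  haveI : IsLocallyNoetherian (FBase.bc f Ω) :=
    LocallyOfFiniteType.isLocallyNoetherian (FBase.bcStr f Ω)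
  haveI : CompactSpace (FBase.bc f Ω) :=
    QuasiCompact.compactSpace_of_compactSpace (FBase.bcStr f Ω)
  haveI : IsNoetherian (FBase.bc f Ω) := {}
  constructor
  · intro h
    refine ⟨?_, ?_⟩
    · rw [geometricallyReduced_iff, geometrically_iff_of_commRing_of_isClosedUnderIsomorphisms]
      intro K _ _
      haveI : ∀ x' : ↥(FBase.bc f K), _root_.IsReduced ((FBase.bc f K).presheaf.stalk x') := by
        intro x'
        haveI := h _ K x' rfl
        infer_instance
      exact isReduced_of_isReduced_stalk (FBase.bc f K)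
    · apply card_eq_of_disjoint
      rintro T hT T' hT' ⟨y, hy, hy'⟩
      haveI : IsDomain ((FBase.bc f Ω).presheaf.stalk y) := h _ Ω y rfl
      exact eq_of_isDomain_stalk y T T' hT hT' hy hy'
  · rintro ⟨hred, hcard⟩ x
    haveI : IsReduced (FBase.bc f Ω) := by
      rw [geometricallyReduced_iff,
        geometrically_iff_of_commRing_of_isClosedUnderIsomorphisms] at hred
      exact hred Ω
    haveI : Surjective (FBase.bcπ f Ω) := by
      unfold FBase.bcπ
      exact MorphismProperty.pullback_fst _ _ inferInstance
    obtain ⟨y, rfl⟩ := (FBase.bcπ f Ω).surjective x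
    rw [Groth.Agent.S4630.result f y, Groth.Agent.S4631.result]
    obtain ⟨U, hUo, hyU, hUirr⟩ := exists_open_irreducible_of_card_eq hcard y
    exact isDomain_stalk_of_irreducible_nhd y ⟨U, hUo⟩ hyU hUirr

end Groth.Agent.H3.IrrConn
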