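import Mathlib

/-!
# Galois-type algebra for free actions of finite groups (helper3)

`A` a commutative ring with an action of a finite group `G`, `B → A` injective with image the
invariants, and for every `g ≠ 1` the ideal generated by the `a - g • a` is the unit ideal.
Then `A` is finite projective over `B` and formally unramified over `B`.
(Chase–Harrison–Rosenberg.)
-/

set_option autoImplicit false

open scoped TensorProduct

namespace Groth.Agent.H3.GalAlg

universe uA

variable {A : Type uA} {B G : Type*} [CommRing A] [CommRing B] [Algebra B A] [Group G]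
  [MulSemiringAction G A] [SMulCommClass G B A]

/-- `a ⊗ a' ↦ a * g • a'` -/
noncomputable def phi (g : G) : A ⊗[B] A →ₐ[B] A :=
  Algebra.TensorProduct.productMap (AlgHom.id B A) (MulSemiringAction.toAlgHom B A g)

lemma phi_tmul (g : G) (a a' : A) : phi (B := B) g (a ⊗ₜ[B] a') = a * g • a' := by
  simp [phi]

lemma exists_Esig (σ : G) (h : Ideal.span (Set.range fun a : A => a - σ • a) = ⊤) :
    ∃ t : A ⊗[B] A, phi (B := B) σ t = 1 ∧ phi (B := B) (1 : G) t = 0 := by
  have h1 : (1 : A) ∈ Submodule.span A (Set.range fun a : A => a - σ • a) := by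
    change (1 : A) ∈ Ideal.span _
    rw [h]; trivial
  rw [Finsupp.mem_span_range_iff_exists_finsupp] at h1
  obtain ⟨c, hc⟩ := h1
  refine ⟨c.sum fun a r => (r * a) ⊗ₜ[B] (1 : A) - r ⊗ₜ[B] a, ?_, ?_⟩
  · rw [map_finsuppSum]
    refine Eq.trans (Finsupp.sum_congr fun a _ => ?_) hc
    rw [map_sub, phi_tmul, phi_tmul, smul_one, mul_one, smul_eq_mul, mul_sub]
  · rw [map_finsuppSum]
    refine (Finsupp.sum_congr (g2 := fun _ _ => (0 : A)) fun a _ => ?_).trans (by simp)
    rw [map_sub, phi_tmul, phi_tmul, smul_one, one_smul, mul_one, sub_self]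

variable [Fintype G]

lemma exists_E (hfree : ∀ g : G, g ≠ 1 → Ideal.span (Set.range fun a : A => a - g • a) = ⊤) :
    ∃ E : A ⊗[B] A, phi (B := B) (1 : G) E = 1 ∧ ∀ τ : G, τ ≠ 1 → phi (B := B) τ E = 0 := by
  classical
  choose! t ht using fun (σ : G) (h : σ ≠ 1) => exists_Esig (B := B) σ (hfree σ h)
  refine ⟨∏ σ ∈ Finset.univ.erase (1 : G), (1 - t σ), ?_, fun τ hτ => ?_⟩
  · rw [map_prod]
    refine Finset.prod_eq_one fun σ hσ => ?_
    rw [map_sub, map_one, (ht σ (Finset.ne_of_mem_erase hσ)).2, sub_zero]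
  · rw [map_prod]
    refine Finset.prod_eq_zero (i := τ) (Finset.mem_erase.mpr ⟨hτ, Finset.mem_univ _⟩) ?_
    rw [map_sub, map_one, (ht τ hτ).1, sub_self]

/-- the Galois elements -/
theorem exists_galois_elements (B' : Type*) [CommRing B'] [Algebra B' A] [SMulCommClass G B' A]
    (hfree : ∀ g : G, g ≠ 1 → Ideal.span (Set.range fun a : A => a - g • a) = ⊤) :
    ∃ (ι : Type uA) (_ : Fintype ι) (x y : ι → A),
      ∑ i, x i * y i = 1 ∧ ∀ τ : G, τ ≠ 1 → ∑ i, x i * τ • y i = 0 := by
  obtain ⟨E, hE1, hE0⟩ := exists_E (B := B') hfree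
  obtain ⟨S, hS⟩ := TensorProduct.exists_finset E
  have key : ∀ τ : G, ∑ i : ↥S, i.1.1 * τ • i.1.2 = phi (B := B') τ E := by
    intro τ
    rw [hS, map_sum, Finset.sum_coe_sort S (fun i => i.1 * τ • i.2)]
    refine Finset.sum_congr rfl fun i _ => ?_
    rw [phi_tmul]
  refine ⟨↥S, inferInstance, fun i => i.1.1, fun i => i.1.2, ?_, fun τ hτ => ?_⟩
  · rw [← hE1, ← key 1]
    simp
  · rw [← hE0 τ hτ, ← key τ]

section Trace

variable [Algebra.IsInvariant B A G]

/-- sum over the group -/
noncomputable def trA : A →ₗ[B] A := ∑ g : G, (MulSemiringAction.toAlgHom B A g).toLinearMap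

omit [Algebra.IsInvariant B A G] in
lemma trA_apply (a : A) : trA (B := B) (G := G) a = ∑ g : G, g • a := by
  simp [trA]

omit [Algebra.IsInvariant B A G] in
lemma smul_trA (h : G) (a : A) : h • trA (B := B) (G := G) a = trA (B := B) (G := G) a := by
  rw [trA_apply, Finset.smul_sum]
  refine Fintype.sum_equiv (Equiv.mulLeft h) _ _ fun g => ?_
  rw [Equiv.coe_mulLeft, mul_smul]

lemma trA_mem_range (a : A) :
    trA (B := B) (G := G) a ∈ LinearMap.range (Algebra.linearMap B A) := by
  obtain ⟨b, hb⟩ := Algebra.IsInvariant.isInvariant (A := B) (G := G) (trA (B := B) (G := G) a)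
    (fun g => smul_trA g a)
  exact ⟨b, hb⟩

variable (hinj : Function.Injective (algebraMap B A))

/-- the trace to `B` -/
noncomputable def trB : A →ₗ[B] B :=
  (LinearEquiv.ofInjective (Algebra.linearMap B A) hinj).symm.toLinearMap ∘ₗ
    ((trA (B := B) (G := G)).codRestrict _ trA_mem_range)

lemma algebraMap_trB (a : A) : algebraMap B A (trB (G := G) hinj a) = ∑ g : G, g • a := by
  have h := (LinearEquiv.ofInjective (Algebra.linearMap B A) hinj).apply_symm_apply
    ((trA (B := B) (G := G)).codRestrict _ trA_mem_range a)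
  have h2 := congrArg Subtype.val h
  rw [LinearEquiv.ofInjective_apply] at h2
  rw [← trA_apply (B := B)]
  exact h2

variable {ι : Type*} [Fintype ι] (x y : ι → A)
  (hxy : ∑ i, x i * y i = 1 ∧ ∀ τ : G, τ ≠ 1 → ∑ i, x i * τ • y i = 0)

include hxy in
/-- the trace formula -/
lemma trace_formula (a : A) : ∑ i, trB (G := G) hinj (y i * a) • x i = a := by
  classical
  simp_rw [Algebra.smul_def, algebraMap_trB, Finset.sum_mul, smul_mul']
  rw [Finset.sum_comm]
  have h0 : ∀ g : G, ∑ i, g • y i * g • a * x i = (∑ i, x i * g • y i) * g • a := by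
    intro g
    rw [Finset.sum_mul]
    refine Finset.sum_congr rfl fun i _ => by ring
  simp_rw [h0]
  rw [Finset.sum_eq_single (1 : G)]
  · simp only [one_smul]
    rw [hxy.1, one_mul]
  · intro g _ hg
    rw [hxy.2 g hg, zero_mul]
  · intro h; exact absurd (Finset.mem_univ _) h

include hxy hinj in
theorem projective_finite : Module.Projective B A ∧ Module.Finite B A := by
  let i : A →ₗ[B] (ι → B) := LinearMap.pi fun j => trB (G := G) hinj ∘ₗ LinearMap.mulLeft B (y j)
  let s : (ι → B) →ₗ[B] A := Fintype.linearCombination B x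
  have hsi : s ∘ₗ i = LinearMap.id := by
    ext a
    simp only [LinearMap.coe_comp, Function.comp_apply, LinearMap.id_coe, id_eq, s, i,
      Fintype.linearCombination_apply, LinearMap.pi_apply, LinearMap.mulLeft_apply]
    exact trace_formula hinj x y hxy a
  refine ⟨Module.Projective.of_split i s hsi, Module.Finite.of_surjective s fun a => ⟨i a, ?_⟩⟩
  exact congrArg (fun f : A →ₗ[B] A => f a) hsi

include hxy hinj in
theorem formallyUnramified : Algebra.FormallyUnramified B A := by
  classical
  let D := KaehlerDifferential.D B A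
  have hone : ∑ i, x i * y i = 1 := hxy.1
  have F1 : ∀ c : A, D c = ∑ j, trB (G := G) hinj (y j * c) • D (x j) := by
    intro c
    conv_lhs => rw [← trace_formula hinj x y hxy c]
    rw [map_sum]
    refine Finset.sum_congr rfl fun j _ => ?_
    rw [Derivation.map_smul]
  have hD : ∀ a : A, D a = 0 := by
    intro a
    have S1 : ∑ i, x i • D (y i * a) = ∑ j, (y j * a) • D (x j) := by
      simp_rw [F1 (y _ * a), Finset.smul_sum]
      rw [Finset.sum_comm]
      refine Finset.sum_congr rfl fun j _ => ?_
      conv_rhs => rw [← trace_formula hinj x y hxy (y j * a), Finset.sum_smul]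
      refine Finset.sum_congr rfl fun i _ => ?_
      rw [smul_comm, smul_assoc, mul_left_comm]
    have S2 : ∑ i, (a * x i) • D (y i) = ∑ j, (a * y j) • D (x j) := by
      simp_rw [F1 (y _), Finset.smul_sum]
      rw [Finset.sum_comm]
      refine Finset.sum_congr rfl fun j _ => ?_
      conv_rhs => rw [← trace_formula hinj x y hxy (y j), Finset.mul_sum, Finset.sum_smul]
      refine Finset.sum_congr rfl fun i _ => ?_
      rw [smul_comm, mul_smul_comm, smul_assoc, mul_comm (y j) (y i)]
    have S3 : ∑ i, x i • D (y i * a) = D a + ∑ i, (a * x i) • D (y i) := by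
      simp_rw [Derivation.leibniz, smul_add, smul_smul]
      rw [Finset.sum_add_distrib, ← Finset.sum_smul, hone, one_smul]
      congr 1
      refine Finset.sum_congr rfl fun i _ => by rw [mul_comm]
    rw [S1, S2] at S3
    have : ∑ j, (y j * a) • D (x j) = ∑ j, (a * y j) • D (x j) :=
      Finset.sum_congr rfl fun j _ => by rw [mul_comm]
    rw [this] at S3
    exact (add_eq_right.mp S3.symm)
  constructor
  have htop := KaehlerDifferential.span_range_derivation B A
  have : Set.range (KaehlerDifferential.D B A) ⊆ {0} := by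
    rintro _ ⟨a, rfl⟩
    exact hD a
  have h2 : (⊤ : Submodule A (Ω[A⁄B])) = ⊥ := by
    rw [← htop, ← Submodule.span_zero_singleton (R := A)]
    exact le_antisymm (Submodule.span_mono this) (by simp)
  exact (Submodule.subsingleton_iff A).mp (subsingleton_of_bot_eq_top h2.symm)

end Trace

end Groth.Agent.H3.GalAlg
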