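import Mathlib
import Groth.Prelude.Def_AlgSt
import Groth.Agent.Lib.Helper3.FibCatAux
import Groth.Agent.Lib.Helper3.FibCatYoneda
import Groth.Agent.Lib.Helper3.StackDescent

set_option autoImplicit false

universe v₅ u₅ v₄ u₄ v₃ u₃ v₂ u₂ v u

open CategoryTheory CategoryTheory.Functor CategoryTheory.Limits

namespace Groth.Agent.H3.GenDescent

open Groth.Agent.H3.FibCatAux Groth.Agent.H3.FibCatYoneda

variable {C : Type u} [Category.{v} C] {𝒳 : BasedCategory.{v₂, u₂} C} {U : C}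
  {𝒜 : BasedCategory.{v₃, u₃} C} (ι : 𝒜 ⥤ᵇ FibCat.overCat U)

/-- A cocone over a functor `D : 𝒜 ⥤ᵇ 𝒳` relative to `ι : 𝒜 ⥤ᵇ C/U`: an object over `U` with
compatible morphisms from the `D a` lying over the structure maps of the `ι a`. -/
structure GCocone (D : 𝒜 ⥤ᵇ 𝒳) where
  pt : 𝒳.obj
  pt_proj : 𝒳.p.obj pt = U
  leg : ∀ a : 𝒜.obj, D.obj a ⟶ pt
  leg_lift : ∀ a : 𝒜.obj, 𝒳.p.IsHomLift (ι.obj a).hom (leg a)
  w : ∀ ⦃a b : 𝒜.obj⦄ (f : a ⟶ b), D.map f ≫ leg b = leg a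

variable {ι}

/-- The cocone given by a functor on the whole slice. -/
def gcoconeOf (G : FibCat.overCat U ⥤ᵇ 𝒳) : GCocone ι ((Stk.restr ι 𝒳).obj G) where
  pt := G.obj (Over.mk (𝟙 U))
  pt_proj := G.w_obj (Over.mk (𝟙 U))
  leg a := G.map (toId (ι.obj a))
  leg_lift a := map_toId_isHomLift G (ι.obj a)
  w a b f := by
    exact (G.toFunctor.map_comp (ι.map f) (toId (ι.obj b))).symm.trans
      (congrArg (fun t => G.map t) (toId_comp (ι.map f)))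

/-- transport a cocone along a morphism of functors -/
def GCocone.precomp {D D' : 𝒜 ⥤ᵇ 𝒳} (s : GCocone ι D) (i : D' ⟶ D) : GCocone ι D' where
  pt := s.pt
  pt_proj := s.pt_proj
  leg a := i.toNatTrans.app a ≫ s.leg a
  leg_lift a := by
    have h1 := s.leg_lift a
    have h2 : 𝒳.p.IsHomLift (𝟙 (ι.obj a).left) (i.toNatTrans.app a) := by
      have := i.isHomLift' a
      have e : (ι.obj a).left = 𝒜.p.obj a := ι.w_obj a
      rw [e]; exact this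
    infer_instance
  w a b f := by
    have := i.toNatTrans.naturality f
    rw [← Category.assoc]
    erw [this]
    rw [Category.assoc, s.w f]

section Compare

variable (h𝒳 : FibCat.IsFibGrpd 𝒳.p) {D : 𝒜 ⥤ᵇ 𝒳} (s : GCocone ι D)
  (G : FibCat.overCat U ⥤ᵇ 𝒳) (e : G.obj (Over.mk (𝟙 U)) ⟶ s.pt) [he : 𝒳.p.IsHomLift (𝟙 U) e]

open Groth.Agent.H3.StackDescent in
include he h𝒳 in
lemma leg_isStronglyCartesian (A : Over U) :
    𝒳.p.IsStronglyCartesian A.hom (legOf' G e A) := by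
  have := legOf'_isHomLift G e A
  exact isStronglyCartesian_of_isHomLift 𝒳.p h𝒳 A.hom _

lemma leg_isHomLift' (a : 𝒜.obj) :
    𝒳.p.IsHomLift (𝟙 (ι.obj a).left ≫ (ι.obj a).hom) (s.leg a) := by
  rw [Category.id_comp]; exact s.leg_lift a

open Groth.Agent.H3.StackDescent in
/-- component of the comparison `D ⟶ ι ⋙ G` -/
noncomputable def gcompApp (a : 𝒜.obj) : D.obj a ⟶ G.obj (ι.obj a) :=
  haveI := leg_isStronglyCartesian h𝒳 s G e (ι.obj a)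
  haveI := leg_isHomLift' s a
  IsStronglyCartesian.map 𝒳.p (ι.obj a).hom (legOf' G e (ι.obj a))
    (f' := 𝟙 (ι.obj a).left ≫ (ι.obj a).hom) rfl (s.leg a)

open Groth.Agent.H3.StackDescent in
lemma gcompApp_isHomLift (a : 𝒜.obj) :
    𝒳.p.IsHomLift (𝟙 (ι.obj a).left) (gcompApp h𝒳 s G e a) := by
  have := leg_isStronglyCartesian h𝒳 s G e (ι.obj a)
  have := leg_isHomLift' s a
  exact IsStronglyCartesian.map_isHomLift 𝒳.p (ι.obj a).hom (legOf' G e (ι.obj a)) rfl (s.leg a)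

open Groth.Agent.H3.StackDescent in
lemma gcompApp_fac (a : 𝒜.obj) :
    gcompApp h𝒳 s G e a ≫ legOf' G e (ι.obj a) = s.leg a := by
  have := leg_isStronglyCartesian h𝒳 s G e (ι.obj a)
  have := leg_isHomLift' s a
  exact IsStronglyCartesian.fac 𝒳.p (ι.obj a).hom (legOf' G e (ι.obj a)) rfl (s.leg a)

lemma map_isHomLift_ι (D : 𝒜 ⥤ᵇ 𝒳) {a b : 𝒜.obj} (w : a ⟶ b) :
    𝒳.p.IsHomLift (ι.map w).left (D.map w) := by
  have h1 : (FibCat.overCat U).p.IsHomLift (ι.map w).left (ι.map w) :=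
    IsHomLift.map (Over.forget U) (ι.map w)
  have h2 : 𝒜.p.IsHomLift (ι.map w).left w := BasedFunctor.isHomLift_map ι _ w
  infer_instance

open Groth.Agent.H3.StackDescent in
lemma gcompApp_naturality {a b : 𝒜.obj} (w : a ⟶ b) :
    D.map w ≫ gcompApp h𝒳 s G e b = gcompApp h𝒳 s G e a ≫ G.map (ι.map w) := by
  have h1 := leg_isStronglyCartesian h𝒳 s G e (ι.obj b)
  have h2 := gcompApp_isHomLift h𝒳 s G e a
  have h3 := gcompApp_isHomLift h𝒳 s G e b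
  have h4 := map_isHomLift_ι (ι := ι) D w
  have h5 := map_isHomLift G (ι.map w)
  have h6 : 𝒳.p.IsHomLift (ι.map w).left (D.map w ≫ gcompApp h𝒳 s G e b) := inferInstance
  have h7 : 𝒳.p.IsHomLift (ι.map w).left (gcompApp h𝒳 s G e a ≫ G.map (ι.map w)) := inferInstance
  apply IsStronglyCartesian.ext 𝒳.p (ι.obj b).hom (legOf' G e (ι.obj b)) (ι.map w).left
  rw [Category.assoc, gcompApp_fac, s.w, Category.assoc, legOf'_map, gcompApp_fac]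

lemma gcompApp_isIso (a : 𝒜.obj) : IsIso (gcompApp h𝒳 s G e a) := by
  have := gcompApp_isHomLift h𝒳 s G e a
  exact isIso_of_isHomLift_id 𝒳.p h𝒳 (U := (ι.obj a).left) _

/-- the comparison isomorphism `D ≅ ι ⋙ G` attached to a cocone with vertex `G(id)` -/
noncomputable def gcompIso : D ≅ (Stk.restr ι 𝒳).obj G :=
  BasedNatIso.mkNatIso
    (NatIso.ofComponents
      (fun a => @asIso _ _ _ _ (gcompApp h𝒳 s G e a) (gcompApp_isIso h𝒳 s G e a))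
      (fun w => gcompApp_naturality h𝒳 s G e w))
    (fun a => by
      have := gcompApp_isHomLift h𝒳 s G e a
      have e' : (ι.obj a).left = 𝒜.p.obj a := ι.w_obj a
      rw [← e']; exact this)

end Compare

section Main

open Groth.Agent.H3.StackDescent

variable (h𝒳 : FibCat.IsFibGrpd 𝒳.p)

include h𝒳 in
lemma preservesAll (G : FibCat.overCat U ⥤ᵇ 𝒳) : FibCat.PreservesStronglyCartesian G := by
  intro R' S' f A B φ hφ
  have : 𝒳.p.IsHomLift f (G.map φ) := inferInstance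
  exact isStronglyCartesian_of_isHomLift 𝒳.p h𝒳 f _

include h𝒳 in
theorem gessSurj_iff :
    (Stk.restr ι 𝒳).EssSurj ↔ ∀ D : 𝒜 ⥤ᵇ 𝒳, Nonempty (GCocone ι D) := by
  have hfib : 𝒳.p.IsFibered := isFibered_of_isFibGrpd 𝒳.p h𝒳
  constructor
  · intro h D
    obtain ⟨G, ⟨i⟩⟩ := h.mem_essImage D
    exact ⟨(gcoconeOf G).precomp i.inv⟩
  · intro h
    constructor
    intro D
    obtain ⟨s⟩ := h D
    obtain ⟨G, e, he⟩ := exists_pb_leg s.pt s.pt_proj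
    exact ⟨G, ⟨(gcompIso h𝒳 s G e).symm⟩⟩

include h𝒳 in
theorem gfull_iff :
    (Stk.restr ι 𝒳).Full ↔ ∀ (D : 𝒜 ⥤ᵇ 𝒳) (s t : GCocone ι D),
      ∃ φ : s.pt ⟶ t.pt, 𝒳.p.IsHomLift (𝟙 U) φ ∧ ∀ a, s.leg a ≫ φ = t.leg a := by
  have hfib : 𝒳.p.IsFibered := isFibered_of_isFibGrpd 𝒳.p h𝒳
  constructor
  · intro h D s t
    obtain ⟨G, es, hes⟩ := exists_pb_leg s.pt s.pt_proj
    obtain ⟨H, et, het⟩ := exists_pb_leg t.pt t.pt_proj
    have hies : IsIso es := isIso_of_isHomLift_id 𝒳.p h𝒳 (U := U) es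
    obtain ⟨α, hα⟩ := h.map_surjective ((gcompIso h𝒳 s G es).inv ≫ (gcompIso h𝒳 t H et).hom)
    have hαid : 𝒳.p.IsHomLift (𝟙 U) (α.toNatTrans.app (Over.mk (𝟙 U))) :=
      app_isHomLift α (Over.mk (𝟙 U))
    refine ⟨inv es ≫ α.toNatTrans.app (Over.mk (𝟙 U)) ≫ et, inferInstance, ?_⟩
    intro a
    have e1 := gcompApp_fac h𝒳 s G es a
    have e2 := gcompApp_fac h𝒳 t H et a
    have h5 : (gcompIso h𝒳 s G es).hom ≫ (Stk.restr ι 𝒳).map α = (gcompIso h𝒳 t H et).hom := by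
      rw [hα, Iso.hom_inv_id_assoc]
    have e3 : gcompApp h𝒳 s G es a ≫ α.toNatTrans.app (ι.obj a) = gcompApp h𝒳 t H et a :=
      congrArg (fun β => β.toNatTrans.app a) h5
    have e4 := α.toNatTrans.naturality (toId (ι.obj a))
    unfold legOf' at e1 e2
    rw [← e1, ← e2, ← e3]
    simp only [Category.assoc, IsIso.hom_inv_id_assoc]
    congr 1
    rw [← Category.assoc, ← Category.assoc]
    congr 1
  · intro h
    constructor
    intro G H β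
    have hH := preservesAll h𝒳 H
    let t : GCocone ι ((Stk.restr ι 𝒳).obj G) := ((gcoconeOf H).precomp β)
    obtain ⟨φ, hφ, hφ'⟩ := h _ (gcoconeOf G) t
    obtain ⟨φ', hφ'eq⟩ : ∃ φ' : G.obj (Over.mk (𝟙 U)) ⟶ H.obj (Over.mk (𝟙 U)), φ' = φ := ⟨φ, rfl⟩
    have hφ'' : 𝒳.p.IsHomLift (𝟙 U) φ' := by rw [hφ'eq]; exact hφ
    refine ⟨ext G H hH φ', ?_⟩
    apply BasedNatTrans.homCategory.ext
    ext a
    obtain ⟨b, hb⟩ : ∃ b : G.obj (ι.obj a) ⟶ H.obj (ι.obj a), b = β.toNatTrans.app a := ⟨_, rfl⟩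
    change extApp G H hH φ' (ι.obj a) = β.toNatTrans.app a
    rw [← hb]
    have h1 := map_toId_isStronglyCartesian H hH (ι.obj a)
    have h2 := extApp_isHomLift G H hH φ' (ι.obj a)
    have h3 : 𝒳.p.IsHomLift (𝟙 (ι.obj a).left) b := by
      rw [hb]
      have := β.isHomLift' a
      have e' : (ι.obj a).left = 𝒜.p.obj a := ι.w_obj a
      rw [e']; exact this
    apply IsStronglyCartesian.ext 𝒳.p (ι.obj a).hom (H.map (toId (ι.obj a))) (𝟙 (ι.obj a).left)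
    rw [extApp_fac, hφ'eq, hb]
    exact hφ' a

include h𝒳 in
theorem gfaithful_iff :
    (Stk.restr ι 𝒳).Faithful ↔ ∀ (D : 𝒜 ⥤ᵇ 𝒳) (s : GCocone ι D) (y : 𝒳.obj) (φ ψ : s.pt ⟶ y),
      𝒳.p.IsHomLift (𝟙 U) φ → 𝒳.p.IsHomLift (𝟙 U) ψ →
      (∀ a, s.leg a ≫ φ = s.leg a ≫ ψ) → φ = ψ := by
  have hfib : 𝒳.p.IsFibered := isFibered_of_isFibGrpd 𝒳.p h𝒳
  constructor
  · intro h D s y φ ψ hφ hψ hc
    have hy : 𝒳.p.obj y = U := IsHomLift.codomain_eq 𝒳.p (𝟙 U) φ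
    obtain ⟨G, ex, hex⟩ := exists_pb_leg s.pt s.pt_proj
    obtain ⟨H, ey, hey⟩ := exists_pb_leg y hy
    have hiex : IsIso ex := isIso_of_isHomLift_id 𝒳.p h𝒳 (U := U) ex
    have hiey : IsIso ey := isIso_of_isHomLift_id 𝒳.p h𝒳 (U := U) ey
    obtain ⟨ey', h1, h2, h3⟩ : ∃ ey' : y ⟶ H.obj (Over.mk (𝟙 U)),
        𝒳.p.IsHomLift (𝟙 U) ey' ∧ ey ≫ ey' = 𝟙 _ ∧ ey' ≫ ey = 𝟙 _ :=
      ⟨inv ey, inferInstance, IsIso.hom_inv_id ey, IsIso.inv_hom_id ey⟩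
    have hξφ : 𝒳.p.IsHomLift (𝟙 U) (ex ≫ φ ≫ ey') := inferInstance
    have hξψ : 𝒳.p.IsHomLift (𝟙 U) (ex ≫ ψ ≫ ey') := inferInstance
    have hH := preservesAll h𝒳 H
    have key : (Stk.restr ι 𝒳).map (ext G H hH (ex ≫ φ ≫ ey')) =
        (Stk.restr ι 𝒳).map (ext G H hH (ex ≫ ψ ≫ ey')) := by
      apply BasedNatTrans.homCategory.ext
      ext a
      change extApp G H hH (ex ≫ φ ≫ ey') (ι.obj a) = extApp G H hH (ex ≫ ψ ≫ ey') (ι.obj a)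
      have i1 := map_toId_isStronglyCartesian H hH (ι.obj a)
      have i2 := extApp_isHomLift G H hH (ex ≫ φ ≫ ey') (ι.obj a)
      have i3 := extApp_isHomLift G H hH (ex ≫ ψ ≫ ey') (ι.obj a)
      apply IsStronglyCartesian.ext 𝒳.p (ι.obj a).hom (H.map (toId (ι.obj a))) (𝟙 (ι.obj a).left)
      rw [extApp_fac, extApp_fac]
      have e1 := gcompApp_fac h𝒳 s G ex a
      have hi := gcompApp_isIso h𝒳 s G ex a
      have := hc a
      rw [← e1] at this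
      unfold legOf' at this
      simp only [Category.assoc] at this
      have this2 := (cancel_epi (gcompApp h𝒳 s G ex a)).mp this
      rw [reassoc_of% this2]
    have key2 := h.map_injective key
    have key3 := congrArg (fun γ => γ.toNatTrans.app (Over.mk (𝟙 U))) key2
    rw [ext_app_id, ext_app_id] at key3
    have key4 : φ ≫ ey' = ψ ≫ ey' := (cancel_epi ex).mp key3
    have key5 := congrArg (fun t => t ≫ ey) key4
    simpa only [Category.assoc, h3, Category.comp_id] using key5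
  · intro h
    constructor
    intro G H α β hαβ
    apply natTrans_ext_of_app_id (preservesAll h𝒳 H)
    have i1 := app_isHomLift α (Over.mk (𝟙 U))
    have i2 := app_isHomLift β (Over.mk (𝟙 U))
    apply h _ (gcoconeOf (ι := ι) G) _ _ _ i1 i2
    intro a
    have e2 : α.toNatTrans.app (ι.obj a) = β.toNatTrans.app (ι.obj a) :=
      congrArg (fun γ => γ.toNatTrans.app a) hαβ
    have e3 := α.toNatTrans.naturality (toId (ι.obj a))
    have e4 := β.toNatTrans.naturality (toId (ι.obj a))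
    exact e3.trans ((congrArg (fun t => t ≫ H.map (toId (ι.obj a))) e2).trans e4.symm)

include h𝒳 in
theorem GCocone.hom_ext (h : (Stk.restr ι 𝒳).Faithful) {D : 𝒜 ⥤ᵇ 𝒳} (s : GCocone ι D)
    {U' : C} (u : U ⟶ U') {y : 𝒳.obj} (φ ψ : s.pt ⟶ y) [hφ : 𝒳.p.IsHomLift u φ]
    [hψ : 𝒳.p.IsHomLift u ψ] (hc : ∀ a, s.leg a ≫ φ = s.leg a ≫ ψ) : φ = ψ := by
  have hy : 𝒳.p.obj y = U' := IsHomLift.codomain_eq 𝒳.p u φ
  subst hy
  obtain ⟨yu, κ, hκ⟩ := h𝒳.exists_lift (x := y) u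
  have hκ' := isStronglyCartesian_of_isHomLift 𝒳.p h𝒳 u κ
  have i1 : 𝒳.p.IsHomLift (𝟙 U ≫ u) φ := by rw [Category.id_comp]; exact hφ
  have i2 : 𝒳.p.IsHomLift (𝟙 U ≫ u) ψ := by rw [Category.id_comp]; exact hψ
  have e1 := IsStronglyCartesian.fac 𝒳.p u κ (f' := 𝟙 U ≫ u) rfl φ
  have e2 := IsStronglyCartesian.fac 𝒳.p u κ (f' := 𝟙 U ≫ u) rfl ψ
  have l1 := IsStronglyCartesian.map_isHomLift 𝒳.p u κ (f' := 𝟙 U ≫ u) rfl φ
  have l2 := IsStronglyCartesian.map_isHomLift 𝒳.p u κ (f' := 𝟙 U ≫ u) rfl ψ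
  rw [← e1, ← e2]
  congr 1
  apply (gfaithful_iff h𝒳).mp h D s _ _ _ l1 l2
  intro a
  have := hc a
  rw [← e1, ← e2, ← Category.assoc, ← Category.assoc] at this
  have j0 := s.leg_lift a
  have j1 : 𝒳.p.IsHomLift (ι.obj a).hom
      (s.leg a ≫ IsStronglyCartesian.map 𝒳.p u κ (f' := 𝟙 U ≫ u) rfl φ) :=
    IsHomLift.comp_lift_id_right' 𝒳.p (ι.obj a).hom (s.leg a) U _
  have j2 : 𝒳.p.IsHomLift (ι.obj a).hom
      (s.leg a ≫ IsStronglyCartesian.map 𝒳.p u κ (f' := 𝟙 U ≫ u) rfl ψ) :=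
    IsHomLift.comp_lift_id_right' 𝒳.p (ι.obj a).hom (s.leg a) U _
  exact IsStronglyCartesian.ext 𝒳.p u κ (ι.obj a).hom this

include h𝒳 in
theorem gfullFaithful_iff :
    ((Stk.restr ι 𝒳).Full ∧ (Stk.restr ι 𝒳).Faithful) ↔ ∀ (D : 𝒜 ⥤ᵇ 𝒳) (s t : GCocone ι D),
      ∃! φ : s.pt ⟶ t.pt, 𝒳.p.IsHomLift (𝟙 U) φ ∧ ∀ a, s.leg a ≫ φ = t.leg a := by
  constructor
  · rintro ⟨h1, h2⟩ D s t
    obtain ⟨φ, hφ, hφ'⟩ := (gfull_iff h𝒳).mp h1 D s t
    refine ⟨φ, ⟨hφ, hφ'⟩, ?_⟩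
    rintro ψ ⟨hψ, hψ'⟩
    apply GCocone.hom_ext h𝒳 h2 s (𝟙 U)
    intro a
    rw [hφ', hψ']
  · intro h
    refine ⟨(gfull_iff h𝒳).mpr ?_, (gfaithful_iff h𝒳).mpr ?_⟩
    · intro D s t
      obtain ⟨φ, ⟨hφ, hφ'⟩, -⟩ := h D s t
      exact ⟨φ, hφ, hφ'⟩
    · intro D s y φ ψ hφ hψ hc
      have hy : 𝒳.p.obj y = U := IsHomLift.codomain_eq 𝒳.p (𝟙 U) φ
      let t : GCocone ι D :=
        { pt := y
          pt_proj := hy
          leg := fun a => s.leg a ≫ φ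
          leg_lift := fun a => by
            have := s.leg_lift a
            exact IsHomLift.comp_lift_id_right' 𝒳.p (ι.obj a).hom (s.leg a) U φ
          w := fun a b f => by
            rw [← Category.assoc, s.w] }
      obtain ⟨χ, -, hχ⟩ := h D s t
      have e1 : φ = χ := hχ φ ⟨hφ, fun a => rfl⟩
      have e2 : ψ = χ := hχ ψ ⟨hψ, fun a => (hc a).symm⟩
      rw [e1, e2]

include h𝒳 in
theorem gisEquivalence_iff :
    (Stk.restr ι 𝒳).IsEquivalence ↔ (∀ D : 𝒜 ⥤ᵇ 𝒳, Nonempty (GCocone ι D)) ∧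
      ∀ (D : 𝒜 ⥤ᵇ 𝒳) (s t : GCocone ι D),
      ∃! φ : s.pt ⟶ t.pt, 𝒳.p.IsHomLift (𝟙 U) φ ∧ ∀ a, s.leg a ≫ φ = t.leg a := by
  rw [← gfullFaithful_iff h𝒳, ← gessSurj_iff h𝒳]
  constructor
  · intro h
    exact ⟨inferInstance, inferInstance, inferInstance⟩
  · rintro ⟨h1, h2, h3⟩
    exact { faithful := h3, full := h2, essSurj := h1 }

end Main

section Transfer

variable {𝒳' : BasedCategory.{v₂, u₂} C} {𝒜₁ 𝒜₂ : BasedCategory.{v₂, u₂} C}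

open Bicategory in
/-- restriction along an equivalence over `C` is an equivalence of categories -/
theorem restr_isEquivalence_of_isEquivOver (Pi : 𝒜₁ ⥤ᵇ 𝒜₂) (hPi : FibCat.IsEquivOver Pi) :
    (Stk.restr Pi 𝒳').IsEquivalence := by
  obtain ⟨G, ⟨e₁⟩, ⟨e₂⟩⟩ := hPi
  exact precomp_isEquivalence 𝒳' (show 𝒜₁ ⟶ 𝒜₂ from Pi) (show 𝒜₂ ⟶ 𝒜₁ from G) e₁ e₂

/-- `restr (Pi ⋙ ι) ≅ restr ι ⋙ restr Pi` -/
def restrCompIso {𝒜₃ : BasedCategory.{v₃, u₃} C} {𝒜₄ : BasedCategory.{v₄, u₄} C}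
    {ℬ : BasedCategory.{v₅, u₅} C} (Pi : 𝒜₃ ⥤ᵇ 𝒜₄) (κ : 𝒜₄ ⥤ᵇ ℬ) :
    Stk.restr (BasedFunctor.comp Pi κ) 𝒳 ≅ Stk.restr κ 𝒳 ⋙ Stk.restr Pi 𝒳 :=
  NatIso.ofComponents (fun H => Iso.refl _) (by
    intro H H' α
    apply BasedNatTrans.homCategory.ext
    ext x
    erw [Category.comp_id, Category.id_comp]
    rfl)

theorem restr_comp_isEquivalence (Pi : 𝒜₁ ⥤ᵇ 𝒜₂) (hPi : FibCat.IsEquivOver Pi)
    (κ : 𝒜₂ ⥤ᵇ FibCat.overCat U) (h : (Stk.restr κ 𝒳').IsEquivalence) :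
    (Stk.restr (BasedFunctor.comp Pi κ) 𝒳').IsEquivalence := by
  have := restr_isEquivalence_of_isEquivOver (𝒳' := 𝒳') Pi hPi
  exact Functor.isEquivalence_of_iso (restrCompIso (𝒳 := 𝒳') Pi κ).symm

theorem restr_comp_fullFaithful (Pi : 𝒜₁ ⥤ᵇ 𝒜₂) (hPi : FibCat.IsEquivOver Pi)
    (κ : 𝒜₂ ⥤ᵇ FibCat.overCat U) (h : (Stk.restr κ 𝒳').Full ∧ (Stk.restr κ 𝒳').Faithful) :
    (Stk.restr (BasedFunctor.comp Pi κ) 𝒳').Full ∧ (Stk.restr (BasedFunctor.comp Pi κ) 𝒳').Faithful := by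
  have := restr_isEquivalence_of_isEquivOver (𝒳' := 𝒳') Pi hPi
  obtain ⟨h1, h2⟩ := h
  exact ⟨Functor.Full.of_iso (restrCompIso (𝒳 := 𝒳') Pi κ).symm,
    Functor.Faithful.of_iso (restrCompIso (𝒳 := 𝒳') Pi κ).symm⟩

end Transfer

end Groth.Agent.H3.GenDescent
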