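import Mathlib
import Groth.Agent.Lib.Helper9.KaehlerFunField

/-!
# Generic smoothness with relative dimension (characteristic zero)
-/

set_option autoImplicit false
universe u

open TensorProduct KaehlerDifferential

namespace Groth.Agent.H3.GenSmDim

section Alg

variable {A K L : Type u} [CommRing A] [Field K] [Field L]
  [Algebra A K] [IsFractionRing A K] [Algebra K L] [Algebra A L] [IsScalarTower A K L]

/-- for `K = Frac A`, the canonical map `Ω[L/A] → Ω[L/K]` is bijective. -/
theorem map_bijective_of_isFractionRing :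
    Function.Bijective (KaehlerDifferential.map A K L L) := by
  refine ⟨?_, KaehlerDifferential.map_surjective A K L⟩
  haveI : Algebra.FormallyEtale A K := Algebra.FormallyEtale.of_isLocalization (nonZeroDivisors A)
  haveI : Subsingleton (Ω[K⁄A]) := inferInstance
  haveI : Subsingleton (L ⊗[K] Ω[K⁄A]) := inferInstance
  rw [← LinearMap.ker_eq_bot, eq_bot_iff]
  intro x hx
  have hex := KaehlerDifferential.exact_mapBaseChange_map A K L
  obtain ⟨y, rfl⟩ := (hex x).mp hx
  rw [Subsingleton.elim y 0, map_zero]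
  exact Submodule.zero_mem _

theorem rank_kaehler_eq_trdeg [PerfectField K] [Algebra.EssFiniteType K L] :
    Module.rank L (Ω[L⁄A]) = Algebra.trdeg K L := by
  rw [← Groth.Agent.H9.KFF.rank_eq_trdeg (k := K) (F := L)]
  exact (LinearEquiv.ofBijective (KaehlerDifferential.map A K L L)
    map_bijective_of_isFractionRing).rank_eq

end Alg

/-- generic smoothness with relative dimension, ring level. -/
theorem exists_stdSmoothRelDim_away {A B K L : Type u} [CommRing A] [CommRing B] [IsDomain A]
    [IsDomain B] [Algebra A B] [Algebra.FinitePresentation A B] [Field K] [Field L] [CharZero K]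
    [Algebra A K] [IsFractionRing A K] [Algebra B L] [IsFractionRing B L] [Algebra K L]
    [Algebra A L] [IsScalarTower A K L] [IsScalarTower A B L] (n : ℕ)
    (hn : Algebra.trdeg K L = n) :
    ∃ g : B, g ≠ 0 ∧ Algebra.IsStandardSmoothOfRelativeDimension n A (Localization.Away g) := by
  haveI : Algebra.EssFiniteType A B := inferInstance
  haveI : Algebra.EssFiniteType B L := Algebra.EssFiniteType.of_isLocalization L (nonZeroDivisors B)
  haveI : Algebra.EssFiniteType A L := Algebra.EssFiniteType.comp A B L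
  haveI : Algebra.EssFiniteType K L := Algebra.EssFiniteType.of_comp A K L
  haveI : Algebra.FormallySmooth K L := inferInstance
  haveI : Algebra.FormallySmooth A K := Algebra.FormallySmooth.of_isLocalization (nonZeroDivisors A)
  haveI : Algebra.FormallySmooth A L := Algebra.FormallySmooth.comp A K L
  have hcompl : (⊥ : Ideal B).primeCompl = nonZeroDivisors B := by
    ext a
    simp [Ideal.primeCompl, mem_nonZeroDivisors_iff_ne_zero]
  haveI : IsLocalization (⊥ : Ideal B).primeCompl L := by rw [hcompl]; infer_instance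
  let e : L ≃ₐ[B] Localization.AtPrime (⊥ : Ideal B) :=
    IsLocalization.algEquiv (⊥ : Ideal B).primeCompl L (Localization.AtPrime (⊥ : Ideal B))
  haveI : Algebra.IsSmoothAt A (⊥ : Ideal B) :=
    Algebra.FormallySmooth.of_equiv (e.restrictScalars A)
  obtain ⟨g, hg, hstd⟩ := Algebra.IsSmoothAt.exists_notMem_isStandardSmooth A (⊥ : Ideal B)
  have hg0 : g ≠ 0 := fun h => hg (by rw [h]; exact zero_mem _)
  refine ⟨g, hg0, ?_⟩
  -- the localization `C = B[1/g]`
  have hle : Submonoid.powers g ≤ nonZeroDivisors B :=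
    powers_le_nonZeroDivisors_of_noZeroDivisors hg0
  haveI : IsDomain (Localization.Away g) := IsLocalization.isDomain_localization hle
  have hunit : IsUnit (algebraMap B L g) :=
    IsUnit.mk0 _ (by
      rw [Ne, FaithfulSMul.algebraMap_eq_zero_iff]; exact hg0)
  letI algCL : Algebra (Localization.Away g) L :=
    (IsLocalization.Away.lift (S := Localization.Away g) g hunit).toAlgebra
  haveI t1 : IsScalarTower B (Localization.Away g) L :=
    IsScalarTower.of_algebraMap_eq (fun b => (IsLocalization.Away.lift_eq g hunit b).symm)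
  haveI t2 : IsScalarTower A (Localization.Away g) L :=
    IsScalarTower.of_algebraMap_eq (fun a => by
      rw [IsScalarTower.algebraMap_apply A B (Localization.Away g),
        ← IsScalarTower.algebraMap_apply B (Localization.Away g) L,
        ← IsScalarTower.algebraMap_apply A B L])
  haveI : IsFractionRing (Localization.Away g) L :=
    IsFractionRing.isFractionRing_of_isDomain_of_isLocalization (Submonoid.powers g)
      (Localization.Away g) L
  haveI : Algebra.FormallyEtale (Localization.Away g) L :=
    Algebra.FormallyEtale.of_isLocalization (nonZeroDivisors (Localization.Away g))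
  rw [Algebra.IsStandardSmoothOfRelativeDimension.iff_of_isStandardSmooth]
  have h1 : Module.rank L (L ⊗[Localization.Away g] Ω[Localization.Away g⁄A]) =
      Module.rank (Localization.Away g) (Ω[Localization.Away g⁄A]) := by
    rw [Module.rank_baseChange, Cardinal.lift_id]
  have h2 := (KaehlerDifferential.tensorKaehlerEquivOfFormallyEtale A (Localization.Away g) L).rank_eq
  rw [← h1, h2, rank_kaehler_eq_trdeg (A := A) (K := K) (L := L), hn]


open CategoryTheory AlgebraicGeometry TopologicalSpace Opposite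

/-- `U.ι ≫ f` is smooth of relative dimension `n` if the ring map on affine opens is standard
smooth of relative dimension `n`. -/
theorem smoothOfRelDim_ι_comp {X Y : Scheme.{u}} (f : X ⟶ Y) {V : Y.Opens} (hV : IsAffineOpen V)
    {U : X.Opens} (hU : IsAffineOpen U) (e : U ≤ f ⁻¹ᵁ V) (n : ℕ)
    (h : (f.appLE V U e).hom.IsStandardSmoothOfRelativeDimension n) :
    SmoothOfRelativeDimension n (U.ι ≫ f) := by
  haveI : IsAffine U.toScheme := hU
  haveI : IsAffine V.toScheme := hV
  have h1 : SmoothOfRelativeDimension n (f.resLE V U e) := by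
    rw [HasRingHomProperty.iff_of_isAffine (P := @SmoothOfRelativeDimension n)]
    have h2 : (f.resLE V U e).appTop = V.topIso.hom ≫ f.appLE V U e ≫ U.topIso.inv :=
      Scheme.Hom.resLE_app_top f e
    have hiso := RingHom.locally_respectsIso
      (RingHom.isStandardSmoothOfRelativeDimension_respectsIso (n := n))
    rw [h2, CommRingCat.hom_comp, hiso.cancel_left_isIso, CommRingCat.hom_comp,
      hiso.cancel_right_isIso]
    exact RingHom.locally_of RingHom.isStandardSmoothOfRelativeDimension_respectsIso _ h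
  rw [← Scheme.Hom.resLE_comp_ι f e]
  exact inferInstanceAs (SmoothOfRelativeDimension (n + 0) _)

/-- generic smoothness on the source with relative dimension. -/
theorem key (X Y : Scheme.{u}) [IsIntegral X] [IsIntegral Y] [IsLocallyNoetherian Y]
    (π : X ⟶ Y) [LocallyOfFiniteType π] [CharZero Y.functionField] (n : ℕ)
    (y : Y) (hy : y = genericPoint Y) (hπ : π.base (genericPoint X) = y)
    (φ : Y.presheaf.stalk y →+* X.functionField)
    (hφ : ∀ (V : Y.Opens) (hyV : y ∈ V) (a : Γ(Y, V)),
      φ (Y.presheaf.germ V y hyV a) =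
        X.presheaf.germ (π ⁻¹ᵁ V) (genericPoint X) (show π.base (genericPoint X) ∈ V from
          hπ ▸ hyV) (π.app V a))
    (hn : @Algebra.trdeg (Y.presheaf.stalk y) X.functionField _ _ φ.toAlgebra = n) :
    ∃ U : X.Opens, (U : Set X).Nonempty ∧ SmoothOfRelativeDimension n (U.ι ≫ π) := by
  subst hy
  obtain ⟨V, hV, hyV, -⟩ :=
    exists_isAffineOpen_mem_and_subset (x := genericPoint Y) (U := ⊤) trivial
  have hxV' : genericPoint X ∈ π ⁻¹ᵁ V := show π.base (genericPoint X) ∈ V from hπ ▸ hyV
  obtain ⟨U₀, hU₀, hxU₀, e⟩ :=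
    exists_isAffineOpen_mem_and_subset (x := genericPoint X) (U := π ⁻¹ᵁ V) hxV'
  haveI : Nonempty ↥(U₀ : X.Opens) := ⟨⟨genericPoint X, hxU₀⟩⟩
  haveI : Nonempty ↥(V : Y.Opens) := ⟨⟨genericPoint Y, hyV⟩⟩
  haveI : Nonempty ↥(U₀ : Scheme.{u}) := ⟨⟨genericPoint X, hxU₀⟩⟩
  haveI : Nonempty ↥(V : Scheme.{u}) := ⟨⟨genericPoint Y, hyV⟩⟩
  letI algBA : Algebra Γ(Y, V) Γ(X, U₀) := (π.appLE V U₀ e).hom.toAlgebra
  haveI : IsDomain Γ(Y, V) := IsIntegral.component_integral V
  haveI : IsDomain Γ(X, U₀) := IsIntegral.component_integral U₀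
  haveI : IsNoetherianRing Γ(Y, V) := IsLocallyNoetherian.component_noetherian ⟨V, hV⟩
  haveI : Algebra.FinitePresentation Γ(Y, V) Γ(X, U₀) := by
    have h1 : (π.appLE V U₀ e).hom.FiniteType :=
      HasRingHomProperty.appLE (P := @LocallyOfFiniteType) π inferInstance ⟨V, hV⟩ ⟨U₀, hU₀⟩ e
    exact Algebra.FinitePresentation.of_finiteType.mp h1
  haveI : IsFractionRing Γ(Y, V) Y.functionField :=
    functionField_isFractionRing_of_isAffineOpen Y V hV
  haveI : IsFractionRing Γ(X, U₀) X.functionField :=
    functionField_isFractionRing_of_isAffineOpen X U₀ hU₀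
  letI algKL : Algebra Y.functionField X.functionField := φ.toAlgebra
  letI algAL : Algebra Γ(Y, V) X.functionField :=
    ((algebraMap Γ(X, U₀) X.functionField).comp (algebraMap Γ(Y, V) Γ(X, U₀))).toAlgebra
  haveI : IsScalarTower Γ(Y, V) Γ(X, U₀) X.functionField :=
    IsScalarTower.of_algebraMap_eq (fun _ => rfl)
  haveI : IsScalarTower Γ(Y, V) Y.functionField X.functionField :=
    IsScalarTower.of_algebraMap_eq (fun a => by
      have h1 := hφ V hyV a
      change X.presheaf.germ U₀ (genericPoint X) hxU₀ ((π.appLE V U₀ e).hom a) =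
        φ (Y.presheaf.germ V (genericPoint Y) hyV a)
      rw [h1, Scheme.Hom.appLE, CommRingCat.hom_comp, RingHom.comp_apply]
      exact TopCat.Presheaf.germ_res_apply X.presheaf (homOfLE e) (genericPoint X) hxU₀ _)
  obtain ⟨g, hg0, hstd⟩ := exists_stdSmoothRelDim_away (A := Γ(Y, V)) (B := Γ(X, U₀))
    (K := Y.functionField) (L := X.functionField) n hn
  refine ⟨X.basicOpen g, ?_, ?_⟩
  · rw [Set.nonempty_iff_ne_empty]
    intro h
    exact hg0 ((basicOpen_eq_bot_iff g).mp (Opens.ext h))
  · have e' : X.basicOpen g ≤ π ⁻¹ᵁ V := (X.basicOpen_le g).trans e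
    apply smoothOfRelDim_ι_comp π hV (hU₀.basicOpen g) e' n
    letI algA : Algebra Γ(X, U₀) Γ(X, X.basicOpen g) :=
      (X.presheaf.map (homOfLE (X.basicOpen_le g)).op).hom.toAlgebra
    haveI : IsLocalization.Away g Γ(X, X.basicOpen g) := hU₀.isLocalization_basicOpen g
    letI algB : Algebra Γ(Y, V) Γ(X, X.basicOpen g) :=
      ((algebraMap Γ(X, U₀) Γ(X, X.basicOpen g)).comp (algebraMap Γ(Y, V) Γ(X, U₀))).toAlgebra
    haveI : IsScalarTower Γ(Y, V) Γ(X, U₀) Γ(X, X.basicOpen g) :=
      IsScalarTower.of_algebraMap_eq (fun _ => rfl)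
    let e2 : Localization.Away g ≃ₐ[Γ(X, U₀)] Γ(X, X.basicOpen g) :=
      IsLocalization.algEquiv (Submonoid.powers g) _ _
    haveI : Algebra.IsStandardSmoothOfRelativeDimension n Γ(Y, V) Γ(X, X.basicOpen g) :=
      Algebra.IsStandardSmoothOfRelativeDimension.of_algEquiv n (e2.restrictScalars Γ(Y, V))
    have h7 : (algebraMap Γ(Y, V) Γ(X, X.basicOpen g)).IsStandardSmoothOfRelativeDimension n :=
      (RingHom.isStandardSmoothOfRelativeDimension_algebraMap n).mpr ‹_›
    have h8 : π.appLE V (X.basicOpen g) e' =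
        π.appLE V U₀ e ≫ X.presheaf.map (homOfLE (X.basicOpen_le g)).op :=
      (Scheme.Hom.appLE_map π e (homOfLE (X.basicOpen_le g)).op).symm
    rw [h8]
    exact h7

end Groth.Agent.H3.GenSmDim
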