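import Mathlib.AlgebraicGeometry.Geometrically.Basic
import Mathlib.AlgebraicGeometry.PullbackCarrier
import Mathlib.AlgebraicGeometry.ResidueField

/-!
# Descent of `geometrically P` along a surjective base change

If an object property `P` of schemes passes to images under surjective morphisms
(e.g. irreducibility, connectedness), then `geometrically P` descends along
base change by a surjective morphism.
-/

universe u

open CategoryTheory CategoryTheory.Limits AlgebraicGeometry

namespace Groth.Agent.H3

/-- If `P` passes to surjective images and `geometrically P` holds for the base change of `f`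
along a surjective `g`, then it holds for `f`. -/
theorem geometrically_of_pullback_snd_of_surjective
    (P : ObjectProperty Scheme.{u})
    (hP : ∀ {Z Z₀ : Scheme.{u}} (q : Z ⟶ Z₀), Surjective q → P Z → P Z₀)
    {X Y Y' : Scheme.{u}} (f : X ⟶ Y) (g : Y' ⟶ Y) [Surjective g]
    (h : geometrically P (pullback.snd f g)) : geometrically P f := by
  intro K _ y Z₀ fst₀ snd₀ hpb
  -- a point of `Spec K ×[Y] Y'`
  have hsurj : Surjective (pullback.fst y g) := inferInstance
  obtain ⟨z, -⟩ := (pullback.fst y g).surjective (default : Spec (.of K))
  let W := pullback y g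
  let Ω := W.residueField z
  let ι : Spec Ω ⟶ W := W.fromSpecResidueField z
  let φ : Spec Ω ⟶ Spec (.of K) := ι ≫ pullback.fst y g
  let y'' : Spec Ω ⟶ Y' := ι ≫ pullback.snd y g
  have hcomm : y'' ≫ g = φ ≫ y := by
    simp only [y'', φ, Category.assoc, pullback.condition]
  -- the base change of `pullback.snd f g` along `y''`
  let Z := pullback (pullback.snd f g) y''
  have hZ : P Z := h y'' (pullback.fst _ _) (pullback.snd _ _) (IsPullback.of_hasPullback _ _)
  -- big square: `Z` is the pullback of `f` along `y'' ≫ g`
  have hbig : IsPullback (pullback.fst (pullback.snd f g) y'' ≫ pullback.fst f g)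
      (pullback.snd (pullback.snd f g) y'') f (y'' ≫ g) :=
    (IsPullback.of_hasPullback (pullback.snd f g) y'').paste_horiz
      (IsPullback.of_hasPullback f g)
  have hbig' : IsPullback (pullback.fst (pullback.snd f g) y'' ≫ pullback.fst f g)
      (pullback.snd (pullback.snd f g) y'') f (φ ≫ y) := hcomm ▸ hbig
  -- the comparison map `Z ⟶ Z₀`
  let q : Z ⟶ Z₀ := hpb.lift (pullback.fst (pullback.snd f g) y'' ≫ pullback.fst f g)
    (pullback.snd (pullback.snd f g) y'' ≫ φ) (by simpa only [Category.assoc] using hbig'.w)
  have hq1 : q ≫ fst₀ = pullback.fst (pullback.snd f g) y'' ≫ pullback.fst f g :=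
    hpb.lift_fst _ _ _
  have hq2 : q ≫ snd₀ = pullback.snd (pullback.snd f g) y'' ≫ φ := hpb.lift_snd _ _ _
  have hleft : IsPullback q (pullback.snd (pullback.snd f g) y'') snd₀ φ := by
    refine IsPullback.of_right ?_ hq2 hpb
    rw [hq1]
    exact hbig'
  have hφ : Surjective φ := ⟨fun x => ⟨default, Subsingleton.elim _ _⟩⟩
  have hqs : Surjective q :=
    MorphismProperty.of_isPullback (P := @Surjective) hleft.flip hφ
  exact hP q hqs hZ

end Groth.Agent.H3
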