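import Mathlib
import Groth.Agent.Lib.Helper1.GeomConn

/-!
# Geometrically irreducible polynomials (EGA IV 4.5/9.7-type TFAE)
-/

set_option autoImplicit false
universe u

namespace Groth.Agent.H3.GeomIrrPoly

open TensorProduct MvPolynomial CategoryTheory AlgebraicGeometry

section alg

variable {k : Type u} [Field k] {n : ℕ}

/-- `K ⊗ (k[T]/(F)) ≃ K[T]/(F_K)` as rings. -/
noncomputable def tensorQuotEquiv (K : Type u) [Field K] [Algebra k K] (F : MvPolynomial (Fin n) k) :
    ((MvPolynomial (Fin n) k ⧸ Ideal.span ({F} : Set (MvPolynomial (Fin n) k))) ⊗[k] K) ≃+*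
      (MvPolynomial (Fin n) K ⧸ Ideal.span ({MvPolynomial.map (algebraMap k K) F} :
        Set (MvPolynomial (Fin n) K))) :=
  (Algebra.TensorProduct.comm k _ K).toRingEquiv.trans <|
    (Algebra.TensorProduct.tensorQuotientEquiv (R := k) K (MvPolynomial (Fin n) k) K
      (Ideal.span {F})).toRingEquiv.trans <|
    Ideal.quotientEquiv _ _ (MvPolynomial.algebraTensorAlgEquiv k K).toRingEquiv (by
      rw [Ideal.map_span, Set.image_singleton, Ideal.map_span, Set.image_singleton]
      congr 2
      change _ = (MvPolynomial.algebraTensorAlgEquiv k K) ((1 : K) ⊗ₜ[k] F)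
      rw [MvPolynomial.algebraTensorAlgEquiv_tmul, one_smul])

theorem map_ne_zero (K : Type u) [Field K] [Algebra k K] (F : MvPolynomial (Fin n) k)
    (hF : 0 < F.totalDegree) : MvPolynomial.map (algebraMap k K) F ≠ 0 := by
  intro h
  have h0 : F = 0 := by
    apply MvPolynomial.map_injective (algebraMap k K) (algebraMap k K).injective
    rw [h, map_zero]
  rw [h0, MvPolynomial.totalDegree_zero] at hF
  exact lt_irrefl _ hF

/-- the tensor product is a domain iff the base-changed polynomial is irreducible -/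
theorem isDomain_tensor_iff (K : Type u) [Field K] [Algebra k K] (F : MvPolynomial (Fin n) k)
    (hF : 0 < F.totalDegree) :
    IsDomain ((MvPolynomial (Fin n) k ⧸ Ideal.span ({F} : Set (MvPolynomial (Fin n) k))) ⊗[k] K) ↔
      Irreducible (MvPolynomial.map (algebraMap k K) F) := by
  have hne := map_ne_zero K F hF
  rw [irreducible_iff_prime, ← Ideal.span_singleton_prime hne, ← Ideal.Quotient.isDomain_iff_prime]
  constructor
  · intro h
    exact (tensorQuotEquiv K F).symm.injective.isDomain (tensorQuotEquiv K F).symm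
  · intro h
    exact (tensorQuotEquiv K F).injective.isDomain (tensorQuotEquiv K F)

/-- irreducibility descends along field extensions -/
theorem irreducible_of_map {K L : Type u} [Field K] [Field L] (f : K →+* L)
    (p : MvPolynomial (Fin n) K) (h : Irreducible (MvPolynomial.map f p)) : Irreducible p := by
  have hunit : ∀ a : MvPolynomial (Fin n) K, IsUnit (MvPolynomial.map f a) → IsUnit a := by
    intro a ha
    rw [MvPolynomial.isUnit_iff_eq_C_of_isReduced] at ha ⊢
    obtain ⟨r, hr, hra⟩ := ha
    refine ⟨MvPolynomial.coeff 0 a, ?_, ?_⟩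
    · rw [isUnit_iff_ne_zero]
      intro h0
      have h1 : MvPolynomial.coeff 0 (MvPolynomial.map f a) = r := by
        rw [hra, MvPolynomial.coeff_C, if_pos rfl]
      rw [MvPolynomial.coeff_map, h0, map_zero] at h1
      rw [← h1] at hr
      exact not_isUnit_zero hr
    · ext m
      rw [MvPolynomial.coeff_C]
      split_ifs with hm
      · rw [← hm]
      · have h1 : MvPolynomial.coeff m (MvPolynomial.map f a) = 0 := by
          rw [hra, MvPolynomial.coeff_C, if_neg hm]
        rw [MvPolynomial.coeff_map] at h1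
        exact (map_eq_zero f).1 h1
  rw [irreducible_iff] at h ⊢
  refine ⟨fun hu => h.1 (hu.map _), fun a b hab => ?_⟩
  have h1 : MvPolynomial.map f p = MvPolynomial.map f a * MvPolynomial.map f b := by
    rw [hab, map_mul]
  rcases h.2 h1 with h2 | h2
  · exact Or.inl (hunit a h2)
  · exact Or.inr (hunit b h2)

/-- a common field extension -/
theorem exists_common_extension (K Ω : Type u) [Field K] [Field Ω] [Algebra k K] [Algebra k Ω] :
    ∃ (L : Type u) (_ : Field L) (_ : Algebra k L) (f : K →ₐ[k] L) (g : Ω →ₐ[k] L), True := by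
  have _ : Nontrivial (Ω ⊗[k] K) := inferInstance
  obtain ⟨m, hm⟩ := Ideal.exists_maximal (Ω ⊗[k] K)
  let _ := Ideal.Quotient.field m
  exact ⟨(Ω ⊗[k] K) ⧸ m, inferInstance, inferInstance,
    (Ideal.Quotient.mkₐ k m).comp Algebra.TensorProduct.includeRight,
    (Ideal.Quotient.mkₐ k m).comp Algebra.TensorProduct.includeLeft, trivial⟩

theorem irreducible_map_of_algClosed (Ω : Type u) [Field Ω] [Algebra k Ω] [IsAlgClosed Ω]
    (F : MvPolynomial (Fin n) k) (hF : 0 < F.totalDegree)
    (hΩ : Irreducible (MvPolynomial.map (algebraMap k Ω) F))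
    (K : Type u) [Field K] [Algebra k K] :
    Irreducible (MvPolynomial.map (algebraMap k K) F) := by
  obtain ⟨L, _, _, f, g, -⟩ := exists_common_extension (k := k) K Ω
  let _ : Algebra Ω L := g.toRingHom.toAlgebra
  have _ : IsScalarTower k Ω L := IsScalarTower.of_algebraMap_eq (fun x => (g.commutes x).symm)
  set FΩ := MvPolynomial.map (algebraMap k Ω) F with hFΩ
  have hdegΩ : 0 < FΩ.totalDegree := by
    rw [hFΩ, MvPolynomial.totalDegree,
      MvPolynomial.support_map_of_injective _ (algebraMap k Ω).injective]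
    exact hF
  -- `Ω[T]/(F_Ω)` is a domain
  have hdomΩ : IsDomain (MvPolynomial (Fin n) Ω ⧸ Ideal.span ({FΩ} : Set (MvPolynomial (Fin n) Ω))) := by
    rw [Ideal.Quotient.isDomain_iff_prime, Ideal.span_singleton_prime hΩ.ne_zero]
    exact hΩ.prime
  -- so is its base change to `L`
  have hnzd : NoZeroDivisors
      ((MvPolynomial (Fin n) Ω ⧸ Ideal.span ({FΩ} : Set (MvPolynomial (Fin n) Ω))) ⊗[Ω] L) :=
    Groth.Agent.H1.GeomConn.noZeroDivisors_tensor
  have hntr : Nontrivial
      ((MvPolynomial (Fin n) Ω ⧸ Ideal.span ({FΩ} : Set (MvPolynomial (Fin n) Ω))) ⊗[Ω] L) :=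
    inferInstance
  have hdomL : IsDomain
      ((MvPolynomial (Fin n) Ω ⧸ Ideal.span ({FΩ} : Set (MvPolynomial (Fin n) Ω))) ⊗[Ω] L) :=
    NoZeroDivisors.to_isDomain
      (α := (MvPolynomial (Fin n) Ω ⧸ Ideal.span ({FΩ} : Set (MvPolynomial (Fin n) Ω))) ⊗[Ω] L)
  have hirrL : Irreducible (MvPolynomial.map (algebraMap Ω L) FΩ) :=
    (isDomain_tensor_iff L FΩ hdegΩ).1 hdomL
  have hcomp : MvPolynomial.map (algebraMap Ω L) FΩ =
      MvPolynomial.map (f : K →+* L) (MvPolynomial.map (algebraMap k K) F) := by
    have hh : (algebraMap Ω L).comp (algebraMap k Ω) = (f : K →+* L).comp (algebraMap k K) := by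
      ext x
      change algebraMap Ω L (algebraMap k Ω x) = f (algebraMap k K x)
      rw [← IsScalarTower.algebraMap_apply, f.commutes]
    rw [hFΩ, MvPolynomial.map_map, MvPolynomial.map_map, hh]
  rw [hcomp] at hirrL
  exact irreducible_of_map _ _ hirrL

end alg

section scheme

variable {k : Type u} [Field k] {n : ℕ}

theorem isIntegral_of_iso {X Y : Scheme.{u}} (e : X ≅ Y) (h : IsIntegral X) : IsIntegral Y := by
  have _ : Nonempty Y := ⟨e.hom.base (Classical.choice h.nonempty)⟩
  exact isIntegral_of_isOpenImmersion e.inv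

instance : ObjectProperty.IsClosedUnderIsomorphisms (C := Scheme.{u}) @IsIntegral :=
  ⟨fun e h => isIntegral_of_iso e h⟩

/-- geometric integrality of an affine scheme over a field in terms of tensor products -/
theorem geomIntegral_Spec_iff (Q : Type u) [CommRing Q] [Algebra k Q] :
    GeometricallyIntegral (Spec.map (CommRingCat.ofHom (algebraMap k Q))) ↔
      ∀ (K : Type u) [Field K] [Algebra k K], IsDomain (Q ⊗[k] K) := by
  rw [AlgebraicGeometry.geometricallyIntegral_iff,
    geometrically_iff_of_commRing_of_isClosedUnderIsomorphisms]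
  refine forall_congr' fun K => forall_congr' fun _ => forall_congr' fun _ => ?_
  have e := pullbackSpecIso k Q K
  rw [← affine_isIntegral_iff (CommRingCat.of (Q ⊗[k] K))]
  exact ⟨fun h => isIntegral_of_iso e h, fun h => isIntegral_of_iso e.symm h⟩

theorem main (Ω : Type u) [Field Ω] [Algebra k Ω] [IsAlgClosed Ω]
    (F : MvPolynomial (Fin n) k) (hF : 0 < F.totalDegree) :
    List.TFAE [
      GeometricallyIntegral (Spec.map (CommRingCat.ofHom
        (algebraMap k (MvPolynomial (Fin n) k ⧸ Ideal.span ({F} : Set (MvPolynomial (Fin n) k)))))),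
      ∀ (K : Type u) [Field K] [Algebra k K], Irreducible (MvPolynomial.map (algebraMap k K) F),
      Irreducible (MvPolynomial.map (algebraMap k Ω) F)] := by
  tfae_have 1 ↔ 2 := by
    rw [geomIntegral_Spec_iff]
    exact forall_congr' fun K => forall_congr' fun _ => forall_congr' fun _ =>
      isDomain_tensor_iff K F hF
  tfae_have 2 → 3 := fun h => h Ω
  tfae_have 3 → 2 := fun h K _ _ => irreducible_map_of_algClosed Ω F hF h K
  tfae_finish

end scheme

end Groth.Agent.H3.GeomIrrPoly
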