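import Mathlib
import Groth.Prelude.Def_AlgSt
import Groth.Agent.Lib.Helper3.GenDescent
import Groth.Agent.Lib.Helper3.StkAux

set_option autoImplicit false

universe v₅ u₅ v₄ u₄ v₃ u₃ v₂ u₂ v u

open CategoryTheory CategoryTheory.Functor CategoryTheory.Limits

namespace Groth.Agent.H3.StackOver

open Groth.Agent.H3.FibCatAux Groth.Agent.H3.FibCatYoneda Groth.Agent.H3.StackDescent
  Groth.Agent.H3.GenDescent

variable {C : Type u} [Category.{v} C] {𝒴 : BasedCategory.{v₂, u₂} C} {y : 𝒴.obj} (S : Sieve y)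

/-- a sieve on `y` in `𝒴` as a category over `C` -/
abbrev sieveOver : BasedCategory.{v₂, max u₂ v₂} C :=
  BasedCategory.ofFunctor (S.arrows.diagram ⋙ 𝒴.p)

/-- the pushed-forward sieve on the object under `y` -/
abbrev pushSieve : Sieve (𝒴.p.obj y) := Sieve.functorPushforward 𝒴.p S

lemma push_mem (a : S.arrows.category) : pushSieve S (𝒴.p.map a.obj.hom) :=
  ⟨a.obj.left, a.obj.hom, 𝟙 _, a.property, by simp⟩

/-- the comparison functor from the sieve of `𝒴` to the pushed-forward sieve of `C` -/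
def pushFunctor : sieveOver S ⥤ᵇ Stk.sieveCat (pushSieve S) where
  toFunctor :=
    { obj := fun a => ⟨Over.mk (𝒴.p.map a.obj.hom), push_mem S a⟩
      map := fun {a b} w => ObjectProperty.homMk (Over.homMk (𝒴.p.map w.hom.left) (by
        change 𝒴.p.map w.hom.left ≫ 𝒴.p.map b.obj.hom = 𝒴.p.map a.obj.hom
        rw [← 𝒴.p.map_comp, Over.w w.hom]))
      map_id := fun a => by
        apply ObjectProperty.hom_ext
        apply Over.OverMorphism.ext
        exact 𝒴.p.map_id _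
      map_comp := fun w w' => by
        apply ObjectProperty.hom_ext
        apply Over.OverMorphism.ext
        exact 𝒴.p.map_comp _ _ }
  w := rfl

variable (h𝒴 : FibCat.IsFibGrpd 𝒴.p)

include h𝒴 in
lemma pushFunctor_faithful : (pushFunctor S).toFunctor.Faithful := by
  constructor
  intro a b w w' h
  have h1 : 𝒴.p.map w.hom.left = 𝒴.p.map w'.hom.left :=
    congrArg (fun m => m.hom.left) h
  apply ObjectProperty.hom_ext
  apply Over.OverMorphism.ext
  have c := h𝒴.isStronglyCartesian b.obj.hom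
  have l1 : 𝒴.p.IsHomLift (𝒴.p.map w.hom.left) w.hom.left := IsHomLift.map _ _
  have l2 : 𝒴.p.IsHomLift (𝒴.p.map w.hom.left) w'.hom.left := by
    rw [h1]; exact IsHomLift.map _ _
  apply IsStronglyCartesian.ext 𝒴.p (𝒴.p.map b.obj.hom) b.obj.hom (𝒴.p.map w.hom.left)
  rw [Over.w w.hom, Over.w w'.hom]

include h𝒴 in
lemma pushFunctor_full : (pushFunctor S).toFunctor.Full := by
  constructor
  intro a b v
  obtain ⟨g, hg⟩ : ∃ g : 𝒴.p.obj a.obj.left ⟶ 𝒴.p.obj b.obj.left, g = v.hom.left := ⟨_, rfl⟩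
  have hv : g ≫ 𝒴.p.map b.obj.hom = 𝒴.p.map a.obj.hom := by
    rw [hg]; exact Over.w v.hom
  have c := h𝒴.isStronglyCartesian b.obj.hom
  have l0 : 𝒴.p.IsHomLift (g ≫ 𝒴.p.map b.obj.hom) a.obj.hom := by
    rw [hv]; exact IsHomLift.map _ _
  obtain ⟨k, hk1, hk2⟩ : ∃ k : a.obj.left ⟶ b.obj.left, 𝒴.p.IsHomLift g k ∧
      k ≫ b.obj.hom = a.obj.hom :=
    ⟨IsStronglyCartesian.map 𝒴.p (𝒴.p.map b.obj.hom) b.obj.hom rfl a.obj.hom,
      IsStronglyCartesian.map_isHomLift 𝒴.p (𝒴.p.map b.obj.hom) b.obj.hom rfl a.obj.hom,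
      IsStronglyCartesian.fac 𝒴.p (𝒴.p.map b.obj.hom) b.obj.hom rfl a.obj.hom⟩
  refine ⟨ObjectProperty.homMk (Over.homMk k hk2), ?_⟩
  apply ObjectProperty.hom_ext
  apply Over.OverMorphism.ext
  change 𝒴.p.map k = v.hom.left
  rw [← hg]
  have := IsHomLift.fac' 𝒴.p g k
  simpa using this

include h𝒴 in
lemma pushFunctor_hasPre : HasPre (pushFunctor S) := by
  intro η
  obtain ⟨y', g, h, hg, hfac⟩ := η.property
  obtain ⟨y'', k, hk⟩ := h𝒴.exists_lift (x := y') h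
  have hS : S (k ≫ g) := S.downward_closed hg k
  have hy'' : 𝒴.p.obj y'' = η.obj.left := IsHomLift.domain_eq 𝒴.p h k
  have e1 : 𝒴.p.map (k ≫ g) = eqToHom hy'' ≫ η.obj.hom := by
    rw [𝒴.p.map_comp, IsHomLift.fac' 𝒴.p h k, hfac]
    simp
  let ξ : S.arrows.category := ⟨Over.mk (k ≫ g), hS⟩
  let i : (pushFunctor S).obj ξ ≅ η :=
    ObjectProperty.isoMk _ (Over.isoMk (eqToIso hy'') (by
      change eqToHom hy'' ≫ η.obj.hom = 𝒴.p.map (k ≫ g)
      exact e1.symm))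
  refine ⟨ξ, i, ?_⟩
  refine IsHomLift.of_fac' (Stk.sieveCat (pushSieve S)).p (a := (pushFunctor S).obj ξ) (b := η)
    (𝟙 _) i.hom hy'' rfl ?_
  change eqToHom hy'' = _
  simp
  rfl

include h𝒴 in
theorem isEquivOver_pushFunctor : FibCat.IsEquivOver (pushFunctor S) := by
  have := pushFunctor_faithful S h𝒴
  have := pushFunctor_full S h𝒴
  exact isEquivOver_of_hasPre (pushFunctor S) (pushFunctor_hasPre S h𝒴)

/-- structure functor of the sieve of `𝒴`, to the slice of `C` -/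
abbrev ιS : sieveOver S ⥤ᵇ FibCat.overCat (𝒴.p.obj y) :=
  BasedFunctor.comp (pushFunctor S) (Stk.sieveIncl (pushSieve S))

end Groth.Agent.H3.StackOver

namespace Groth.Agent.H3.StackOver

open Groth.Agent.H3.FibCatAux Groth.Agent.H3.FibCatYoneda Groth.Agent.H3.StackDescent
  Groth.Agent.H3.GenDescent

section S12804

variable {C : Type u} [Category.{v} C] {𝒳 𝒴 : BasedCategory.{v, max u v} C} (F : 𝒳 ⥤ᵇ 𝒴)
  {y : 𝒴.obj} (S : Sieve y)

/-- `𝒳` as a category over `𝒴` -/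
abbrev overBase : BasedCategory.{v, max u v} 𝒴.obj := BasedCategory.ofFunctor F.toFunctor

variable (D : Stk.sieveCat S ⥤ᵇ overBase F)

/-- a descent datum over `𝒴`, viewed over `C` -/
def datumOverC : sieveOver S ⥤ᵇ 𝒳 where
  toFunctor := D.toFunctor
  w := by
    have h1 : D.toFunctor ⋙ F.toFunctor = S.arrows.diagram := D.w
    have h2 : F.toFunctor ⋙ 𝒴.p = 𝒳.p := F.w
    change D.toFunctor ⋙ 𝒳.p = S.arrows.diagram ⋙ 𝒴.p
    rw [← h2]
    exact congrArg (fun G => G ⋙ 𝒴.p) h1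

lemma D_obj_proj (a : S.arrows.category) : F.obj (D.obj a) = a.obj.left := D.w_obj a

lemma D_map_lift {a b : S.arrows.category} (w : a ⟶ b) :
    F.toFunctor.IsHomLift w.hom.left (D.map w) :=
  sieve_map_isHomLift D w

/-- the structure maps into `y`, with source `F (D a)` -/
def toY (a : S.arrows.category) : F.obj (D.obj a) ⟶ y := eqToHom (D_obj_proj F S D a) ≫ a.obj.hom

lemma toY_lift (a : S.arrows.category) : 𝒴.p.IsHomLift (𝒴.p.map a.obj.hom) (toY F S D a) := by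
  unfold toY
  have : 𝒴.p.IsHomLift (𝒴.p.map a.obj.hom) a.obj.hom := IsHomLift.map _ _
  infer_instance

lemma toY_w {a b : S.arrows.category} (w : a ⟶ b) :
    F.map (D.map w) ≫ toY F S D b = toY F S D a := by
  have := D_map_lift F S D w
  have e := IsHomLift.fac' F.toFunctor w.hom.left (D.map w)
  unfold toY
  change F.toFunctor.map (D.map w) ≫ _ = _
  rw [e]
  simp only [Category.assoc, eqToHom_trans_assoc, eqToHom_refl, Category.id_comp]
  rw [Over.w w.hom]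

/-- the cocone `(y, toY)` on the image datum -/
def yCocone : GCocone (ιS S) (BasedFunctor.comp (datumOverC F S D) F) where
  pt := y
  pt_proj := rfl
  leg a := toY F S D a
  leg_lift a := toY_lift F S D a
  w _ _ w := toY_w F S D w

variable (h𝒳 : FibCat.IsFibGrpd 𝒳.p) (h𝒴 : FibCat.IsFibGrpd 𝒴.p) (hF : FibCat.IsFibGrpd F.toFunctor)

include h𝒳 h𝒴 hF in
theorem exists_cocone_over (hX : (Stk.restr (ιS S) 𝒳).IsEquivalence)
    (hY : (Stk.restr (ιS S) 𝒴).Full ∧ (Stk.restr (ιS S) 𝒴).Faithful) :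
    Nonempty (Cocone D) := by
  obtain ⟨st⟩ := ((gisEquivalence_iff h𝒳).mp hX).1 (datumOverC F S D)
  -- compare `F x̃` with `y`
  let c1 : GCocone (ιS S) (BasedFunctor.comp (datumOverC F S D) F) :=
    { pt := F.obj st.pt
      pt_proj := (F.w_obj st.pt).trans st.pt_proj
      leg := fun a => F.map (st.leg a)
      leg_lift := fun a => by
        have := st.leg_lift a
        exact BasedFunctor.preserves_isHomLift F _ (st.leg a)
      w := fun a b w => by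
        change F.map ((datumOverC F S D).map w) ≫ F.map (st.leg b) = F.map (st.leg a)
        rw [← F.toFunctor.map_comp, st.w] }
  obtain ⟨θ, ⟨hθ, hθ'⟩, -⟩ := (gfullFaithful_iff h𝒴).mp hY _ c1 (yCocone F S D)
  obtain ⟨θ', hθeq⟩ : ∃ θ' : F.obj st.pt ⟶ y, θ' = θ := ⟨θ, rfl⟩
  have hθl : 𝒴.p.IsHomLift (𝟙 (𝒴.p.obj y)) θ' := by rw [hθeq]; exact hθ
  have hθi : IsIso θ' := isIso_of_isHomLift_id 𝒴.p h𝒴 (U := 𝒴.p.obj y) θ'
  have hθw : ∀ a, F.map (st.leg a) ≫ θ' = toY F S D a := by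
    intro a; rw [hθeq]; exact hθ' a
  -- transport `x̃` along `θ⁻¹`
  obtain ⟨x, χ, hχ⟩ := hF.exists_lift (x := st.pt) (CategoryTheory.inv θ')
  have hχi : IsIso χ := isIso_of_isHomLift_iso F.toFunctor hF (CategoryTheory.inv θ') χ
  have hx : F.obj x = y := IsHomLift.domain_eq F.toFunctor (CategoryTheory.inv θ') χ
  obtain ⟨χi, hχieq⟩ : ∃ χi : st.pt ⟶ x, χi = CategoryTheory.inv χ := ⟨_, rfl⟩
  have hχinv : F.toFunctor.IsHomLift θ' χi := by
    have := IsHomLift.inv F.toFunctor (CategoryTheory.inv θ') χ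
    rw [hχieq]
    simpa using this
  have eχ : F.toFunctor.map χi = θ' ≫ eqToHom hx.symm := by
    have := IsHomLift.fac' F.toFunctor θ' χi
    simpa using this
  refine ⟨{ pt := x
            pt_proj := hx
            ι := fun a => st.leg a ≫ χi
            ι_lift := fun a => ?_
            w := fun a b w => ?_ }⟩
  · apply IsHomLift.of_fac' F.toFunctor a.obj.hom _ (D_obj_proj F S D a) hx
    have key : F.toFunctor.map (st.leg a) ≫ F.toFunctor.map χi =
        eqToHom (D_obj_proj F S D a) ≫ a.obj.hom ≫ eqToHom hx.symm := by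
      rw [eχ, ← Category.assoc]
      have := hθw a
      unfold toY at this
      change F.toFunctor.map (st.leg a) ≫ θ' = _ at this
      rw [this]
      exact Category.assoc _ _ _
    exact (F.toFunctor.map_comp _ _).trans key
  · rw [← Category.assoc]
    congr 1
    exact st.w w

/-- a cocone over `𝒴`, viewed over `C` -/
def coconeOverC (s : Cocone D) : GCocone (ιS S) (datumOverC F S D) where
  pt := s.pt
  pt_proj := by
    have h1 : F.obj s.pt = y := s.pt_proj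
    rw [← F.w_obj s.pt, h1]
  leg a := s.ι a
  leg_lift a := by
    have h1 : F.toFunctor.IsHomLift a.obj.hom (s.ι a) := s.ι_lift a
    have h2 := isHomLift_comp_map F.toFunctor 𝒴.p a.obj.hom (s.ι a)
    have h3 : F.toFunctor ⋙ 𝒴.p = 𝒳.p := F.w
    rw [h3] at h2
    exact h2
  w _ _ w := s.w w

lemma ι_fac (s : Cocone D) (a : S.arrows.category) :
    F.toFunctor.map (s.ι a) =
      eqToHom (D_obj_proj F S D a) ≫ a.obj.hom ≫ eqToHom (s.pt_proj : F.obj s.pt = y).symm := by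
  have h1 : F.toFunctor.IsHomLift a.obj.hom (s.ι a) := s.ι_lift a
  exact IsHomLift.fac' F.toFunctor a.obj.hom (s.ι a)

omit F S in
lemma cat_aux {E : Type u₂} [Category.{v₂} E] {A B Y Ps Pt : E} (k : A ⟶ B) (g : B ⟶ Y)
    (σ : A ⟶ Ps) (τ : A ⟶ Pt) (f : Ps ⟶ Pt) (hs : Ps = Y) (ht : Pt = Y)
    (e1 : σ = k ≫ g ≫ eqToHom hs.symm) (e2 : τ = k ≫ g ≫ eqToHom ht.symm) (e3 : σ ≫ f = τ) :
    (k ≫ g) ≫ eqToHom hs.symm ≫ f ≫ eqToHom ht = (k ≫ g) ≫ 𝟙 Y := by
  subst hs ht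
  simp only [eqToHom_refl, Category.comp_id, Category.id_comp] at e1 e2 ⊢
  rw [← e1, e3, e2]
  exact e1.symm

include h𝒳 h𝒴 in
theorem unique_hom_over (hX : (Stk.restr (ιS S) 𝒳).IsEquivalence)
    (hY : (Stk.restr (ιS S) 𝒴).Full ∧ (Stk.restr (ιS S) 𝒴).Faithful) (s t : Cocone D) :
    ∃! φ : s.pt ⟶ t.pt, (overBase F).p.IsHomLift (𝟙 y) φ ∧ ∀ a, s.ι a ≫ φ = t.ι a := by
  obtain ⟨φ, ⟨hφ, hφ'⟩, huniq⟩ := ((gisEquivalence_iff h𝒳).mp hX).2 _
    (coconeOverC F S D s) (coconeOverC F S D t)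
  obtain ⟨φ', hφeq⟩ : ∃ φ' : s.pt ⟶ t.pt, φ' = φ := ⟨φ, rfl⟩
  have hφl : 𝒳.p.IsHomLift (𝟙 (𝒴.p.obj y)) φ' := by rw [hφeq]; exact hφ
  have hφw : ∀ a, s.ι a ≫ φ' = t.ι a := by intro a; rw [hφeq]; exact hφ' a
  have hs : F.obj s.pt = y := s.pt_proj
  have ht : F.obj t.pt = y := t.pt_proj
  -- `F φ'` is the identity of `y`
  have hFφl : 𝒴.p.IsHomLift (𝟙 (𝒴.p.obj y)) (F.map φ') := inferInstance
  have l1 : 𝒴.p.IsHomLift (𝟙 (𝒴.p.obj y)) (eqToHom hs.symm ≫ F.map φ' ≫ eqToHom ht) := by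
    have : 𝒴.p.IsHomLift (𝟙 (𝒴.p.obj y)) (F.map φ' ≫ eqToHom ht) := inferInstance
    infer_instance
  have l2 : 𝒴.p.IsHomLift (𝟙 (𝒴.p.obj y)) (𝟙 y) := IsHomLift.id rfl
  have key : eqToHom hs.symm ≫ F.map φ' ≫ eqToHom ht = 𝟙 y := by
    apply GCocone.hom_ext h𝒴 hY.2 (yCocone F S D) (𝟙 (𝒴.p.obj y)) _ _ (hφ := l1) (hψ := l2)
    intro a
    have e1 := ι_fac F S D s a
    have e2 := ι_fac F S D t a
    have e3 : F.toFunctor.map (s.ι a) ≫ F.toFunctor.map φ' = F.toFunctor.map (t.ι a) :=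
      (F.toFunctor.map_comp _ _).symm.trans (congrArg (fun m => F.toFunctor.map m) (hφw a))
    exact cat_aux (eqToHom (D_obj_proj F S D a)) a.obj.hom _ _ _ hs ht e1 e2 e3
  have hFφ : F.toFunctor.IsHomLift (𝟙 y) φ' := by
    apply IsHomLift.of_fac' F.toFunctor (𝟙 y) φ' hs ht
    have := congrArg (fun m => eqToHom hs ≫ m ≫ eqToHom ht.symm) key
    simp only [Category.assoc, eqToHom_trans, eqToHom_refl, Category.comp_id,
      eqToHom_trans_assoc, Category.id_comp] at this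
    rw [this]
    simp
  refine ⟨φ', ⟨hFφ, hφw⟩, ?_⟩
  rintro ψ ⟨hψ, hψ'⟩
  rw [hφeq]
  apply huniq
  refine ⟨?_, hψ'⟩
  have hψ2 : F.toFunctor.IsHomLift (𝟙 y) ψ := hψ
  have h2 := isHomLift_comp_map F.toFunctor 𝒴.p (𝟙 y) ψ
  have h3 : F.toFunctor ⋙ 𝒴.p = 𝒳.p := F.w
  rw [h3, 𝒴.p.map_id] at h2
  exact h2

end S12804

section Main

variable {C : Type u} [Category.{v} C] (J : GrothendieckTopology C)
  {𝒳 𝒴 : BasedCategory.{v, max u v} C}

theorem isStack_overBase (h𝒳 : Stk.IsStack J 𝒳) (h𝒴 : Stk.IsStack J 𝒴) (F : 𝒳 ⥤ᵇ 𝒴)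
    (hF : FibCat.IsFibGrpd F.toFunctor) :
    Stk.IsStack (𝒴.p.restrictedTopology J) (BasedCategory.ofFunctor F.toFunctor) := by
  refine ⟨hF, fun y S hS => ?_⟩
  have hR : pushSieve S ∈ J (𝒴.p.obj y) :=
    (Groth.Agent.H3.StkAux.mem_restrictedTopology_iff 𝒴.p h𝒴.1 J S).mp hS
  have hX : (Stk.restr (ιS S) 𝒳).IsEquivalence :=
    restr_comp_isEquivalence (pushFunctor S) (isEquivOver_pushFunctor S h𝒴.1)
      (Stk.sieveIncl (pushSieve S)) (h𝒳.2 _ hR)
  have hY : (Stk.restr (ιS S) 𝒴).Full ∧ (Stk.restr (ιS S) 𝒴).Faithful :=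
    restr_comp_fullFaithful (pushFunctor S) (isEquivOver_pushFunctor S h𝒴.1)
      (Stk.sieveIncl (pushSieve S)) (isPrestackFor_of_isStackFor (h𝒴.2 _ hR))
  rw [isStackFor_iff (𝒳 := overBase F) hF]
  exact ⟨fun D => exists_cocone_over F S D h𝒳.1 h𝒴.1 hF hX hY,
    fun D s t => unique_hom_over F S D h𝒳.1 h𝒴.1 hX hY s t⟩

end Main

end Groth.Agent.H3.StackOver
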