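import Mathlib
import Groth.Prelude.Def_StGerb
import Groth.Agent.Lib.Helper3.StackOver
import Groth.Agent.Lib.Helper3.GerbAux

set_option autoImplicit false
universe v₂ u₂ v u
open CategoryTheory CategoryTheory.Functor

namespace Groth.Agent.H3.GerbOver
open Groth.Agent.H3.FibCatAux Groth.Agent.H3.GerbAux Groth.Agent.H3.StackOver

variable {C : Type u} [Category.{v} C] (J : GrothendieckTopology C)
  {𝒳 𝒴 : BasedCategory.{v, max u v} C}

/-- a lift-closed pulled-back sieve is covering for the restricted topology -/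
lemma functorPullback_mem_restricted (h𝒴 : FibCat.IsFibGrpd 𝒴.p) (y : 𝒴.obj)
    (R : Sieve (𝒴.p.obj y)) (hR : R ∈ J (𝒴.p.obj y)) :
    R.functorPullback 𝒴.p ∈ 𝒴.p.restrictedTopology J y := by
  rw [Groth.Agent.H3.StkAux.mem_restrictedTopology_iff 𝒴.p h𝒴 J]
  refine J.superset_covering ?_ hR
  intro V f hf
  obtain ⟨y', g, hg⟩ := exists_lift' h𝒴 f y rfl
  have hV : 𝒴.p.obj y' = V := IsHomLift.domain_eq 𝒴.p f g
  subst hV
  have hfg : 𝒴.p.map g = f := by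
    have := IsHomLift.fac 𝒴.p f g
    simpa using this.symm
  refine ⟨y', g, 𝟙 _, ?_, by simp [hfg]⟩
  change R (𝒴.p.map g)
  rw [hfg]; exact hf

/-- strict preimage under a functor fibred in groupoids -/
lemma exists_strict_preimage (F : 𝒳 ⥤ᵇ 𝒴) (hFf : FibCat.IsFibGrpd F.toFunctor)
    (h𝒴 : FibCat.IsFibGrpd 𝒴.p) {y y' : 𝒴.obj} (g : y' ⟶ y) (x : 𝒳.obj) (γ : F.obj x ⟶ y)
    [hγ : 𝒴.p.IsHomLift (𝒴.p.map g) γ] :
    ∃ (x' : 𝒳.obj) (c : x' ⟶ x) (e : F.obj x' = y'), F.map c ≫ γ = eqToHom e ≫ g := by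
  have hcart : 𝒴.p.IsStronglyCartesian (𝒴.p.map g) γ :=
    isStronglyCartesian_of_isHomLift 𝒴.p h𝒴 _ _
  let k : y' ⟶ F.obj x :=
    IsStronglyCartesian.map 𝒴.p (𝒴.p.map g) γ (g := 𝟙 _) (Category.id_comp _).symm g
  have hk : k ≫ γ = g := IsStronglyCartesian.fac 𝒴.p (𝒴.p.map g) γ (Category.id_comp _).symm g
  obtain ⟨x', c, hc⟩ := exists_lift' hFf k x rfl
  have e : F.obj x' = y' := IsHomLift.domain_eq F.toFunctor k c
  refine ⟨x', c, e, ?_⟩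
  have h1 : F.map c = eqToHom e ≫ k := by
    have := IsHomLift.fac' F.toFunctor k c
    simpa using this
  rw [h1, Category.assoc, hk]


lemma isHomLift_eqToHom {y y' : 𝒴.obj} (h : y = y') :
    𝒴.p.IsHomLift (𝟙 (𝒴.p.obj y)) (eqToHom h) := by
  subst h; simp only [eqToHom_refl]; infer_instance

lemma self_isHomLift_iff {D : Type u₂} [Category.{v₂} D] {a b a' b' : D} (f : a ⟶ b) (φ : a' ⟶ b') :
    (𝟭 D).IsHomLift f φ ↔ ∃ (ha : a' = a) (hb : b' = b), φ = eqToHom ha ≫ f ≫ eqToHom hb.symm := by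
  constructor
  · intro h
    have ha : a' = a := IsHomLift.domain_eq (𝟭 D) f φ
    have hb : b' = b := IsHomLift.codomain_eq (𝟭 D) f φ
    refine ⟨ha, hb, ?_⟩
    have := IsHomLift.fac' (𝟭 D) f φ
    simpa using this
  · rintro ⟨ha, hb, h⟩
    subst ha hb
    simp only [eqToHom_refl, Category.id_comp, Category.comp_id] at h
    subst h
    exact IsHomLift.of_fac' (𝟭 D) φ φ rfl rfl (by simp)

theorem isGerbeOver_toSelf_overBase (h𝒴 : FibCat.IsFibGrpd 𝒴.p) (F : 𝒳 ⥤ᵇ 𝒴)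
    (hFf : FibCat.IsFibGrpd F.toFunctor) (hF : Gerb.IsGerbeOver J F) :
    Gerb.IsGerbeOver (𝒴.p.restrictedTopology J) (FibCat.toSelf (overBase F)) := by
  obtain ⟨h1, h2⟩ := hF
  refine ⟨?_, ?_⟩
  · intro y
    obtain ⟨R, hR, h3⟩ := h1 y
    refine ⟨R.functorPullback 𝒴.p, functorPullback_mem_restricted J h𝒴 y R hR, ?_⟩
    intro y' g hg
    obtain ⟨x, γ, hγ⟩ := h3 (𝒴.p.map g) hg
    obtain ⟨x', c, e, hc⟩ := exists_strict_preimage F hFf h𝒴 g x γ (hγ := hγ)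
    refine ⟨x', eqToHom e ≫ g, ?_⟩
    exact (self_isHomLift_iff g _).2 ⟨e, rfl, (congrArg (fun t => eqToHom e ≫ t) (Category.comp_id g)).symm⟩
  · intro (x : 𝒳.obj) (x' : 𝒳.obj) (b : F.obj x ⟶ F.obj x') hb
    obtain ⟨hab, hbb, hb'⟩ := (self_isHomLift_iff _ _).1 hb
    change F.obj x' = F.obj x at hbb
    have hb2 : b = eqToHom hbb.symm := by
      have hb3 : b = eqToHom (rfl : F.obj x = F.obj x) ≫ 𝟙 (F.obj x) ≫ eqToHom hbb.symm := hb'
      rw [hb3]; simp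
    have hb₀ : 𝒴.p.IsHomLift (𝟙 (𝒴.p.obj (F.obj x))) b := by
      rw [hb2]; exact isHomLift_eqToHom _
    rw [locSurjHom_iff] at h2
    obtain ⟨R, hR, h3⟩ := h2 _ x x' b hb₀
    refine ⟨R.functorPullback 𝒴.p, functorPullback_mem_restricted J h𝒴 (F.obj x) R hR, ?_⟩
    intro (V : 𝒴.obj) (g : V ⟶ F.obj x) hg
    obtain ⟨x₀, φ₀, ψ₀, hφ₀, hψ₀, hfac⟩ := h3 (𝒴.p.map g) hg
    have hFφ₀ : 𝒴.p.IsHomLift (𝒴.p.map g) (F.map φ₀) := by
      have := hφ₀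
      exact F.preserves_isHomLift (𝒴.p.map g) φ₀
    obtain ⟨x₁, c, e, hc⟩ := exists_strict_preimage F hFf h𝒴 g x₀ (F.map φ₀) (hγ := hFφ₀)
    refine ⟨x₁, c ≫ φ₀, c ≫ ψ₀, ?_, ?_, ?_⟩
    · refine IsHomLift.of_fac' F.toFunctor g (c ≫ φ₀) e rfl ?_
      have h5 : F.map (c ≫ φ₀) = F.map c ≫ F.map φ₀ := F.toFunctor.map_comp _ _
      refine h5.trans (hc.trans ?_)
      simp
    · refine IsHomLift.of_fac' F.toFunctor g (c ≫ ψ₀) e hbb ?_
      have h5 : F.map (c ≫ ψ₀) = F.map c ≫ F.map ψ₀ := F.toFunctor.map_comp _ _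
      refine h5.trans ?_
      rw [← hfac, ← Category.assoc, hc, hb2, Category.assoc]
    · have h5 : F.map (c ≫ φ₀) = F.map c ≫ F.map φ₀ := F.toFunctor.map_comp _ _
      have h6 : F.map (c ≫ ψ₀) = F.map c ≫ F.map ψ₀ := F.toFunctor.map_comp _ _
      change F.map (c ≫ φ₀) ≫ b = F.map (c ≫ ψ₀)
      rw [h5, h6, ← hfac, Category.assoc]

end Groth.Agent.H3.GerbOver
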