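import Mathlib
import Groth.Prelude.Def_AlgSt
import Groth.Agent.Lib.Helper3.StackDescent
import Groth.Agent.Lib.Helper3.GerbAux

set_option autoImplicit false
universe v₂ u₂ v u
open CategoryTheory CategoryTheory.Functor

namespace Groth.Agent.H3.StackGlue
open Groth.Agent.H3.FibCatAux Groth.Agent.H3.FibCatYoneda Groth.Agent.H3.StackDescent

variable {C : Type u} [Category.{v} C] {𝒳 : BasedCategory.{v₂, u₂} C} {U : C}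

section Cart

variable {𝒮 : Type u₂} [Category.{v₂} 𝒮] {p : 𝒮 ⥤ C}

lemma cart_fac (h : FibCat.IsFibGrpd p) {R S R' : C} (f : R ⟶ S) (g : R' ⟶ R) {a b a' : 𝒮}
    (φ : a ⟶ b) (hφ : p.IsHomLift f φ) (φ' : a' ⟶ b) (hφ' : p.IsHomLift (g ≫ f) φ') :
    ∃ χ : a' ⟶ a, p.IsHomLift g χ ∧ χ ≫ φ = φ' := by
  have := isStronglyCartesian_of_isHomLift p h f φ
  exact ⟨IsStronglyCartesian.map p f φ rfl φ', IsStronglyCartesian.map_isHomLift p f φ rfl φ',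
    IsStronglyCartesian.fac p f φ rfl φ'⟩

lemma cart_cancel (h : FibCat.IsFibGrpd p) {R S R' : C} (f : R ⟶ S) (g : R' ⟶ R) {a b a' : 𝒮}
    (φ : a ⟶ b) (hφ : p.IsHomLift f φ) (ψ ψ' : a' ⟶ a) (hψ : p.IsHomLift g ψ)
    (hψ' : p.IsHomLift g ψ') (e : ψ ≫ φ = ψ' ≫ φ) : ψ = ψ' := by
  have := isStronglyCartesian_of_isHomLift p h f φ
  exact IsStronglyCartesian.ext p f φ g e

lemma isHomLift_of_eq {R S R' S' : C} (f : R ⟶ S) {a b : 𝒮} (φ : a ⟶ b) (hφ : p.IsHomLift f φ)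
    (hR : R = R') (hS : S = S') (f' : R' ⟶ S') (hf : f' = eqToHom hR.symm ≫ f ≫ eqToHom hS) :
    p.IsHomLift f' φ := by
  subst hR hS
  simp only [eqToHom_refl, Category.id_comp, Category.comp_id] at hf
  subst hf
  exact hφ

lemma isHomLift_id_of_eq {R R' : C} {a b : 𝒮} (φ : a ⟶ b) (hφ : p.IsHomLift (𝟙 R) φ)
    (hR : R = R') : p.IsHomLift (𝟙 R') φ := by
  subst hR; exact hφ

end Cart

/-- A compatible family of morphisms to `y` on all lifts to `x` of arrows of `R`. -/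
structure HomFamily (R : Sieve U) (x y : 𝒳.obj) where
  m : ∀ ⦃V : C⦄ (f : V ⟶ U), R f → ∀ (x' : 𝒳.obj) (c : x' ⟶ x), 𝒳.p.IsHomLift f c → (x' ⟶ y)
  lift : ∀ ⦃V : C⦄ (f : V ⟶ U) (hf : R f) (x' : 𝒳.obj) (c : x' ⟶ x) (hc : 𝒳.p.IsHomLift f c),
    𝒳.p.IsHomLift f (m f hf x' c hc)
  comp : ∀ ⦃V : C⦄ (f : V ⟶ U) (hf : R f) (x' : 𝒳.obj) (c : x' ⟶ x) (hc : 𝒳.p.IsHomLift f c)
    ⦃W : C⦄ (h : W ⟶ V) (x'' : 𝒳.obj) (w : x'' ⟶ x') (_ : 𝒳.p.IsHomLift h w)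
    (hwc : 𝒳.p.IsHomLift (h ≫ f) (w ≫ c)),
    m (h ≫ f) (R.downward_closed hf h) x'' (w ≫ c) hwc = w ≫ m f hf x' c hc

lemma HomFamily.m_congr {R : Sieve U} {x y : 𝒳.obj} (M : HomFamily R x y) {V : C} {f f' : V ⟶ U}
    (hff : f = f') (hf : R f) (hf' : R f') (x' : 𝒳.obj) {c c' : x' ⟶ x} (hcc : c = c')
    (hc : 𝒳.p.IsHomLift f c) (hc' : 𝒳.p.IsHomLift f' c') :
    M.m f hf x' c hc = M.m f' hf' x' c' hc' := by
  subst hff hcc; rfl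

variable (h𝒳 : FibCat.IsFibGrpd 𝒳.p) {R : Sieve U}

include h𝒳 in
theorem exists_unique_glue (hR : Stk.IsPrestackFor R 𝒳) {x y : 𝒳.obj} (hx : 𝒳.p.obj x = U)
    (hy : 𝒳.p.obj y = U) (M : HomFamily R x y) :
    ∃! φ : x ⟶ y, 𝒳.p.IsHomLift (𝟙 U) φ ∧
      ∀ ⦃V : C⦄ (f : V ⟶ U) (hf : R f) (x' : 𝒳.obj) (c : x' ⟶ x) (hc : 𝒳.p.IsHomLift f c),
        c ≫ φ = M.m f hf x' c hc := by
  have hfib : 𝒳.p.IsFibered := isFibered_of_isFibGrpd 𝒳.p h𝒳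
  obtain ⟨G, e, he⟩ := exists_pb_leg x hx
  let s : Cocone (R := R) ((Stk.resSieve R 𝒳).obj G) := coconeOfLeg hx G e
  let t : Cocone (R := R) ((Stk.resSieve R 𝒳).obj G) :=
    { pt := y
      pt_proj := hy
      ι := fun a => M.m a.obj.hom a.property _ (s.ι a) (s.ι_lift a)
      ι_lift := fun a => M.lift a.obj.hom a.property _ (s.ι a) (s.ι_lift a)
      w := by
        intro a b f
        have hl : 𝒳.p.IsHomLift f.hom.left (((Stk.resSieve R 𝒳).obj G).map f) :=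
          sieve_map_isHomLift _ f
        have hsb := s.ι_lift b
        have hwc : 𝒳.p.IsHomLift (f.hom.left ≫ b.obj.hom)
            (((Stk.resSieve R 𝒳).obj G).map f ≫ s.ι b) := inferInstance
        have h1 := M.comp b.obj.hom b.property _ (s.ι b) (s.ι_lift b) f.hom.left _
          (((Stk.resSieve R 𝒳).obj G).map f) hl hwc
        rw [← h1]
        exact M.m_congr (Over.w f.hom) _ _ _ (s.w f) _ _ }
  obtain ⟨φ, ⟨hφ, hφ'⟩, huniq⟩ := (isPrestackFor_iff h𝒳).mp hR _ s t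
  refine ⟨φ, ⟨hφ, ?_⟩, ?_⟩
  · intro V f hf x' c hc
    obtain ⟨c', hc'l, hc'⟩ := s.exists_fac h𝒳 f hf c (hc := hc)
    have hwc : 𝒳.p.IsHomLift (𝟙 V ≫ f) (c' ≫ s.ι (mkObj R f hf)) := by
      rw [hc', Category.id_comp]; exact hc
    have h1 := M.comp f hf _ (s.ι (mkObj R f hf)) (s.ι_lift (mkObj R f hf)) (𝟙 V) x' c' hc'l hwc
    have h2 : s.ι (mkObj R f hf) ≫ φ = M.m f hf _ (s.ι (mkObj R f hf)) (s.ι_lift (mkObj R f hf)) :=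
      hφ' (mkObj R f hf)
    calc c ≫ φ = c' ≫ s.ι (mkObj R f hf) ≫ φ := by rw [← hc']; exact Category.assoc _ _ _
      _ = c' ≫ M.m f hf _ (s.ι (mkObj R f hf)) (s.ι_lift (mkObj R f hf)) := by rw [h2]
      _ = M.m (𝟙 V ≫ f) _ x' (c' ≫ s.ι (mkObj R f hf)) hwc := h1.symm
      _ = M.m f hf x' c hc := M.m_congr (Category.id_comp f) _ _ _ hc' _ _
  · rintro ψ ⟨hψ, hψ'⟩
    apply huniq
    refine ⟨hψ, fun a => ?_⟩
    exact hψ' a.obj.hom a.property _ (s.ι a) (s.ι_lift a)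

section Extension

variable (J : GrothendieckTopology C) {𝒴 : BasedCategory.{v₂, u₂} C} (Φ : 𝒴 ⥤ᵇ 𝒴)
  (P : 𝒴.obj → Prop)

/-- the sieve of arrows over which `z` has a pullback satisfying `P` -/
def locSieve (hfib : FibCat.IsFibGrpd 𝒴.p) (hP1 : ∀ ⦃z' z : 𝒴.obj⦄ (_ : z' ⟶ z), P z → P z')
    (z : 𝒴.obj) : Sieve (𝒴.p.obj z) where
  arrows V f := ∃ (z₀ : 𝒴.obj) (a : z₀ ⟶ z), 𝒴.p.IsHomLift f a ∧ P z₀
  downward_closed := by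
    rintro V W f ⟨z₀, a, ha, hz₀⟩ h
    have hV : 𝒴.p.obj z₀ = V := IsHomLift.domain_eq 𝒴.p f a
    obtain ⟨z₁, w, hw⟩ := Groth.Agent.H3.GerbAux.exists_lift' hfib h z₀ hV
    exact ⟨z₁, w ≫ a, inferInstance, hP1 w hz₀⟩

variable {Φ P}
variable (γ : ∀ z, P z → (Φ.obj z ⟶ z))

/-- local data computing the glued morphism -/
structure LocData (z : 𝒴.obj) {V : C} (f : V ⟶ 𝒴.p.obj z) (z' : 𝒴.obj) (c : z' ⟶ Φ.obj z) where
  z₀ : 𝒴.obj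
  a : z₀ ⟶ z
  ha : 𝒴.p.IsHomLift f a
  hz₀ : P z₀
  k : z' ⟶ Φ.obj z₀
  hk : 𝒴.p.IsHomLift (𝟙 V) k
  fac : k ≫ Φ.map a = c

/-- the value of the glued morphism on local data -/
def LocData.val {z : 𝒴.obj} {V : C} {f : V ⟶ 𝒴.p.obj z} {z' : 𝒴.obj} {c : z' ⟶ Φ.obj z}
    (d : LocData (Φ := Φ) (P := P) z f z' c) : z' ⟶ z := d.k ≫ γ d.z₀ d.hz₀ ≫ d.a

variable (hγ : ∀ z hz, 𝒴.p.IsHomLift (𝟙 (𝒴.p.obj z)) (γ z hz))

include hγ in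
lemma LocData.val_lift {z : 𝒴.obj} {V : C} {f : V ⟶ 𝒴.p.obj z} {z' : 𝒴.obj} {c : z' ⟶ Φ.obj z}
    (d : LocData (Φ := Φ) (P := P) z f z' c) : 𝒴.p.IsHomLift f (d.val γ) := by
  have h1 := d.ha
  have h2 := d.hk
  have hV : 𝒴.p.obj d.z₀ = V := IsHomLift.domain_eq 𝒴.p f d.a
  have h3 : 𝒴.p.IsHomLift (𝟙 V) (γ d.z₀ d.hz₀) := isHomLift_id_of_eq _ (hγ _ _) hV
  unfold LocData.val
  infer_instance

variable (hfib : FibCat.IsFibGrpd 𝒴.p)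
  (hnat : ∀ ⦃z' z : 𝒴.obj⦄ (w : z' ⟶ z) (hz : P z) (hz' : P z'),
    Φ.map w ≫ γ z hz = γ z' hz' ≫ w)

include hfib hnat in
lemma LocData.val_compat {z : 𝒴.obj} {V W : C} {f : V ⟶ 𝒴.p.obj z} (h : W ⟶ V) {z' z'' : 𝒴.obj}
    {c : z' ⟶ Φ.obj z} (w : z'' ⟶ z') (hw : 𝒴.p.IsHomLift h w)
    (d : LocData (Φ := Φ) (P := P) z f z' c)
    (d' : LocData (Φ := Φ) (P := P) z (h ≫ f) z'' (w ≫ c)) : d'.val γ = w ≫ d.val γ := by
  obtain ⟨θ, hθ, hθ'⟩ := cart_fac hfib f h d.a d.ha d'.a d'.ha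
  have hΦθ : 𝒴.p.IsHomLift h (Φ.map θ) := Φ.preserves_isHomLift h θ
  have hda := d.ha
  have hΦa : 𝒴.p.IsHomLift f (Φ.map d.a) := Φ.preserves_isHomLift f d.a
  have hk := d.hk
  have hk' := d'.hk
  have e1 : d'.k ≫ Φ.map θ = w ≫ d.k := by
    refine cart_cancel hfib f h (Φ.map d.a) hΦa _ _ inferInstance inferInstance ?_
    have h5 : Φ.map θ ≫ Φ.map d.a = Φ.map d'.a := by
      rw [← hθ']; exact (Φ.toFunctor.map_comp _ _).symm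
    rw [Category.assoc, h5, d'.fac, Category.assoc, d.fac]
  unfold LocData.val
  have e2 := hnat θ d.hz₀ d'.hz₀
  calc d'.k ≫ γ d'.z₀ d'.hz₀ ≫ d'.a = d'.k ≫ (γ d'.z₀ d'.hz₀ ≫ θ) ≫ d.a := by
        rw [← hθ', Category.assoc]
    _ = d'.k ≫ (Φ.map θ ≫ γ d.z₀ d.hz₀) ≫ d.a := by rw [e2]
    _ = (d'.k ≫ Φ.map θ) ≫ γ d.z₀ d.hz₀ ≫ d.a := by simp only [Category.assoc]
    _ = w ≫ d.k ≫ γ d.z₀ d.hz₀ ≫ d.a := by rw [e1, Category.assoc]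

include hfib in
lemma nonempty_locData {z : 𝒴.obj} {V : C} (f : V ⟶ 𝒴.p.obj z)
    (hf : ∃ (z₀ : 𝒴.obj) (a : z₀ ⟶ z), 𝒴.p.IsHomLift f a ∧ P z₀) (z' : 𝒴.obj) (c : z' ⟶ Φ.obj z)
    (hc : 𝒴.p.IsHomLift f c) : Nonempty (LocData (Φ := Φ) (P := P) z f z' c) := by
  obtain ⟨z₀, a, ha, hz₀⟩ := hf
  have hΦa : 𝒴.p.IsHomLift f (Φ.map a) := Φ.preserves_isHomLift f a
  have hc' : 𝒴.p.IsHomLift (𝟙 V ≫ f) c := by rw [Category.id_comp]; exact hc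
  obtain ⟨k, hk, hk'⟩ := cart_fac hfib f (𝟙 V) (Φ.map a) hΦa c hc'
  exact ⟨⟨z₀, a, ha, hz₀, k, hk, hk'⟩⟩

/-- transport local data along equalities -/
def LocData.cast {z : 𝒴.obj} {V : C} {f f' : V ⟶ 𝒴.p.obj z} {z' : 𝒴.obj} {c c' : z' ⟶ Φ.obj z}
    (hf : f = f') (hc : c = c') (d : LocData (Φ := Φ) (P := P) z f z' c) :
    LocData (Φ := Φ) (P := P) z f' z' c' :=
  ⟨d.z₀, d.a, hf ▸ d.ha, d.hz₀, d.k, d.hk, hc ▸ d.fac⟩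

lemma LocData.cast_val {z : 𝒴.obj} {V : C} {f f' : V ⟶ 𝒴.p.obj z} {z' : 𝒴.obj}
    {c c' : z' ⟶ Φ.obj z} (hf : f = f') (hc : c = c') (d : LocData (Φ := Φ) (P := P) z f z' c) :
    (d.cast hf hc).val γ = d.val γ := rfl

include hfib hnat in
lemma LocData.val_unique {z : 𝒴.obj} {V : C} {f : V ⟶ 𝒴.p.obj z} {z' : 𝒴.obj}
    {c : z' ⟶ Φ.obj z} (d d' : LocData (Φ := Φ) (P := P) z f z' c) : d'.val γ = d.val γ := by
  have hdk := d.hk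
  have hz' : 𝒴.p.obj z' = V := IsHomLift.domain_eq 𝒴.p (𝟙 V) d.k
  have hw : 𝒴.p.IsHomLift (𝟙 V) (𝟙 z') := by subst hz'; infer_instance
  have h1 := LocData.val_compat γ hfib hnat (𝟙 V) (𝟙 z') hw d
    (d'.cast (Category.id_comp f).symm (Category.id_comp c).symm)
  rw [LocData.cast_val, Category.id_comp] at h1
  exact h1

variable (hP1 : ∀ ⦃z' z : 𝒴.obj⦄ (_ : z' ⟶ z), P z → P z')

/-- the family of local values of the extension -/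
noncomputable def extFamily (z : 𝒴.obj) :
    HomFamily (locSieve P hfib hP1 z) (Φ.obj z) z where
  m _ f hf z' c hc := (Classical.choice (nonempty_locData hfib f hf z' c hc)).val γ
  lift _ _ _ _ _ _ := LocData.val_lift γ hγ _
  comp _ _ _ _ _ _ _ h _ w hw _ := LocData.val_compat γ hfib hnat h w hw _ _

include hγ hnat in
theorem exists_extension (h𝒴 : Stk.IsPrestack J 𝒴)
    (hP2 : ∀ z : 𝒴.obj, locSieve P h𝒴.1 hP1 z ∈ J (𝒴.p.obj z)) :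
    ∃ ρ : ∀ z : 𝒴.obj, Φ.obj z ⟶ z, (∀ z, 𝒴.p.IsHomLift (𝟙 (𝒴.p.obj z)) (ρ z)) ∧
      (∀ (z z' : 𝒴.obj) (f : z ⟶ z'), Φ.map f ≫ ρ z' = ρ z ≫ f) ∧
      ∀ z hz, ρ z = γ z hz := by
  have hfib := h𝒴.1
  have key : ∀ z : 𝒴.obj, ∃! φ : Φ.obj z ⟶ z, 𝒴.p.IsHomLift (𝟙 (𝒴.p.obj z)) φ ∧
      ∀ ⦃V : C⦄ (f : V ⟶ 𝒴.p.obj z) (hf : locSieve P hfib hP1 z f) (x' : 𝒴.obj)
        (c : x' ⟶ Φ.obj z) (hc : 𝒴.p.IsHomLift f c),
        c ≫ φ = (extFamily γ hγ hfib hnat hP1 z).m f hf x' c hc :=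
    fun z => exists_unique_glue hfib (h𝒴.2 _ (hP2 z)) (Φ.w_obj z) rfl _
  choose ρ hρ huniq using key
  -- the glued morphism on pullbacks satisfying `P`
  have hstar : ∀ (z z₀ : 𝒴.obj) (a : z₀ ⟶ z) (hz₀ : P z₀), Φ.map a ≫ ρ z = γ z₀ hz₀ ≫ a := by
    intro z z₀ a hz₀
    have hf : locSieve P hfib hP1 z (𝒴.p.map a) := ⟨z₀, a, inferInstance, hz₀⟩
    have hΦa : 𝒴.p.IsHomLift (𝒴.p.map a) (Φ.map a) := Φ.preserves_isHomLift _ a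
    have h1 := (hρ z).2 (𝒴.p.map a) hf _ (Φ.map a) hΦa
    have hid : 𝒴.p.IsHomLift (𝟙 (𝒴.p.obj z₀)) (𝟙 (Φ.obj z₀)) := by
      have := Φ.w_obj z₀
      exact IsHomLift.of_fac' 𝒴.p _ _ (Φ.w_obj z₀) (Φ.w_obj z₀) (by simp)
    let d : LocData (Φ := Φ) (P := P) z (𝒴.p.map a) (Φ.obj z₀) (Φ.map a) :=
      ⟨z₀, a, inferInstance, hz₀, 𝟙 _, hid, Category.id_comp _⟩
    have h2 := LocData.val_unique γ hfib hnat d
      (Classical.choice (nonempty_locData hfib (𝒴.p.map a) hf _ (Φ.map a) hΦa))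
    rw [h1]
    refine h2.trans ?_
    change 𝟙 _ ≫ γ z₀ hz₀ ≫ a = _
    exact Category.id_comp _
  refine ⟨ρ, fun z => (hρ z).1, ?_, ?_⟩
  · intro z z' f
    have i1 : 𝒴.p.IsHomLift (𝒴.p.map f) (Φ.map f) := Φ.preserves_isHomLift _ f
    have i2 := (hρ z').1
    have i3 := (hρ z).1
    have j1 : 𝒴.p.IsHomLift (𝒴.p.map f) (Φ.map f ≫ ρ z') := inferInstance
    have j2 : 𝒴.p.IsHomLift (𝒴.p.map f) (ρ z ≫ f) := inferInstance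
    apply hom_ext_of_faithful hfib (h𝒴.2 _ (hP2 z)).2 (𝒴.p.map f)
    intro V f₀ hf₀ x' c hc
    obtain ⟨d⟩ := nonempty_locData (Φ := Φ) hfib f₀ hf₀ x' c hc
    have e1 : Φ.map d.a ≫ Φ.map f = Φ.map (d.a ≫ f) := (Φ.toFunctor.map_comp _ _).symm
    rw [← d.fac]
    simp only [Category.assoc]
    congr 1
    rw [← Category.assoc, e1, hstar z' d.z₀ (d.a ≫ f) d.hz₀, ← Category.assoc (Φ.map d.a),
      hstar z d.z₀ d.a d.hz₀, Category.assoc]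
  · intro z hz
    have h1 := hstar z z (𝟙 z) hz
    have h2 : Φ.map (𝟙 z) = 𝟙 _ := Φ.toFunctor.map_id z
    rw [h2, Category.id_comp, Category.comp_id] at h1
    exact h1

end Extension

end Groth.Agent.H3.StackGlue
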