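import Mathlib
import Groth.Prelude.Def_StGerb2
import Groth.Agent.Lib.Helper3.StackGlue
import Groth.Agent.Lib.Helper3.GerbOver

set_option autoImplicit false
universe v₃ u₃ v₂ u₂ v u
open CategoryTheory CategoryTheory.Functor CategoryTheory.Limits

namespace Groth.Agent.H3.GerbIso
open Groth.Agent.H3.FibCatAux Groth.Agent.H3.StackDescent Groth.Agent.H3.StackGlue
  Groth.Agent.H3.GerbAux Groth.Agent.H3.GerbOver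

variable {C : Type u} [Category.{v} C] (J : GrothendieckTopology C)
  {𝒳 : BasedCategory.{v₂, u₂} C}

/-- an endomorphism over the identity as an element of the automorphism group -/
noncomputable def autOfHom (hfib : FibCat.IsFibGrpd 𝒳.p) (z : 𝒳.obj) (α : z ⟶ z)
    (hα : 𝒳.p.IsHomLift (𝟙 (𝒳.p.obj z)) α) : Gerb.AutO z :=
  have : IsIso α := isIso_of_isHomLift_id 𝒳.p hfib (U := 𝒳.p.obj z) α
  { hom := ⟨α, hα⟩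
    inv := ⟨CategoryTheory.inv α, by
      have := IsHomLift.inv 𝒳.p (𝟙 (𝒳.p.obj z)) α
      rwa [IsIso.inv_id] at this⟩
    hom_inv_id := by
      apply Functor.Fiber.hom_ext
      change α ≫ CategoryTheory.inv α = 𝟙 z
      simp
    inv_hom_id := by
      apply Functor.Fiber.hom_ext
      change CategoryTheory.inv α ≫ α = 𝟙 z
      simp }

@[simp] lemma autOfHom_hom (hfib : FibCat.IsFibGrpd 𝒳.p) (z : 𝒳.obj) (α : z ⟶ z)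
    (hα : 𝒳.p.IsHomLift (𝟙 (𝒳.p.obj z)) α) : (autOfHom hfib z α hα).hom.1 = α := rfl

/-- two objects over the same base object of a gerbe are locally isomorphic -/
lemma exists_local_iso (h : Gerb.LocSurjHom J (FibCat.toSelf 𝒳)) {U : C} (z z' : 𝒳.obj)
    (hz : 𝒳.p.obj z = U) (hz' : 𝒳.p.obj z' = U) :
    ∃ R ∈ J U, ∀ ⦃V : C⦄ (f : V ⟶ U), R f →
      ∃ (z₀ : 𝒳.obj) (a : z₀ ⟶ z) (b : z₀ ⟶ z'), 𝒳.p.IsHomLift f a ∧ 𝒳.p.IsHomLift f b := by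
  subst hz
  have hb : (𝟭 C).IsHomLift (𝟙 (𝒳.p.obj z)) (eqToHom hz'.symm) :=
    (self_isHomLift_iff _ _).2 ⟨rfl, hz', by simp⟩
  obtain ⟨R, hR, h1⟩ := h z z' (eqToHom hz'.symm) hb
  refine ⟨R, hR, fun V f hf => ?_⟩
  obtain ⟨z₀, a, b, ha, hb', -⟩ := h1 f hf
  exact ⟨z₀, a, b, ha, hb'⟩

section Conj

variable (hfib : FibCat.IsFibGrpd 𝒳.p) (E : 𝒳 ⥤ᵇ 𝒳) (x : 𝒳.obj) (hT : IsTerminal (𝒳.p.obj x))
  (g : E.obj x ⟶ x) (hg : 𝒳.p.IsHomLift (𝟙 (𝒳.p.obj x)) g)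

include hfib hg in
lemma exists_conj {z : 𝒳.obj} (c : z ⟶ x) :
    ∃ g' : E.obj z ⟶ z, 𝒳.p.IsHomLift (𝟙 (𝒳.p.obj z)) g' ∧ E.map c ≫ g = g' ≫ c := by
  have h1 : 𝒳.p.IsHomLift (𝒳.p.map c) (E.map c) := E.preserves_isHomLift _ c
  have h2 : 𝒳.p.IsHomLift (𝟙 (𝒳.p.obj z) ≫ 𝒳.p.map c) (E.map c ≫ g) := by
    rw [Category.id_comp]; infer_instance
  obtain ⟨χ, hχ, hχ'⟩ := cart_fac hfib (𝒳.p.map c) (𝟙 _) c inferInstance (E.map c ≫ g) h2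
  exact ⟨χ, hχ, hχ'.symm⟩

variable (hconj : ∀ (x' : 𝒳.obj) (c : x' ⟶ x) (g' : E.obj x' ⟶ x'),
    𝒳.p.IsHomLift (𝟙 (𝒳.p.obj x')) g' → E.map c ≫ g = g' ≫ c →
    ∀ α : Gerb.AutO x', E.map α.hom.1 ≫ g' = g' ≫ α.hom.1)

include hfib hT hconj in
lemma conj_indep {z : 𝒳.obj} (c c' : z ⟶ x) (g' : E.obj z ⟶ z)
    (hg' : 𝒳.p.IsHomLift (𝟙 (𝒳.p.obj z)) g') (h : E.map c ≫ g = g' ≫ c) :
    E.map c' ≫ g = g' ≫ c' := by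
  have hpc : 𝒳.p.map c' = 𝒳.p.map c := hT.hom_ext _ _
  have h2 : 𝒳.p.IsHomLift (𝟙 (𝒳.p.obj z) ≫ 𝒳.p.map c) c' := by
    rw [Category.id_comp, ← hpc]; infer_instance
  obtain ⟨α, hα, hα'⟩ := cart_fac hfib (𝒳.p.map c) (𝟙 _) c inferInstance c' h2
  have h3 := hconj z c g' hg' h (autOfHom hfib z α hα)
  rw [autOfHom_hom] at h3
  have e1 : E.map c' = E.map α ≫ E.map c := by
    rw [← hα']; exact E.toFunctor.map_comp _ _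
  rw [e1, Category.assoc, h, ← Category.assoc, h3, Category.assoc, hα']

/-- the conjugating isomorphisms on objects with a morphism to `x` -/
noncomputable def conjFam (z : 𝒳.obj) (hz : Nonempty (z ⟶ x)) : E.obj z ⟶ z :=
  (exists_conj hfib E x g hg (Classical.choice hz)).choose

lemma conjFam_lift (z : 𝒳.obj) (hz : Nonempty (z ⟶ x)) :
    𝒳.p.IsHomLift (𝟙 (𝒳.p.obj z)) (conjFam hfib E x g hg z hz) :=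
  (exists_conj hfib E x g hg (Classical.choice hz)).choose_spec.1

include hT hconj in
lemma conjFam_spec (z : 𝒳.obj) (hz : Nonempty (z ⟶ x)) (c : z ⟶ x) :
    E.map c ≫ g = conjFam hfib E x g hg z hz ≫ c :=
  conj_indep hfib E x hT g hconj _ c _ (conjFam_lift hfib E x g hg z hz)
    (exists_conj hfib E x g hg (Classical.choice hz)).choose_spec.2

include hT hconj in
lemma conjFam_nat {z' z : 𝒳.obj} (w : z' ⟶ z) (hz : Nonempty (z ⟶ x)) (hz' : Nonempty (z' ⟶ x)) :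
    E.map w ≫ conjFam hfib E x g hg z hz = conjFam hfib E x g hg z' hz' ≫ w := by
  obtain ⟨c⟩ := hz
  have h1 := conjFam_spec hfib E x hT g hg hconj z ⟨c⟩ c
  have h2 := conjFam_spec hfib E x hT g hg hconj z' hz' (w ≫ c)
  have l1 := conjFam_lift hfib E x g hg z ⟨c⟩
  have l2 := conjFam_lift hfib E x g hg z' hz'
  have l3 : 𝒳.p.IsHomLift (𝒳.p.map w) (E.map w) := E.preserves_isHomLift _ w
  refine cart_cancel hfib (𝒳.p.map c) (𝒳.p.map w) c inferInstance _ _ inferInstance inferInstance ?_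
  have e1 : E.map (w ≫ c) = E.map w ≫ E.map c := E.toFunctor.map_comp _ _
  rw [Category.assoc, ← h1, ← Category.assoc, ← e1, h2, Category.assoc]

end Conj

section S17912

variable {J}

/-- every object of a gerbe with a global object `x` locally maps to `x` -/
lemma locSieve_mem_of_terminal (h𝒳 : Gerb.IsGerbe J 𝒳) (x : 𝒳.obj)
    (hT : IsTerminal (𝒳.p.obj x))
    (hP1 : ∀ ⦃z' z : 𝒳.obj⦄ (_ : z' ⟶ z), Nonempty (z ⟶ x) → Nonempty (z' ⟶ x)) (z : 𝒳.obj) :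
    locSieve (fun z => Nonempty (z ⟶ x)) h𝒳.1.1 hP1 z ∈ J (𝒳.p.obj z) := by
  obtain ⟨xU, κ, hκ⟩ := exists_lift' h𝒳.1.1 (hT.from (𝒳.p.obj z)) x rfl
  have hxU : 𝒳.p.obj xU = 𝒳.p.obj z := IsHomLift.domain_eq 𝒳.p (hT.from (𝒳.p.obj z)) κ
  obtain ⟨R, hR, h1⟩ := exists_local_iso J h𝒳.2.2 z xU rfl hxU
  refine J.superset_covering ?_ hR
  intro V f hf
  obtain ⟨z₀, a, b, ha, -⟩ := h1 f hf
  exact ⟨z₀, a, ha, ⟨b ≫ κ⟩⟩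

theorem endo_iso_id (h𝒳 : Gerb.IsGerbe J 𝒳) (E : 𝒳 ⥤ᵇ 𝒳) (x : 𝒳.obj)
    (hT : IsTerminal (𝒳.p.obj x)) (g : E.obj x ⟶ x)
    (hg : 𝒳.p.IsHomLift (𝟙 (𝒳.p.obj x)) g)
    (hconj : ∀ (x' : 𝒳.obj) (c : x' ⟶ x) (g' : E.obj x' ⟶ x'),
      𝒳.p.IsHomLift (𝟙 (𝒳.p.obj x')) g' → E.map c ≫ g = g' ≫ c →
      ∀ α : Gerb.AutO x', E.map α.hom.1 ≫ g' = g' ≫ α.hom.1) :
    ∃ ρ : ∀ y : 𝒳.obj, E.obj y ⟶ y,
      (∀ y, 𝒳.p.IsHomLift (𝟙 (𝒳.p.obj y)) (ρ y)) ∧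
      (∀ (y y' : 𝒳.obj) (f : y ⟶ y'), E.map f ≫ ρ y' = ρ y ≫ f) ∧
      ∀ (y : 𝒳.obj) (hy : Nonempty (y ⟶ x)), ρ y = conjFam h𝒳.1.1 E x g hg y hy := by
  have hfib := h𝒳.1.1
  have hP1 : ∀ ⦃z' z : 𝒳.obj⦄ (_ : z' ⟶ z), Nonempty (z ⟶ x) → Nonempty (z' ⟶ x) :=
    fun z' z w ⟨c⟩ => ⟨w ≫ c⟩
  exact exists_extension J (conjFam hfib E x g hg) (conjFam_lift hfib E x g hg)
    (fun z' z w hz hz' => conjFam_nat hfib E x hT g hg hconj w hz hz') hP1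
    ⟨h𝒳.1.1, fun _ R hR => isPrestackFor_of_isStackFor (h𝒳.1.2 R hR)⟩ (locSieve_mem_of_terminal h𝒳 x hT hP1)

end S17912

section S17913

variable {J} {𝒴 : BasedCategory.{v₃, u₃} C}

lemma full_on_pullbacks (hf𝒳 : FibCat.IsFibGrpd 𝒳.p) (hf𝒴 : FibCat.IsFibGrpd 𝒴.p) (φ : 𝒳 ⥤ᵇ 𝒴)
    (x : 𝒳.obj) (hT : IsTerminal (𝒳.p.obj x))
    (hφ : ∀ (x' : 𝒳.obj) (_ : x' ⟶ x), Function.Surjective (Gerb.autMap φ x'))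
    {y₀' y₀ : 𝒳.obj} (c' : y₀' ⟶ x) (c : y₀ ⟶ x) (β : φ.obj y₀' ⟶ φ.obj y₀) :
    ∃ b : y₀' ⟶ y₀, φ.map b = β := by
  obtain ⟨u, hu⟩ : ∃ u : 𝒳.p.obj y₀' ⟶ 𝒳.p.obj y₀,
      u = eqToHom (φ.w_obj y₀').symm ≫ 𝒴.p.map β ≫ eqToHom (φ.w_obj y₀) := ⟨_, rfl⟩
  have hβ : 𝒴.p.IsHomLift u β :=
    IsHomLift.of_fac' 𝒴.p u β (φ.w_obj y₀') (φ.w_obj y₀) (by simp [hu])
  have huc : u ≫ 𝒳.p.map c = 𝒳.p.map c' := hT.hom_ext _ _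
  have hc' : 𝒳.p.IsHomLift (u ≫ 𝒳.p.map c) c' := by rw [huc]; infer_instance
  obtain ⟨θ, hθ, hθ'⟩ := cart_fac hf𝒳 (𝒳.p.map c) u c inferInstance c' hc'
  have hφθ : 𝒴.p.IsHomLift u (φ.map θ) := φ.preserves_isHomLift u θ
  have hβ' : 𝒴.p.IsHomLift (𝟙 _ ≫ u) β := by rw [Category.id_comp]; exact hβ
  obtain ⟨α', hα', hα''⟩ := cart_fac hf𝒴 u (𝟙 _) (φ.map θ) hφθ β hβ'
  have hα'2 : 𝒴.p.IsHomLift (𝟙 (𝒴.p.obj (φ.obj y₀'))) α' :=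
    isHomLift_id_of_eq _ hα' (φ.w_obj y₀').symm
  obtain ⟨α, hα⟩ := hφ y₀' c' (autOfHom hf𝒴 _ α' hα'2)
  have e1 : φ.map α.hom.1 = α' := congrArg (fun t => t.hom.1) hα
  refine ⟨α.hom.1 ≫ θ, ?_⟩
  have e2 : φ.map (α.hom.1 ≫ θ) = φ.map α.hom.1 ≫ φ.map θ := φ.toFunctor.map_comp _ _
  rw [e2, e1, hα'']

end S17913

section S17913b

variable {J} {𝒴 : BasedCategory.{v₃, u₃} C} (hf𝒳 : FibCat.IsFibGrpd 𝒳.p)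
  (hf𝒴 : FibCat.IsFibGrpd 𝒴.p) (φ : 𝒳 ⥤ᵇ 𝒴) (ψ : 𝒴 ⥤ᵇ 𝒳) (x : 𝒳.obj)
  (hT : IsTerminal (𝒳.p.obj x))
  (hφ : ∀ (x' : 𝒳.obj) (_ : x' ⟶ x), Function.Surjective (Gerb.autMap φ x'))
  (g : ψ.obj (φ.obj x) ⟶ x) (hg : 𝒳.p.IsHomLift (𝟙 (𝒳.p.obj x)) g)
  (hconj : ∀ (x' : 𝒳.obj) (c : x' ⟶ x) (g' : ψ.obj (φ.obj x') ⟶ x'),
    𝒳.p.IsHomLift (𝟙 (𝒳.p.obj x')) g' → ψ.map (φ.map c) ≫ g = g' ≫ c →
    ∀ α : Gerb.AutO x', ψ.map (φ.map α.hom.1) ≫ g' = g' ≫ α.hom.1)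

/-- `z` is isomorphic, in its fibre, to the image of a pullback of `x` -/
structure ImgData (z : 𝒴.obj) where
  y₀ : 𝒳.obj
  hy₀ : Nonempty (y₀ ⟶ x)
  ι : z ⟶ φ.obj y₀
  hι : 𝒴.p.IsHomLift (𝟙 (𝒴.p.obj z)) ι

/-- the conjugating family for `φ ⋙ ψ` -/
noncomputable def gam (y : 𝒳.obj) (hy : Nonempty (y ⟶ x)) : ψ.obj (φ.obj y) ⟶ y :=
  conjFam hf𝒳 (BasedFunctor.comp φ ψ) x g hg y hy

lemma gam_lift (y : 𝒳.obj) (hy : Nonempty (y ⟶ x)) :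
    𝒳.p.IsHomLift (𝟙 (𝒳.p.obj y)) (gam hf𝒳 φ ψ x g hg y hy) :=
  conjFam_lift hf𝒳 (BasedFunctor.comp φ ψ) x g hg y hy

include hT hconj in
lemma gam_nat {y' y : 𝒳.obj} (w : y' ⟶ y) (hy : Nonempty (y ⟶ x)) (hy' : Nonempty (y' ⟶ x)) :
    ψ.map (φ.map w) ≫ gam hf𝒳 φ ψ x g hg y hy = gam hf𝒳 φ ψ x g hg y' hy' ≫ w :=
  conjFam_nat hf𝒳 (BasedFunctor.comp φ ψ) x hT g hg hconj w hy hy'

variable {φ x}

include hf𝒴 in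
lemma ImgData.isIso {z : 𝒴.obj} (d : ImgData (φ := φ) (x := x) z) : IsIso d.ι :=
  have := d.hι
  isIso_of_isHomLift_id 𝒴.p hf𝒴 (U := 𝒴.p.obj z) d.ι

/-- the value of the natural isomorphism on image data -/
noncomputable def ImgData.val {z : 𝒴.obj} (d : ImgData (φ := φ) (x := x) z) :
    φ.obj (ψ.obj z) ⟶ z :=
  have := d.isIso hf𝒴
  φ.map (ψ.map d.ι) ≫ φ.map (gam hf𝒳 φ ψ x g hg d.y₀ d.hy₀) ≫ CategoryTheory.inv d.ι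

lemma ImgData.val_comp {z : 𝒴.obj} (d : ImgData (φ := φ) (x := x) z) :
    d.val hf𝒳 hf𝒴 ψ g hg ≫ d.ι = φ.map (ψ.map d.ι) ≫ φ.map (gam hf𝒳 φ ψ x g hg d.y₀ d.hy₀) := by
  have := d.isIso hf𝒴
  unfold ImgData.val
  simp

lemma ImgData.base_eq {z : 𝒴.obj} (d : ImgData (φ := φ) (x := x) z) :
    𝒳.p.obj d.y₀ = 𝒴.p.obj z := by
  have := d.hι
  exact (φ.w_obj d.y₀).symm.trans (IsHomLift.codomain_eq 𝒴.p (𝟙 (𝒴.p.obj z)) d.ι)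

lemma ImgData.val_lift {z : 𝒴.obj} (d : ImgData (φ := φ) (x := x) z) :
    𝒴.p.IsHomLift (𝟙 (𝒴.p.obj z)) (d.val hf𝒳 hf𝒴 ψ g hg) := by
  have := d.isIso hf𝒴
  have h1 := d.hι
  have h2 : 𝒳.p.IsHomLift (𝟙 (𝒴.p.obj z)) (ψ.map d.ι) := ψ.preserves_isHomLift _ d.ι
  have h3 : 𝒴.p.IsHomLift (𝟙 (𝒴.p.obj z)) (φ.map (ψ.map d.ι)) := φ.preserves_isHomLift _ _
  have h4 : 𝒳.p.IsHomLift (𝟙 (𝒴.p.obj z)) (gam hf𝒳 φ ψ x g hg d.y₀ d.hy₀) :=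
    isHomLift_id_of_eq _ (gam_lift hf𝒳 φ ψ x g hg d.y₀ d.hy₀) d.base_eq
  have h5 : 𝒴.p.IsHomLift (𝟙 (𝒴.p.obj z)) (φ.map (gam hf𝒳 φ ψ x g hg d.y₀ d.hy₀)) :=
    φ.preserves_isHomLift _ _
  have h6 : 𝒴.p.IsHomLift (𝟙 (𝒴.p.obj z)) (CategoryTheory.inv d.ι) := by
    have := IsHomLift.inv 𝒴.p (𝟙 (𝒴.p.obj z)) d.ι
    rwa [IsIso.inv_id] at this
  unfold ImgData.val
  infer_instance

include hT hφ hconj in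
lemma ImgData.val_nat {z' z : 𝒴.obj} (w : z' ⟶ z) (d : ImgData (φ := φ) (x := x) z)
    (d' : ImgData (φ := φ) (x := x) z') :
    φ.map (ψ.map w) ≫ d.val hf𝒳 hf𝒴 ψ g hg = d'.val hf𝒳 hf𝒴 ψ g hg ≫ w := by
  have i1 := d.isIso hf𝒴
  have i2 := d'.isIso hf𝒴
  obtain ⟨c⟩ := d.hy₀
  obtain ⟨c'⟩ := d'.hy₀
  obtain ⟨b, hb⟩ := full_on_pullbacks hf𝒳 hf𝒴 φ x hT hφ c' c (CategoryTheory.inv d'.ι ≫ w ≫ d.ι)
  have hstar : d'.ι ≫ φ.map b = w ≫ d.ι := by rw [hb]; simp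
  rw [← cancel_mono d.ι, Category.assoc, Category.assoc, d.val_comp hf𝒳 hf𝒴 ψ g hg, ← hstar,
    ← Category.assoc (d'.val hf𝒳 hf𝒴 ψ g hg), d'.val_comp hf𝒳 hf𝒴 ψ g hg]
  have e1 : φ.map (ψ.map w) ≫ φ.map (ψ.map d.ι) = φ.map (ψ.map d'.ι) ≫ φ.map (ψ.map (φ.map b)) := by
    have : ψ.map w ≫ ψ.map d.ι = ψ.map d'.ι ≫ ψ.map (φ.map b) := by
      have a1 : ψ.map (w ≫ d.ι) = ψ.map w ≫ ψ.map d.ι := ψ.toFunctor.map_comp _ _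
      have a2 : ψ.map (d'.ι ≫ φ.map b) = ψ.map d'.ι ≫ ψ.map (φ.map b) := ψ.toFunctor.map_comp _ _
      rw [← a1, ← a2, hstar]
    have a3 : φ.map (ψ.map w ≫ ψ.map d.ι) = φ.map (ψ.map w) ≫ φ.map (ψ.map d.ι) :=
      φ.toFunctor.map_comp _ _
    have a4 : φ.map (ψ.map d'.ι ≫ ψ.map (φ.map b)) = φ.map (ψ.map d'.ι) ≫ φ.map (ψ.map (φ.map b)) :=
      φ.toFunctor.map_comp _ _
    rw [← a3, ← a4, this]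
  have e2 := gam_nat hf𝒳 φ ψ x hT g hg hconj b d.hy₀ d'.hy₀
  have e3 : φ.map (ψ.map (φ.map b)) ≫ φ.map (gam hf𝒳 φ ψ x g hg d.y₀ d.hy₀) =
      φ.map (gam hf𝒳 φ ψ x g hg d'.y₀ d'.hy₀) ≫ φ.map b := by
    have a5 := φ.toFunctor.map_comp (ψ.map (φ.map b)) (gam hf𝒳 φ ψ x g hg d.y₀ d.hy₀)
    have a6 := φ.toFunctor.map_comp (gam hf𝒳 φ ψ x g hg d'.y₀ d'.hy₀) b
    exact a5.symm.trans ((congrArg (fun t => φ.map t) e2).trans a6)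
  rw [← Category.assoc, e1, Category.assoc, e3]
  simp only [Category.assoc]

end S17913b

section S17913c

variable {J} {𝒴 : BasedCategory.{v₃, u₃} C}

lemma imgData_of_hom (hf𝒳 : FibCat.IsFibGrpd 𝒳.p) (hf𝒴 : FibCat.IsFibGrpd 𝒴.p) (φ : 𝒳 ⥤ᵇ 𝒴)
    (x : 𝒳.obj) ⦃z' z : 𝒴.obj⦄ (w : z' ⟶ z) (hz : Nonempty (ImgData (φ := φ) (x := x) z)) :
    Nonempty (ImgData (φ := φ) (x := x) z') := by
  obtain ⟨d⟩ := hz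
  obtain ⟨c⟩ := d.hy₀
  obtain ⟨y₀', θ, hθ⟩ := exists_lift' hf𝒳 (𝒴.p.map w) d.y₀ d.base_eq
  have hφθ : 𝒴.p.IsHomLift (𝒴.p.map w) (φ.map θ) := φ.preserves_isHomLift _ θ
  have hι := d.hι
  have h1 : 𝒴.p.IsHomLift (𝟙 _ ≫ 𝒴.p.map w) (w ≫ d.ι) := by
    rw [Category.id_comp]; infer_instance
  obtain ⟨ι', hι', -⟩ := cart_fac hf𝒴 (𝒴.p.map w) (𝟙 _) (φ.map θ) hφθ (w ≫ d.ι) h1
  exact ⟨⟨y₀', ⟨θ ≫ c⟩, ι', hι'⟩⟩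

theorem exists_fibre_iso (h𝒳 : Gerb.IsGerbe J 𝒳) (h𝒴 : Gerb.IsGerbe J 𝒴)
    (φ : 𝒳 ⥤ᵇ 𝒴) (ψ : 𝒴 ⥤ᵇ 𝒳) (x : 𝒳.obj) (hT : IsTerminal (𝒳.p.obj x))
    (hφ : ∀ (x' : 𝒳.obj) (_ : x' ⟶ x), Function.Surjective (Gerb.autMap φ x'))
    (g : ψ.obj (φ.obj x) ⟶ x) (hg : 𝒳.p.IsHomLift (𝟙 (𝒳.p.obj x)) g)
    (hconj : ∀ (x' : 𝒳.obj) (c : x' ⟶ x) (g' : ψ.obj (φ.obj x') ⟶ x'),
      𝒳.p.IsHomLift (𝟙 (𝒳.p.obj x')) g' → ψ.map (φ.map c) ≫ g = g' ≫ c →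
      ∀ α : Gerb.AutO x', ψ.map (φ.map α.hom.1) ≫ g' = g' ≫ α.hom.1) :
    ∃ σ : ∀ z : 𝒴.obj, φ.obj (ψ.obj z) ⟶ z,
      (∀ z, 𝒴.p.IsHomLift (𝟙 (𝒴.p.obj z)) (σ z)) ∧
      (∀ (z z' : 𝒴.obj) (f : z ⟶ z'), φ.map (ψ.map f) ≫ σ z' = σ z ≫ f) := by
  have hf𝒳 := h𝒳.1.1
  have hf𝒴 := h𝒴.1.1
  have hP1 : ∀ ⦃z' z : 𝒴.obj⦄ (_ : z' ⟶ z), Nonempty (ImgData (φ := φ) (x := x) z) →
      Nonempty (ImgData (φ := φ) (x := x) z') := imgData_of_hom hf𝒳 hf𝒴 φ x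
  have hP2 : ∀ z : 𝒴.obj,
      locSieve (fun z => Nonempty (ImgData (φ := φ) (x := x) z)) hf𝒴 hP1 z ∈ J (𝒴.p.obj z) := by
    intro z
    obtain ⟨xU, κ, hκ⟩ := exists_lift' hf𝒳 (hT.from (𝒴.p.obj z)) x rfl
    have hxU : 𝒳.p.obj xU = 𝒴.p.obj z := IsHomLift.domain_eq 𝒳.p (hT.from (𝒴.p.obj z)) κ
    obtain ⟨R, hR, h1⟩ := exists_local_iso J h𝒴.2.2 z (φ.obj xU) rfl ((φ.w_obj xU).trans hxU)
    refine J.superset_covering ?_ hR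
    intro V f hf
    obtain ⟨z₀, a, b, ha, -⟩ := h1 f hf
    have hid : 𝒴.p.IsHomLift (𝟙 (𝒴.p.obj (φ.obj xU))) (𝟙 (φ.obj xU)) := inferInstance
    exact ⟨z₀, a, ha, hP1 b ⟨⟨xU, ⟨κ⟩, 𝟙 _, hid⟩⟩⟩
  obtain ⟨σ, h1, h2, -⟩ := exists_extension (Φ := BasedFunctor.comp ψ φ) J
    (fun z hz => (Classical.choice hz).val hf𝒳 hf𝒴 ψ g hg)
    (fun z hz => (Classical.choice hz).val_lift hf𝒳 hf𝒴 ψ g hg)
    (fun z' z w hz hz' => ImgData.val_nat hf𝒳 hf𝒴 ψ hT hφ g hg hconj w _ _) hP1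
    ⟨hf𝒴, fun _ R hR => isPrestackFor_of_isStackFor (h𝒴.1.2 R hR)⟩ hP2
  exact ⟨σ, h1, h2⟩

end S17913c

end Groth.Agent.H3.GerbIso
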