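import Mathlib
import Groth.Prelude.Def_StGerb2
import Groth.Agent.Lib.Helper3.GerbIso

set_option autoImplicit false
universe v₂ u₂ v u
open CategoryTheory CategoryTheory.Functor CategoryTheory.Limits Opposite

namespace Groth.Agent.H3.GerbBand
open Groth.Agent.H3.FibCatAux Groth.Agent.H3.StackDescent Groth.Agent.H3.StackGlue
  Groth.Agent.H3.GerbAux Groth.Agent.H3.GerbOver Groth.Agent.H3.GerbIso

variable {C : Type u} [Category.{v} C] (J : GrothendieckTopology C)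
  {𝒮 : BasedCategory.{v₂, u₂} C}

section AutGlue

variable (hf : FibCat.IsFibGrpd 𝒮.p) (y : 𝒮.obj) (Q : ∀ z : 𝒮.obj, (z ⟶ y) → Prop)
  (hQ : ∀ ⦃z' z : 𝒮.obj⦄ (w : z' ⟶ z) (c : z ⟶ y), Q z c → Q z' (w ≫ c))

/-- the sieve of arrows having a lift satisfying `Q` -/
def qSieve : Sieve (𝒮.p.obj y) where
  arrows W h := ∃ (z : 𝒮.obj) (c : z ⟶ y), 𝒮.p.IsHomLift h c ∧ Q z c
  downward_closed := by
    rintro V W h ⟨z, c, hc, hq⟩ g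
    have hV : 𝒮.p.obj z = V := IsHomLift.domain_eq 𝒮.p h c
    obtain ⟨z', w, hw⟩ := exists_lift' hf g z hV
    exact ⟨z', w ≫ c, inferInstance, hQ w c hq⟩

include hf hQ in
lemma q_of_mem {W : C} (h : W ⟶ 𝒮.p.obj y) (hh : qSieve hf y Q hQ h) (z : 𝒮.obj) (c : z ⟶ y)
    (hc : 𝒮.p.IsHomLift h c) : Q z c := by
  obtain ⟨z₀, c₀, hc₀, hq⟩ := hh
  have hc1 : 𝒮.p.IsHomLift (𝟙 W ≫ h) c := by rw [Category.id_comp]; exact hc
  obtain ⟨k, -, hk⟩ := cart_fac hf h (𝟙 W) c₀ hc₀ c hc1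
  rw [← hk]; exact hQ k c₀ hq

include hf hQ in
/-- morphisms out of `y` are determined on the lifts satisfying `Q` -/
theorem hom_ext_q (hpre : Stk.IsPrestackFor (qSieve hf y Q hQ) 𝒮) {U' : C}
    (u : 𝒮.p.obj y ⟶ U') {y' : 𝒮.obj} (β β' : y ⟶ y') (hβ : 𝒮.p.IsHomLift u β)
    (hβ' : 𝒮.p.IsHomLift u β') (h : ∀ (z : 𝒮.obj) (c : z ⟶ y), Q z c → c ≫ β = c ≫ β') :
    β = β' := by
  apply hom_ext_of_faithful hf hpre.2 u
  intro W g hg z c hc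
  exact h z c (q_of_mem hf y Q hQ g hg z c hc)

variable (τ : ∀ (z : 𝒮.obj) (c : z ⟶ y), Q z c → (z ⟶ z))
  (hτ : ∀ z c hc, 𝒮.p.IsHomLift (𝟙 (𝒮.p.obj z)) (τ z c hc))
  (hnat : ∀ ⦃z' z : 𝒮.obj⦄ (w : z' ⟶ z) (c : z ⟶ y) (hc : Q z c),
    τ z' (w ≫ c) (hQ w c hc) ≫ w = w ≫ τ z c hc)

include hτ hnat in
theorem exists_unique_aut (hpre : Stk.IsPrestackFor (qSieve hf y Q hQ) 𝒮) :
    ∃! α : y ⟶ y, 𝒮.p.IsHomLift (𝟙 (𝒮.p.obj y)) α ∧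
      ∀ (z : 𝒮.obj) (c : z ⟶ y) (hc : Q z c), τ z c hc ≫ c = c ≫ α := by
  let M : HomFamily (qSieve hf y Q hQ) y y :=
    { m := fun W h hh z c hc => τ z c (q_of_mem hf y Q hQ h hh z c hc) ≫ c
      lift := by
        intro W h hh z c hc
        have hW : 𝒮.p.obj z = W := IsHomLift.domain_eq 𝒮.p h c
        have := isHomLift_id_of_eq _ (hτ z c (q_of_mem hf y Q hQ h hh z c hc)) hW
        infer_instance
      comp := by
        intro W h hh z c hc W' g z' w hw hwc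
        have := hnat w c (q_of_mem hf y Q hQ h hh z c hc)
        change τ z' (w ≫ c) _ ≫ w ≫ c = w ≫ τ z c _ ≫ c
        rw [← Category.assoc, this, Category.assoc] }
  obtain ⟨α, ⟨hα, hα'⟩, huniq⟩ := exists_unique_glue hf hpre rfl rfl M
  refine ⟨α, ⟨hα, ?_⟩, ?_⟩
  · intro z c hc
    have hmem : qSieve hf y Q hQ (𝒮.p.map c) := ⟨z, c, inferInstance, hc⟩
    exact (hα' (𝒮.p.map c) hmem z c inferInstance).symm
  · rintro β ⟨hβ, hβ'⟩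
    apply huniq
    refine ⟨hβ, ?_⟩
    intro W h hh z c hc
    exact (hβ' z c (q_of_mem hf y Q hQ h hh z c hc)).symm

end AutGlue

section Center

variable (𝒮)

/-- the condition for a family of automorphisms to be central (natural in all morphisms) -/
def IsCentral (U : C) (α : ∀ x : 𝒮.obj, (𝒮.p.obj x ⟶ U) → Gerb.AutO x) : Prop :=
  ∀ ⦃x' x : 𝒮.obj⦄ (φ : x' ⟶ x) (f : 𝒮.p.obj x ⟶ U),
    (α x' (𝒮.p.map φ ≫ f)).hom.1 ≫ φ = φ ≫ (α x f).hom.1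

lemma autO_mul_hom {x : 𝒮.obj} (a b : Gerb.AutO x) : (a * b).hom.1 = b.hom.1 ≫ a.hom.1 := rfl

lemma autO_one_hom {x : 𝒮.obj} : (1 : Gerb.AutO x).hom.1 = 𝟙 x := rfl

lemma autO_inv_hom {x : 𝒮.obj} (a : Gerb.AutO x) : (a⁻¹).hom.1 = a.inv.1 := rfl

lemma autO_hom_inv {x : 𝒮.obj} (a : Gerb.AutO x) : a.hom.1 ≫ a.inv.1 = 𝟙 x :=
  congrArg Subtype.val a.hom_inv_id

lemma autO_inv_hom_id {x : 𝒮.obj} (a : Gerb.AutO x) : a.inv.1 ≫ a.hom.1 = 𝟙 x :=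
  congrArg Subtype.val a.inv_hom_id

lemma autO_ext {x : 𝒮.obj} (a b : Gerb.AutO x) (h : a.hom.1 = b.hom.1) : a = b := by
  apply Aut.ext; apply Functor.Fiber.hom_ext; exact h

/-- the group of central families over `U` -/
def cen (U : C) : Subgroup (∀ x : 𝒮.obj, (𝒮.p.obj x ⟶ U) → Gerb.AutO x) where
  carrier := {α | IsCentral 𝒮 U α}
  mul_mem' := by
    intro α β hα hβ x' x φ f
    change ((α x' _ * β x' _).hom.1) ≫ φ = φ ≫ (α x f * β x f).hom.1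
    rw [autO_mul_hom, autO_mul_hom, Category.assoc, hα φ f, ← Category.assoc, hβ φ f,
      Category.assoc]
  one_mem' := by
    intro x' x φ f
    change (1 : Gerb.AutO x').hom.1 ≫ φ = φ ≫ (1 : Gerb.AutO x).hom.1
    rw [autO_one_hom, autO_one_hom, Category.id_comp, Category.comp_id]
  inv_mem' := by
    intro α hα x' x φ f
    change ((α x' _)⁻¹).hom.1 ≫ φ = φ ≫ ((α x f)⁻¹).hom.1
    rw [autO_inv_hom, autO_inv_hom]
    have h1 := hα φ f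
    calc (α x' (𝒮.p.map φ ≫ f)).inv.1 ≫ φ
        = (α x' (𝒮.p.map φ ≫ f)).inv.1 ≫ φ ≫ ((α x f).hom.1 ≫ (α x f).inv.1) := by
          rw [autO_hom_inv, Category.comp_id]
      _ = (α x' (𝒮.p.map φ ≫ f)).inv.1 ≫ ((α x' (𝒮.p.map φ ≫ f)).hom.1 ≫ φ) ≫ (α x f).inv.1 := by
          rw [h1]; simp only [Category.assoc]
      _ = φ ≫ (α x f).inv.1 := by
          rw [← Category.assoc, ← Category.assoc, autO_inv_hom_id, Category.id_comp]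

lemma mem_cen {U : C} (α : ∀ x : 𝒮.obj, (𝒮.p.obj x ⟶ U) → Gerb.AutO x) :
    α ∈ cen 𝒮 U ↔ IsCentral 𝒮 U α := Iff.rfl

/-- restriction of central families -/
def cenRes {U U' : C} (g : U' ⟶ U) : cen 𝒮 U →* cen 𝒮 U' where
  toFun α := ⟨fun x f => α.1 x (f ≫ g), by
    intro x' x φ f
    have := α.2 φ (f ≫ g)
    rw [← Category.assoc] at this
    exact this⟩
  map_one' := rfl
  map_mul' _ _ := rfl

@[simp] lemma cenRes_apply {U U' : C} (g : U' ⟶ U) (α : cen 𝒮 U) (x : 𝒮.obj)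
    (f : 𝒮.p.obj x ⟶ U') : ((cenRes 𝒮 g α).1 x f) = α.1 x (f ≫ g) := rfl

end Center

section Psh

variable (𝒮' : BasedCategory.{v, max u v} C)

/-- the presheaf of central families -/
def cenPsh : Cᵒᵖ ⥤ GrpCat.{max u v} where
  obj U := GrpCat.of (cen 𝒮' U.unop)
  map g := GrpCat.ofHom (cenRes 𝒮' g.unop)
  map_id U := by
    apply GrpCat.hom_ext
    apply MonoidHom.ext
    intro α
    apply Subtype.ext
    funext x f
    change α.1 x (f ≫ 𝟙 _) = α.1 x f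
    rw [Category.comp_id]
  map_comp g h := by
    apply GrpCat.hom_ext
    apply MonoidHom.ext
    intro α
    apply Subtype.ext
    funext x f
    change α.1 x (f ≫ (h.unop ≫ g.unop)) = α.1 x ((f ≫ h.unop) ≫ g.unop)
    rw [Category.assoc]

lemma cenPsh_map_apply {U U' : C} (g : U' ⟶ U) (α : cen 𝒮' U) (x : 𝒮'.obj)
    (f : 𝒮'.p.obj x ⟶ U') :
    (((cenPsh 𝒮').map g.op).hom α : cen 𝒮' U').1 x f = α.1 x (f ≫ g) := rfl

end Psh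

section Sheaf

variable {J} (h𝒮 : Stk.IsPrestack J 𝒮) {U : C} (R : Sieve U) (hR : R ∈ J U)
  (fam : ∀ ⦃V : C⦄ (h : V ⟶ U), R h → cen 𝒮 V)
  (hfam : ∀ ⦃V W : C⦄ (h : V ⟶ U) (g : W ⟶ V) (hh : R h),
    fam (g ≫ h) (R.downward_closed hh g) = cenRes 𝒮 g (fam h hh))

omit hfam in
lemma fam_congr {V : C} {h h' : V ⟶ U} (e : h = h') (hh : R h) (hh' : R h') :
    fam h hh = fam h' hh' := by subst e; rfl

/-- the predicate on lifts: the base arrow lies in `R` -/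
def QR (y : 𝒮.obj) (f : 𝒮.p.obj y ⟶ U) : ∀ z : 𝒮.obj, (z ⟶ y) → Prop :=
  fun _ c => R (𝒮.p.map c ≫ f)

lemma QR_comp (y : 𝒮.obj) (f : 𝒮.p.obj y ⟶ U) ⦃z' z : 𝒮.obj⦄ (w : z' ⟶ z) (c : z ⟶ y)
    (hc : QR R y f z c) : QR R y f z' (w ≫ c) := by
  change R (𝒮.p.map (w ≫ c) ≫ f)
  rw [Functor.map_comp, Category.assoc]
  exact R.downward_closed hc _

include hR in
lemma qSieve_QR_mem (y : 𝒮.obj) (f : 𝒮.p.obj y ⟶ U) :
    qSieve h𝒮.1 y (QR R y f) (QR_comp R y f) ∈ J (𝒮.p.obj y) := by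
  refine J.superset_covering ?_ (J.pullback_stable f hR)
  intro W h hh
  obtain ⟨z, c, hc⟩ := exists_lift' h𝒮.1 h y rfl
  have hW : 𝒮.p.obj z = W := IsHomLift.domain_eq 𝒮.p h c
  subst hW
  have e : 𝒮.p.map c = h := by
    have := IsHomLift.fac 𝒮.p h c
    simpa using this.symm
  refine ⟨z, c, hc, ?_⟩
  change R (𝒮.p.map c ≫ f)
  rw [e]; exact hh

/-- the local automorphisms given by the family -/
def tauR (y : 𝒮.obj) (f : 𝒮.p.obj y ⟶ U) (z : 𝒮.obj) (c : z ⟶ y) (hc : QR R y f z c) : z ⟶ z :=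
  ((fam (𝒮.p.map c ≫ f) hc).1 z (𝟙 _)).hom.1

lemma tauR_lift (y : 𝒮.obj) (f : 𝒮.p.obj y ⟶ U) (z : 𝒮.obj) (c : z ⟶ y) (hc : QR R y f z c) :
    𝒮.p.IsHomLift (𝟙 (𝒮.p.obj z)) (tauR R fam y f z c hc) :=
  ((fam (𝒮.p.map c ≫ f) hc).1 z (𝟙 _)).hom.2

include hfam in
lemma tauR_nat (y : 𝒮.obj) (f : 𝒮.p.obj y ⟶ U) ⦃z' z : 𝒮.obj⦄ (w : z' ⟶ z) (c : z ⟶ y)
    (hc : QR R y f z c) :
    tauR R fam y f z' (w ≫ c) (QR_comp R y f w c hc) ≫ w = w ≫ tauR R fam y f z c hc := by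
  unfold tauR
  have e1 : 𝒮.p.map (w ≫ c) ≫ f = 𝒮.p.map w ≫ (𝒮.p.map c ≫ f) := by
    rw [Functor.map_comp, Category.assoc]
  have e2 := fam_congr R fam e1 (QR_comp R y f w c hc) (R.downward_closed hc _)
  rw [e2, hfam (𝒮.p.map c ≫ f) (𝒮.p.map w) hc, cenRes_apply]
  have e3 := (fam (𝒮.p.map c ≫ f) hc).2 w (𝟙 _)
  rw [Category.id_comp, ← Category.comp_id (𝒮.p.map w)]
  exact e3

include h𝒮 hR hfam in
lemma exists_glued (y : 𝒮.obj) (f : 𝒮.p.obj y ⟶ U) :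
    ∃! α : y ⟶ y, 𝒮.p.IsHomLift (𝟙 (𝒮.p.obj y)) α ∧
      ∀ (z : 𝒮.obj) (c : z ⟶ y) (hc : QR R y f z c), tauR R fam y f z c hc ≫ c = c ≫ α :=
  exists_unique_aut h𝒮.1 y (QR R y f) (QR_comp R y f) (tauR R fam y f) (tauR_lift R fam y f)
    (tauR_nat R fam hfam y f) (h𝒮.2 _ (qSieve_QR_mem h𝒮 R hR y f))

/-- the values of the amalgamation -/
noncomputable def amalgVal (y : 𝒮.obj) (f : 𝒮.p.obj y ⟶ U) : Gerb.AutO y :=
  autOfHom h𝒮.1 y (exists_glued h𝒮 R hR fam hfam y f).choose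
    (exists_glued h𝒮 R hR fam hfam y f).choose_spec.1.1

lemma amalgVal_spec (y : 𝒮.obj) (f : 𝒮.p.obj y ⟶ U) (z : 𝒮.obj) (c : z ⟶ y)
    (hc : QR R y f z c) :
    tauR R fam y f z c hc ≫ c = c ≫ (amalgVal h𝒮 R hR fam hfam y f).hom.1 :=
  (exists_glued h𝒮 R hR fam hfam y f).choose_spec.1.2 z c hc

lemma amalgVal_unique (y : 𝒮.obj) (f : 𝒮.p.obj y ⟶ U) (β : Gerb.AutO y)
    (hβ : ∀ (z : 𝒮.obj) (c : z ⟶ y) (hc : QR R y f z c),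
      tauR R fam y f z c hc ≫ c = c ≫ β.hom.1) : β = amalgVal h𝒮 R hR fam hfam y f := by
  apply autO_ext
  exact (exists_glued h𝒮 R hR fam hfam y f).choose_spec.2 β.hom.1 ⟨β.hom.2, hβ⟩

lemma amalgVal_central : IsCentral 𝒮 U (amalgVal h𝒮 R hR fam hfam) := by
  intro y' y φ f
  have l1 : 𝒮.p.IsHomLift (𝟙 (𝒮.p.obj y')) (amalgVal h𝒮 R hR fam hfam y' (𝒮.p.map φ ≫ f)).hom.1 :=
    (amalgVal h𝒮 R hR fam hfam y' (𝒮.p.map φ ≫ f)).hom.2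
  have l2 : 𝒮.p.IsHomLift (𝟙 (𝒮.p.obj y)) (amalgVal h𝒮 R hR fam hfam y f).hom.1 :=
    (amalgVal h𝒮 R hR fam hfam y f).hom.2
  refine hom_ext_q h𝒮.1 y' (QR R y' (𝒮.p.map φ ≫ f)) (QR_comp R y' _)
    (h𝒮.2 _ (qSieve_QR_mem h𝒮 R hR y' _)) (𝒮.p.map φ) _ _ inferInstance inferInstance ?_
  intro z c' hc'
  have hc'' : QR R y f z (c' ≫ φ) := by
    change R (𝒮.p.map (c' ≫ φ) ≫ f)
    rw [Functor.map_comp, Category.assoc]; exact hc'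
  have e1 := amalgVal_spec h𝒮 R hR fam hfam y' (𝒮.p.map φ ≫ f) z c' hc'
  have e2 := amalgVal_spec h𝒮 R hR fam hfam y f z (c' ≫ φ) hc''
  have e3 : tauR R fam y f z (c' ≫ φ) hc'' = tauR R fam y' (𝒮.p.map φ ≫ f) z c' hc' := by
    unfold tauR
    rw [fam_congr R fam (by rw [Functor.map_comp, Category.assoc]) hc'' hc']
  rw [← Category.assoc, ← e1, ← Category.assoc c', ← e2, e3, Category.assoc]

/-- the amalgamation -/
noncomputable def amalg : cen 𝒮 U := ⟨amalgVal h𝒮 R hR fam hfam, amalgVal_central h𝒮 R hR fam hfam⟩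

lemma amalg_res ⦃V : C⦄ (h : V ⟶ U) (hh : R h) :
    cenRes 𝒮 h (amalg h𝒮 R hR fam hfam) = fam h hh := by
  apply Subtype.ext
  funext y' f'
  symm
  refine amalgVal_unique h𝒮 R hR fam hfam y' (f' ≫ h) _ ?_
  intro z c hc
  unfold tauR
  have e1 : 𝒮.p.map c ≫ f' ≫ h = (𝒮.p.map c ≫ f') ≫ h := (Category.assoc _ _ _).symm
  rw [fam_congr R fam e1 hc (R.downward_closed hh _), hfam h (𝒮.p.map c ≫ f') hh, cenRes_apply,
    Category.id_comp]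
  exact (fam h hh).2 c f'

lemma amalg_unique (β : cen 𝒮 U) (hβ : ∀ ⦃V : C⦄ (h : V ⟶ U) (hh : R h), cenRes 𝒮 h β = fam h hh) :
    β = amalg h𝒮 R hR fam hfam := by
  apply Subtype.ext
  funext y f
  refine amalgVal_unique h𝒮 R hR fam hfam y f _ ?_
  intro z c hc
  unfold tauR
  rw [← hβ (𝒮.p.map c ≫ f) hc, cenRes_apply, Category.id_comp]
  exact β.2 c f

end Sheaf

section SheafThm

variable {J}

theorem isSheaf_cenPsh (𝒮' : BasedCategory.{v, max u v} C) (h𝒮 : Stk.IsPrestack J 𝒮') :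
    Presheaf.IsSheaf J (cenPsh 𝒮') := by
  rw [Presheaf.isSheaf_iff_isSheaf_forget J (cenPsh 𝒮') (forget GrpCat),
    isSheaf_iff_isSheaf_of_type]
  intro U R hR x hx
  rw [Presieve.compatible_iff_sieveCompatible] at hx
  let fam : ∀ ⦃V : C⦄ (h : V ⟶ U), R h → cen 𝒮' V := fun V h hh => x h hh
  have hfam : ∀ ⦃V W : C⦄ (h : V ⟶ U) (g : W ⟶ V) (hh : R h),
      fam (g ≫ h) (R.downward_closed hh g) = cenRes 𝒮' g (fam h hh) := fun V W h g hh => hx h g hh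
  refine ⟨amalg h𝒮 R hR fam hfam, ?_, ?_⟩
  · intro V h hh
    exact amalg_res h𝒮 R hR fam hfam h hh
  · intro β hβ
    exact amalg_unique h𝒮 R hR fam hfam β (fun V h hh => hβ h hh)

end SheafThm

section Pb

variable (hf : FibCat.IsFibGrpd 𝒮.p) {z x : 𝒮.obj} (b : z ⟶ x) (a : x ⟶ x)
  (ha : 𝒮.p.IsHomLift (𝟙 (𝒮.p.obj x)) a)

include hf ha in
lemma exists_pb : ∃ t : z ⟶ z, 𝒮.p.IsHomLift (𝟙 (𝒮.p.obj z)) t ∧ t ≫ b = b ≫ a := by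
  have h1 : 𝒮.p.IsHomLift (𝟙 _ ≫ 𝒮.p.map b) (b ≫ a) := by
    rw [Category.id_comp]; infer_instance
  exact cart_fac hf (𝒮.p.map b) (𝟙 _) b inferInstance (b ≫ a) h1

/-- pullback of an automorphism along a morphism -/
noncomputable def pb : z ⟶ z := (exists_pb hf b a ha).choose

lemma pb_lift : 𝒮.p.IsHomLift (𝟙 (𝒮.p.obj z)) (pb hf b a ha) := (exists_pb hf b a ha).choose_spec.1

lemma pb_spec : pb hf b a ha ≫ b = b ≫ a := (exists_pb hf b a ha).choose_spec.2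

lemma pb_unique (t : z ⟶ z) (ht : 𝒮.p.IsHomLift (𝟙 (𝒮.p.obj z)) t) (h : t ≫ b = b ≫ a) :
    t = pb hf b a ha := by
  refine cart_cancel hf (𝒮.p.map b) (𝟙 _) b inferInstance _ _ ht (pb_lift hf b a ha) ?_
  rw [h, pb_spec]

lemma pb_indep (hcomm : ∀ (α β : Gerb.AutO z), α * β = β * α) (b' : z ⟶ x)
    (hbb' : 𝒮.p.map b' = 𝒮.p.map b) : pb hf b' a ha = pb hf b a ha := by
  symm
  apply pb_unique
  · exact pb_lift hf b a ha
  · have h1 : 𝒮.p.IsHomLift (𝟙 _ ≫ 𝒮.p.map b) b' := by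
      rw [Category.id_comp, ← hbb']; infer_instance
    obtain ⟨τ, hτ, hτ'⟩ := cart_fac hf (𝒮.p.map b) (𝟙 _) b inferInstance b' h1
    have h2 := hcomm (autOfHom hf z τ hτ) (autOfHom hf z _ (pb_lift hf b a ha))
    have h3 : pb hf b a ha ≫ τ = τ ≫ pb hf b a ha := congrArg (fun t : Gerb.AutO z => t.hom.1) h2
    rw [← hτ', ← Category.assoc, h3, Category.assoc, pb_spec, Category.assoc]

lemma pb_nat {z' : 𝒮.obj} (w : z' ⟶ z) : pb hf (w ≫ b) a ha ≫ w = w ≫ pb hf b a ha := by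
  have l1 := pb_lift hf (w ≫ b) a ha
  have l2 := pb_lift hf b a ha
  refine cart_cancel hf (𝒮.p.map b) (𝒮.p.map w) b inferInstance _ _ inferInstance inferInstance ?_
  rw [Category.assoc, pb_spec, Category.assoc, Category.assoc, pb_spec]

end Pb

section Band

variable {J} (h𝒮 : Gerb.IsGerbe J 𝒮)
  (hcomm : ∀ (x : 𝒮.obj) (α β : Gerb.AutO x), α * β = β * α) (x : 𝒮.obj)

/-- lifts having a compatible morphism to `x` -/
def QB (y : 𝒮.obj) (f : 𝒮.p.obj y ⟶ 𝒮.p.obj x) : ∀ z : 𝒮.obj, (z ⟶ y) → Prop :=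
  fun z c => ∃ b : z ⟶ x, 𝒮.p.map b = 𝒮.p.map c ≫ f

lemma QB_comp (y : 𝒮.obj) (f : 𝒮.p.obj y ⟶ 𝒮.p.obj x) ⦃z' z : 𝒮.obj⦄ (w : z' ⟶ z) (c : z ⟶ y)
    (hc : QB x y f z c) : QB x y f z' (w ≫ c) := by
  obtain ⟨b, hb⟩ := hc
  exact ⟨w ≫ b, by rw [Functor.map_comp, Functor.map_comp, hb, Category.assoc]⟩

include h𝒮 in
lemma qSieve_QB_mem (y : 𝒮.obj) (f : 𝒮.p.obj y ⟶ 𝒮.p.obj x) :
    qSieve h𝒮.1.1 y (QB x y f) (QB_comp x y f) ∈ J (𝒮.p.obj y) := by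
  obtain ⟨xf, κ, hκ⟩ := exists_lift' h𝒮.1.1 f x rfl
  have hxf : 𝒮.p.obj xf = 𝒮.p.obj y := IsHomLift.domain_eq 𝒮.p f κ
  obtain ⟨R₁, hR₁, h1⟩ := exists_local_iso J h𝒮.2.2 y xf rfl hxf
  refine J.superset_covering ?_ hR₁
  intro W h hh
  obtain ⟨z₀, c₀, b₀, hc₀, hb₀⟩ := h1 h hh
  have hW : 𝒮.p.obj z₀ = W := IsHomLift.domain_eq 𝒮.p h c₀
  subst hW
  refine ⟨z₀, c₀, hc₀, b₀ ≫ κ, ?_⟩
  have e1 : 𝒮.p.map c₀ = h := by
    have := IsHomLift.fac 𝒮.p h c₀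
    simpa using this.symm
  have hbκ : 𝒮.p.IsHomLift (h ≫ f) (b₀ ≫ κ) := inferInstance
  have e2 : 𝒮.p.map (b₀ ≫ κ) = h ≫ f := by
    have := IsHomLift.fac 𝒮.p (h ≫ f) (b₀ ≫ κ)
    simpa using this.symm
  rw [e2, e1]

variable (a : Gerb.AutO x)

/-- the local automorphisms: pullbacks of `a` -/
noncomputable def tauB (y : 𝒮.obj) (f : 𝒮.p.obj y ⟶ 𝒮.p.obj x) (z : 𝒮.obj) (c : z ⟶ y)
    (hc : QB x y f z c) : z ⟶ z :=
  pb h𝒮.1.1 hc.choose a.hom.1 a.hom.2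

include hcomm in
lemma tauB_eq (y : 𝒮.obj) (f : 𝒮.p.obj y ⟶ 𝒮.p.obj x) (z : 𝒮.obj) (c : z ⟶ y)
    (hc : QB x y f z c) (b : z ⟶ x) (hb : 𝒮.p.map b = 𝒮.p.map c ≫ f) :
    tauB h𝒮 x a y f z c hc = pb h𝒮.1.1 b a.hom.1 a.hom.2 :=
  pb_indep h𝒮.1.1 b a.hom.1 a.hom.2 (hcomm z) _ (hc.choose_spec.trans hb.symm)

include hcomm in
lemma exists_band_aut (y : 𝒮.obj) (f : 𝒮.p.obj y ⟶ 𝒮.p.obj x) :
    ∃! α : y ⟶ y, 𝒮.p.IsHomLift (𝟙 (𝒮.p.obj y)) α ∧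
      ∀ (z : 𝒮.obj) (c : z ⟶ y) (hc : QB x y f z c), tauB h𝒮 x a y f z c hc ≫ c = c ≫ α := by
  refine exists_unique_aut h𝒮.1.1 y (QB x y f) (QB_comp x y f) (tauB h𝒮 x a y f)
    (fun z c hc => pb_lift h𝒮.1.1 _ _ _) ?_
    (isPrestackFor_of_isStackFor (h𝒮.1.2 _ (qSieve_QB_mem h𝒮 x y f)))
  intro z' z w c hc
  obtain ⟨b, hb⟩ := id hc
  have hb' : 𝒮.p.map (w ≫ b) = 𝒮.p.map (w ≫ c) ≫ f := by
    rw [Functor.map_comp, Functor.map_comp, hb, Category.assoc]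
  rw [tauB_eq h𝒮 hcomm x a y f z c hc b hb, tauB_eq h𝒮 hcomm x a y f z' (w ≫ c) _ (w ≫ b) hb']
  exact pb_nat h𝒮.1.1 b a.hom.1 a.hom.2 w

/-- the central family attached to an automorphism of `x` -/
noncomputable def bandVal (y : 𝒮.obj) (f : 𝒮.p.obj y ⟶ 𝒮.p.obj x) : Gerb.AutO y :=
  autOfHom h𝒮.1.1 y (exists_band_aut h𝒮 hcomm x a y f).choose
    (exists_band_aut h𝒮 hcomm x a y f).choose_spec.1.1

lemma bandVal_spec (y : 𝒮.obj) (f : 𝒮.p.obj y ⟶ 𝒮.p.obj x) (z : 𝒮.obj) (c : z ⟶ y)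
    (hc : QB x y f z c) :
    tauB h𝒮 x a y f z c hc ≫ c = c ≫ (bandVal h𝒮 hcomm x a y f).hom.1 :=
  (exists_band_aut h𝒮 hcomm x a y f).choose_spec.1.2 z c hc

lemma bandVal_unique (y : 𝒮.obj) (f : 𝒮.p.obj y ⟶ 𝒮.p.obj x) (β : Gerb.AutO y)
    (hβ : ∀ (z : 𝒮.obj) (c : z ⟶ y) (hc : QB x y f z c),
      tauB h𝒮 x a y f z c hc ≫ c = c ≫ β.hom.1) : β = bandVal h𝒮 hcomm x a y f := by
  apply autO_ext
  exact (exists_band_aut h𝒮 hcomm x a y f).choose_spec.2 β.hom.1 ⟨β.hom.2, hβ⟩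

lemma bandVal_central : IsCentral 𝒮 (𝒮.p.obj x) (bandVal h𝒮 hcomm x a) := by
  intro y' y φ f
  have l1 : 𝒮.p.IsHomLift (𝟙 (𝒮.p.obj y')) (bandVal h𝒮 hcomm x a y' (𝒮.p.map φ ≫ f)).hom.1 :=
    (bandVal h𝒮 hcomm x a y' (𝒮.p.map φ ≫ f)).hom.2
  have l2 : 𝒮.p.IsHomLift (𝟙 (𝒮.p.obj y)) (bandVal h𝒮 hcomm x a y f).hom.1 :=
    (bandVal h𝒮 hcomm x a y f).hom.2
  refine hom_ext_q h𝒮.1.1 y' (QB x y' (𝒮.p.map φ ≫ f)) (QB_comp x y' _)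
    (isPrestackFor_of_isStackFor (h𝒮.1.2 _ (qSieve_QB_mem h𝒮 x y' _))) (𝒮.p.map φ) _ _
    inferInstance inferInstance ?_
  intro z c' hc'
  obtain ⟨b, hb⟩ := id hc'
  have hb'' : 𝒮.p.map b = 𝒮.p.map (c' ≫ φ) ≫ f := by
    rw [Functor.map_comp, Category.assoc]; exact hb
  have hc'' : QB x y f z (c' ≫ φ) := ⟨b, hb''⟩
  have e1 := bandVal_spec h𝒮 hcomm x a y' (𝒮.p.map φ ≫ f) z c' hc'
  have e2 := bandVal_spec h𝒮 hcomm x a y f z (c' ≫ φ) hc''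
  have e3 : tauB h𝒮 x a y f z (c' ≫ φ) hc'' = tauB h𝒮 x a y' (𝒮.p.map φ ≫ f) z c' hc' := by
    rw [tauB_eq h𝒮 hcomm x a y f z (c' ≫ φ) hc'' b hb'',
      tauB_eq h𝒮 hcomm x a y' _ z c' hc' b hb]
  rw [← Category.assoc, ← e1, ← Category.assoc c', ← e2, e3, Category.assoc]

/-- the central family of an automorphism, as an element of the group -/
noncomputable def band : cen 𝒮 (𝒮.p.obj x) :=
  ⟨bandVal h𝒮 hcomm x a, bandVal_central h𝒮 hcomm x a⟩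

lemma band_eval : (band h𝒮 hcomm x a).1 x (𝟙 _) = a := by
  have hq : QB x x (𝟙 _) x (𝟙 x) := ⟨𝟙 x, by simp⟩
  have e1 := bandVal_spec h𝒮 hcomm x a x (𝟙 _) x (𝟙 x) hq
  have e2 : tauB h𝒮 x a x (𝟙 _) x (𝟙 x) hq = a.hom.1 := by
    rw [tauB_eq h𝒮 hcomm x a x (𝟙 _) x (𝟙 x) hq (𝟙 x) (by simp)]
    symm
    apply pb_unique
    · exact a.hom.2
    · rw [Category.comp_id, Category.id_comp]
  rw [e2, Category.comp_id, Category.id_comp] at e1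
  apply autO_ext
  exact e1.symm

lemma band_of_eval (α : cen 𝒮 (𝒮.p.obj x)) : band h𝒮 hcomm x (α.1 x (𝟙 _)) = α := by
  symm
  apply Subtype.ext
  funext y f
  refine bandVal_unique h𝒮 hcomm x _ y f _ ?_
  intro z c hc
  obtain ⟨b, hb⟩ := id hc
  rw [tauB_eq h𝒮 hcomm x _ y f z c hc b hb]
  have e1 := α.2 c f
  have e2 := α.2 b (𝟙 _)
  have e3 : (α.1 z (𝒮.p.map c ≫ f)).hom.1 = pb h𝒮.1.1 b (α.1 x (𝟙 _)).hom.1 (α.1 x (𝟙 _)).hom.2 := by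
    apply pb_unique
    · exact (α.1 z (𝒮.p.map c ≫ f)).hom.2
    · rw [← hb, ← Category.comp_id (𝒮.p.map b)]
      exact e2
  rw [← e3]
  exact e1

end Band

section Final

variable {J} (𝒮' : BasedCategory.{v, max u v} C) (h𝒮 : Gerb.IsGerbe J 𝒮')
  (hcomm : ∀ (x : 𝒮'.obj) (α β : Gerb.AutO x), α * β = β * α)

/-- evaluation at `x` is an isomorphism from central families over the base of `x` -/
noncomputable def evIso (x : 𝒮'.obj) : cen 𝒮' (𝒮'.p.obj x) ≃* Gerb.AutO x where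
  toFun α := α.1 x (𝟙 _)
  invFun a := band h𝒮 hcomm x a
  left_inv α := band_of_eval h𝒮 hcomm x α
  right_inv a := band_eval h𝒮 hcomm x a
  map_mul' _ _ := rfl

/-- the banding by the sheaf of central families -/
noncomputable def banding : Gerb.Banding 𝒮' (cenPsh 𝒮') where
  iso x := evIso 𝒮' h𝒮 hcomm x
  natural {x' x} φ a := by
    have e1 := (a : cen 𝒮' (𝒮'.p.obj x)).2 φ (𝟙 _)
    change ((a : cen 𝒮' (𝒮'.p.obj x)).1 x' (𝟙 _ ≫ 𝒮'.p.map φ)).hom.1 ≫ φ =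
      φ ≫ ((a : cen 𝒮' (𝒮'.p.obj x)).1 x (𝟙 _)).hom.1
    rw [Category.id_comp, ← Category.comp_id (𝒮'.p.map φ)]
    exact e1

include h𝒮 hcomm in
theorem exists_sheaf_banding :
    ∃ G : Sheaf J GrpCat.{max u v}, (∀ (U : C) (a b : G.obj.obj (op U)), a * b = b * a) ∧
      Nonempty (Gerb.Banding 𝒮' G.obj) := by
  refine ⟨⟨cenPsh 𝒮', isSheaf_cenPsh 𝒮'
    ⟨h𝒮.1.1, fun _ R hR => isPrestackFor_of_isStackFor (h𝒮.1.2 R hR)⟩⟩, ?_, ⟨banding 𝒮' h𝒮 hcomm⟩⟩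
  intro U a b
  apply Subtype.ext
  funext x f
  exact hcomm x _ _

end Final

end Groth.Agent.H3.GerbBand
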