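import Mathlib
import Groth.Prelude.Def_StGerb2
import Groth.Agent.Lib.Helper3.GerbIso
import Groth.Agent.Lib.Helper3.StackMore
import Groth.Agent.Lib.Helper3.RepFaithful

set_option autoImplicit false
universe v₃ u₃ v₂ u₂ v u
open CategoryTheory CategoryTheory.Functor CategoryTheory.Limits

namespace Groth.Agent.H3.GerbEquiv
open Groth.Agent.H3.FibCatAux Groth.Agent.H3.StackDescent Groth.Agent.H3.StackGlue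
  Groth.Agent.H3.GerbAux Groth.Agent.H3.GerbOver Groth.Agent.H3.GerbIso Groth.Agent.H3.StackMore

variable {C : Type u} [Category.{v} C] {J : GrothendieckTopology C}
  {𝒳 : BasedCategory.{v₂, u₂} C} {𝒴 : BasedCategory.{v₃, u₃} C}

section

variable (h𝒳 : Gerb.IsGerbe J 𝒳) (h𝒴 : Gerb.IsGerbe J 𝒴) (φ : 𝒳 ⥤ᵇ 𝒴) (s : 𝒳.obj)
  (hT : IsTerminal (𝒳.p.obj s))

/-- injectivity on automorphisms of pullbacks of `s`, elementwise -/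
lemma eq_id_of_map_eq_id (hf𝒳 : FibCat.IsFibGrpd 𝒳.p) {z : 𝒳.obj}
    (hinj : Function.Injective (Gerb.autMap φ z)) (τ : z ⟶ z)
    (hτ : 𝒳.p.IsHomLift (𝟙 (𝒳.p.obj z)) τ) (h : φ.map τ = 𝟙 _) : τ = 𝟙 z := by
  have h1 : Gerb.autMap φ z (autOfHom hf𝒳 z τ hτ) = Gerb.autMap φ z 1 := by
    rw [map_one]
    apply Aut.ext; apply Functor.Fiber.hom_ext
    exact h
  have h2 := hinj h1
  have h3 := congrArg (fun t : Gerb.AutO z => t.hom.1) h2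
  exact h3

include h𝒳 h𝒴 hT in
theorem faithful_of_inj
    (hφ : ∀ (x : 𝒳.obj) (_ : x ⟶ s), Function.Injective (Gerb.autMap φ x)) :
    φ.toFunctor.Faithful := by
  have hf𝒳 := h𝒳.1.1
  have hf𝒴 := h𝒴.1.1
  have hP1 : ∀ ⦃z' z : 𝒳.obj⦄ (_ : z' ⟶ z), Nonempty (z ⟶ s) → Nonempty (z' ⟶ s) :=
    fun z' z w ⟨c⟩ => ⟨w ≫ c⟩
  apply Groth.Agent.H3.RepFaithful.faithful_of_aut_trivial hf𝒳 hf𝒴 φ
  intro x τ hτ hφτ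
  have hcov := locSieve_mem_of_terminal h𝒳 s hT hP1 x
  have hid : 𝒳.p.IsHomLift (𝟙 (𝒳.p.obj x)) (𝟙 x) := inferInstance
  apply hom_ext_of_faithful hf𝒳 (isPrestackFor_of_isStackFor (h𝒳.1.2 _ hcov)).2 (𝟙 (𝒳.p.obj x))
  intro V f hf x' c hc
  obtain ⟨z₀, a, ha, ⟨c₀⟩⟩ := hf
  have hc1 : 𝒳.p.IsHomLift (𝟙 V ≫ f) c := by rw [Category.id_comp]; exact hc
  obtain ⟨k, hk, hk'⟩ := cart_fac hf𝒳 f (𝟙 V) a ha c hc1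
  have hc2 : 𝒳.p.IsHomLift (𝟙 V ≫ f) (c ≫ τ) := by rw [Category.id_comp]; infer_instance
  obtain ⟨τ₀, hτ₀, hτ₀'⟩ := cart_fac hf𝒳 f (𝟙 V) c hc (c ≫ τ) hc2
  have hV : 𝒳.p.obj x' = V := IsHomLift.domain_eq 𝒳.p f c
  subst hV
  have hφc : 𝒴.p.IsHomLift f (φ.map c) := φ.preserves_isHomLift f c
  have hφτ₀ : 𝒴.p.IsHomLift (𝟙 (𝒳.p.obj x')) (φ.map τ₀) := φ.preserves_isHomLift _ τ₀
  have hφid : 𝒴.p.IsHomLift (𝟙 (𝒳.p.obj x')) (𝟙 (φ.obj x')) :=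
    IsHomLift.of_fac' 𝒴.p _ _ (φ.w_obj x') (φ.w_obj x') (by simp)
  have e1 : φ.map τ₀ = 𝟙 _ := by
    refine cart_cancel hf𝒴 f (𝟙 _) (φ.map c) hφc _ _ hφτ₀ hφid ?_
    have a1 : φ.map (τ₀ ≫ c) = φ.map τ₀ ≫ φ.map c := φ.toFunctor.map_comp _ _
    have a2 : φ.map (c ≫ τ) = φ.map c ≫ φ.map τ := φ.toFunctor.map_comp _ _
    rw [← a1, hτ₀', a2, hφτ, Category.comp_id, Category.id_comp]
  have e2 := eq_id_of_map_eq_id φ hf𝒳 (hφ x' (k ≫ c₀)) τ₀ hτ₀ e1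
  rw [Category.comp_id, ← hτ₀', e2, Category.id_comp]

end

section Full

variable (hf𝒳 : FibCat.IsFibGrpd 𝒳.p) (hf𝒴 : FibCat.IsFibGrpd 𝒴.p) (φ : 𝒳 ⥤ᵇ 𝒴) (s : 𝒳.obj)

include hf𝒴 in
/-- lifting a morphism out of an object on whose automorphisms `φ` is surjective -/
lemma exists_preimage_of_surj {z x' : 𝒳.obj} (hsurj : Function.Surjective (Gerb.autMap φ z))
    {V U' : C} (f : V ⟶ U') (d : z ⟶ x') (hd : 𝒳.p.IsHomLift f d) (γ : φ.obj z ⟶ φ.obj x')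
    (hγ : 𝒴.p.IsHomLift f γ) : ∃ m : z ⟶ x', 𝒳.p.IsHomLift f m ∧ φ.map m = γ := by
  have hV : 𝒳.p.obj z = V := IsHomLift.domain_eq 𝒳.p f d
  subst hV
  have hφd : 𝒴.p.IsHomLift f (φ.map d) := φ.preserves_isHomLift f d
  have hγ' : 𝒴.p.IsHomLift (𝟙 _ ≫ f) γ := by rw [Category.id_comp]; exact hγ
  obtain ⟨α', hα', hα''⟩ := cart_fac hf𝒴 f (𝟙 _) (φ.map d) hφd γ hγ'
  have hα'2 : 𝒴.p.IsHomLift (𝟙 (𝒴.p.obj (φ.obj z))) α' :=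
    isHomLift_id_of_eq _ hα' (φ.w_obj z).symm
  obtain ⟨α, hα⟩ := hsurj (autOfHom hf𝒴 _ α' hα'2)
  have e1 : φ.map α.hom.1 = α' := congrArg (fun t => t.hom.1) hα
  have hα1 : 𝒳.p.IsHomLift (𝟙 (𝒳.p.obj z)) α.hom.1 := α.hom.2
  refine ⟨α.hom.1 ≫ d, inferInstance, ?_⟩
  have e2 : φ.map (α.hom.1 ≫ d) = φ.map α.hom.1 ≫ φ.map d := φ.toFunctor.map_comp _ _
  rw [e2, e1, hα'']

/-- the sieve over which `x`, `x'` and a pullback of `s` become isomorphic -/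
def isoSieve (x x' : 𝒳.obj) : Sieve (𝒳.p.obj x) where
  arrows V f := ∃ (x₀ : 𝒳.obj) (a : x₀ ⟶ x) (b : x₀ ⟶ x'),
    𝒳.p.IsHomLift f a ∧ 𝒳.p.IsHomLift f b ∧ Nonempty (x₀ ⟶ s)
  downward_closed := by
    rintro V W f ⟨x₀, a, b, ha, hb, ⟨c⟩⟩ h
    have hV : 𝒳.p.obj x₀ = V := IsHomLift.domain_eq 𝒳.p f a
    obtain ⟨x₁, w, hw⟩ := exists_lift' hf𝒳 h x₀ hV
    exact ⟨x₁, w ≫ a, w ≫ b, inferInstance, inferInstance, ⟨w ≫ c⟩⟩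

lemma isoSieve_mem (h𝒳 : Gerb.IsGerbe J 𝒳) (hT : IsTerminal (𝒳.p.obj s)) (x x' : 𝒳.obj)
    (hx' : 𝒳.p.obj x' = 𝒳.p.obj x) : isoSieve h𝒳.1.1 s x x' ∈ J (𝒳.p.obj x) := by
  have hP1 : ∀ ⦃z' z : 𝒳.obj⦄ (_ : z' ⟶ z), Nonempty (z ⟶ s) → Nonempty (z' ⟶ s) :=
    fun z' z w ⟨c⟩ => ⟨w ≫ c⟩
  obtain ⟨R₁, hR₁, h1⟩ := exists_local_iso J h𝒳.2.2 x x' rfl hx'
  refine J.transitive hR₁ _ ?_
  intro V₁ f₁ hf₁
  obtain ⟨x₁, a₁, b₁, ha₁, hb₁⟩ := h1 f₁ hf₁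
  have hV₁ : 𝒳.p.obj x₁ = V₁ := IsHomLift.domain_eq 𝒳.p f₁ a₁
  subst hV₁
  refine J.superset_covering ?_ (locSieve_mem_of_terminal h𝒳 s hT hP1 x₁)
  intro W h hh
  obtain ⟨z₀, a₂, ha₂, hz₀⟩ := hh
  exact ⟨z₀, a₂ ≫ a₁, a₂ ≫ b₁, inferInstance, inferInstance, hz₀⟩

end Full

section Main

variable (h𝒳 : Gerb.IsGerbe J 𝒳) (h𝒴 : Gerb.IsGerbe J 𝒴) (φ : 𝒳 ⥤ᵇ 𝒴) (s : 𝒳.obj)
  (hT : IsTerminal (𝒳.p.obj s))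
  (hφ : ∀ (x : 𝒳.obj) (_ : x ⟶ s), Function.Bijective (Gerb.autMap φ x))

include h𝒳 h𝒴 hT hφ in
theorem fibre_full (x x' : 𝒳.obj) (hx' : 𝒳.p.obj x' = 𝒳.p.obj x) (β : φ.obj x ⟶ φ.obj x')
    (hβ : 𝒴.p.IsHomLift (𝟙 (𝒳.p.obj x)) β) : ∃ a : x ⟶ x', φ.map a = β := by
  have hf𝒳 := h𝒳.1.1
  have hf𝒴 := h𝒴.1.1
  have faith : φ.toFunctor.Faithful := faithful_of_inj h𝒳 h𝒴 φ s hT (fun x c => (hφ x c).1)
  have hR := isoSieve_mem s h𝒳 hT x x' hx'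
  have key : ∀ ⦃V : C⦄ (f : V ⟶ 𝒳.p.obj x) (_ : isoSieve hf𝒳 s x x' f) (z : 𝒳.obj) (c : z ⟶ x)
      (_ : 𝒳.p.IsHomLift f c), ∃ m : z ⟶ x', 𝒳.p.IsHomLift f m ∧ φ.map m = φ.map c ≫ β := by
    intro V f hf z c hc
    obtain ⟨x₀, a, b, ha, hb, ⟨c₀⟩⟩ := hf
    have hc1 : 𝒳.p.IsHomLift (𝟙 V ≫ f) c := by rw [Category.id_comp]; exact hc
    obtain ⟨k, hk, hk'⟩ := cart_fac hf𝒳 f (𝟙 V) a ha c hc1
    have hd : 𝒳.p.IsHomLift f (k ≫ b) := inferInstance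
    have hφc : 𝒴.p.IsHomLift f (φ.map c) := φ.preserves_isHomLift f c
    have hγ : 𝒴.p.IsHomLift f (φ.map c ≫ β) := inferInstance
    exact exists_preimage_of_surj hf𝒴 φ (hφ z (k ≫ c₀)).2 f (k ≫ b) hd _ hγ
  choose m hm hm' using key
  let M : HomFamily (isoSieve hf𝒳 s x x') x x' :=
    { m := m
      lift := hm
      comp := by
        intro V f hf z' c hc W h z'' w hw hwc
        apply faith.map_injective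
        have a1 : φ.map (w ≫ c) = φ.map w ≫ φ.map c := φ.toFunctor.map_comp _ _
        have a2 : φ.map (w ≫ m f hf z' c hc) = φ.map w ≫ φ.map (m f hf z' c hc) :=
          φ.toFunctor.map_comp _ _
        change φ.map (m (h ≫ f) _ z'' (w ≫ c) hwc) = φ.map (w ≫ m f hf z' c hc)
        rw [hm', a2, hm', a1, Category.assoc] }
  obtain ⟨a, ⟨ha, ha'⟩, -⟩ := exists_unique_glue hf𝒳
    (isPrestackFor_of_isStackFor (h𝒳.1.2 _ hR)) rfl hx' M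
  refine ⟨a, ?_⟩
  have hφa : 𝒴.p.IsHomLift (𝟙 (𝒳.p.obj x)) (φ.map a) := φ.preserves_isHomLift _ a
  apply hom_ext_of_faithful hf𝒴 (isPrestackFor_of_isStackFor (h𝒴.1.2 _ hR)).2 (𝟙 (𝒳.p.obj x))
  intro V f hf z' c' hc'
  obtain ⟨x₀, a₀, b₀, ha₀, hb₀, hx₀⟩ := id hf
  have hφa₀ : 𝒴.p.IsHomLift f (φ.map a₀) := φ.preserves_isHomLift f a₀
  have hc1 : 𝒴.p.IsHomLift (𝟙 V ≫ f) c' := by rw [Category.id_comp]; exact hc'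
  obtain ⟨k, hk, hk'⟩ := cart_fac hf𝒴 f (𝟙 V) (φ.map a₀) hφa₀ c' hc1
  have e1 : φ.map (a₀ ≫ a) = φ.map a₀ ≫ φ.map a := φ.toFunctor.map_comp _ _
  have e2 : a₀ ≫ a = m f hf x₀ a₀ ha₀ := ha' f hf x₀ a₀ ha₀
  rw [← hk', Category.assoc, Category.assoc, ← e1, e2, hm']

include h𝒳 h𝒴 hT hφ in
theorem full_of_bij : φ.toFunctor.Full := by
  have hf𝒳 := h𝒳.1.1
  have hf𝒴 := h𝒴.1.1
  constructor
  intro x x' β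
  obtain ⟨u, hu⟩ : ∃ u : 𝒳.p.obj x ⟶ 𝒳.p.obj x',
      u = eqToHom (φ.w_obj x).symm ≫ 𝒴.p.map β ≫ eqToHom (φ.w_obj x') := ⟨_, rfl⟩
  have hβ : 𝒴.p.IsHomLift u β :=
    IsHomLift.of_fac' 𝒴.p u β (φ.w_obj x) (φ.w_obj x') (by simp [hu])
  obtain ⟨xu, κ, hκ⟩ := exists_lift' hf𝒳 u x' rfl
  have hxu : 𝒳.p.obj xu = 𝒳.p.obj x := IsHomLift.domain_eq 𝒳.p u κ
  have hφκ : 𝒴.p.IsHomLift u (φ.map κ) := φ.preserves_isHomLift u κ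
  have hβ' : 𝒴.p.IsHomLift (𝟙 _ ≫ u) β := by rw [Category.id_comp]; exact hβ
  obtain ⟨β₀, hβ₀, hβ₀'⟩ := cart_fac hf𝒴 u (𝟙 _) (φ.map κ) hφκ β hβ'
  obtain ⟨a₀, ha₀⟩ := fibre_full h𝒳 h𝒴 φ s hT hφ x xu hxu β₀ hβ₀
  refine ⟨a₀ ≫ κ, ?_⟩
  have e1 : φ.map (a₀ ≫ κ) = φ.map a₀ ≫ φ.map κ := φ.toFunctor.map_comp _ _
  exact e1.trans (by rw [ha₀, hβ₀'])

include h𝒳 h𝒴 hT in
theorem locEssSurj_of_gerbe : LocEssSurj J φ := by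
  have hf𝒳 := h𝒳.1.1
  have hf𝒴 := h𝒴.1.1
  intro y
  obtain ⟨sU, κ, hκ⟩ := exists_lift' hf𝒳 (hT.from (𝒴.p.obj y)) s rfl
  have hsU : 𝒳.p.obj sU = 𝒴.p.obj y := IsHomLift.domain_eq 𝒳.p (hT.from (𝒴.p.obj y)) κ
  obtain ⟨R, hR, h1⟩ := exists_local_iso J h𝒴.2.2 y (φ.obj sU) rfl ((φ.w_obj sU).trans hsU)
  refine ⟨R, hR, fun V f hf => ?_⟩
  obtain ⟨z₀, a, b, ha, hb⟩ := h1 f hf
  obtain ⟨sV, κ', hκ'⟩ := exists_lift' hf𝒳 f sU hsU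
  have hφκ' : 𝒴.p.IsHomLift (𝟙 V ≫ f) (φ.map κ') := by
    rw [Category.id_comp]; exact φ.preserves_isHomLift f κ'
  obtain ⟨k, hk, -⟩ := cart_fac hf𝒴 f (𝟙 V) b hb (φ.map κ') hφκ'
  exact ⟨sV, k ≫ a, inferInstance⟩

include h𝒳 h𝒴 hT hφ in
theorem isEquivOver_of_bij : FibCat.IsEquivOver φ := by
  have := full_of_bij h𝒳 h𝒴 φ s hT hφ
  have := faithful_of_inj h𝒳 h𝒴 φ s hT (fun x c => (hφ x c).1)
  exact (isEquivOver_iff_locEssSurj J h𝒳.1 (isPrestack_of_isStack J h𝒴.1) φ).2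
    (locEssSurj_of_gerbe h𝒳 h𝒴 φ s hT)

end Main

end Groth.Agent.H3.GerbEquiv
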