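import Groth.Prelude.Def_StGerb2

set_option autoImplicit false

universe v₂ u₂ v u

open CategoryTheory Opposite

namespace Groth.Agent.H3.GerbIsoCl

open Gerb

variable {C : Type u} [Category.{v} C] {𝒳 : BasedCategory.{v₂, u₂} C}
  {P : Cᵒᵖ ⥤ Type u₂} (π : 𝒳 ⥤ᵇ Stk.ofPsh P)

theorem w_base (x : 𝒳.obj) : (π.obj x).base = 𝒳.p.obj x := π.w_obj x

/-- the section of `P` over `U` attached to an object over `U` -/
def secAt (x : 𝒳.obj) (U : C) (h : 𝒳.p.obj x = U) : P.obj (op U) :=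
  P.map (eqToHom (h.symm.trans (w_base π x).symm)).op (π.obj x).sec

theorem hom_fac {x y : 𝒳.obj} (m : x ⟶ y) {V U : C} (f : V ⟶ U) (hm : 𝒳.p.IsHomLift f m)
    (hV : 𝒳.p.obj x = V) (hU : 𝒳.p.obj y = U) :
    (π.map m).hom = eqToHom ((w_base π x).trans hV) ≫ f ≫
      eqToHom ((w_base π y).trans hU).symm := by
  have hl : (Stk.ofPsh P).p.IsHomLift f (π.map m) := by
    haveI := hm
    exact BasedFunctor.preserves_isHomLift π f m
  exact @IsHomLift.fac' _ _ _ _ (Stk.ofPsh P).p _ _ _ _ f (π.map m) hl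

theorem secAt_map {x y : 𝒳.obj} (m : x ⟶ y) {V U : C} (f : V ⟶ U) (hm : 𝒳.p.IsHomLift f m)
    (hV : 𝒳.p.obj x = V) (hU : 𝒳.p.obj y = U) :
    P.map f.op (secAt π y U hU) = secAt π x V hV := by
  have hfac := hom_fac π m f hm hV hU
  have hsec : P.map (π.map m).hom.op (π.obj y).sec = (π.obj x).sec := (π.map m).map_sec
  have hE : (eqToHom (hU.symm.trans (w_base π y).symm)).op ≫ f.op =
      (π.map m).hom.op ≫ (eqToHom (hV.symm.trans (w_base π x).symm)).op := by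
    rw [← op_comp, ← op_comp, hfac]
    simp
  unfold secAt
  rw [← hsec, ← Functor.map_comp_apply, ← Functor.map_comp_apply, hE]

theorem secAt_eq_of_hom {U : C} (a a' : 𝒳.p.Fiber U) (φ : a ⟶ a') :
    secAt π a.1 U a.2 = secAt π a'.1 U a'.2 := by
  have h := secAt_map π φ.1 (𝟙 U) φ.2 a.2 a'.2
  rw [op_id, Functor.map_id_apply] at h
  exact h.symm

variable [FibCat.IsFibGrpd 𝒳.p]

theorem secAt_pullFib {U V : C} (g : V ⟶ U) (a : 𝒳.p.Fiber U) :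
    secAt π (pullFib 𝒳 g a).1 V (pullFib 𝒳 g a).2 = P.map g.op (secAt π a.1 U a.2) := by
  obtain ⟨xa, ha⟩ := a
  subst ha
  have h := secAt_map π (pullHom 𝒳 xa (g ≫ eqToHom rfl)) (g ≫ eqToHom rfl)
    (pullHom_isHomLift 𝒳 xa _) (pull_over 𝒳 xa _) rfl
  have e : g ≫ eqToHom (rfl : 𝒳.p.obj xa = 𝒳.p.obj xa) = g := by simp
  have h2 : P.map (g ≫ eqToHom (rfl : 𝒳.p.obj xa = 𝒳.p.obj xa)).op = P.map g.op := by rw [e]
  rw [h2] at h
  exact h.symm

/-- the map from the presheaf of isomorphism classes to `P` -/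
noncomputable def cMap : isoClPsh 𝒳 ⟶ P where
  app U := ↾(Quot.lift (fun a : 𝒳.p.Fiber U.unop => secAt π a.1 U.unop a.2)
    (fun a a' ⟨φ⟩ => secAt_eq_of_hom π a a' φ))
  naturality := by
    intro U V f
    ext a
    obtain ⟨a⟩ := a
    exact secAt_pullFib π f.unop a

theorem cMap_fib (x : 𝒳.obj) :
    (cMap π).app (op (𝒳.p.obj x)) (Quot.mk _ (Gerb.fib x)) =
      P.map (eqToHom (π.w_obj x).symm).op (π.obj x).sec := rfl

theorem locSurj (J : GrothendieckTopology C) (hπ : LocSurjObj J π) :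
    Presheaf.IsLocallySurjective J (cMap π) where
  imageSieve_mem := by
    intro U s
    obtain ⟨R, hR, h⟩ := hπ (⟨U, s⟩ : Stk.EltObj P)
    refine J.superset_covering ?_ hR
    intro V f hf
    obtain ⟨x, g, hg⟩ := h f hf
    have hdom : (π.obj x).base = V :=
      @IsHomLift.domain_eq _ _ _ _ (Stk.ofPsh P).p _ _ _ _ f g hg
    have hV : 𝒳.p.obj x = V := (w_base π x).symm.trans hdom
    refine ⟨Quot.mk _ ⟨x, hV⟩, ?_⟩
    change secAt π x V hV = P.map f.op s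
    have hfac : g.hom = eqToHom hdom ≫ f ≫ eqToHom (rfl : U = U) :=
      @IsHomLift.fac' _ _ _ _ (Stk.ofPsh P).p _ _ _ _ f g hg
    have hsec : P.map g.hom.op s = (π.obj x).sec := g.map_sec
    have hE : g.hom.op ≫ (eqToHom (hV.symm.trans (w_base π x).symm)).op = f.op := by
      rw [← op_comp, hfac]
      simp
    unfold secAt
    rw [← hsec, ← Functor.map_comp_apply, hE]

theorem equalizer_mem (J : GrothendieckTopology C) (hπ : LocSurjHom J π) {U : C}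
    (a a' : 𝒳.p.Fiber U) (h : secAt π a.1 U a.2 = secAt π a'.1 U a'.2) :
    ∃ R ∈ J U, ∀ ⦃V : C⦄ (f : V ⟶ U), R f →
      Quot.mk (IsoRel 𝒳 V) (pullFib 𝒳 f a) = Quot.mk (IsoRel 𝒳 V) (pullFib 𝒳 f a') := by
  obtain ⟨xa, ha⟩ := a
  obtain ⟨xa', ha'⟩ := a'
  subst ha
  have e₁ : 𝒳.p.obj xa = (π.obj xa).base := (w_base π xa).symm
  have e₂ : 𝒳.p.obj xa = (π.obj xa').base := ha'.symm.trans (w_base π xa').symm
  have hb : P.map (eqToHom (e₁.symm.trans e₂)).op (π.obj xa').sec = (π.obj xa).sec := by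
    have h' := congrArg (fun s => P.map (eqToHom e₁.symm).op s) h
    simp only [secAt] at h'
    rw [← Functor.map_comp_apply, ← Functor.map_comp_apply, ← op_comp, ← op_comp,
      eqToHom_trans, eqToHom_trans, eqToHom_refl, op_id, Functor.map_id_apply] at h'
    exact h'.symm
  obtain ⟨b, hbh⟩ : ∃ b : π.obj xa ⟶ π.obj xa', b.hom = eqToHom (e₁.symm.trans e₂) :=
    ⟨⟨eqToHom (e₁.symm.trans e₂), hb⟩, rfl⟩
  have hbl : (Stk.ofPsh P).p.IsHomLift (𝟙 (𝒳.p.obj xa)) b := by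
    refine IsHomLift.of_fac' (Stk.ofPsh P).p _ _ e₁.symm e₂.symm ?_
    change b.hom = _
    rw [hbh]
    simp
  obtain ⟨R, hR, hRf⟩ := hπ xa xa' b hbl
  refine ⟨R, hR, ?_⟩
  intro V f hf
  obtain ⟨x₀, φ, ψ, hφ, hψ, -⟩ := hRf f hf
  have hx₀ : 𝒳.p.obj x₀ = V := @IsHomLift.domain_eq _ _ _ _ 𝒳.p _ _ _ _ f φ hφ
  have hφ' : 𝒳.p.IsHomLift (f ≫ eqToHom (rfl : 𝒳.p.obj xa = 𝒳.p.obj xa).symm) φ := by
    haveI := hφ
    infer_instance
  have hψ' : 𝒳.p.IsHomLift (f ≫ eqToHom ha'.symm) ψ := by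
    haveI := hψ
    infer_instance
  obtain ⟨χ, hχ, -⟩ := exists_hom_pull 𝒳 xa _ φ hφ'
  obtain ⟨χ', hχ', -⟩ := exists_hom_pull 𝒳 xa' _ ψ hψ'
  have h1 : Quot.mk (IsoRel 𝒳 V) (⟨x₀, hx₀⟩ : 𝒳.p.Fiber V) =
      Quot.mk (IsoRel 𝒳 V) (pullFib 𝒳 f ⟨xa, rfl⟩) := Quot.sound ⟨⟨χ, hχ⟩⟩
  have h2 : Quot.mk (IsoRel 𝒳 V) (⟨x₀, hx₀⟩ : 𝒳.p.Fiber V) =
      Quot.mk (IsoRel 𝒳 V) (pullFib 𝒳 f ⟨xa', ha'⟩) := Quot.sound ⟨⟨χ', hχ'⟩⟩
  exact h1.symm.trans h2

theorem locInj (J : GrothendieckTopology C) (hπ : LocSurjHom J π) :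
    Presheaf.IsLocallyInjective J (cMap π) where
  equalizerSieve_mem := by
    intro U a a' h
    obtain ⟨a⟩ := a
    obtain ⟨a'⟩ := a'
    obtain ⟨R, hR, hRf⟩ := equalizer_mem π J hπ a a' h
    refine J.superset_covering ?_ hR
    intro V f hf
    exact hRf f hf

end Groth.Agent.H3.GerbIsoCl
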