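import Mathlib

/-!
# Rescaling a ring map out of a `ℤ`-graded ring through the grading

Core algebra for `GmQuot.exists_dvr_extension_rescaled_hom_posWeightIdeal_eq_top`.
-/

set_option autoImplicit false

namespace Groth.Agent.H3.GmRescale

open DirectSum

universe u v w

variable {A : Type u} [CommRing A] (𝒜 : ℤ → AddSubgroup A) [GradedRing 𝒜]
variable {B : Type v} {K : Type w} [CommRing B] [Field K] [Algebra B K]

/-- The rescaled homomorphism `a ↦ ∑_d ψ(a_d) ϖ^{-d}` with values in the field `K`. -/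
noncomputable def gK (ψ : A →+* B) (ϖ : B) (hϖ : algebraMap B K ϖ ≠ 0) : A →+* K :=
  (DirectSum.toSemiring
    (fun d : ℤ => ((AddMonoidHom.mulRight ((algebraMap B K ϖ) ^ (-d))).comp
      (((algebraMap B K).comp ψ).toAddMonoidHom.comp (𝒜 d).subtype)))
    (by simp [SetLike.coe_gOne])
    (by
      intro i j ai aj
      simp only [AddMonoidHom.coe_comp, Function.comp_apply, AddMonoidHom.mulRight_apply,
        RingHom.toAddMonoidHom_eq_coe, AddMonoidHom.coe_coe, AddSubgroup.subtype_apply,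
        SetLike.coe_gMul, map_mul, neg_add, zpow_add₀ hϖ]
      ring)).comp
  (DirectSum.decomposeRingEquiv 𝒜).toRingHom

theorem gK_of_mem (ψ : A →+* B) (ϖ : B) (hϖ : algebraMap B K ϖ ≠ 0) {d : ℤ} {a : A}
    (ha : a ∈ 𝒜 d) :
    gK 𝒜 ψ ϖ hϖ a = algebraMap B K (ψ a) * (algebraMap B K ϖ) ^ (-d) := by
  unfold gK
  have h1 : (DirectSum.decomposeRingEquiv 𝒜).toRingHom a = DirectSum.of (fun i => 𝒜 i) d ⟨a, ha⟩ :=
    DirectSum.decompose_of_mem 𝒜 ha
  rw [RingHom.comp_apply, h1, DirectSum.toSemiring_of]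
  rfl

/-- Homogeneous elements are sent into the range of `B → K` as soon as the generators of the
positive-weight ideal are. -/
theorem gK_mem_range (ψ : A →+* B) (ϖ : B) (hϖ : algebraMap B K ϖ ≠ 0)
    {ι : Type*} [Fintype ι] (gen : ι → A) (deg : ι → ℕ)
    (hdeg : ∀ i, 0 < deg i) (hgen : ∀ i, gen i ∈ 𝒜 (deg i))
    (hspan : Ideal.span {a : A | ∃ d : ℤ, 0 < d ∧ a ∈ 𝒜 d} ≤ Ideal.span (Set.range gen))
    (hS : ∀ i, gK 𝒜 ψ ϖ hϖ (gen i) ∈ (algebraMap B K).range) (a : A) :
    gK 𝒜 ψ ϖ hϖ a ∈ (algebraMap B K).range := by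
  classical
  -- homogeneous case by induction
  have key : ∀ n : ℕ, ∀ e : ℤ, e ≤ n → ∀ a ∈ 𝒜 e, gK 𝒜 ψ ϖ hϖ a ∈ (algebraMap B K).range := by
    intro n
    induction n with
    | zero =>
      intro e he a ha
      rw [gK_of_mem 𝒜 ψ ϖ hϖ ha]
      obtain ⟨m, hm⟩ : ∃ m : ℕ, -e = m := ⟨(-e).toNat, by
        rw [Int.toNat_of_nonneg]; simpa using he⟩
      rw [hm, zpow_natCast, ← map_pow, ← map_mul]
      exact ⟨_, rfl⟩
    | succ n ih =>
      intro e he a ha
      by_cases hlt : e ≤ n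
      · exact ih e hlt a ha
      have hen : e = n + 1 := by
        have : e ≤ (n : ℤ) + 1 := by exact_mod_cast he
        omega
      have hpos : 0 < e := by omega
      have hmem : a ∈ Ideal.span (Set.range gen) :=
        hspan (Ideal.subset_span ⟨e, hpos, ha⟩)
      obtain ⟨c, hc⟩ := Ideal.mem_span_range_iff_exists_fun.mp hmem
      have h1 : a = ∑ i, (DirectSum.decompose 𝒜 (c i) (e - deg i) : A) * gen i := by
        calc a = GradedRing.proj 𝒜 e a := by
              rw [GradedRing.proj_apply, DirectSum.decompose_of_mem_same 𝒜 ha]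
          _ = ∑ i, GradedRing.proj 𝒜 e (c i * gen i) := by
              rw [← hc, map_sum]
          _ = ∑ i, (DirectSum.decompose 𝒜 (c i) (e - deg i) : A) * gen i := by
              refine Finset.sum_congr rfl fun i _ => ?_
              rw [GradedRing.proj_apply]
              have := DirectSum.coe_decompose_mul_add_of_right_mem 𝒜 (i := e - deg i)
                (a := c i) (hgen i)
              rw [sub_add_cancel] at this
              exact this
      rw [h1, map_sum]
      refine Subring.sum_mem _ fun i _ => ?_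
      rw [map_mul]
      refine Subring.mul_mem _ ?_ (hS i)
      refine ih (e - deg i) ?_ _ (SetLike.coe_mem _)
      have := hdeg i
      omega
  -- general case
  rw [← DirectSum.sum_support_decompose 𝒜 a, map_sum]
  refine Subring.sum_mem _ fun i _ => ?_
  obtain ⟨n, hn⟩ : ∃ n : ℕ, i ≤ n := ⟨i.toNat, Int.self_le_toNat i⟩
  exact key n i hn _ (SetLike.coe_mem _)

/-- The core statement: if `ψ (gen i) = b i * ϖ ^ deg i` for finitely many homogeneous generators
`gen i` of the positive-weight ideal, then `ψ` can be rescaled through the grading by `ϖ`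
to a map `g` with `g (gen i) = b i`. -/
theorem exists_rescaled (hinj : Function.Injective (algebraMap B K))
    (ψ : A →+* B) (ϖ : B) (hϖ0 : ϖ ≠ 0)
    {ι : Type*} [Fintype ι] (gen : ι → A) (deg : ι → ℕ) (b : ι → B)
    (hdeg : ∀ i, 0 < deg i) (hgen : ∀ i, gen i ∈ 𝒜 (deg i))
    (hspan : Ideal.span {a : A | ∃ d : ℤ, 0 < d ∧ a ∈ 𝒜 d} ≤ Ideal.span (Set.range gen))
    (hb : ∀ i, ψ (gen i) = b i * ϖ ^ deg i) :
    ∃ g : A →+* B,
      (∀ (d : ℤ) (a : A), a ∈ 𝒜 d →
        algebraMap B K (g a) * algebraMap B K ϖ ^ d = algebraMap B K (ψ a)) ∧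
      ∀ i, g (gen i) = b i := by
  have hϖ : algebraMap B K ϖ ≠ 0 := by
    intro h
    exact hϖ0 (hinj (by rw [h, map_zero]))
  have hgenK : ∀ i, gK 𝒜 ψ ϖ hϖ (gen i) = algebraMap B K (b i) := by
    intro i
    rw [gK_of_mem 𝒜 ψ ϖ hϖ (hgen i), hb i, map_mul, map_pow, zpow_neg, zpow_natCast,
      mul_assoc, mul_inv_cancel₀ (pow_ne_zero _ hϖ), mul_one]
  have hrange : ∀ a, gK 𝒜 ψ ϖ hϖ a ∈ (algebraMap B K).range :=
    gK_mem_range 𝒜 ψ ϖ hϖ gen deg hdeg hgen hspan (fun i => ⟨b i, (hgenK i).symm⟩)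
  let e : B ≃+* (algebraMap B K).range :=
    RingEquiv.ofBijective (algebraMap B K).rangeRestrict
      ⟨fun x y hxy => hinj (by
          have := congrArg Subtype.val hxy
          simpa only [RingHom.coe_rangeRestrict] using this),
        RingHom.rangeRestrict_surjective _⟩
  let g : A →+* B := e.symm.toRingHom.comp ((gK 𝒜 ψ ϖ hϖ).codRestrict _ hrange)
  have hg : ∀ a, algebraMap B K (g a) = gK 𝒜 ψ ϖ hϖ a := by
    intro a
    have h1 : e (g a) = (gK 𝒜 ψ ϖ hϖ).codRestrict _ hrange a := e.apply_symm_apply _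
    have h2 := congrArg Subtype.val h1
    exact h2
  refine ⟨g, ?_, ?_⟩
  · intro d a ha
    rw [hg, gK_of_mem 𝒜 ψ ϖ hϖ ha, mul_assoc, ← zpow_add₀ hϖ, neg_add_cancel, zpow_zero, mul_one]
  · intro i
    apply hinj
    rw [hg, hgenK]

end Groth.Agent.H3.GmRescale
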