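import Mathlib
import Groth.Agent.Lib.Helper3.DvrRam
import Groth.Agent.Lib.Helper3.GmRescale

/-!
# `GmQuot.exists_dvr_extension_rescaled_hom_posWeightIdeal_eq_top`
-/

set_option autoImplicit false

namespace Groth.Agent.H3.GmRescale

universe u v

open IsLocalRing

theorem main
    {A : Type u} [CommRing A] (𝒜 : ℤ → AddSubgroup A) [GradedRing 𝒜]
    (hfg : (Ideal.span {a : A | ∃ d : ℤ, 0 < d ∧ a ∈ 𝒜 d}).FG)
    (R : Type v) [CommRing R] [IsDomain R] [IsDiscreteValuationRing R]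
    (K : Type v) [Field K] [Algebra R K] [IsFractionRing R K]
    (φ : A →+* R)
    (hle : Ideal.map φ (Ideal.span {a : A | ∃ d : ℤ, 0 < d ∧ a ∈ 𝒜 d}) ≤ IsLocalRing.maximalIdeal R)
    (hne : Ideal.map φ (Ideal.span {a : A | ∃ d : ℤ, 0 < d ∧ a ∈ 𝒜 d}) ≠ ⊥) :
    ∃ (R' : Type v) (_ : CommRing R') (_ : IsDomain R') (_ : IsDiscreteValuationRing R')
      (K' : Type v) (_ : Field K') (_ : Algebra R' K') (_ : IsFractionRing R' K')
      (_ : Algebra R R') (_ : Algebra K K') (_ : Algebra R K')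
      (_ : IsScalarTower R R' K') (_ : IsScalarTower R K K')
      (_ : Module.Finite K K') (_ : IsLocalHom (algebraMap R R'))
      (ϖ : R') (g : A →+* R'),
      ϖ ≠ 0 ∧ ϖ ∈ IsLocalRing.maximalIdeal R' ∧
      (∀ (d : ℤ) (a : A), a ∈ 𝒜 d →
        algebraMap R' K' (g a) * algebraMap R' K' ϖ ^ d = algebraMap R K' (φ a)) ∧
      Ideal.map g (Ideal.span {a : A | ∃ d : ℤ, 0 < d ∧ a ∈ 𝒜 d}) = ⊤ := by
  classical
  -- finitely many homogeneous generators
  obtain ⟨s, hsub, hspan⟩ := (Submodule.fg_span_iff_fg_span_finset_subset _).mp hfg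
  have hex : ∀ x : s, ∃ n : ℕ, 0 < n ∧ (x : A) ∈ 𝒜 (n : ℤ) := by
    intro x
    obtain ⟨d, hd, hx⟩ := hsub x.2
    refine ⟨d.toNat, by omega, ?_⟩
    rwa [Int.toNat_of_nonneg hd.le]
  choose deg hdeg hgen using hex
  have hspan' : Ideal.span {a : A | ∃ d : ℤ, 0 < d ∧ a ∈ 𝒜 d}
      = Ideal.span (Set.range (fun x : s => (x : A))) := by
    rw [Subtype.range_coe_subtype]
    exact hspan
  -- a uniformizer of `R`
  obtain ⟨π, hπ⟩ := IsDiscreteValuationRing.exists_irreducible R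
  have hval : ∀ x : s, ∃ (n : ℕ) (u : R), φ x ≠ 0 → IsUnit u ∧ φ x = u * π ^ n := by
    intro x
    by_cases h0 : φ x = 0
    · exact ⟨0, 0, fun h => absurd h0 h⟩
    · obtain ⟨n, u, hu⟩ := IsDiscreteValuationRing.eq_unit_mul_pow_irreducible h0 hπ
      exact ⟨n, u, fun _ => ⟨u.isUnit, hu⟩⟩
  choose val un hval using hval
  -- some generator has non-zero image
  have hnz : ∃ x : s, φ x ≠ 0 := by
    by_contra hcon
    push Not at hcon
    apply hne
    rw [hspan', Ideal.map_span, Ideal.span_eq_bot]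
    rintro _ ⟨_, ⟨x, rfl⟩, rfl⟩
    exact hcon x
  -- choose the generator of minimal slope
  have hne' : (Finset.univ.filter fun x : s => φ x ≠ 0).Nonempty := by
    obtain ⟨x, hx⟩ := hnz
    exact ⟨x, by simp [hx]⟩
  obtain ⟨x₀, hx₀mem, hmin⟩ := Finset.exists_min_image _
    (fun x : s => (val x : ℚ) / (deg x : ℚ)) hne'
  have hx₀ : φ x₀ ≠ 0 := by simpa using hx₀mem
  have hmin' : ∀ x : s, φ x ≠ 0 → val x₀ * deg x ≤ deg x₀ * val x := by
    intro x hx
    have h1 := hmin x (by simp [hx])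
    have hd0 : (0 : ℚ) < deg x₀ := by exact_mod_cast hdeg x₀
    have hd1 : (0 : ℚ) < deg x := by exact_mod_cast hdeg x
    rw [div_le_div_iff₀ hd0 hd1] at h1
    have h2 : ((val x₀ * deg x : ℕ) : ℚ) ≤ ((deg x₀ * val x : ℕ) : ℚ) := by
      push_cast
      linarith
    exact_mod_cast h2
  -- `val x₀ ≥ 1`
  have hv₀ : 0 < val x₀ := by
    rcases Nat.eq_zero_or_pos (val x₀) with h0 | h0
    · exfalso
      obtain ⟨hu, he⟩ := hval x₀ hx₀
      rw [h0, pow_zero, mul_one] at he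
      have hmem : φ x₀ ∈ maximalIdeal R :=
        hle (Ideal.mem_map_of_mem φ (Ideal.subset_span (hsub x₀.2)))
      rw [he] at hmem
      exact hmem hu
    · exact h0
  -- the totally ramified extension
  obtain ⟨R', _, _, _, K', _, _, _, _, _, _, _, _, _, _, ϖ₀, hirr, hpow, hinj⟩ :=
    Groth.Agent.H3.DvrRam.exists_dvr_ext (π := π) (d := deg x₀) K hπ (hdeg x₀)
  have hinjK : Function.Injective (algebraMap R' K') := IsFractionRing.injective R' K'
  have hϖ0 : ϖ₀ ^ val x₀ ≠ 0 := pow_ne_zero _ hirr.ne_zero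
  -- the elements `b`
  let b : s → R' := fun x =>
    if φ x = 0 then 0
    else algebraMap R R' (un x) * ϖ₀ ^ (deg x₀ * val x - val x₀ * deg x)
  have hb : ∀ x : s, ((algebraMap R R').comp φ) x = b x * (ϖ₀ ^ val x₀) ^ deg x := by
    intro x
    by_cases h0 : φ x = 0
    · simp [b, h0]
    · obtain ⟨hu, he⟩ := hval x h0
      simp only [b, h0, if_false, RingHom.comp_apply]
      rw [he, map_mul, map_pow, ← hpow, mul_assoc, ← pow_mul, ← pow_mul, ← pow_add,
        Nat.sub_add_cancel (hmin' x h0)]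
  obtain ⟨g, hg1, hg2⟩ := exists_rescaled 𝒜 hinjK ((algebraMap R R').comp φ) (ϖ₀ ^ val x₀) hϖ0
    (fun x : s => (x : A)) deg b hdeg hgen hspan'.le hb
  refine ⟨R', inferInstance, inferInstance, inferInstance, K', inferInstance, inferInstance,
    inferInstance, inferInstance, inferInstance, inferInstance, inferInstance, inferInstance,
    inferInstance, inferInstance, ϖ₀ ^ val x₀, g, hϖ0, ?_, ?_, ?_⟩
  · obtain ⟨m, hm⟩ : ∃ m, val x₀ = m + 1 := ⟨val x₀ - 1, by omega⟩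
    rw [hm, pow_succ]
    exact Ideal.mul_mem_left _ _ hirr.not_isUnit
  · intro d a ha
    rw [hg1 d a ha, RingHom.comp_apply, ← IsScalarTower.algebraMap_apply]
  · rw [Ideal.eq_top_iff_one]
    have hunit : IsUnit (g x₀) := by
      rw [hg2 x₀]
      obtain ⟨hu, he⟩ := hval x₀ hx₀
      simp only [b, hx₀, if_false]
      rw [Nat.mul_comm, Nat.sub_self, pow_zero, mul_one]
      exact hu.map _
    have hmem : g x₀ ∈ Ideal.map g (Ideal.span {a : A | ∃ d : ℤ, 0 < d ∧ a ∈ 𝒜 d}) :=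
      Ideal.mem_map_of_mem g (Ideal.subset_span (hsub x₀.2))
    exact (Ideal.eq_top_iff_one _).mp (Ideal.eq_top_of_isUnit_mem _ hmem hunit)

end Groth.Agent.H3.GmRescale
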