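import Mathlib
import Groth.Prelude.Def_GrMod2

/-!
Auxiliary lemmas on graded modules and the sheaf `M(n)~` on `Proj` (helper3).
-/

set_option autoImplicit false

universe u

open AlgebraicGeometry CategoryTheory CategoryTheory.Limits TopologicalSpace Opposite DirectSum

namespace Groth.Agent.H3.GrTildeAux

variable {R A : Type u} [CommRing R] [CommRing A] [Algebra R A] (𝒜 : ℕ → Submodule R A) [GradedAlgebra 𝒜]
variable {M : Type u} [AddCommGroup M] [Module R M] [Module A M] (ℳ : ℕ → Submodule R M)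

/-- every point of `Proj` misses some homogeneous element of positive degree -/
lemma exists_homog_notMem (x : ProjectiveSpectrum 𝒜) :
    ∃ (f : A) (m : ℕ) (_ : f ∈ 𝒜 m) (_ : 0 < m), f ∉ x.asHomogeneousIdeal := by
  classical
  by_contra! hcon
  refine x.not_irrelevant_le fun z hz ↦ ?_
  rw [← DirectSum.sum_support_decompose 𝒜 z]
  exact x.asHomogeneousIdeal.toIdeal.sum_mem fun k hk ↦ hcon _ k (SetLike.coe_mem _) <| by_contra <| by aesop

/-- if `u • m = 0` with `m` homogeneous, every homogeneous component of `u` kills `m`. -/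
lemma component_smul_eq_zero [DirectSum.Decomposition ℳ] [SetLike.GradedSMul 𝒜 ℳ]
    {i : ℕ} {m : M} (hm : m ∈ ℳ i) (u : A) (hu : u • m = 0) (j : ℕ) :
    (DirectSum.decompose 𝒜 u j : A) • m = 0 := by
  classical
  have hsum : u • m = ∑ k ∈ (DirectSum.decompose 𝒜 u).support, (DirectSum.decompose 𝒜 u k : A) • m := by
    conv_lhs => rw [← DirectSum.sum_support_decompose 𝒜 u, Finset.sum_smul]
  have hmem : ∀ k, (DirectSum.decompose 𝒜 u k : A) • m ∈ ℳ (k + i) := fun k =>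
    SetLike.GradedSMul.smul_mem (DirectSum.decompose 𝒜 u k).2 hm
  have h1 : ((DirectSum.decompose ℳ (u • m)) (j + i) : M) = 0 := by rw [hu]; simp
  rw [hsum, DirectSum.decompose_sum, DFinsupp.finsetSum_apply, AddSubmonoidClass.coe_finsetSum] at h1
  by_cases hj : j ∈ (DirectSum.decompose 𝒜 u).support
  · rw [Finset.sum_eq_single j] at h1
    · rw [DirectSum.decompose_of_mem_same ℳ (hmem j)] at h1
      exact h1
    · intro k _ hkj
      exact DirectSum.decompose_of_mem_ne ℳ (hmem k) (fun h => hkj (Nat.add_right_cancel h))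
    · intro hj'; exact absurd hj hj'
  · have : DirectSum.decompose 𝒜 u j = 0 := by simpa [DFinsupp.mem_support_iff] using hj
    rw [this]; simp

/-- a homogeneous element of positive degree lies in the irrelevant ideal -/
lemma mem_irrelevant_of_mem {d : ℕ} (hd : 0 < d) {f : A} (hf : f ∈ 𝒜 d) :
    f ∈ HomogeneousIdeal.irrelevant 𝒜 := by
  rw [HomogeneousIdeal.mem_irrelevant_iff, GradedRing.proj_apply]
  exact DirectSum.decompose_of_mem_ne 𝒜 hf (Nat.pos_iff_ne_zero.1 hd)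

theorem X3587 [DirectSum.Decomposition ℳ] [SetLike.GradedSMul 𝒜 ℳ] {d : ℕ} (hd : 0 < d) {f : A}
    (hf : f ∈ 𝒜 d) (k i : ℕ) (m : ℳ i)
    (h : ∀ x : ProjectiveSpectrum.basicOpen 𝒜 f,
      (LocalizedModule.mk m.1 ⟨f ^ k, fun h => (ProjectiveSpectrum.mem_basicOpen 𝒜 f x.1).mp x.2
        (x.1.isPrime.mem_of_pow_mem k h)⟩ : GrTilde.LocMod 𝒜 (M := M) x.1) = 0) :
    ∃ N : ℕ, f ^ N • m.1 = 0 := by
  classical
  let I : Ideal A := LinearMap.ker (LinearMap.toSpanSingleton A M m.1)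
  have hI : ∀ a : A, a ∈ I ↔ a • m.1 = 0 := fun a => by
    simp [I, LinearMap.mem_ker, LinearMap.toSpanSingleton_apply]
  suffices hrad : f ∈ I.radical by
    obtain ⟨N, hN⟩ := hrad
    exact ⟨N, (hI _).1 hN⟩
  rw [Ideal.radical_eq_sInf, Ideal.mem_sInf]
  rintro P ⟨hIP, hP⟩
  by_contra hfP
  have hcore : (P.homogeneousCore 𝒜).toIdeal.IsPrime := hP.homogeneousCore
  have hcle : (P.homogeneousCore 𝒜).toIdeal ≤ P := Ideal.toIdeal_homogeneousCore_le 𝒜 P
  let x : ProjectiveSpectrum 𝒜 := ⟨P.homogeneousCore 𝒜, hcore, fun hle =>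
    hfP (hcle (hle (mem_irrelevant_of_mem 𝒜 hd hf)))⟩
  have hx : x ∈ ProjectiveSpectrum.basicOpen 𝒜 f := by
    rw [ProjectiveSpectrum.mem_basicOpen]
    exact fun hmem => hfP (hcle hmem)
  have h0 := h ⟨x, hx⟩
  rw [← LocalizedModule.zero_mk 1, LocalizedModule.mk_eq] at h0
  obtain ⟨u, hu⟩ := h0
  have hu0 : (u : A) • m.1 = 0 := by
    have h2 : u • (1 : x.asHomogeneousIdeal.toIdeal.primeCompl) • m.1 = 0 := by rw [hu]; simp
    rw [one_smul] at h2
    exact h2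
  apply u.2
  show (u : A) ∈ (P.homogeneousCore 𝒜).toIdeal
  rw [← DirectSum.sum_support_decompose 𝒜 (u : A)]
  refine Ideal.sum_mem _ fun j _ => ?_
  apply Ideal.mem_homogeneousCore_of_homogeneous_of_mem ⟨j, (DirectSum.decompose 𝒜 (u : A) j).2⟩
  exact hIP ((hI _).2 (component_smul_eq_zero 𝒜 ℳ m.2 (u : A) hu0 j))

/-- sections of a zero sheaf `M~` vanish -/
lemma sect_eq_zero_of_isZero [DirectSum.Decomposition ℳ] [SetLike.GradedSMul 𝒜 ℳ] (n : ℤ)
    (h : IsZero (GrTilde.tilde 𝒜 ℳ n)) (U : (Opens (ProjectiveSpectrum.top 𝒜))ᵒᵖ)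
    (a : GrTilde.sect 𝒜 ℳ n U) : a = 0 := by
  have h1 : 𝟙 (GrTilde.tilde 𝒜 ℳ n) = 0 := (IsZero.iff_id_eq_zero _).1 h
  have h2 := congrArg (fun φ => (φ.val.app U).hom a) h1
  exact h2

/-- if `M~ = 0` then every homogeneous element dies in every `M_x` -/
lemma exists_smul_eq_zero_of_isZero [DirectSum.Decomposition ℳ] [SetLike.GradedSMul 𝒜 ℳ]
    (hgen : (HomogeneousIdeal.irrelevant 𝒜).toIdeal = Ideal.span (𝒜 1 : Set A))
    (h : IsZero (GrTilde.tilde 𝒜 ℳ 0)) {i : ℕ} (m : ℳ i) (x : ProjectiveSpectrum 𝒜) :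
    ∃ u : A, u ∉ x.asHomogeneousIdeal ∧ u • m.1 = 0 := by
  -- a degree-one element not in `x`
  obtain ⟨g, hg1, hgx⟩ : ∃ g : A, g ∈ 𝒜 1 ∧ g ∉ x.asHomogeneousIdeal := by
    by_contra! hcon
    apply x.not_irrelevant_le
    intro a ha
    have ha' : a ∈ Ideal.span (𝒜 1 : Set A) := hgen ▸ ha
    exact (Ideal.span_le.2 (fun b hb => hcon b hb)) ha'
  have hgi : g ^ i ∈ 𝒜 i := by
    have := SetLike.pow_mem_graded i hg1
    simpa using this
  let U : Opens (ProjectiveSpectrum.top 𝒜) := ProjectiveSpectrum.basicOpen 𝒜 g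
  have hnin : ∀ y : U, g ^ i ∉ y.1.asHomogeneousIdeal := fun y hy =>
    (ProjectiveSpectrum.mem_basicOpen 𝒜 g y.1).mp y.2 (y.1.isPrime.mem_of_pow_mem i hy)
  let a : GrTilde.sect 𝒜 ℳ 0 (op U) :=
    ⟨fun y => ⟨LocalizedModule.mk m.1 ⟨g ^ i, hnin y⟩,
        Submodule.subset_span ⟨i, i, m, ⟨g ^ i, hgi⟩, hnin y, by simp, rfl⟩⟩,
      fun y => ⟨U, y.2, 𝟙 _, i, i, m, ⟨g ^ i, hgi⟩, hnin, Or.inl (by simp), fun _ => rfl⟩⟩
  have ha := sect_eq_zero_of_isZero 𝒜 ℳ 0 h (op U) a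
  have hxU : x ∈ U := (ProjectiveSpectrum.mem_basicOpen 𝒜 g x).mpr hgx
  have h0 : (LocalizedModule.mk m.1 ⟨g ^ i, hnin ⟨x, hxU⟩⟩ : GrTilde.LocMod 𝒜 (M := M) x) = 0 := by
    have := congrArg (fun b : GrTilde.sect 𝒜 ℳ 0 (op U) => ((b.1 ⟨x, hxU⟩).1 : GrTilde.LocMod 𝒜 (M := M) x)) ha
    exact this
  rw [← LocalizedModule.zero_mk 1, LocalizedModule.mk_eq] at h0
  obtain ⟨u, hu⟩ := h0
  refine ⟨u, u.2, ?_⟩
  have h2 : u • (1 : x.asHomogeneousIdeal.toIdeal.primeCompl) • m.1 = 0 := by rw [hu]; simp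
  rw [one_smul] at h2
  exact h2

theorem X3549 [DirectSum.Decomposition ℳ] [SetLike.GradedSMul 𝒜 ℳ]
    (hgen : (HomogeneousIdeal.irrelevant 𝒜).toIdeal = Ideal.span (𝒜 1 : Set A))
    (h : IsZero (GrTilde.tilde 𝒜 ℳ 0)) (z : M) (d : ℕ) (f : A) (hd : 0 < d) (hf : f ∈ 𝒜 d) :
    ∃ k : ℕ, f ^ k • z = 0 := by
  classical
  have hcomp : ∀ i : ℕ, ∃ N : ℕ, f ^ N • (DirectSum.decompose ℳ z i : M) = 0 := by
    intro i
    apply X3587 𝒜 ℳ hd hf 0 i (DirectSum.decompose ℳ z i)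
    intro y
    obtain ⟨u, hux, hu⟩ := exists_smul_eq_zero_of_isZero 𝒜 ℳ hgen h (DirectSum.decompose ℳ z i) y.1
    rw [← LocalizedModule.zero_mk 1, LocalizedModule.mk_eq]
    refine ⟨⟨u, hux⟩, ?_⟩
    rw [smul_zero, smul_zero, one_smul]
    exact hu
  choose N hN using hcomp
  obtain ⟨K, hK⟩ : ∃ K : ℕ, K = (DirectSum.decompose ℳ z).support.sup N := ⟨_, rfl⟩
  refine ⟨K, ?_⟩
  conv_lhs => rw [← DirectSum.sum_support_decompose ℳ z]
  rw [Finset.smul_sum]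
  refine Finset.sum_eq_zero fun i hi => ?_
  rw [hK]
  have hle : N i ≤ (DirectSum.decompose ℳ z).support.sup N := Finset.le_sup hi
  obtain ⟨c, hc⟩ := Nat.exists_eq_add_of_le hle
  rw [hc, pow_add, mul_comm, mul_smul, hN i, smul_zero]

end Groth.Agent.H3.GrTildeAux
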