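import Mathlib

/-!
# A finite graded module with prescribed degree-zero localization

For an `ℕ`-graded `R`-algebra `S`, `f ∈ S_1`, and a ring iso `e : S_(f) ≃+* R'`, we build the ring hom
`θ : S → R'[X]`, `s ∈ S_j ↦ e(s / f^j) X^j`, make `M[X]` an `S`-module through it, and take the
`S`-submodule generated by finitely many constant generators.
-/

set_option autoImplicit false
universe u

open Polynomial

namespace Groth.Agent.H3.GrAway

section theta

variable {R R' : Type u} [CommRing R] [CommRing R']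
  {S : Type u} [CommRing S] [Algebra R S] (𝒜 : ℕ → Submodule R S) [GradedAlgebra 𝒜] {f : S}
  (hf : f ∈ 𝒜 1) (e : HomogeneousLocalization.Away 𝒜 f ≃+* R')

/-- The fraction `s / f^j` for `s ∈ 𝒜 j`. -/
noncomputable def frac (j : ℕ) (s : S) (hs : s ∈ 𝒜 j) : HomogeneousLocalization.Away 𝒜 f :=
  HomogeneousLocalization.Away.mk 𝒜 hf j s (by simpa using hs)

/-- `f ^ j` as an element of `Submonoid.powers f`. -/
def fpow (f : S) (j : ℕ) : Submonoid.powers f := ⟨f ^ j, j, rfl⟩

@[simp] lemma coe_fpow (f : S) (j : ℕ) : ((fpow f j : Submonoid.powers f) : S) = f ^ j := rfl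

lemma fpow_add (f : S) (i j : ℕ) : fpow f (i + j) = fpow f i * fpow f j :=
  Subtype.ext (pow_add f i j)

lemma fpow_zero (f : S) : fpow f 0 = 1 := Subtype.ext (pow_zero f)

lemma exists_fpow (f : S) (t : Submonoid.powers f) : ∃ j, t = fpow f j := by
  obtain ⟨j, hj⟩ := t.2
  exact ⟨j, Subtype.ext hj.symm⟩

lemma frac_val (j : ℕ) (s : S) (hs : s ∈ 𝒜 j) :
    (frac 𝒜 hf j s hs).val = Localization.mk s (fpow f j) := rfl

lemma frac_add (j : ℕ) (s t : S) (hs : s ∈ 𝒜 j) (ht : t ∈ 𝒜 j) :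
    frac 𝒜 hf j (s + t) (add_mem hs ht) = frac 𝒜 hf j s hs + frac 𝒜 hf j t ht := by
  apply HomogeneousLocalization.val_injective
  rw [HomogeneousLocalization.val_add, frac_val, frac_val, frac_val, Localization.add_mk_self]

lemma frac_zero (j : ℕ) : frac 𝒜 hf j 0 (zero_mem _) = 0 := by
  apply HomogeneousLocalization.val_injective
  rw [HomogeneousLocalization.val_zero, frac_val, Localization.mk_zero]

lemma frac_mul (i j : ℕ) (s t : S) (hs : s ∈ 𝒜 i) (ht : t ∈ 𝒜 j) :
    frac 𝒜 hf (i + j) (s * t) (SetLike.mul_mem_graded hs ht)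
      = frac 𝒜 hf i s hs * frac 𝒜 hf j t ht := by
  apply HomogeneousLocalization.val_injective
  rw [HomogeneousLocalization.val_mul, frac_val, frac_val, frac_val, Localization.mk_mul]
  rw [fpow_add]

lemma frac_one : frac 𝒜 hf 0 1 (SetLike.one_mem_graded 𝒜) = 1 := by
  apply HomogeneousLocalization.val_injective
  rw [HomogeneousLocalization.val_one, frac_val, fpow_zero]
  exact Localization.mk_one

lemma frac_self : frac 𝒜 hf 1 f hf = 1 := by
  apply HomogeneousLocalization.val_injective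
  rw [HomogeneousLocalization.val_one, frac_val]
  have : (fpow f 1 : Submonoid.powers f) = ⟨f, Submonoid.mem_powers f⟩ := Subtype.ext (pow_one f)
  rw [this]
  exact Localization.mk_self (⟨f, Submonoid.mem_powers f⟩ : Submonoid.powers f)

lemma frac_congr (i j : ℕ) (h : i = j) (s : S) (hs : s ∈ 𝒜 i) :
    frac 𝒜 hf i s hs = frac 𝒜 hf j s (h ▸ hs) := by
  subst h; rfl

/-- The degree `j` component of `θ`. -/
noncomputable def psi (j : ℕ) : 𝒜 j →+ R'[X] where
  toFun s := monomial j (e (frac 𝒜 hf j s.1 s.2))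
  map_zero' := by
    show monomial j (e (frac 𝒜 hf j 0 _)) = 0
    rw [frac_zero, map_zero, map_zero]
  map_add' s t := by
    show monomial j (e (frac 𝒜 hf j (s.1 + t.1) _)) = _
    rw [frac_add 𝒜 hf j s.1 t.1 s.2 t.2, map_add, map_add]

/-- The ring hom `θ : S → R'[X]`, `s ∈ 𝒜 j ↦ e (s / f^j) X^j`. -/
noncomputable def theta : S →+* R'[X] :=
  (DirectSum.toSemiring (psi 𝒜 hf e)
    (by
      show monomial 0 (e (frac 𝒜 hf 0 1 _)) = 1
      rw [frac_one, map_one]; rfl)
    (by
      intro i j ai aj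
      show monomial (i + j) (e (frac 𝒜 hf (i + j) (ai.1 * aj.1) _))
        = monomial i (e (frac 𝒜 hf i ai.1 ai.2)) * monomial j (e (frac 𝒜 hf j aj.1 aj.2))
      rw [frac_mul 𝒜 hf i j ai.1 aj.1 ai.2 aj.2, map_mul, monomial_mul_monomial])).comp
  (DirectSum.decomposeRingEquiv 𝒜).toRingHom

lemma theta_of_mem (j : ℕ) (s : S) (hs : s ∈ 𝒜 j) :
    theta 𝒜 hf e s = monomial j (e (frac 𝒜 hf j s hs)) := by
  unfold theta
  rw [RingHom.comp_apply]
  have : (DirectSum.decomposeRingEquiv 𝒜).toRingHom s = DirectSum.of (fun i => 𝒜 i) j ⟨s, hs⟩ :=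
    DirectSum.decompose_of_mem 𝒜 hs
  rw [this, DirectSum.toSemiring_of]
  rfl

lemma theta_f : theta 𝒜 hf e f = X := by
  rw [theta_of_mem 𝒜 hf e 1 f hf, frac_self, map_one]
  rfl

end theta

section Tw

variable {R R' : Type u} [CommRing R] [CommRing R'] [Algebra R R']
  {S : Type u} [CommRing S] [Algebra R S]

/-- `M[X]` with `S` acting through `θ : S →+* R'[X]`. -/
def Tw (_θ : S →+* R'[X]) (M : Type u) [AddCommGroup M] [Module R' M] : Type u :=
  PolynomialModule R' M

variable (θ : S →+* R'[X]) (M : Type u) [AddCommGroup M] [Module R' M]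

noncomputable instance : AddCommGroup (Tw θ M) :=
  inferInstanceAs (AddCommGroup (PolynomialModule R' M))

noncomputable instance : Module S (Tw θ M) := Module.compHom (PolynomialModule R' M) θ

noncomputable instance [Module R M] [IsScalarTower R R' M] : Module R (Tw θ M) :=
  inferInstanceAs (Module R (PolynomialModule R' M))

variable {θ M}

/-- Coefficients of an element of the twisted module. -/
def cf (p : Tw θ M) (k : ℕ) : M := PolynomialModule.coeff (R := R') (M := M) p k

/-- The element `m X^k`. -/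
noncomputable def sg (θ : S →+* R'[X]) (k : ℕ) (m : M) : Tw θ M := PolynomialModule.single R' k m

lemma cf_sg (k : ℕ) (m : M) (j : ℕ) : cf (sg θ k m) j = if k = j then m else 0 := by
  unfold cf sg
  rw [PolynomialModule.coeff_single, Finsupp.single_apply]

@[simp] lemma cf_zero (k : ℕ) : cf (0 : Tw θ M) k = 0 := rfl

@[simp] lemma cf_add (p q : Tw θ M) (k : ℕ) : cf (p + q) k = cf p k + cf q k := rfl

lemma cf_ext {p q : Tw θ M} (h : ∀ k, cf p k = cf q k) : p = q := by
  apply PolynomialModule.coeff_injective (R := R') (M := M)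
  exact Finsupp.ext h

lemma sg_zero (k : ℕ) : sg θ k (0 : M) = 0 := by
  unfold sg; exact PolynomialModule.single_zero k

lemma sg_add (k : ℕ) (m m' : M) : sg θ k (m + m') = sg θ k m + sg θ k m' := by
  unfold sg; exact PolynomialModule.single_add k m m'

lemma smul_def' (s : S) (p : Tw θ M) :
    s • p = (show Tw θ M from (θ s • (show PolynomialModule R' M from p))) := rfl

lemma cf_monomial_smul (s : S) (j : ℕ) (a : R') (hs : θ s = monomial j a) (p : Tw θ M) (k : ℕ) :
    cf (s • p) k = if j ≤ k then a • cf p (k - j) else 0 := by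
  rw [smul_def', hs]
  exact PolynomialModule.monomial_smul_apply j a _ k

lemma monomial_smul_sg (s : S) (j : ℕ) (a : R') (hs : θ s = monomial j a) (k : ℕ) (m : M) :
    s • sg θ k m = sg θ (j + k) (a • m) := by
  rw [smul_def', hs]
  exact PolynomialModule.monomial_smul_single j a k m

lemma cf_smulR [Module R M] [IsScalarTower R R' M] (r : R) (p : Tw θ M) (k : ℕ) :
    cf (r • p) k = r • cf p k := rfl

lemma sg_smulR [Module R M] [IsScalarTower R R' M] (r : R) (k : ℕ) (m : M) :
    sg θ k (r • m) = r • sg θ k m := by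
  apply cf_ext
  intro j
  rw [cf_smulR, cf_sg, cf_sg]
  split_ifs <;> simp

lemma eq_sum_sg (p : Tw θ M) :
    p = ∑ k ∈ (PolynomialModule.coeff (R := R') (M := M) p).support, sg θ k (cf p k) := by
  classical
  apply cf_ext
  intro j
  have hsum : ∀ (T : Finset ℕ) (g : ℕ → Tw θ M), cf (∑ k ∈ T, g k) j = ∑ k ∈ T, cf (g k) j := by
    intro T g
    induction T using Finset.induction_on with
    | empty => simp
    | insert a T ha ih => rw [Finset.sum_insert ha, Finset.sum_insert ha, cf_add, ih]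
  rw [hsum]
  simp only [cf_sg]
  rw [Finset.sum_ite_eq']
  split_ifs with h
  · rfl
  · exact Finsupp.notMem_support_iff.mp h

end Tw

section Graded

variable {R R' : Type u} [CommRing R] [CommRing R'] [Algebra R R']
  {S : Type u} [CommRing S] [Algebra R S] (𝒜 : ℕ → Submodule R S) [GradedAlgebra 𝒜]
  {θ : S →+* R'[X]} (hθ : ∀ j s, s ∈ 𝒜 j → θ s = monomial j ((θ s).coeff j))
  {M : Type u} [AddCommGroup M] [Module R' M] [Module R M] [IsScalarTower R R' M]
  {ι : Type} (m : ι → M)

/-- The `S`-submodule of `M[X]` generated by the constants `m i`. -/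
noncomputable def NN (θ : S →+* R'[X]) (m : ι → M) : Submodule S (Tw θ M) :=
  Submodule.span S (Set.range fun i => sg θ 0 (m i))

include hθ in
lemma cf_hom_smul (j : ℕ) (s : S) (hs : s ∈ 𝒜 j) (p : Tw θ M) (k : ℕ) :
    cf (s • p) k = if j ≤ k then (θ s).coeff j • cf p (k - j) else 0 :=
  cf_monomial_smul s j _ (hθ j s hs) p k

include hθ in
lemma sg_cf_mem (p : Tw θ M) (hp : p ∈ NN θ m) : ∀ k, sg θ k (cf p k) ∈ NN θ m := by
  induction hp using Submodule.span_induction with
  | mem x hx =>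
    intro k
    obtain ⟨i, rfl⟩ := hx
    rw [cf_sg]
    split_ifs with h
    · subst h; exact Submodule.subset_span ⟨i, rfl⟩
    · rw [sg_zero]; exact zero_mem _
  | zero => intro k; rw [cf_zero, sg_zero]; exact zero_mem _
  | add x y _ _ hx hy => intro k; rw [cf_add, sg_add]; exact add_mem (hx k) (hy k)
  | smul s x _ hx =>
    induction s using DirectSum.Decomposition.inductionOn 𝒜 with
    | zero => intro k; rw [zero_smul, cf_zero, sg_zero]; exact zero_mem _
    | @homogeneous j s' =>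
      intro k
      rw [cf_hom_smul 𝒜 hθ j s'.1 s'.2]
      split_ifs with h
      · have : sg θ k ((θ s'.1).coeff j • cf x (k - j)) = s'.1 • sg θ (k - j) (cf x (k - j)) := by
          rw [monomial_smul_sg _ j _ (hθ j s'.1 s'.2), Nat.add_sub_cancel' h]
        rw [this]
        exact Submodule.smul_mem _ _ (hx _)
      · rw [sg_zero]; exact zero_mem _
    | add s t hs ht => intro k; rw [add_smul, cf_add, sg_add]; exact add_mem (hs k) (ht k)

variable [IsScalarTower R S (Tw θ M)]

/-- The graded pieces of `NN θ m`. -/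
def grd (θ : S →+* R'[X]) [IsScalarTower R S (Tw θ M)] (m : ι → M) (k : ℕ) :
    Submodule R (NN θ m) where
  carrier := {n | ∀ j, j ≠ k → cf (n : Tw θ M) j = 0}
  zero_mem' := fun j _ => rfl
  add_mem' := fun {a b} ha hb j hj => by
    rw [Submodule.coe_add, cf_add, ha j hj, hb j hj, add_zero]
  smul_mem' := fun r a ha j hj => by
    rw [Submodule.coe_smul_of_tower, cf_smulR, ha j hj, smul_zero]

lemma mem_grd_iff (k : ℕ) (n : NN θ m) :
    n ∈ grd (R := R) θ m k ↔ ∀ j, j ≠ k → cf (n : Tw θ M) j = 0 := Iff.rfl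

lemma eq_sg_of_mem_grd (k : ℕ) (n : NN θ m) (hn : n ∈ grd (R := R) θ m k) :
    (n : Tw θ M) = sg θ k (cf (n : Tw θ M) k) := by
  apply cf_ext
  intro j
  rw [cf_sg]
  split_ifs with h
  · subst h; rfl
  · exact hn j (Ne.symm h)

/-- The homogeneous component of degree `k`. -/
noncomputable def hcomp (k : ℕ) (n : NN θ m) : NN θ m :=
  ⟨sg θ k (cf (n : Tw θ M) k), sg_cf_mem 𝒜 hθ m n.1 n.2 k⟩

lemma hcomp_mem (k : ℕ) (n : NN θ m) : hcomp 𝒜 hθ m k n ∈ grd (R := R) θ m k := by
  intro j hj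
  show cf (sg θ k (cf (n : Tw θ M) k)) j = 0
  rw [cf_sg, if_neg (Ne.symm hj)]

lemma eq_sum_hcomp (n : NN θ m) :
    n = ∑ k ∈ (PolynomialModule.coeff (R := R') (M := M) (n : Tw θ M)).support,
      hcomp 𝒜 hθ m k n := by
  apply Subtype.ext
  rw [Submodule.coe_sum]
  exact eq_sum_sg (n : Tw θ M)

include hθ in
lemma iSup_grd : iSup (grd (R := R) θ m) = ⊤ := by
  rw [eq_top_iff]
  intro n _
  rw [eq_sum_hcomp 𝒜 hθ m n]
  exact Submodule.sum_mem _ fun k _ =>
    Submodule.mem_iSup_of_mem k (hcomp_mem 𝒜 hθ m k n)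

/-- The coefficient functional on `NN θ m`. -/
def cfL (θ : S →+* R'[X]) [IsScalarTower R S (Tw θ M)] (m : ι → M) (k : ℕ) : NN θ m →ₗ[R] M where
  toFun n := cf (n : Tw θ M) k
  map_add' a b := by rw [Submodule.coe_add, cf_add]
  map_smul' r a := by rw [Submodule.coe_smul_of_tower, cf_smulR]; rfl

lemma iSupIndep_grd : iSupIndep (grd (R := R) θ m) := by
  intro i
  rw [Submodule.disjoint_def]
  intro x hx hx'
  have hle : (⨆ j, ⨆ (_ : j ≠ i), grd (R := R) θ m j) ≤ LinearMap.ker (cfL (R := R) θ m i) := by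
    refine iSup₂_le fun j hj y hy => ?_
    exact hy i (Ne.symm hj)
  have h0 : cf (x : Tw θ M) i = 0 := hle hx'
  apply Subtype.ext
  apply cf_ext
  intro j
  by_cases h : j = i
  · subst h; exact h0
  · exact hx j h

/-- The decomposition of `NN θ m` into graded pieces. -/
noncomputable def decomp : DirectSum.Decomposition (grd (R := R) θ m) :=
  (DirectSum.isInternal_submodule_of_iSupIndep_of_iSup_eq_top (iSupIndep_grd m)
    (iSup_grd 𝒜 hθ m)).chooseDecomposition

include hθ in
lemma gradedSMul : SetLike.GradedSMul 𝒜 (grd (R := R) θ m) where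
  smul_mem := by
    intro i j s n hs hn k hk
    rw [vadd_eq_add] at hk
    rw [Submodule.coe_smul, cf_hom_smul 𝒜 hθ i s hs]
    split_ifs with h
    · rw [hn (k - i) (by omega), smul_zero]
    · rfl

end Graded

section Loc

variable {R R' : Type u} [CommRing R] [CommRing R'] [Algebra R R']
  {S : Type u} [CommRing S] [Algebra R S] (𝒜 : ℕ → Submodule R S) [GradedAlgebra 𝒜]
  {θ : S →+* R'[X]} (hθ : ∀ j s, s ∈ 𝒜 j → θ s = monomial j ((θ s).coeff j))
  {M : Type u} [AddCommGroup M] [Module R' M] [Module R M] [IsScalarTower R R' M]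
  {ι : Type} (m : ι → M) {f : S} (hf : f ∈ 𝒜 1) (hθf : θ f = X)

/-- Evaluation at `X = 1` on the ring side. -/
noncomputable def eps (θ : S →+* R'[X]) : S →+* R' := (Polynomial.evalRingHom 1).comp θ

/-- Evaluation at `X = 1` on the module side. -/
noncomputable def ev (p : Tw θ M) : M := PolynomialModule.eval (1 : R') (show PolynomialModule R' M from p)

lemma ev_smul (s : S) (p : Tw θ M) : ev (s • p) = eps θ s • ev p :=
  PolynomialModule.eval_smul (θ s) _ 1

@[simp] lemma ev_zero : ev (0 : Tw θ M) = 0 := map_zero (PolynomialModule.eval (1 : R'))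

@[simp] lemma ev_add (p q : Tw θ M) : ev (p + q) = ev p + ev q :=
  map_add (PolynomialModule.eval (1 : R')) _ _

lemma ev_smulR (r : R) (p : Tw θ M) : ev (r • p) = r • ev p := by
  have h1 : r • (show PolynomialModule R' M from p) = algebraMap R R' r • (show PolynomialModule R' M from p) :=
    (algebraMap_smul R' r _).symm
  show PolynomialModule.eval (1 : R') (r • (show PolynomialModule R' M from p)) = _
  rw [h1, map_smul, algebraMap_smul]
  rfl

lemma ev_sg (k : ℕ) (c : M) : ev (sg θ k c) = c := by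
  unfold ev sg
  rw [PolynomialModule.eval_single, one_pow, one_smul]

include hθf in
lemma eps_pow (k : ℕ) : eps θ (f ^ k) = 1 := by
  unfold eps
  rw [map_pow, RingHom.comp_apply, hθf]
  simp

include hθf in
lemma eps_powers (t : Submonoid.powers f) : eps θ (t : S) = 1 := by
  obtain ⟨k, rfl⟩ := exists_fpow f t
  exact eps_pow hθf k

include hθ in
lemma eps_of_mem (k : ℕ) (s : S) (hs : s ∈ 𝒜 k) : eps θ s = (θ s).coeff k := by
  unfold eps
  rw [RingHom.comp_apply, hθ k s hs]
  simp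

variable [IsScalarTower R S (Tw θ M)]

/-- Evaluation at `X = 1` on the localized module. -/
noncomputable def evLoc (x : LocalizedModule (Submonoid.powers f) (NN θ m)) : M :=
  x.liftOn (fun p => ev (p.1 : Tw θ M)) (by
    rintro ⟨a, s⟩ ⟨b, t⟩ ⟨u, hu⟩
    have h := congrArg (fun n : NN θ m => ev (n : Tw θ M)) hu
    simp only [Submonoid.smul_def, Submodule.coe_smul, ev_smul, eps_powers hθf, one_smul] at h
    exact h)

lemma evLoc_mk (n : NN θ m) (t : Submonoid.powers f) :
    evLoc m hθf (LocalizedModule.mk n t) = ev (n : Tw θ M) :=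
  LocalizedModule.liftOn_mk _ _ _

lemma evLoc_add (x y : LocalizedModule (Submonoid.powers f) (NN θ m)) :
    evLoc m hθf (x + y) = evLoc m hθf x + evLoc m hθf y := by
  induction x, y using LocalizedModule.induction_on₂ with | _ a b s t
  rw [LocalizedModule.mk_add_mk, evLoc_mk, evLoc_mk, evLoc_mk]
  simp only [Submonoid.smul_def, Submodule.coe_add, Submodule.coe_smul, ev_add, ev_smul,
    eps_powers hθf, one_smul]

lemma evLoc_smulR (r : R) (x : LocalizedModule (Submonoid.powers f) (NN θ m)) :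
    evLoc m hθf (r • x) = r • evLoc m hθf x := by
  induction x with | _ a s
  rw [LocalizedModule.smul'_mk, evLoc_mk, evLoc_mk, Submodule.coe_smul_of_tower, ev_smulR]

lemma evLoc_mk_smul (s : S) (t : Submonoid.powers f)
    (x : LocalizedModule (Submonoid.powers f) (NN θ m)) :
    evLoc m hθf (Localization.mk s t • x) = eps θ s • evLoc m hθf x := by
  induction x with | _ a u
  rw [LocalizedModule.mk_smul_mk, evLoc_mk, evLoc_mk, Submodule.coe_smul, ev_smul]

/-- `evLoc` as an `R`-linear map. -/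
noncomputable def evLocL : LocalizedModule (Submonoid.powers f) (NN θ m) →ₗ[R] M where
  toFun := evLoc m hθf
  map_add' := evLoc_add m hθf
  map_smul' := evLoc_smulR m hθf

include hθ hf in
lemma pow_smul_mem_grd (k j : ℕ) (n : NN θ m) (hn : n ∈ grd (R := R) θ m j) :
    f ^ k • n ∈ grd (R := R) θ m (k + j) := by
  have h1 : f ^ k ∈ 𝒜 k := by
    have := SetLike.pow_mem_graded k hf
    rwa [smul_eq_mul, mul_one] at this
  exact (gradedSMul 𝒜 hθ m).smul_mem h1 hn

/-- The degree-zero part of the localization of `NN θ m` at `f`. -/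
def Nf : Submodule R (LocalizedModule (Submonoid.powers f) (NN θ m)) where
  carrier := {x | ∃ k, ∃ n ∈ grd (R := R) θ m k, x = LocalizedModule.mk n (fpow f k)}
  zero_mem' := ⟨0, 0, zero_mem _, (LocalizedModule.zero_mk _).symm⟩
  add_mem' := by
    rintro _ _ ⟨k, n, hn, rfl⟩ ⟨k', n', hn', rfl⟩
    refine ⟨k + k', f ^ k' • n + f ^ k • n', ?_, ?_⟩
    · refine add_mem ?_ (pow_smul_mem_grd 𝒜 hθ m hf k k' n' hn')
      rw [add_comm k k']
      exact pow_smul_mem_grd 𝒜 hθ m hf k' k n hn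
    · rw [LocalizedModule.mk_add_mk, fpow_add]
      rfl
  smul_mem' := by
    rintro r _ ⟨k, n, hn, rfl⟩
    exact ⟨k, r • n, Submodule.smul_mem _ r hn, LocalizedModule.smul'_mk r n _⟩

lemma mem_Nf_iff' (x : LocalizedModule (Submonoid.powers f) (NN θ m)) :
    x ∈ Nf 𝒜 hθ m hf ↔ ∃ k, ∃ n ∈ grd (R := R) θ m k, x = LocalizedModule.mk n (fpow f k) :=
  Iff.rfl

lemma pow_smul_mk (k : ℕ) (n : NN θ m) :
    f ^ k • (LocalizedModule.mk n (fpow f k) : LocalizedModule (Submonoid.powers f) (NN θ m))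
      = LocalizedModule.mk n 1 := by
  rw [LocalizedModule.smul'_mk]
  exact LocalizedModule.mk_cancel (fpow f k) n

lemma pow_smul_eq_iff (k : ℕ) (n : NN θ m)
    (x : LocalizedModule (Submonoid.powers f) (NN θ m)) :
    f ^ k • x = LocalizedModule.mk n 1 ↔ x = LocalizedModule.mk n (fpow f k) := by
  constructor
  · intro h
    rw [← pow_smul_mk m k n] at h
    exact (IsLocalizedModule.smul_inj
      (LocalizedModule.mkLinearMap (Submonoid.powers f) (NN θ m)) (fpow f k) _ _).mp h
  · rintro rfl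
    exact pow_smul_mk m k n

lemma mem_Nf_iff (x : LocalizedModule (Submonoid.powers f) (NN θ m)) :
    x ∈ Nf 𝒜 hθ m hf ↔ ∃ k : ℕ, ∃ n ∈ grd (R := R) θ m k, f ^ k • x = LocalizedModule.mk n 1 := by
  rw [mem_Nf_iff']
  constructor
  · rintro ⟨k, n, hn, h⟩
    exact ⟨k, n, hn, (pow_smul_eq_iff m k n x).mpr h⟩
  · rintro ⟨k, n, hn, h⟩
    exact ⟨k, n, hn, (pow_smul_eq_iff m k n x).mp h⟩

lemma evLoc_eq_zero_of_mem (x : LocalizedModule (Submonoid.powers f) (NN θ m))
    (hx : x ∈ Nf 𝒜 hθ m hf) (h0 : evLoc m hθf x = 0) : x = 0 := by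
  obtain ⟨k, n, hn, rfl⟩ := hx
  rw [evLoc_mk, eq_sg_of_mem_grd m k n hn, ev_sg] at h0
  have : n = 0 := by
    apply Subtype.ext
    rw [eq_sg_of_mem_grd m k n hn, h0, sg_zero]
    rfl
  rw [this, LocalizedModule.zero_mk]

include hθ hf in
lemma mk_smul_mem_Nf (k : ℕ) (s : S) (hs : s ∈ 𝒜 k)
    (x : LocalizedModule (Submonoid.powers f) (NN θ m)) (hx : x ∈ Nf 𝒜 hθ m hf) :
    Localization.mk s (fpow f k) • x ∈ Nf 𝒜 hθ m hf := by
  obtain ⟨j, n, hn, rfl⟩ := hx
  refine ⟨k + j, s • n, (gradedSMul 𝒜 hθ m).smul_mem hs hn, ?_⟩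
  rw [LocalizedModule.mk_smul_mk, fpow_add]

lemma exists_evLoc_eq (hsurj : ∀ r : R', ∃ k, ∃ s ∈ 𝒜 k, (θ s).coeff k = r)
    (y : M) (hy : y ∈ Submodule.span R' (Set.range m)) :
    ∃ x ∈ Nf 𝒜 hθ m hf, evLoc m hθf x = y := by
  induction hy using Submodule.span_induction with
  | mem y hy =>
    obtain ⟨i, rfl⟩ := hy
    refine ⟨LocalizedModule.mk ⟨sg θ 0 (m i), Submodule.subset_span ⟨i, rfl⟩⟩ (fpow f 0),
      ⟨0, _, ?_, rfl⟩, ?_⟩
    · intro j hj
      show cf (sg θ 0 (m i)) j = 0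
      rw [cf_sg, if_neg (Ne.symm hj)]
    · rw [evLoc_mk]
      exact ev_sg 0 (m i)
  | zero => exact ⟨0, zero_mem _, (evLocL (R := R) m hθf).map_zero⟩
  | add y z _ _ hy hz =>
    obtain ⟨x, hx, rfl⟩ := hy
    obtain ⟨x', hx', rfl⟩ := hz
    exact ⟨x + x', add_mem hx hx', evLoc_add m hθf x x'⟩
  | smul r y _ hy =>
    obtain ⟨x, hx, rfl⟩ := hy
    obtain ⟨k, s, hs, rfl⟩ := hsurj r
    refine ⟨Localization.mk s (fpow f k) • x, mk_smul_mem_Nf 𝒜 hθ m hf k s hs x hx, ?_⟩
    rw [evLoc_mk_smul, eps_of_mem 𝒜 hθ k s hs]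

/-- The linear equivalence between the degree zero part of the localization and `M`. -/
noncomputable def eqv (hsurj : ∀ r : R', ∃ k, ∃ s ∈ 𝒜 k, (θ s).coeff k = r)
    (hm : Submodule.span R' (Set.range m) = ⊤) : ↥(Nf 𝒜 hθ m hf) ≃ₗ[R] M :=
  LinearEquiv.ofBijective ((evLocL m hθf).comp (Nf 𝒜 hθ m hf).subtype) (by
    constructor
    · refine (injective_iff_map_eq_zero _).mpr ?_
      intro x hx
      exact Subtype.ext (evLoc_eq_zero_of_mem 𝒜 hθ m hf hθf x.1 x.2 hx)
    · intro y
      obtain ⟨x, hx, h⟩ := exists_evLoc_eq 𝒜 hθ m hf hθf hsurj y (hm ▸ Submodule.mem_top)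
      exact ⟨⟨x, hx⟩, h⟩)

lemma eqv_apply (hsurj : ∀ r : R', ∃ k, ∃ s ∈ 𝒜 k, (θ s).coeff k = r)
    (hm : Submodule.span R' (Set.range m) = ⊤) (x : ↥(Nf 𝒜 hθ m hf)) :
    eqv 𝒜 hθ m hf hθf hsurj hm x = evLoc m hθf x.1 := rfl

end Loc

section Main

lemma isScalarTower_of {R R' : Type u} [CommRing R] [CommRing R'] [Algebra R R']
    {S : Type u} [CommRing S] [Algebra R S] (θ : S →+* R'[X])
    (M : Type u) [AddCommGroup M] [Module R' M] [Module R M] [IsScalarTower R R' M]
    (h : ∀ r : R, θ (algebraMap R S r) = C (algebraMap R R' r)) :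
    IsScalarTower R S (Tw θ M) := by
  constructor
  intro r s p
  rw [Algebra.smul_def, smul_def', map_mul, h, smul_def']
  show (C (algebraMap R R' r) * θ s) • (show PolynomialModule R' M from p)
    = r • (θ s • (show PolynomialModule R' M from p))
  rw [mul_smul, ← Polynomial.algebraMap_apply, algebraMap_smul]

theorem main (R R' : Type u) [CommRing R] [CommRing R']
    [Algebra R R']
    (M : Type u) [AddCommGroup M] [Module R' M] [Module R M] [IsScalarTower R R' M]
    [Module.Finite R' M]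
    (S : Type u) [CommRing S] [Algebra R S] (𝒜 : ℕ → Submodule R S) [GradedAlgebra 𝒜] (f : S)
    (hf : f ∈ 𝒜 1)
    (e : HomogeneousLocalization.Away 𝒜 f ≃+* R')
    (he : ∀ r : R, (e.symm (algebraMap R R' r)).val
      = algebraMap S (Localization.Away f) (algebraMap R S r)) :
    ∃ (N : Type u) (_ : AddCommGroup N) (_ : Module S N) (_ : Module R N) (_ : IsScalarTower R S N)
      (ℳ : ℕ → Submodule R N) (_ : DirectSum.Decomposition ℳ) (_ : SetLike.GradedSMul 𝒜 ℳ)
      (Nf : Submodule R (LocalizedModule (Submonoid.powers f) N)) (e' : ↥Nf ≃ₗ[R] M),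
      Module.Finite S N ∧
      (∀ x, x ∈ Nf ↔ ∃ k : ℕ, ∃ n ∈ ℳ k, f ^ k • x = LocalizedModule.mk n 1) ∧
      (∀ (a : HomogeneousLocalization.Away 𝒜 f) (x y : ↥Nf),
        a.val • (x : LocalizedModule (Submonoid.powers f) N) = y → e' y = e a • e' x) := by
  classical
  obtain ⟨n, m, hm⟩ := Module.Finite.exists_fin (R := R') (M := M)
  set θ := theta 𝒜 hf e with hθdef
  have hcoeff : ∀ j s (hs : s ∈ 𝒜 j), (θ s).coeff j = e (frac 𝒜 hf j s hs) := by
    intro j s hs
    rw [hθdef, theta_of_mem 𝒜 hf e j s hs, coeff_monomial, if_pos rfl]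
  have hθ : ∀ j s, s ∈ 𝒜 j → θ s = monomial j ((θ s).coeff j) := by
    intro j s hs
    rw [hcoeff j s hs, hθdef, theta_of_mem 𝒜 hf e j s hs]
  have hθf : θ f = X := theta_f 𝒜 hf e
  have hR : ∀ r : R, θ (algebraMap R S r) = C (algebraMap R R' r) := by
    intro r
    have h0 : algebraMap R S r ∈ 𝒜 0 := SetLike.algebraMap_mem_graded 𝒜 r
    rw [hθdef, theta_of_mem 𝒜 hf e 0 _ h0]
    have : frac 𝒜 hf 0 (algebraMap R S r) h0 = e.symm (algebraMap R R' r) := by
      apply HomogeneousLocalization.val_injective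
      rw [he r, frac_val, fpow_zero, Localization.mk_one_eq_algebraMap]
    rw [this, RingEquiv.apply_symm_apply]
    rfl
  have : IsScalarTower R S (Tw θ M) := isScalarTower_of θ M hR
  have hsurj : ∀ r : R', ∃ k, ∃ s ∈ 𝒜 k, (θ s).coeff k = r := by
    intro r
    obtain ⟨k, s, hs, h⟩ := HomogeneousLocalization.Away.mk_surjective 𝒜 hf (e.symm r)
    have hs' : s ∈ 𝒜 k := by simpa using hs
    refine ⟨k, s, hs', ?_⟩
    rw [hcoeff k s hs']
    have : frac 𝒜 hf k s hs' = e.symm r := h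
    rw [this, RingEquiv.apply_symm_apply]
  refine ⟨↥(NN θ m), inferInstance, inferInstance, inferInstance, inferInstance,
    grd (R := R) θ m, decomp 𝒜 hθ m, gradedSMul 𝒜 hθ m, Nf 𝒜 hθ m hf,
    eqv 𝒜 hθ m hf hθf hsurj hm, ?_, ?_, ?_⟩
  · exact Module.Finite.span_of_finite S (Set.finite_range _)
  · exact mem_Nf_iff 𝒜 hθ m hf
  · intro a x y hxy
    obtain ⟨k, s, hs, h⟩ := HomogeneousLocalization.Away.mk_surjective 𝒜 hf a
    have hs' : s ∈ 𝒜 k := by simpa using hs
    have ha : frac 𝒜 hf k s hs' = a := h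
    rw [eqv_apply, eqv_apply, ← hxy, ← ha, frac_val, evLoc_mk_smul, eps_of_mem 𝒜 hθ k s hs',
      hcoeff k s hs']

end Main

end Groth.Agent.H3.GrAway
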