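import Mathlib

/-!
# Generic lemmas on graded modules over group-graded rings

For a ring `A` graded by an additive commutative group `ι` and a graded `A`-module `P`, we record how
the homogeneous components `pr d` interact with scalar multiplication.
-/

set_option autoImplicit false
universe u v

namespace Groth.Agent.H3.GrFree

section Generic

variable {ι : Type*} [AddCommGroup ι] [DecidableEq ι]
  {R : Type*} {A : Type*} [CommRing R] [CommRing A] [Algebra R A]
  (𝒜 : ι → Submodule R A) [GradedAlgebra 𝒜]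
  {P : Type*} [AddCommGroup P] [Module A P] [Module R P]
  (ℳ : ι → Submodule R P) [DirectSum.Decomposition ℳ] [SetLike.GradedSMul 𝒜 ℳ]

/-- The homogeneous component of degree `d`. -/
def pr (d : ι) (y : P) : P := (DirectSum.decompose ℳ y d : P)

lemma pr_mem (d : ι) (y : P) : pr ℳ d y ∈ ℳ d := (DirectSum.decompose ℳ y d).2

@[simp] lemma pr_zero (d : ι) : pr ℳ d (0 : P) = 0 := by
  unfold pr; rw [DirectSum.decompose_zero]; rfl

lemma pr_add (d : ι) (y z : P) : pr ℳ d (y + z) = pr ℳ d y + pr ℳ d z := by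
  unfold pr; rw [DirectSum.decompose_add]; rfl

lemma pr_sum {κ : Type*} (s : Finset κ) (g : κ → P) (d : ι) :
    pr ℳ d (∑ i ∈ s, g i) = ∑ i ∈ s, pr ℳ d (g i) := by
  classical
  induction s using Finset.induction_on with
  | empty => simp
  | insert a s ha ih => rw [Finset.sum_insert ha, Finset.sum_insert ha, pr_add, ih]

lemma pr_of_mem_same {d : ι} {y : P} (hy : y ∈ ℳ d) : pr ℳ d y = y :=
  DirectSum.decompose_of_mem_same ℳ hy

lemma pr_of_mem_ne {d e : ι} {y : P} (hy : y ∈ ℳ e) (h : e ≠ d) : pr ℳ d y = 0 :=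
  DirectSum.decompose_of_mem_ne ℳ hy h

lemma sum_pr (y : P) : ∃ s : Finset ι, y = ∑ d ∈ s, pr ℳ d y := by
  classical
  exact ⟨(DirectSum.decompose ℳ y).support, (DirectSum.sum_support_decompose ℳ y).symm⟩

/-- Components of `a • z` for `a` homogeneous of degree `i`. -/
lemma pr_hom_smul {i : ι} {a : A} (ha : a ∈ 𝒜 i) (d : ι) (z : P) :
    pr ℳ d (a • z) = a • pr ℳ (d - i) z := by
  induction z using DirectSum.Decomposition.inductionOn ℳ with
  | zero => simp
  | @homogeneous e y =>
    have h1 : a • (y : P) ∈ ℳ (i + e) := by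
      have := SetLike.GradedSMul.smul_mem (A := 𝒜) (B := ℳ) ha y.2
      simpa [vadd_eq_add] using this
    by_cases h : i + e = d
    · rw [← h, pr_of_mem_same ℳ h1, add_sub_cancel_left, pr_of_mem_same ℳ y.2]
    · rw [pr_of_mem_ne ℳ h1 h, pr_of_mem_ne ℳ y.2 (by intro h'; apply h; rw [h']; abel), smul_zero]
  | add y z hy hz => rw [smul_add, pr_add, pr_add, hy, hz, smul_add]

include 𝒜 in
/-- The span of homogeneous elements is stable under taking homogeneous components. -/
lemma pr_mem_span {κ : Type*} (f : κ → P) (dg : κ → ι) (hf : ∀ j, f j ∈ ℳ (dg j))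
    (z : P) (hz : z ∈ Submodule.span A (Set.range f)) :
    ∀ d, pr ℳ d z ∈ Submodule.span A (Set.range f) := by
  induction hz using Submodule.span_induction with
  | mem x hx =>
    intro d
    obtain ⟨j, rfl⟩ := hx
    by_cases h : dg j = d
    · rw [← h, pr_of_mem_same ℳ (hf j)]; exact Submodule.subset_span ⟨j, rfl⟩
    · rw [pr_of_mem_ne ℳ (hf j) h]; exact zero_mem _
  | zero => intro d; rw [pr_zero]; exact zero_mem _
  | add x y _ _ hx hy => intro d; rw [pr_add]; exact add_mem (hx d) (hy d)
  | smul a x _ hx =>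
    induction a using DirectSum.Decomposition.inductionOn 𝒜 with
    | zero => intro d; rw [zero_smul, pr_zero]; exact zero_mem _
    | @homogeneous i a' =>
      intro d
      rw [pr_hom_smul 𝒜 ℳ a'.2]
      exact Submodule.smul_mem _ _ (hx _)
    | add a b ha hb => intro d; rw [add_smul, pr_add]; exact add_mem (ha d) (hb d)

/-- Components of `c • f` for `f` homogeneous of degree `e`. -/
lemma pr_smul_hom {e : ι} {f : P} (hf : f ∈ ℳ e) (c : A) (d : ι) :
    pr ℳ d (c • f) = (DirectSum.decompose 𝒜 c (d - e) : A) • f := by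
  induction c using DirectSum.Decomposition.inductionOn 𝒜 with
  | zero => simp [DirectSum.decompose_zero]
  | @homogeneous i a =>
    rw [pr_hom_smul 𝒜 ℳ a.2]
    by_cases h : i = d - e
    · subst h
      rw [DirectSum.decompose_of_mem_same 𝒜 a.2, sub_sub_cancel, pr_of_mem_same ℳ hf]
    · rw [DirectSum.decompose_of_mem_ne 𝒜 a.2 h, zero_smul,
        pr_of_mem_ne ℳ hf (by intro h'; apply h; rw [h']; abel), smul_zero]
  | add a b ha hb =>
    rw [add_smul, pr_add, ha, hb, DirectSum.decompose_add, DirectSum.add_apply,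
      Submodule.coe_add, add_smul]

/-- If `g • y = 0` with `y` homogeneous then the degree zero part of `g` kills `y`. -/
lemma decompose_zero_smul_eq_zero {d : ι} {y : P} (hy : y ∈ ℳ d) (g : A) (h : g • y = 0) :
    (DirectSum.decompose 𝒜 g 0 : A) • y = 0 := by
  have := pr_smul_hom 𝒜 ℳ hy g d
  rw [h, pr_zero, sub_self] at this
  exact this.symm

/-- If `g • y ∈ F` with `y` homogeneous and `F` spanned by homogeneous elements, then the degree
zero part of `g` maps `y` into `F`. -/
lemma decompose_zero_smul_mem_span {κ : Type*} (f : κ → P) (dg : κ → ι)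
    (hf : ∀ j, f j ∈ ℳ (dg j)) {d : ι} {y : P} (hy : y ∈ ℳ d) (g : A)
    (h : g • y ∈ Submodule.span A (Set.range f)) :
    (DirectSum.decompose 𝒜 g 0 : A) • y ∈ Submodule.span A (Set.range f) := by
  have h1 := pr_mem_span 𝒜 ℳ f dg hf _ h d
  rwa [pr_smul_hom 𝒜 ℳ hy g d, sub_self] at h1

end Generic

end Groth.Agent.H3.GrFree
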