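import Mathlib

/-!
# Local bases of finite projective modules, elementwise form
-/

set_option autoImplicit false
universe u v w

namespace Groth.Agent.H3.GrFree

section LocalBasis

variable {A : Type u} [CommRing A] {P : Type v} [AddCommGroup P] [Module A P]
  [Module.Finite A P] [Module.Projective A P]

/-- Given a spanning family `v` of a finite projective module `P` and a prime `q`, some finite
subfamily is a basis of `P` at `q`, expressed elementwise. -/
theorem exists_local_basis (q : Ideal A) [q.IsPrime] {ι : Type w} (v : ι → P)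
    (hv : Submodule.span A (Set.range v) = ⊤) :
    ∃ (m : ℕ) (a : Fin m → ι),
      (∀ c : Fin m → A, ∑ i, c i • v (a i) = 0 → ∃ g : A, g ∉ q ∧ ∀ i, g * c i = 0) ∧
      (∀ y : P, ∃ g : A, g ∉ q ∧ g • y ∈ Submodule.span A (Set.range (v ∘ a))) := by
  classical
  let Aq := Localization.AtPrime q
  let Pq := LocalizedModule q.primeCompl P
  let mk : P →ₗ[A] Pq := LocalizedModule.mkLinearMap q.primeCompl P
  have : Module.FinitePresentation A P := Module.finitePresentation_of_projective A P
  have hspan : Submodule.span Aq (Set.range (mk ∘ v)) = ⊤ := by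
    rw [Set.range_comp, ← Submodule.localized'_span Aq q.primeCompl mk, hv,
      Submodule.localized'_top]
  obtain ⟨κ, a, b, hb⟩ := Module.exists_basis_of_span_of_flat (R := Aq) (M := Pq) (mk ∘ v) hspan
  have : Finite κ := Module.Finite.finite_basis b
  haveI : Fintype κ := Fintype.ofFinite κ
  let e : κ ≃ Fin (Fintype.card κ) := Fintype.equivFin κ
  let b' : Module.Basis (Fin (Fintype.card κ)) Aq Pq := b.reindex e
  have hb' : ∀ i, b' i = mk (v (a (e.symm i))) := by
    intro i
    rw [Module.Basis.reindex_apply, hb]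
    rfl
  refine ⟨Fintype.card κ, a ∘ e.symm, ?_, ?_⟩
  · intro c hc
    have h1 : ∑ i, algebraMap A Aq (c i) • b' i = 0 := by
      have := congrArg mk hc
      rw [map_sum, map_zero] at this
      rw [← this]
      refine Finset.sum_congr rfl fun i _ => ?_
      rw [hb', algebraMap_smul, map_smul]
      rfl
    have h2 : ∀ i, algebraMap A Aq (c i) = 0 := by
      intro i
      exact Fintype.linearIndependent_iff.mp b'.linearIndependent _ h1 i
    have h3 : ∀ i, ∃ g : q.primeCompl, (g : A) * c i = 0 := fun i =>
      (IsLocalization.map_eq_zero_iff q.primeCompl Aq (c i)).mp (h2 i)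
    choose g hg using h3
    refine ⟨∏ i, (g i : A), ?_, ?_⟩
    · have : (∏ i, (g i : A)) ∈ q.primeCompl :=
        Submonoid.prod_mem _ fun i _ => (g i).2
      exact this
    · intro i
      rw [← Finset.prod_erase_mul _ _ (Finset.mem_univ i), mul_assoc, hg i, mul_zero]
  · intro y
    have h1 : mk y ∈ Submodule.span Aq (Set.range b') := by
      rw [b'.span_eq]; exact Submodule.mem_top
    have h2 : Set.range b' = mk '' (Set.range (v ∘ (a ∘ e.symm))) := by
      ext x
      constructor
      · rintro ⟨i, rfl⟩
        exact ⟨v (a (e.symm i)), ⟨i, rfl⟩, (hb' i).symm⟩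
      · rintro ⟨_, ⟨i, rfl⟩, rfl⟩
        exact ⟨i, hb' i⟩
    rw [h2, ← Submodule.localized'_span Aq q.primeCompl mk, Submodule.mem_localized'] at h1
    obtain ⟨z, hz, s, hzs⟩ := h1
    rw [IsLocalizedModule.mk'_eq_iff] at hzs
    have h3 : mk z = mk ((s : A) • y) := by
      rw [hzs, map_smul]; rfl
    obtain ⟨t, ht⟩ := (IsLocalizedModule.eq_iff_exists q.primeCompl mk).mp h3
    refine ⟨(t : A) * (s : A), ?_, ?_⟩
    · exact (t * s).2
    · rw [mul_smul]
      have : (t : A) • (s : A) • y = (t : A) • z := ht.symm
      rw [this]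
      exact Submodule.smul_mem _ _ hz

end LocalBasis

section Uniform

variable {A : Type u} [CommRing A] {P : Type v} [AddCommGroup P] [Module A P]
  [Module.Projective A P]

/-- If `r1 • P` lies in the span of `f` and every relation among the `f i` is killed by an element
of a submonoid `S`, then a single element of `S` times `r1` kills all relations. -/
theorem exists_uniform_kill {m : ℕ} (f : Fin m → P) (r1 : A)
    (hr1 : ∀ y : P, r1 • y ∈ Submodule.span A (Set.range f)) (S : Submonoid A)
    (hS : ∀ c : Fin m → A, ∑ i, c i • f i = 0 → ∃ s ∈ S, ∀ i, s * c i = 0) :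
    ∃ s ∈ S, ∀ c : Fin m → A, ∑ i, c i • f i = 0 → ∀ i, (s * r1) * c i = 0 := by
  classical
  obtain ⟨σ, hσ⟩ := Module.projective_def'.mp (inferInstance : Module.Projective A P)
  let φ : (Fin m → A) →ₗ[A] P := Fintype.linearCombination A f
  have hφ : ∀ c, φ c = ∑ i, c i • f i := fun c => rfl
  have hex : ∀ y : P, ∃ a : Fin m → A, φ a = r1 • y := by
    intro y
    have := hr1 y
    rw [← Fintype.range_linearCombination] at this
    exact this
  choose a ha using hex
  let ψ' : (P →₀ A) →ₗ[A] (Fin m → A) := Finsupp.linearCombination A a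
  have h1 : ∀ x : P →₀ A, φ (ψ' x) = r1 • Finsupp.linearCombination A id x := by
    intro x
    induction x using Finsupp.induction_linear with
    | zero => simp
    | add x y hx hy => rw [map_add, map_add, hx, hy, map_add, smul_add]
    | single y t =>
      simp only [ψ', Finsupp.linearCombination_single, map_smul, ha, id]
      rw [smul_comm]
  have h2 : ∀ y : P, φ (ψ' (σ y)) = r1 • y := by
    intro y
    rw [h1]
    congr 1
    exact LinearMap.congr_fun hσ y
  let T : (Fin m → A) → (Fin m → A) := fun c => r1 • c - ψ' (σ (φ c))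
  have hT1 : ∀ c, φ (T c) = 0 := by
    intro c
    simp only [T]
    rw [map_sub, map_smul, h2, sub_self]
  have hT2 : ∀ c, φ c = 0 → T c = r1 • c := by
    intro c hc
    simp only [T]
    rw [hc, map_zero, map_zero, sub_zero]
  have hTlin : ∀ (c : Fin m → A), T c = ∑ i, c i • T (Pi.single i 1) := by
    intro c
    have hadd : ∀ x y, T (x + y) = T x + T y := by
      intro x y; simp only [T]; rw [map_add, map_add, map_add, smul_add]; abel
    have hsm : ∀ (t : A) x, T (t • x) = t • T x := by
      intro t x; simp only [T]; rw [map_smul, map_smul, map_smul, smul_sub, smul_comm]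
    let Tl : (Fin m → A) →ₗ[A] (Fin m → A) := ⟨⟨T, hadd⟩, hsm⟩
    have : Tl c = ∑ i, c i • Tl (Pi.single i 1) := by
      conv_lhs => rw [pi_eq_sum_univ' c]
      rw [map_sum]
      exact Finset.sum_congr rfl fun i _ => map_smul Tl _ _
    exact this
  have h3 : ∀ i, ∃ s ∈ S, ∀ j, s * T (Pi.single i 1) j = 0 := fun i =>
    hS _ (by rw [← hφ]; exact hT1 _)
  choose s hs hs' using h3
  refine ⟨∏ i, s i, S.prod_mem (fun i _ => hs i), ?_⟩
  intro c hc j
  have hc' : φ c = 0 := hc
  have h4 : r1 * c j = ∑ i, c i * T (Pi.single i 1) j := by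
    have := congrFun (hTlin c) j
    rw [hT2 c hc'] at this
    simpa [Finset.sum_apply] using this
  rw [mul_assoc, h4, Finset.mul_sum]
  refine Finset.sum_eq_zero fun i _ => ?_
  rw [← Finset.prod_erase_mul _ _ (Finset.mem_univ i), mul_left_comm, mul_assoc]
  rw [hs' i j, mul_zero, mul_zero]

end Uniform

end Groth.Agent.H3.GrFree
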