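import Groth.Agent.Lib.Helper3.GrFreeA
import Groth.Agent.Lib.Helper3.GrFreeB

/-!
# Graded projective modules over `R[x_1, …, x_n]` are graded-free locally on `Spec R`
-/

set_option autoImplicit false
universe u v

open MvPolynomial

namespace Groth.Agent.H3.GrFree

section Poly

variable {R : Type u} [CommRing R] (n : ℕ)

/-- The weights `x_i ↦ e_i`. -/
abbrev wt (n : ℕ) : Fin n → (Fin n → ℤ) := fun i => (Pi.single i 1 : Fin n → ℤ)

lemma weight_wt (α : Fin n →₀ ℕ) (j : Fin n) : Finsupp.weight (wt n) α j = (α j : ℤ) := by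
  classical
  rw [Finsupp.weight_apply, Finsupp.sum, Finset.sum_apply]
  simp only [Pi.smul_apply, Pi.single_apply, nsmul_eq_mul, mul_ite, mul_one, mul_zero]
  rw [Finset.sum_ite_eq]
  split_ifs with h
  · rfl
  · rw [Finsupp.notMem_support_iff.mp h]; rfl

lemma weight_wt_eq_zero_iff (α : Fin n →₀ ℕ) : Finsupp.weight (wt n) α = 0 ↔ α = 0 := by
  constructor
  · intro h
    ext j
    have := congrFun h j
    rw [weight_wt] at this
    simpa using this
  · rintro rfl
    exact map_zero _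

attribute [local instance] MvPolynomial.weightedGradedAlgebra

lemma decompose_zero_eq [DecidableEq (Fin n → ℤ)] (g : MvPolynomial (Fin n) R) :
    (DirectSum.decompose (weightedHomogeneousSubmodule R (wt n)) g 0 : MvPolynomial (Fin n) R)
      = C (coeff 0 g) := by
  have h1 : (DirectSum.decompose (weightedHomogeneousSubmodule R (wt n)) g 0 :
      MvPolynomial (Fin n) R) = weightedHomogeneousComponent (wt n) 0 g :=
    MvPolynomial.weightedDecomposition.decompose'_apply R (wt n) g 0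
  rw [h1]
  ext d
  rw [coeff_weightedHomogeneousComponent, coeff_C]
  by_cases h : d = 0
  · subst h; simp
  · rw [if_neg (fun h' => h ((weight_wt_eq_zero_iff n d).mp h')), if_neg (Ne.symm h)]

end Poly

section Main

attribute [local instance] MvPolynomial.weightedGradedAlgebra

variable {R : Type u} [CommRing R] (n : ℕ) (p : PrimeSpectrum R)

/-- The prime of `R[x]` generated by `p` and the variables. -/
noncomputable def qI : Ideal (MvPolynomial (Fin n) R) := Ideal.comap (constantCoeff (R := R) (σ := Fin n)) p.asIdeal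

instance : (qI n p).IsPrime := Ideal.comap_isPrime _ _

lemma notMem_qI_iff (g : MvPolynomial (Fin n) R) : g ∉ qI n p ↔ coeff 0 g ∉ p.asIdeal := by
  unfold qI
  rw [Ideal.mem_comap, constantCoeff_eq]

/-- Combining finitely many elements outside a prime. -/
lemma exists_common {κ : Type*} (T : Finset κ) (Q : κ → R → Prop)
    (hQ : ∀ k ∈ T, ∃ s : R, s ∉ p.asIdeal ∧ Q k s) (hmul : ∀ k s t, Q k s → Q k (t * s)) :
    ∃ s : R, s ∉ p.asIdeal ∧ ∀ k ∈ T, Q k s := by
  classical
  induction T using Finset.induction_on with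
  | empty => exact ⟨1, p.asIdeal.one_notMem, fun k hk => absurd hk (Finset.notMem_empty k)⟩
  | insert a T ha ih =>
    obtain ⟨sa, hsa, hQa⟩ := hQ a (Finset.mem_insert_self a T)
    obtain ⟨sT, hsT, hQT⟩ := ih fun k hk => hQ k (Finset.mem_insert_of_mem hk)
    refine ⟨sT * sa, fun h => (p.isPrime.mem_or_mem h).elim hsT hsa, ?_⟩
    intro k hk
    rcases Finset.mem_insert.mp hk with rfl | hk
    · exact hmul _ _ _ hQa
    · rw [mul_comm]; exact hmul _ _ _ (hQT k hk)

variable {P : Type v} [AddCommGroup P] [Module (MvPolynomial (Fin n) R) P] [Module R P]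
  (ℳ : (Fin n → ℤ) → Submodule R P) [DirectSum.Decomposition ℳ]
  [SetLike.GradedSMul (MvPolynomial.weightedHomogeneousSubmodule R (wt n)) ℳ]
  {m : ℕ} (f : Fin m → P) (dg : Fin m → (Fin n → ℤ)) (hf : ∀ i, f i ∈ ℳ (dg i))

include hf in
lemma step1 (hL2 : ∀ y : P, ∃ g : MvPolynomial (Fin n) R, g ∉ qI n p ∧
      g • y ∈ Submodule.span (MvPolynomial (Fin n) R) (Set.range f))
    {d : Fin n → ℤ} {y : P} (hy : y ∈ ℳ d) :
    ∃ s : R, s ∉ p.asIdeal ∧
      (C s : MvPolynomial (Fin n) R) • y ∈ Submodule.span (MvPolynomial (Fin n) R) (Set.range f) := by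
  obtain ⟨g, hg, hgy⟩ := hL2 y
  refine ⟨coeff 0 g, (notMem_qI_iff n p g).mp hg, ?_⟩
  have := decompose_zero_smul_mem_span (weightedHomogeneousSubmodule R (wt n)) ℳ f dg hf hy g hgy
  rwa [decompose_zero_eq] at this

include hf in
lemma step2 (hL2 : ∀ y : P, ∃ g : MvPolynomial (Fin n) R, g ∉ qI n p ∧
      g • y ∈ Submodule.span (MvPolynomial (Fin n) R) (Set.range f)) (y : P) :
    ∃ s : R, s ∉ p.asIdeal ∧
      (C s : MvPolynomial (Fin n) R) • y ∈ Submodule.span (MvPolynomial (Fin n) R) (Set.range f) := by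
  obtain ⟨D, hD⟩ := sum_pr ℳ y
  obtain ⟨s, hs, hsD⟩ := exists_common p D
    (fun d s => (C s : MvPolynomial (Fin n) R) • pr ℳ d y ∈
      Submodule.span (MvPolynomial (Fin n) R) (Set.range f))
    (fun d _ => step1 n p ℳ f dg hf hL2 (pr_mem ℳ d y))
    (fun d s t h => by
      rw [C_mul, mul_smul]
      exact Submodule.smul_mem _ _ h)
  refine ⟨s, hs, ?_⟩
  rw [hD, Finset.smul_sum]
  exact Submodule.sum_mem _ hsD

include hf in
lemma step3 [Module.Finite (MvPolynomial (Fin n) R) P]
    (hL2 : ∀ y : P, ∃ g : MvPolynomial (Fin n) R, g ∉ qI n p ∧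
      g • y ∈ Submodule.span (MvPolynomial (Fin n) R) (Set.range f)) :
    ∃ r1 : R, r1 ∉ p.asIdeal ∧ ∀ y : P,
      (C r1 : MvPolynomial (Fin n) R) • y ∈ Submodule.span (MvPolynomial (Fin n) R) (Set.range f) := by
  obtain ⟨T, hT⟩ := (Module.Finite.fg_top : (⊤ : Submodule (MvPolynomial (Fin n) R) P).FG)
  obtain ⟨s, hs, hsT⟩ := exists_common p T
    (fun t s => (C s : MvPolynomial (Fin n) R) • t ∈
      Submodule.span (MvPolynomial (Fin n) R) (Set.range f))
    (fun t _ => step2 n p ℳ f dg hf hL2 t)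
    (fun d s t h => by
      rw [C_mul, mul_smul]
      exact Submodule.smul_mem _ _ h)
  refine ⟨s, hs, ?_⟩
  have key : ∀ y ∈ Submodule.span (MvPolynomial (Fin n) R) (T : Set P),
      (C s : MvPolynomial (Fin n) R) • y ∈
        Submodule.span (MvPolynomial (Fin n) R) (Set.range f) := by
    intro y hy
    induction hy using Submodule.span_induction with
    | mem x hx => exact hsT x hx
    | zero => rw [smul_zero]; exact zero_mem _
    | add x y _ _ hx hy => rw [smul_add]; exact add_mem hx hy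
    | smul a x _ hx => rw [smul_comm]; exact Submodule.smul_mem _ _ hx
  intro y
  exact key y (hT ▸ Submodule.mem_top)

include hf in
lemma step4 (hL1 : ∀ c : Fin m → MvPolynomial (Fin n) R, ∑ i, c i • f i = 0 →
      ∃ g : MvPolynomial (Fin n) R, g ∉ qI n p ∧ ∀ i, g * c i = 0)
    (c : Fin m → MvPolynomial (Fin n) R) (hc : ∑ i, c i • f i = 0) :
    ∃ s : R, s ∉ p.asIdeal ∧ ∀ i, (C s : MvPolynomial (Fin n) R) * c i = 0 := by
  have hd : ∀ d : Fin n → ℤ, ∃ s : R, s ∉ p.asIdeal ∧ ∀ i,
      (C s : MvPolynomial (Fin n) R) *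
        (DirectSum.decompose (weightedHomogeneousSubmodule R (wt n)) (c i) (d - dg i) :
          MvPolynomial (Fin n) R) = 0 := by
    intro d
    have hrel : ∑ i, (DirectSum.decompose (weightedHomogeneousSubmodule R (wt n)) (c i) (d - dg i) :
        MvPolynomial (Fin n) R) • f i = 0 := by
      have := congrArg (pr ℳ d) hc
      rw [pr_sum, pr_zero] at this
      rw [← this]
      refine Finset.sum_congr rfl fun i _ => ?_
      rw [pr_smul_hom (weightedHomogeneousSubmodule R (wt n)) ℳ (hf i)]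
    obtain ⟨g, hg, hg0⟩ := hL1 _ hrel
    refine ⟨coeff 0 g, (notMem_qI_iff n p g).mp hg, fun i => ?_⟩
    have := decompose_zero_smul_eq_zero (weightedHomogeneousSubmodule R (wt n))
      (weightedHomogeneousSubmodule R (wt n))
      (y := (DirectSum.decompose (weightedHomogeneousSubmodule R (wt n)) (c i) (d - dg i) :
        MvPolynomial (Fin n) R)) (d := d - dg i) (Subtype.property _) g (hg0 i)
    rwa [decompose_zero_eq, smul_eq_mul] at this
  classical
  have hE : ∀ i, ∃ E : Finset (Fin n → ℤ), c i = ∑ e ∈ E,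
      (DirectSum.decompose (weightedHomogeneousSubmodule R (wt n)) (c i) e :
        MvPolynomial (Fin n) R) := fun i =>
    sum_pr (weightedHomogeneousSubmodule R (wt n)) (c i)
  choose E hE using hE
  obtain ⟨s, hs, hsD⟩ := exists_common p
    (Finset.univ.biUnion fun i => (E i).image (· + dg i))
    (fun d s => ∀ i, (C s : MvPolynomial (Fin n) R) *
        (DirectSum.decompose (weightedHomogeneousSubmodule R (wt n)) (c i) (d - dg i) :
          MvPolynomial (Fin n) R) = 0)
    (fun d _ => hd d)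
    (fun d s t h i => by rw [C_mul, mul_assoc, h i, mul_zero])
  refine ⟨s, hs, fun i => ?_⟩
  rw [hE i, Finset.mul_sum]
  refine Finset.sum_eq_zero fun e he => ?_
  have hmem : e + dg i ∈ Finset.univ.biUnion fun i => (E i).image (· + dg i) :=
    Finset.mem_biUnion.mpr ⟨i, Finset.mem_univ i, Finset.mem_image.mpr ⟨e, he, rfl⟩⟩
  have := hsD _ hmem i
  rwa [add_sub_cancel_right] at this

end Main

section Final

attribute [local instance] MvPolynomial.weightedGradedAlgebra

theorem main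
    {R : Type u} [CommRing R] (n : ℕ)
    {P : Type v} [AddCommGroup P] [Module (MvPolynomial (Fin n) R) P] [Module R P]
    [IsScalarTower R (MvPolynomial (Fin n) R) P]
    (ℳ : (Fin n → ℤ) → Submodule R P) [DirectSum.Decomposition ℳ]
    [SetLike.GradedSMul (MvPolynomial.weightedHomogeneousSubmodule R
      (fun i : Fin n => (Pi.single i 1 : Fin n → ℤ))) ℳ]
    [Module.Finite (MvPolynomial (Fin n) R) P] [Module.Projective (MvPolynomial (Fin n) R) P]
    (p : PrimeSpectrum R) :
    ∃ r : R, r ∉ p.asIdeal ∧ ∃ (m : ℕ) (d : Fin m → (Fin n → ℤ)) (f : Fin m → P),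
      (∀ i, f i ∈ ℳ (d i)) ∧
      (∀ q : P, ∃ (N : ℕ) (c : Fin m → MvPolynomial (Fin n) R),
        (MvPolynomial.C r : MvPolynomial (Fin n) R) ^ N • q = ∑ i, c i • f i) ∧
      (∀ c : Fin m → MvPolynomial (Fin n) R, ∑ i, c i • f i = 0 →
        ∃ N : ℕ, ∀ i, (MvPolynomial.C r : MvPolynomial (Fin n) R) ^ N * c i = 0) := by
  -- the family of all homogeneous elements
  let v : (Σ d : Fin n → ℤ, ℳ d) → P := fun x => (x.2 : P)
  have hv : Submodule.span (MvPolynomial (Fin n) R) (Set.range v) = ⊤ := by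
    rw [eq_top_iff]
    intro y _
    obtain ⟨D, hD⟩ := sum_pr ℳ y
    rw [hD]
    exact Submodule.sum_mem _ fun d _ =>
      Submodule.subset_span ⟨⟨d, ⟨pr ℳ d y, pr_mem ℳ d y⟩⟩, rfl⟩
  obtain ⟨m, a, hL1, hL2⟩ := exists_local_basis (qI n p) v hv
  let f : Fin m → P := fun i => v (a i)
  let dg : Fin m → (Fin n → ℤ) := fun i => (a i).1
  have hf : ∀ i, f i ∈ ℳ (dg i) := fun i => (a i).2.2
  have hL2' : ∀ y : P, ∃ g : MvPolynomial (Fin n) R, g ∉ qI n p ∧
      g • y ∈ Submodule.span (MvPolynomial (Fin n) R) (Set.range f) := hL2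
  have hL1' : ∀ c : Fin m → MvPolynomial (Fin n) R, ∑ i, c i • f i = 0 →
      ∃ g : MvPolynomial (Fin n) R, g ∉ qI n p ∧ ∀ i, g * c i = 0 := hL1
  obtain ⟨r1, hr1, hr1P⟩ := step3 n p ℳ f dg hf hL2'
  let Sm : Submonoid (MvPolynomial (Fin n) R) :=
    Submonoid.map (C : R →+* MvPolynomial (Fin n) R) p.asIdeal.primeCompl
  have hS : ∀ c : Fin m → MvPolynomial (Fin n) R, ∑ i, c i • f i = 0 →
      ∃ s ∈ Sm, ∀ i, s * c i = 0 := by
    intro c hc
    obtain ⟨s, hs, hsc⟩ := step4 n p ℳ f dg hf hL1' c hc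
    exact ⟨C s, ⟨s, hs, rfl⟩, hsc⟩
  obtain ⟨s', ⟨r2, hr2, rfl⟩, hkill⟩ := exists_uniform_kill f (C r1) hr1P Sm hS
  refine ⟨r2 * r1, fun h => (p.isPrime.mem_or_mem h).elim hr2 hr1, m, dg, f, hf, ?_, ?_⟩
  · intro q
    have h1 : (C (r2 * r1) : MvPolynomial (Fin n) R) • q ∈
        Submodule.span (MvPolynomial (Fin n) R) (Set.range f) := by
      rw [C_mul, mul_smul]
      exact Submodule.smul_mem _ _ (hr1P q)
    obtain ⟨c, hc⟩ := (Submodule.mem_span_range_iff_exists_fun _).mp h1
    exact ⟨1, c, by rw [pow_one]; exact hc.symm⟩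
  · intro c hc
    refine ⟨1, fun i => ?_⟩
    rw [pow_one, C_mul]
    exact hkill c hc i

end Final

end Groth.Agent.H3.GrFree
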