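import Mathlib
import Groth.Prelude.Def_AlgGrp
import Groth.Agent.Lib.Helper3.BTKer
import Groth.Agent.Lib.Helper3.FpqcLocal3
import Groth.Agent.Lib.Helper3.FpqcCov.Basic
import Groth.Agent.Lib.Helper3.SmSrc.FppfSrc
import Groth.Agent.Lib.Helper1.FlatSource

/-!
# The quotient of a flat group scheme by an open subgroup is étale (helper3)
-/

set_option autoImplicit false

open CategoryTheory Limits MonoidalCategory CartesianMonoidalCategory MonObj AlgebraicGeometry

universe u

namespace Groth.Agent.H3.GrpEtQuot

open Groth.Agent.H3.FpqcCov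

variable {S : Scheme.{u}} {G0 G Q : Over S} [GrpObj Q]

/-- the diagonal of a group object is the base change of the unit section -/
theorem isPullback_diag : IsPullback (lift (𝟙 Q) (𝟙 Q)) (toUnit Q) ((fst Q Q)⁻¹ * snd Q Q) η[Q] := by
  refine IsPullback.mk' ?_ ?_ ?_
  · rw [MonObj.comp_mul, GrpObj.comp_inv, lift_fst, lift_snd, inv_mul_cancel, Hom.one_def]
  · intro T φ φ' h1 _
    have := congrArg (· ≫ fst Q Q) h1
    simpa only [Category.assoc, lift_fst, Category.comp_id] using this
  · intro T x y hxy
    rw [MonObj.comp_mul, GrpObj.comp_inv, toUnit_unique y (toUnit T), ← Hom.one_def,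
      inv_mul_eq_one] at hxy
    refine ⟨x ≫ fst Q Q, ?_, toUnit_unique _ _⟩
    apply CartesianMonoidalCategory.hom_ext
    · rw [Category.assoc, lift_fst, Category.comp_id]
    · rw [Category.assoc, lift_snd, Category.comp_id, hxy]

/-- a group scheme whose unit section is an open immersion is formally unramified -/
theorem formallyUnramified_of_isOpenImmersion_unit (h : IsOpenImmersion η[Q].left) :
    FormallyUnramified Q.hom := by
  have h1 : IsOpenImmersion (lift (𝟙 Q) (𝟙 Q)).left :=
    MorphismProperty.of_isPullback (P := @IsOpenImmersion)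
      ((isPullback_diag (Q := Q)).map (Over.forget S)).flip h
  have h2 : (lift (𝟙 Q) (𝟙 Q)).left = pullback.diagonal Q.hom := by
    rw [Over.lift_left]
    rfl
  rw [h2] at h1
  infer_instance

/-- the quotient by an open subgroup is étale -/
theorem main [Flat G.hom] [LocallyOfFinitePresentation G.hom] (i : G0 ⟶ G)
    [IsOpenImmersion i.left] (p : G ⟶ Q) [Surjective p.left] [Flat p.left]
    [LocallyOfFinitePresentation p.left] (hK : AlgGrp.IsKernel i p) : Etale Q.hom := by
  have hcov : Cov p.left :=
    Scheme.fppfPrecoverage_le_fpqcPrecoverage _ p.left.singleton_mem_fppfPrecoverage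
  have hη : IsOpenImmersion η[Q].left :=
    FpqcCov.of_isPullback (P := @IsOpenImmersion) (IsPullback.map (Over.forget S) hK) hcov
      (inferInstanceAs (IsOpenImmersion i.left))
  have hun : FormallyUnramified Q.hom := formallyUnramified_of_isOpenImmersion_unit hη
  have hw : p.left ≫ Q.hom = G.hom := Over.w p
  have : Flat (p.left ≫ Q.hom) := by rw [hw]; infer_instance
  have hfl : Flat Q.hom := Groth.Agent.H1.flat_of_flat_comp_of_surjective p.left Q.hom
  have hlfp : LocallyOfFinitePresentation Q.hom :=
    Groth.Agent.H3.FppfSrc.locallyOfFinitePresentation_of_family (fun _ : Unit => G.left)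
      (fun _ => p.left) Q.hom (fun y => ⟨(), p.left.surjective y⟩)
      (fun _ => by rw [hw]; infer_instance)
  exact Etale.of_formallyUnramified_of_flat Q.hom

end Groth.Agent.H3.GrpEtQuot
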