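import Mathlib
import Groth.Prelude.Def_AlgGrp
import Groth.Agent.Lib.Helper3.GrpIso
import Groth.Agent.Lib.Helper3.FpqcLocal3
import Groth.Agent.Lib.Helper3.FpqcCov.Basic

/-!
# A homomorphism which is proper on the kernel of a quotient map with proper target is proper
(helper3)
-/

set_option autoImplicit false

open CategoryTheory Limits MonoidalCategory CartesianMonoidalCategory MonObj AlgebraicGeometry

universe u

namespace Groth.Agent.H3.GrpProperHom

open Groth.Agent.H3.GrpQuot Groth.Agent.H3.BTKer Groth.Agent.H3.FpqcCov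

variable {S : Scheme.{u}} {G G' G'' H : Over S} [GrpObj G] [GrpObj G''] [GrpObj H]
  (p : G ⟶ G'') [IsMonHom p] (i : G' ⟶ G) (hker : AlgGrp.IsKernel i p) (u : G ⟶ H) [IsMonHom u]

/-- `(g, n) ↦ g * i n` -/
noncomputable abbrev am : G ⊗ G' ⟶ G := fst G G' * (snd G G' ≫ i)

/-- `(g, n) ↦ (u (g * i n), g)` -/
noncomputable abbrev ψ : G ⊗ G' ⟶ H ⊗ G := lift (am i ≫ u) (fst G G')

include hker in
omit [IsMonHom u] [GrpObj H] in
theorem sq1 : IsPullback (ψ i u) (am i) (H ◁ p) (lift u p) := by
  have : Mono i := IsKernel.mono hker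
  have hip : i ≫ p = 1 := IsKernel.comp_eq_one hker
  have hap : am i ≫ p = fst G G' ≫ p := by
    rw [MonObj.mul_comp, Category.assoc, hip, MonObj.comp_one, _root_.mul_one]
  refine IsPullback.mk' ?_ ?_ ?_
  · apply CartesianMonoidalCategory.hom_ext
    · simp only [Category.assoc, whiskerLeft_fst, lift_fst]
    · simp only [Category.assoc, whiskerLeft_snd, lift_snd, lift_snd_assoc, hap]
  · intro T φ φ' h1 h2
    have h3 : φ ≫ fst G G' = φ' ≫ fst G G' := by
      have := congrArg (· ≫ snd H G) h1
      simpa only [Category.assoc, lift_snd] using this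
    apply CartesianMonoidalCategory.hom_ext _ _ h3
    rw [MonObj.comp_mul, MonObj.comp_mul, h3, ← Category.assoc, ← Category.assoc] at h2
    exact (cancel_mono i).mp (mul_left_cancel h2)
  · intro T x y hxy
    have h1 : x ≫ fst H G = y ≫ u := by
      have := congrArg (· ≫ fst H G'') hxy
      simpa only [Category.assoc, whiskerLeft_fst, lift_fst] using this
    have h2 : (x ≫ snd H G) ≫ p = y ≫ p := by
      have := congrArg (· ≫ snd H G'') hxy
      simpa only [Category.assoc, whiskerLeft_snd, lift_snd] using this
    obtain ⟨n, hn⟩ := IsKernel.exists_lift hker ((x ≫ snd H G)⁻¹ * y) (by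
      rw [MonObj.mul_comp, GrpObj.inv_comp, h2, inv_mul_cancel])
    have h3 : lift (x ≫ snd H G) n ≫ am i = y := by
      rw [MonObj.comp_mul, lift_fst, ← Category.assoc, lift_snd, hn, mul_inv_cancel_left]
    refine ⟨lift (x ≫ snd H G) n, ?_, h3⟩
    apply CartesianMonoidalCategory.hom_ext
    · rw [Category.assoc, lift_fst, ← Category.assoc, h3, h1]
    · rw [Category.assoc, lift_snd, lift_fst]

theorem sq2 :
    IsPullback (ψ i u) (snd G G') ((snd H G ≫ u)⁻¹ * fst H G) (i ≫ u) := by
  refine IsPullback.mk' ?_ ?_ ?_
  · rw [MonObj.comp_mul, GrpObj.comp_inv, ← Category.assoc, lift_snd, lift_fst, MonObj.mul_comp,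
      inv_mul_cancel_left, Category.assoc]
  · intro T φ φ' h1 h2
    have h3 : φ ≫ fst G G' = φ' ≫ fst G G' := by
      have := congrArg (· ≫ snd H G) h1
      simpa only [Category.assoc, lift_snd] using this
    exact CartesianMonoidalCategory.hom_ext _ _ h3 h2
  · intro T x n hxn
    rw [MonObj.comp_mul, GrpObj.comp_inv, ← Category.assoc] at hxn
    refine ⟨lift (x ≫ snd H G) n, ?_, lift_snd _ _⟩
    apply CartesianMonoidalCategory.hom_ext
    · rw [Category.assoc, lift_fst, ← Category.assoc, MonObj.comp_mul, lift_fst,
        ← Category.assoc, lift_snd, MonObj.mul_comp]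
      simp only [Category.assoc] at hxn ⊢
      rw [← hxn, mul_inv_cancel_left]
    · rw [Category.assoc, lift_snd, lift_fst]

include hker in
/-- **S5415** -/
theorem main [IsProper G''.hom] [Surjective p.left] [Flat p.left]
    [LocallyOfFinitePresentation p.left] (hu : IsProper (i ≫ u).left) : IsProper u.left := by
  -- the graph-type map `(u, p)`
  have hψ : IsProper (ψ i u).left :=
    MorphismProperty.of_isPullback (P := @IsProper) ((sq2 i u).map (Over.forget S)).flip hu
  have hwl : IsPullback (H ◁ p).left (snd H G).left (snd H G'').left p.left :=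
    (isPullback_whiskerLeft H p).map (Over.forget S)
  have h1 : Flat (H ◁ p).left := MorphismProperty.of_isPullback (P := @Flat) hwl.flip inferInstance
  have h2 : Surjective (H ◁ p).left :=
    MorphismProperty.of_isPullback (P := @Surjective) hwl.flip inferInstance
  have h3 : LocallyOfFinitePresentation (H ◁ p).left :=
    MorphismProperty.of_isPullback (P := @LocallyOfFinitePresentation) hwl.flip inferInstance
  have hcov : Cov (H ◁ p).left :=
    Scheme.fppfPrecoverage_le_fpqcPrecoverage _ (H ◁ p).left.singleton_mem_fppfPrecoverage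
  have hφ : IsProper (lift u p).left :=
    FpqcCov.of_isPullback (P := @IsProper) ((sq1 p i hker u).map (Over.forget S)) hcov hψ
  have hfst : IsProper (fst H G'').left := by
    have : (fst H G'').left = pullback.fst H.hom G''.hom := Over.fst_left
    rw [this]
    infer_instance
  have : u.left = (lift u p).left ≫ (fst H G'').left := by
    rw [← Over.comp_left, lift_fst]
  rw [this]
  infer_instance

end Groth.Agent.H3.GrpProperHom
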