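import Mathlib
import Groth.Agent.Lib.Helper3.GrpQuot1

/-!
# Quotients of group objects by subgroup objects: abstract theory, part 2 (second iso theorem)
-/

set_option autoImplicit false

open CategoryTheory Limits MonoidalCategory CartesianMonoidalCategory MonObj

universe v₁ u₁

namespace Groth.Agent.H3.GrpQuot

variable {𝒮 : Type u₁} [Category.{v₁} 𝒮] [CartesianMonoidalCategory 𝒮] [HasPullbacks 𝒮]

section secondIso

variable {G H L : 𝒮} [GrpObj G] [GrpObj H] [GrpObj L] (u : H ⟶ G) [IsMonHom u] [Mono u]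
  (l : L ⟶ G) [IsMonHom l] [Mono l]
  {Q : 𝒮} (π : G ⟶ Q) (hkp : IsKernelPair π (fst G H) (mmul u))

include hkp in
/-- second isomorphism theorem: the kernel pair of `L ⟶ G ⟶ G/H` -/
theorem isKernelPair_secondIso :
    IsKernelPair (l ≫ π) (fst L (pullback u l)) ((L ◁ pullback.snd u l) ≫ μ[L]) := by
  have hm : ∀ {T : 𝒮} (φ : T ⟶ L ⊗ pullback u l), φ ≫ (L ◁ pullback.snd u l) ≫ μ[L] =
      (φ ≫ fst _ _) * ((φ ≫ snd _ _) ≫ pullback.snd u l) := by
    intro T φ
    rw [MonObj.mul_eq_mul, MonObj.comp_mul, MonObj.comp_mul, whiskerLeft_fst, whiskerLeft_snd,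
      Category.assoc]
  have hm0 : (L ◁ pullback.snd u l) ≫ μ[L] =
      (fst _ _) * ((snd _ _) ≫ pullback.snd u l) := by
    rw [MonObj.mul_eq_mul, MonObj.comp_mul, whiskerLeft_fst, whiskerLeft_snd]
  refine IsPullback.mk' ?_ ?_ ?_
  · rw [← Category.assoc, ← Category.assoc, comp_π_eq_iff u π hkp]
    refine ⟨snd _ _ ≫ pullback.fst u l, ?_⟩
    rw [hm0, MonObj.mul_comp, Category.assoc, Category.assoc, pullback.condition]
  · intro T φ φ' h1 h2
    rw [hm, hm, h1] at h2
    have h3 := _root_.mul_left_cancel h2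
    have h4 := (cancel_mono _).mp h3
    exact CartesianMonoidalCategory.hom_ext _ _ h1 h4
  · intro T x y hxy
    rw [← Category.assoc, ← Category.assoc, comp_π_eq_iff u π hkp] at hxy
    obtain ⟨h, hh⟩ := hxy
    have hh' : h ≫ u = (x⁻¹ * y) ≫ l := by
      rw [MonObj.mul_comp, GrpObj.inv_comp, hh, inv_mul_cancel_left]
    refine ⟨lift x (pullback.lift h (x⁻¹ * y) hh'), lift_fst _ _, ?_⟩
    rw [hm, lift_fst, lift_snd, pullback.lift_snd, mul_inv_cancel_left]

end secondIso

end Groth.Agent.H3.GrpQuot
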