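import Mathlib
import Groth.Agent.Lib.Helper3.GrpQuot1

/-!
# Quotients of group objects by normal subgroup objects: the group structure on the quotient
-/

set_option autoImplicit false

open CategoryTheory Limits MonoidalCategory CartesianMonoidalCategory MonObj

universe v₁ u₁

namespace Groth.Agent.H3.GrpQuot

variable {𝒮 : Type u₁} [Category.{v₁} 𝒮] [CartesianMonoidalCategory 𝒮] [HasPullbacks 𝒮]

section normal

variable {G H : 𝒮} [GrpObj G] [GrpObj H] (u : H ⟶ G) [IsMonHom u]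
  {Q : 𝒮} (π : G ⟶ Q) (hkp : IsKernelPair π (fst G H) (mmul u)) (huee : UEE 𝒮 π)
  (hn : ∀ (Y : 𝒮) (g : Y ⟶ G) (h : Y ⟶ H), ∃ h' : Y ⟶ H, g * (h ≫ u) * g⁻¹ = h' ≫ u)

include hkp hn in
omit [HasPullbacks 𝒮] in
lemma mul_compat {Z : 𝒮} (g₁ g₂ : Z ⟶ G ⊗ G) (h : g₁ ≫ (π ⊗ₘ π) = g₂ ≫ (π ⊗ₘ π)) :
    g₁ ≫ μ[G] ≫ π = g₂ ≫ μ[G] ≫ π := by
  have hf : (g₁ ≫ fst G G) ≫ π = (g₂ ≫ fst G G) ≫ π := by
    have := congrArg (fun f => f ≫ fst Q Q) h
    simpa using this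
  have hs : (g₁ ≫ snd G G) ≫ π = (g₂ ≫ snd G G) ≫ π := by
    have := congrArg (fun f => f ≫ snd Q Q) h
    simpa using this
  obtain ⟨k₁, hk₁⟩ := (comp_π_eq_iff u π hkp _ _).1 hf
  obtain ⟨k₂, hk₂⟩ := (comp_π_eq_iff u π hkp _ _).1 hs
  obtain ⟨k', hk'⟩ := hn Z (g₁ ≫ snd G G)⁻¹ k₁
  rw [← Category.assoc, ← Category.assoc, comp_π_eq_iff u π hkp]
  refine ⟨k' * k₂, ?_⟩
  rw [MonObj.mul_eq_mul, MonObj.comp_mul, MonObj.comp_mul, hk₁, hk₂, MonObj.mul_comp, ← hk']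
  group

include hkp hn in
omit [HasPullbacks 𝒮] in
lemma inv_compat {Z : 𝒮} (g₁ g₂ : Z ⟶ G) (h : g₁ ≫ π = g₂ ≫ π) :
    g₁ ≫ ι[G] ≫ π = g₂ ≫ ι[G] ≫ π := by
  obtain ⟨k, hk⟩ := (comp_π_eq_iff u π hkp _ _).1 h
  obtain ⟨k', hk'⟩ := hn Z g₁ k⁻¹
  rw [← Category.assoc, ← Category.assoc, comp_π_eq_iff u π hkp]
  refine ⟨k', ?_⟩
  rw [← CategoryTheory.Hom.inv_def, ← CategoryTheory.Hom.inv_def, ← hk', hk, GrpObj.inv_comp]
  group

/-- the multiplication on the quotient -/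
noncomputable def quotMul : Q ⊗ Q ⟶ Q :=
  haveI : EffectiveEpi (π ⊗ₘ π) := (UEE.tensorHom huee huee).effectiveEpi
  EffectiveEpi.desc (π ⊗ₘ π) (μ[G] ≫ π) (fun g₁ g₂ h => mul_compat u π hkp hn g₁ g₂ h)

lemma tensor_quotMul : (π ⊗ₘ π) ≫ quotMul u π hkp huee hn = μ[G] ≫ π :=
  haveI : EffectiveEpi (π ⊗ₘ π) := (UEE.tensorHom huee huee).effectiveEpi
  EffectiveEpi.fac _ _ _

/-- the inverse on the quotient -/
noncomputable def quotInv : Q ⟶ Q :=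
  haveI : EffectiveEpi π := huee.effectiveEpi
  EffectiveEpi.desc π (ι[G] ≫ π) (fun g₁ g₂ h => inv_compat u π hkp hn g₁ g₂ h)

lemma π_quotInv : π ≫ quotInv u π hkp huee hn = ι[G] ≫ π :=
  haveI : EffectiveEpi π := huee.effectiveEpi
  EffectiveEpi.fac _ _ _

/-- the group structure on the quotient -/
@[instance_reducible]
noncomputable def quotGrpObj : GrpObj Q where
  one := η[G] ≫ π
  mul := quotMul u π hkp huee hn
  one_mul := by
    have hE : Epi ((𝟙_ 𝒮) ◁ π) := (UEE.whiskerLeft _ huee).epi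
    have h1 : (𝟙_ 𝒮) ◁ π ≫ (η[G] ≫ π) ▷ Q = η[G] ▷ G ≫ (π ⊗ₘ π) := by
      rw [whiskerRight_comp_tensorHom, ← MonoidalCategory.tensorHom_def']
    rw [← cancel_epi ((𝟙_ 𝒮) ◁ π), ← Category.assoc, h1, Category.assoc, tensor_quotMul,
      ← Category.assoc, MonObj.one_mul, leftUnitor_naturality]
  mul_one := by
    have hE : Epi (π ▷ (𝟙_ 𝒮)) := (UEE.whiskerRight _ huee).epi
    have h1 : π ▷ (𝟙_ 𝒮) ≫ Q ◁ (η[G] ≫ π) = G ◁ η[G] ≫ (π ⊗ₘ π) := by
      rw [whiskerLeft_comp_tensorHom, ← MonoidalCategory.tensorHom_def]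
    rw [← cancel_epi (π ▷ (𝟙_ 𝒮)), ← Category.assoc, h1, Category.assoc, tensor_quotMul,
      ← Category.assoc, MonObj.mul_one, rightUnitor_naturality]
  mul_assoc := by
    have hE : Epi ((π ⊗ₘ π) ⊗ₘ π) := (UEE.tensorHom (UEE.tensorHom huee huee) huee).epi
    have h1 : ((π ⊗ₘ π) ⊗ₘ π) ≫ (quotMul u π hkp huee hn) ▷ Q = μ[G] ▷ G ≫ (π ⊗ₘ π) := by
      rw [tensorHom_comp_whiskerRight, tensor_quotMul, whiskerRight_comp_tensorHom]
    have h2 : (π ⊗ₘ (π ⊗ₘ π)) ≫ Q ◁ (quotMul u π hkp huee hn) = G ◁ μ[G] ≫ (π ⊗ₘ π) := by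
      rw [tensorHom_comp_whiskerLeft, tensor_quotMul, whiskerLeft_comp_tensorHom]
    rw [← cancel_epi ((π ⊗ₘ π) ⊗ₘ π), ← Category.assoc, h1, Category.assoc, tensor_quotMul,
      ← Category.assoc, MonObj.mul_assoc, ← Category.assoc ((π ⊗ₘ π) ⊗ₘ π), associator_naturality]
    simp only [Category.assoc]
    rw [← Category.assoc (π ⊗ₘ (π ⊗ₘ π)), h2, Category.assoc, tensor_quotMul]
  inv := quotInv u π hkp huee hn
  left_inv := by
    have hE : Epi π := huee.epi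
    have h1 : π ≫ lift (quotInv u π hkp huee hn) (𝟙 Q) = lift ι[G] (𝟙 G) ≫ (π ⊗ₘ π) := by
      rw [comp_lift, π_quotInv, lift_map, Category.comp_id, Category.id_comp]
    rw [← cancel_epi π, ← Category.assoc, h1, Category.assoc, tensor_quotMul, ← Category.assoc,
      GrpObj.left_inv, Category.assoc, ← Category.assoc π, toUnit_unique (π ≫ toUnit Q) (toUnit G)]
  right_inv := by
    have hE : Epi π := huee.epi
    have h1 : π ≫ lift (𝟙 Q) (quotInv u π hkp huee hn) = lift (𝟙 G) ι[G] ≫ (π ⊗ₘ π) := by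
      rw [comp_lift, π_quotInv, lift_map, Category.comp_id, Category.id_comp]
    rw [← cancel_epi π, ← Category.assoc, h1, Category.assoc, tensor_quotMul, ← Category.assoc,
      GrpObj.right_inv, Category.assoc, ← Category.assoc π, toUnit_unique (π ≫ toUnit Q) (toUnit G)]

include hkp huee hn in
/-- abstract form of S6047 -/
theorem existsUnique_grpObj :
    ∃! str : GrpObj Q, @IsMonHom 𝒮 _ _ G Q _ str.toMonObj π := by
  refine ⟨quotGrpObj u π hkp huee hn, ?_, ?_⟩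
  · exact @IsMonHom.mk 𝒮 _ _ G Q _ (quotGrpObj u π hkp huee hn).toMonObj π rfl
      (tensor_quotMul u π hkp huee hn).symm
  · intro str' h'
    apply GrpObj.ext
    apply MonObj.ext
    have hE : Epi (π ⊗ₘ π) := (UEE.tensorHom huee huee).epi
    rw [← cancel_epi (π ⊗ₘ π)]
    have h1 := @IsMonHom.mul_hom 𝒮 _ _ G Q _ str'.toMonObj π h'
    exact h1.symm.trans (tensor_quotMul u π hkp huee hn).symm

end normal

end Groth.Agent.H3.GrpQuot
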