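import Mathlib
import Groth.Agent.Lib.Helper3.GrpQuot1

/-!
# Quotients of group objects: the third isomorphism theorem `(G/H)/(K/H) = G/K`
-/

set_option autoImplicit false

open CategoryTheory Limits MonoidalCategory CartesianMonoidalCategory MonObj

universe v₁ u₁

namespace Groth.Agent.H3.GrpQuot

variable {𝒮 : Type u₁} [Category.{v₁} 𝒮] [CartesianMonoidalCategory 𝒮] [HasPullbacks 𝒮]

/-- simultaneous refinement of three points -/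
lemma UEE.exists_lift₃ {A₁ B₁ A₂ B₂ A₃ B₃ : 𝒮} {p₁ : A₁ ⟶ B₁} {p₂ : A₂ ⟶ B₂} {p₃ : A₃ ⟶ B₃}
    (hp₁ : UEE 𝒮 p₁) (hp₂ : UEE 𝒮 p₂) (hp₃ : UEE 𝒮 p₃) {T : 𝒮}
    (x₁ : T ⟶ B₁) (x₂ : T ⟶ B₂) (x₃ : T ⟶ B₃) :
    ∃ (T' : 𝒮) (e : T' ⟶ T) (y₁ : T' ⟶ A₁) (y₂ : T' ⟶ A₂) (y₃ : T' ⟶ A₃), Epi e ∧
      e ≫ x₁ = y₁ ≫ p₁ ∧ e ≫ x₂ = y₂ ≫ p₂ ∧ e ≫ x₃ = y₃ ≫ p₃ := by
  obtain ⟨T₁, e₁, y₁, he₁, h₁⟩ := UEE.exists_lift hp₁ x₁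
  obtain ⟨T₂, e₂, y₂, he₂, h₂⟩ := UEE.exists_lift hp₂ (e₁ ≫ x₂)
  obtain ⟨T₃, e₃, y₃, he₃, h₃⟩ := UEE.exists_lift hp₃ (e₂ ≫ e₁ ≫ x₃)
  refine ⟨T₃, e₃ ≫ e₂ ≫ e₁, e₃ ≫ e₂ ≫ y₁, e₃ ≫ y₂, y₃, ?_, ?_, ?_, ?_⟩
  · haveI : Epi (e₂ ≫ e₁) := epi_comp _ _
    exact epi_comp _ _
  · simp only [Category.assoc, h₁]
  · simp only [Category.assoc, h₂]
  · simp only [Category.assoc, h₃]

section thirdIso

variable {G K H : 𝒮} [GrpObj G] [GrpObj K] [GrpObj H] (h : H ⟶ K) (k : K ⟶ G)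
  [IsMonHom h] [IsMonHom k] [Mono k]
  {Q₁ Q₂ Q₃ : 𝒮} (π₁ : G ⟶ Q₁) (π₂ : K ⟶ Q₂) (π₃ : G ⟶ Q₃)
  (hkp₁ : IsKernelPair π₁ (fst G H) (mmul (h ≫ k))) (huee₁ : UEE 𝒮 π₁)
  (hkp₂ : IsKernelPair π₂ (fst K H) (mmul h)) (huee₂ : UEE 𝒮 π₂)
  (hkp₃ : IsKernelPair π₃ (fst G K) (mmul k)) (huee₃ : UEE 𝒮 π₃)
  (act : Q₁ ⊗ Q₂ ⟶ Q₁) (hact : (π₁ ⊗ₘ π₂) ≫ act = (G ◁ k) ≫ μ[G] ≫ π₁)
  (qbar : Q₁ ⟶ Q₃) (hq : π₁ ≫ qbar = π₃)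

include hkp₁ hkp₂ huee₁ huee₂ hact in
/-- the action of `K/H` on `G/H` is free -/
theorem mono_lift_act : Mono (lift act (fst Q₁ Q₂)) := by
  constructor
  intro T x y hxy
  have hxy1 : x ≫ act = y ≫ act := by
    have := congrArg (fun f => f ≫ fst Q₁ Q₁) hxy
    simpa using this
  have hxy2 : x ≫ fst _ _ = y ≫ fst _ _ := by
    have := congrArg (fun f => f ≫ snd Q₁ Q₁) hxy
    simpa using this
  obtain ⟨T', e, a, b, b', he, ha, hb, hb'⟩ :=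
    UEE.exists_lift₃ huee₁ huee₂ huee₂ (x ≫ fst _ _) (x ≫ snd _ _) (y ≫ snd _ _)
  have hx : e ≫ x = lift a b ≫ (π₁ ⊗ₘ π₂) := by
    apply CartesianMonoidalCategory.hom_ext
    · simp [ha]
    · simp [hb]
  have hy : e ≫ y = lift a b' ≫ (π₁ ⊗ₘ π₂) := by
    apply CartesianMonoidalCategory.hom_ext
    · simp [← hxy2, ha]
    · simp [hb']
  have h1 : (a * (b ≫ k)) ≫ π₁ = (a * (b' ≫ k)) ≫ π₁ := by
    have h2 : (e ≫ x) ≫ act = (e ≫ y) ≫ act := by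
      rw [Category.assoc, Category.assoc, hxy1]
    rw [hx, hy, Category.assoc, Category.assoc, hact, ← Category.assoc (G ◁ k),
      ← Category.assoc, ← Category.assoc (lift a b'), lift_mmul, lift_mmul] at h2
    exact h2
  obtain ⟨c, hc⟩ := (comp_π_eq_iff (h ≫ k) π₁ hkp₁ _ _).1 h1
  have h3 : b' ≫ k = (b * (c ≫ h)) ≫ k := by
    rw [MonObj.mul_comp, Category.assoc]
    rw [_root_.mul_assoc] at hc
    exact _root_.mul_left_cancel hc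
  have h4 : b' = b * (c ≫ h) := (cancel_mono k).mp h3
  have h5 : b ≫ π₂ = b' ≫ π₂ := (comp_π_eq_iff h π₂ hkp₂ _ _).2 ⟨c, h4⟩
  apply CartesianMonoidalCategory.hom_ext _ _ hxy2
  rw [← cancel_epi e, ← Category.assoc, ← Category.assoc, Category.assoc, Category.assoc, hb, hb', h5]

include hkp₃ huee₁ huee₂ hact hq in
omit [Mono k] [IsMonHom k] [IsMonHom h] [GrpObj H] in
lemma fst_comp_qbar : fst Q₁ Q₂ ≫ qbar = act ≫ qbar := by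
  have hE : Epi (π₁ ⊗ₘ π₂) := (UEE.tensorHom huee₁ huee₂).epi
  rw [← cancel_epi (π₁ ⊗ₘ π₂), ← Category.assoc, tensorHom_fst, Category.assoc, hq,
    ← Category.assoc, hact, Category.assoc, Category.assoc, hq, hkp₃.w, Category.assoc]

include hkp₃ huee₁ huee₂ huee₃ hact hq in
omit [Mono k] [IsMonHom k] [IsMonHom h] [GrpObj H] in
/-- `G/K` is the quotient of `G/H` by the action of `K/H` -/
theorem isColimit_qbar (wq : fst Q₁ Q₂ ≫ qbar = act ≫ qbar) :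
    Nonempty (IsColimit (Cofork.ofπ qbar wq)) := by
  have hE₁ : Epi π₁ := huee₁.epi
  have hE₃ : Epi π₃ := huee₃.epi
  haveI : EffectiveEpi π₃ := huee₃.effectiveEpi
  refine ⟨Cofork.IsColimit.mk' _ (fun s => ?_)⟩
  have hs : fst Q₁ Q₂ ≫ s.π = act ≫ s.π := s.condition
  have hcompat : ∀ {Z : 𝒮} (g₁ g₂ : Z ⟶ G), g₁ ≫ π₃ = g₂ ≫ π₃ →
      g₁ ≫ π₁ ≫ s.π = g₂ ≫ π₁ ≫ s.π := by
    intro Z g₁ g₂ hg
    have h1 := hkp₃.lift_fst g₁ g₂ hg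
    have h2 := hkp₃.lift_snd g₁ g₂ hg
    have h3 : fst G K ≫ π₁ ≫ s.π = mmul k ≫ π₁ ≫ s.π := by
      have h4 : (π₁ ⊗ₘ π₂) ≫ fst Q₁ Q₂ ≫ s.π = (π₁ ⊗ₘ π₂) ≫ act ≫ s.π := by rw [hs]
      rw [← Category.assoc, tensorHom_fst, ← Category.assoc (π₁ ⊗ₘ π₂), hact] at h4
      simpa using h4
    calc g₁ ≫ π₁ ≫ s.π = (hkp₃.lift g₁ g₂ hg ≫ fst G K) ≫ π₁ ≫ s.π := by rw [h1]
      _ = (hkp₃.lift g₁ g₂ hg ≫ mmul k) ≫ π₁ ≫ s.π := by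
        rw [Category.assoc, h3]; simp only [Category.assoc]
      _ = g₂ ≫ π₁ ≫ s.π := by rw [h2]
  refine ⟨EffectiveEpi.desc π₃ (π₁ ≫ s.π) (fun g₁ g₂ hg => hcompat g₁ g₂ hg), ?_, ?_⟩
  · change qbar ≫ _ = _
    rw [← cancel_epi π₁, ← Category.assoc, hq, EffectiveEpi.fac]
  · intro m hm
    change qbar ≫ m = _ at hm
    rw [← cancel_epi π₃, EffectiveEpi.fac, ← hq, Category.assoc, hm]

end thirdIso

end Groth.Agent.H3.GrpQuot
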