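import Mathlib
import Groth.Agent.Lib.Helper3.GrpQuot1
import Groth.Agent.S5217

/-!
# Quotients of sheaves of groups: instantiation of the abstract theory
-/

set_option autoImplicit false

open CategoryTheory Limits MonoidalCategory CartesianMonoidalCategory MonObj

universe w v₁ u₁

namespace Groth.Agent.H3.GrpQuot

variable {C : Type u₁} [Category.{v₁} C] (J : GrothendieckTopology C) [HasSheafify J (Type w)]

lemma sheaf_quot {H G : Sheaf J (Type w)} [hH : GrpObj H] [hG : GrpObj G] (u : H ⟶ G) [Mono u]
    (hu : @IsMonHom (Sheaf J (Type w)) _ _ H G hH.toMonObj hG.toMonObj u) :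
    IsKernelPair (coequalizer.π (fst G H) (mmul u)) (fst G H) (mmul u) ∧
      UEE (Sheaf J (Type w)) (coequalizer.π (fst G H) (mmul u)) := by
  haveI : IsEquivalenceRelation (fst G H) (mmul u) := (equivRel u).isEquivalenceRelation
  obtain ⟨⟨e⟩⟩ := Groth.Agent.S5217.result J (fst G H) (mmul u)
  exact coequalizer_isKernelPair_and_UEE e

end Groth.Agent.H3.GrpQuot
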