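import Mathlib
import Groth.Prelude.Def_Curv2
import Groth.Agent.Lib.Helper9.Misc.GSB2
import Groth.Agent.Lib.Helper1.BCStalk
import Groth.Agent.Lib.Lead.QC.Stalk

/-! Helper3: a group scheme locally of finite type over a field `k` is smooth as soon as
`O_{G,e} ⊗_k K` is reduced for one point `e` and one perfect extension `K` of `k`. -/

set_option autoImplicit false
universe u
open CategoryTheory CategoryTheory.Limits AlgebraicGeometry MonoidalCategory
  CartesianMonoidalCategory MonObj TensorProduct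

namespace Groth.Agent.H3.GrpRed

/-- the reduced locus of a Noetherian ring is open (local form). -/
theorem exists_isReduced_away (A : Type u) [CommRing A] [IsNoetherianRing A] (p : Ideal A)
    [p.IsPrime] (h : IsReduced (Localization.AtPrime p)) :
    ∃ f : A, f ∉ p ∧ IsReduced (Localization.Away f) := by
  classical
  have h1 : ∀ n ∈ nilradical A, ∃ s : A, s ∉ p ∧ s * n = 0 := by
    intro n hn
    have hnil : IsNilpotent (algebraMap A (Localization.AtPrime p) n) :=
      (mem_nilradical.mp hn).map _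
    have h0 : algebraMap A (Localization.AtPrime p) n = 0 := hnil.eq_zero
    obtain ⟨⟨s, hs⟩, hsn⟩ := (IsLocalization.map_eq_zero_iff p.primeCompl _ n).mp h0
    exact ⟨s, hs, hsn⟩
  obtain ⟨f, hf, hfN⟩ : ∃ f : A, f ∉ p ∧ ∀ n ∈ nilradical A, f * n = 0 := by
    obtain ⟨S, hS⟩ : (nilradical A).FG := IsNoetherian.noetherian _
    choose! s hs hsn using h1
    refine ⟨∏ n ∈ S, s n, ?_, ?_⟩
    · intro hmem
      obtain ⟨n, hnS, hn⟩ := (Ideal.IsPrime.prod_mem_iff (hp := ‹p.IsPrime›)).mp hmem
      exact hs n (hS ▸ Ideal.subset_span hnS) hn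
    · intro n hn
      rw [← hS] at hn
      induction hn using Submodule.span_induction with
      | mem x hx =>
        have hx' : x ∈ nilradical A := hS ▸ Ideal.subset_span hx
        rw [← Finset.mul_prod_erase S s hx, mul_comm (s x), _root_.mul_assoc, hsn x hx', mul_zero]
      | zero => exact mul_zero _
      | add x y _ _ hx hy => rw [mul_add, hx, hy, add_zero]
      | smul a x _ hx => rw [smul_eq_mul, mul_left_comm, hx, mul_zero]
  refine ⟨f, hf, ⟨?_⟩⟩
  intro z hz
  obtain ⟨⟨a, ⟨_, k, rfl⟩⟩, rfl⟩ := IsLocalization.mk'_surjective (Submonoid.powers f) z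
  obtain ⟨m, hm⟩ := hz
  rw [← IsLocalization.mk'_pow, IsLocalization.mk'_eq_zero_iff] at hm
  obtain ⟨⟨_, l, rfl⟩, hl⟩ := hm
  have hnil : f * a ∈ nilradical A := by
    rw [mem_nilradical]
    refine ⟨l + m, ?_⟩
    have : (f * a) ^ (l + m) = f ^ m * a ^ l * (f ^ l * a ^ m) := by ring
    rw [this, hl, mul_zero]
  rw [IsLocalization.mk'_eq_zero_iff]
  refine ⟨⟨f * f, 2, by ring⟩, ?_⟩
  change f * f * a = 0
  rw [_root_.mul_assoc]
  exact hfN _ hnil

/-- a point with reduced local ring on a locally Noetherian scheme has a reduced open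
neighbourhood. -/
theorem exists_isReduced_opens (X : Scheme.{u}) [IsLocallyNoetherian X] (x : X)
    (h : IsReduced (X.presheaf.stalk x)) : ∃ U : X.Opens, x ∈ U ∧ IsReduced (U : Scheme.{u}) := by
  obtain ⟨W, hW, hxW, -⟩ := exists_isAffineOpen_mem_and_subset (x := x) (U := ⊤) trivial
  haveI : IsNoetherianRing Γ(X, W) := IsLocallyNoetherian.component_noetherian ⟨W, hW⟩
  letI : Algebra Γ(X, W) (X.presheaf.stalk x) :=
    TopCat.Presheaf.algebra_section_stalk X.presheaf ⟨x, hxW⟩
  haveI := hW.isLocalization_stalk ⟨x, hxW⟩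
  let e : Localization.AtPrime (hW.primeIdealOf ⟨x, hxW⟩).asIdeal ≃ₐ[Γ(X, W)] X.presheaf.stalk x :=
    IsLocalization.algEquiv (hW.primeIdealOf ⟨x, hxW⟩).asIdeal.primeCompl _ _
  have hred : IsReduced (Localization.AtPrime (hW.primeIdealOf ⟨x, hxW⟩).asIdeal) :=
    isReduced_of_injective e.toRingEquiv.toRingHom e.injective
  obtain ⟨f, hf, hredf⟩ := exists_isReduced_away Γ(X, W) _ hred
  refine ⟨X.basicOpen f, ?_, ?_⟩
  · exact (X.mem_basicOpen f x hxW).mpr
      (Groth.Agent.LD.QC.isUnit_germ_of_notMem hW x hxW f hf)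
  · have hU : IsAffineOpen (X.basicOpen f) := hW.basicOpen f
    haveI : IsAffine (X.basicOpen f : Scheme.{u}) := hU
    haveI := hW.isLocalization_basicOpen f
    let e2 : Localization.Away f ≃ₐ[Γ(X, W)] Γ(X, X.basicOpen f) :=
      IsLocalization.algEquiv (Submonoid.powers f) _ _
    haveI : IsReduced Γ(X, X.basicOpen f) :=
      isReduced_of_injective e2.symm.toRingEquiv.toRingHom e2.symm.injective
    haveI : IsReduced Γ((X.basicOpen f : Scheme.{u}), ⊤) :=
      isReduced_of_injective (Scheme.Opens.topIso (X.basicOpen f)).hom.hom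
        ((Scheme.Opens.topIso (X.basicOpen f)).commRingCatIsoToRingEquiv.injective)
    exact isReduced_of_isAffine_isReduced _

/-- a group scheme locally of finite type over a field with nonempty smooth locus is smooth
(same statement as `Groth.Agent.H3.GrpSmoothE.smooth_of_nonempty_smoothLocus`, copied here to keep
the import closure small). -/
theorem smooth_of_nonempty_smoothLocus (k : Type u) [Field k]
    (G : Over (Spec (CommRingCat.of k))) [GrpObj G] [LocallyOfFiniteType G.hom]
    (h : (G.hom.smoothLocus : Set G.left).Nonempty) : Smooth G.hom := by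
  let Ω : Type u := AlgebraicClosure k
  let g : Spec (.of Ω) ⟶ Spec (.of k) := Spec.map (CommRingCat.ofHom <| algebraMap k Ω)
  apply MorphismProperty.of_pullback_snd_of_descendsAlong
    (Q := @Surjective ⊓ @Flat ⊓ @QuasiCompact) (g := g)
  · exact ⟨⟨inferInstance, inferInstance⟩, inferInstance⟩
  · letI : GrpObj (Over.mk G.hom) := ‹GrpObj G›
    let : GrpObj (Over.mk (Limits.pullback.snd G.hom g)) := Over.grpObjMkPullbackSnd
    apply Groth.Agent.H9.GSB.smooth_of_nonempty_smoothLocus
    obtain ⟨y, hy⟩ := h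
    obtain ⟨x', hx'⟩ := (pullback.fst G.hom g).surjective y
    exact ⟨x', Groth.Agent.H9.GSB.mem_smoothLocus_of_pullback _ _ x' (hx' ▸ hy)⟩

attribute [local instance] Curv2.stalkAlgebra in
/-- **smoothness of a group scheme from reducedness of `O_{G,e} ⊗_k K`, `K` perfect.** -/
theorem smooth_of_isReduced_tensor (k : Type u) [Field k]
    (G : Over (Spec (CommRingCat.of k))) [GrpObj G] [LocallyOfFiniteType G.hom] (e : G.left)
    (K : Type u) [Field K] [Algebra k K] [PerfectField K]
    (hred : letI : G.left.Over (Spec (CommRingCat.of k)) := ⟨G.hom⟩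
      IsReduced (G.left.presheaf.stalk e ⊗[k] K)) : Smooth G.hom := by
  letI ov : G.left.Over (Spec (CommRingCat.of k)) := ⟨G.hom⟩
  let g : Spec (.of K) ⟶ Spec (.of k) := Spec.map (CommRingCat.ofHom <| algebraMap k K)
  apply MorphismProperty.of_pullback_snd_of_descendsAlong
    (Q := @Surjective ⊓ @Flat ⊓ @QuasiCompact) (g := g)
  · exact ⟨⟨inferInstance, inferInstance⟩, inferInstance⟩
  · letI : GrpObj (Over.mk G.hom) := ‹GrpObj G›
    let : GrpObj (Over.mk (Limits.pullback.snd G.hom g)) := Over.grpObjMkPullbackSnd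
    haveI : LocallyOfFiniteType (Over.mk (Limits.pullback.snd G.hom g)).hom :=
      inferInstanceAs (LocallyOfFiniteType (Limits.pullback.snd G.hom g))
    apply smooth_of_nonempty_smoothLocus K (Over.mk (Limits.pullback.snd G.hom g))
    obtain ⟨x', hx'⟩ := (pullback.fst G.hom g).surjective e
    obtain ⟨q, -, ⟨ε⟩⟩ := Groth.Agent.H1.BCStalk.exists_prime_of_point k G.left K e x' hx'
    haveI : IsReduced (G.left.presheaf.stalk e ⊗[k] K) := hred
    have hst : IsReduced ((pullback G.hom g).presheaf.stalk x') :=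
      isReduced_of_injective ε.toRingHom ε.injective
    haveI : IsLocallyNoetherian (pullback G.hom g) :=
      LocallyOfFiniteType.isLocallyNoetherian (pullback.snd G.hom g)
    obtain ⟨U, hxU, hU⟩ := exists_isReduced_opens _ x' hst
    have hd := Scheme.Hom.dense_smoothLocus_of_perfectField (U.ι ≫ pullback.snd G.hom g)
    haveI : Nonempty U := ⟨⟨x', hxU⟩⟩
    obtain ⟨y, hy⟩ := hd.nonempty
    refine ⟨U.ι y, ?_⟩
    have h1 : U.ι ⁻¹ᵁ (pullback.snd G.hom g).smoothLocus =
        (U.ι ≫ pullback.snd G.hom g).smoothLocus := Scheme.Hom.preimage_smoothLocus_eq _ _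
    have h2 : y ∈ U.ι ⁻¹ᵁ (pullback.snd G.hom g).smoothLocus := h1 ▸ hy
    exact h2

end Groth.Agent.H3.GrpRed
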