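import Mathlib
import Groth.Agent.Lib.Helper9.Misc.GSB2
import Groth.Agent.Lib.Helper1.SmoothReg2
import Groth.Agent.Lib.Helper1.SmoothDepth
import Groth.Agent.Lib.Helper1.GrpEquidim

/-!
# Group schemes over a field: smoothness can be tested at the unit point (helper3)
-/

set_option autoImplicit false

open CategoryTheory CategoryTheory.Limits AlgebraicGeometry MonoidalCategory
  CartesianMonoidalCategory MonObj

universe u

namespace Groth.Agent.H3.GrpSmoothE

open Groth.Agent.H1.SmoothReg

/-- a group scheme locally of finite type over a field with nonempty smooth locus is smooth -/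
theorem smooth_of_nonempty_smoothLocus (k : Type u) [Field k]
    (G : Over (Spec (CommRingCat.of k))) [GrpObj G] [LocallyOfFiniteType G.hom]
    (h : (G.hom.smoothLocus : Set G.left).Nonempty) : Smooth G.hom := by
  let Ω : Type u := AlgebraicClosure k
  let g : Spec (.of Ω) ⟶ Spec (.of k) := Spec.map (CommRingCat.ofHom <| algebraMap k Ω)
  apply MorphismProperty.of_pullback_snd_of_descendsAlong
    (Q := @Surjective ⊓ @Flat ⊓ @QuasiCompact) (g := g)
  · exact ⟨⟨inferInstance, inferInstance⟩, inferInstance⟩
  · letI : GrpObj (Over.mk G.hom) := ‹GrpObj G›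
    let : GrpObj (Over.mk (Limits.pullback.snd G.hom g)) := Over.grpObjMkPullbackSnd
    apply Groth.Agent.H9.GSB.smooth_of_nonempty_smoothLocus
    obtain ⟨y, hy⟩ := h
    obtain ⟨x', hx'⟩ := (pullback.fst G.hom g).surjective y
    exact ⟨x', Groth.Agent.H9.GSB.mem_smoothLocus_of_pullback _ _ x' (hx' ▸ hy)⟩

/-- the residue field at a rational point (image of a section) is the base field -/
theorem resMap_surjective_of_section {K : Type u} [Field K] {X : Scheme.{u}}
    (f : X ⟶ Spec (CommRingCat.of K)) (σ : Spec (CommRingCat.of K) ⟶ X) (hσ : σ ≫ f = 𝟙 _)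
    (t : Spec (CommRingCat.of K)) :
    Function.Surjective ((X.residue (σ t)).hom.comp (stalkMapK f (σ t))) := by
  intro z
  obtain ⟨s, rfl⟩ := X.residue_surjective (σ t) z
  obtain ⟨c, hc⟩ := (baseMapK_bijective K t).2 ((σ.stalkMap t).hom s)
  refine ⟨c, ?_⟩
  have key : (σ.stalkMap t).hom (stalkMapK f (σ t) c) = baseMapK K t c := by
    have h := Scheme.Hom.germ_stalkMap σ ⊤ t trivial
    have h2 := congr($(h).hom (f.appTop.hom ((Scheme.ΓSpecIso (CommRingCat.of K)).inv.hom c)))
    have h3 : σ.appTop.hom (f.appTop.hom ((Scheme.ΓSpecIso (CommRingCat.of K)).inv.hom c)) =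
        (Scheme.ΓSpecIso (CommRingCat.of K)).inv.hom c := by
      have h4 : f.appTop ≫ σ.appTop = 𝟙 _ := by
        rw [← Scheme.Hom.comp_appTop, hσ, Scheme.Hom.id_appTop]
      exact congr($(h4).hom ((Scheme.ΓSpecIso (CommRingCat.of K)).inv.hom c))
    refine h2.trans ?_
    show ((Spec (CommRingCat.of K)).presheaf.germ _ t _).hom
      (σ.appTop.hom (f.appTop.hom ((Scheme.ΓSpecIso (CommRingCat.of K)).inv.hom c))) = _
    rw [h3]
    rfl
  have hker : (σ.stalkMap t).hom (s - stalkMapK f (σ t) c) = 0 := by
    rw [map_sub, key, hc, sub_self]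
  have hnu : ¬ IsUnit (s - stalkMapK f (σ t) c) := fun hu => by
    have h5 := hu.map (σ.stalkMap t).hom
    rw [hker] at h5
    exact not_isUnit_zero h5
  have h6 : IsLocalRing.residue (X.presheaf.stalk (σ t)) (s - stalkMapK f (σ t) c) = 0 :=
    (IsLocalRing.residue_eq_zero_iff _).mpr ((IsLocalRing.mem_maximalIdeal _).mpr hnu)
  rw [map_sub, sub_eq_zero] at h6
  exact h6.symm

/-- the unit point of a group scheme locally of finite type over a field is a smooth point as
soon as its local ring is regular -/
theorem unit_mem_smoothLocus_of_regular (k : Type u) [Field k]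
    (G : Over (Spec (CommRingCat.of k))) [GrpObj G] [LocallyOfFiniteType G.hom]
    (t : Spec (CommRingCat.of k))
    (hreg : IsRegularLocalRing (G.left.presheaf.stalk (η[G].left t))) :
    η[G].left t ∈ G.hom.smoothLocus := by
  refine mem_smoothLocus_of_isRegularLocalRing_of_isSeparable k G.hom _ hreg ?_
  letI alg : Algebra k (G.left.residueField (η[G].left t)) :=
    ((G.left.residue (η[G].left t)).hom.comp (stalkMapK G.hom (η[G].left t))).toAlgebra
  have hsurj : Function.Surjective (algebraMap k (G.left.residueField (η[G].left t))) :=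
    resMap_surjective_of_section G.hom η[G].left (Over.w η[G]) t
  refine ⟨fun x => ?_⟩
  obtain ⟨c, rfl⟩ := hsurj x
  exact isSeparable_algebraMap c

/-- **regular at the unit ⇒ smooth** for group schemes locally of finite type over a field -/
theorem smooth_of_regular_unit (k : Type u) [Field k]
    (G : Over (Spec (CommRingCat.of k))) [GrpObj G] [LocallyOfFiniteType G.hom]
    (t : Spec (CommRingCat.of k))
    (hreg : IsRegularLocalRing (G.left.presheaf.stalk (η[G].left t))) : Smooth G.hom :=
  smooth_of_nonempty_smoothLocus k G ⟨_, unit_mem_smoothLocus_of_regular k G t hreg⟩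

/-- an open neighbourhood of some point smooth ⇒ smooth -/
theorem smooth_of_smooth_opens (k : Type u) [Field k]
    (G : Over (Spec (CommRingCat.of k))) [GrpObj G] [LocallyOfFiniteType G.hom]
    (U : G.left.Opens) (x : G.left) (hx : x ∈ U) [Smooth (U.ι ≫ G.hom)] : Smooth G.hom := by
  apply smooth_of_nonempty_smoothLocus k G
  refine ⟨x, ?_⟩
  have h1 : U.ι ⁻¹ᵁ G.hom.smoothLocus = (U.ι ≫ G.hom).smoothLocus :=
    Scheme.Hom.preimage_smoothLocus_eq _ _
  rw [Scheme.Hom.smoothLocus_eq_top (U.ι ≫ G.hom)] at h1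
  have h2 : (⟨x, hx⟩ : U) ∈ U.ι ⁻¹ᵁ G.hom.smoothLocus := by rw [h1]; trivial
  exact h2

end Groth.Agent.H3.GrpSmoothE
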