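import Mathlib

/-!
# Hasse–Davenport: the character `λ` on monic polynomials and its sums over fixed degree
-/

open Polynomial

namespace Groth.Agent.H3.HD

section lam

variable {F : Type*} [Field F] {R : Type*} [CommRing R] (χ : MulChar F R) (ψ : AddChar F R)

/-- `λ(h) = ψ(c₁) χ(c_d)` for `h = X^d - c₁ X^{d-1} + ⋯ + (-1)^d c_d`. -/
noncomputable def lam (h : F[X]) : R :=
  ψ (-h.nextCoeff) * χ ((-1) ^ h.natDegree * h.coeff 0)

theorem lam_one : lam χ ψ 1 = 1 := by
  have : (1 : F[X]).nextCoeff = 0 := by rw [← map_one (f := C), nextCoeff_C_eq_zero]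
  simp [lam, this]

theorem lam_mul {f g : F[X]} (hf : f.Monic) (hg : g.Monic) :
    lam χ ψ (f * g) = lam χ ψ f * lam χ ψ g := by
  unfold lam
  rw [hf.nextCoeff_mul hg, hf.natDegree_mul hg, mul_coeff_zero, neg_add, AddChar.map_add_eq_mul,
    pow_add, mul_mul_mul_comm ((-1 : F) ^ f.natDegree), map_mul]
  ring

theorem lam_pow {f : F[X]} (hf : f.Monic) (r : ℕ) : lam χ ψ (f ^ r) = lam χ ψ f ^ r := by
  induction r with
  | zero => rw [pow_zero, pow_zero, lam_one]
  | succ r ih => rw [pow_succ, pow_succ, lam_mul χ ψ (hf.pow r) hf, ih]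

theorem lam_X_sub_C (c : F) : lam χ ψ (X - C c) = χ c * ψ c := by
  unfold lam
  rw [nextCoeff_X_sub_C, natDegree_X_sub_C, neg_neg, pow_one, coeff_sub, coeff_X_zero, coeff_C_zero,
    zero_sub, neg_one_mul, neg_neg, mul_comm]

end lam

section Mon

variable (F : Type*) [Field F] [Finite F]

theorem finite_monic (d : ℕ) : {h : F[X] | h.Monic ∧ h.natDegree = d}.Finite := by
  have h1 : Finite ↥(degreeLT F (d + 1)) :=
    Finite.of_equiv _ (degreeLTEquiv F (d + 1)).symm.toEquiv
  have h2 : ((degreeLT F (d + 1) : Submodule F F[X]) : Set F[X]).Finite := Set.toFinite _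
  refine h2.subset ?_
  rintro h ⟨-, hd⟩
  rw [SetLike.mem_coe, mem_degreeLT]
  calc h.degree ≤ h.natDegree := degree_le_natDegree
    _ < (d + 1 : ℕ) := by rw [hd]; exact_mod_cast Nat.lt_succ_self d

/-- Monic polynomials of degree `d` over a finite field. -/
noncomputable def Mon (d : ℕ) : Finset F[X] := (finite_monic F d).toFinset

variable {F}

theorem mem_Mon {d : ℕ} {h : F[X]} : h ∈ Mon F d ↔ h.Monic ∧ h.natDegree = d := by
  simp [Mon]

theorem Mon_zero : Mon F 0 = {1} := by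
  ext h
  rw [mem_Mon, Finset.mem_singleton]
  constructor
  · rintro ⟨hm, hd⟩
    exact hm.natDegree_eq_zero.mp hd
  · rintro rfl
    exact ⟨monic_one, natDegree_one⟩

end Mon

section sums

variable {F : Type*} [Field F] [Fintype F] {R : Type*} [CommRing R] (χ : MulChar F R)
  (ψ : AddChar F R)

/-- The sum of `λ` over the monic polynomials of degree `d`. -/
noncomputable def S (d : ℕ) : R := ∑ h ∈ Mon F d, lam χ ψ h

theorem S_zero : S χ ψ 0 = 1 := by
  rw [S, Mon_zero, Finset.sum_singleton, lam_one]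

theorem S_one : S χ ψ 1 = ∑ c : F, χ c * ψ c := by
  rw [S]
  symm
  refine Finset.sum_nbij' (fun c => X - C c) (fun h => -h.coeff 0) ?_ ?_ ?_ ?_ ?_
  · intro c _
    exact mem_Mon.mpr ⟨monic_X_sub_C c, natDegree_X_sub_C c⟩
  · intro h _; exact Finset.mem_univ _
  · intro c _
    simp
  · intro h hh
    obtain ⟨hm, hd⟩ := mem_Mon.mp hh
    conv_rhs => rw [hm.eq_X_add_C hd]
    rw [map_neg, sub_neg_eq_add]
  · intro c _
    exact (lam_X_sub_C χ ψ c).symm

theorem S_eq_zero [IsDomain R] (hψ : ψ ≠ 1) {d : ℕ} (hd : 2 ≤ d) : S χ ψ d = 0 := by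
  obtain ⟨a, ha⟩ := (AddChar.ne_one_iff).mp hψ
  have key : S χ ψ d = ψ a * S χ ψ d := by
    rw [S, Finset.mul_sum]
    have hdeg : ∀ h : F[X], h.Monic → h.natDegree = d → ∀ b : F,
        (h + C b * X ^ (d - 1)).Monic ∧ (h + C b * X ^ (d - 1)).natDegree = d ∧
        (h + C b * X ^ (d - 1)).nextCoeff = h.nextCoeff + b ∧
        (h + C b * X ^ (d - 1)).coeff 0 = h.coeff 0 := by
      intro h hm hd' b
      have hlt : (C b * X ^ (d - 1)).degree < h.degree := by
        rw [degree_eq_natDegree hm.ne_zero, hd']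
        refine lt_of_le_of_lt (degree_C_mul_X_pow_le _ _) ?_
        exact_mod_cast Nat.sub_lt (by omega) one_pos
      have hnat : (h + C b * X ^ (d - 1)).natDegree = d := by
        rw [natDegree_add_eq_left_of_degree_lt hlt, hd']
      refine ⟨hm.add_of_left hlt, hnat, ?_, ?_⟩
      · rw [nextCoeff_of_natDegree_pos (by omega), nextCoeff_of_natDegree_pos (by omega), hnat, hd',
          coeff_add, coeff_C_mul, coeff_X_pow, if_pos rfl, mul_one]
      · rw [coeff_add, coeff_C_mul, coeff_X_pow, if_neg (by omega), mul_zero, add_zero]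
    refine Finset.sum_nbij' (fun h => h + C a * X ^ (d - 1)) (fun h => h + C (-a) * X ^ (d - 1))
      ?_ ?_ ?_ ?_ ?_
    · intro h hh
      obtain ⟨hm, hd'⟩ := mem_Mon.mp hh
      obtain ⟨h1, h2, -, -⟩ := hdeg h hm hd' a
      exact mem_Mon.mpr ⟨h1, h2⟩
    · intro h hh
      obtain ⟨hm, hd'⟩ := mem_Mon.mp hh
      obtain ⟨h1, h2, -, -⟩ := hdeg h hm hd' (-a)
      exact mem_Mon.mpr ⟨h1, h2⟩
    · intro h _; simp
    · intro h _; simp
    · intro h hh
      obtain ⟨hm, hd'⟩ := mem_Mon.mp hh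
      obtain ⟨h1, h2, h3, h4⟩ := hdeg h hm hd' a
      unfold lam
      rw [h2, h3, h4, hd', neg_add, AddChar.map_add_eq_mul]
      have hu : ψ a * ψ (-a) = 1 := by
        rw [← AddChar.map_add_eq_mul, add_neg_cancel, AddChar.map_zero_eq_one]
      calc ψ (-h.nextCoeff) * χ ((-1) ^ d * h.coeff 0)
          = (ψ a * ψ (-a)) * (ψ (-h.nextCoeff) * χ ((-1) ^ d * h.coeff 0)) := by
            rw [hu, one_mul]
        _ = _ := by ring
  have h2 : (1 - ψ a) * S χ ψ d = 0 := by rw [sub_mul, one_mul, ← key, sub_self]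
  rcases mul_eq_zero.mp h2 with h | h
  · exact absurd (sub_eq_zero.mp h).symm ha
  · exact h

end sums

end Groth.Agent.H3.HD
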