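import Mathlib
import Groth.Agent.Lib.Helper3.HDA

/-!
# Hasse–Davenport: counting prime-power divisors of monic polynomials
-/

open Polynomial UniqueFactorizationMonoid

namespace Groth.Agent.H3.HD

section IRR

variable (F : Type*) [Field F] [Fintype F]

open Classical in
/-- Monic irreducible polynomials of degree at most `n`. -/
noncomputable def IRR (n : ℕ) : Finset F[X] :=
  ((Finset.range (n + 1)).biUnion (Mon F)).filter Irreducible

variable {F}

theorem mem_IRR {n : ℕ} {f : F[X]} : f ∈ IRR F n ↔ f.Monic ∧ Irreducible f ∧ f.natDegree ≤ n := by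
  classical
  rw [IRR, Finset.mem_filter, Finset.mem_biUnion]
  constructor
  · rintro ⟨⟨d, hd, hf⟩, hirr⟩
    obtain ⟨hm, hdeg⟩ := mem_Mon.mp hf
    exact ⟨hm, hirr, by rw [hdeg]; exact Nat.lt_succ_iff.mp (Finset.mem_range.mp hd)⟩
  · rintro ⟨hm, hirr, hle⟩
    exact ⟨⟨f.natDegree, Finset.mem_range.mpr (Nat.lt_succ_iff.mpr hle), mem_Mon.mpr ⟨hm, rfl⟩⟩, hirr⟩

theorem IRR_mono {m n : ℕ} (h : m ≤ n) : IRR F m ⊆ IRR F n := by
  intro f hf
  obtain ⟨h1, h2, h3⟩ := mem_IRR.mp hf
  exact mem_IRR.mpr ⟨h1, h2, h3.trans h⟩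

end IRR

section count

variable {F : Type*} [Field F] [Fintype F]

open Classical in
/-- The degree of a monic polynomial counts its monic prime-power divisors, weighted by the degree
of the prime. -/
theorem natDegree_eq_sum {n : ℕ} {h : F[X]} (hm : h.Monic) (hn : h.natDegree = n) :
    n = ∑ f ∈ IRR F n, ∑ r ∈ Finset.Icc 1 n, if f ^ r ∣ h then f.natDegree else 0 := by
  classical
  have hne : h ≠ 0 := hm.ne_zero
  have hP : ∀ f ∈ normalizedFactors h, f.Monic ∧ Irreducible f ∧ f ∣ h := by
    intro f hf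
    refine ⟨?_, irreducible_of_normalized_factor f hf, dvd_of_mem_normalizedFactors hf⟩
    rw [← normalize_normalized_factor f hf]
    exact monic_normalize (irreducible_of_normalized_factor f hf).ne_zero
  have hprod : (normalizedFactors h).prod = h := by
    rw [prod_normalizedFactors_eq hne, hm.normalize_eq_self]
  have hdeg : h.natDegree = ∑ f ∈ (normalizedFactors h).toFinset,
      (normalizedFactors h).count f * f.natDegree := by
    conv_lhs => rw [← hprod]
    rw [natDegree_multiset_prod_of_monic _ (fun f hf => (hP f hf).1),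
      Finset.sum_multiset_map_count]
    rfl
  have hsub : (normalizedFactors h).toFinset ⊆ IRR F n := by
    intro f hf
    rw [Multiset.mem_toFinset] at hf
    obtain ⟨h1, h2, h3⟩ := hP f hf
    exact mem_IRR.mpr ⟨h1, h2, by rw [← hn]; exact natDegree_le_of_dvd h3 hne⟩
  have hdeg' : n = ∑ f ∈ (normalizedFactors h).toFinset,
      (normalizedFactors h).count f * f.natDegree := hn ▸ hdeg
  refine hdeg'.trans ?_
  rw [Finset.sum_subset hsub (fun f _ hf => by
    rw [Multiset.mem_toFinset] at hf
    rw [Multiset.count_eq_zero_of_notMem hf, zero_mul])]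
  refine Finset.sum_congr rfl fun f hf => ?_
  obtain ⟨hfm, hfi, hfd⟩ := mem_IRR.mp hf
  have hiff : ∀ r : ℕ, f ^ r ∣ h ↔ r ≤ (normalizedFactors h).count f := by
    intro r
    rw [pow_dvd_iff_le_emultiplicity, le_emultiplicity_iff_replicate_le_normalizedFactors hfi hne,
      hfm.normalize_eq_self, Multiset.le_count_iff_replicate_le]
  have hcn : (normalizedFactors h).count f ≤ n := by
    have h1 : f ^ (normalizedFactors h).count f ∣ h := (hiff _).mpr le_rfl
    have h2 := natDegree_le_of_dvd h1 hne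
    rw [natDegree_pow, hn] at h2
    have h3 : 1 ≤ f.natDegree := hfi.natDegree_pos
    calc (normalizedFactors h).count f = (normalizedFactors h).count f * 1 := (mul_one _).symm
      _ ≤ (normalizedFactors h).count f * f.natDegree := Nat.mul_le_mul_left _ h3
      _ ≤ n := h2
  simp_rw [hiff]
  rw [← Finset.sum_filter]
  have : (Finset.Icc 1 n).filter (fun r => r ≤ (normalizedFactors h).count f) =
      Finset.Icc 1 ((normalizedFactors h).count f) := by
    ext r
    simp only [Finset.mem_filter, Finset.mem_Icc]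
    omega
  rw [this, Finset.sum_const, Nat.card_Icc, smul_eq_mul, Nat.add_sub_cancel]

end count

section inner

variable {F : Type*} [Field F] [Fintype F] {M : Type*} [AddCommMonoid M]

theorem sum_dvd_eq {n k : ℕ} {p : F[X]} (hp : p.Monic)
    (hk : p.natDegree = k) (G : F[X] → M) [DecidablePred fun h : F[X] => p ∣ h] :
    ∑ h ∈ (Mon F n).filter (fun h => p ∣ h), G h =
      if k ≤ n then ∑ h' ∈ Mon F (n - k), G (p * h') else 0 := by
  split_ifs with hkn
  · symm
    refine Finset.sum_nbij' (fun h' => p * h') (fun h => h / p) ?_ ?_ ?_ ?_ ?_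
    · intro h' hh'
      obtain ⟨hm', hd'⟩ := mem_Mon.mp hh'
      rw [Finset.mem_filter, mem_Mon]
      refine ⟨⟨hp.mul hm', ?_⟩, dvd_mul_right p h'⟩
      rw [hp.natDegree_mul hm', hk, hd']
      omega
    · intro h hh
      rw [Finset.mem_filter, mem_Mon] at hh
      obtain ⟨⟨hm, hd⟩, c, rfl⟩ := hh
      rw [mul_div_cancel_left₀ _ hp.ne_zero, mem_Mon]
      have hc : c.Monic := hp.of_mul_monic_left hm
      refine ⟨hc, ?_⟩
      rw [hp.natDegree_mul hc, hk] at hd
      omega
    · intro h' _
      exact mul_div_cancel_left₀ _ hp.ne_zero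
    · intro h hh
      rw [Finset.mem_filter] at hh
      obtain ⟨c, rfl⟩ := hh.2
      rw [mul_div_cancel_left₀ _ hp.ne_zero]
    · intro h' _; rfl
  · apply Finset.sum_eq_zero
    intro h hh
    exfalso
    rw [Finset.mem_filter, mem_Mon] at hh
    obtain ⟨⟨hm, hd⟩, hdvd⟩ := hh
    have := natDegree_le_of_dvd hdvd hm.ne_zero
    omega

end inner

section main

variable {F : Type*} [Field F] [Fintype F] {R : Type*} [CommRing R] (χ : MulChar F R)
  (ψ : AddChar F R)

theorem card_mul_S (n : ℕ) :
    (n : R) * S χ ψ n = ∑ f ∈ IRR F n, ∑ r ∈ Finset.Icc 1 n,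
      if r * f.natDegree ≤ n then
        (f.natDegree : R) * (lam χ ψ f ^ r * S χ ψ (n - r * f.natDegree)) else 0 := by
  classical
  have h1 : (n : R) * S χ ψ n = ∑ h ∈ Mon F n, ∑ f ∈ IRR F n, ∑ r ∈ Finset.Icc 1 n,
      if f ^ r ∣ h then (f.natDegree : R) * lam χ ψ h else 0 := by
    rw [S, Finset.mul_sum]
    refine Finset.sum_congr rfl fun h hh => ?_
    obtain ⟨hm, hd⟩ := mem_Mon.mp hh
    conv_lhs => rw [natDegree_eq_sum hm hd]
    rw [Nat.cast_sum, Finset.sum_mul]
    refine Finset.sum_congr rfl fun f _ => ?_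
    rw [Nat.cast_sum, Finset.sum_mul]
    refine Finset.sum_congr rfl fun r _ => ?_
    split_ifs <;> simp
  rw [h1, Finset.sum_comm]
  refine Finset.sum_congr rfl fun f hf => ?_
  obtain ⟨hfm, hfi, hfd⟩ := mem_IRR.mp hf
  rw [Finset.sum_comm]
  refine Finset.sum_congr rfl fun r _ => ?_
  rw [← Finset.sum_filter, ← Finset.mul_sum,
    sum_dvd_eq (hfm.pow r) (natDegree_pow f r) (lam χ ψ)]
  split_ifs with hle
  · congr 1
    rw [S, Finset.mul_sum]
    refine Finset.sum_congr rfl fun h' hh' => ?_
    rw [lam_mul χ ψ (hfm.pow r) (mem_Mon.mp hh').1, lam_pow χ ψ hfm]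
  · rw [mul_zero]

end main

end Groth.Agent.H3.HD
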