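import Mathlib
import Groth.Agent.Lib.Helper3.HDB

/-!
# Hasse–Davenport: the recursion for the prime-power sums `T n`
-/

open Polynomial

namespace Groth.Agent.H3.HD

section T

variable {F : Type*} [Field F] [Fintype F] {R : Type*} [CommRing R] (χ : MulChar F R)
  (ψ : AddChar F R)

/-- `T m = ∑_{f monic irreducible, deg f ∣ m} deg f · λ(f)^{m / deg f}`. -/
noncomputable def T (m : ℕ) : R :=
  ∑ f ∈ IRR F m, if f.natDegree ∣ m then (f.natDegree : R) * lam χ ψ f ^ (m / f.natDegree) else 0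

theorem sum_eq_T {N m : ℕ} (hN : m ≤ N) :
    ∑ f ∈ IRR F N, ∑ r ∈ Finset.Icc 1 N,
      (if r * f.natDegree = m then (f.natDegree : R) * lam χ ψ f ^ r else 0) = T χ ψ m := by
  classical
  have inner : ∀ f ∈ IRR F N, ∑ r ∈ Finset.Icc 1 N,
      (if r * f.natDegree = m then (f.natDegree : R) * lam χ ψ f ^ r else 0) =
      if f.natDegree ∣ m ∧ 1 ≤ m then (f.natDegree : R) * lam χ ψ f ^ (m / f.natDegree) else 0 := by
    intro f hf
    obtain ⟨hfm, hfi, hfd⟩ := mem_IRR.mp hf
    have hpos : 1 ≤ f.natDegree := hfi.natDegree_pos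
    split_ifs with hdvd
    · obtain ⟨⟨c, hc⟩, hm1⟩ := hdvd
      have hc1 : 1 ≤ c := by
        rcases Nat.eq_zero_or_pos c with h | h
        · subst h; omega
        · exact h
      have hdiv : m / f.natDegree = c := by
        rw [hc]; exact Nat.mul_div_cancel_left c hpos
      rw [Finset.sum_eq_single c]
      · rw [if_pos (by rw [hc, mul_comm]), hdiv]
      · intro r _ hrc
        rw [if_neg]
        intro h
        apply hrc
        rw [hc, mul_comm] at h
        exact Nat.eq_of_mul_eq_mul_left hpos h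
      · intro hcN
        exfalso
        apply hcN
        rw [Finset.mem_Icc]
        refine ⟨hc1, ?_⟩
        calc c = 1 * c := (one_mul c).symm
          _ ≤ f.natDegree * c := Nat.mul_le_mul_right c hpos
          _ = m := hc.symm
          _ ≤ N := hN
    · apply Finset.sum_eq_zero
      intro r hr
      rw [if_neg]
      intro h
      apply hdvd
      refine ⟨⟨r, by rw [← h, mul_comm]⟩, ?_⟩
      have : 1 ≤ r := (Finset.mem_Icc.mp hr).1
      rw [← h]
      exact Nat.mul_pos this hpos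
  rw [Finset.sum_congr rfl inner, T]
  symm
  rw [← Finset.sum_subset (IRR_mono hN)]
  · refine Finset.sum_congr rfl fun f hf => ?_
    obtain ⟨hfm, hfi, hfd⟩ := mem_IRR.mp hf
    have hpos : 1 ≤ f.natDegree := hfi.natDegree_pos
    by_cases h : f.natDegree ∣ m
    · rw [if_pos h, if_pos ⟨h, hpos.trans hfd⟩]
    · rw [if_neg h, if_neg (fun h' => h h'.1)]
  · intro f hf hnf
    rw [if_neg]
    rintro ⟨hdvd, hm1⟩
    apply hnf
    obtain ⟨hfm, hfi, hfd⟩ := mem_IRR.mp hf
    exact mem_IRR.mpr ⟨hfm, hfi, Nat.le_of_dvd hm1 hdvd⟩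

variable [IsDomain R]

theorem card_mul_S_eq (hψ : ψ ≠ 1) {n : ℕ} (hn : 1 ≤ n) :
    (n : R) * S χ ψ n = T χ ψ n + (∑ c : F, χ c * ψ c) * T χ ψ (n - 1) := by
  classical
  rw [card_mul_S, ← sum_eq_T χ ψ (le_refl n), ← sum_eq_T χ ψ (Nat.sub_le n 1), Finset.mul_sum,
    ← Finset.sum_add_distrib]
  refine Finset.sum_congr rfl fun f hf => ?_
  rw [Finset.mul_sum, ← Finset.sum_add_distrib]
  refine Finset.sum_congr rfl fun r hr => ?_
  by_cases h0 : r * f.natDegree = n
  · rw [if_pos h0.le, if_pos h0, if_neg (by omega), h0, Nat.sub_self, S_zero]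
    ring
  · by_cases h1 : r * f.natDegree = n - 1
    · rw [if_pos (by omega), if_neg h0, if_pos h1]
      have : n - r * f.natDegree = 1 := by omega
      rw [this, S_one]
      ring
    · rw [if_neg h0, if_neg h1]
      split_ifs with hle
      · rw [S_eq_zero χ ψ hψ (by omega)]
        ring
      · ring

theorem T_one (hψ : ψ ≠ 1) : T χ ψ 1 = ∑ c : F, χ c * ψ c := by
  have h := card_mul_S_eq χ ψ hψ (le_refl 1)
  have h0 : T χ ψ 0 = 0 := by
    rw [T]
    apply Finset.sum_eq_zero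
    intro f hf
    obtain ⟨hfm, hfi, hfd⟩ := mem_IRR.mp hf
    have := hfi.natDegree_pos
    omega
  rw [Nat.sub_self, h0, mul_zero, add_zero, Nat.cast_one, one_mul, S_one] at h
  exact h.symm

theorem T_succ (hψ : ψ ≠ 1) {n : ℕ} (hn : 1 ≤ n) :
    T χ ψ (n + 1) = -(∑ c : F, χ c * ψ c) * T χ ψ n := by
  have h := card_mul_S_eq χ ψ hψ (n := n + 1) (by omega)
  rw [S_eq_zero χ ψ hψ (by omega), mul_zero, Nat.add_sub_cancel] at h
  rw [neg_mul]
  exact eq_neg_of_add_eq_zero_left h.symm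

theorem T_eq (hψ : ψ ≠ 1) {n : ℕ} (hn : 1 ≤ n) :
    T χ ψ n = -(-(∑ c : F, χ c * ψ c)) ^ n := by
  induction n, hn using Nat.le_induction with
  | base => rw [T_one χ ψ hψ]; ring
  | succ n hn ih => rw [T_succ χ ψ hψ hn, ih]; ring

end T

end Groth.Agent.H3.HD
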