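import Mathlib
import Groth.Agent.Lib.Helper3.HDC

/-!
# Hasse–Davenport: the Gauss sum over the extension equals `T n`, and the lifting relation
-/

open Polynomial IntermediateField

namespace Groth.Agent.H3.HD

section ext

variable {F F' : Type*} [Field F] [Fintype F] [Field F'] [Fintype F'] [Algebra F F']
  {R : Type*} [CommRing R] (χ : MulChar F R) (ψ : AddChar F R)

theorem pointwise (α : F') :
    χ (Algebra.norm F α) * ψ (Algebra.trace F F' α) =
      lam χ ψ (minpoly F α) ^ (Module.finrank F F' / (minpoly F α).natDegree) := by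
  have hint : IsIntegral F α := .of_finite F α
  have hd : Module.finrank F F⟮α⟯ = (minpoly F α).natDegree := adjoin.finrank hint
  have hmul : Module.finrank F F⟮α⟯ * Module.finrank F⟮α⟯ F' = Module.finrank F F' :=
    Module.finrank_mul_finrank F F⟮α⟯ F'
  have hpos : 0 < (minpoly F α).natDegree := minpoly.natDegree_pos hint
  have hdiv : Module.finrank F F' / (minpoly F α).natDegree = Module.finrank F⟮α⟯ F' := by
    rw [← hmul, hd]
    exact Nat.mul_div_cancel_left _ hpos
  have htr : Algebra.trace F F' α =
      Module.finrank F⟮α⟯ F' • (-(minpoly F α).nextCoeff) := by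
    rw [trace_eq_finrank_mul_minpoly_nextCoeff F α, nsmul_eq_mul]
  have hnorm : Algebra.norm F α =
      ((-1) ^ (minpoly F α).natDegree * (minpoly F α).coeff 0) ^ Module.finrank F⟮α⟯ F' := by
    rw [Algebra.norm_eq_norm_adjoin F α]
    congr 1
    have := Algebra.PowerBasis.norm_gen_eq_coeff_zero_minpoly (adjoin.powerBasis hint)
    rw [adjoin.powerBasis_gen, adjoin.powerBasis_dim, minpoly_gen] at this
    exact this
  rw [hdiv, htr, hnorm, AddChar.map_nsmul_eq_pow, map_pow, lam, mul_pow, mul_comm]

theorem card_minpoly_eq {f : F[X]} (hm : f.Monic) (hirr : Irreducible f)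
    [DecidablePred fun α : F' => minpoly F α = f] :
    (Finset.univ.filter fun α : F' => minpoly F α = f).card =
      if f.natDegree ∣ Module.finrank F F' then f.natDegree else 0 := by
  classical
  split_ifs with hdvd
  · -- roots
    have hdvd' : f ∣ X ^ (Nat.card F) ^ (Module.finrank F F') - X :=
      (hirr.natDegree_dvd_iff_dvd_X_pow_card_pow_sub_X).mp hdvd
    have hcard : Fintype.card F' = (Nat.card F) ^ (Module.finrank F F') := by
      rw [Nat.card_eq_fintype_card]
      exact Module.card_eq_pow_finrank
    have hdvd2 : f.map (algebraMap F F') ∣ (X ^ Fintype.card F' - X : F'[X]) := by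
      have := Polynomial.map_dvd (algebraMap F F') hdvd'
      rwa [Polynomial.map_sub, Polynomial.map_pow, Polynomial.map_X, ← hcard] at this
    have hne : (X ^ Fintype.card F' - X : F'[X]) ≠ 0 :=
      FiniteField.X_pow_card_sub_X_ne_zero F' Fintype.one_lt_card
    have hfne : f.map (algebraMap F F') ≠ 0 := (hm.map _).ne_zero
    have hroots : (X ^ Fintype.card F' - X : F'[X]).roots = Finset.univ.val :=
      FiniteField.roots_X_pow_card_sub_X F'
    have hsplit : (X ^ Fintype.card F' - X : F'[X]).Splits := by
      rw [splits_iff_card_roots, hroots, Finset.card_val, Finset.card_univ,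
        FiniteField.X_pow_card_sub_X_natDegree_eq F' Fintype.one_lt_card]
    have hsplitf : (f.map (algebraMap F F')).Splits := hsplit.of_dvd hne hdvd2
    have hcardroots : (f.map (algebraMap F F')).roots.card = f.natDegree := by
      rw [splits_iff_card_roots.mp hsplitf, hm.natDegree_map]
    have hnodup : (f.map (algebraMap F F')).roots.Nodup := by
      refine Multiset.nodup_of_le (Polynomial.roots.le_of_dvd hne hdvd2) ?_
      rw [hroots]
      exact Finset.univ.nodup
    have hset : (Finset.univ.filter fun α : F' => minpoly F α = f) =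
        (f.map (algebraMap F F')).roots.toFinset := by
      ext α
      rw [Finset.mem_filter, Multiset.mem_toFinset, mem_roots hfne, IsRoot.def, eval_map,
        ← aeval_def]
      constructor
      · rintro ⟨-, rfl⟩
        exact minpoly.aeval F α
      · intro h
        exact ⟨Finset.mem_univ _, (minpoly.eq_of_irreducible_of_monic hirr h hm).symm⟩
    rw [hset, Multiset.toFinset_card_of_nodup hnodup, hcardroots]
  · rw [Finset.card_eq_zero, Finset.filter_eq_empty_iff]
    rintro α - rfl
    exact hdvd (minpoly.degree_dvd (.of_finite F α))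

theorem gaussSum_ext_eq :
    ∑ α : F', χ (Algebra.norm F α) * ψ (Algebra.trace F F' α) = T χ ψ (Module.finrank F F') := by
  classical
  simp_rw [pointwise χ ψ]
  have hmaps : ∀ α ∈ (Finset.univ : Finset F'), minpoly F α ∈ IRR F (Module.finrank F F') := by
    intro α _
    have hint : IsIntegral F α := .of_finite F α
    refine mem_IRR.mpr ⟨minpoly.monic hint, minpoly.irreducible hint, ?_⟩
    exact Nat.le_of_dvd Module.finrank_pos (minpoly.degree_dvd hint)
  rw [← Finset.sum_fiberwise_of_maps_to hmaps, T]
  refine Finset.sum_congr rfl fun f hf => ?_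
  obtain ⟨hfm, hfi, hfd⟩ := mem_IRR.mp hf
  have : ∀ α ∈ Finset.univ.filter (fun α : F' => minpoly F α = f),
      lam χ ψ (minpoly F α) ^ (Module.finrank F F' / (minpoly F α).natDegree) =
      lam χ ψ f ^ (Module.finrank F F' / f.natDegree) := by
    intro α hα
    rw [(Finset.mem_filter.mp hα).2]
  rw [Finset.sum_congr rfl this, Finset.sum_const, card_minpoly_eq hfm hfi]
  split_ifs
  · rw [nsmul_eq_mul]
  · rw [zero_smul]

end ext

section main

theorem hasse_davenport (F F' : Type*) [Field F] [Fintype F] [Field F'] [Fintype F']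
    [Algebra F F'] (R : Type*) [CommRing R] [IsDomain R] (χ : MulChar F R) (ψ : AddChar F R)
    (hψ : ψ ≠ 1) :
    -(∑ x : F', χ (Algebra.norm F x) * ψ (Algebra.trace F F' x)) =
      (-(∑ x : F, χ x * ψ x)) ^ Module.finrank F F' := by
  rw [gaussSum_ext_eq, T_eq χ ψ hψ Module.finrank_pos, neg_neg]

end main

end Groth.Agent.H3.HD
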