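import Mathlib

/-! helper3: the polynomial model of a curve singularity given inside a product of power series
rings by a conductor condition. -/

set_option autoImplicit false
universe u

open Polynomial

namespace Groth.Agent.H3.HZ

variable {k : Type u} [Field k] {s : ℕ}

theorem le_order_coe_iff (p : Polynomial k) (m : ℕ) :
    ((m : ℕ) : ℕ∞) ≤ (p : PowerSeries k).order ↔ Polynomial.X ^ m ∣ p := by
  rw [Polynomial.X_pow_dvd_iff]
  constructor
  · intro h d hd
    have h1 : ((d : ℕ) : ℕ∞) < (p : PowerSeries k).order :=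
      lt_of_lt_of_le (by exact_mod_cast hd) h
    have := PowerSeries.coeff_of_lt_order d h1
    rwa [Polynomial.coeff_coe] at this
  · intro h
    apply PowerSeries.nat_le_order
    intro i hi
    rw [Polynomial.coeff_coe]
    exact h i hi

section main

variable (R : Subalgebra k (Fin s → PowerSeries k)) (c : Fin s → ℕ)
  (hc : ∀ f : Fin s → PowerSeries k,
      (∀ g : Fin s → PowerSeries k, g * f ∈ R) ↔ ∀ i, ((c i : ℕ) : ℕ∞) ≤ (f i).order)
  (A : Subalgebra k (Fin s → Polynomial k))
  (hA : ∀ g : Fin s → Polynomial k, g ∈ A ↔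
    (fun i => ((g i : Polynomial k) : PowerSeries k)) ∈ R)

include hc in
theorem mem_R_of_order (f : Fin s → PowerSeries k)
    (h : ∀ i, ((c i : ℕ) : ℕ∞) ≤ (f i).order) : f ∈ R := by
  have := (hc f).mpr h 1
  rwa [one_mul] at this

include hc hA in
theorem mem_A_of_dvd (p : Fin s → Polynomial k) (h : ∀ i, Polynomial.X ^ (c i) ∣ p i) :
    p ∈ A := by
  rw [hA]
  apply mem_R_of_order R c hc
  intro i
  exact (le_order_coe_iff (p i) (c i)).mpr (h i)

/-- the bound `n`. -/
def bd : ℕ := Finset.univ.sup c

theorem le_bd (i : Fin s) : c i ≤ bd c := Finset.le_sup (Finset.mem_univ i)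

include hc hA in
theorem mem_A_of_dvd_bd (p : Fin s → Polynomial k) (m : ℕ) (hm : bd c ≤ m)
    (h : ∀ i, Polynomial.X ^ m ∣ p i) : p ∈ A :=
  mem_A_of_dvd R c hc A hA p fun i =>
    (pow_dvd_pow _ ((le_bd c i).trans hm)).trans (h i)

/-- low part of a polynomial. -/
noncomputable def lo (n : ℕ) (q : Polynomial k) : Polynomial k :=
  ∑ j ∈ Finset.range n, Polynomial.C (q.coeff j) * Polynomial.X ^ j

theorem X_pow_dvd_sub_lo (n : ℕ) (q : Polynomial k) : Polynomial.X ^ n ∣ q - lo n q := by
  rw [Polynomial.X_pow_dvd_iff]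
  intro d hd
  rw [Polynomial.coeff_sub, lo, Polynomial.finsetSum_coeff]
  simp only [Polynomial.coeff_C_mul_X_pow]
  rw [Finset.sum_eq_single d]
  · simp
  · intro b _ hb
    rw [if_neg (Ne.symm hb)]
  · intro h
    exact absurd (Finset.mem_range.mpr hd) h

open Classical in
/-- the generating set of the product over `A`. -/
noncomputable def gens (n : ℕ) : Finset (Fin s → Polynomial k) :=
  insert 1 ((Finset.univ ×ˢ Finset.range n).image
    fun x : Fin s × ℕ => Pi.single x.1 (Polynomial.X ^ x.2))

include hc hA in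
theorem span_gens : Submodule.span ↥A
    (↑(gens (k := k) (s := s) (bd c)) : Set (Fin s → Polynomial k)) = ⊤ := by
  classical
  rw [eq_top_iff]
  rintro p -
  set n := bd c with hn
  set plo : Fin s → Polynomial k := fun i => lo n (p i) with hplo
  have hhi : p - plo ∈ A := mem_A_of_dvd_bd R c hc A hA (p - plo) n le_rfl fun i => by
    rw [Pi.sub_apply]
    exact X_pow_dvd_sub_lo n (p i)
  have hp : p = (⟨p - plo, hhi⟩ : A) • (1 : Fin s → Polynomial k) +
      ∑ i : Fin s, ∑ j ∈ Finset.range n,
        (algebraMap k A ((p i).coeff j)) • (Pi.single i (Polynomial.X ^ j) : Fin s → Polynomial k) := by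
    funext l
    rw [Pi.add_apply, Finset.sum_apply]
    simp only [Finset.sum_apply]
    have h1 : ((⟨p - plo, hhi⟩ : A) • (1 : Fin s → Polynomial k)) l = p l - plo l := by
      change ((p - plo) * 1) l = _
      rw [mul_one, Pi.sub_apply]
    rw [h1]
    have h2 : ∀ i : Fin s, ∀ j : ℕ,
        ((algebraMap k A ((p i).coeff j)) •
          (Pi.single i (Polynomial.X ^ j) : Fin s → Polynomial k)) l =
        if i = l then Polynomial.C ((p i).coeff j) * Polynomial.X ^ j else 0 := by
      intro i j
      rw [algebraMap_smul, Pi.smul_apply]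
      by_cases hil : i = l
      · subst hil
        rw [Pi.single_eq_same, if_pos rfl, Polynomial.smul_eq_C_mul]
      · rw [Pi.single_eq_of_ne (Ne.symm hil), if_neg hil, smul_zero]
    simp only [h2]
    rw [Finset.sum_eq_single l]
    · simp only [if_true]
      change p l = p l - lo n (p l) + lo n (p l)
      ring
    · intro b _ hb
      simp [hb]
    · intro h
      exact absurd (Finset.mem_univ l) h
  rw [hp]
  refine Submodule.add_mem _ (Submodule.smul_mem _ _ (Submodule.subset_span ?_)) ?_
  · rw [gens, Finset.coe_insert]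
    exact Set.mem_insert _ _
  · refine Submodule.sum_mem _ fun i _ => Submodule.sum_mem _ fun j hj => ?_
    refine Submodule.smul_mem _ _ (Submodule.subset_span ?_)
    rw [gens, Finset.coe_insert]
    refine Set.mem_insert_of_mem _ ?_
    rw [Finset.mem_coe, Finset.mem_image]
    exact ⟨(i, j), Finset.mem_product.mpr ⟨Finset.mem_univ i, hj⟩, rfl⟩

include hc hA in
theorem finite_pi : Module.Finite ↥A (Fin s → Polynomial k) :=
  ⟨⟨gens (bd c), span_gens R c hc A hA⟩⟩

/-- the product of polynomial rings is of finite type. -/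
theorem fg_top_pi : (⊤ : Subalgebra k (Fin s → Polynomial k)).FG := by
  classical
  let Tf : Finset (Fin s → Polynomial k) :=
    (Finset.univ.image fun i : Fin s => (Pi.single i 1 : Fin s → Polynomial k)) ∪
    (Finset.univ.image fun i : Fin s => (Pi.single i Polynomial.X : Fin s → Polynomial k))
  refine ⟨Tf, ?_⟩
  rw [eq_top_iff]
  rintro p -
  set T : Set (Fin s → Polynomial k) := (Tf : Set (Fin s → Polynomial k)) with hT
  have h1 : ∀ i : Fin s, (Pi.single i 1 : Fin s → Polynomial k) ∈ Algebra.adjoin k T := by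
    intro i
    apply Algebra.subset_adjoin
    rw [hT, Finset.mem_coe]
    exact Finset.mem_union_left _ (Finset.mem_image_of_mem _ (Finset.mem_univ i))
  have h2 : ∀ i : Fin s, (Pi.single i Polynomial.X : Fin s → Polynomial k) ∈
      Algebra.adjoin k T := by
    intro i
    apply Algebra.subset_adjoin
    rw [hT, Finset.mem_coe]
    exact Finset.mem_union_right _ (Finset.mem_image_of_mem _ (Finset.mem_univ i))
  have hp : p = ∑ i : Fin s, (Pi.single i 1 : Fin s → Polynomial k) *
      Polynomial.aeval (Pi.single i Polynomial.X : Fin s → Polynomial k) (p i) := by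
    funext l
    rw [Finset.sum_apply, Finset.sum_eq_single l]
    · rw [Pi.mul_apply, Pi.single_eq_same, one_mul]
      have : (Polynomial.aeval (Pi.single l Polynomial.X : Fin s → Polynomial k) (p l)) l =
          Polynomial.aeval ((Pi.single l Polynomial.X : Fin s → Polynomial k) l) (p l) := by
        have := Polynomial.aeval_algHom_apply (Pi.evalAlgHom k (fun _ : Fin s => Polynomial k) l)
          (Pi.single l Polynomial.X : Fin s → Polynomial k) (p l)
        exact this.symm
      rw [this, Pi.single_eq_same, Polynomial.aeval_X_left_apply]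
    · intro b _ hb
      rw [Pi.mul_apply, Pi.single_eq_of_ne (Ne.symm hb), zero_mul]
    · intro h
      exact absurd (Finset.mem_univ l) h
  rw [hp]
  refine Subalgebra.sum_mem _ fun i _ => Subalgebra.mul_mem _ (h1 i) ?_
  rw [Polynomial.aeval_eq_sum_range]
  refine Subalgebra.sum_mem _ fun j _ => Subalgebra.smul_mem _ (Subalgebra.pow_mem _ (h2 i) j) _

include hc hA in
theorem finiteType_A : Algebra.FiniteType k ↥A := by
  haveI := finite_pi R c hc A hA
  refine ⟨fg_of_fg_of_fg k ↥A (Fin s → Polynomial k) fg_top_pi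
    (Module.finite_def.mp (finite_pi R c hc A hA)) Subtype.val_injective⟩

include hA in
theorem idem (hloc : ∀ f ∈ R, ∀ i j : Fin s,
      PowerSeries.constantCoeff (f i) = PowerSeries.constantCoeff (f j))
    (e : Fin s → Polynomial k) (he : e ∈ A) (hee : e * e = e) : e = 0 ∨ e = 1 := by
  have h01 : ∀ i, e i = 0 ∨ e i = 1 := by
    intro i
    have h := congrFun hee i
    rw [Pi.mul_apply] at h
    exact (IsIdempotentElem.iff_eq_zero_or_one).mp h
  by_cases hall : ∀ i, e i = 0
  · left
    funext i
    exact hall i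
  · right
    push Not at hall
    obtain ⟨i₀, hi₀⟩ := hall
    have h1 : e i₀ = 1 := (h01 i₀).resolve_left hi₀
    funext j
    rcases h01 j with hj | hj
    · exfalso
      have := hloc _ ((hA e).mp he) i₀ j
      rw [Polynomial.constantCoeff_coe, Polynomial.constantCoeff_coe, h1, hj] at this
      simp at this
    · rw [hj, Pi.one_apply]

include hc hA in
theorem prod_mem : ∃ N : ℕ, ∀ g : Fin N → (Fin s → Polynomial k),
      (∀ n, g n ∈ A ∧ ∀ i, (g n i).coeff 0 = 0) →
        ∀ p : Fin s → Polynomial k, p * ∏ n, g n ∈ A := by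
  refine ⟨bd c, fun g hg p => ?_⟩
  apply mem_A_of_dvd_bd R c hc A hA _ (bd c) le_rfl
  intro i
  rw [Pi.mul_apply, Finset.prod_apply]
  refine Dvd.dvd.mul_left ?_ _
  have h1 : ∀ n ∈ (Finset.univ : Finset (Fin (bd c))), (Polynomial.X : Polynomial k) ∣ g n i := by
    intro n _
    exact Polynomial.X_dvd_iff.mpr ((hg n).2 i)
  have h2 := Finset.prod_dvd_prod_of_dvd (fun _ : Fin (bd c) => (Polynomial.X : Polynomial k))
    (fun n => g n i) h1
  rwa [Finset.prod_const, Finset.card_univ, Fintype.card_fin] at h2

include hc hA in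
theorem approx (f : Fin s → PowerSeries k) (hf : f ∈ R) (N : ℕ) :
    ∃ g ∈ A, ∀ i : Fin s,
      (N : ℕ∞) ≤ (f i - ((g i : Polynomial k) : PowerSeries k)).order := by
  set M := max N (bd c) with hM
  set g : Fin s → Polynomial k := fun i => PowerSeries.trunc M (f i) with hg
  have hord : ∀ i, ((M : ℕ) : ℕ∞) ≤ (f i - ((g i : Polynomial k) : PowerSeries k)).order := by
    intro i
    apply PowerSeries.nat_le_order
    intro d hd
    rw [map_sub, Polynomial.coeff_coe, hg, PowerSeries.coeff_trunc, if_pos hd, sub_self]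
  refine ⟨g, ?_, fun i => le_trans (by exact_mod_cast le_max_left N (bd c)) (hord i)⟩
  rw [hA]
  have h1 : (fun i => f i - ((g i : Polynomial k) : PowerSeries k)) ∈ R :=
    mem_R_of_order R c hc _ fun i =>
      le_trans (by exact_mod_cast (le_bd c i).trans (le_max_right N (bd c))) (hord i)
  have h2 := R.sub_mem hf h1
  have h3 : (f - fun i => f i - ((g i : Polynomial k) : PowerSeries k)) =
      fun i => ((g i : Polynomial k) : PowerSeries k) := by
    funext i
    rw [Pi.sub_apply, sub_sub_cancel]
  rwa [h3] at h2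

include hc hA in
theorem pow_mem (N : ℕ) : ∃ M : ℕ, ∀ g : ↥A,
    (∀ i : Fin s, Polynomial.X ^ M ∣ (g : Fin s → Polynomial k) i) →
      g ∈ (Ideal.span {h : ↥A | ∀ i : Fin s,
        ((h : Fin s → Polynomial k) i).coeff 0 = 0}) ^ N := by
  classical
  set n' := bd c + 1 with hn'
  refine ⟨n' * N + n', fun g hg => ?_⟩
  choose q hq using hg
  have htmem : ∀ i : Fin s, (Pi.single i (Polynomial.X ^ n') : Fin s → Polynomial k) ∈ A := by
    intro i
    apply mem_A_of_dvd_bd R c hc A hA _ n' (Nat.le_succ _)
    intro j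
    by_cases hij : j = i
    · subst hij
      rw [Pi.single_eq_same]
    · rw [Pi.single_eq_of_ne hij]
      exact dvd_zero _
  have hbmem : ∀ i : Fin s,
      (Pi.single i (Polynomial.X ^ n' * q i) : Fin s → Polynomial k) ∈ A := by
    intro i
    apply mem_A_of_dvd_bd R c hc A hA _ n' (Nat.le_succ _)
    intro j
    by_cases hij : j = i
    · subst hij
      rw [Pi.single_eq_same]
      exact Dvd.intro _ rfl
    · rw [Pi.single_eq_of_ne hij]
      exact dvd_zero _
  set m₀ := Ideal.span {h : ↥A | ∀ i : Fin s, ((h : Fin s → Polynomial k) i).coeff 0 = 0}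
    with hm₀
  have htm : ∀ i : Fin s, (⟨_, htmem i⟩ : ↥A) ∈ m₀ := by
    intro i
    apply Ideal.subset_span
    intro j
    change ((Pi.single i (Polynomial.X ^ n') : Fin s → Polynomial k) j).coeff 0 = 0
    by_cases hij : j = i
    · subst hij
      rw [Pi.single_eq_same, Polynomial.coeff_X_pow, if_neg]
      omega
    · rw [Pi.single_eq_of_ne hij, Polynomial.coeff_zero]
  have hg : g = ∑ i : Fin s, (⟨_, htmem i⟩ : ↥A) ^ N * (⟨_, hbmem i⟩ : ↥A) := by
    apply Subtype.ext
    rw [AddSubmonoidClass.coe_finsetSum]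
    funext l
    rw [Finset.sum_apply, Finset.sum_eq_single l]
    · change (g : Fin s → Polynomial k) l =
        ((Pi.single l (Polynomial.X ^ n') : Fin s → Polynomial k) ^ N *
          (Pi.single l (Polynomial.X ^ n' * q l) : Fin s → Polynomial k)) l
      rw [Pi.mul_apply, Pi.pow_apply, Pi.single_eq_same, Pi.single_eq_same, hq l]
      ring
    · intro b _ hb
      change ((Pi.single b (Polynomial.X ^ n') : Fin s → Polynomial k) ^ N *
          (Pi.single b (Polynomial.X ^ n' * q b) : Fin s → Polynomial k)) l = 0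
      rw [Pi.mul_apply, Pi.single_eq_of_ne (Ne.symm hb) (Polynomial.X ^ n' * q b), mul_zero]
    · intro h
      exact absurd (Finset.mem_univ l) h
  rw [hg]
  exact Ideal.sum_mem _ fun i _ => Ideal.mul_mem_right _ _ (Ideal.pow_mem_pow (htm i) N)

end main

end Groth.Agent.H3.HZ
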