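import Mathlib.RingTheory.Smooth.Basic
import Mathlib.Tactic.Module
import Mathlib.Tactic.Abel
universe u v

namespace Groth.Agent.H3.Hoch

set_option linter.unusedSectionVars false
variable {A : Type u} {B : Type v} [CommRing A] [CommRing B] [Algebra A B]
  {L : Type v} [AddCommGroup L] [Module B L] [Module A L] [IsScalarTower A B L]

/-- Carrier of the Hochschild extension attached to a 2-cocycle. -/
@[nolint unusedArguments]
def HCarrier (_f : B →ₗ[A] B →ₗ[A] L) : Type v := B × L

variable (f : B →ₗ[A] B →ₗ[A] L)

instance : AddCommGroup (HCarrier f) := inferInstanceAs (AddCommGroup (B × L))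

@[ext] lemma HCarrier.ext {x y : HCarrier f} (h1 : x.1 = y.1) (h2 : x.2 = y.2) : x = y := Prod.ext h1 h2

instance : Mul (HCarrier f) := ⟨fun x y => (x.1 * y.1, x.1 • y.2 + y.1 • x.2 + f x.1 y.1)⟩
instance : One (HCarrier f) := ⟨((1 : B), - f 1 1)⟩

@[simp] lemma mul_fst (x y : HCarrier f) : (x * y).1 = x.1 * y.1 := rfl
@[simp] lemma mul_snd (x y : HCarrier f) : (x * y).2 = x.1 • y.2 + y.1 • x.2 + f x.1 y.1 := rfl
@[simp] lemma one_fst : (1 : HCarrier f).1 = 1 := rfl
@[simp] lemma one_snd : (1 : HCarrier f).2 = - f 1 1 := rfl
@[simp] lemma add_fst (x y : HCarrier f) : (x + y).1 = x.1 + y.1 := rfl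
@[simp] lemma add_snd (x y : HCarrier f) : (x + y).2 = x.2 + y.2 := rfl
@[simp] lemma zero_fst : (0 : HCarrier f).1 = 0 := rfl
@[simp] lemma zero_snd : (0 : HCarrier f).2 = 0 := rfl
@[simp] lemma neg_fst (x : HCarrier f) : (-x).1 = -x.1 := rfl
@[simp] lemma neg_snd (x : HCarrier f) : (-x).2 = -x.2 := rfl

variable (hsymm : ∀ x y : B, f x y = f y x)
  (hcoc : ∀ x y z : B, f (x * y) z + z • f x y = x • f y z + f x (y * z))

include hcoc in
lemma f_one_left (y : B) : f 1 y = y • f 1 1 := by
  have h := hcoc 1 1 y
  rw [one_mul, one_mul, one_smul] at h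
  -- f 1 y + y • f 1 1 = f 1 y + f 1 y
  exact (add_left_cancel h).symm

/-- The commutative ring structure. -/
@[reducible] def commRing : CommRing (HCarrier f) :=
  { (inferInstance : AddCommGroup (HCarrier f)), (inferInstance : Mul (HCarrier f)),
    (inferInstance : One (HCarrier f)) with
    left_distrib := by
      intro x y z
      ext
      · simp [mul_add]
      · simp only [mul_snd, add_fst, add_snd, map_add, smul_add, add_smul]
        abel
    right_distrib := by
      intro x y z
      ext
      · simp [add_mul]
      · simp only [mul_snd, add_fst, add_snd, map_add, LinearMap.add_apply, smul_add, add_smul]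
        abel
    zero_mul := by
      intro x
      ext <;> simp
    mul_zero := by
      intro x
      ext <;> simp
    mul_assoc := by
      intro x y z
      ext
      · simp [mul_assoc]
      · simp only [mul_snd, mul_fst, smul_add, mul_smul]
        have h := hcoc x.1 y.1 z.1
        have h' : f (x.1 * y.1) z.1 = x.1 • f y.1 z.1 + f x.1 (y.1 * z.1) - z.1 • f x.1 y.1 := by
          rw [eq_sub_iff_add_eq]; exact h
        rw [h']
        module
    one_mul := by
      intro x
      ext
      · simp
      · rw [mul_snd, one_fst, one_snd, one_smul, smul_neg, f_one_left f hcoc x.1]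
        abel
    mul_one := by
      intro x
      ext
      · simp
      · rw [mul_snd, one_fst, one_snd, one_smul, smul_neg, hsymm x.1 1, f_one_left f hcoc x.1]
        abel
    mul_comm := by
      intro x y
      ext
      · simp [mul_comm]
      · simp only [mul_snd, hsymm x.1 y.1]
        abel }

section Main
variable {f}

include hsymm hcoc in
theorem exists_cobound [Algebra.FormallySmooth A B] :
    ∃ g : B →ₗ[A] L, ∀ x y : B, f x y = x • g y - g (x * y) + y • g x := by
  let _ : CommRing (HCarrier f) := commRing f hsymm hcoc
  have hf11 : ∀ a a' : A, f (algebraMap A B a) (algebraMap A B a') = (a * a') • f 1 1 := by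
    intro a a'
    simp only [Algebra.algebraMap_eq_smul_one, map_smul, LinearMap.smul_apply, smul_smul, mul_comm]
  -- the algebra structure
  let φ : A →+* HCarrier f :=
    { toFun := fun a => (algebraMap A B a, - a • f 1 1)
      map_one' := by
        apply HCarrier.ext
        · exact map_one _
        · show - (1 : A) • f 1 1 = - f 1 1
          rw [neg_smul, one_smul]
      map_mul' := by
        intro a a'
        apply HCarrier.ext
        · exact map_mul _ a a'
        · show - (a * a') • f 1 1 = algebraMap A B a • (- a' • f 1 1) + algebraMap A B a' • (- a • f 1 1) +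
            f (algebraMap A B a) (algebraMap A B a')
          rw [hf11, algebraMap_smul, algebraMap_smul]
          module
      map_zero' := by
        apply HCarrier.ext
        · exact map_zero _
        · show - (0 : A) • f 1 1 = 0
          rw [neg_zero, zero_smul]
      map_add' := by
        intro a a'
        apply HCarrier.ext
        · exact map_add _ a a'
        · show - (a + a') • f 1 1 = - a • f 1 1 + - a' • f 1 1
          module }
  let _ : Algebra A (HCarrier f) := φ.toAlgebra
  have halg : ∀ a : A, algebraMap A (HCarrier f) a = (algebraMap A B a, - a • f 1 1) := fun a => rfl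
  have hsmul2 : ∀ (a : A) (x : HCarrier f), (a • x).2 = a • x.2 := by
    intro a x
    rw [Algebra.smul_def, halg, mul_snd]
    show algebraMap A B a • x.2 + x.1 • (- a • f 1 1) + f (algebraMap A B a) x.1 = a • x.2
    have e1 : f (algebraMap A B a) x.1 = algebraMap A B a • (x.1 • f 1 1) := by
      rw [Algebra.algebraMap_eq_smul_one, map_smul, LinearMap.smul_apply, f_one_left f hcoc,
        smul_assoc, one_smul]
    rw [e1, ← algebraMap_smul B a x.2, ← algebraMap_smul B (-a) (f 1 1), map_neg]
    module
  let p : HCarrier f →ₐ[A] B :=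
    { toFun := fun x => x.1
      map_one' := rfl
      map_mul' := fun _ _ => rfl
      map_zero' := rfl
      map_add' := fun _ _ => rfl
      commutes' := fun _ => rfl }
  have hp : Function.Surjective p := fun b => ⟨(b, 0), rfl⟩
  have hnil : IsNilpotent (RingHom.ker (p : HCarrier f →+* B)) := by
    refine ⟨2, ?_⟩
    rw [Ideal.zero_eq_bot, eq_bot_iff, pow_two, Ideal.mul_le]
    intro x hx y hy
    have hx1 : x.1 = 0 := hx
    have hy1 : y.1 = 0 := hy
    rw [Ideal.mem_bot]
    apply HCarrier.ext
    · rw [mul_fst, hx1, zero_mul]; rfl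
    · rw [mul_snd, hx1, hy1, zero_smul, zero_smul, map_zero, add_zero, add_zero]; rfl
  let s : B →ₐ[A] HCarrier f :=
    Algebra.FormallySmooth.liftOfSurjective (AlgHom.id A B) p hp hnil
  have hs1 : ∀ b, (s b).1 = b := fun b =>
    Algebra.FormallySmooth.liftOfSurjective_apply (AlgHom.id A B) p hp hnil b
  let h : B →ₗ[A] L :=
    { toFun := fun b => (s b).2
      map_add' := fun b b' => by rw [map_add]; rfl
      map_smul' := fun a b => by rw [map_smul, hsmul2]; rfl }
  refine ⟨-h, ?_⟩
  intro x y
  have hm : (s (x * y)).2 = (s x * s y).2 := by rw [map_mul]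
  rw [mul_snd, hs1, hs1] at hm
  show f x y = x • (-(s y).2) - (-(s (x * y)).2) + y • (-(s x).2)
  rw [hm]
  module

end Main

end Groth.Agent.H3.Hoch
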