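import Mathlib
import Groth.Prelude.Def_ChGrp
import Groth.Prelude.Def_NonAbH2

/-!
# Properties of the fibre descend to a torsor-like map with local sections
-/

set_option autoImplicit false

open CategoryTheory Limits MonoidalCategory CartesianMonoidalCategory MonObj AlgebraicGeometry

universe u

namespace Groth.Agent.H3.HomogProp

variable {S : Scheme.{u}}

/-- Let `π : X ⟶ B` in `Over S` with `X ⊗ H ≅ X ×_B X` (through `fst` and some `m`), with sections
locally for `K`. If `P` is stable under base change and `K`-local on the target, and `H ⟶ S` has
`P`, then so has `π`. -/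
theorem of_isPullback_of_isLocallyTrivialFor {X H B : Over S} (m : X ⊗ H ⟶ X) (π : X ⟶ B)
    (hkp : IsPullback (fst X H) m π π) (K : Precoverage Scheme.{u})
    (hloc : NonAbH1.IsLocallyTrivialFor K (Over.mk π.left : Over B.left))
    (P : MorphismProperty Scheme.{u}) [P.IsStableUnderBaseChange] [P.IsLocalAtTarget K]
    (hP : P H.hom) : P π.left := by
  obtain ⟨R, hR, hsec⟩ := hloc
  have h1 : P (fst X H).left := by
    have sq : IsPullback (fst X H).left (snd X H).left X.hom H.hom := by
      simp only [Over.fst_left, Over.snd_left]
      exact IsPullback.of_hasPullback _ _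
    exact MorphismProperty.of_isPullback sq.flip hP
  refine MorphismProperty.IsLocalAtTarget.of_forall_pullbackSnd (K := K) hR ?_
  intro U g _ hg
  obtain ⟨s, hs⟩ := hsec g hg
  have hs' : s ≫ π.left = g := hs
  have sqR : IsPullback m.left (fst X H).left π.left π.left := (hkp.flip).map (Over.forget S)
  have sqL : IsPullback (pullback.fst (fst X H).left s) (pullback.snd (fst X H).left s)
      (fst X H).left s := IsPullback.of_hasPullback _ _
  have sq := sqL.paste_horiz sqR
  rw [hs'] at sq
  have h2 : P (pullback.snd (fst X H).left s) := MorphismProperty.pullback_snd _ _ h1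
  rw [← sq.isoPullback_hom_snd, P.cancel_left_of_respectsIso] at h2
  exact h2

end Groth.Agent.H3.HomogProp
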