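import Mathlib
import Groth.Agent.Lib.Helper3.HopfBridge
import Groth.Agent.Lib.Helper1.UnrFib

set_option autoImplicit false
universe u
open CategoryTheory CategoryTheory.Limits MonoidalCategory CartesianMonoidalCategory MonObj GrpObj AlgebraicGeometry
open scoped TensorProduct CategoryTheory.Obj

namespace Groth.Agent.H3.HopfBridge

/-- A finite group scheme over a field whose order is invertible is formally unramified
(scheme form). -/
lemma formallyUnramified_of_field (k : Type u) [Field k] (G : Over (Spec (CommRingCat.of k)))
    [GrpObj G] [IsFinite G.hom] (p : Spec (CommRingCat.of k)) (h : (Scheme.Hom.finrank G.hom p : k) ≠ 0) :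
    FormallyUnramified G.hom := by
  have : IsAffine G.left := isAffine_of_isAffineHom G.hom
  have : Flat G.hom := inferInstance
  have : LocallyOfFinitePresentation G.hom :=
    LocallyOfFinitePresentation.iff_locallyOfFiniteType.mpr inferInstance
  obtain ⟨A, _, _, e, he⟩ := exists_hopf (CommRingCat.of k) G
  obtain ⟨i1, i5, hrank⟩ := alg_data (CommRingCat.of k) A G e
  have h1 : Module.finrank k A = Scheme.Hom.finrank G.hom p := by
    rw [← hrank p, Module.rankAtStalk_eq_finrank_of_free]; rfl
  have h2 : Algebra.Etale k A := Groth.Agent.H9.FinHopf.etale_of_finrank_ne_zero k A (by rwa [h1])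
  have h3 : FormallyUnramified (Spec.map (CommRingCat.ofHom (algebraMap k A))) := by
    rw [HasRingHomProperty.Spec_iff (P := @FormallyUnramified), CommRingCat.hom_ofHom,
      RingHom.formallyUnramified_algebraMap]
    infer_instance
  have hw : e.hom.left ≫ Spec.map (CommRingCat.ofHom (algebraMap k A)) = G.hom := Over.w e.hom
  have : IsIso e.hom.left := inferInstanceAs (IsIso ((Over.forget _).map e.hom))
  rw [← hw]
  exact (MorphismProperty.cancel_left_of_respectsIso @FormallyUnramified e.hom.left _).mpr h3

/-- A flat, locally finitely presented group scheme with finite fibres whose orders are invertible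
in the residue fields is étale. -/
theorem etale_of_fibre_rank {S : Scheme.{u}} (G : Over S) [GrpObj G] [Flat G.hom]
    [LocallyOfFinitePresentation G.hom]
    (hfin : ∀ s : S, IsFinite (pullback.snd G.hom (S.fromSpecResidueField s)))
    (h : ∀ s : S, ∃ x : Spec (S.residueField s),
      ((pullback.snd G.hom (S.fromSpecResidueField s)).finrank x : S.residueField s) ≠ 0) :
    Etale G.hom := by
  have : FormallyUnramified G.hom := by
    apply Groth.Agent.H1.UnrFib.formallyUnramified_of_fiberToSpecResidueField
    intro y
    obtain ⟨x, hx⟩ := h y
    have : IsFinite ((Over.pullback (S.fromSpecResidueField y)).obj G).hom := hfin y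
    exact formallyUnramified_of_field (S.residueField y)
      ((Over.pullback (S.fromSpecResidueField y)).obj G) x hx
  exact Etale.of_formallyUnramified_of_flat G.hom

end Groth.Agent.H3.HopfBridge
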