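import Mathlib

/-! helper3: Jacobian criterion for a hypersurface `P ⧸ (f)` in a formally smooth algebra `P`,
in the two elementary directions needed for explicit equations. -/

set_option autoImplicit false
universe u

open TensorProduct KaehlerDifferential

namespace Groth.Agent.H3.HypSm

section general

variable (R : Type*) [CommRing R] (P : Type*) [CommRing P] [Algebra R P] (f : P)

/-- the kernel of `P → P ⧸ (f)`. -/
theorem ker_eq : RingHom.ker (algebraMap P (P ⧸ Ideal.span {f})) = Ideal.span {f} :=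
  Ideal.mk_ker

theorem f_mem_ker : f ∈ RingHom.ker (algebraMap P (P ⧸ Ideal.span {f})) := by
  rw [ker_eq]; exact Ideal.mem_span_singleton_self f

/-- the class of `f` in the conormal module. -/
noncomputable def cls : (RingHom.ker (algebraMap P (P ⧸ Ideal.span {f}))).Cotangent :=
  Ideal.toCotangent _ ⟨f, f_mem_ker P f⟩

theorem exists_eq_smul_cls (x : (RingHom.ker (algebraMap P (P ⧸ Ideal.span {f}))).Cotangent) :
    ∃ g : P, x = g • cls P f := by
  obtain ⟨⟨y, hy⟩, rfl⟩ := Ideal.toCotangent_surjective _ x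
  have hy' := hy
  rw [ker_eq, Ideal.mem_span_singleton'] at hy'
  obtain ⟨g, rfl⟩ := hy'
  refine ⟨g, ?_⟩
  rw [cls, ← map_smul]
  rfl

theorem smul_cls_eq_zero (c : P) : (c * f) • cls P f = 0 := by
  rw [mul_smul]
  have : f • cls P f = 0 := Ideal.Cotangent.smul_eq_zero_of_mem (f_mem_ker P f) _
  rw [this, smul_zero]

variable [Algebra.FormallySmooth R P]

/-- if some derivation `δ` of `P` satisfies `δ f + b f = u` with `u` invertible, then `P ⧸ (f)` is
formally smooth. -/
theorem formallySmooth_of_derivation (δ : Derivation R P P) (b u v : P)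
    (h : δ f + b * f = u) (huv : v * u = 1) :
    Algebra.FormallySmooth R (P ⧸ Ideal.span {f}) := by
  have hsurj : Function.Surjective (algebraMap P (P ⧸ Ideal.span {f})) :=
    Ideal.Quotient.mk_surjective
  rw [Algebra.FormallySmooth.iff_split_injection hsurj]
  set K := RingHom.ker (algebraMap P (P ⧸ Ideal.span {f})) with hK
  -- `Ω → conormal`
  let l₀ : Ω[P⁄R] →ₗ[P] K.Cotangent :=
    (LinearMap.toSpanSingleton P K.Cotangent (cls P f)) ∘ₗ
      ((v • δ).liftKaehlerDifferential)
  have hl₀ : ∀ x : P, l₀ (D R P x) = (v * δ x) • cls P f := by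
    intro x
    change (LinearMap.toSpanSingleton P K.Cotangent (cls P f))
      ((v • δ).liftKaehlerDifferential (D R P x)) = _
    rw [Derivation.liftKaehlerDifferential_comp_D, LinearMap.toSpanSingleton_apply]
    rfl
  let μ : P →ₗ[P] (Ω[P⁄R] →ₗ[P] K.Cotangent) := LinearMap.toSpanSingleton P _ l₀
  have hμ : Ideal.span {f} ≤ LinearMap.ker μ := by
    intro p hp
    obtain ⟨c, rfl⟩ := Ideal.mem_span_singleton'.mp hp
    rw [LinearMap.mem_ker]
    apply LinearMap.ext
    intro ω
    change (c * f) • l₀ ω = 0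
    obtain ⟨g, hg⟩ := exists_eq_smul_cls P f (l₀ ω)
    rw [hg, smul_comm, smul_cls_eq_zero, smul_zero]
  let μ' : (P ⧸ Ideal.span {f}) →ₗ[P] (Ω[P⁄R] →ₗ[P] K.Cotangent) :=
    Submodule.liftQ (Ideal.span {f}) μ hμ
  refine ⟨TensorProduct.lift μ', ?_⟩
  apply LinearMap.ext
  intro x
  obtain ⟨g, rfl⟩ := exists_eq_smul_cls P f x
  rw [LinearMap.comp_apply, LinearMap.id_apply, map_smul, map_smul]
  congr 1
  rw [cls, kerCotangentToTensor_toCotangent, TensorProduct.lift.tmul]
  change μ' (Submodule.Quotient.mk 1) (D R P f) = _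
  rw [Submodule.liftQ_apply]
  change (1 : P) • l₀ (D R P f) = _
  rw [one_smul, hl₀]
  have h1 : v * δ f = 1 - (v * b) * f := by
    have : δ f = u - b * f := by rw [← h]; ring
    rw [this, mul_sub, huv]; ring
  rw [h1, sub_smul, one_smul, smul_cls_eq_zero, sub_zero]
  rfl

/-- a singular point obstructs formal smoothness (general form). -/
theorem not_formallySmooth_general [IsDomain P] (hf : f ≠ 0) (m : Ideal P)
    (hm : m ≠ ⊤) (hfm : f ∈ m) (hDm : D R P f ∈ (m • ⊤ : Submodule P Ω[P⁄R])) :
    ¬ Algebra.FormallySmooth R (P ⧸ Ideal.span {f}) := by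
  intro hsm
  have hsurj : Function.Surjective (algebraMap P (P ⧸ Ideal.span {f})) :=
    Ideal.Quotient.mk_surjective
  set K := RingHom.ker (algebraMap P (P ⧸ Ideal.span {f})) with hK
  obtain ⟨l, hl⟩ := (Algebra.FormallySmooth.iff_split_injection (R := R) hsurj).mp hsm
  let L : Ω[P⁄R] →ₗ[P] K.Cotangent :=
    l ∘ₗ (TensorProduct.mk P (P ⧸ Ideal.span {f}) Ω[P⁄R] 1)
  have hL : L (D R P f) = cls P f := by
    exact LinearMap.congr_fun hl (cls P f)
  have hmem : cls P f ∈ (m • ⊤ : Submodule P K.Cotangent) := by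
    rw [← hL]
    have h1 : L (D R P f) ∈ (m • ⊤ : Submodule P Ω[P⁄R]).map L := Submodule.mem_map_of_mem hDm
    rw [Submodule.map_smul''] at h1
    exact Submodule.smul_mono le_rfl le_top h1
  have key : ∀ x ∈ (m • ⊤ : Submodule P K.Cotangent), ∃ c ∈ m, x = c • cls P f := by
    intro x hx
    refine Submodule.smul_induction_on hx ?_ ?_
    · intro r hr y _
      obtain ⟨g, rfl⟩ := exists_eq_smul_cls P f y
      exact ⟨r * g, Ideal.mul_mem_right _ _ hr, by rw [mul_smul]⟩
    · rintro x y ⟨c, hc, rfl⟩ ⟨c', hc', rfl⟩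
      exact ⟨c + c', Ideal.add_mem _ hc hc', by rw [add_smul]⟩
  obtain ⟨c, hc, hcf⟩ := key _ hmem
  have h1 : cls P f = Ideal.toCotangent K ⟨c * f, by
      rw [hK, ker_eq]; exact Ideal.mul_mem_left _ _ (Ideal.mem_span_singleton_self f)⟩ := by
    rw [hcf, cls, ← map_smul]
    rfl
  rw [cls, Ideal.toCotangent_eq] at h1
  change f - c * f ∈ K ^ 2 at h1
  rw [hK, ker_eq, Ideal.span_singleton_pow, Ideal.mem_span_singleton'] at h1
  obtain ⟨e, he⟩ := h1
  have h2 : f * (1 - c - e * f) = 0 := by
    have : f * (1 - c - e * f) = (f - c * f) - e * f ^ 2 := by ring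
    rw [this, he, sub_self]
  rcases mul_eq_zero.mp h2 with h3 | h3
  · exact hf h3
  · apply hm
    rw [Ideal.eq_top_iff_one]
    have : (1 : P) = c + e * f := by
      have := sub_eq_zero.mp h3
      rw [sub_eq_iff_eq_add] at this
      rw [this]; ring
    rw [this]
    exact Ideal.add_mem _ hc (Ideal.mul_mem_left _ _ hfm)

end general

section mv

variable (k : Type*) [CommRing k] (σ : Type*) (f : MvPolynomial σ k)

/-- smoothness of a hypersurface from a unit combination of `f` and its derivatives. -/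
theorem smooth_of_derivation [Finite σ] (δ : Derivation k (MvPolynomial σ k) (MvPolynomial σ k))
    (b u v : MvPolynomial σ k) (h : δ f + b * f = u) (huv : v * u = 1) :
    Algebra.Smooth k (MvPolynomial σ k ⧸ Ideal.span {f}) := by
  haveI := formallySmooth_of_derivation k (MvPolynomial σ k) f δ b u v h huv
  haveI : Algebra.FinitePresentation k (MvPolynomial σ k ⧸ Ideal.span {f}) :=
    Algebra.FinitePresentation.quotient ⟨{f}, by rw [Finset.coe_singleton]⟩
  exact ⟨inferInstance, inferInstance⟩

/-- a singular point obstructs formal smoothness. -/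
theorem not_formallySmooth [IsDomain k] (hf : f ≠ 0) (m : Ideal (MvPolynomial σ k))
    (hm : m ≠ ⊤) (hfm : f ∈ m) (hdm : ∀ i, MvPolynomial.pderiv i f ∈ m) :
    ¬ Algebra.FormallySmooth k (MvPolynomial σ k ⧸ Ideal.span {f}) := by
  apply not_formallySmooth_general k (MvPolynomial σ k) f hf m hm hfm
  have hD := (mvPolynomialBasis k σ).linearCombination_repr (D k (MvPolynomial σ k) f)
  rw [← hD, Finsupp.linearCombination_apply, Finsupp.sum]
  refine Submodule.sum_mem _ fun i _ => ?_
  rw [mvPolynomialBasis_repr_apply]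
  exact Submodule.smul_mem_smul (hdm i) Submodule.mem_top

end mv

end Groth.Agent.H3.HypSm
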