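import Mathlib
import Groth.Agent.Lib.Helper1.LocalCriterion

set_option autoImplicit false
universe u
open TensorProduct Function

namespace Groth.Agent.H3.ISep

variable {A : Type u} [CommRing A] {M : Type u} [AddCommGroup M] [Module A M]

/-- ideal separatedness in the order `M ⊗ a`. -/
lemma iInf_pow_smul_top_eq_bot_of_isHausdorff (I : Ideal A) (a : Ideal A)
    (hsep : IsHausdorff I (↥a ⊗[A] M)) :
    (⨅ i : ℕ, I ^ i • (⊤ : Submodule A (M ⊗[A] a))) = ⊥ := by
  rw [eq_bot_iff]
  intro x hx
  rw [Submodule.mem_iInf] at hx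
  rw [Submodule.mem_bot]
  have h0 : TensorProduct.comm A M a x = 0 := by
    apply hsep.haus'
    intro n
    rw [SModEq.zero]
    have h1 := hx n
    have h2 : Submodule.map (TensorProduct.comm A M a).toLinearMap (I ^ n • (⊤ : Submodule A (M ⊗[A] a))) =
        I ^ n • (⊤ : Submodule A (a ⊗[A] M)) := by
      rw [Submodule.map_smul'', Submodule.map_top, LinearEquiv.range]
    have h3 : TensorProduct.comm A M a x ∈ (I ^ n • (⊤ : Submodule A (a ⊗[A] M))) := by
      rw [← h2]
      exact Submodule.mem_map_of_mem h1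
    simpa using h3
  exact (TensorProduct.comm A M a).injective (by rw [h0, map_zero])

/-- Core of the local criterion of flatness, ideally separated form. -/
theorem flat_of_forall_mkQ_lTensor_eq_zero [IsNoetherianRing A] (I : Ideal A)
    (hsep : ∀ a : Ideal A, IsHausdorff I (↥a ⊗[A] M))
    (H : ∀ (J : Ideal A) (m : ℕ) (x : M ⊗[A] J), (J.subtype.lTensor M) x = 0 →
      ((Submodule.comap J.subtype (I ^ m)).mkQ.lTensor M) x = 0) : Module.Flat A M := by
  rw [Module.Flat.iff_lTensor_injective']
  intro J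
  rw [injective_iff_map_eq_zero]
  intro x hx
  have hkrull := iInf_pow_smul_top_eq_bot_of_isHausdorff (M := M) I J (hsep J)
  have hmem : x ∈ (⨅ i : ℕ, I ^ i • ⊤ : Submodule A (M ⊗[A] J)) := by
    rw [Submodule.mem_iInf]
    intro n
    -- Artin–Rees
    obtain ⟨k, hk⟩ := Ideal.exists_pow_inf_eq_pow_smul I (M := A) J
    have hAR : Submodule.comap J.subtype (I ^ (n + k)) ≤ I ^ n • (⊤ : Submodule A J) := by
      intro j hj
      have h1 : (j : A) ∈ I ^ (n + k) • (⊤ : Submodule A A) ⊓ J := by
        refine ⟨?_, j.2⟩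
        rw [smul_eq_mul, Ideal.mul_top]
        exact hj
      rw [hk (n + k) (Nat.le_add_left _ _), Nat.add_sub_cancel] at h1
      have h2 : (j : A) ∈ I ^ n • J := Submodule.smul_mono le_rfl inf_le_right h1
      have h3 : I ^ n • J = Submodule.map J.subtype (I ^ n • (⊤ : Submodule A J)) := by
        rw [Submodule.map_smul'', Submodule.map_subtype_top]
      rw [h3] at h2
      obtain ⟨j', hj', hjj'⟩ := h2
      have : j' = j := Subtype.ext hjj'
      rwa [← this]
    have h0 := H J (n + k) x hx
    have hex := lTensor_exact M (LinearMap.exact_subtype_mkQ (Submodule.comap J.subtype (I ^ (n + k))))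
      (Submodule.mkQ_surjective _)
    obtain ⟨y, rfl⟩ := (hex x).mp h0
    clear h0 hx
    induction y using TensorProduct.induction_on with
    | zero => simp
    | add y₁ y₂ h₁ h₂ => rw [map_add]; exact Submodule.add_mem _ h₁ h₂
    | tmul m j =>
      rw [LinearMap.lTensor_tmul]
      have := Groth.Agent.H1.tmul_mem_map_pow_smul_top (B := A) I n J m _ (hAR j.2)
      rwa [Algebra.algebraMap_self, Ideal.map_id] at this
  rw [hkrull] at hmem
  exact hmem

/-- Local criterion of flatness, infinitesimal form, for ideally separated modules. -/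
theorem flat_of_forall_flat_quotient_pow [IsNoetherianRing A] (I : Ideal A)
    (hsep : ∀ a : Ideal A, IsHausdorff I (↥a ⊗[A] M))
    (h : ∀ n : ℕ, 0 < n → Module.Flat (A ⧸ I ^ n) ((A ⧸ I ^ n) ⊗[A] M)) : Module.Flat A M := by
  refine flat_of_forall_mkQ_lTensor_eq_zero I hsep fun J m x hx ↦ ?_
  rcases Nat.eq_zero_or_pos m with rfl | hm
  · have : Subsingleton (A ⧸ I ^ 0) := by
      rw [pow_zero, Ideal.one_eq_top]
      exact Ideal.Quotient.subsingleton_iff.mpr rfl
    have := Groth.Agent.H1.flat_of_subsingleton_ring (R := A ⧸ I ^ 0) ((A ⧸ I ^ 0) ⊗[A] M)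
    exact Groth.Agent.H1.mkQ_lTensor_eq_zero_of_flat_quotient J (I ^ 0) x hx
  · have := h m hm
    exact Groth.Agent.H1.mkQ_lTensor_eq_zero_of_flat_quotient J (I ^ m) x hx

end Groth.Agent.H3.ISep
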