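import Mathlib
import Groth.Agent.Lib.Helper1.LocalCriterion

set_option autoImplicit false
universe u
open TensorProduct Function

namespace Groth.Agent.H3.ISep

variable {A : Type u} [CommRing A] {M : Type u} [AddCommGroup M] [Module A M]

/-- the `gr` condition at level `i` for the ideal `J`: elements of `J^i ⊗ M` dying in
`A/J^(i+1) ⊗ M` come from `J^(i+1) ⊗ M`. -/
def GrCond (J : Ideal A) (M : Type u) [AddCommGroup M] [Module A M] (i : ℕ) : Prop :=
  ∀ x : ↥(J ^ i) ⊗[A] M, (((J ^ (i + 1)).mkQ.comp (J ^ i).subtype).rTensor M) x = 0 →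
    x ∈ LinearMap.range ((Submodule.inclusion (Ideal.pow_le_pow_right (Nat.le_succ i))).rTensor M)

/-- descending induction. -/
theorem claim (J : Ideal A) (hG : ∀ i, GrCond J M i) (n : ℕ) :
    ∀ (d i : ℕ) (hi : i + d = n), ∀ x : ↥(J ^ i) ⊗[A] M,
      (((J ^ n).mkQ.comp (J ^ i).subtype).rTensor M) x = 0 →
      x ∈ LinearMap.range ((Submodule.inclusion
        (Ideal.pow_le_pow_right (by omega : i ≤ n))).rTensor M) := by
  intro d
  induction d with
  | zero =>
    intro i hi x _
    have hin : i = n := by omega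
    subst hin
    refine ⟨x, ?_⟩
    have : Submodule.inclusion (le_refl (J ^ i)) = LinearMap.id := by
      ext y; rfl
    rw [this, LinearMap.rTensor_id]
    rfl
  | succ d ih =>
    intro i hi x hx
    have hi1 : i + 1 ≤ n := by omega
    -- image in A/J^(i+1)
    have hfac : (J ^ (i + 1)).mkQ = (Submodule.factor (Ideal.pow_le_pow_right hi1)).comp (J ^ n).mkQ := by
      ext a; rfl
    have h1 : (((J ^ (i + 1)).mkQ.comp (J ^ i).subtype).rTensor M) x = 0 := by
      rw [hfac, LinearMap.comp_assoc, LinearMap.rTensor_comp, LinearMap.comp_apply, hx, map_zero]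
    obtain ⟨y, rfl⟩ := hG i x h1
    have h2 : (((J ^ n).mkQ.comp (J ^ (i + 1)).subtype).rTensor M) y = 0 := by
      have : (J ^ n).mkQ.comp (J ^ (i + 1)).subtype =
          ((J ^ n).mkQ.comp (J ^ i).subtype).comp
            (Submodule.inclusion (Ideal.pow_le_pow_right (Nat.le_succ i))) := by
        ext a; rfl
      rw [this, LinearMap.rTensor_comp, LinearMap.comp_apply, hx]
    obtain ⟨z, rfl⟩ := ih (i + 1) (by omega) y h2
    refine ⟨z, ?_⟩
    rw [← LinearMap.comp_apply, ← LinearMap.rTensor_comp]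
    rfl

section Transport

variable (K J : Ideal A)

/-- the `A`-linear surjection `J → J (A/K)`. -/
noncomputable def sigma : ↥J →ₗ[A] ↥(J.map (Ideal.Quotient.mk K)) where
  toFun j := ⟨Ideal.Quotient.mk K j.1, Ideal.mem_map_of_mem _ j.2⟩
  map_add' x y := by ext; simp
  map_smul' a x := by
    ext
    simp only [SetLike.val_smul, smul_eq_mul, map_mul, RingHom.id_apply]
    rfl

lemma sigma_surjective : Surjective (sigma K J) := by
  rintro ⟨y, hy⟩
  obtain ⟨j, hj, rfl⟩ := (Ideal.mem_map_iff_of_surjective _ Ideal.Quotient.mk_surjective).mp hy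
  exact ⟨⟨j, hj⟩, rfl⟩

lemma subtype_comp_sigma :
    ((J.map (Ideal.Quotient.mk K)).subtype.restrictScalars A).comp (sigma K J) =
      K.mkQ.comp J.subtype := by
  ext j; rfl

/-- injectivity over `A` gives injectivity over `S = A/K`. -/
theorem rTensor_injective_of_restrictScalars
    (h : Injective (((J.map (Ideal.Quotient.mk K)).subtype.restrictScalars A).rTensor M)) :
    Injective ((J.map (Ideal.Quotient.mk K)).subtype.rTensor ((A ⧸ K) ⊗[A] M)) := by
  let S := A ⧸ K
  let J' := J.map (Ideal.Quotient.mk K)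
  let e₁ := AlgebraTensorModule.cancelBaseChange A S S ↥J' M
  let e₂ := AlgebraTensorModule.cancelBaseChange A S S S M
  have hsq : ∀ x, e₂ (J'.subtype.rTensor (S ⊗[A] M) x) =
      (J'.subtype.restrictScalars A).rTensor M (e₁ x) := by
    intro x
    induction x using TensorProduct.induction_on with
    | zero => simp
    | add x y hx hy => simp only [map_add, hx, hy]
    | tmul n y =>
      induction y using TensorProduct.induction_on with
      | zero => simp
      | add x y hx hy => simp only [tmul_add, map_add, hx, hy]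
      | tmul s r =>
        simp only [e₁, e₂, LinearMap.rTensor_tmul, Submodule.subtype_apply,
          AlgebraTensorModule.cancelBaseChange_tmul, LinearMap.coe_restrictScalars]
        rfl
  intro x y hxy
  apply e₁.injective
  apply h
  rw [← hsq, ← hsq, hxy]

/-- flatness of the reduction mod `J` seen over `(A/K)/J(A/K)`. -/
theorem flat_doubleQuot (hKJ : K ≤ J) [Module.Flat (A ⧸ J) ((A ⧸ J) ⊗[A] M)] :
    Module.Flat ((A ⧸ K) ⧸ J.map (Ideal.Quotient.mk K))
      (((A ⧸ K) ⧸ J.map (Ideal.Quotient.mk K)) ⊗[A ⧸ K] ((A ⧸ K) ⊗[A] M)) := by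
  let S := A ⧸ K
  let J' := J.map (Ideal.Quotient.mk K)
  let T := S ⧸ J'
  let R := A ⧸ J
  let e : T ≃+* R := DoubleQuot.quotQuotEquivQuotOfLE hKJ
  letI : Algebra R T := e.symm.toRingHom.toAlgebra
  haveI : IsScalarTower A R T := IsScalarTower.of_algebraMap_eq (fun a => by
    change _ = e.symm (Ideal.Quotient.mk J a)
    rw [DoubleQuot.quotQuotEquivQuotOfLE_symm_mk]
    rfl)
  haveI : Module.Flat T (T ⊗[R] (R ⊗[A] M)) := inferInstance
  let e₁ : T ⊗[S] (S ⊗[A] M) ≃ₗ[T] T ⊗[A] M := AlgebraTensorModule.cancelBaseChange A S T T M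
  let e₂ : T ⊗[R] (R ⊗[A] M) ≃ₗ[T] T ⊗[A] M := AlgebraTensorModule.cancelBaseChange A R T T M
  exact Module.Flat.of_linearEquiv (e₁.trans e₂.symm)

end Transport

/-- (iii) ⇒ (iv) of the local criterion: the `gr` conditions give flatness of all `M/J^n M`. -/
theorem flat_quotient_pow_of_grCond (J : Ideal A) [Module.Flat (A ⧸ J) ((A ⧸ J) ⊗[A] M)]
    (hG : ∀ i, GrCond J M i) (n : ℕ) (hn : 0 < n) :
    Module.Flat (A ⧸ J ^ n) ((A ⧸ J ^ n) ⊗[A] M) := by
  have hKJ : J ^ n ≤ J := Ideal.pow_le_self hn.ne'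
  haveI := flat_doubleQuot (M := M) (J ^ n) J hKJ
  refine Groth.Agent.H1.flat_of_isNilpotent_of_flat_quotient
    (J.map (Ideal.Quotient.mk (J ^ n))) ⟨n, ?_⟩ ?_
  · rw [← Ideal.map_pow, Ideal.map_quotient_self]
    rfl
  · apply rTensor_injective_of_restrictScalars
    rw [injective_iff_map_eq_zero]
    intro z hz
    obtain ⟨x, rfl⟩ := LinearMap.rTensor_surjective M (sigma_surjective (J ^ n) J) z
    rw [← LinearMap.comp_apply, ← LinearMap.rTensor_comp, subtype_comp_sigma] at hz
    let ι₁ : ↥J →ₗ[A] ↥(J ^ 1) := Submodule.inclusion (pow_one J).ge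
    let ι₁' : ↥(J ^ 1) →ₗ[A] ↥J := Submodule.inclusion (pow_one J).le
    have h1 : (((J ^ n).mkQ.comp (J ^ 1).subtype).rTensor M) (ι₁.rTensor M x) = 0 := by
      rw [← LinearMap.comp_apply, ← LinearMap.rTensor_comp]
      exact hz
    obtain ⟨y, hy⟩ := claim J hG n (n - 1) 1 (by omega) _ h1
    have hx : x = ι₁'.rTensor M (ι₁.rTensor M x) := by
      rw [← LinearMap.comp_apply, ← LinearMap.rTensor_comp]
      have : ι₁'.comp ι₁ = LinearMap.id := by ext j; rfl
      rw [this, LinearMap.rTensor_id]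
      rfl
    rw [hx, ← hy, ← LinearMap.comp_apply, ← LinearMap.rTensor_comp, ← LinearMap.comp_apply,
      ← LinearMap.rTensor_comp]
    have h0 : ((sigma (J ^ n) J).comp ι₁').comp (Submodule.inclusion
        (Ideal.pow_le_pow_right (by omega : 1 ≤ n))) = 0 := by
      ext k
      change Ideal.Quotient.mk (J ^ n) (k : A) = 0
      exact Ideal.Quotient.eq_zero_iff_mem.mpr k.2
    rw [h0, LinearMap.rTensor_zero]
    rfl

end Groth.Agent.H3.ISep
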