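import Mathlib

set_option autoImplicit false
universe u
open TensorProduct Function

namespace Groth.Agent.H3.ISep

section AssLemma
variable {A : Type u} [CommRing A] [IsNoetherianRing A] (J : Ideal A)
  {N : Type u} [AddCommGroup N] [Module A N] [Module (A ⧸ J) N] [IsScalarTower A (A ⧸ J) N]

/-- an element of a flat `A/J`-module which dies at every associated prime of `A/J` is zero. -/
theorem eq_zero_of_forall_associatedPrimes [Module.Flat (A ⧸ J) N] (y : N)
    (h : ∀ q ∈ associatedPrimes A (A ⧸ J), ∃ s : A, s ∉ q ∧ s • y = 0) : y = 0 := by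
  classical
  by_contra hy
  let I : Ideal A := LinearMap.ker (LinearMap.toSpanSingleton A N y)
  have hI : ∀ s, s ∈ I ↔ s • y = 0 := fun s => by
    change LinearMap.toSpanSingleton A N y s = 0 ↔ _
    rw [LinearMap.toSpanSingleton_apply]
  have hsub : (I : Set A) ⊆ ⋃ p ∈ associatedPrimes A (A ⧸ J), (p : Set A) := by
    rw [biUnion_associatedPrimes_eq_zero_divisors]
    intro s hs
    by_contra hns
    have hns' : ∀ x : A ⧸ J, x ≠ 0 → s • x ≠ 0 := by
      intro x hx hsx
      exact hns ⟨x, hx, hsx⟩
    -- multiplication by s̄ on A/J is injective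
    have hreg : (Ideal.Quotient.mk J s) ∈ nonZeroDivisors (A ⧸ J) := by
      rw [mem_nonZeroDivisors_iff_left]
      intro x hx
      by_contra hne
      refine hns' x hne ?_
      rw [← hx, Algebra.smul_def]
      rfl
    have hregN : IsSMulRegular N (Ideal.Quotient.mk J s) :=
      Module.Flat.isSMulRegular_of_nonZeroDivisors hreg
    have h2 : (Ideal.Quotient.mk J s) • y = 0 := by
      have := (hI s).mp hs
      rw [← this]
      exact (algebraMap_smul (A ⧸ J) s y)
    apply hy
    apply hregN
    show (Ideal.Quotient.mk J s) • y = (Ideal.Quotient.mk J s) • (0 : N)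
    rw [h2, smul_zero]
  have hfin : (associatedPrimes A (A ⧸ J)).Finite := associatedPrimes.finite A (A ⧸ J)
  have hsub' : (I : Set A) ⊆ ⋃ p ∈ (hfin.toFinset : Set (Ideal A)), ((id p : Ideal A) : Set A) := by
    intro s hs
    obtain ⟨p, hp, hsp⟩ := Set.mem_iUnion₂.mp (hsub hs)
    exact Set.mem_iUnion₂.mpr ⟨p, by simpa using hp, hsp⟩
  rw [Ideal.subset_union_prime (R := A) (f := id) ⊥ ⊥ (fun p hp _ _ => by
    have : p ∈ associatedPrimes A (A ⧸ J) := by simpa using hp
    exact IsAssociatedPrime.isPrime this)] at hsub'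
  obtain ⟨q, hq, hIq⟩ := hsub'
  have hq' : q ∈ associatedPrimes A (A ⧸ J) := by simpa using hq
  obtain ⟨s, hsq, hsy⟩ := h q hq'
  exact hsq (hIq ((hI s).mpr hsy))

end AssLemma

end Groth.Agent.H3.ISep
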