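import Mathlib
import Groth.Agent.Lib.Helper3.ISep3

set_option autoImplicit false
universe u
open TensorProduct Function

namespace Groth.Agent.H3.ISep

section Core
variable {A : Type u} [CommRing A] [IsNoetherianRing A] (J : Ideal A)
  {P' P Q R : Type u} [AddCommGroup P'] [AddCommGroup P] [AddCommGroup Q] [AddCommGroup R]
  [Module A P'] [Module A P] [Module A Q] [Module A R]
  [Module (A ⧸ J) Q] [IsScalarTower A (A ⧸ J) Q]
  (M : Type u) [AddCommGroup M] [Module A M]

theorem flat_tensor_of_flat [Module.Flat (A ⧸ J) Q] [Module.Flat (A ⧸ J) ((A ⧸ J) ⊗[A] M)] :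
    Module.Flat (A ⧸ J) (Q ⊗[A] M) :=
  Module.Flat.of_linearEquiv (AlgebraTensorModule.cancelBaseChange A (A ⧸ J) (A ⧸ J) Q M).symm

theorem eq_zero_of_rTensor_eq_zero [Module.Flat (A ⧸ J) Q]
    [Module.Flat (A ⧸ J) ((A ⧸ J) ⊗[A] M)] (j : Q →ₗ[A] R) (hj : Injective j)
    (hloc : ∀ (q : Ideal A) [q.IsPrime], q ∈ associatedPrimes A (A ⧸ J) →
      Module.Flat A (LocalizedModule q.primeCompl M))
    (y : Q ⊗[A] M) (hy : (j.rTensor M) y = 0) : y = 0 := by
  haveI := flat_tensor_of_flat J (Q := Q) M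
  refine eq_zero_of_forall_associatedPrimes J y fun q hq => ?_
  haveI : q.IsPrime := IsAssociatedPrime.isPrime hq
  haveI := hloc q hq
  let lam := LocalizedModule.mkLinearMap q.primeCompl M
  have h1 : (lam.lTensor Q) y = 0 := by
    apply Module.Flat.rTensor_preserves_injective_linearMap
      (M := LocalizedModule q.primeCompl M) j hj
    rw [map_zero, ← LinearMap.comp_apply, LinearMap.rTensor_comp_lTensor,
      ← LinearMap.lTensor_comp_rTensor, LinearMap.comp_apply, hy, map_zero]
  have h2 : (AlgebraTensorModule.rTensor A Q lam) (TensorProduct.comm A Q M y) = 0 := by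
    have : ∀ z : Q ⊗[A] M, (AlgebraTensorModule.rTensor A Q lam) (TensorProduct.comm A Q M z)
        = TensorProduct.comm A Q _ ((lam.lTensor Q) z) := by
      intro z
      induction z using TensorProduct.induction_on with
      | zero => simp
      | tmul a b => rfl
      | add a b ha hb => rw [map_add, map_add, ha, hb, map_add, map_add]
    have := this y
    rw [this, h1, map_zero]
  obtain ⟨s, hs⟩ := (IsLocalizedModule.eq_zero_iff q.primeCompl
    (AlgebraTensorModule.rTensor A Q lam)).mp h2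
  refine ⟨s.1, s.2, ?_⟩
  apply (TensorProduct.comm A Q M).injective
  rw [map_smul, map_zero]
  exact hs

theorem exists_factor (π : P →ₗ[A] Q) (hπ : Surjective π) (g : P →ₗ[A] R)
    (h : LinearMap.ker π = LinearMap.ker g) :
    ∃ j : Q →ₗ[A] R, Injective j ∧ j ∘ₗ π = g := by
  refine ⟨(LinearMap.ker π).liftQ g h.le ∘ₗ (π.quotKerEquivOfSurjective hπ).symm.toLinearMap,
    ?_, ?_⟩
  · rw [LinearMap.coe_comp]
    refine Injective.comp ?_ (LinearEquiv.injective _)
    rw [← LinearMap.ker_eq_bot]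
    exact Submodule.ker_liftQ_eq_bot _ _ _ h.ge
  · ext p
    have : (π.quotKerEquivOfSurjective hπ).symm (π p) = Submodule.Quotient.mk p := by
      rw [LinearEquiv.symm_apply_eq]
      rfl
    simp only [LinearMap.comp_apply, LinearEquiv.coe_coe, this]
    rfl

/-- abstract form of the `gr` condition. -/
theorem mem_range_rTensor [Module.Flat (A ⧸ J) Q]
    [Module.Flat (A ⧸ J) ((A ⧸ J) ⊗[A] M)] (ι : P' →ₗ[A] P) (π : P →ₗ[A] Q)
    (hex : Exact ι π) (hπ : Surjective π) (g : P →ₗ[A] R)
    (h : LinearMap.ker π = LinearMap.ker g)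
    (hloc : ∀ (q : Ideal A) [q.IsPrime], q ∈ associatedPrimes A (A ⧸ J) →
      Module.Flat A (LocalizedModule q.primeCompl M))
    (x : P ⊗[A] M) (hx : (g.rTensor M) x = 0) : x ∈ LinearMap.range (ι.rTensor M) := by
  obtain ⟨j, hj, rfl⟩ := exists_factor π hπ g h
  have hex' : Exact (ι.rTensor M) (π.rTensor M) := rTensor_exact M hex hπ
  refine LinearMap.mem_range.mpr ((hex' x).mp ?_)
  refine eq_zero_of_rTensor_eq_zero J M j hj hloc _ ?_
  rw [← LinearMap.comp_apply, ← LinearMap.rTensor_comp]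
  exact hx

end Core

end Groth.Agent.H3.ISep
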