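import Mathlib
import Groth.Agent.Lib.Helper3.ISep1
import Groth.Agent.Lib.Helper3.ISep2
import Groth.Agent.Lib.Helper3.ISep4

set_option autoImplicit false
universe u
open TensorProduct Function

namespace Groth.Agent.H3.ISep

section Apply
variable {A : Type u} [CommRing A] (J : Ideal A) (M : Type u) [AddCommGroup M] [Module A M]

theorem smul_top_eq_range_inclusion (i : ℕ) :
    (J • (⊤ : Submodule A ↥(J ^ i))) = LinearMap.range
      (Submodule.inclusion (Ideal.pow_le_pow_right (Nat.le_succ i)) :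
        ↥(J ^ (i + 1)) →ₗ[A] ↥(J ^ i)) := by
  apply Submodule.map_injective_of_injective (f := (J ^ i).subtype) (J ^ i).subtype_injective
  rw [Submodule.map_smul'', Submodule.map_subtype_top, ← LinearMap.range_comp,
    Submodule.subtype_comp_inclusion, Submodule.range_subtype, smul_eq_mul, pow_succ']

theorem ker_mkQ_comp_subtype (i : ℕ) :
    LinearMap.ker ((J ^ (i + 1)).mkQ.comp (J ^ i).subtype) = LinearMap.range
      (Submodule.inclusion (Ideal.pow_le_pow_right (Nat.le_succ i)) :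
        ↥(J ^ (i + 1)) →ₗ[A] ↥(J ^ i)) := by
  rw [LinearMap.ker_comp, Submodule.ker_mkQ, Submodule.range_inclusion]

variable [IsNoetherianRing A]

theorem grCond_of_flat [Module.Flat (A ⧸ J) ((A ⧸ J) ⊗[A] M)]
    (hgr : ∀ k : ℕ, Module.Flat (A ⧸ J) ((A ⧸ J) ⊗[A] ↥(J ^ k)))
    (hloc : ∀ (q : Ideal A) [q.IsPrime], q ∈ associatedPrimes A (A ⧸ J) →
      Module.Flat A (LocalizedModule q.primeCompl M)) (i : ℕ) : GrCond J M i := by
  intro x hx
  haveI := hgr i
  have hker : LinearMap.ker (TensorProduct.mk A (A ⧸ J) ↥(J ^ i) 1) = LinearMap.range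
      (Submodule.inclusion (Ideal.pow_le_pow_right (Nat.le_succ i)) :
        ↥(J ^ (i + 1)) →ₗ[A] ↥(J ^ i)) := by
    rw [LinearMap.ker_tensorProductMk, smul_top_eq_range_inclusion]
  refine mem_range_rTensor J M _ (TensorProduct.mk A (A ⧸ J) ↥(J ^ i) 1)
    (LinearMap.exact_iff.mpr hker)
    (TensorProduct.mk_surjective A _ (A ⧸ J) Ideal.Quotient.mk_surjective)
    ((J ^ (i + 1)).mkQ.comp (J ^ i).subtype) ?_ hloc x hx
  rw [hker, ker_mkQ_comp_subtype]

/-- the converse direction of the ideally-separated criterion. -/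
theorem flat_of_grFlat (hsep : ∀ a : Ideal A, IsHausdorff J (↥a ⊗[A] M))
    (hgr : ∀ k : ℕ, Module.Flat (A ⧸ J) ((A ⧸ J) ⊗[A] ↥(J ^ k)))
    [Module.Flat (A ⧸ J) ((A ⧸ J) ⊗[A] M)]
    (hloc : ∀ (q : Ideal A) [q.IsPrime], q ∈ associatedPrimes A (A ⧸ J) →
      Module.Flat A (LocalizedModule q.primeCompl M)) : Module.Flat A M :=
  flat_of_forall_flat_quotient_pow J hsep fun n hn =>
    flat_quotient_pow_of_grCond J (grCond_of_flat J M hgr hloc) n hn

end Apply

end Groth.Agent.H3.ISep
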