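import Mathlib
import Groth.Agent.Lib.Helper3.ISep5

set_option autoImplicit false
universe u
open TensorProduct Function

namespace Groth.Agent.H3.ISep

section Step
variable {A : Type u} [CommRing A] {M : Type u} [AddCommGroup M] [Module A M]

/-- base change of flatness along `A/J → A/L`. -/
theorem flat_quotient_of_le {J L : Ideal A} (hJL : J ≤ L)
    [Module.Flat (A ⧸ J) ((A ⧸ J) ⊗[A] M)] :
    Module.Flat (A ⧸ L) ((A ⧸ L) ⊗[A] M) := by
  letI : Algebra (A ⧸ J) (A ⧸ L) := (Ideal.Quotient.factor hJL).toAlgebra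
  haveI : IsScalarTower A (A ⧸ J) (A ⧸ L) := IsScalarTower.of_algebraMap_eq (fun a => rfl)
  exact Module.Flat.of_linearEquiv
    (AlgebraTensorModule.cancelBaseChange A (A ⧸ J) (A ⧸ L) (A ⧸ L) M).symm

/-- square-zero step of the local criterion. -/
theorem flat_quotient_of_sq_le (K L : Ideal A) (hKL : K ≤ L) (hsq : L * L ≤ K)
    [Module.Flat (A ⧸ L) ((A ⧸ L) ⊗[A] M)]
    (hG : ∀ x : ↥L ⊗[A] M, ((K.mkQ.comp L.subtype).rTensor M) x = 0 →
      x ∈ LinearMap.range ((Submodule.inclusion hKL).rTensor M)) :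
    Module.Flat (A ⧸ K) ((A ⧸ K) ⊗[A] M) := by
  haveI := flat_doubleQuot (M := M) K L hKL
  refine Groth.Agent.H1.flat_of_isNilpotent_of_flat_quotient
    (L.map (Ideal.Quotient.mk K)) ⟨2, ?_⟩ ?_
  · rw [← Ideal.map_pow, pow_two, Ideal.zero_eq_bot, eq_bot_iff]
    calc (L * L).map (Ideal.Quotient.mk K) ≤ K.map (Ideal.Quotient.mk K) := Ideal.map_mono hsq
      _ = ⊥ := Ideal.map_quotient_self K
  · apply rTensor_injective_of_restrictScalars
    rw [injective_iff_map_eq_zero]
    intro z hz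
    obtain ⟨x, rfl⟩ := LinearMap.rTensor_surjective M (sigma_surjective K L) z
    rw [← LinearMap.comp_apply, ← LinearMap.rTensor_comp, subtype_comp_sigma] at hz
    obtain ⟨y, rfl⟩ := hG x hz
    rw [← LinearMap.comp_apply, ← LinearMap.rTensor_comp]
    have h0 : (sigma K L).comp (Submodule.inclusion hKL) = 0 := by
      ext k
      change Ideal.Quotient.mk K (k : A) = 0
      exact Ideal.Quotient.eq_zero_iff_mem.mpr k.2
    rw [h0, LinearMap.rTensor_zero]
    rfl

/-- an element of `Q ⊗ M` dying under an injective map `j ⊗ M` dies at every prime where `M` is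
flat. -/
theorem exists_smul_eq_zero_of_rTensor_eq_zero {Q R : Type u} [AddCommGroup Q] [AddCommGroup R]
    [Module A Q] [Module A R] (j : Q →ₗ[A] R) (hj : Injective j)
    (q : Ideal A) [q.IsPrime] [Module.Flat A (LocalizedModule q.primeCompl M)]
    (y : Q ⊗[A] M) (hy : (j.rTensor M) y = 0) : ∃ s : A, s ∉ q ∧ s • y = 0 := by
  let lam := LocalizedModule.mkLinearMap q.primeCompl M
  have h1 : (lam.lTensor Q) y = 0 := by
    apply Module.Flat.rTensor_preserves_injective_linearMap
      (M := LocalizedModule q.primeCompl M) j hj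
    rw [map_zero, ← LinearMap.comp_apply, LinearMap.rTensor_comp_lTensor,
      ← LinearMap.lTensor_comp_rTensor, LinearMap.comp_apply, hy, map_zero]
  have h2 : (AlgebraTensorModule.rTensor A Q lam) (TensorProduct.comm A Q M y) = 0 := by
    have : ∀ z : Q ⊗[A] M, (AlgebraTensorModule.rTensor A Q lam) (TensorProduct.comm A Q M z)
        = TensorProduct.comm A Q _ ((lam.lTensor Q) z) := by
      intro z
      induction z using TensorProduct.induction_on with
      | zero => simp
      | tmul a b => rfl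
      | add a b ha hb => rw [map_add, map_add, ha, hb, map_add, map_add]
    have := this y
    rw [this, h1, map_zero]
  obtain ⟨s, hs⟩ := (IsLocalizedModule.eq_zero_iff q.primeCompl
    (AlgebraTensorModule.rTensor A Q lam)).mp h2
  refine ⟨s.1, s.2, ?_⟩
  apply (TensorProduct.comm A Q M).injective
  rw [map_smul, map_zero]
  exact hs

/-- prime avoidance + regularity. -/
theorem eq_zero_of_regular (L : Ideal A) {Q : Type u} [AddCommGroup Q] [Module A Q]
    [Module (A ⧸ L) Q] [IsScalarTower A (A ⧸ L) Q]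
    [Module.Flat (A ⧸ L) ((A ⧸ L) ⊗[A] M)] {r : ℕ} (p : Fin r → Ideal A) [∀ i, (p i).IsPrime]
    (hreg : ∀ s : A, (∀ i, s ∉ p i) → IsSMulRegular Q s)
    (y : Q ⊗[A] M) (h : ∀ i, ∃ s : A, s ∉ p i ∧ s • y = 0) : y = 0 := by
  classical
  by_contra hy
  let I : Ideal A := LinearMap.ker (LinearMap.toSpanSingleton A (Q ⊗[A] M) y)
  have hI : ∀ s, s ∈ I ↔ s • y = 0 := fun s => by
    change LinearMap.toSpanSingleton A (Q ⊗[A] M) y s = 0 ↔ _
    rw [LinearMap.toSpanSingleton_apply]
  have hnot : ¬ ((I : Set A) ⊆ ⋃ q ∈ ((Finset.univ.image p : Finset (Ideal A)) : Set (Ideal A)),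
      ((id q : Ideal A) : Set A)) := by
    rw [Ideal.subset_union_prime (R := A) (f := id) ⊥ ⊥ (fun q hq _ _ => by
      obtain ⟨i, -, rfl⟩ := Finset.mem_image.mp hq
      exact inferInstanceAs (p i).IsPrime)]
    rintro ⟨q, hq, hIq⟩
    obtain ⟨i, -, rfl⟩ := Finset.mem_image.mp hq
    obtain ⟨s, hs, hsy⟩ := h i
    exact hs (hIq ((hI s).mpr hsy))
  rw [Set.not_subset] at hnot
  obtain ⟨s, hsI, hsn⟩ := hnot
  have hs : ∀ i, s ∉ p i := fun i hi =>
    hsn (Set.mem_iUnion₂.mpr ⟨p i, by simp, hi⟩)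
  have hregQ : Injective (LinearMap.lsmul A Q s) := hreg s hs
  have hinj : Injective ((LinearMap.lsmul A Q s).rTensor M) := by
    rw [← LinearMap.lTensor_inj_iff_rTensor_inj]
    exact Groth.Agent.H1.lTensor_injective_of_flat_baseChange (A ⧸ L)
      Ideal.Quotient.mk_surjective _ hregQ
  apply hy
  apply hinj
  rw [map_zero]
  have : (LinearMap.lsmul A Q s).rTensor M = LinearMap.lsmul A (Q ⊗[A] M) s := by
    ext a b
    rfl
  rw [this]
  exact (hI s).mp hsI

end Step

end Groth.Agent.H3.ISep
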