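import Mathlib
import Groth.Agent.Lib.Helper3.ISep6

set_option autoImplicit false
universe u
open TensorProduct Function

namespace Groth.Agent.H3.ISep

section Symb
variable {A : Type u} [CommRing A] (J : Ideal A) (M : Type u) [AddCommGroup M] [Module A M]
  {r : ℕ} (p : Fin r → Ideal A) [∀ i, (p i).IsPrime]

/-- the intersection of the `m`-th symbolic powers of the `p i`. -/
noncomputable def Jm (m : ℕ) : Ideal A :=
  ⨅ i, Ideal.comap (algebraMap A (Localization.AtPrime (p i)))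
    (IsLocalRing.maximalIdeal (Localization.AtPrime (p i)) ^ m)

lemma mem_Jm (m : ℕ) (a : A) : a ∈ Jm p m ↔ ∀ i, algebraMap A (Localization.AtPrime (p i)) a ∈
    IsLocalRing.maximalIdeal (Localization.AtPrime (p i)) ^ m := by
  simp only [Jm, Ideal.mem_iInf, Ideal.mem_comap]

lemma Jm_antitone (m : ℕ) : Jm p (m + 1) ≤ Jm p m := fun a ha =>
  (mem_Jm p m a).mpr fun i => Ideal.pow_le_pow_right (Nat.le_succ m) ((mem_Jm p (m + 1) a).mp ha i)

lemma Jm_mul_le (m : ℕ) (hm : 1 ≤ m) : Jm p m * Jm p m ≤ Jm p (m + 1) := by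
  rw [Ideal.mul_le]
  intro a ha b hb
  rw [mem_Jm] at ha hb ⊢
  intro i
  rw [map_mul]
  have := Ideal.mul_mem_mul (ha i) (hb i)
  rw [← pow_add] at this
  exact Ideal.pow_le_pow_right (by omega) this

lemma le_Jm_one (hp : ∀ i, J ≤ p i) : J ≤ Jm p 1 := by
  intro a ha
  rw [mem_Jm]
  intro i
  rw [pow_one]
  have := hp i ha
  rw [← IsLocalization.AtPrime.comap_maximalIdeal (Localization.AtPrime (p i)) (p i)] at this
  exact this

lemma mem_Jm_of_mul_mem (m : ℕ) (s a : A) (hs : ∀ i, s ∉ p i) (h : s * a ∈ Jm p m) :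
    a ∈ Jm p m := by
  rw [mem_Jm] at h ⊢
  intro i
  have hu : IsUnit (algebraMap A (Localization.AtPrime (p i)) s) :=
    IsLocalization.map_units _ (⟨s, hs i⟩ : (p i).primeCompl)
  have := h i
  rw [map_mul] at this
  exact (Ideal.unit_mul_mem_iff_mem _ hu).mp this

theorem flat_Jm_succ (m : ℕ) (hm : 1 ≤ m) [Module.Flat (A ⧸ Jm p m) ((A ⧸ Jm p m) ⊗[A] M)]
    (hloc : ∀ i, Module.Flat A (LocalizedModule (p i).primeCompl M)) :
    Module.Flat (A ⧸ Jm p (m + 1)) ((A ⧸ Jm p (m + 1)) ⊗[A] M) := by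
  have hKL : Jm p (m + 1) ≤ Jm p m := Jm_antitone p m
  have hsq : Jm p m * Jm p m ≤ Jm p (m + 1) := Jm_mul_le p m hm
  refine flat_quotient_of_sq_le (Jm p (m + 1)) (Jm p m) hKL hsq fun x hx => ?_
  have htors : Module.IsTorsionBySet A
      (↥(Jm p m) ⧸ Submodule.comap (Jm p m).subtype (Jm p (m + 1))) (Jm p m) := by
    rintro x ⟨l, hl⟩
    obtain ⟨j, rfl⟩ := Submodule.mkQ_surjective _ x
    change l • (Submodule.comap (Jm p m).subtype (Jm p (m + 1))).mkQ j = 0
    rw [← map_smul, Submodule.mkQ_apply, Submodule.Quotient.mk_eq_zero]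
    change l * (j : A) ∈ Jm p (m + 1)
    exact hsq (Ideal.mul_mem_mul hl j.2)
  letI : Module (A ⧸ Jm p m) (↥(Jm p m) ⧸ Submodule.comap (Jm p m).subtype (Jm p (m + 1))) :=
    htors.module
  haveI : IsScalarTower A (A ⧸ Jm p m)
      (↥(Jm p m) ⧸ Submodule.comap (Jm p m).subtype (Jm p (m + 1))) := htors.isScalarTower
  have hj := Groth.Agent.H1.quotComapMap_injective (Jm p m) (Jm p (m + 1))
  have hex : Exact (Submodule.inclusion hKL)
      (Submodule.comap (Jm p m).subtype (Jm p (m + 1))).mkQ := by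
    rw [LinearMap.exact_iff, Submodule.ker_mkQ, Submodule.range_inclusion]
  have hex' := rTensor_exact M hex (Submodule.mkQ_surjective _)
  refine LinearMap.mem_range.mpr ((hex' x).mp ?_)
  have hy : ((Groth.Agent.H1.quotComapMap (Jm p m) (Jm p (m + 1))).rTensor M)
      ((Submodule.comap (Jm p m).subtype (Jm p (m + 1))).mkQ.rTensor M x) = 0 := by
    rw [← LinearMap.comp_apply, ← LinearMap.rTensor_comp]
    exact hx
  refine eq_zero_of_regular (Jm p m) p ?_ _ fun i => ?_
  · intro s hs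
    have hregK : ∀ c : A ⧸ Jm p (m + 1), s • c = 0 → c = 0 := by
      intro c hc
      obtain ⟨a, rfl⟩ := Ideal.Quotient.mk_surjective c
      have : Ideal.Quotient.mk (Jm p (m + 1)) (s * a) = 0 := by
        rw [← hc, Algebra.smul_def, map_mul]
        rfl
      rw [Ideal.Quotient.eq_zero_iff_mem] at this ⊢
      exact mem_Jm_of_mul_mem p (m + 1) s a hs this
    intro a b hab
    have h0 : s • (a - b) = 0 := by
      rw [smul_sub]
      exact sub_eq_zero.mpr hab
    have h3 : (Groth.Agent.H1.quotComapMap (Jm p m) (Jm p (m + 1))) (a - b) = 0 :=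
      hregK _ (by rw [← map_smul, h0, map_zero])
    have := hj (h3.trans (map_zero _).symm)
    exact sub_eq_zero.mp this
  · haveI := hloc i
    exact exists_smul_eq_zero_of_rTensor_eq_zero _ hj (p i) _ hy

theorem flat_Jm [Module.Flat (A ⧸ J) ((A ⧸ J) ⊗[A] M)] (hp : ∀ i, J ≤ p i)
    (hloc : ∀ i, Module.Flat A (LocalizedModule (p i).primeCompl M)) :
    ∀ m : ℕ, 1 ≤ m → Module.Flat (A ⧸ Jm p m) ((A ⧸ Jm p m) ⊗[A] M) := by
  intro m hm
  induction m, hm using Nat.le_induction with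
  | base => exact flat_quotient_of_le (le_Jm_one J p hp)
  | succ m hm ih =>
    haveI := ih
    exact flat_Jm_succ M p m hm hloc

theorem flat_of_symbolic [IsNoetherianRing A] (hsep : ∀ a : Ideal A, IsHausdorff J (↥a ⊗[A] M))
    (hp : ∀ i, J ≤ p i) (htop : ∀ n : ℕ, ∃ m : ℕ, Jm p m ≤ J ^ n)
    [Module.Flat (A ⧸ J) ((A ⧸ J) ⊗[A] M)]
    (hloc : ∀ i, Module.Flat A (LocalizedModule (p i).primeCompl M)) : Module.Flat A M := by
  refine flat_of_forall_flat_quotient_pow J hsep fun n _ => ?_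
  obtain ⟨m, hm⟩ := htop n
  haveI := flat_Jm J M p hp hloc (m + 1) (by omega)
  exact flat_quotient_of_le ((Jm_antitone p m).trans hm)

end Symb

end Groth.Agent.H3.ISep
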