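import Mathlib
import Groth.Agent.Lib.Helper3.ImgSmooth

/-!
# The reduced image of a homomorphism from a smooth group scheme, as a subgroup scheme (helper3)
-/

set_option autoImplicit false

open CategoryTheory CategoryTheory.Limits AlgebraicGeometry MonoidalCategory
  CartesianMonoidalCategory MonObj

universe u

namespace Groth.Agent.H3.ImgSmooth

/-- **The reduced image of a homomorphism from a smooth group scheme (with closed image) is a
smooth closed subgroup scheme.** -/
theorem exists_image_subgroup (k : Type u) [Field k]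
    (G G' : Over (Spec (CommRingCat.of k))) [GrpObj G] [GrpObj G'] [Smooth G.hom]
    [LocallyOfFiniteType G'.hom] (f : G ⟶ G') [IsMonHom f]
    (hcl : IsClosed (Set.range f.left)) :
    ∃ (Ho : Over (Spec (CommRingCat.of k))) (_ : GrpObj Ho) (io : Ho ⟶ G') (go : G ⟶ Ho),
      IsMonHom io ∧ IsClosedImmersion io.left ∧ go ≫ io = f ∧ Function.Surjective go.left ∧
      Smooth Ho.hom ∧ IsReduced Ho.left := by
  obtain ⟨H, i, himm, hredH, hH⟩ :=
    Groth.Agent.H8.RedImm.exists_reduced_immersion (Set.range f.left) hcl.isLocallyClosed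
  haveI : IsClosedImmersion i := by
    haveI : IsPreimmersion i := inferInstance
    exact IsClosedImmersion.of_isPreimmersion i (by rw [hH]; exact hcl)
  obtain ⟨Ho, io, hHl, hio⟩ : ∃ (Ho : Over (Spec (CommRingCat.of k))) (io : Ho ⟶ G')
      (hHl : Ho.left = H), io.left = eqToHom hHl ≫ i :=
    ⟨Over.mk (i ≫ G'.hom), Over.homMk i rfl, rfl, by simp⟩
  subst hHl
  simp only [eqToHom_refl, Category.id_comp] at hio
  subst hio
  have hred : IsReduced G.left := Groth.Agent.H1.SmoothGeom.isReduced_of_smooth_field k G.hom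
  obtain ⟨g, hg⟩ := Groth.Agent.H8.RedImm.exists_lift_of_isImmersion_of_isReduced io.left f.left
    (by rw [hH])
  obtain ⟨go, hgo⟩ : ∃ go : G ⟶ Ho, go.left = g := by
    refine ⟨Over.homMk g ?_, rfl⟩
    rw [← Over.w io, ← Category.assoc, hg]
    exact Over.w f
  subst hgo
  have hgo : go ≫ io = f := Over.OverMorphism.ext hg
  have hsurj : Function.Surjective go.left := by
    intro h
    have h1 : io.left h ∈ Set.range f.left := by rw [← hH]; exact ⟨h, rfl⟩
    obtain ⟨x, hx⟩ := h1
    refine ⟨x, ?_⟩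
    apply io.left.isEmbedding.injective
    rw [← hx, ← hg]
    rfl
  -- geometric reducedness
  letI oG : G.left.Over (Spec (CommRingCat.of k)) := ⟨G.hom⟩
  letI oH : Ho.left.Over (Spec (CommRingCat.of k)) := ⟨Ho.hom⟩
  haveI : Smooth (G.left ↘ Spec (CommRingCat.of k)) := ‹Smooth G.hom›
  haveI hGgr : GeometricallyReduced (G.left ↘ Spec (CommRingCat.of k)) :=
    (Groth.Agent.H1.SmoothGeom.s1628 k G.left).1
  haveI hHgr : GeometricallyReduced Ho.hom :=
    geometricallyReduced_of_surjective k G.left Ho.left go.left (Over.w go) hsurj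
  haveI : LocallyOfFiniteType Ho.hom := by rw [← Over.w io]; infer_instance
  haveI : IsLocallyNoetherian Ho.left := LocallyOfFiniteType.isLocallyNoetherian Ho.hom
  haveI : IsReduced (Ho ⊗ Ho).left := inferInstanceAs (IsReduced (pullback Ho.hom Ho.hom))
  haveI : Mono io.left := inferInstance
  haveI : Mono io := (Over.forget _).mono_of_mono_map (inferInstanceAs (Mono io.left))
  -- multiplication
  obtain ⟨m, hm⟩ : ∃ m : Ho ⊗ Ho ⟶ Ho, m ≫ io = (io ⊗ₘ io) ≫ μ[G'] := by
    have hsurj2 : Function.Surjective (go ⊗ₘ go).left := by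
      rw [← Set.range_eq_univ, Over.tensorHom_left, Scheme.Pullback.range_map,
        Set.range_eq_univ.mpr hsurj]
      simp
    obtain ⟨l, hl⟩ := Groth.Agent.H8.RedImm.exists_lift_of_isImmersion_of_isReduced io.left
      ((io ⊗ₘ io) ≫ μ[G']).left (by
        rintro _ ⟨z, rfl⟩
        obtain ⟨w, rfl⟩ := hsurj2 z
        refine ⟨go.left ((μ[G]).left w), ?_⟩
        have h1 : (go ⊗ₘ go) ≫ (io ⊗ₘ io) ≫ μ[G'] = μ[G] ≫ go ≫ io := by
          rw [tensorHom_comp_tensorHom_assoc, hgo, IsMonHom.mul_hom]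
        have h2 := congrArg (fun φ => φ.left w) h1
        exact h2.symm)
    refine ⟨Over.homMk l ?_, Over.OverMorphism.ext hl⟩
    rw [← Over.w io, ← Category.assoc, hl]
    exact Over.w _
  -- inverse
  obtain ⟨iv, hiv⟩ : ∃ iv : Ho ⟶ Ho, iv ≫ io = io ≫ ι[G'] := by
    obtain ⟨l, hl⟩ := Groth.Agent.H8.RedImm.exists_lift_of_isImmersion_of_isReduced io.left
      (io ≫ ι[G']).left (by
        rintro _ ⟨z, rfl⟩
        obtain ⟨w, rfl⟩ := hsurj z
        refine ⟨go.left ((ι[G]).left w), ?_⟩
        have h1 : go ≫ io ≫ ι[G'] = ι[G] ≫ go ≫ io := by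
          rw [← Category.assoc, hgo, GrpObj.inv_hom]
        have h2 := congrArg (fun φ => φ.left w) h1
        exact h2.symm)
    have hw : l ≫ Ho.hom = Ho.hom := by
      have h1 : l ≫ io.left ≫ G'.hom = Ho.hom := by
        rw [← Category.assoc, hl]
        exact Over.w _
      rwa [Over.w io] at h1
    exact ⟨Over.homMk l hw, Over.OverMorphism.ext hl⟩
  have he : (η[G] ≫ go) ≫ io = η[G'] := by rw [Category.assoc, hgo, IsMonHom.one_hom]
  letI grpH : GrpObj Ho := Groth.Agent.H9.GZD.grpObjOfMono io (η[G] ≫ go) m iv he hm hiv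
  have hmon : IsMonHom io := Groth.Agent.H9.GZD.isMonHom_ofMono io (η[G] ≫ go) m iv he hm hiv
  refine ⟨Ho, grpH, io, go, hmon, inferInstance, hgo, hsurj, ?_, inferInstance⟩
  letI : GrpObj (Over.mk Ho.hom) := grpH
  exact AlgebraicGeometry.smooth_of_grpObj Ho.hom

end Groth.Agent.H3.ImgSmooth
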