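import Mathlib
import Groth.Agent.Lib.Helper3.AlgSt.Points.Univ
import Groth.Agent.Lib.Helper3.AlgSt.LocQ3
import Groth.Agent.Lib.Helper3.PointsFp
import Groth.Agent.Lib.Helper3.UnivInjComp

/-!
# The canonical descent datum on a base change to an atlas (helper3)

For `f : 𝒳 ⟶ 𝒴`, an atlas `y : (Sch/V) ⟶ 𝒴`, `F ≃ V ×_𝒴 𝒳` and `G₂ ≃ V ×_𝒴 V`, the two pullbacks
`F ×_{V, π₁} G₂` and `F ×_{V, π₂} G₂` are canonically isomorphic over `G₂`, and together they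
realise `F ×_𝒳 F` on points.
-/

set_option autoImplicit false
universe u
open CategoryTheory CategoryTheory.Functor CategoryTheory.Limits Opposite AlgebraicGeometry

noncomputable section

namespace Groth.Agent.H3.SatDesc

open Groth.Agent.H3.FibCatAux Groth.Agent.H3.GerbAux Groth.Agent.H3.FpCalc Groth.Agent.H3.TwoCart
  Groth.Agent.H3.StackPsh Groth.Agent.H3.PshBridge Groth.Agent.H3.AlgStAux Groth.Agent.H3.RepBridge
  Groth.Agent.H3.SetoidPsh Groth.Agent.H3.BaseChangeSp Groth.Agent.H3.AlgStComp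
  Groth.Agent.H3.AlgStProps Groth.Agent.H3.AlgStBridge2 Groth.Agent.H3.AlgStCharts
  Groth.Agent.H3.AlgStDescent Groth.Agent.H3.Whisker Groth.Agent.H3.AlgStLES
  Groth.Agent.H3.FPtRel Groth.Agent.H3.AlgStStackRep Groth.Agent.H3.TwoYoneda
  Groth.Agent.H3.AlgStPoints Groth.Agent.H3.AlgStLocQ

variable {S : Scheme.{u}}

/-- the morphism of sheaves of an equivalence is an isomorphism -/
theorem isIso_spMapOf {X Y : AlgSp.Sp S} (μ : AlgSt.ofSp X ⥤ᵇ AlgSt.ofSp Y)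
    (hμ : FibCat.IsEquivOver μ) : IsIso (spMapOf μ) := by
  have hiso : IsIso (pshMapOf μ) := isIso_pshMapOf μ hμ
  refine ⟨⟨ObjectProperty.homMk (inv (pshMapOf μ)), ?_, ?_⟩⟩
  · apply ObjectProperty.hom_ext; exact IsIso.hom_inv_id (pshMapOf μ)
  · apply ObjectProperty.hom_ext; exact IsIso.inv_hom_id (pshMapOf μ)

/-- **Forward bridge with both projections**: a pullback square of sheaves over `h_V` whose legs
are the projections of two categories represented by sheaves gives their 2-fibre product. -/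
theorem exists_equiv_fp_pair {𝒢 ℱ : AlgSt.Cat S} {V : Over S} (pr : 𝒢 ⥤ᵇ FibCat.overCat V)
    (q : ℱ ⥤ᵇ FibCat.overCat V) (G F : AlgSp.Sp S)
    (eG : AlgSt.ofSp G ⥤ᵇ 𝒢) (heG : FibCat.IsEquivOver eG)
    (eF : AlgSt.ofSp F ⥤ᵇ ℱ) (heF : FibCat.IsEquivOver eF)
    {A : AlgSp.Sp S} (a : A ⟶ F) (b : A ⟶ G)
    (sq : IsPullback a b (AlgSt.spMapOfOver (BasedFunctor.comp eF q))
      (AlgSt.spMapOfOver (BasedFunctor.comp eG pr))) :
    ∃ D : AlgSt.ofSp A ⥤ᵇ FibCat.fp pr q, FibCat.IsEquivOver D ∧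
      BasedFunctor.comp D (FibCat.fpFst pr q) = BasedFunctor.comp (AlgSt.ofSpMap b) eG ∧
      BasedFunctor.comp D (FibCat.fpSnd pr q) = BasedFunctor.comp (AlgSt.ofSpMap a) eF := by
  obtain ⟨p, hp⟩ : ∃ p, p = AlgSt.spMapOfOver (BasedFunctor.comp eF q) := ⟨_, rfl⟩
  obtain ⟨g, hg⟩ : ∃ g, g = AlgSt.spMapOfOver (BasedFunctor.comp eG pr) := ⟨_, rfl⟩
  rw [← hp, ← hg] at sq
  obtain ⟨ιF⟩ := projIso (BasedFunctor.comp eF q)
  rw [← hp] at ιF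
  obtain ⟨ιG⟩ := projIso (BasedFunctor.comp eG pr)
  rw [← hg] at ιG
  have sq' : IsPullback a.hom b.hom p.hom g.hom :=
    sq.map (sheafToPresheaf (AlgSp.J S) (Type (u + 1)))
  have h1 : FibCat.IsEquivOver (FibCat.fpLift (Stk.ofPshMap b.hom) (Stk.ofPshMap a.hom)
      (sqE sq'.w)) := isTwoCartOver_of_isPullback sq'
  obtain ⟨tU, htU⟩ : ∃ tU : AlgSt.ofSp ((AlgSp.yon S).obj V) ⥤ᵇ FibCat.overCat V,
    tU = RepBridge.toOver V := ⟨_, rfl⟩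
  have htUe : FibCat.IsEquivOver tU := htU ▸ isEquivOver_toOver V
  have hfull : tU.toFunctor.Full := ((X5139 _).1 htUe).1.1
  have hfaith : tU.toFunctor.Faithful := ((X5139 _).1 htUe).1.2
  let α : BasedFunctor.comp (AlgSt.ofSpMap g) tU ≅ BasedFunctor.comp eG pr := htU ▸ ιG.symm
  let β : BasedFunctor.comp (AlgSt.ofSpMap p) tU ≅ BasedFunctor.comp eF q := htU ▸ ιF.symm
  let M := fpMap (F' := AlgSt.ofSpMap g) (G' := AlgSt.ofSpMap p) (F := pr) (G := q) eG eF tU α β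
  have hM : FibCat.IsEquivOver M := isEquivOver_fpMap _ _ _ α β heG heF
  refine ⟨BasedFunctor.comp (FibCat.fpLift (Stk.ofPshMap b.hom) (Stk.ofPshMap a.hom)
    (sqE sq'.w)) M, isEquivOver_comp _ _ h1 hM, ?_, ?_⟩
  · apply basedFunctor_ext
    rfl
  · apply basedFunctor_ext
    rfl

variable {𝒳 𝒴 : AlgSt.Cat S} {V : Over S} (y : FibCat.overCat V ⥤ᵇ 𝒴) (f : 𝒳 ⥤ᵇ 𝒴)

/-- the morphism `𝒢 ×_𝒴 𝒳 ⟶ V ×_𝒴 𝒳` induced by `c : 𝒢 ⟶ V` -/
def lam {𝒢 : AlgSt.Cat S} (c : 𝒢 ⥤ᵇ FibCat.overCat V) :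
    FibCat.fp (BasedFunctor.comp c y) f ⥤ᵇ FibCat.fp y f :=
  fpMap (F' := BasedFunctor.comp c y) (G' := f) (F := y) (G := f) c (BasedFunctor.id 𝒳)
    (BasedFunctor.id 𝒴) (Iso.refl _) (idSq f)

/-- pointwise: `𝒢 ×_V (V ×_𝒴 𝒳) ≃ 𝒢 ×_𝒴 𝒳 ⟶ V ×_𝒴 𝒳` is the second projection -/
lemma pw_pasteL {𝒢 : AlgSt.Cat S} (c : 𝒢 ⥤ᵇ FibCat.overCat V)
    (X : (FibCat.fp c (FibCat.fpFst y f)).obj) :
    Nonempty ((BasedFunctor.comp (pasteL c y f) (lam y f c)).obj X ⟶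
      (FibCat.fpSnd c (FibCat.fpFst y f)).obj X) := by
  refine ⟨fpHomMk (X := (BasedFunctor.comp (pasteL c y f) (lam y f c)).obj X)
    (Y := (FibCat.fpSnd c (FibCat.fpFst y f)).obj X) X.obj.iso.hom (𝟙 _) ?_⟩
  show y.map X.obj.iso.hom ≫ X.obj.snd.obj.iso.hom =
    (𝟙 _ ≫ (y.map X.obj.iso.hom ≫ X.obj.snd.obj.iso.hom) ≫ 𝟙 _) ≫ f.map (𝟙 _)
  simp

/-- `F ×_𝒳 F ⟶ V ×_𝒴 V` (with `F = V ×_𝒴 𝒳`) -/
def uu : FibCat.fp (FibCat.fpSnd y f) (FibCat.fpSnd y f) ⥤ᵇ FibCat.fp y y :=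
  FibCat.fpLift
    (BasedFunctor.comp (FibCat.fpFst (FibCat.fpSnd y f) (FibCat.fpSnd y f)) (FibCat.fpFst y f))
    (BasedFunctor.comp (FibCat.fpSnd (FibCat.fpSnd y f) (FibCat.fpSnd y f)) (FibCat.fpFst y f))
    ((whiskerL (FibCat.fpFst (FibCat.fpSnd y f) (FibCat.fpSnd y f)) (FibCat.fpIso y f) :
        BasedFunctor.comp (BasedFunctor.comp (FibCat.fpFst (FibCat.fpSnd y f) (FibCat.fpSnd y f))
          (FibCat.fpFst y f)) y ≅
        BasedFunctor.comp (BasedFunctor.comp (FibCat.fpFst (FibCat.fpSnd y f) (FibCat.fpSnd y f))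
          (FibCat.fpSnd y f)) f) ≪≫
      whiskerR (FibCat.fpIso (FibCat.fpSnd y f) (FibCat.fpSnd y f)) f ≪≫
      (whiskerL (FibCat.fpSnd (FibCat.fpSnd y f) (FibCat.fpSnd y f)) (FibCat.fpIso y f).symm :
        BasedFunctor.comp (BasedFunctor.comp (FibCat.fpSnd (FibCat.fpSnd y f) (FibCat.fpSnd y f))
          (FibCat.fpSnd y f)) f ≅
        BasedFunctor.comp (BasedFunctor.comp (FibCat.fpSnd (FibCat.fpSnd y f) (FibCat.fpSnd y f))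
          (FibCat.fpFst y f)) y))

lemma uu_iso_hom (X : (FibCat.fp (FibCat.fpSnd y f) (FibCat.fpSnd y f)).obj) :
    ((uu y f).obj X).obj.iso.hom =
      X.obj.fst.obj.iso.hom ≫ f.map X.obj.iso.hom ≫ X.obj.snd.obj.iso.inv := rfl

/-- `F ×_𝒳 F ⟶ (V ×_𝒴 V) ×_{pr₁, 𝒴} 𝒳` -/
def omg : FibCat.fp (FibCat.fpSnd y f) (FibCat.fpSnd y f) ⥤ᵇ
    FibCat.fp (BasedFunctor.comp (FibCat.fpFst y y) y) f :=
  FibCat.fpLift (uu y f)
    (BasedFunctor.comp (FibCat.fpFst (FibCat.fpSnd y f) (FibCat.fpSnd y f)) (FibCat.fpSnd y f))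
    (whiskerL (FibCat.fpFst (FibCat.fpSnd y f) (FibCat.fpSnd y f)) (FibCat.fpIso y f) :
      BasedFunctor.comp (uu y f) (BasedFunctor.comp (FibCat.fpFst y y) y) ≅
        BasedFunctor.comp (BasedFunctor.comp (FibCat.fpFst (FibCat.fpSnd y f) (FibCat.fpSnd y f))
          (FibCat.fpSnd y f)) f)

lemma omg_iso_hom (X : (FibCat.fp (FibCat.fpSnd y f) (FibCat.fpSnd y f)).obj) :
    ((omg y f).obj X).obj.iso.hom = X.obj.fst.obj.iso.hom := rfl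

/-- the change of projection `(V ×_𝒴 V) ×_{pr₁, 𝒴} 𝒳 ⟶ (V ×_𝒴 V) ×_{pr₂, 𝒴} 𝒳` -/
def nn : FibCat.fp (BasedFunctor.comp (FibCat.fpFst y y) y) f ⥤ᵇ
    FibCat.fp (BasedFunctor.comp (FibCat.fpSnd y y) y) f :=
  fpMap (F' := BasedFunctor.comp (FibCat.fpFst y y) y) (G' := f)
    (F := BasedFunctor.comp (FibCat.fpSnd y y) y) (G := f) (BasedFunctor.id _) (BasedFunctor.id 𝒳)
    (BasedFunctor.id 𝒴)
    (FibCat.fpIso y y : BasedFunctor.comp (BasedFunctor.comp (FibCat.fpFst y y) y)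
      (BasedFunctor.id 𝒴) ≅ BasedFunctor.comp (BasedFunctor.id _)
        (BasedFunctor.comp (FibCat.fpSnd y y) y)) (idSq f)

theorem isEquivOver_nn : FibCat.IsEquivOver (nn y f) := by
  have : (BasedFunctor.id 𝒴).toFunctor.Full := Functor.Full.id
  have : (BasedFunctor.id 𝒴).toFunctor.Faithful := Functor.Faithful.id
  exact isEquivOver_fpMap _ _ _ _ _ isEquivOver_id isEquivOver_id

lemma nn_comp_fpFst : BasedFunctor.comp (nn y f) (FibCat.fpFst _ f) = FibCat.fpFst _ f := by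
  apply basedFunctor_ext
  rfl

/-- pointwise: first projection -/
lemma pw_a (X : (FibCat.fp (FibCat.fpSnd y f) (FibCat.fpSnd y f)).obj) :
    Nonempty ((BasedFunctor.comp (omg y f) (lam y f (FibCat.fpFst y y))).obj X ⟶
      (FibCat.fpFst (FibCat.fpSnd y f) (FibCat.fpSnd y f)).obj X) := by
  refine ⟨fpHomMk (X := (BasedFunctor.comp (omg y f) (lam y f (FibCat.fpFst y y))).obj X)
    (Y := (FibCat.fpFst (FibCat.fpSnd y f) (FibCat.fpSnd y f)).obj X) (𝟙 _) (𝟙 _) ?_⟩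
  show y.map (𝟙 _) ≫ X.obj.fst.obj.iso.hom =
    (𝟙 _ ≫ X.obj.fst.obj.iso.hom ≫ 𝟙 _) ≫ f.map (𝟙 _)
  simp

/-- pointwise: second projection -/
lemma pw_b (X : (FibCat.fp (FibCat.fpSnd y f) (FibCat.fpSnd y f)).obj) :
    Nonempty ((BasedFunctor.comp (omg y f)
        (BasedFunctor.comp (nn y f) (lam y f (FibCat.fpSnd y y)))).obj X ⟶
      (FibCat.fpSnd (FibCat.fpSnd y f) (FibCat.fpSnd y f)).obj X) := by
  refine ⟨fpHomMk (X := (BasedFunctor.comp (omg y f)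
      (BasedFunctor.comp (nn y f) (lam y f (FibCat.fpSnd y y)))).obj X)
    (Y := (FibCat.fpSnd (FibCat.fpSnd y f) (FibCat.fpSnd y f)).obj X) (𝟙 _) X.obj.iso.hom ?_⟩
  show y.map (𝟙 _) ≫ X.obj.snd.obj.iso.hom =
    (𝟙 _ ≫ (((uu y f).obj X).obj.iso.inv ≫ X.obj.fst.obj.iso.hom ≫ 𝟙 _) ≫ 𝟙 _) ≫
      f.map X.obj.iso.hom
  have key : ∀ {a b c d : 𝒴.obj} (β : a ⟶ b) (fl : b ⟶ c) (β' : d ≅ c) (ui : a ≅ d) (m : d ⟶ d)
      (_ : m = 𝟙 d) (_ : ui.hom = β ≫ fl ≫ β'.inv),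
      m ≫ β'.hom = (𝟙 _ ≫ (ui.inv ≫ β ≫ 𝟙 _) ≫ 𝟙 _) ≫ fl := by
    intro a b c d β fl β' ui m hm hu
    subst hm
    simp only [Category.id_comp, Category.comp_id, Category.assoc]
    rw [Iso.eq_inv_comp, hu]
    simp
  exact key X.obj.fst.obj.iso.hom (f.map X.obj.iso.hom) X.obj.snd.obj.iso
    ((uu y f).obj X).obj.iso (y.map (𝟙 _)) (y.toFunctor.map_id _) (uu_iso_hom y f X)

/-- **The canonical descent datum**, with the surjectivity on points of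
`F ×_{V, π₁} G₂ ⟶ F ×_𝒳 F`. -/
theorem exists_theta (h𝒳 : FibCat.IsFibGrpd 𝒳.p) (h𝒴 : FibCat.IsFibGrpd 𝒴.p)
    (F : AlgSp.Space S) (e : AlgSt.ofSp F.obj ⥤ᵇ FibCat.fp y f) (he : FibCat.IsEquivOver e)
    (G₂ : AlgSp.Space S) (e₂ : AlgSt.ofSp G₂.obj ⥤ᵇ FibCat.fp y y) (he₂ : FibCat.IsEquivOver e₂)
    {A₁ A₂ : AlgSp.Sp S} (a₁ : A₁ ⟶ F.obj) (b₁ : A₁ ⟶ G₂.obj) (a₂ : A₂ ⟶ F.obj)
    (b₂ : A₂ ⟶ G₂.obj)
    (sq₁ : IsPullback a₁ b₁ (AlgSt.spMapOfOver (BasedFunctor.comp e (FibCat.fpFst y f)))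
      (AlgSt.spMapOfOver (BasedFunctor.comp e₂ (FibCat.fpFst y y))))
    (sq₂ : IsPullback a₂ b₂ (AlgSt.spMapOfOver (BasedFunctor.comp e (FibCat.fpFst y f)))
      (AlgSt.spMapOfOver (BasedFunctor.comp e₂ (FibCat.fpSnd y y)))) :
    ∃ θ : A₁ ⟶ A₂, IsIso θ ∧ θ ≫ b₂ = b₁ ∧
      ∀ g g' : AlgSt.Points (AlgSt.ofSp F.obj),
        AlgSt.Points.map (BasedFunctor.comp e (FibCat.fpSnd y f)) g =
          AlgSt.Points.map (BasedFunctor.comp e (FibCat.fpSnd y f)) g' →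
        ∃ r : AlgSt.Points (AlgSt.ofSp A₁), AlgSt.Points.map (AlgSt.ofSpMap a₁) r = g ∧
          AlgSt.Points.map (AlgSt.ofSpMap (θ ≫ a₂)) r = g' := by
  obtain ⟨D₁, hD₁, hD₁f, hD₁s⟩ := exists_equiv_fp_pair (FibCat.fpFst y y) (FibCat.fpFst y f)
    G₂.obj F.obj e₂ he₂ e he a₁ b₁ sq₁
  obtain ⟨D₂, hD₂, hD₂f, hD₂s⟩ := exists_equiv_fp_pair (FibCat.fpSnd y y) (FibCat.fpFst y f)
    G₂.obj F.obj e₂ he₂ e he a₂ b₂ sq₂
  obtain ⟨Z₁, hZ₁def⟩ : ∃ Z₁ : AlgSt.ofSp A₁ ⥤ᵇ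
      FibCat.fp (BasedFunctor.comp (FibCat.fpFst y y) y) f,
      Z₁ = BasedFunctor.comp D₁ (pasteL (FibCat.fpFst y y) y f) := ⟨_, rfl⟩
  obtain ⟨Z₂, hZ₂def⟩ : ∃ Z₂ : AlgSt.ofSp A₂ ⥤ᵇ
      FibCat.fp (BasedFunctor.comp (FibCat.fpSnd y y) y) f,
      Z₂ = BasedFunctor.comp D₂ (pasteL (FibCat.fpSnd y y) y f) := ⟨_, rfl⟩
  have hZ₁ : FibCat.IsEquivOver Z₁ := by
    rw [hZ₁def]; exact isEquivOver_comp _ _ hD₁ (isEquivOver_pasteL _ y f)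
  have hZ₂ : FibCat.IsEquivOver Z₂ := by
    rw [hZ₂def]; exact isEquivOver_comp _ _ hD₂ (isEquivOver_pasteL _ y f)
  have hZ₁f : BasedFunctor.comp Z₁ (FibCat.fpFst _ f) = BasedFunctor.comp (AlgSt.ofSpMap b₁) e₂ := by
    have : BasedFunctor.comp Z₁ (FibCat.fpFst _ f) =
        BasedFunctor.comp D₁ (BasedFunctor.comp (pasteL (FibCat.fpFst y y) y f)
          (FibCat.fpFst _ f)) := by rw [hZ₁def]; rfl
    rw [this, pasteL_comp_fpFst, hD₁f]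
  have hZ₂f : BasedFunctor.comp Z₂ (FibCat.fpFst _ f) = BasedFunctor.comp (AlgSt.ofSpMap b₂) e₂ := by
    have : BasedFunctor.comp Z₂ (FibCat.fpFst _ f) =
        BasedFunctor.comp D₂ (BasedFunctor.comp (pasteL (FibCat.fpSnd y y) y f)
          (FibCat.fpFst _ f)) := by rw [hZ₂def]; rfl
    rw [this, pasteL_comp_fpFst, hD₂f]
  obtain ⟨Z₂', hZ₂', -, ⟨η₂⟩⟩ := isEquivOver_symm hZ₂
  obtain ⟨Θ, hΘdef⟩ : ∃ Θ : AlgSt.ofSp A₁ ⥤ᵇ AlgSt.ofSp A₂,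
      Θ = BasedFunctor.comp Z₁ (BasedFunctor.comp (nn y f) Z₂') := ⟨_, rfl⟩
  have hΘ : FibCat.IsEquivOver Θ := by
    rw [hΘdef]
    exact isEquivOver_comp _ _ hZ₁ (isEquivOver_comp _ _ (isEquivOver_nn y f) hZ₂')
  obtain ⟨σ⟩ := spMapOf_iso Θ
  obtain ⟨θ, hθdef⟩ : ∃ θ : A₁ ⟶ A₂, θ = spMapOf Θ := ⟨_, rfl⟩
  rw [← hθdef] at σ
  have κ : BasedFunctor.comp (AlgSt.ofSpMap θ) Z₂ ≅ BasedFunctor.comp Z₁ (nn y f) := by
    have k1 : BasedFunctor.comp (AlgSt.ofSpMap θ) Z₂ ≅ BasedFunctor.comp Θ Z₂ := whiskerR σ.symm Z₂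
    have k2 : BasedFunctor.comp Θ Z₂ ≅
        BasedFunctor.comp (BasedFunctor.comp Z₁ (nn y f)) (BasedFunctor.id _) := by
      rw [hΘdef]
      exact whiskerL (BasedFunctor.comp Z₁ (nn y f)) η₂
    exact k1 ≪≫ k2
  refine ⟨θ, hθdef ▸ isIso_spMapOf Θ hΘ, ?_, ?_⟩
  · -- over `G₂`
    have h2 : BasedFunctor.comp (BasedFunctor.comp Z₁ (nn y f)) (FibCat.fpFst _ f) =
        BasedFunctor.comp (AlgSt.ofSpMap b₁) e₂ := by
      have : BasedFunctor.comp (BasedFunctor.comp Z₁ (nn y f)) (FibCat.fpFst _ f) =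
          BasedFunctor.comp Z₁ (BasedFunctor.comp (nn y f) (FibCat.fpFst _ f)) := rfl
      rw [this, nn_comp_fpFst, hZ₁f]
    have i : BasedFunctor.comp (AlgSt.ofSpMap (θ ≫ b₂)) e₂ ≅
        BasedFunctor.comp (AlgSt.ofSpMap b₁) e₂ := by
      have i1 : BasedFunctor.comp (AlgSt.ofSpMap (θ ≫ b₂)) e₂ ≅
          BasedFunctor.comp (AlgSt.ofSpMap θ) (BasedFunctor.comp Z₂ (FibCat.fpFst _ f)) :=
        whiskerL (AlgSt.ofSpMap θ) (eqToIso hZ₂f).symm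
      have i2 : BasedFunctor.comp (AlgSt.ofSpMap θ) (BasedFunctor.comp Z₂ (FibCat.fpFst _ f)) ≅
          BasedFunctor.comp (BasedFunctor.comp Z₁ (nn y f)) (FibCat.fpFst _ f) :=
        whiskerR κ (FibCat.fpFst _ f)
      exact i1 ≪≫ i2 ≪≫ eqToIso h2
    obtain ⟨e₂', -, ⟨μ₁⟩, -⟩ := isEquivOver_symm he₂
    have j : AlgSt.ofSpMap (θ ≫ b₂) ≅ AlgSt.ofSpMap b₁ := by
      have j1 : AlgSt.ofSpMap (θ ≫ b₂) ≅
          BasedFunctor.comp (BasedFunctor.comp (AlgSt.ofSpMap (θ ≫ b₂)) e₂) e₂' :=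
        whiskerL (AlgSt.ofSpMap (θ ≫ b₂)) μ₁.symm
      have j2 : BasedFunctor.comp (BasedFunctor.comp (AlgSt.ofSpMap b₁) e₂) e₂' ≅
          AlgSt.ofSpMap b₁ := whiskerL (AlgSt.ofSpMap b₁) μ₁
      exact j1 ≪≫ whiskerR i e₂' ≪≫ j2
    have := spMapOf_congr j
    rwa [spMapOf_ofSpMap, spMapOf_ofSpMap] at this
  · intro g g' hgg
    have gF : FibCat.IsFibGrpd (FibCat.fp y f).p := X6401 y f (isFibGrpd_overCat V) h𝒳 h𝒴
    have hs : AlgSt.Points.map (FibCat.fpSnd y f) (AlgSt.Points.map e g) =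
        AlgSt.Points.map (FibCat.fpSnd y f) (AlgSt.Points.map e g') := by
      rw [← points_map_comp, ← points_map_comp]; exact hgg
    obtain ⟨ρ, hρ1, hρ2⟩ := exists_point_fp gF h𝒳 gF (FibCat.fpSnd y f) (FibCat.fpSnd y f)
      (AlgSt.Points.map e g) (AlgSt.Points.map e g') hs
    obtain ⟨r, hr⟩ := isSurjective_of_isEquivOver Z₁ hZ₁ (AlgSt.Points.map (omg y f) ρ)
    have hrD : AlgSt.Points.map (pasteL (FibCat.fpFst y y) y f) (AlgSt.Points.map D₁ r) =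
        AlgSt.Points.map (omg y f) ρ := by
      rw [← points_map_comp, ← hZ₁def]; exact hr
    refine ⟨r, ?_, ?_⟩
    · apply points_map_injective_of_isEquivOver e he
      rw [← hρ1, ← points_map_comp, ← hD₁s, points_map_comp,
        ← points_map_eq_of_pointwise _ _ (pw_pasteL y f (FibCat.fpFst y y)) (AlgSt.Points.map D₁ r),
        points_map_comp, hrD, ← points_map_comp]
      exact points_map_eq_of_pointwise _ _ (pw_a y f) ρ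
    · apply points_map_injective_of_isEquivOver e he
      have e1 : BasedFunctor.comp (AlgSt.ofSpMap (θ ≫ a₂)) e =
          BasedFunctor.comp (AlgSt.ofSpMap θ) (BasedFunctor.comp D₂ (FibCat.fpSnd _ _)) := by
        rw [hD₂s]; rfl
      have hrD2 : AlgSt.Points.map (pasteL (FibCat.fpSnd y y) y f)
          (AlgSt.Points.map D₂ (AlgSt.Points.map (AlgSt.ofSpMap θ) r)) =
          AlgSt.Points.map (nn y f) (AlgSt.Points.map (omg y f) ρ) := by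
        rw [← points_map_comp D₂, ← hZ₂def, ← points_map_comp (AlgSt.ofSpMap θ) Z₂,
          points_map_congr κ, points_map_comp Z₁ (nn y f), hr]
      rw [← hρ2, ← points_map_comp, e1, points_map_comp, points_map_comp,
        ← points_map_eq_of_pointwise _ _ (pw_pasteL y f (FibCat.fpSnd y y))
          (AlgSt.Points.map D₂ (AlgSt.Points.map (AlgSt.ofSpMap θ) r)),
        points_map_comp, hrD2, ← points_map_comp, ← points_map_comp]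
      exact points_map_eq_of_pointwise _ _ (pw_b y f) ρ

end Groth.Agent.H3.SatDesc
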