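import Mathlib
import Groth.Agent.Lib.Helper3.SatDesc
import Groth.Agent.Lib.Helper3.StackMore
import Groth.Agent.Lib.Helper3.RepFaithful
import Groth.Agent.Lib.Helper3.GerbSec.Chart
import Groth.Agent.Lib.Helper3.GerbSec.Crit
import Groth.Agent.Lib.Helper3.AlgSt.QCMor
import Groth.Agent.Lib.Helper3.AlgSt.Descent
import Groth.Agent.Lib.Helper3.AlgSt.LocEssSurj
import Groth.Agent.Lib.Helper3.AlgSt.BaseChangeSp
import Groth.Agent.Lib.Helper3.AlgSt.PropFacts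
import Groth.Agent.Lib.Helper3.AlgSt.Points.Homeo
import Groth.Agent.Lib.Helper5.Descent.ImmersionDescent
import Groth.Agent.Lib.Helper5.AlgSp.RepOver

/-!
# Immersions of algebraic stacks can be checked after a flat cover (helper3)

S12873, S12874, S12875: for `f : 𝒳 ⟶ 𝒴` and a flat, locally finitely presented, surjective
`w : W ⟶ 𝒴` from an algebraic space, `f` is an (open, closed) immersion iff `W ×_𝒴 𝒳 ⟶ W` is one.
-/

set_option autoImplicit false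
universe u
open CategoryTheory CategoryTheory.Functor CategoryTheory.Limits Opposite AlgebraicGeometry

noncomputable section

namespace Groth.Agent.H3.ImmCover

open Groth.Agent.H3.FibCatAux Groth.Agent.H3.GerbAux Groth.Agent.H3.FpCalc Groth.Agent.H3.TwoCart
  Groth.Agent.H3.StackPsh Groth.Agent.H3.PshBridge Groth.Agent.H3.AlgStAux Groth.Agent.H3.RepBridge
  Groth.Agent.H3.SetoidPsh Groth.Agent.H3.BaseChangeSp Groth.Agent.H3.AlgStComp
  Groth.Agent.H3.AlgStProps Groth.Agent.H3.AlgStBridge2 Groth.Agent.H3.AlgStCharts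
  Groth.Agent.H3.AlgStDescent Groth.Agent.H3.Whisker Groth.Agent.H3.AlgStLES
  Groth.Agent.H3.FPtRel Groth.Agent.H3.AlgStStackRep Groth.Agent.H3.TwoYoneda
  Groth.Agent.H3.AlgStPoints Groth.Agent.H3.AlgStLocQ Groth.Agent.H3.SatDesc
open AlgSp

variable {S : Scheme.{u}}

/-- a morphism of sheaves all of whose base changes to schemes are representable with `P₀` is
representable with `P₀` (no hypothesis on the source) -/
theorem repWith_of_repBySpWith (P₀ : MorphismProperty Scheme.{u}) [P₀.IsStableUnderBaseChange]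
    {X Y : Sp S} (b : X ⟶ Y) (h : RepBySpWith (RepWith P₀) b.hom) : RepWith P₀ b := by
  have h' := (repBySpWith_hom_iff (RepWith P₀) b).1 h
  have hrep : Representable b := by
    intro T ξ
    have sq := IsPullback.of_hasPullback b ξ
    obtain ⟨-, h2⟩ := h' ξ _ _ sq
    obtain ⟨V, snd, fst, sq'⟩ := h2.rep (𝟙 _)
    refine ⟨V, snd, fst ≫ pullback.fst b ξ, ?_⟩
    have sq2 := sq'.paste_horiz sq
    rw [Category.id_comp] at sq2
    exact sq2
  refine ⟨hrep, ?_⟩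
  intro T V ξ fst snd sq
  obtain ⟨-, h2⟩ := h' ξ fst ((yon S).map snd) sq
  exact h2.property (𝟙 _) (𝟙 _) snd (IsPullback.of_horiz_isIso ⟨by simp⟩)

/-- a functor out of a category fibred in setoids is faithful -/
lemma faithful_of_isFibSetoid {𝒜 ℬ : AlgSt.Cat S} (hs : FibCat.IsFibSetoid 𝒜.p) (G : 𝒜 ⥤ᵇ ℬ) :
    G.toFunctor.Faithful := by
  constructor
  intro a b t₁ t₂ hG
  have i2 : 𝒜.p.IsHomLift (𝒜.p.map t₂) t₂ := IsHomLift.map 𝒜.p t₂
  have i1 : 𝒜.p.IsHomLift (𝒜.p.map t₂) t₁ := by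
    have : ℬ.p.IsHomLift (𝒜.p.map t₂) (G.map t₁) := by
      change ℬ.p.IsHomLift (𝒜.p.map t₂) (G.toFunctor.map t₁)
      rw [hG]; infer_instance
    exact BasedFunctor.isHomLift_map G (𝒜.p.map t₂) t₁
  exact hom_eq_of_isFibSetoid 𝒜.p hs (𝒜.p.map t₂) t₁ t₂

/-- `exists_equiv_fp_pair` with the two morphisms of sheaves as variables -/
theorem exists_equiv_fp_pair' {𝒢 ℱ : AlgSt.Cat S} {V : Over S} (pr : 𝒢 ⥤ᵇ FibCat.overCat V)
    (q : ℱ ⥤ᵇ FibCat.overCat V) (G F : Sp S)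
    (eG : AlgSt.ofSp G ⥤ᵇ 𝒢) (heG : FibCat.IsEquivOver eG)
    (eF : AlgSt.ofSp F ⥤ᵇ ℱ) (heF : FibCat.IsEquivOver eF)
    (p : F ⟶ (yon S).obj V) (hp : p = AlgSt.spMapOfOver (BasedFunctor.comp eF q))
    (g : G ⟶ (yon S).obj V) (hg : g = AlgSt.spMapOfOver (BasedFunctor.comp eG pr))
    {A : Sp S} (a : A ⟶ F) (b : A ⟶ G) (sq : IsPullback a b p g) :
    ∃ D : AlgSt.ofSp A ⥤ᵇ FibCat.fp pr q, FibCat.IsEquivOver D ∧
      BasedFunctor.comp D (FibCat.fpFst pr q) = BasedFunctor.comp (AlgSt.ofSpMap b) eG ∧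
      BasedFunctor.comp D (FibCat.fpSnd pr q) = BasedFunctor.comp (AlgSt.ofSpMap a) eF := by
  subst hp hg
  exact exists_equiv_fp_pair pr q G F eG heG eF heF a b sq

variable {𝒳 𝒴 : AlgSt.Cat S}

/-- **Descent of "representable with `P₀`" along a flat cover by an algebraic space**, for
properties `P₀` of morphisms of schemes which descend along fppf covers of sheaves (so that no
representability of `f` has to be known beforehand). -/
theorem rep_of_cover (P₀ : MorphismProperty Scheme.{u}) [P₀.IsStableUnderBaseChange]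
    [P₀.IsMultiplicative]
    (hdesc : ∀ ⦃F G H P : Sp S⦄ (f : F ⟶ G) (b : H ⟶ G) (fst : P ⟶ F) (snd : P ⟶ H),
      RepWith @Flat b → RepWith @LocallyOfFinitePresentation b → RepWith @Surjective b →
      IsPullback fst snd f b → RepWith P₀ snd → RepWith P₀ f)
    (h𝒳 : AlgSt.IsAlgStack Scheme.fppfPrecoverage 𝒳)
    (h𝒴 : AlgSt.IsAlgStack Scheme.fppfPrecoverage 𝒴) (f : 𝒳 ⥤ᵇ 𝒴) (W : Space S)
    (w : AlgSt.ofSp W.obj ⥤ᵇ 𝒴) (hw₁ : AlgSt.RepByAlgSpWith (LocP @Flat) w)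
    (hw₂ : AlgSt.RepByAlgSpWith (LocP @LocallyOfFinitePresentation) w)
    (hw₃ : AlgSt.RepByAlgSpWith IsSurjectiveMor w)
    (V : Space S) (a : V ⟶ W) (eV : AlgSt.ofSp V.obj ⥤ᵇ FibCat.fp w f)
    (heV : FibCat.IsEquivOver eV)
    (ιa : BasedFunctor.comp eV (FibCat.fpFst w f) ≅ AlgSt.ofSpMap a.hom)
    (ha : RepWith P₀ a.hom) : AlgSt.RepByAlgSpWith (RepWith P₀) f := by
  have g𝒳 := h𝒳.isStack.1
  have g𝒴 := h𝒴.isStack.1
  have hG : GoodC (RepWith (S := S) P₀) := goodC_repWith P₀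
  have hL : LES w := les_of_fppf w hw₁ hw₂ hw₃
  -- `f` is faithful
  have hsW : FibCat.IsFibSetoid (FibCat.fp w f).p :=
    Groth.Agent.H3.RepFaithful.isFibSetoid_of_repByAlgSp ⟨V, eV, heV⟩
  have hfaithW : (FibCat.fpFst w f).toFunctor.Faithful := faithful_of_isFibSetoid hsW _
  have hff : f.toFunctor.Faithful :=
    Groth.Agent.H3.StackMore.faithful_of_fpFst_faithful (AlgSp.J S) g𝒴
      (Groth.Agent.H3.StackMore.isPrestack_of_isStack _ h𝒳.isStack) w f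
      (Groth.Agent.H3.GerbSec.locSurjObj_of_les g𝒴 w hL) hfaithW
  -- the base change of `f` to `W` has `P₀`
  have h3 : AlgSt.RepByAlgSpWith (RepWith P₀) (FibCat.fpFst w f) := by
    have h1 : AlgSt.RepByAlgSpWith (RepWith P₀) (AlgSt.ofSpMap a.hom) :=
      (repByAlgSpWith_ofPshMap_iff _ hG.bc hG.charts V.property W.property a.hom).2 ha
    exact (repByAlgSpWith_comp_equiv_iff _ eV heV _).1 (repByAlgSpWith_of_iso _ ιa.symm h1)
  intro U y
  -- the sheaf of the fibre product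
  have hs : FibCat.IsFibSetoid (FibCat.fp y f).p := by
    have h1 : FibCat.IsFibSetoid (FibCat.fp f y).p :=
      Groth.Agent.H3.StkAux.isFibSetoid_fp_of_faithful g𝒴 g𝒳 (isFibSetoid_overCat U) f y
    have h2 := swap_isTwoCartOver y f
    exact (isFibSetoid_iff_of_isEquivOver _ h2).2 h1
  have hE := isEquivOver_toPsh hs.1 hs
  obtain ⟨E', hE', -, -⟩ := isEquivOver_symm hE
  have hst : Stk.IsStack (AlgSp.J S) (FibCat.fp y f) :=
    Groth.Agent.H3.StackMore.isStack_fp y f _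
      (Groth.Agent.H3.AlgStQCMor.isAlgStack_overCat U).isStack h𝒳.isStack
      (Groth.Agent.H3.StackMore.isPrestack_of_isStack _ h𝒴.isStack)
  have hshT : Presieve.IsSheaf (AlgSp.J S) (psh hs.1) :=
    (isStack_ofPsh_iff (P := psh hs.1) (AlgSp.J S)).1
      ((isStack_iff_of_isEquivOver _ (toPsh hs.1) hE).1 hst)
  have hsh : Presheaf.IsSheaf (AlgSp.J S) (psh hs.1) := (isSheaf_iff_isSheaf_of_type _ _).2 hshT
  let F₀ : Sp S := ⟨psh hs.1, hsh⟩
  let e : AlgSt.ofSp F₀ ⥤ᵇ FibCat.fp y f := E'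
  have he : FibCat.IsEquivOver e := hE'
  obtain ⟨π, hπ⟩ : ∃ π : F₀ ⟶ (yon S).obj U,
      π = AlgSt.spMapOfOver (BasedFunctor.comp e (FibCat.fpFst y f)) := ⟨_, rfl⟩
  -- a single fppf chart of `U` through `w`
  obtain ⟨V', c, z, hc1, hc2, hc3, ⟨ι⟩⟩ := Groth.Agent.H3.GerbSec.exists_single_chart w
    (repByAlgSp1_of_repByAlgSpWith hw₁) hL U y
  -- the base change of `f` to `V'` has `P₀`
  have h7 : AlgSt.RepByAlgSpWith (RepWith P₀)
      (FibCat.fpFst (AlgSt.overMap c) (FibCat.fpFst y f)) := by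
    have h4 : AlgSt.RepByAlgSpWith (RepWith P₀) (FibCat.fpFst z (FibCat.fpFst w f)) :=
      repByAlgSpWith_fpFst _ (FibCat.fpFst w f) z h3
    have h5 : AlgSt.RepByAlgSpWith (RepWith P₀) (FibCat.fpFst (BasedFunctor.comp z w) f) := by
      apply (repByAlgSpWith_comp_equiv_iff _ (pasteL z w f) (isEquivOver_pasteL z w f) _).1
      rw [pasteL_comp_fpFst]
      exact h4
    have h6 : AlgSt.RepByAlgSpWith (RepWith P₀)
        (FibCat.fpFst (BasedFunctor.comp (AlgSt.overMap c) y) f) :=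
      repByAlgSpWith_fpFst_of_iso _ f ι h5
    have := (repByAlgSpWith_comp_equiv_iff _ (pasteL (AlgSt.overMap c) y f)
      (isEquivOver_pasteL (AlgSt.overMap c) y f) _).2 h6
    rw [pasteL_comp_fpFst] at this
    exact this
  -- the pullback of `π` to `V'`
  obtain ⟨b', hb'⟩ : ∃ b' : (yon S).obj V' ⟶ (yon S).obj U,
      b' = AlgSt.spMapOfOver (BasedFunctor.comp (RepBridge.toOver V') (AlgSt.overMap c)) := ⟨_, rfl⟩
  have hb'c : b' = (yon S).map c := by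
    have h2 : AlgSt.spMapOfOver (RepBridge.toOver V') = 𝟙 _ := spMapOfOver_toOverCat V'
    rw [hb', spMapOfOver_comp_overMap, h2, Category.id_comp]
  have sq := IsPullback.of_hasPullback π b'
  obtain ⟨D₁, hD₁, hD₁f, -⟩ := exists_equiv_fp_pair' (AlgSt.overMap c) (FibCat.fpFst y f)
    ((yon S).obj V') F₀ (RepBridge.toOver V') (isEquivOver_toOver V') e he π hπ b' hb'
    (pullback.fst π b') (pullback.snd π b') sq
  have k1 : AlgSt.RepByAlgSpWith (RepWith P₀)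
      (BasedFunctor.comp D₁ (FibCat.fpFst (AlgSt.overMap c) (FibCat.fpFst y f))) :=
    (repByAlgSpWith_comp_equiv_iff _ D₁ hD₁ _).2 h7
  rw [hD₁f] at k1
  have k2 : AlgSt.RepByAlgSpWith (RepWith P₀) (Stk.ofPshMap (pullback.snd π b').hom) := by
    let ε : BasedFunctor.comp (Stk.ofPshMap (pullback.snd π b').hom) (RepBridge.toOver V') ≅
        BasedFunctor.comp (BasedFunctor.id _)
          (BasedFunctor.comp (AlgSt.ofSpMap (pullback.snd π b')) (RepBridge.toOver V')) := Iso.refl _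
    exact repByAlgSpWith_of_square _ _ _ (BasedFunctor.id _) (RepBridge.toOver V') isEquivOver_id
      (isEquivOver_toOver V') ε k1
  have k3 : RepBySpWith (RepWith P₀) (pullback.snd π b').hom :=
    repBySpWith_of_repByAlgSpWith_ofPshMap' (pullback.snd π b').hom _
      (isoCancel_of_baseChangeSp hG.bc) k2
  have k4 : RepWith P₀ (pullback.snd π b') := repWith_of_repBySpWith P₀ _ k3
  -- descent
  have hb1 : RepWith @Flat b' := by
    rw [hb'c, repWith_yon_map_iff]; exact hc1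
  have hb2 : RepWith @LocallyOfFinitePresentation b' := by
    rw [hb'c, repWith_yon_map_iff]; exact hc2
  have hb3 : RepWith @Surjective b' := by
    rw [hb'c, repWith_yon_map_iff]; exact ⟨hc3⟩
  have hπP : RepWith P₀ π := hdesc π b' _ _ hb1 hb2 hb3 sq k4
  have hF₀ : IsAlgSpace F₀ :=
    Groth.Agent.H5.AlgSp.isAlgSpace_of_representable (IsAlgSpace.yon_obj U) π hπP.rep
  refine ⟨⟨F₀, hF₀⟩, e, he, ?_⟩
  rw [← hπ]
  exact hπP

/-- both directions -/
theorem main (P₀ : MorphismProperty Scheme.{u}) [P₀.IsStableUnderBaseChange]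
    [P₀.IsMultiplicative]
    (hdesc : ∀ ⦃F G H P : Sp S⦄ (f : F ⟶ G) (b : H ⟶ G) (fst : P ⟶ F) (snd : P ⟶ H),
      RepWith @Flat b → RepWith @LocallyOfFinitePresentation b → RepWith @Surjective b →
      IsPullback fst snd f b → RepWith P₀ snd → RepWith P₀ f)
    (h𝒳 : AlgSt.IsAlgStack Scheme.fppfPrecoverage 𝒳)
    (h𝒴 : AlgSt.IsAlgStack Scheme.fppfPrecoverage 𝒴) (f : 𝒳 ⥤ᵇ 𝒴) (W : Space S)
    (w : AlgSt.ofSp W.obj ⥤ᵇ 𝒴) (hw₁ : AlgSt.RepByAlgSpWith (LocP @Flat) w)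
    (hw₂ : AlgSt.RepByAlgSpWith (LocP @LocallyOfFinitePresentation) w)
    (hw₃ : AlgSt.RepByAlgSpWith IsSurjectiveMor w) :
    AlgSt.RepByAlgSpWith (RepWith P₀) f ↔
      ∃ (V : Space S) (a : V ⟶ W) (e : AlgSt.ofSp V.obj ⥤ᵇ FibCat.fp w f),
        FibCat.IsEquivOver e ∧
          Nonempty (BasedFunctor.comp e (FibCat.fpFst w f) ≅ AlgSt.ofSpMap a.hom) ∧
            RepWith P₀ a.hom := by
  constructor
  · intro hf
    exact exists_space_of_fp' _ (goodC_repWith P₀).bc (goodC_repWith P₀).charts h𝒳.isStack.1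
      h𝒴.isStack.1 f hf W w
  · rintro ⟨V, a, e, he, ⟨ι⟩, ha⟩
    exact rep_of_cover P₀ hdesc h𝒳 h𝒴 f W w hw₁ hw₂ hw₃ V a e he ι ha

theorem main_imm (h𝒳 : AlgSt.IsAlgStack Scheme.fppfPrecoverage 𝒳)
    (h𝒴 : AlgSt.IsAlgStack Scheme.fppfPrecoverage 𝒴) (f : 𝒳 ⥤ᵇ 𝒴) (W : Space S)
    (w : AlgSt.ofSp W.obj ⥤ᵇ 𝒴) (hw₁ : AlgSt.RepByAlgSpWith (LocP @Flat) w)
    (hw₂ : AlgSt.RepByAlgSpWith (LocP @LocallyOfFinitePresentation) w)
    (hw₃ : AlgSt.RepByAlgSpWith IsSurjectiveMor w) :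
    AlgSt.IsImm f ↔
      ∃ (V : Space S) (a : V ⟶ W) (e : AlgSt.ofSp V.obj ⥤ᵇ FibCat.fp w f),
        FibCat.IsEquivOver e ∧
          Nonempty (BasedFunctor.comp e (FibCat.fpFst w f) ≅ AlgSt.ofSpMap a.hom) ∧
            RepWith @IsImmersion a.hom :=
  main @IsImmersion (fun _ _ _ _ _ _ _ _ h1 h2 h3 sq h' =>
    Groth.Agent.H5.Descent.repWith_isImmersion_of_baseChange h1 h2 h3 sq h')
    h𝒳 h𝒴 f W w hw₁ hw₂ hw₃

theorem main_open (h𝒳 : AlgSt.IsAlgStack Scheme.fppfPrecoverage 𝒳)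
    (h𝒴 : AlgSt.IsAlgStack Scheme.fppfPrecoverage 𝒴) (f : 𝒳 ⥤ᵇ 𝒴) (W : Space S)
    (w : AlgSt.ofSp W.obj ⥤ᵇ 𝒴) (hw₁ : AlgSt.RepByAlgSpWith (LocP @Flat) w)
    (hw₂ : AlgSt.RepByAlgSpWith (LocP @LocallyOfFinitePresentation) w)
    (hw₃ : AlgSt.RepByAlgSpWith IsSurjectiveMor w) :
    AlgSt.IsOpenImm f ↔
      ∃ (V : Space S) (a : V ⟶ W) (e : AlgSt.ofSp V.obj ⥤ᵇ FibCat.fp w f),
        FibCat.IsEquivOver e ∧
          Nonempty (BasedFunctor.comp e (FibCat.fpFst w f) ≅ AlgSt.ofSpMap a.hom) ∧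
            RepWith @IsOpenImmersion a.hom :=
  main @IsOpenImmersion (fun _ _ _ _ _ _ _ _ h1 h2 h3 sq h' =>
    Groth.Agent.H5.Descent.repWith_isOpenImmersion_of_baseChange h1 h2 h3 sq h')
    h𝒳 h𝒴 f W w hw₁ hw₂ hw₃

theorem main_closed (h𝒳 : AlgSt.IsAlgStack Scheme.fppfPrecoverage 𝒳)
    (h𝒴 : AlgSt.IsAlgStack Scheme.fppfPrecoverage 𝒴) (f : 𝒳 ⥤ᵇ 𝒴) (W : Space S)
    (w : AlgSt.ofSp W.obj ⥤ᵇ 𝒴) (hw₁ : AlgSt.RepByAlgSpWith (LocP @Flat) w)
    (hw₂ : AlgSt.RepByAlgSpWith (LocP @LocallyOfFinitePresentation) w)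
    (hw₃ : AlgSt.RepByAlgSpWith IsSurjectiveMor w) :
    AlgSt.IsClosedImm f ↔
      ∃ (V : Space S) (a : V ⟶ W) (e : AlgSt.ofSp V.obj ⥤ᵇ FibCat.fp w f),
        FibCat.IsEquivOver e ∧
          Nonempty (BasedFunctor.comp e (FibCat.fpFst w f) ≅ AlgSt.ofSpMap a.hom) ∧
            RepWith @IsClosedImmersion a.hom :=
  main @IsClosedImmersion (fun _ _ _ _ _ _ _ _ h1 h2 h3 sq h' =>
    Groth.Agent.H5.Descent.repWith_isClosedImmersion_of_baseChange h1 h2 h3 sq h')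
    h𝒳 h𝒴 f W w hw₁ hw₂ hw₃

end Groth.Agent.H3.ImmCover
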