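import Mathlib
import Groth.Prelude.Def_NonAbH2

/-! Pseudo-torsors under infinitesimal group schemes over a field: points over a "separable"
extension descend. -/

universe u

open CategoryTheory CategoryTheory.Limits AlgebraicGeometry Opposite MonObj MonoidalCategory
  CartesianMonoidalCategory

namespace Groth.Agent.H3.InfTors

/-- Ring-level: if `C` has a unique prime and an augmentation `ε : C → K` retracting `s : K → C`,
two ring homs to a reduced ring which agree on `s(K)` are equal. -/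
theorem ringHom_eq_of_subsingleton_primeSpectrum {K C B : Type*} [CommRing K] [Nontrivial K]
    [CommRing C] [CommRing B] [IsReduced B]
    [Subsingleton (PrimeSpectrum C)] (s : K →+* C) (ε : C →+* K) (hε : ∀ x, ε (s x) = x)
    (φ ψ : C →+* B) (h : φ.comp s = ψ.comp s) : φ = ψ := by
  have key : ∀ c, ε c = 0 → IsNilpotent c := by
    intro c hc
    rw [← mem_nilradical, nilradical_eq_sInf, Ideal.mem_sInf]
    intro p hp
    have hker : RingHom.ker ε ≠ ⊤ := RingHom.ker_ne_top ε
    obtain ⟨m, hm, hle⟩ := Ideal.exists_le_maximal _ hker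
    have h1 : (⟨p, hp⟩ : PrimeSpectrum C) = ⟨m, hm.isPrime⟩ := Subsingleton.elim _ _
    have hpm : p = m := congrArg PrimeSpectrum.asIdeal h1
    rw [hpm]
    exact hle hc
  ext c
  have h1 : IsNilpotent (c - s (ε c)) := key _ (by simp [hε])
  have h2 : φ (c - s (ε c)) = 0 := (h1.map φ).eq_zero
  have h3 : ψ (c - s (ε c)) = 0 := (h1.map ψ).eq_zero
  have h4 : φ (s (ε c)) = ψ (s (ε c)) := RingHom.congr_fun h (ε c)
  rw [map_sub, sub_eq_zero] at h2 h3
  rw [h2, h3, h4]

/-- A point of an affine one-point group scheme over a field with values in a reduced scheme is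
trivial. -/
theorem eq_one_of_isReduced (k : Type u) [Field k] (I T : Over (Spec (CommRingCat.of k)))
    [GrpObj I] [IsAffine I.left] [Subsingleton ↥(I.left)] [IsReduced T.left] (g : T ⟶ I) :
    g = 1 := by
  have hsub : Subsingleton (PrimeSpectrum Γ(I.left, ⊤)) := by
    have hinj : Function.Injective (I.left.isoSpec.inv.base) :=
      (I.left.isoSpec.inv.homeomorph).injective
    exact hinj.subsingleton
  have hnt : Nontrivial Γ(Spec (CommRingCat.of k), ⊤) :=
    (Scheme.ΓSpecIso (CommRingCat.of k)).commRingCatIsoToRingEquiv.nontrivial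
  apply Over.OverMorphism.ext
  apply ext_of_isAffine
  apply CommRingCat.hom_ext
  refine ringHom_eq_of_subsingleton_primeSpectrum (K := Γ(Spec (CommRingCat.of k), ⊤))
    I.hom.appTop.hom (η[I].left.appTop.hom) ?_ _ _ ?_
  · intro x
    have h1 : η[I].left ≫ I.hom = 𝟙 _ := Over.w η[I]
    have h2 : I.hom.appTop ≫ η[I].left.appTop = 𝟙 _ := by
      rw [← Scheme.Hom.comp_appTop, h1, Scheme.Hom.id_appTop]
      rfl
    exact congrArg (fun f => f.hom x) h2
  · have h1 : g.left ≫ I.hom = (1 : T ⟶ I).left ≫ I.hom := by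
      rw [Over.w g, Over.w (1 : T ⟶ I)]
    have h2 : I.hom.appTop ≫ g.left.appTop = I.hom.appTop ≫ (1 : T ⟶ I).left.appTop := by
      rw [← Scheme.Hom.comp_appTop, h1, Scheme.Hom.comp_appTop]
    exact congrArg (fun f => f.hom) h2

open TensorProduct in
/-- fpqc descent of a point along a field extension `L/k`. -/
theorem exists_desc_of_eq (k : Type u) [Field k] (L : Type u) [Field L] [Algebra k L]
    {W : Scheme.{u}} (x : Spec (CommRingCat.of L) ⟶ W)
    (hxx : Spec.map (CommRingCat.ofHom (Algebra.TensorProduct.includeLeftRingHom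
        (R := k) (A := L) (B := L))) ≫ x =
      Spec.map (CommRingCat.ofHom (RingHomClass.toRingHom
        (Algebra.TensorProduct.includeRight (R := k) (A := L) (B := L)))) ≫ x) :
    ∃ y : Spec (CommRingCat.of k) ⟶ W, Spec.map (CommRingCat.ofHom (algebraMap k L)) ≫ y = x := by
  have hsurj : Surjective (Spec.map (CommRingCat.ofHom (algebraMap k L))) := by
    constructor
    intro y
    have : Nonempty (Spec (CommRingCat.of L)) := inferInstance
    obtain ⟨z⟩ := this
    exact ⟨z, Subsingleton.elim _ _⟩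
  have hflat : Flat (Spec.map (CommRingCat.ofHom (algebraMap k L))) := inferInstance
  have heff : EffectiveEpi (Spec.map (CommRingCat.ofHom (algebraMap k L))) := inferInstance
  have key : ∀ {Z : Scheme.{u}} (g₁ g₂ : Z ⟶ Spec (CommRingCat.of L)),
      g₁ ≫ Spec.map (CommRingCat.ofHom (algebraMap k L)) =
        g₂ ≫ Spec.map (CommRingCat.ofHom (algebraMap k L)) → g₁ ≫ x = g₂ ≫ x := ?_
  · exact ⟨EffectiveEpi.desc (Spec.map (CommRingCat.ofHom (algebraMap k L))) x key,
      EffectiveEpi.fac _ _ key⟩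
  intro Z g₁ g₂ h
  have h3 : g₁ = (pullback.lift g₁ g₂ h ≫ (pullbackSpecIso k L L).hom) ≫
      Spec.map (CommRingCat.ofHom (Algebra.TensorProduct.includeLeftRingHom
        (R := k) (A := L) (B := L))) := by
    rw [Category.assoc, pullbackSpecIso_hom_fst, pullback.lift_fst]
  have h4 : g₂ = (pullback.lift g₁ g₂ h ≫ (pullbackSpecIso k L L).hom) ≫
      Spec.map (CommRingCat.ofHom (RingHomClass.toRingHom
        (Algebra.TensorProduct.includeRight (R := k) (A := L) (B := L)))) := by
    rw [Category.assoc, pullbackSpecIso_hom_snd, pullback.lift_snd]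
  have e3 := congrArg (· ≫ x) h3
  have e4 := congrArg (· ≫ x) h4
  simp only [Category.assoc] at e3 e4
  rw [e3, e4, hxx]

open TensorProduct in
/-- Main: a pseudo-torsor under an affine one-point group scheme over a field `k` which has a
point over a field `L` with `L ⊗[k] L` reduced has a `k`-point. -/
theorem hasSection_of_pseudoTorsor (k : Type u) [Field k] (L : Type u) [Field L] [Algebra k L]
    [IsReduced (L ⊗[k] L)]
    (I E : Over (Spec (CommRingCat.of k))) [GrpObj I] [IsAffine I.left] [Subsingleton ↥(I.left)]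
    (a : AlgGrp.Action I E) (hE : NonAbH1.IsPseudoTorsorSch a)
    (hL : NonAbH1.HasSectionOver E (Spec.map (CommRingCat.ofHom (algebraMap k L)))) :
    NonAbH1.HasSectionOver E (𝟙 (Spec (CommRingCat.of k))) := by
  obtain ⟨x, hx⟩ := hL
  obtain ⟨f, hf⟩ : ∃ f, f = Spec.map (CommRingCat.ofHom (algebraMap k L)) := ⟨_, rfl⟩
  rw [← hf] at hx
  obtain ⟨i₁, hi₁⟩ : ∃ i₁ : Spec (CommRingCat.of (L ⊗[k] L)) ⟶ Spec (CommRingCat.of L),
    i₁ = Spec.map (CommRingCat.ofHom Algebra.TensorProduct.includeLeftRingHom) := ⟨_, rfl⟩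
  obtain ⟨i₂, hi₂⟩ : ∃ i₂ : Spec (CommRingCat.of (L ⊗[k] L)) ⟶ Spec (CommRingCat.of L),
    i₂ = Spec.map (CommRingCat.ofHom
      (RingHomClass.toRingHom (Algebra.TensorProduct.includeRight (R := k) (A := L) (B := L)))) :=
    ⟨_, rfl⟩
  have hi : i₁ ≫ f = i₂ ≫ f := by
    rw [hi₁, hi₂, hf, ← Spec.map_comp, ← Spec.map_comp]
    congr 1
    ext r
    simp
  obtain ⟨T, hT⟩ : ∃ T : Over (Spec (CommRingCat.of k)), T = Over.mk (i₁ ≫ f) := ⟨_, rfl⟩
  have hTl : T.left = Spec (CommRingCat.of (L ⊗[k] L)) := by rw [hT]; rfl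
  have hred : IsReduced T.left := by
    rw [hTl]; infer_instance
  subst hT
  let e₁ : Over.mk (i₁ ≫ f) ⟶ E := Over.homMk (i₁ ≫ x) (by simp [hx])
  let e₂ : Over.mk (i₁ ≫ f) ⟶ E := Over.homMk (i₂ ≫ x) (by
    rw [Category.assoc, hx]; exact hi.symm)
  have hiso : IsIso (lift a.act (snd I E)) := hE
  obtain ⟨u, hu⟩ : ∃ u : Over.mk (i₁ ≫ f) ⟶ I ⊗ E, u ≫ lift a.act (snd I E) = lift e₁ e₂ :=
    ⟨lift e₁ e₂ ≫ inv (lift a.act (snd I E)), by
      rw [Category.assoc, IsIso.inv_hom_id, Category.comp_id]⟩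
  have hg : u ≫ fst I E = 1 := eq_one_of_isReduced k I _ _
  have h2 : u ≫ snd I E = e₂ := by
    have := congrArg (· ≫ snd E E) hu
    simpa using this
  have h1 : u ≫ a.act = e₁ := by
    have := congrArg (· ≫ fst E E) hu
    simpa using this
  have hu' : u = lift (toUnit _) e₂ ≫ (η[I] ▷ E) := by
    apply CartesianMonoidalCategory.hom_ext
    · rw [hg]; simp [Hom.one_def]
    · rw [h2]; simp
  have he : e₁ = e₂ := by
    rw [← h1, hu', Category.assoc, a.one_act]; simp
  have hxx : i₁ ≫ x = i₂ ≫ x := congrArg (·.left) he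
  rw [hi₁, hi₂] at hxx
  obtain ⟨y, hy⟩ := exists_desc_of_eq k L x hxx
  refine ⟨y, ?_⟩
  have hsurj : Surjective (Spec.map (CommRingCat.ofHom (algebraMap k L))) := by
    constructor
    intro y
    have : Nonempty (Spec (CommRingCat.of L)) := inferInstance
    obtain ⟨z⟩ := this
    exact ⟨z, Subsingleton.elim _ _⟩
  have : Epi (Spec.map (CommRingCat.ofHom (algebraMap k L))) :=
    Flat.epi_of_flat_of_surjective _
  rw [← cancel_epi (Spec.map (CommRingCat.ofHom (algebraMap k L))), ← Category.assoc, hy, hx,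
    Category.comp_id, hf]

end Groth.Agent.H3.InfTors
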