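import Mathlib

/-! helper3: for a finite extension of domains `B ⊆ A` and a prime `q` of `B`, the degree of the
fraction field extension is at most the dimension of the fibre `κ(q) ⊗_B A`. -/

set_option autoImplicit false
universe u

open TensorProduct nonZeroDivisors

namespace Groth.Agent.H3.InvRam

section fibre

variable (B A : Type u) [CommRing B] [CommRing A] [Algebra B A]
  [Module.Finite B A] (q : Ideal B) [q.IsPrime]

/-- generators of the fibre lift to generators at `q`. -/
theorem exists_generators_of_fiber :
    ∃ n : ℕ, n ≤ Module.finrank q.ResidueField (q.Fiber A) ∧ ∃ a : Fin n → A,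
      ∀ x : A, ∃ r : B, r ∉ q ∧ r • x ∈ Submodule.span B (Set.range a) := by
  classical
  set κ := q.ResidueField with hκ
  let s : Set (q.Fiber A) := {t | ∃ a : A, (1 : κ) ⊗ₜ[B] a = t}
  have hs : Submodule.span κ s = ⊤ := by
    rw [eq_top_iff]
    rintro t -
    induction t using TensorProduct.induction_on with
    | zero => exact Submodule.zero_mem _
    | tmul c a =>
      have : c ⊗ₜ[B] a = c • ((1 : κ) ⊗ₜ[B] a) := by
        rw [TensorProduct.smul_tmul', smul_eq_mul, mul_one]
      rw [this]
      exact Submodule.smul_mem _ _ (Submodule.subset_span ⟨a, rfl⟩)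
    | add x y hx hy => exact Submodule.add_mem _ hx hy
  obtain ⟨f, hf, hfspan, -⟩ := Submodule.exists_fun_fin_finrank_span_eq κ s
  refine ⟨Module.finrank κ (Submodule.span κ s), ?_, ?_⟩
  · rw [hs, finrank_top]
  choose a ha using hf
  refine ⟨a, ?_⟩
  set N := Submodule.span B (Set.range a) with hN
  let g : κ ⊗[B] A →ₗ[κ] κ ⊗[B] (A ⧸ N) := LinearMap.baseChange κ N.mkQ
  have hg0 : g = 0 := by
    have hker : LinearMap.ker g = ⊤ := by
      rw [eq_top_iff, ← hs, ← hfspan, Submodule.span_le]
      rintro _ ⟨i, rfl⟩
      rw [SetLike.mem_coe, LinearMap.mem_ker, ← ha i]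
      change LinearMap.baseChange κ N.mkQ ((1 : κ) ⊗ₜ[B] a i) = 0
      rw [LinearMap.baseChange_tmul, Submodule.mkQ_apply,
        (Submodule.Quotient.mk_eq_zero N).mpr (Submodule.subset_span ⟨i, rfl⟩), tmul_zero]
    exact LinearMap.ker_eq_top.mp hker
  have hsub : Subsingleton (κ ⊗[B] (A ⧸ N)) := by
    have hsurj : Function.Surjective g := by
      have := LinearMap.lTensor_surjective κ (Submodule.mkQ_surjective N)
      intro y
      obtain ⟨x, hx⟩ := this y
      exact ⟨x, hx⟩
    refine ⟨fun x y => ?_⟩
    obtain ⟨x', rfl⟩ := hsurj x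
    obtain ⟨y', rfl⟩ := hsurj y
    rw [hg0, LinearMap.zero_apply, LinearMap.zero_apply]
  have hsupp : (⟨q, inferInstance⟩ : PrimeSpectrum B) ∉ Module.support B (A ⧸ N) := by
    rw [Module.mem_support_iff_nontrivial_residueField_tensorProduct]
    exact not_nontrivial_iff_subsingleton.mpr hsub
  intro x
  obtain ⟨r, hr, hrx⟩ := Module.notMem_support_iff'.mp hsupp (Submodule.Quotient.mk x)
  refine ⟨r, hr, ?_⟩
  rwa [← Submodule.Quotient.mk_smul, Submodule.Quotient.mk_eq_zero] at hrx

end fibre

section frac

variable (B A : Type u) [CommRing B] [IsDomain B] [CommRing A] [IsDomain A] [Algebra B A]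
  [FaithfulSMul B A] [Module.Finite B A] (q : Ideal B) [q.IsPrime]
  (K L : Type u) [Field K] [Field L] [Algebra B K] [IsFractionRing B K] [Algebra A L]
  [IsFractionRing A L] [Algebra K L] [Algebra B L] [IsScalarTower B K L] [IsScalarTower B A L]

theorem finrank_le_finrank_fiber :
    Module.finrank K L ≤ Module.finrank q.ResidueField (q.Fiber A) := by
  classical
  obtain ⟨n, hn, a, ha⟩ := exists_generators_of_fiber B A q
  refine le_trans ?_ hn
  haveI : Algebra.IsAlgebraic B A := Algebra.IsIntegral.isAlgebraic
  have hspan : Submodule.span K (Set.range fun i => algebraMap A L (a i)) = ⊤ := by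
    rw [eq_top_iff]
    rintro y -
    obtain ⟨⟨x, r⟩, hxr⟩ := IsLocalizedModule.surj B⁰ (IsScalarTower.toAlgHom B A L).toLinearMap y
    obtain ⟨r', hr', hr'x⟩ := ha x
    have hr0 : (r : B) ≠ 0 := nonZeroDivisors.ne_zero r.2
    have hr'0 : r' ≠ 0 := fun h => hr' (h ▸ q.zero_mem)
    have h1 : algebraMap A L (r' • x) ∈
        Submodule.span K (Set.range fun i => algebraMap A L (a i)) := by
      have h2 : ∀ z ∈ Submodule.span B (Set.range a), algebraMap A L z ∈
          Submodule.span K (Set.range fun i => algebraMap A L (a i)) := by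
        intro z hz
        induction hz using Submodule.span_induction with
        | mem w hw =>
          obtain ⟨i, rfl⟩ := hw
          exact Submodule.subset_span ⟨i, rfl⟩
        | zero => rw [map_zero]; exact Submodule.zero_mem _
        | add w w' _ _ hw hw' => rw [map_add]; exact Submodule.add_mem _ hw hw'
        | smul c w _ hw =>
          have : algebraMap A L (c • w) = algebraMap B K c • algebraMap A L w := by
            rw [Algebra.smul_def, map_mul, Algebra.smul_def, ← IsScalarTower.algebraMap_apply,
              ← IsScalarTower.algebraMap_apply, IsScalarTower.algebraMap_apply B K L]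
          rw [this]
          exact Submodule.smul_mem _ _ hw
      exact h2 _ hr'x
    have h3 : y = ((algebraMap B K r')⁻¹ * (algebraMap B K r)⁻¹) • algebraMap A L (r' • x) := by
      have e1 : algebraMap A L x = algebraMap B K (r : B) • y := by
        have : (r : B) • y = algebraMap A L x := hxr
        rw [← this, algebraMap_smul]
      have e2 : algebraMap A L (r' • x) = algebraMap B K r' • algebraMap A L x := by
        rw [Algebra.smul_def, map_mul, Algebra.smul_def, ← IsScalarTower.algebraMap_apply,
          ← IsScalarTower.algebraMap_apply, IsScalarTower.algebraMap_apply B K L]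
      rw [e2, e1, smul_smul, smul_smul]
      have hk : algebraMap B K r' ≠ 0 := fun h =>
        hr'0 ((IsFractionRing.injective B K) (h.trans (map_zero _).symm))
      have hk' : algebraMap B K (r : B) ≠ 0 := fun h =>
        hr0 ((IsFractionRing.injective B K) (h.trans (map_zero _).symm))
      have : (algebraMap B K r')⁻¹ * (algebraMap B K (r : B))⁻¹ * algebraMap B K r' *
          algebraMap B K (r : B) = 1 := by
        field_simp
      rw [this, one_smul]
    rw [h3]
    exact Submodule.smul_mem _ _ h1
  have := finrank_range_le_card (R := K) (fun i => algebraMap A L (a i))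
  rw [Set.finrank, hspan, finrank_top, Fintype.card_fin] at this
  exact this

end frac

end Groth.Agent.H3.InvRam
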