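import Mathlib
import Groth.Agent.Lib.Helper3.InvRamA

/-! helper3: ramification index of a prime with trivial residue field extension under a finite
group action: `e ≥ |D|`. -/

set_option autoImplicit false
universe u

open TensorProduct nonZeroDivisors Pointwise

namespace Groth.Agent.H3.InvRam

variable {A B G : Type u} [CommRing A] [IsDomain A] [CommRing B] [Algebra B A] [FaithfulSMul B A]
  [Module.Finite B A] [Group G] [Finite G] [MulSemiringAction G A] [FaithfulSMul G A]
  [SMulCommClass G B A] [Algebra.IsInvariant B A G]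

theorem card_le_sum (q : Ideal B) [q.IsPrime] [Fintype (q.primesOver A)] :
    Nat.card G ≤ ∑ P : q.primesOver A, P.1.ramificationIdx B * P.1.inertiaDeg B := by
  haveI : IsDomain B := IsDomain.of_faithfulSMul B A
  haveI : IsGaloisGroup G B A := ⟨inferInstance, inferInstance, inferInstance⟩
  rw [Ideal.sum_ramification_inertia_eq_finrank_fiber q A]
  letI := FractionRing.liftAlgebra B (FractionRing A)
  letI := IsFractionRing.mulSemiringAction G A (FractionRing A)
  rw [IsGaloisGroup.card_eq_finrank G (FractionRing B) (FractionRing A)]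
  exact finrank_le_finrank_fiber B A q (FractionRing B) (FractionRing A)

variable (G) in
include G in
theorem sum_eq (q : Ideal B) [q.IsPrime] [Fintype (q.primesOver A)] (p : Ideal A) [p.IsPrime]
    [p.LiesOver q] :
    ∑ P : q.primesOver A, P.1.ramificationIdx B * P.1.inertiaDeg B =
      Nat.card (q.primesOver A) * (p.ramificationIdx B * p.inertiaDeg B) := by
  have h : ∀ P : q.primesOver A, P.1.ramificationIdx B * P.1.inertiaDeg B =
      p.ramificationIdx B * p.inertiaDeg B := by
    rintro ⟨P, hP1, hP2⟩
    haveI := hP1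
    haveI := hP2
    obtain ⟨σ, hσ⟩ := Algebra.IsInvariant.exists_smul_of_under_eq B A G p P
      ((Ideal.over_def p q).symm.trans (Ideal.over_def P q))
    change P.ramificationIdx B * P.inertiaDeg B = _
    rw [hσ, Ideal.ramificationIdx_smul, Ideal.inertiaDeg_smul]
  rw [Finset.sum_congr rfl (fun P _ => h P), Finset.sum_const, Finset.card_univ, smul_eq_mul,
    Nat.card_eq_fintype_card]

theorem card_primesOver_mul (q : Ideal B) [q.IsPrime] (p : Ideal A) [p.IsPrime] [p.LiesOver q] :
    Nat.card (q.primesOver A) * Nat.card (MulAction.stabilizer G p) = Nat.card G := by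
  have h1 := Algebra.IsInvariant.orbit_eq_primesOver B A G q p
  rw [← Nat.card_congr (Equiv.setCongr h1),
    Nat.card_congr (MulAction.orbitEquivQuotientStabilizer G p)]
  exact (Subgroup.card_eq_card_quotient_mul_card_subgroup _).symm

/-- trivial residue field extension gives inertia degree one. -/
theorem inertiaDeg_eq_one (q : Ideal B) [q.IsPrime] (p : Ideal A) [p.IsPrime] [p.LiesOver q]
    (hres : ∀ a : A, ∃ b c : B, c ∉ q ∧ algebraMap B A c * a - algebraMap B A b ∈ p) :
    p.inertiaDeg B = 1 := by
  letI := Localization.AtPrime.algebraOfLiesOver q p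
  rw [Ideal.inertiaDeg_eq q p, finrank_eq_one_iff_of_nonzero' (1 : p.ResidueField) one_ne_zero]
  have key : ∀ a : A, ∃ c : q.ResidueField,
      algebraMap q.ResidueField p.ResidueField c = algebraMap A p.ResidueField a := by
    intro a
    obtain ⟨b, c, hc, hbc⟩ := hres a
    have h0 : algebraMap A p.ResidueField (algebraMap B A c * a - algebraMap B A b) = 0 :=
      Ideal.algebraMap_residueField_eq_zero.mpr hbc
    rw [map_sub, map_mul, sub_eq_zero, ← IsScalarTower.algebraMap_apply,
      ← IsScalarTower.algebraMap_apply,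
      IsScalarTower.algebraMap_apply B q.ResidueField p.ResidueField c,
      IsScalarTower.algebraMap_apply B q.ResidueField p.ResidueField b] at h0
    have hc0 : algebraMap B q.ResidueField c ≠ 0 := fun h =>
      hc (Ideal.algebraMap_residueField_eq_zero.mp h)
    have hc1 : algebraMap q.ResidueField p.ResidueField (algebraMap B q.ResidueField c) ≠ 0 :=
      fun h => hc0 ((algebraMap q.ResidueField p.ResidueField).injective (h.trans (map_zero _).symm))
    refine ⟨algebraMap B q.ResidueField b / algebraMap B q.ResidueField c, ?_⟩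
    rw [map_div₀, div_eq_iff hc1, ← h0, mul_comm]
  intro w
  obtain ⟨x, rfl⟩ := IsLocalRing.residue_surjective w
  obtain ⟨a, s, rfl⟩ := IsLocalization.exists_mk'_eq p.primeCompl x
  obtain ⟨ca, hca⟩ := key a
  obtain ⟨cs, hcs⟩ := key s
  have hs0 : algebraMap A p.ResidueField s ≠ 0 := fun h =>
    s.2 (Ideal.algebraMap_residueField_eq_zero.mp h)
  refine ⟨ca / cs, ?_⟩
  rw [Algebra.smul_def, mul_one, map_div₀, hca, hcs, div_eq_iff hs0]
  have := IsLocalization.mk'_spec (Localization.AtPrime p) a s
  have h2 := congrArg (IsLocalRing.residue (Localization.AtPrime p)) this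
  rw [map_mul] at h2
  exact h2.symm

/-- a prime over a height one prime in a factorial domain is principal. -/
theorem exists_prime_generator [UniqueFactorizationMonoid A] (q : Ideal B) [q.IsPrime]
    (hq : q.height = 1) (p : Ideal A) [p.IsPrime] [p.LiesOver q] :
    ∃ π : A, Prime π ∧ p = Ideal.span {π} := by
  haveI : IsDomain B := IsDomain.of_faithfulSMul B A
  haveI : Algebra.IsIntegral B A := Algebra.IsIntegral.of_finite B A
  have hq0 : q ≠ ⊥ := Ideal.ne_bot_of_height_eq_one hq
  have hp0 : p ≠ ⊥ := by
    intro h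
    apply hq0
    rw [Ideal.over_def p q, h]
    exact Ideal.under_bot B A
  obtain ⟨π, hπp, hπ⟩ := Ideal.IsPrime.exists_mem_prime_of_ne_bot ‹p.IsPrime› hp0
  refine ⟨π, hπ, ?_⟩
  have hP : (Ideal.span {π} : Ideal A).IsPrime := (Ideal.span_singleton_prime hπ.ne_zero).mpr hπ
  have hle : Ideal.span {π} ≤ p := (Ideal.span_singleton_le_iff_mem _).mpr hπp
  by_contra hne
  have hlt : Ideal.span {π} < p := lt_of_le_of_ne hle (Ne.symm hne)
  obtain ⟨x, hxp, hxP⟩ := SetLike.exists_of_lt hlt
  have h1 : (Ideal.span {π} : Ideal A).comap (algebraMap B A) < p.comap (algebraMap B A) :=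
    Ideal.comap_lt_comap_of_integral_mem_sdiff hle ⟨hxp, hxP⟩ (Algebra.IsIntegral.isIntegral x)
  have h2 : p.comap (algebraMap B A) = q := (Ideal.over_def p q).symm
  rw [h2] at h1
  haveI : ((Ideal.span {π} : Ideal A).comap (algebraMap B A)).IsPrime := Ideal.comap_isPrime _ _
  have h3 := Ideal.height_add_one_le_of_lt_of_isPrime h1
  rw [hq] at h3
  have h4 : ((Ideal.span {π} : Ideal A).comap (algebraMap B A)).height = 0 := by
    have : ((Ideal.span {π} : Ideal A).comap (algebraMap B A)).height + 1 ≤ 0 + 1 := by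
      rw [zero_add]; exact h3
    exact le_antisymm ((ENat.add_le_add_iff_right ENat.one_ne_top).mp this) bot_le
  rw [Ideal.height_eq_zero_iff_eq_bot] at h4
  have h5 := Ideal.eq_bot_of_comap_eq_bot h4
  rw [Ideal.span_singleton_eq_bot] at h5
  exact hπ.ne_zero h5

/-- every element of `q` is divisible by `π ^ e`. -/
theorem pow_ramificationIdx_dvd [IsNoetherianRing A] (q : Ideal B) [q.IsPrime] (p : Ideal A)
    [p.IsPrime] [p.LiesOver q] (π : A) (hπ : Prime π) (hp : p = Ideal.span {π}) (hq0 : q ≠ ⊥)
    (b : B) (hb : b ∈ q) : π ^ (p.ramificationIdx B) ∣ algebraMap B A b := by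
  set R := Localization.AtPrime p with hR
  have hmax : IsLocalRing.maximalIdeal R = Ideal.span {algebraMap A R π} := by
    have h1 : IsLocalRing.maximalIdeal R = Ideal.map (algebraMap A R) p :=
      Localization.AtPrime.map_eq_maximalIdeal.symm
    rw [h1, congrArg (Ideal.map (algebraMap A R)) hp, Ideal.map_span, Set.image_singleton]
  have hπR : algebraMap A R π ≠ 0 := fun h =>
    hπ.ne_zero ((IsLocalization.injective R p.primeCompl_le_nonZeroDivisors)
      (h.trans (map_zero _).symm))
  have hnf : ¬ IsField R := by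
    rw [IsLocalRing.isField_iff_maximalIdeal_eq, hmax, Ideal.span_singleton_eq_bot]
    exact hπR
  haveI : IsDiscreteValuationRing R :=
    ((IsDiscreteValuationRing.TFAE R hnf).out 0 4).mpr
      (by rw [hmax]; exact ⟨⟨_, rfl⟩⟩ : (IsLocalRing.maximalIdeal R).IsPrincipal)
  have hirr : Irreducible (algebraMap A R π) := by
    rw [IsDiscreteValuationRing.irreducible_iff_uniformizer, hmax]
  have hinjBA : Function.Injective (algebraMap B A) := FaithfulSMul.algebraMap_injective B A
  have hinjAR : Function.Injective (algebraMap A R) :=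
    IsLocalization.injective R p.primeCompl_le_nonZeroDivisors
  have hI0 : q.map (algebraMap B R) ≠ ⊥ := by
    obtain ⟨b₁, hb₁, hb₁0⟩ := Submodule.exists_mem_ne_zero_of_ne_bot hq0
    intro h
    have : algebraMap B R b₁ ∈ q.map (algebraMap B R) := Ideal.mem_map_of_mem _ hb₁
    rw [h, Ideal.mem_bot, IsScalarTower.algebraMap_apply B A R] at this
    have h2 : algebraMap B A b₁ = 0 := hinjAR (this.trans (map_zero _).symm)
    exact hb₁0 (hinjBA (h2.trans (map_zero _).symm))
  obtain ⟨n, hn⟩ := IsDiscreteValuationRing.ideal_eq_span_pow_irreducible hI0 hirr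
  have he : p.ramificationIdx B = n := by
    rw [Ideal.ramificationIdx_eq q p, hn, ← Ideal.span_singleton_pow, ← hmax,
      IsDiscreteValuationRing.length_quotient_pow_maximalIdeal]
    rfl
  rw [he]
  have hbI : algebraMap B R b ∈ q.map (algebraMap B R) := Ideal.mem_map_of_mem _ hb
  rw [hn, Ideal.mem_span_singleton] at hbI
  obtain ⟨z, hz⟩ := hbI
  obtain ⟨c, s, rfl⟩ := IsLocalization.exists_mk'_eq p.primeCompl z
  have h1 : algebraMap A R (algebraMap B A b * s) = algebraMap A R (π ^ n * c) := by
    rw [map_mul, ← IsScalarTower.algebraMap_apply, hz, map_mul, map_pow, mul_assoc,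
      IsLocalization.mk'_spec]
  have h2 := hinjAR h1
  have hs : ¬ π ∣ (s : A) := by
    intro hd
    apply s.2
    exact (SetLike.ext_iff.mp hp _).mpr (Ideal.mem_span_singleton.mpr hd)
  refine Prime.pow_dvd_of_dvd_mul_left hπ n hs ?_
  rw [mul_comm, h2]
  exact Dvd.intro _ rfl

end Groth.Agent.H3.InvRam
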