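import Mathlib
import Groth.Agent.Lib.Helper3.InvRamB

/-! helper3: a height one prime of the invariant ring of a factorial domain with trivial residue
field extension is principal. -/

set_option autoImplicit false
universe u

open TensorProduct nonZeroDivisors Pointwise

namespace Groth.Agent.H3.InvRam

variable {A B G : Type u} [CommRing A] [IsDomain A] [CommRing B] [Algebra B A] [FaithfulSMul B A]
  [Module.Finite B A] [Group G] [Finite G] [MulSemiringAction G A] [FaithfulSMul G A]
  [SMulCommClass G B A] [Algebra.IsInvariant B A G]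

omit [IsDomain A] [Finite G] [FaithfulSMul G A] in
theorem smul_span_singleton (g : G) (π : A) :
    g • (Ideal.span {π} : Ideal A) = Ideal.span {g • π} := by
  rw [Ideal.pointwise_smul_def, Ideal.map_span, Set.image_singleton]
  rfl

omit [Finite G] [FaithfulSMul G A] in
theorem mem_stabilizer_of_associated (p : Ideal A) (π : A) (hp : p = Ideal.span {π}) (σ τ : G)
    (h : Associated (σ • π) (τ • π)) : τ⁻¹ * σ ∈ MulAction.stabilizer G p := by
  rw [MulAction.mem_stabilizer_iff, mul_smul, inv_smul_eq_iff, hp, smul_span_singleton,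
    smul_span_singleton]
  exact Ideal.span_singleton_eq_span_singleton.mpr h

omit [IsDomain A] [FaithfulSMul B A] [Module.Finite B A] [Finite G] [FaithfulSMul G A]
  [Algebra.IsInvariant B A G] in
theorem smul_pow_dvd (b : B) (π : A) (n : ℕ) (τ : G) (h : π ^ n ∣ algebraMap B A b) :
    (τ • π) ^ n ∣ algebraMap B A b := by
  obtain ⟨c, hc⟩ := h
  refine ⟨τ • c, ?_⟩
  rw [← smul_pow', ← smul_mul', ← hc, smul_algebraMap]

theorem card_stabilizer_le (q : Ideal B) [q.IsPrime] (p : Ideal A) [p.IsPrime] [p.LiesOver q]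
    (hres : ∀ a : A, ∃ b c : B, c ∉ q ∧ algebraMap B A c * a - algebraMap B A b ∈ p) :
    Nat.card (MulAction.stabilizer G p) ≤ p.ramificationIdx B := by
  haveI : Fintype (q.primesOver A) := (Algebra.QuasiFinite.finite_primesOver q).fintype
  have h1 := card_le_sum (A := A) (G := G) q
  rw [sum_eq G q p, inertiaDeg_eq_one q p hres, mul_one, ← card_primesOver_mul (G := G) q p] at h1
  haveI : Nonempty (q.primesOver A) := ⟨⟨p, inferInstance, inferInstance⟩⟩
  have hpos : 0 < Nat.card (q.primesOver A) := Nat.card_pos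
  exact Nat.le_of_mul_le_mul_left h1 hpos

/-- the norm of `π` divides every element of `q`. -/
theorem prod_smul_dvd [Fintype G] [UniqueFactorizationMonoid A] [IsNoetherianRing A]
    (q : Ideal B) [q.IsPrime] (hq : q.height = 1) (p : Ideal A) [p.IsPrime] [p.LiesOver q]
    (hres : ∀ a : A, ∃ b c : B, c ∉ q ∧ algebraMap B A c * a - algebraMap B A b ∈ p)
    (π : A) (hπ : Prime π) (hp : p = Ideal.span {π}) (b : B) (hb : b ∈ q) :
    (∏ σ : G, σ • π) ∣ algebraMap B A b := by
  classical
  haveI : IsDomain B := IsDomain.of_faithfulSMul B A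
  have hq0 : q ≠ ⊥ := Ideal.ne_bot_of_height_eq_one hq
  have hprime : ∀ σ : G, Prime (σ • π) := fun σ =>
    (MulEquiv.prime_iff (MulSemiringAction.toRingEquiv G A σ).toMulEquiv).mpr hπ
  have hN0 : (∏ σ : G, σ • π) ≠ 0 := Finset.prod_ne_zero_iff.mpr fun σ _ => (hprime σ).ne_zero
  rw [UniqueFactorizationMonoid.dvd_iff_emultiplicity_le hN0]
  intro r hr
  rw [Finset.emultiplicity_prod hr]
  by_cases hex : ∃ τ : G, r ∣ τ • π
  · obtain ⟨τ, hτ⟩ := hex
    have hass : Associated r (τ • π) := (Prime.dvd_prime_iff_associated hr (hprime τ)).mp hτ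
    have hbound : ∀ σ : G, emultiplicity r (σ • π) ≤
        if τ⁻¹ * σ ∈ MulAction.stabilizer G p then (1 : ℕ∞) else 0 := by
      intro σ
      by_cases hσ : r ∣ σ • π
      · have hass' : Associated r (σ • π) := (Prime.dvd_prime_iff_associated hr (hprime σ)).mp hσ
        have hmem : τ⁻¹ * σ ∈ MulAction.stabilizer G p :=
          mem_stabilizer_of_associated p π hp σ τ (hass'.symm.trans hass)
        rw [if_pos hmem, ← emultiplicity_eq_of_associated_left hass']
        have := emultiplicity_pow_self (hprime σ).ne_zero (hprime σ).not_isUnit 1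
        rw [pow_one] at this
        rw [this]
        norm_num
      · rw [emultiplicity_eq_zero.mpr hσ]
        exact bot_le
    have hsum : (∑ σ : G, if τ⁻¹ * σ ∈ MulAction.stabilizer G p then (1 : ℕ∞) else 0) =
        (Nat.card (MulAction.stabilizer G p) : ℕ∞) := by
      rw [Finset.sum_boole]
      congr 1
      rw [← Fintype.card_subtype, ← Nat.card_eq_fintype_card]
      exact Nat.card_congr ((Equiv.mulLeft τ⁻¹).subtypeEquiv fun σ => Iff.rfl)
    refine (Finset.sum_le_sum fun σ _ => hbound σ).trans ?_
    rw [hsum, ← emultiplicity_eq_of_associated_left hass]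
    have h1 : (τ • π) ^ (p.ramificationIdx B) ∣ algebraMap B A b :=
      smul_pow_dvd b π _ τ (pow_ramificationIdx_dvd q p π hπ hp hq0 b hb)
    have h2 := le_emultiplicity_of_pow_dvd h1
    refine le_trans ?_ h2
    exact_mod_cast card_stabilizer_le (G := G) q p hres
  · push Not at hex
    rw [Finset.sum_eq_zero fun σ _ => emultiplicity_eq_zero.mpr (hex σ)]
    exact bot_le

end Groth.Agent.H3.InvRam
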