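import Mathlib
import Groth.Agent.Lib.Helper3.InvRamC
import Groth.Agent.Lib.Helper3.EakinNagata

/-! helper3: principal height one primes in invariant rings and regularity. -/

set_option autoImplicit false
universe u

open TensorProduct nonZeroDivisors Pointwise IsLocalRing

namespace Groth.Agent.H3.InvRam

/-- if `R ⧸ (x)` is regular local with `x` a non-zero-divisor in the maximal ideal, then `R` is
regular local. -/
theorem isRegularLocalRing_of_quotient (R : Type u) [CommRing R] [IsLocalRing R]
    [IsNoetherianRing R] (x : R) (hx : x ∈ R⁰) (hxm : x ∈ maximalIdeal R)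
    (hreg : IsRegularLocalRing (R ⧸ Ideal.span {x})) : IsRegularLocalRing R := by
  classical
  set I : Ideal R := Ideal.span {x} with hI
  have hf : Function.Surjective (Ideal.Quotient.mk I) := Ideal.Quotient.mk_surjective
  have hIm : I ≤ maximalIdeal R := (Ideal.span_singleton_le_iff_mem _).mpr hxm
  have hfg : (maximalIdeal (R ⧸ I)).FG := IsNoetherian.noetherian _
  obtain ⟨s, hs1, hs2⟩ := Submodule.FG.exists_span_finset_card_eq_spanFinrank hfg
  set t : Finset R := s.image (Function.surjInv hf) with ht
  have hts : ∀ z ∈ t, Ideal.Quotient.mk I z ∈ s := by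
    intro z hz
    obtain ⟨y, hy, rfl⟩ := Finset.mem_image.mp hz
    rw [Function.surjInv_eq hf]
    exact hy
  have hst : ∀ y ∈ s, ∃ z ∈ t, Ideal.Quotient.mk I z = y := by
    intro y hy
    exact ⟨Function.surjInv hf y, Finset.mem_image_of_mem _ hy, Function.surjInv_eq hf y⟩
  have hmax : maximalIdeal R = Ideal.span (insert x (t : Set R)) := by
    apply le_antisymm
    · intro y hy
      have hfy : Ideal.Quotient.mk I y ∈ maximalIdeal (R ⧸ I) := by
        rw [mem_maximalIdeal, mem_nonunits_iff]
        intro hu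
        obtain ⟨w, hw⟩ := hu.exists_right_inv
        obtain ⟨w', rfl⟩ := hf w
        rw [← map_mul, ← map_one (Ideal.Quotient.mk I), Ideal.Quotient.eq] at hw
        have h1 : y * w' - 1 ∈ maximalIdeal R := hIm hw
        have h2 : y * w' ∈ maximalIdeal R := Ideal.mul_mem_right _ _ hy
        have h3 : (1 : R) ∈ maximalIdeal R := by
          have := Ideal.sub_mem _ h2 h1
          rwa [sub_sub_cancel] at this
        exact (Ideal.ne_top_iff_one _).mp (maximalIdeal.isMaximal R).ne_top h3
      rw [← hs2] at hfy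
      have hsub : (s : Set (R ⧸ I)) ⊆ (Ideal.span (t : Set R)).map (Ideal.Quotient.mk I) := by
        intro y' hy'
        obtain ⟨z, hz, rfl⟩ := hst y' hy'
        exact Ideal.mem_map_of_mem _ (Ideal.subset_span hz)
      have h4 : Ideal.Quotient.mk I y ∈ (Ideal.span (t : Set R)).map (Ideal.Quotient.mk I) :=
        Submodule.span_le.mpr hsub hfy
      obtain ⟨z, hz, hzy⟩ := (Ideal.mem_map_iff_of_surjective _ hf).mp h4
      have h5 : y - z ∈ I := by
        rw [← Ideal.Quotient.eq, hzy]
      have h6 : y = z + (y - z) := by ring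
      rw [h6]
      refine Ideal.add_mem _ (Ideal.span_mono (Set.subset_insert _ _) hz) ?_
      exact Ideal.span_mono (Set.singleton_subset_iff.mpr (Set.mem_insert _ _)) h5
    · rw [Ideal.span_le]
      intro y hy
      rcases Set.mem_insert_iff.mp hy with rfl | hy
      · exact hxm
      · have h1 : Ideal.Quotient.mk I y ∈ maximalIdeal (R ⧸ I) := by
          rw [← hs2]
          exact Submodule.subset_span (hts y hy)
        rw [SetLike.mem_coe, mem_maximalIdeal, mem_nonunits_iff]
        intro hu
        exact h1 (hu.map _)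
  apply IsRegularLocalRing.of_spanFinrank_maximalIdeal_le
  have hcard : (maximalIdeal R).spanFinrank ≤ (maximalIdeal (R ⧸ I)).spanFinrank + 1 := by
    have h1 : (maximalIdeal R).spanFinrank ≤ (insert x (t : Set R)).ncard := by
      have := Submodule.spanFinrank_span_le_ncard_of_finite (R := R)
        (s := insert x (t : Set R)) ((Finset.finite_toSet t).insert x)
      rw [hmax]
      exact this
    have h2 : (insert x (t : Set R)).ncard ≤ (t : Set R).ncard + 1 :=
      Set.ncard_insert_le x _
    have h3 : (t : Set R).ncard = t.card := Set.ncard_coe_finset t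
    have h4 : t.card ≤ s.card := Finset.card_image_le
    omega
  have hdim : ringKrullDim (R ⧸ I) + 1 ≤ ringKrullDim R :=
    ringKrullDim_quotient_succ_le_of_nonZeroDivisor hx
  have hq := IsRegularLocalRing.spanFinrank_maximalIdeal (R := R ⧸ I)
  calc ((maximalIdeal R).spanFinrank : WithBot ℕ∞)
      ≤ (((maximalIdeal (R ⧸ I)).spanFinrank + 1 : ℕ) : WithBot ℕ∞) := by exact_mod_cast hcard
    _ = ((maximalIdeal (R ⧸ I)).spanFinrank : WithBot ℕ∞) + 1 := by push_cast; rfl
    _ = ringKrullDim (R ⧸ I) + 1 := by rw [hq]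
    _ ≤ ringKrullDim R := hdim

variable {A B G : Type u} [CommRing A] [IsDomain A] [CommRing B] [Algebra B A] [FaithfulSMul B A]
  [Module.Finite B A] [Group G] [Finite G] [MulSemiringAction G A] [FaithfulSMul G A]
  [SMulCommClass G B A] [Algebra.IsInvariant B A G]

variable (G) in
include G in
omit [IsDomain A] [Module.Finite B A] [Finite G] [FaithfulSMul G A] in
theorem isUnit_of_isUnit_algebraMap (b : B) (h : IsUnit (algebraMap B A b)) : IsUnit b := by
  obtain ⟨c, hc⟩ := h.exists_right_inv
  have hinv : ∀ g : G, g • c = c := by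
    intro g
    have h1 : algebraMap B A b * (g • c) = 1 := by
      have := congrArg (fun z => g • z) hc
      simp only [smul_mul', smul_algebraMap, smul_one] at this
      exact this
    calc g • c = (c * algebraMap B A b) * (g • c) := by rw [mul_comm c, hc, one_mul]
      _ = c * (algebraMap B A b * (g • c)) := by ring
      _ = c := by rw [h1, mul_one]
  obtain ⟨c₀, hc₀⟩ := Algebra.IsInvariant.isInvariant (A := B) (B := A) (G := G) c hinv
  refine isUnit_iff_exists_inv.mpr ⟨c₀, ?_⟩
  apply FaithfulSMul.algebraMap_injective B A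
  rw [map_mul, hc₀, hc, map_one]

variable (A G) in
include G in
omit [Module.Finite B A] [Finite G] [FaithfulSMul G A] in
theorem isLocalRing_of_invariant [IsLocalRing A] : IsLocalRing B := by
  haveI : IsDomain B := IsDomain.of_faithfulSMul B A
  refine IsLocalRing.of_nonunits_add ?_
  intro a b ha hb
  have ha' : algebraMap B A a ∈ nonunits A := fun h =>
    ha (isUnit_of_isUnit_algebraMap G a h)
  have hb' : algebraMap B A b ∈ nonunits A := fun h =>
    hb (isUnit_of_isUnit_algebraMap G b h)
  have := IsLocalRing.nonunits_add ha' hb'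
  intro h
  apply this
  rw [← map_add]
  exact h.map _

variable (G) in
include G in
/-- a height one prime of the invariant ring with trivial residue field extension is principal. -/
theorem exists_eq_span_singleton [UniqueFactorizationMonoid A] [IsNoetherianRing A]
    (q : Ideal B) [q.IsPrime] (hq : q.height = 1) (p : Ideal A) [p.IsPrime] [p.LiesOver q]
    (hres : ∀ a : A, ∃ b c : B, c ∉ q ∧ algebraMap B A c * a - algebraMap B A b ∈ p) :
    ∃ b₀ : B, q = Ideal.span {b₀} := by
  classical
  cases nonempty_fintype G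
  obtain ⟨π, hπ, hp⟩ := exists_prime_generator q hq p
  have hinjBA : Function.Injective (algebraMap B A) := FaithfulSMul.algebraMap_injective B A
  have hprime : ∀ σ : G, Prime (σ • π) := fun σ =>
    (MulEquiv.prime_iff (MulSemiringAction.toRingEquiv G A σ).toMulEquiv).mpr hπ
  have hN0 : (∏ σ : G, σ • π) ≠ 0 := Finset.prod_ne_zero_iff.mpr fun σ _ => (hprime σ).ne_zero
  have hinv : ∀ g : G, g • (∏ σ : G, σ • π) = ∏ σ : G, σ • π := by
    intro g
    rw [Finset.smul_prod']
    simp_rw [← mul_smul]
    exact Fintype.prod_equiv (Equiv.mulLeft g) _ _ (fun σ => rfl)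
  obtain ⟨b₀, hb₀⟩ := Algebra.IsInvariant.isInvariant (A := B) (B := A) (G := G) _ hinv
  have hNp : (∏ σ : G, σ • π) ∈ p := by
    have hd : π ∣ ∏ σ : G, σ • π := by
      have := Finset.dvd_prod_of_mem (fun σ : G => σ • π) (Finset.mem_univ (1 : G))
      rwa [one_smul] at this
    exact (SetLike.ext_iff.mp hp _).mpr (Ideal.mem_span_singleton.mpr hd)
  have hb₀q : b₀ ∈ q := by
    have h1 : b₀ ∈ p.under B := by
      rw [Ideal.under_def, Ideal.mem_comap, hb₀]
      exact hNp
    exact (SetLike.ext_iff.mp (Ideal.over_def p q) _).mpr h1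
  refine ⟨b₀, le_antisymm ?_ ((Ideal.span_singleton_le_iff_mem _).mpr hb₀q)⟩
  intro b hb
  obtain ⟨c, hc⟩ := prod_smul_dvd (G := G) q hq p hres π hπ hp b hb
  have hcinv : ∀ g : G, g • c = c := by
    intro g
    have h1 := congrArg (fun z => g • z) hc
    simp only [smul_mul', smul_algebraMap, hinv] at h1
    rw [hc] at h1
    exact (mul_left_cancel₀ hN0 h1).symm
  obtain ⟨c₀, hc₀⟩ := Algebra.IsInvariant.isInvariant (A := B) (B := A) (G := G) c hcinv
  rw [Ideal.mem_span_singleton]
  refine ⟨c₀, ?_⟩
  apply hinjBA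
  rw [map_mul, hb₀, hc₀, hc]

variable (G) in
include G in
/-- the full statement. -/
theorem main [UniqueFactorizationMonoid A] [IsNoetherianRing A] [IsLocalRing A]
    (q : Ideal B) [q.IsPrime] (hq : q.height = 1) (p : Ideal A) [p.IsPrime] [p.LiesOver q]
    (hres : ∀ a : A, ∃ b c : B, c ∉ q ∧ algebraMap B A c * a - algebraMap B A b ∈ p) :
    Submodule.IsPrincipal q ∧ (IsRegularLocalRing (B ⧸ q) → IsRegularLocalRing B) := by
  obtain ⟨b₀, hb₀⟩ := exists_eq_span_singleton G q hq p hres
  refine ⟨⟨⟨b₀, hb₀⟩⟩, ?_⟩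
  intro hreg
  haveI : IsDomain B := IsDomain.of_faithfulSMul B A
  haveI : IsLocalRing B := isLocalRing_of_invariant A G
  haveI : IsNoetherianRing B :=
    EN.isNoetherianRing_of_finite B A (FaithfulSMul.algebraMap_injective B A)
  have hq0 : q ≠ ⊥ := Ideal.ne_bot_of_height_eq_one hq
  have hb₀0 : b₀ ≠ 0 := by
    rintro rfl
    apply hq0
    rw [hb₀, Ideal.span_singleton_eq_bot]
  have hb₀m : b₀ ∈ maximalIdeal B := by
    have h1 : b₀ ∈ q := by
      rw [hb₀]; exact Ideal.mem_span_singleton_self b₀
    exact IsLocalRing.le_maximalIdeal (Ideal.IsPrime.ne_top inferInstance) h1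
  subst hb₀
  exact isRegularLocalRing_of_quotient B b₀ (mem_nonZeroDivisors_of_ne_zero hb₀0) hb₀m hreg

end Groth.Agent.H3.InvRam
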