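import Mathlib
import Groth.Agent.Lib.Helper3.JacSmooth
import Groth.Agent.Lib.Helper3.OmSm3
import Groth.Agent.H4.Fitting3

/-! Helper3: the Jacobian criterion of smoothness via dimensions, in algebraic form: for a finite type
algebra `S` over a field `k`, `S` is smooth at `q` iff `dim κ(q) ⊗ Ω_{S/k} ≤ dim_q Spec S`. -/

set_option autoImplicit false
universe u
open AlgebraicGeometry CategoryTheory CategoryTheory.Limits TensorProduct KaehlerDifferential

namespace Groth.Agent.H3.JacAlg

section Kaehler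

/-- `Ω` only depends on the image of the base ring. -/
theorem map_bijective_of_surjective (R R' T : Type u) [CommRing R] [CommRing R'] [CommRing T]
    [Algebra R R'] [Algebra R T] [Algebra R' T] [IsScalarTower R R' T]
    (h : Function.Surjective (algebraMap R R')) :
    Function.Bijective (KaehlerDifferential.map R R' T T) := by
  refine ⟨?_, KaehlerDifferential.map_surjective R R' T⟩
  rw [injective_iff_map_eq_zero]
  intro ω hω
  haveI : Subsingleton Ω[R'⁄R] := KaehlerDifferential.subsingleton_of_surjective R R' h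
  obtain ⟨z, rfl⟩ := (KaehlerDifferential.exact_mapBaseChange_map R R' T ω).mp hω
  rw [Subsingleton.elim z 0, map_zero]

end Kaehler

section Chart

variable {X Y : Scheme.{u}}

/-- a standard smooth chart at a point of the smooth locus (copy of
`Groth.Agent.H3.RegBaseSm.exists_chart_of_mem_smoothLocus`). -/
theorem exists_chart_of_mem_smoothLocus (f : X ⟶ Y)
    [LocallyOfFinitePresentation f] (x : X) (hx : x ∈ f.smoothLocus) :
    ∃ (V : Y.Opens) (_ : IsAffineOpen V) (U : X.Opens) (_ : IsAffineOpen U) (_ : x ∈ U)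
      (e : U ≤ f ⁻¹ᵁ V), (f.appLE V U e).hom.IsStandardSmooth := by
  haveI hsm : Smooth (f.smoothLocus.ι ≫ f) := by
    rw [← Scheme.Hom.smoothLocus_eq_top_iff, ← Scheme.Hom.preimage_smoothLocus_eq,
      Scheme.Opens.ι_preimage_self]
  obtain ⟨V, hV, U', hU', hxU', e', hstd⟩ :=
    Smooth.exists_isStandardSmooth (f.smoothLocus.ι ≫ f) ⟨x, hx⟩
  have hU : IsAffineOpen (f.smoothLocus.ι ''ᵁ U') := hU'.image_of_isOpenImmersion f.smoothLocus.ι
  have hxU : x ∈ f.smoothLocus.ι ''ᵁ U' := ⟨⟨x, hx⟩, hxU', rfl⟩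
  have hle : f.smoothLocus.ι ''ᵁ U' ≤ f ⁻¹ᵁ V := by
    rintro _ ⟨z, hz, rfl⟩
    exact e' hz
  refine ⟨V, hV, _, hU, hxU, hle, ?_⟩
  have h2 : f.appLE V (f.smoothLocus.ι ''ᵁ U') hle ≫ (f.smoothLocus.ι.appIso U').hom =
      (f.smoothLocus.ι ≫ f).appLE V U' e' := by
    rw [Scheme.Hom.appIso_hom', Scheme.Hom.appLE_comp_appLE]
  have h3 : f.appLE V (f.smoothLocus.ι ''ᵁ U') hle =
      (f.smoothLocus.ι ≫ f).appLE V U' e' ≫ (f.smoothLocus.ι.appIso U').inv := by
    rw [← h2, Category.assoc, Iso.hom_inv_id, Category.comp_id]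
  rw [h3, CommRingCat.hom_comp]
  exact RingHom.isStandardSmooth_respectsIso.1 _
    (f.smoothLocus.ι.appIso U').symm.commRingCatIsoToRingEquiv hstd

/-- at a smooth point, the fibre dimension is a natural number `n` and the point lies outside the
`n`-th Jacobian locus. -/
theorem exists_fibreDimAt_and_not_mem_fitt (f : X ⟶ Y) [LocallyOfFinitePresentation f]
    [QuasiSeparated f] (x : X) (hx : x ∈ f.smoothLocus) :
    ∃ n : ℕ, FlatMor.fibreDimAt f x = (n : WithBot ℕ∞) ∧
      x ∉ (Fitt.sheafIdeal (Omega.sheaf f) n).support := by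
  haveI : LocallyOfFiniteType f := inferInstance
  obtain ⟨V, hV, U, hU, hxU, e, hstd⟩ := exists_chart_of_mem_smoothLocus f x hx
  letI := (f.appLE V U e).hom.toAlgebra
  have hstd' : Algebra.IsStandardSmooth Γ(Y, V) Γ(X, U) := hstd
  obtain ⟨ι, σ, _, _, ⟨P⟩⟩ := hstd'.out
  have hn : Algebra.IsStandardSmoothOfRelativeDimension P.dimension Γ(Y, V) Γ(X, U) :=
    P.isStandardSmoothOfRelativeDimension rfl
  haveI : Nontrivial Γ(X, U) := by
    have : Nonempty (Spec Γ(X, U)) := ⟨hU.primeIdealOf ⟨x, hxU⟩⟩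
    by_contra hnt
    rw [not_nontrivial_iff_subsingleton] at hnt
    exact (PrimeSpectrum.instIsEmptyOfSubsingleton (R := Γ(X, U))).false (hU.primeIdealOf ⟨x, hxU⟩)
  have hrank := Algebra.IsStandardSmoothOfRelativeDimension.rank_kaehlerDifferential
    (R := Γ(Y, V)) (S := Γ(X, U)) P.dimension
  have hfin : Module.Finite Γ(X, U) (Ω[Γ(X, U)⁄Γ(Y, V)]) := by
    haveI : Algebra.FinitePresentation Γ(Y, V) Γ(X, U) := inferInstance
    infer_instance
  have hfr : Module.finrank Γ(X, U) (Ω[Γ(X, U)⁄Γ(Y, V)]) = P.dimension :=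
    Module.finrank_eq_of_rank_eq hrank
  let b := Module.finBasisOfFinrankEq Γ(X, U) (Ω[Γ(X, U)⁄Γ(Y, V)]) hfr
  refine ⟨P.dimension, Groth.Agent.H3.Om.fibreDimAt_of_chart f hU hV e P.dimension hn x hxU, ?_⟩
  have hF : Fitt.ideal Γ(X, U) Ω[Γ(X, U)⁄Γ(Y, V)] P.dimension = ⊤ :=
    Groth.Agent.H4.Fitting.ideal_eq_top_of_span _ b.span_eq (by simp)
  obtain ⟨ε, -⟩ := Groth.Agent.H3.Om.exists_linearEquiv_kaehler f hU hV e
  rw [Groth.Agent.H4.Fitting.ideal_congr P.dimension ε] at hF
  intro hmem
  rw [Groth.Agent.H3.JacLocus.mem_support_sheafIdeal_iff (Omega.sheaf f)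
    (Groth.Agent.H3.Om.isFiniteType_omega f) P.dimension hU x hxU, hF] at hmem
  exact (hU.primeIdealOf ⟨x, hxU⟩).isPrime.ne_top (top_le_iff.mp hmem)

end Chart

section Spec

variable (A B : Type u) [CommRing A] [CommRing B] [Algebra A B]

theorem lfp_spec [Algebra.FinitePresentation A B] :
    LocallyOfFinitePresentation (Spec.map (CommRingCat.ofHom (algebraMap A B))) := by
  rw [HasRingHomProperty.Spec_iff (P := @LocallyOfFinitePresentation)]
  exact (RingHom.finitePresentation_algebraMap).mpr inferInstance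

/-- smooth locus of `Spec B ⟶ Spec A` and `Algebra.IsSmoothAt`. -/
theorem mem_smoothLocus_spec_iff [Algebra.FinitePresentation A B]
    (x : Spec (CommRingCat.of B)) :
    haveI := lfp_spec A B
    x ∈ (Spec.map (CommRingCat.ofHom (algebraMap A B))).smoothLocus ↔
      Algebra.IsSmoothAt A x.asIdeal := by
  haveI := lfp_spec A B
  rw [Scheme.Hom.mem_smoothLocus]
  let p : Ideal A := x.asIdeal.comap (algebraMap A B)
  haveI : x.asIdeal.LiesOver p := ⟨rfl⟩
  letI := Localization.AtPrime.algebraOfLiesOver p x.asIdeal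
  trans Algebra.FormallySmooth (Localization.AtPrime p) (Localization.AtPrime x.asIdeal)
  · rw [← RingHom.formallySmooth_algebraMap]
    exact RingHom.FormallySmooth.respectsIso.arrow_mk_iso_iff
      (Scheme.arrowStalkMapSpecIso (CommRingCat.ofHom (algebraMap A B)) x)
  · exact Algebra.FormallySmooth.iff_restrictScalars.symm

end Spec


section Transport

open Groth.Agent.H4.Fitting in
/-- Fitting ideals of Kähler differentials are transported by isomorphisms of ring maps. -/
theorem fitt_kaehler_transport {A B A' B' : Type u} [CommRing A] [CommRing B] [CommRing A']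
    [CommRing B'] [Algebra A B] [Algebra A' B'] [Algebra.FiniteType A B]
    (eA : A ≃+* A') (eB : B ≃+* B')
    (hc : ∀ a, eB (algebraMap A B a) = algebraMap A' B' (eA a)) (d : ℕ) :
    Fitt.ideal B' Ω[B'⁄A'] d = (Fitt.ideal B Ω[B⁄A] d).map eB.toRingHom := by
  letI algAA' : Algebra A A' := eA.toRingHom.toAlgebra
  letI algBB' : Algebra B B' := eB.toRingHom.toAlgebra
  letI algAB' : Algebra A B' := ((algebraMap B B').comp (algebraMap A B)).toAlgebra
  haveI : IsScalarTower A B B' := IsScalarTower.of_algebraMap_eq (fun _ => rfl)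
  haveI : IsScalarTower A A' B' := IsScalarTower.of_algebraMap_eq (fun a => hc a)
  have hbij : Function.Bijective (algebraMap B B') := eB.bijective
  haveI : Algebra.FormallyEtale B B' :=
    Algebra.FormallyEtale.of_equiv (AlgEquiv.ofBijective (Algebra.ofId B B') hbij)
  haveI : Module.Finite B Ω[B⁄A] := inferInstance
  have h1 : Fitt.ideal B' Ω[B'⁄A'] d = Fitt.ideal B' Ω[B'⁄A] d :=
    (ideal_congr d (LinearEquiv.ofBijective (KaehlerDifferential.map A A' B' B')
      (map_bijective_of_surjective A A' B' eA.surjective))).symm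
  have h2 : Fitt.ideal B' Ω[B'⁄A] d = Fitt.ideal B' (B' ⊗[B] Ω[B⁄A]) d :=
    (ideal_congr d (KaehlerDifferential.tensorKaehlerEquivOfFormallyEtale A B B')).symm
  rw [h1, h2, ideal_baseChange]
  rfl

end Transport

section SpecFitt

variable (A B : Type u) [CommRing A] [CommRing B] [Algebra A B]

theorem lft_spec [Algebra.FiniteType A B] :
    LocallyOfFiniteType (Spec.map (CommRingCat.ofHom (algebraMap A B))) := by
  rw [HasRingHomProperty.Spec_iff (P := @LocallyOfFiniteType)]
  exact (RingHom.finiteType_algebraMap).mpr inferInstance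

/-- the Jacobian loci of `Spec B ⟶ Spec A` in terms of the fibres of `Ω_{B/A}`. -/
theorem not_mem_support_fitt_spec_iff [Algebra.FiniteType A B] (d : ℕ)
    (x : Spec (CommRingCat.of B)) :
    x ∉ (Fitt.sheafIdeal (Omega.sheaf (Spec.map (CommRingCat.ofHom (algebraMap A B)))) d).support ↔
      Module.finrank x.asIdeal.ResidueField (x.asIdeal.ResidueField ⊗[B] Ω[B⁄A]) ≤ d := by
  haveI := lft_spec A B
  have hU : IsAffineOpen (⊤ : (Spec (CommRingCat.of B)).Opens) := isAffineOpen_top _
  have hV : IsAffineOpen (⊤ : (Spec (CommRingCat.of A)).Opens) := isAffineOpen_top _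
  have e : (⊤ : (Spec (CommRingCat.of B)).Opens) ≤
      (Spec.map (CommRingCat.ofHom (algebraMap A B))) ⁻¹ᵁ ⊤ := fun _ _ => trivial
  rw [Groth.Agent.H3.JacLocus.mem_support_sheafIdeal_iff
    (Omega.sheaf (Spec.map (CommRingCat.ofHom (algebraMap A B))))
    (Groth.Agent.H3.Om.isFiniteType_omega _) d hU x trivial]
  letI := ((Spec.map (CommRingCat.ofHom (algebraMap A B))).appLE ⊤ ⊤ e).hom.toAlgebra
  obtain ⟨ε, -⟩ := Groth.Agent.H3.Om.exists_linearEquiv_kaehler
    (Spec.map (CommRingCat.ofHom (algebraMap A B))) hU hV e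
  rw [← Groth.Agent.H4.Fitting.ideal_congr d ε]
  let eA : A ≃+* Γ(Spec (CommRingCat.of A), ⊤) :=
    (Scheme.ΓSpecIso (CommRingCat.of A)).symm.commRingCatIsoToRingEquiv
  let eB : B ≃+* Γ(Spec (CommRingCat.of B), ⊤) :=
    (Scheme.ΓSpecIso (CommRingCat.of B)).symm.commRingCatIsoToRingEquiv
  have hc : ∀ a, eB (algebraMap A B a) =
      algebraMap Γ(Spec (CommRingCat.of A), ⊤) Γ(Spec (CommRingCat.of B), ⊤) (eA a) := by
    intro a
    have := Scheme.ΓSpecIso_inv_naturality (CommRingCat.ofHom (algebraMap A B))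
    have h2 := congrArg (fun φ => φ.hom a) this
    simp only [CommRingCat.hom_comp, RingHom.comp_apply] at h2
    exact h2
  rw [fitt_kaehler_transport eA eB hc d, Ideal.map_le_iff_le_comap]
  have hp : (hU.primeIdealOf ⟨x, trivial⟩).asIdeal.comap eB.toRingHom = x.asIdeal := by
    have h1 := hU.fromSpec_primeIdealOf ⟨x, trivial⟩
    rw [IsAffineOpen.fromSpec_top, Scheme.isoSpec_Spec_inv] at h1
    have h2 := congrArg PrimeSpectrum.asIdeal h1
    exact h2
  rw [hp]
  exact Groth.Agent.H3.ClImmSm.not_fitt_le_iff_finrank_le (Ω[B⁄A]) d x.asIdeal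

end SpecFitt

section Main

/-- **Jacobian criterion via dimensions, algebraic form.** -/
theorem isSmoothAt_iff_finrank_le (k S : Type u) [Field k] [CommRing S] [Algebra k S]
    [Algebra.FiniteType k S] (q : Ideal S) [q.IsPrime] :
    Algebra.IsSmoothAt k q ↔
      (((Module.finrank q.ResidueField (q.ResidueField ⊗[S] Ω[S⁄k]) : ℕ) : ℕ∞) : WithBot ℕ∞) ≤
        FlatMor.localDim (PrimeSpectrum S) ⟨q, inferInstance⟩ := by
  haveI : Algebra.FinitePresentation k S := Algebra.FinitePresentation.of_finiteType.mp inferInstance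
  haveI := lfp_spec k S
  let x : Spec (CommRingCat.of S) := ⟨q, inferInstance⟩
  rw [← mem_smoothLocus_spec_iff k S x]
  constructor
  · intro hx
    obtain ⟨n, hn, hnot⟩ := exists_fibreDimAt_and_not_mem_fitt
      (Spec.map (CommRingCat.ofHom (algebraMap k S))) x hx
    have hle := (not_mem_support_fitt_spec_iff k S n x).mp hnot
    have hdim := Groth.Agent.H1.DimFormula.fibreDimAt_eq_localDim_of_field
      (Spec.map (CommRingCat.ofHom (algebraMap k S))) x
    rw [hn] at hdim
    change _ ≤ FlatMor.localDim (Spec (CommRingCat.of S)) x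
    rw [← hdim]
    exact_mod_cast hle
  · intro hle
    exact Groth.Agent.H3.JacSmooth.mem_smoothLocus_of_not_mem_fitt k
      (Spec.map (CommRingCat.ofHom (algebraMap k S))) _ x
      ((not_mem_support_fitt_spec_iff k S _ x).mpr le_rfl) hle

end Main

end Groth.Agent.H3.JacAlg
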