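import Mathlib

set_option autoImplicit false
universe u

namespace Groth.Agent.H3.JacCard

open Cardinal

/-- A field extension of rank smaller than the cardinality of the base field is algebraic. -/
lemma isAlgebraic_of_rank_lt {k L : Type u} [Field k] [Field L] [Algebra k L]
    (h : Module.rank k L < #k) : Algebra.IsAlgebraic k L := by
  refine ⟨fun x => ?_⟩
  by_contra hx
  have hx' : Transcendental k x := hx
  have h2 := hx'.linearIndependent_sub_inv.cardinal_lift_le_rank
  rw [lift_id, lift_id] at h2
  exact absurd (h2.trans_lt h) (lt_irrefl _)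

/-- Rank bound for an algebra generated by a set. -/
lemma rank_le_of_adjoin_eq_top {k A : Type u} [Field k] [CommRing A] [Algebra k A]
    (t : Set A) (ht : Algebra.adjoin k t = ⊤) : Module.rank k A ≤ max #t ℵ₀ := by
  have hsurj : Function.Surjective (MvPolynomial.aeval (R := k) (fun x : t => (x : A))) := by
    rw [← AlgHom.range_eq_top, ← Algebra.adjoin_range_eq_range_aeval, Subtype.range_coe]
    exact ht
  have h1 := LinearMap.rank_le_of_surjective
    (MvPolynomial.aeval (R := k) (fun x : t => (x : A))).toLinearMap hsurj
  rw [MvPolynomial.rank_eq] at h1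
  refine h1.trans ?_
  rcases isEmpty_or_nonempty t with he | hne
  · have : #(t →₀ ℕ) = 1 := by
      rw [Cardinal.eq_one_iff_unique]
      exact ⟨inferInstance, ⟨0⟩⟩
    rw [this]
    exact (one_le_aleph0).trans (le_max_right _ _)
  · rw [Cardinal.mk_finsupp_nat]

/-- Residue fields are algebraic when the generating set is small. -/
lemma isAlgebraic_quotient {k A : Type u} [Field k] [CommRing A] [Algebra k A]
    (t : Set A) (ht : Algebra.adjoin k t = ⊤) (hcard : max #t ℵ₀ < #k)
    (m : Ideal A) [m.IsMaximal] : Algebra.IsAlgebraic k (A ⧸ m) := by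
  letI := Ideal.Quotient.field m
  apply isAlgebraic_of_rank_lt
  have h1 : Module.rank k (A ⧸ m) ≤ Module.rank k A :=
    LinearMap.rank_le_of_surjective (Ideal.Quotient.mkₐ k m).toLinearMap
      (Ideal.Quotient.mkₐ_surjective k m)
  exact (h1.trans (rank_le_of_adjoin_eq_top t ht)).trans_lt hcard

/-- generators of the localization at one element -/
lemma adjoin_away_eq_top {k S : Type u} [Field k] [CommRing S] [Algebra k S]
    (s : Set S) (hs : Algebra.adjoin k s = ⊤) (f : S) :
    Algebra.adjoin k ((algebraMap S (Localization.Away f)) '' s ∪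
      {IsLocalization.Away.invSelf (S := Localization.Away f) f}) = ⊤ := by
  rw [eq_top_iff]
  rintro x -
  set T := Algebra.adjoin k ((algebraMap S (Localization.Away f)) '' s ∪
      {IsLocalization.Away.invSelf (S := Localization.Away f) f}) with hT
  have hS : ∀ a : S, algebraMap S (Localization.Away f) a ∈ T := by
    intro a
    have ha : a ∈ Algebra.adjoin k s := hs ▸ Algebra.mem_top
    induction ha using Algebra.adjoin_induction with
    | mem x hx => exact Algebra.subset_adjoin (Or.inl ⟨x, hx, rfl⟩)
    | algebraMap r =>
      rw [← IsScalarTower.algebraMap_apply]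
      exact Subalgebra.algebraMap_mem _ r
    | add x y _ _ hx hy => rw [map_add]; exact Subalgebra.add_mem _ hx hy
    | mul x y _ _ hx hy => rw [map_mul]; exact Subalgebra.mul_mem _ hx hy
  have hinv : IsLocalization.Away.invSelf (S := Localization.Away f) f ∈ T :=
    Algebra.subset_adjoin (Or.inr rfl)
  obtain ⟨a, n, rfl⟩ : ∃ (a : S) (n : ℕ), x = algebraMap S _ a *
      IsLocalization.Away.invSelf (S := Localization.Away f) f ^ n := by
    obtain ⟨n, a, ha⟩ := IsLocalization.Away.surj f x
    refine ⟨a, n, ?_⟩
    have h1 : algebraMap S (Localization.Away f) f *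
        IsLocalization.Away.invSelf (S := Localization.Away f) f = 1 :=
      IsLocalization.Away.mul_invSelf f
    calc x = x * (algebraMap S (Localization.Away f) f *
          IsLocalization.Away.invSelf (S := Localization.Away f) f) ^ n := by
            rw [h1, one_pow, mul_one]
      _ = (x * algebraMap S (Localization.Away f) f ^ n) *
          IsLocalization.Away.invSelf (S := Localization.Away f) f ^ n := by ring
      _ = _ := by rw [ha]
  exact Subalgebra.mul_mem _ (hS a) (Subalgebra.pow_mem _ hinv n)

theorem main {k S : Type u} [Field k] [CommRing S] [Algebra k S]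
    (s : Set S) (hs : Algebra.adjoin k s = ⊤) (hcard : #s < #k) :
    (∀ (m : Ideal S) [m.IsMaximal], Algebra.IsAlgebraic k (S ⧸ m)) ∧ IsJacobsonRing S := by
  classical
  by_cases hfin : s.Finite
  · haveI : Algebra.FiniteType k S := ⟨⟨hfin.toFinset, by simpa using hs⟩⟩
    refine ⟨fun m hm => ?_, isJacobsonRing_of_finiteType (A := k)⟩
    letI := Ideal.Quotient.field m
    haveI : Module.Finite k (S ⧸ m) := finite_of_finite_type_of_isJacobsonRing k (S ⧸ m)
    exact Algebra.IsAlgebraic.of_finite k (S ⧸ m)
  · have hinf : s.Infinite := hfin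
    have hs0 : ℵ₀ ≤ #s := Cardinal.aleph0_le_mk_iff.mpr hinf.to_subtype
    have hmax : max #s ℵ₀ < #k := by rw [max_eq_left hs0]; exact hcard
    refine ⟨fun m hm => isAlgebraic_quotient s hs hmax m, ?_⟩
    rw [isJacobsonRing_iff_prime_eq]
    intro P hP
    refine le_antisymm ?_ Ideal.le_jacobson
    intro f hf
    by_contra hfP
    -- localize at `f`
    have hdisj : Disjoint (Submonoid.powers f : Set S) (P : Set S) := by
      rw [Set.disjoint_left]
      rintro _ ⟨n, rfl⟩ hn
      exact hfP (hP.mem_of_pow_mem n hn)
    have hPT : P.map (algebraMap S (Localization.Away f)) ≠ ⊤ :=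
      ((IsLocalization.isPrime_of_isPrime_disjoint (Submonoid.powers f) _ P hP hdisj)).ne_top
    obtain ⟨M', hM', hPM'⟩ := Ideal.exists_le_maximal _ hPT
    set t : Set (Localization.Away f) := (algebraMap S (Localization.Away f)) '' s ∪
      {IsLocalization.Away.invSelf (S := Localization.Away f) f} with htdef
    have htop := adjoin_away_eq_top s hs f
    have htcard : max #t ℵ₀ < #k := by
      refine max_lt ?_ (hs0.trans_lt hcard)
      refine lt_of_le_of_lt ?_ hcard
      calc #t ≤ #((algebraMap S (Localization.Away f)) '' s) +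
            #({IsLocalization.Away.invSelf (S := Localization.Away f) f} : Set _) :=
              Cardinal.mk_union_le _ _
        _ ≤ #s + 1 := by
              refine add_le_add Cardinal.mk_image_le ?_
              simp
        _ = #s := Cardinal.add_one_eq hs0
    haveI := isAlgebraic_quotient t htop htcard M'
    set M : Ideal S := M'.comap (algebraMap S (Localization.Away f)) with hMdef
    have hPM : P ≤ M := Ideal.map_le_iff_le_comap.mp hPM'
    have hfM : f ∉ M := by
      intro hfM
      have h1 : algebraMap S (Localization.Away f) f ∈ M' := hfM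
      have hu : IsUnit (algebraMap S (Localization.Away f) f) :=
        IsLocalization.Away.algebraMap_isUnit f
      exact hM'.ne_top (Ideal.eq_top_of_isUnit_mem _ h1 hu)
    -- `S ⧸ M` embeds in `T ⧸ M'`
    let φ : S ⧸ M →ₐ[k] Localization.Away f ⧸ M' :=
      Ideal.quotientMapₐ M' (IsScalarTower.toAlgHom k S (Localization.Away f)) le_rfl
    have hφ : Function.Injective φ := Ideal.quotientMap_injective
    haveI : Algebra.IsAlgebraic k (S ⧸ M) := Algebra.IsAlgebraic.of_injective φ hφ
    haveI : M.IsPrime := Ideal.comap_isPrime _ _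
    haveI : Algebra.IsIntegral k (S ⧸ M) := Algebra.IsAlgebraic.isIntegral
    have hfield : IsField (S ⧸ M) := isField_of_isIntegral_of_isField' (Field.toIsField k)
    haveI : M.IsMaximal := Ideal.Quotient.maximal_of_isField _ hfield
    exact hfM ((Ideal.mem_sInf.mp hf) ⟨hPM, inferInstance⟩)

end Groth.Agent.H3.JacCard
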