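import Mathlib

set_option autoImplicit false
universe u v w

namespace Groth.Agent.H3.JacMinor

open KaehlerDifferential TensorProduct Matrix

section

variable {B : Type*} [CommRing B] {ι κ : Type*} [Fintype ι] [Fintype κ] [DecidableEq κ]

/-- A matrix whose maximal minors generate the unit ideal has a left inverse (as a map on row
vectors): the retraction. -/
noncomputable def retr (M : Matrix κ ι B) (α : (κ → ι) → B) : (ι → B) →ₗ[B] (κ → B) :=
  ∑ cols : κ → ι, α cols •
    ((Matrix.vecMulLinear (Matrix.adjugate (Matrix.of fun j k => M j (cols k)))).comp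
      (LinearMap.funLeft B B cols))

theorem retr_vecMul (M : Matrix κ ι B) (α : (κ → ι) → B)
    (hα : ∑ cols : κ → ι, α cols * Matrix.det (Matrix.of fun j k => M j (cols k)) = 1)
    (c : κ → B) : retr M α (c ᵥ* M) = c := by
  classical
  have h1 : ∀ cols : κ → ι, (LinearMap.funLeft B B cols) (c ᵥ* M) =
      c ᵥ* (Matrix.of fun j k => M j (cols k)) := by
    intro cols
    ext k
    simp [LinearMap.funLeft, Matrix.vecMul, dotProduct]
  simp only [retr, LinearMap.sum_apply, LinearMap.smul_apply, LinearMap.comp_apply, h1,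
    Matrix.vecMulLinear_apply, Matrix.vecMul_vecMul, Matrix.mul_adjugate, Matrix.vecMul_smul,
    Matrix.vecMul_one, smul_smul]
  rw [← Finset.sum_smul, hα, one_smul]

end

/-- Jacobian criterion with a non-square Jacobian matrix: `P` formally smooth over `R` with
`Ω[P/R]` free on `b`, `P → B` surjective with kernel generated modulo its square by `t j`,
and the maximal minors of the Jacobian matrix of `t` generating the unit ideal of `B`.
Then `B` is formally smooth over `R` and `Ω[B/R]` is stably free. -/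
theorem main {R : Type u} {P : Type v} {B : Type w} [CommRing R] [CommRing P] [CommRing B]
    [Algebra R P] [Algebra P B] [Algebra R B] [IsScalarTower R P B] [Algebra.FormallySmooth R P]
    (hPB : Function.Surjective (algebraMap P B))
    {ι κ : Type*} [Fintype ι] [Fintype κ] [DecidableEq κ]
    (b : Module.Basis ι P Ω[P⁄R]) (t : κ → P) (ht : ∀ j, t j ∈ RingHom.ker (algebraMap P B))
    (hgen : RingHom.ker (algebraMap P B) ≤
      Ideal.span (Set.range t) ⊔ (RingHom.ker (algebraMap P B)) ^ 2)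
    (α : (κ → ι) → B)
    (hα : ∑ cols : κ → ι, α cols * Matrix.det (Matrix.of fun j k =>
      algebraMap P B (b.repr (D R P (t j)) (cols k))) = 1) :
    Algebra.FormallySmooth R B ∧ Nonempty ((Ω[B⁄R] × (κ → B)) ≃ₗ[B] (ι → B)) := by
  classical
  set K : Ideal P := RingHom.ker (algebraMap P B) with hK
  let M : Matrix κ ι B := fun j i => algebraMap P B (b.repr (D R P (t j)) i)
  have hα' : ∑ cols : κ → ι, α cols * Matrix.det (Matrix.of fun j k => M j (cols k)) = 1 := hα
  let bB : Module.Basis ι B (B ⊗[P] Ω[P⁄R]) := b.baseChange B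
  let τ : κ → K.Cotangent := fun j => K.toCotangent ⟨t j, ht j⟩
  have hkτ : ∀ j, kerCotangentToTensor R P B (τ j) = 1 ⊗ₜ D R P (t j) := fun j =>
    kerCotangentToTensor_toCotangent R P B ⟨t j, ht j⟩
  have hrepr : ∀ (ω : Ω[P⁄R]) i, bB.repr ((1 : B) ⊗ₜ[P] ω) i = algebraMap P B (b.repr ω i) := by
    intro ω i
    simp only [bB, Module.Basis.baseChange_repr_tmul]
    rw [Algebra.algebraMap_eq_smul_one]
  -- every element of the cotangent space is a combination of the `τ j`
  have hspan : ∀ x : K.Cotangent, ∃ c : κ → P, x = ∑ j, c j • τ j := by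
    intro x
    obtain ⟨⟨y, hy⟩, rfl⟩ := Ideal.toCotangent_surjective _ x
    obtain ⟨y₁, hy₁, y₂, hy₂, hsum⟩ := Submodule.mem_sup.mp (hgen hy)
    obtain ⟨c, hc⟩ := Ideal.mem_span_range_iff_exists_fun.mp hy₁
    refine ⟨c, ?_⟩
    have h1 : ∑ j, c j • τ j = K.toCotangent (∑ j, c j • (⟨t j, ht j⟩ : K)) := by
      simp only [τ, map_sum, map_smul]
    rw [h1, Ideal.toCotangent_eq]
    have h2 : ((∑ j, c j • (⟨t j, ht j⟩ : K) : K) : P) = y₁ := by
      rw [← hc]
      simp
    rw [h2]
    have h3 : y - y₁ = y₂ := by rw [← hsum]; ring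
    show y - y₁ ∈ K ^ 2
    rw [h3]
    exact hy₂
  have hkk : ∀ (c : κ → P) i, bB.repr (kerCotangentToTensor R P B (∑ j, c j • τ j)) i =
      ((fun j => algebraMap P B (c j)) ᵥ* M) i := by
    intro c i
    simp only [map_sum, map_smul, hkτ]
    have h1 : ∀ j, c j • ((1 : B) ⊗ₜ[P] D R P (t j)) =
        algebraMap P B (c j) • ((1 : B) ⊗ₜ[P] D R P (t j)) := fun j =>
      (algebraMap_smul B (c j) _).symm
    simp only [h1, map_smul, Finsupp.coe_finsetSum, Finsupp.coe_smul, Finset.sum_apply,
      Pi.smul_apply, hrepr, smul_eq_mul, Matrix.vecMul, dotProduct, M]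
  -- injectivity
  have hinj : Function.Injective (kerCotangentToTensor R P B) := by
    rw [injective_iff_map_eq_zero]
    intro x hx
    obtain ⟨c, rfl⟩ := hspan x
    have h0 : (fun j => algebraMap P B (c j)) ᵥ* M = 0 := by
      funext i
      rw [← hkk c i, hx]
      simp
    have h1 := retr_vecMul M α hα' (fun j => algebraMap P B (c j))
    rw [h0, map_zero] at h1
    refine Finset.sum_eq_zero fun j _ => ?_
    have hcj : c j ∈ K := by
      rw [hK, RingHom.mem_ker]
      exact (congrFun h1 j).symm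
    simp only [τ, ← map_smul]
    rw [Ideal.toCotangent_eq_zero]
    simp only [SetLike.val_smul, smul_eq_mul, pow_two]
    exact Ideal.mul_mem_mul hcj (ht j)
  have hH1 : Subsingleton (Algebra.H1Cotangent R B) :=
    (Algebra.FormallySmooth.kerCotangentToTensor_injective_iff hPB).mp hinj
  -- the presentation of `Ω[B/R]`
  let π : (ι → B) →ₗ[B] Ω[B⁄R] := (mapBaseChange R P B).comp bB.equivFun.symm.toLinearMap
  let Φ : (κ → B) →ₗ[B] (ι → B) := Matrix.vecMulLinear M
  let Ψ : (ι → B) →ₗ[B] (κ → B) := retr M α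
  have hΨΦ : ∀ c, Ψ (Φ c) = c := fun c => retr_vecMul M α hα' c
  have hsymm : ∀ j, bB.equivFun.symm (M j) = (1 : B) ⊗ₜ[P] D R P (t j) := by
    intro j
    rw [LinearEquiv.symm_apply_eq]
    funext i
    rw [Module.Basis.equivFun_apply, hrepr]
  have hπM : ∀ j, π (M j) = 0 := by
    intro j
    simp only [π, LinearMap.comp_apply, LinearEquiv.coe_coe, hsymm, mapBaseChange_tmul, one_smul,
      map_D]
    rw [(RingHom.mem_ker).mp (ht j), map_zero]
  have hπΦ : ∀ c, π (Φ c) = 0 := by
    intro c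
    have : Φ c = ∑ j, c j • M j := by
      funext i
      simp [Φ, Matrix.vecMul, dotProduct]
    rw [this, map_sum]
    exact Finset.sum_eq_zero fun j _ => by rw [map_smul, hπM, smul_zero]
  have hπsurj : Function.Surjective π :=
    (mapBaseChange_surjective R P B hPB).comp bB.equivFun.symm.surjective
  have hker : ∀ z, π z = 0 → ∃ c, z = Φ c := by
    intro z hz
    obtain ⟨x, hx⟩ := (exact_kerCotangentToTensor_mapBaseChange R P B hPB _).mp hz
    obtain ⟨c, rfl⟩ := hspan x
    refine ⟨fun j => algebraMap P B (c j), ?_⟩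
    have h2 : z = bB.equivFun (kerCotangentToTensor R P B (∑ j, c j • τ j)) := by
      rw [hx]
      exact (bB.equivFun.apply_symm_apply z).symm
    funext i
    rw [h2, Module.Basis.equivFun_apply, hkk]
    rfl
  let G : (ι → B) →ₗ[B] Ω[B⁄R] × (κ → B) := π.prod Ψ
  have hGinj : Function.Injective G := by
    rw [injective_iff_map_eq_zero]
    intro z hz
    have h1 : π z = 0 := congrArg Prod.fst hz
    have h2 : Ψ z = 0 := congrArg Prod.snd hz
    obtain ⟨c, rfl⟩ := hker z h1
    rw [hΨΦ] at h2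
    rw [h2, map_zero]
  have hGsurj : Function.Surjective G := by
    rintro ⟨ω, c⟩
    obtain ⟨z₀, rfl⟩ := hπsurj ω
    refine ⟨z₀ - Φ (Ψ z₀) + Φ c, ?_⟩
    show (π (z₀ - Φ (Ψ z₀) + Φ c), Ψ (z₀ - Φ (Ψ z₀) + Φ c)) = (π z₀, c)
    rw [map_add, map_sub, hπΦ, hπΦ, map_add, map_sub, hΨΦ, hΨΦ]
    simp
  let e : (Ω[B⁄R] × (κ → B)) ≃ₗ[B] (ι → B) := (LinearEquiv.ofBijective G ⟨hGinj, hGsurj⟩).symm
  refine ⟨⟨?_, hH1⟩, ⟨e⟩⟩
  exact Module.Projective.of_split (e.toLinearMap.comp (LinearMap.inl B _ _))
    ((LinearMap.fst B _ _).comp e.symm.toLinearMap) (by ext x; simp)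

end Groth.Agent.H3.JacMinor
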