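import Mathlib

/-! Morphisms out of `Spec D` are determined by their restrictions along two jointly injective ring
maps `D → C₁`, `D → C₂`, the first of which is surjective on spectra (no separatedness needed). -/

universe u

open CategoryTheory AlgebraicGeometry Limits

namespace Groth.Agent.H3.JointMono

theorem hom_ext_of_joint {D C₁ C₂ : CommRingCat.{u}} (p₁ : D ⟶ C₁) (p₂ : D ⟶ C₂)
    (hinj : ∀ x : D, p₁.hom x = 0 → p₂.hom x = 0 → x = 0)
    (hsurj : ∀ d : Spec D, ∃ c : Spec C₁, Spec.map p₁ c = d)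
    {X : Scheme.{u}} (a a' : Spec D ⟶ X) (h₁ : Spec.map p₁ ≫ a = Spec.map p₁ ≫ a')
    (h₂ : Spec.map p₂ ≫ a = Spec.map p₂ ≫ a') : a = a' := by
  let l₁ : Spec C₁ ⟶ equalizer a a' := equalizer.lift (Spec.map p₁) h₁
  let l₂ : Spec C₂ ⟶ equalizer a a' := equalizer.lift (Spec.map p₂) h₂
  have hl₁ : l₁ ≫ equalizer.ι a a' = Spec.map p₁ := equalizer.lift_ι _ _
  have hl₂ : l₂ ≫ equalizer.ι a a' = Spec.map p₂ := equalizer.lift_ι _ _
  have hs : Function.Surjective (equalizer.ι a a') := by
    intro d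
    obtain ⟨c, rfl⟩ := hsurj d
    refine ⟨l₁ c, ?_⟩
    rw [← Scheme.Hom.comp_apply, hl₁]
  have hcl : IsClosedImmersion (equalizer.ι a a') :=
    .of_isPreimmersion _ (by rw [Set.range_eq_univ.mpr hs]; exact isClosed_univ)
  have hiso : IsIso (equalizer.ι a a') := by
    refine IsClosedImmersion.isIso_of_injective_of_isAffine ?_
    rw [injective_iff_map_eq_zero]
    intro x hx
    have key : ∀ {C : CommRingCat.{u}} (p : D ⟶ C) (l : Spec C ⟶ equalizer a a'),
        l ≫ equalizer.ι a a' = Spec.map p → p.hom ((Scheme.ΓSpecIso D).hom.hom x) = 0 := by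
      intro C p l hl
      have h3 : (Spec.map p).appTop.hom x = 0 := by
        rw [← hl, Scheme.Hom.comp_appTop, CommRingCat.hom_comp, RingHom.comp_apply]
        rw [hx, map_zero]
      have h4 := congrArg (fun φ => φ.hom x) (Scheme.ΓSpecIso_naturality p)
      simp only [CommRingCat.hom_comp, RingHom.comp_apply] at h4
      rw [← h4, h3, map_zero]
    have h5 := hinj _ (key p₁ l₁ hl₁) (key p₂ l₂ hl₂)
    have hinj' : Function.Injective (Scheme.ΓSpecIso D).hom.hom :=
      (ConcreteCategory.bijective_of_isIso (Scheme.ΓSpecIso D).hom).1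
    exact hinj' (h5.trans (map_zero _).symm)
  exact (cancel_epi (equalizer.ι a a')).mp (equalizer.condition a a')

end Groth.Agent.H3.JointMono
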