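import Groth.Prelude.Def_KZero2
import Mathlib.CategoryTheory.Triangulated.Pretriangulated
import Mathlib.CategoryTheory.Limits.Preserves.Shapes.Products
import Mathlib.Tactic.Ring

/-!
Basic lemmas on `KZero.K0tri C` and the Eilenberg swindle.
-/

open CategoryTheory CategoryTheory.Limits CategoryTheory.Pretriangulated ZeroObject

namespace Groth.Agent.H3.K0Tri

universe v u
variable {C : Type u} [Category.{v} C] [Preadditive C] [HasZeroObject C]
  [HasShift C ℤ] [∀ n : ℤ, (shiftFunctor C n).Additive] [Pretriangulated C]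

lemma clTri_of_dist (T : Triangle C) (hT : T ∈ distTriang C) :
    KZero.clTri T.obj₂ = KZero.clTri T.obj₁ + KZero.clTri T.obj₃ := by
  have : FreeAbelianGroup.of (⟨T.obj₂, trivial⟩ : Subtype (⊤ : ObjectProperty C))
      - FreeAbelianGroup.of ⟨T.obj₁, trivial⟩ - FreeAbelianGroup.of ⟨T.obj₃, trivial⟩ ∈
      KZero.relTr (⊤ : ObjectProperty C) :=
    AddSubgroup.subset_closure ⟨T, trivial, trivial, trivial, hT, rfl⟩
  have h2 := (QuotientAddGroup.eq_zero_iff _).2 this
  simp only [QuotientAddGroup.mk_sub] at h2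
  unfold KZero.clTri
  rw [sub_sub, sub_eq_zero] at h2
  exact h2

lemma clTri_zero : KZero.clTri (0 : C) = 0 := by
  have h := clTri_of_dist _ (contractible_distinguished (0 : C))
  dsimp [contractibleTriangle] at h
  simpa using h

lemma clTri_of_iso {X Y : C} (e : X ≅ Y) : KZero.clTri X = KZero.clTri Y := by
  have hT : Triangle.mk e.hom (0 : Y ⟶ 0) 0 ∈ distTriang C :=
    isomorphic_distinguished _ (contractible_distinguished X) _
      (Triangle.isoMk _ _ (Iso.refl _) e.symm (Iso.refl _)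
        ((e.hom_inv_id).trans (Category.id_comp _).symm)
        (zero_comp.trans comp_zero.symm) (zero_comp.trans comp_zero.symm))
  have h := clTri_of_dist _ hT
  change KZero.clTri Y = KZero.clTri X + KZero.clTri (0 : C) at h
  rw [h, clTri_zero, add_zero]

lemma clTri_shift_one (X : C) : KZero.clTri (X⟦(1 : ℤ)⟧) = - KZero.clTri X := by
  have h := clTri_of_dist _ (contractible_distinguished₂ X)
  change KZero.clTri (0 : C) = KZero.clTri X + KZero.clTri (X⟦(1 : ℤ)⟧) at h
  rw [clTri_zero] at h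
  rw [eq_neg_iff_add_eq_zero, add_comm]
  exact h.symm

lemma clTri_shift_succ (X : C) (m : ℤ) :
    KZero.clTri (X⟦m + 1⟧) = - KZero.clTri (X⟦m⟧) := by
  rw [← clTri_shift_one]
  exact clTri_of_iso ((shiftFunctorAdd' C m 1 (m + 1) rfl).app X)

lemma clTri_shift_two_mul (X : C) (k : ℤ) : KZero.clTri (X⟦2 * k⟧) = KZero.clTri X := by
  induction k using Int.induction_on with
  | zero =>
    exact clTri_of_iso ((shiftFunctorZero' C (2 * 0) (by simp)).app X)
  | succ i ih =>
    have e : (2 : ℤ) * ((i : ℤ) + 1) = 2 * i + 1 + 1 := by ring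
    rw [e, clTri_shift_succ, clTri_shift_succ, neg_neg, ih]
  | pred i ih =>
    have e : (2 : ℤ) * (-(i : ℤ)) = 2 * (-(i : ℤ) - 1) + 1 + 1 := by ring
    rw [e, clTri_shift_succ, clTri_shift_succ, neg_neg] at ih
    exact ih

lemma clTri_shift_even (X : C) (m k : ℤ) (h : m = 2 * k) : KZero.clTri (X⟦m⟧) = KZero.clTri X := by
  subst h; exact clTri_shift_two_mul X k

lemma clTri_biprod (X Y : C) : KZero.clTri (X ⊞ Y) = KZero.clTri X + KZero.clTri Y := by
  have h := clTri_of_dist _ (binaryBiproductTriangle_distinguished X Y)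
  dsimp [binaryBiproductTriangle] at h
  exact h

/-- Eilenberg swindle. -/
theorem clTri_eq_zero_of_hasCoproduct_shifts (L : C) (n : ℤ)
    [HasCoproduct (fun i : ℕ => (shiftFunctor C (2 * n * (i : ℤ))).obj L)] :
    KZero.clTri L = 0 := by
  let f : ℕ → C := fun i => (shiftFunctor C (2 * n * (i : ℤ))).obj L
  let M : C := ∐ f
  let G : C ⥤ C := shiftFunctor C (2 * n)
  let iso : ∀ i : ℕ, f (i + 1) ≅ G.obj (f i) := fun i =>
    (shiftFunctorAdd' C (2 * n * (i : ℤ)) (2 * n) (2 * n * ((i + 1 : ℕ) : ℤ))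
      (by push_cast; ring)).app L
  have hc : IsColimit (Cofan.mk (G.obj M) (fun i : ℕ => G.map (Sigma.ι f i)) :
      Cofan fun i => G.obj (f i)) := isColimitOfHasCoproductOfPreservesColimit G f
  -- morphisms
  let φ : ∀ i : ℕ, f (i + 1) ⟶ G.obj M := fun i => (iso i).hom ≫ G.map (Sigma.ι f i)
  let ψ : G.obj M ⟶ M := Cofan.IsColimit.desc hc (fun i => (iso i).inv ≫ Sigma.ι f (i + 1))
  have hψ : ∀ i, G.map (Sigma.ι f i) ≫ ψ = (iso i).inv ≫ Sigma.ι f (i + 1) := fun i =>
    Cofan.IsColimit.fac hc _ i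
  let a : ∀ i : ℕ, f i ⟶ f 0 ⊞ G.obj M := fun i =>
    match i with
    | 0 => biprod.inl
    | (j + 1) => φ j ≫ biprod.inr
  let hom : M ⟶ f 0 ⊞ G.obj M := Sigma.desc a
  let inv : f 0 ⊞ G.obj M ⟶ M := biprod.desc (Sigma.ι f 0) ψ
  have h1 : hom ≫ inv = 𝟙 M := by
    refine Sigma.hom_ext _ _ (fun i => ?_)
    rw [Sigma.ι_desc_assoc, Category.comp_id]
    match i with
    | 0 => exact biprod.inl_desc _ _
    | (j + 1) =>
      change (φ j ≫ biprod.inr) ≫ biprod.desc (Sigma.ι f 0) ψ = _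
      rw [Category.assoc, biprod.inr_desc]
      change ((iso j).hom ≫ G.map (Sigma.ι f j)) ≫ ψ = _
      rw [Category.assoc, hψ, Iso.hom_inv_id_assoc]
  have h2 : inv ≫ hom = 𝟙 _ := by
    refine biprod.hom_ext' _ _ ?_ ?_
    · rw [biprod.inl_desc_assoc, Category.comp_id]
      exact Sigma.ι_desc a 0
    · rw [biprod.inr_desc_assoc, Category.comp_id]
      refine Cofan.IsColimit.hom_ext hc _ _ (fun i => ?_)
      change G.map (Sigma.ι f i) ≫ ψ ≫ hom = G.map (Sigma.ι f i) ≫ biprod.inr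
      rw [reassoc_of% (hψ i)]
      have : Sigma.ι f (i + 1) ≫ hom = φ i ≫ biprod.inr := Sigma.ι_desc a (i + 1)
      rw [this]
      change (iso i).inv ≫ ((iso i).hom ≫ G.map (Sigma.ι f i)) ≫ biprod.inr = _
      rw [Category.assoc, Iso.inv_hom_id_assoc]
  let e : M ≅ f 0 ⊞ G.obj M := ⟨hom, inv, h1, h2⟩
  have hM : KZero.clTri M = KZero.clTri (f 0) + KZero.clTri M := by
    conv_lhs => rw [clTri_of_iso e, clTri_biprod]
    congr 1
    exact clTri_shift_even M (2 * n) n rfl
  have hf0 : KZero.clTri (f 0) = KZero.clTri L :=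
    clTri_shift_even L _ (n * ((0 : ℕ) : ℤ)) (by ring)
  rw [← hf0]
  have := hM
  rw [eq_comm, add_eq_right] at this
  exact this

end Groth.Agent.H3.K0Tri
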