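import Mathlib

set_option autoImplicit false
universe v u
open CategoryTheory CategoryTheory.Limits CochainComplex CochainComplex.HomComplex

namespace Groth.Agent.H3.KInj

variable {A : Type u} [Category.{v} A] [Abelian A]

/-- degreewise short exactness of a short exact sequence of complexes. -/
lemma shortExact_eval (S : ShortComplex (CochainComplex A ℤ)) (hS : S.ShortExact) (p : ℤ) :
    (S.map (HomologicalComplex.eval A (ComplexShape.up ℤ) p)).ShortExact :=
  hS.map_of_exact _

/-- (⇒): extension property of K-injective complexes with injective terms. -/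
theorem exists_extension (I : CochainComplex A ℤ) [I.IsKInjective] (hI : ∀ n : ℤ, Injective (I.X n))
    (S : ShortComplex (CochainComplex A ℤ)) (hS : S.ShortExact) (hac : S.X₃.Acyclic)
    (φ : S.X₁ ⟶ I) : ∃ ψ : S.X₂ ⟶ I, S.f ≫ ψ = φ := by
  have hSp := shortExact_eval S hS
  haveI : ∀ p, Mono (S.f.f p) := fun p => (hSp p).mono_f
  haveI : ∀ p, Epi (S.g.f p) := fun p => (hSp p).epi_g
  -- step 1: the cochain β
  let β : Cochain S.X₂ I 0 := Cochain.ofHoms (fun p => Injective.factorThru (φ.f p) (S.f.f p))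
  have hβ : (Cochain.ofHom S.f).comp β (add_zero 0) = Cochain.ofHom φ := by
    ext p
    rw [Cochain.comp_zero_cochain_v, Cochain.ofHom_v, Cochain.ofHoms_v, Cochain.ofHom_v,
      Injective.comp_factorThru]
  -- step 2: δβ vanishes on X₁
  have h2 : (Cochain.ofHom S.f).comp (δ 0 1 β) (zero_add 1) = 0 := by
    rw [← δ_ofHom_comp, hβ, δ_ofHom]
  have h2v : ∀ p q (hpq : p + 1 = q), S.f.f p ≫ (δ 0 1 β).v p q hpq = 0 := by
    intro p q hpq
    have := Cochain.congr_v h2 p q hpq
    rwa [Cochain.zero_cochain_comp_v, Cochain.ofHom_v, Cochain.zero_v] at this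
  haveI : ∀ p, Epi (S.map (HomologicalComplex.eval A (ComplexShape.up ℤ) p)).g :=
    fun p => (hSp p).epi_g
  let γ : Cochain S.X₃ I 1 := Cochain.mk (fun p q hpq =>
    (hSp p).exact.desc ((δ 0 1 β).v p q hpq) (h2v p q hpq))
  have hγ : (Cochain.ofHom S.g).comp γ (zero_add 1) = δ 0 1 β := by
    ext p q hpq
    rw [Cochain.zero_cochain_comp_v, Cochain.ofHom_v, Cochain.mk_v]
    exact (hSp p).exact.g_desc _ _
  -- step 3: γ is a cocycle
  have hδγ : δ 1 2 γ = 0 := by
    have h3 : (Cochain.ofHom S.g).comp (δ 1 2 γ) (zero_add 2) = 0 := by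
      rw [← δ_ofHom_comp, hγ, δ_δ]
    ext p q hpq
    have := Cochain.congr_v h3 p q hpq
    rw [Cochain.zero_cochain_comp_v, Cochain.ofHom_v, Cochain.zero_v] at this
    rw [Cochain.zero_v, ← cancel_epi (S.g.f p), this, comp_zero]
  -- step 4: γ is a coboundary
  obtain ⟨ε, hε⟩ := IsKInjective.eq_δ_of_cocycle (Cocycle.mk γ 2 (by norm_num) hδγ) hac 0
    (by norm_num)
  change δ 0 1 ε = γ at hε
  -- step 5: the cocycle
  let ψc : Cochain S.X₂ I 0 := β - (Cochain.ofHom S.g).comp ε (zero_add 0)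
  have hψc : δ 0 1 ψc = 0 := by
    rw [δ_sub, δ_ofHom_comp, hε, hγ, sub_self]
  refine ⟨Cocycle.homOf (Cocycle.mk ψc 1 (by norm_num) hψc), ?_⟩
  apply Cochain.ofHom_injective
  rw [Cochain.ofHom_comp, Cocycle.cochain_ofHom_homOf_eq_coe]
  change (Cochain.ofHom S.f).comp ψc (zero_add 0) = _
  rw [Cochain.comp_sub, hβ, ← Cochain.comp_assoc_of_first_is_zero_cochain, ← Cochain.ofHom_comp,
    S.zero, Cochain.ofHom_zero, Cochain.zero_comp, sub_zero]

/-- a contractible complex is acyclic. -/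
lemma acyclic_of_homotopy_id_zero (K : CochainComplex A ℤ) (h : Homotopy (𝟙 K) 0) : K.Acyclic := by
  intro n
  rw [HomologicalComplex.exactAt_iff_isZero_homology, IsZero.iff_id_eq_zero,
    ← HomologicalComplex.homologyMap_id, h.homologyMap_eq n, HomologicalComplex.homologyMap_zero]

/-- two-out-of-three for acyclicity. -/
lemma acyclic_X₃ (S : ShortComplex (CochainComplex A ℤ)) (hS : S.ShortExact)
    (h1 : S.X₁.Acyclic) (h2 : S.X₂.Acyclic) : S.X₃.Acyclic := by
  intro n
  rw [HomologicalComplex.exactAt_iff_isZero_homology]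
  have hex := hS.homology_exact₃ n (n + 1) rfl
  exact hex.isZero_of_both_zeros
    (((HomologicalComplex.exactAt_iff_isZero_homology _ _).1 (h2 n)).eq_of_src _ _)
    (((HomologicalComplex.exactAt_iff_isZero_homology _ _).1 (h1 (n + 1))).eq_of_tgt _ _)

/-- a monomorphism of complexes with its cokernel, as a short exact sequence. -/
lemma shortExact_cokernel {K L : CochainComplex A ℤ} (i : K ⟶ L) [Mono i] :
    (ShortComplex.mk i (cokernel.π i) (cokernel.condition i)).ShortExact :=
  ShortComplex.ShortExact.mk' (ShortComplex.exact_cokernel i) inferInstance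
    (inferInstanceAs (Epi (cokernel.π i)))

/-- (⇐), first half: the extension property implies K-injectivity. -/
theorem isKInjective_of_extension (I : CochainComplex A ℤ)
    (hext : ∀ (S : ShortComplex (CochainComplex A ℤ)), S.ShortExact → S.X₃.Acyclic →
        ∀ φ : S.X₁ ⟶ I, ∃ ψ : S.X₂ ⟶ I, S.f ≫ ψ = φ) : I.IsKInjective := by
  constructor
  intro K φ hK
  let i := mappingCone.inr (𝟙 K)
  haveI : ∀ n, Mono (i.f n) := fun n =>
    SplitMono.mono ⟨(mappingCone.snd (𝟙 K)).v n n (add_zero n), by simp [i]⟩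
  haveI : Mono i := HomologicalComplex.mono_of_mono_f _ inferInstance
  have hS := shortExact_cokernel i
  have h₀ : Homotopy (𝟙 (mappingCone (𝟙 K))) 0 :=
    mappingCone.liftHomotopy _ _ _ (mappingCone.snd _) 0 (by simp) (by simp)
  have hcone := acyclic_of_homotopy_id_zero _ h₀
  have h3 := acyclic_X₃ _ hS hK hcone
  obtain ⟨ψ, hψ⟩ := hext _ hS h3 φ
  change i ≫ ψ = φ at hψ
  exact ⟨(Homotopy.ofEq (by simp [← hψ])).trans
    (((h₀.compLeft i).compRight ψ).trans (Homotopy.ofEq (by simp)))⟩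

section Double
open HomologicalComplex

variable (n : ℤ)

lemma rel_n : (ComplexShape.up ℤ).Rel n (n + 1) := rfl

lemma ne_n : n ≠ n + 1 := by omega

/-- the disc complex `X = X` in degrees `n`, `n + 1`. -/
noncomputable abbrev D (X : A) : CochainComplex A ℤ := double (𝟙 X) (rel_n n)

lemma D_acyclic (X : A) : (D n X).Acyclic := by
  intro k
  rw [(D n X).exactAt_iff' (k - 1) k (k + 1) (by simp) (by simp)]
  by_cases h0 : k = n
  · subst h0
    have hf : ((D k X).sc' (k - 1) k (k + 1)).f = 0 :=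
      double_d_eq_zero₁ (𝟙 X) (rel_n k) (k - 1) k (ne_n k)
    rw [ShortComplex.exact_iff_mono _ hf]
    change Mono ((D k X).d k (k + 1))
    rw [double_d _ _ (ne_n k)]
    infer_instance
  · by_cases h1 : k = n + 1
    · subst h1
      have hg : ((D n X).sc' (n + 1 - 1) (n + 1) (n + 1 + 1)).g = 0 :=
        double_d_eq_zero₀ (𝟙 X) (rel_n n) (n + 1) (n + 1 + 1) (ne_n n).symm
      rw [ShortComplex.exact_iff_epi _ hg]
      change Epi ((D n X).d (n + 1 - 1) (n + 1))
      have : n + 1 - 1 = n := by omega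
      rw [this, double_d _ _ (ne_n n)]
      infer_instance
    · exact ShortComplex.exact_of_isZero_X₂ _ (isZero_double_X (𝟙 X) (rel_n n) k h0 h1)

/-- functoriality of the disc complex. -/
noncomputable def Dmap {X Y : A} (h : X ⟶ Y) : D n X ⟶ D n Y :=
  mkHomFromDouble (rel_n n) (ne_n n) (h ≫ (doubleXIso₀ (𝟙 Y) (rel_n n)).inv)
    (h ≫ (doubleXIso₁ (𝟙 Y) (rel_n n) (ne_n n)).inv)
    (by rw [double_d _ _ (ne_n n)]; simp)
    (fun k _ => by rw [double_d_eq_zero₀ _ _ _ _ (ne_n n).symm, comp_zero])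

instance mono_Dmap {X Y : A} (h : X ⟶ Y) [Mono h] : Mono (Dmap n h) := by
  apply HomologicalComplex.mono_of_mono_f
  intro k
  by_cases h0 : k = n
  · subst h0
    rw [Dmap, mkHomFromDouble_f₀]
    infer_instance
  · by_cases h1 : k = n + 1
    · subst h1
      rw [Dmap, mkHomFromDouble_f₁]
      infer_instance
    · exact ⟨fun a b _ => (isZero_double_X (𝟙 X) (rel_n n) k h0 h1).eq_of_tgt a b⟩

/-- (⇐), second half: the extension property implies that the terms are injective. -/
theorem injective_of_extension (I : CochainComplex A ℤ)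
    (hext : ∀ (S : ShortComplex (CochainComplex A ℤ)), S.ShortExact → S.X₃.Acyclic →
        ∀ φ : S.X₁ ⟶ I, ∃ ψ : S.X₂ ⟶ I, S.f ≫ ψ = φ) : Injective (I.X n) := by
  constructor
  intro X Y g h _
  have hS := shortExact_cokernel (Dmap n h)
  have h3 := acyclic_X₃ _ hS (D_acyclic n X) (D_acyclic n Y)
  let φ : D n X ⟶ I := mkHomFromDouble (rel_n n) (ne_n n) g (g ≫ I.d n (n + 1)) (by simp)
    (by simp)
  obtain ⟨ψ, hψ⟩ := hext _ hS h3 φ
  change Dmap n h ≫ ψ = φ at hψ
  refine ⟨(doubleXIso₀ (𝟙 Y) (rel_n n)).inv ≫ ψ.f n, ?_⟩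
  have := congrArg (fun t => t.f n) hψ
  simp only [HomologicalComplex.comp_f, Dmap, φ, mkHomFromDouble_f₀, Category.assoc] at this
  rwa [cancel_epi] at this

end Double

end Groth.Agent.H3.KInj
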