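import Mathlib
import Groth.Prelude.Def_DerSch2
/-! helper3: small lemmas on ring-level tor amplitude (SGA6 cluster). -/
set_option autoImplicit false
universe u
open CategoryTheory CategoryTheory.Limits AlgebraicGeometry
attribute [local instance] HasDerivedCategory.standard

namespace Groth.Agent.H3.KSixAux

theorem hasTorAmplitudeIn_mono (A : Type u) [CommRing A] {a b a' b' : ℤ} (K : Dual.D A)
    (h : DRing.HasTorAmplitudeIn A a b K) (ha : a' ≤ a) (hb : b ≤ b') :
    DRing.HasTorAmplitudeIn A a' b' K := by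
  obtain ⟨E, hE, hfl, hiso⟩ := h
  refine ⟨E, fun i hi => hE i ?_, hfl, hiso⟩
  rcases hi with hi | hi
  · exact Or.inl (lt_of_lt_of_le hi ha)
  · exact Or.inr (lt_of_le_of_lt hb hi)

end Groth.Agent.H3.KSixAux
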