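import Mathlib
import Groth.Agent.Lib.Helper3.ClosedSub

set_option autoImplicit false

open CategoryTheory Limits AlgebraicGeometry

universe u

namespace Groth.Agent.H3.KerBC

variable {X Y Y' : Scheme.{u}}

theorem ker_pullback_snd (f : X ⟶ Y) (g : Y' ⟶ Y) [QuasiCompact f] [Flat g] :
    (pullback.snd f g).ker = f.ker.comap g := by
  haveI := ClosedSub.isSchemeTheoreticallyDominant_toImage f
  obtain ⟨j, hj⟩ : ∃ j, j = f.imageι := ⟨_, rfl⟩
  obtain ⟨t, ht⟩ : ∃ t, t = f.toImage := ⟨_, rfl⟩
  have htj : t ≫ j = f := by rw [hj, ht, Scheme.Hom.toImage_imageι]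
  haveI : IsClosedImmersion j := by rw [hj]; infer_instance
  haveI : IsSchemeTheoreticallyDominant t := by rw [ht]; infer_instance
  haveI : QuasiCompact t := by rw [ht]; infer_instance
  have hjker : j.ker = f.ker := by rw [hj, Scheme.IdealSheafData.ker_subschemeι]
  have hcomm : pullback.snd f g ≫ g = (pullback.fst f g ≫ t) ≫ j := by
    rw [Category.assoc, htj, pullback.condition]
  obtain ⟨m, hm⟩ : ∃ m, m = pullback.lift (pullback.snd f g) (pullback.fst f g ≫ t) hcomm := ⟨_, rfl⟩
  have hm1 : m ≫ pullback.fst g j = pullback.snd f g := by rw [hm, pullback.lift_fst]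
  have hm2 : m ≫ pullback.snd g j = pullback.fst f g ≫ t := by rw [hm, pullback.lift_snd]
  have big : IsPullback (m ≫ pullback.fst g j) (pullback.fst f g) g (t ≫ j) := by
    rw [hm1, htj]
    exact (IsPullback.of_hasPullback f g).flip
  have sq : IsPullback m (pullback.fst f g) (pullback.snd g j) t :=
    IsPullback.of_right big hm2 (IsPullback.of_hasPullback g j)
  haveI : IsSchemeTheoreticallyDominant m := IsSchemeTheoreticallyDominant.of_isPullback sq.flip
  rw [← hm1, Scheme.Hom.ker_comp, m.ker_eq_bot, Scheme.IdealSheafData.map_bot,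
    Scheme.IdealSheafData.ker_fst_of_isClosedImmersion, hjker]

end Groth.Agent.H3.KerBC
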