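import Mathlib
import Groth.Prelude.Def_AlgGrp
import Groth.Agent.Lib.Helper3.AntiAff.ActPt
import Groth.Agent.Lib.Helper3.AntiAff.FibreComp

/-!
# Translations of a `G`-scheme by rational points, and equivariance of orbit maps
-/

set_option autoImplicit false

open CategoryTheory Limits AlgebraicGeometry MonoidalCategory CartesianMonoidalCategory MonObj

universe u

namespace Groth.Agent.H3.OrbTrans

open Groth.Agent.H3.ActPt Groth.Agent.H3.AntiAff

variable {k : Type u} [Field k]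
variable {G X : Over (Spec (CommRingCat.of k))} [GrpObj G]

/-- translation of `X` by a rational point of `G` -/
noncomputable def tact (a : AlgGrp.Action G X) (σ : 𝟙_ (Over (Spec (CommRingCat.of k))) ⟶ G) :
    X ⟶ X :=
  lift (toUnit X ≫ σ) (𝟙 X) ≫ a.act

lemma comp_tact (a : AlgGrp.Action G X) (σ : 𝟙_ (Over (Spec (CommRingCat.of k))) ⟶ G)
    {T : Over (Spec (CommRingCat.of k))} (z : T ⟶ X) :
    z ≫ tact a σ = lift (toUnit T ≫ σ) z ≫ a.act := by
  rw [tact, ← Category.assoc, comp_lift, Category.comp_id, ← Category.assoc]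
  congr 3
  exact toUnit_unique _ _

lemma tact_one (a : AlgGrp.Action G X) : tact a 1 = 𝟙 X := by
  have h := comp_tact a 1 (𝟙 X)
  rw [Category.id_comp] at h
  rw [h]
  have h1 : toUnit X ≫ (1 : 𝟙_ (Over (Spec (CommRingCat.of k))) ⟶ G) = toUnit X ≫ η[G] := by
    rw [Hom.one_def, ← Category.assoc]
    congr 1
  rw [h1, one_pt]

lemma tact_mul (a : AlgGrp.Action G X) (σ τ : 𝟙_ (Over (Spec (CommRingCat.of k))) ⟶ G) :
    tact a (σ * τ) = tact a τ ≫ tact a σ := by
  rw [comp_tact a σ (tact a τ)]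
  have h := comp_tact a (σ * τ) (𝟙 X)
  rw [Category.id_comp] at h
  rw [h, MonObj.comp_mul, mul_pt]
  congr 2

lemma tact_inv_comp (a : AlgGrp.Action G X) (σ : 𝟙_ (Over (Spec (CommRingCat.of k))) ⟶ G) :
    tact a σ⁻¹ ≫ tact a σ = 𝟙 X := by
  rw [← tact_mul, _root_.mul_inv_cancel, tact_one]

lemma tact_comp_inv (a : AlgGrp.Action G X) (σ : 𝟙_ (Over (Spec (CommRingCat.of k))) ⟶ G) :
    tact a σ ≫ tact a σ⁻¹ = 𝟙 X := by
  rw [← tact_mul, _root_.inv_mul_cancel, tact_one]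

instance isIso_tact (a : AlgGrp.Action G X) (σ : 𝟙_ (Over (Spec (CommRingCat.of k))) ⟶ G) :
    IsIso (tact a σ) :=
  ⟨⟨tact a σ⁻¹, tact_comp_inv a σ, tact_inv_comp a σ⟩⟩

instance isIso_ltrans (σ : 𝟙_ (Over (Spec (CommRingCat.of k))) ⟶ G) :
    IsIso (ltrans G σ) := by
  refine ⟨⟨ltrans G σ⁻¹, ?_, ltrans_inv_comp G σ⟩⟩
  have := ltrans_inv_comp G σ⁻¹
  rwa [_root_.inv_inv] at this

/-- the orbit map intertwines left translation on `G` and translation on `X` -/
lemma ltrans_comp_orbitMap (a : AlgGrp.Action G X)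
    (σ : 𝟙_ (Over (Spec (CommRingCat.of k))) ⟶ G) (x : 𝟙_ (Over (Spec (CommRingCat.of k))) ⟶ X) :
    ltrans G σ ≫ a.orbitMap x = a.orbitMap x ≫ tact a σ := by
  rw [comp_tact]
  unfold AlgGrp.Action.orbitMap
  rw [← Category.assoc, comp_lift, Category.comp_id, ltrans_eq, mul_pt]
  congr 2
  have h1 : (toUnit G ≫ σ * 𝟙 G) ≫ toUnit G = toUnit G := toUnit_unique _ _
  rw [← Category.assoc, h1]

/-- a rational point of `X` moved by a rational point of `G` -/
lemma pt_comp_tact (a : AlgGrp.Action G X)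
    (σ : 𝟙_ (Over (Spec (CommRingCat.of k))) ⟶ G) (x : 𝟙_ (Over (Spec (CommRingCat.of k))) ⟶ X) :
    x ≫ tact a σ = lift σ x ≫ a.act := by
  rw [comp_tact]
  have : toUnit (𝟙_ (Over (Spec (CommRingCat.of k)))) = 𝟙 _ := toUnit_unique _ _
  rw [this, Category.id_comp]

end Groth.Agent.H3.OrbTrans
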