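import Mathlib
import Groth.Prelude.Def_AlgGrp
import Groth.Agent.Lib.Helper3.OrbTrans
import Groth.Agent.Lib.Helper3.AntiAff.AffKerProper
import Groth.Agent.Lib.Helper6.GenSmooth3
import Groth.Agent.Lib.Helper2.IntegralNhd
import Groth.Agent.Lib.Helper1.SmoothGeom

/-!
# Tools for Kleiman's transversality theorem

* `smooth_restrict_iff` : `f ∣_ V` is smooth iff `f ⁻¹ᵁ V ≤ f.smoothLocus`;
* `genSmooth` : generic smoothness on the target (char. 0) for a smooth, not necessarily
  integral, source;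
* `smooth_of_equivariant` : an equivariant morphism to a homogeneous space that is smooth over a
  nonempty open is smooth;
* `isPullback_slice`, `isPullback_restrict` : pullback squares.
-/

set_option autoImplicit false

open CategoryTheory Limits AlgebraicGeometry MonoidalCategory CartesianMonoidalCategory MonObj

universe u

namespace Groth.Agent.H3.Kleiman

open Groth.Agent.H3.OrbTrans Groth.Agent.H3.AntiAff

section general

variable {X Y : Scheme.{u}}

theorem smooth_restrict_iff (f : X ⟶ Y) [LocallyOfFinitePresentation f] (V : Y.Opens) :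
    Smooth (f ∣_ V) ↔ f ⁻¹ᵁ V ≤ f.smoothLocus := by
  haveI : LocallyOfFinitePresentation (f ∣_ V) := IsZariskiLocalAtTarget.restrict ‹_› V
  have h1 : Smooth (f ∣_ V) ↔ Smooth ((f ∣_ V) ≫ V.ι) := by
    rw [← Scheme.Hom.smoothLocus_eq_top_iff, ← Scheme.Hom.smoothLocus_eq_top_iff,
      Groth.Agent.H6.GenSmooth2.smoothLocus_comp_of_isOpenImmersion (f ∣_ V) V.ι]
  rw [h1, morphismRestrict_ι, ← Scheme.Hom.smoothLocus_eq_top_iff,
    ← Scheme.Hom.preimage_smoothLocus_eq]
  constructor
  · intro h w hw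
    have : (⟨w, hw⟩ : ↥(f ⁻¹ᵁ V)) ∈ (f ⁻¹ᵁ V).ι ⁻¹ᵁ f.smoothLocus := by rw [h]; trivial
    exact this
  · intro h
    ext w
    simp only [Scheme.Hom.coe_preimage, Set.mem_preimage, SetLike.mem_coe,
      TopologicalSpace.Opens.coe_top, Set.mem_univ, iff_true]
    exact h w.2

theorem smoothLocus_ι_comp (f : X ⟶ Y) [LocallyOfFinitePresentation f] (U : X.Opens) :
    (U.ι ≫ f).smoothLocus = U.ι ⁻¹ᵁ f.smoothLocus :=
  (Scheme.Hom.preimage_smoothLocus_eq _ _).symm

end general

section genSmooth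

/-- a connected scheme smooth over a field is integral (light-weight version). -/
theorem isIntegral_of_smooth_connected (k : Type u) [Field k] {X : Scheme.{u}}
    (f : X ⟶ Spec (CommRingCat.of k)) [Smooth f] [ConnectedSpace X] : IsIntegral X := by
  haveI : IsLocallyNoetherian X := LocallyOfFiniteType.isLocallyNoetherian f
  rw [Groth.Agent.H2.isIntegral_iff_connectedSpace_and_isDomain_stalk]
  refine ⟨inferInstance, fun x => ?_⟩
  haveI := Groth.Agent.H1.SmoothDepth.isRegularLocalRing_stalk_of_smooth k f x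
  exact Groth.Agent.H7.Reg.isDomain (X.presheaf.stalk x)

/-- **generic smoothness on the target** in characteristic zero, for a smooth source which is not
necessarily integral. -/
theorem genSmooth (k : Type u) [Field k] [CharZero k]
    {X Y : Scheme.{u}} (qX : X ⟶ Spec (CommRingCat.of k)) (qY : Y ⟶ Spec (CommRingCat.of k))
    [LocallyOfFiniteType qX] [QuasiCompact qX] [Smooth qX]
    [LocallyOfFiniteType qY] [IsSeparated qY] [IsIntegral Y]
    (f : X ⟶ Y) (hf : f ≫ qY = qX) :
    ∃ V : Y.Opens, (V : Set ↥Y).Nonempty ∧ Smooth (f ∣_ V) := by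
  classical
  haveI : IsLocallyNoetherian X := LocallyOfFiniteType.isLocallyNoetherian qX
  haveI : IsLocallyNoetherian Y := LocallyOfFiniteType.isLocallyNoetherian qY
  haveI : CompactSpace X := QuasiCompact.compactSpace_of_compactSpace qX
  haveI : IsNoetherian X := {}
  haveI : LocallyOfFiniteType (f ≫ qY) := by rw [hf]; infer_instance
  haveI : LocallyOfFiniteType f := locallyOfFiniteType_of_comp f qY
  haveI : LocallyOfFinitePresentation f := inferInstance
  -- the connected components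
  let U : X → X.Opens := fun x =>
    ⟨connectedComponent x, isOpen_connectedComponent_of_noetherianSpace x⟩
  have key : ∀ x : X, ∃ V : Y.Opens, (V : Set ↥Y).Nonempty ∧
      ∀ w : X, w ∈ U x → f w ∈ V → w ∈ f.smoothLocus := by
    intro x
    haveI : ConnectedSpace ↥(U x : Scheme.{u}) :=
      isConnected_iff_connectedSpace.mp isConnected_connectedComponent
    haveI : Smooth ((U x).ι ≫ qX) := inferInstance
    haveI : IsIntegral (U x : Scheme.{u}) :=
      isIntegral_of_smooth_connected k ((U x).ι ≫ qX)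
    obtain ⟨V, hVne, hVs⟩ := Groth.Agent.H6.GenSmooth3.s10930 k ((U x).ι ≫ qX) qY
      ((U x).ι ≫ f) (by rw [Category.assoc, hf])
    refine ⟨V, hVne, ?_⟩
    intro w hwU hwV
    rw [smooth_restrict_iff, smoothLocus_ι_comp] at hVs
    exact hVs (x := (⟨w, hwU⟩ : ↥(U x))) hwV
  choose V hVne hV using key
  -- a finite subcover
  obtain ⟨t, ht⟩ := isCompact_univ.elim_finite_subcover (fun x : X => ((U x : X.Opens) : Set X))
    (fun x => (U x).isOpen) (fun w _ => Set.mem_iUnion.mpr ⟨w, mem_connectedComponent⟩)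
  have hirr : IsIrreducible (Set.univ : Set Y) := IrreducibleSpace.isIrreducible_univ Y
  have hne : ((Set.univ : Set Y) ∩ ⋂₀ ↑(t.image fun x => ((V x : Y.Opens) : Set Y))).Nonempty := by
    refine (isIrreducible_iff_sInter.mp hirr) (t.image fun x => ((V x : Y.Opens) : Set Y)) ?_ ?_
    · intro u hu
      obtain ⟨x, -, rfl⟩ := Finset.mem_image.mp hu
      exact (V x).isOpen
    · intro u hu
      obtain ⟨x, -, rfl⟩ := Finset.mem_image.mp hu
      rw [Set.univ_inter]
      exact hVne x
  rw [Set.univ_inter] at hne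
  have hopen : IsOpen (⋂₀ (↑(t.image fun x => ((V x : Y.Opens) : Set Y)) : Set (Set Y))) := by
    refine Set.Finite.isOpen_sInter (Finset.finite_toSet _) ?_
    intro u hu
    obtain ⟨x, -, rfl⟩ := Finset.mem_image.mp hu
    exact (V x).isOpen
  refine ⟨⟨_, hopen⟩, hne, ?_⟩
  rw [smooth_restrict_iff]
  intro w hw
  obtain ⟨x, hxt, hwx⟩ : ∃ x ∈ t, w ∈ U x := by
    have := ht (Set.mem_univ w)
    simp only [Set.mem_iUnion] at this
    obtain ⟨x, hxt, hwx⟩ := this
    exact ⟨x, hxt, hwx⟩
  refine hV x w hwx ?_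
  have hw' : f w ∈ ⋂₀ (↑(t.image fun x => ((V x : Y.Opens) : Set Y)) : Set (Set Y)) := hw
  exact hw' _ (Finset.mem_coe.mpr (Finset.mem_image_of_mem _ hxt))

end genSmooth

section equivariant

variable {k : Type u} [Field k]
variable {G X Q : Over (Spec (CommRingCat.of k))} [GrpObj G]

/-- an equivariant morphism to a homogeneous space which is smooth over some nonempty open of the
target is smooth. -/
theorem smooth_of_equivariant [IsAlgClosed k] (a : AlgGrp.Action G X)
    [LocallyOfFiniteType X.hom]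
    (htrans : ∀ x x' : 𝟙_ (Over (Spec (CommRingCat.of k))) ⟶ X,
      ∃ σ : 𝟙_ (Over (Spec (CommRingCat.of k))) ⟶ G, lift σ x ≫ a.act = x')
    (h : Q ⟶ X) (L : (𝟙_ (Over (Spec (CommRingCat.of k))) ⟶ G) → (Q ⟶ Q))
    (hLiso : ∀ σ, IsIso (L σ)) (hL : ∀ σ, L σ ≫ h = h ≫ tact a σ)
    (V : X.left.Opens) (hVne : (V : Set ↥X.left).Nonempty) (hVs : Smooth (h.left ∣_ V)) :
    Smooth h.left := by
  classical
  haveI : JacobsonSpace ↥X.left := LocallyOfFiniteType.jacobsonSpace X.hom
  have key : ∀ σ : 𝟙_ (Over (Spec (CommRingCat.of k))) ⟶ G,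
      Smooth (h.left ∣_ ((tact a σ).left ⁻¹ᵁ V)) := by
    intro σ
    haveI := hLiso σ
    haveI : IsIso (L σ).left := (Over.forget _).map_isIso (L σ)
    haveI : IsIso (tact a σ).left := (Over.forget _).map_isIso (tact a σ)
    have e : (L σ).left ≫ h.left = h.left ≫ (tact a σ).left := by
      rw [← Over.comp_left, ← Over.comp_left, hL]
    have h1 : Smooth ((L σ).left ∣_ (h.left ⁻¹ᵁ V) ≫ h.left ∣_ V) :=
      (MorphismProperty.cancel_left_of_respectsIso @Smooth _ _).mpr hVs
    rw [← morphismRestrict_comp] at h1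
    have h2 : Smooth ((h.left ≫ (tact a σ).left) ∣_ V) := by
      rw [← e]
      exact h1
    rw [morphismRestrict_comp] at h2
    have h3 : Smooth (h.left ∣_ ((tact a σ).left ⁻¹ᵁ V) ≫ (tact a σ).left ∣_ V) := h2
    exact (MorphismProperty.cancel_right_of_respectsIso @Smooth _ _).mp h3
  have hcov : (⨆ σ : 𝟙_ (Over (Spec (CommRingCat.of k))) ⟶ G, (tact a σ).left ⁻¹ᵁ V) = ⊤ := by
    by_contra hne
    have hne' : ((↑(⨆ σ : 𝟙_ (Over (Spec (CommRingCat.of k))) ⟶ G,
        (tact a σ).left ⁻¹ᵁ V) : Set ↥X.left)ᶜ).Nonempty := by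
      rw [Set.nonempty_compl]
      intro h
      exact hne (TopologicalSpace.Opens.ext h)
    obtain ⟨y, hyW, hycl⟩ := nonempty_inter_closedPoints hne'
      (⨆ σ : 𝟙_ (Over (Spec (CommRingCat.of k))) ⟶ G,
        (tact a σ).left ⁻¹ᵁ V).isOpen.isClosed_compl.isLocallyClosed
    obtain ⟨v, hvV, hvcl⟩ := nonempty_inter_closedPoints hVne V.isOpen.isLocallyClosed
    let py : 𝟙_ (Over (Spec (CommRingCat.of k))) ⟶ X :=
      Over.homMk (pointOfClosedPoint X.hom y hycl) (pointOfClosedPoint_comp X.hom y hycl)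
    let pv : 𝟙_ (Over (Spec (CommRingCat.of k))) ⟶ X :=
      Over.homMk (pointOfClosedPoint X.hom v hvcl) (pointOfClosedPoint_comp X.hom v hvcl)
    obtain ⟨σ, hσ⟩ := htrans py pv
    apply hyW
    have hmem : y ∈ (tact a σ).left ⁻¹ᵁ V := by
      change (tact a σ).left.base y ∈ V
      have h2 : py ≫ tact a σ = pv := by
        rw [pt_comp_tact, hσ]
      have h3 : (tact a σ).left.base
          (py.left.base (IsLocalRing.closedPoint k)) = pv.left.base (IsLocalRing.closedPoint k) := by
        rw [← h2, Over.comp_left]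
        rfl
      have h4 : py.left.base (IsLocalRing.closedPoint k) = y :=
        pointOfClosedPoint_apply X.hom y hycl _
      have h5 : pv.left.base (IsLocalRing.closedPoint k) = v :=
        pointOfClosedPoint_apply X.hom v hvcl _
      rw [h4, h5] at h3
      rw [h3]
      exact hvV
    exact (le_iSup (fun σ : 𝟙_ (Over (Spec (CommRingCat.of k))) ⟶ G =>
      (tact a σ).left ⁻¹ᵁ V) σ) hmem
  exact IsZariskiLocalAtTarget.of_iSup_eq_top (P := @Smooth) _ hcov key

end equivariant

section squares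

/-- the slice `{σ} × Y` of a product as a pullback. -/
theorem isPullback_slice {C : Type*} [Category C] [CartesianMonoidalCategory C] (G Y : C)
    (σ : 𝟙_ C ⟶ G) :
    IsPullback (lift (toUnit Y ≫ σ) (𝟙 Y)) (toUnit Y) (fst G Y) σ := by
  refine ⟨⟨by simp⟩, ⟨PullbackCone.IsLimit.mk _ (fun s => s.fst ≫ snd G Y) ?_ ?_ ?_⟩⟩
  · intro s
    apply CartesianMonoidalCategory.hom_ext
    · have h1 : s.snd = toUnit _ := toUnit_unique _ _
      simp only [Category.assoc, lift_fst]
      rw [s.condition, h1, ← Category.assoc, ← Category.assoc]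
      congr 1
      exact toUnit_unique _ _
    · simp
  · intro s
    exact toUnit_unique _ _
  · intro s m h1 _
    rw [← h1]
    simp

/-- restricting a pullback square over an open containing the image of the base. -/
theorem isPullback_restrict {A B C D : Scheme.{u}} {j : A ⟶ B} {p : A ⟶ C} {q : B ⟶ D}
    {s : C ⟶ D} (sq : IsPullback j p q s) (V : D.Opens)
    (hs : Set.range s.base ⊆ (V : Set D)) :
    ∃ (j' : A ⟶ q ⁻¹ᵁ V) (s' : C ⟶ V), j' ≫ (q ⁻¹ᵁ V).ι = j ∧ s' ≫ V.ι = s ∧
      IsPullback j' p (q ∣_ V) s' := by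
  have hs' : Set.range s.base ⊆ Set.range V.ι.base := by
    rw [Scheme.Opens.range_ι]; exact hs
  have hj' : Set.range j.base ⊆ Set.range (q ⁻¹ᵁ V).ι.base := by
    rw [Scheme.Opens.range_ι]
    rintro _ ⟨w, rfl⟩
    change q.base (j.base w) ∈ V
    have : q.base (j.base w) = s.base (p.base w) := by
      have := congrArg (fun φ : A ⟶ D => φ.base w) sq.w
      exact this
    rw [this]
    exact hs ⟨_, rfl⟩
  let s' : C ⟶ V := IsOpenImmersion.lift V.ι s hs'
  let j' : A ⟶ q ⁻¹ᵁ V := IsOpenImmersion.lift (q ⁻¹ᵁ V).ι j hj'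
  have hs1 : s' ≫ V.ι = s := IsOpenImmersion.lift_fac _ _ _
  have hj1 : j' ≫ (q ⁻¹ᵁ V).ι = j := IsOpenImmersion.lift_fac _ _ _
  refine ⟨j', s', hj1, hs1, ?_⟩
  have bot : IsPullback (q ∣_ V) (q ⁻¹ᵁ V).ι V.ι q := isPullback_morphismRestrict q V
  have big : IsPullback p (j' ≫ (q ⁻¹ᵁ V).ι) (s' ≫ V.ι) q := by
    rw [hj1, hs1]; exact sq.flip
  have comm : p ≫ s' = j' ≫ (q ∣_ V) := by
    rw [← cancel_mono V.ι, Category.assoc, Category.assoc, hs1, morphismRestrict_ι,
      ← Category.assoc, hj1]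
    exact sq.w.symm
  exact (IsPullback.of_bot big comm bot).flip

end squares

end Groth.Agent.H3.Kleiman
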