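import Mathlib
import Groth.Prelude.Def_AlgGrp
import Groth.Agent.Lib.Helper3.Kleiman1
import Groth.Agent.Lib.Helper9.Misc.CAR5
import Groth.Agent.Lib.Helper9.Misc.TOR4
import Groth.Agent.Lib.Helper1.SmoothGeom

/-!
# Kleiman's transversality theorem: the smoothness part

For a homogeneous space `X` of a group variety `G` over an algebraically closed field of
characteristic zero and `f : Y ⟶ X`, `g : Z ⟶ X` with `Y`, `Z` smooth:

* `smooth_hmap` : `G × Y ⟶ X`, `(σ, y) ↦ σ · f y` is smooth;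
* `exists_open_smooth_qmap` : the projection `(G × Y) ×_X Z ⟶ G` is smooth over a nonempty open;
* `exists_isPullback_fibre` : its fibre over a rational point `σ` is `Y^σ ×_X Z`.
-/

set_option autoImplicit false

open CategoryTheory Limits AlgebraicGeometry MonoidalCategory CartesianMonoidalCategory MonObj

universe u

namespace Groth.Agent.H3.Kleiman

open Groth.Agent.H3.OrbTrans Groth.Agent.H3.AntiAff Groth.Agent.H3.ActPt

variable {k : Type u} [Field k]
variable {G X : Over (Spec (CommRingCat.of k))} [GrpObj G]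
variable {Y Z : Scheme.{u}}

/-- `Y` as a `k`-scheme via `f : Y ⟶ X` -/
noncomputable abbrev Yo (f : Y ⟶ X.left) : Over (Spec (CommRingCat.of k)) := Over.mk (f ≫ X.hom)

/-- `f` as a morphism of `k`-schemes -/
noncomputable abbrev fo (f : Y ⟶ X.left) : Yo f ⟶ X := Over.homMk f

/-- `(σ, y) ↦ σ · f y` -/
noncomputable def hmap (a : AlgGrp.Action G X) (f : Y ⟶ X.left) : G ⊗ Yo f ⟶ X :=
  lift (fst G (Yo f)) (snd G (Yo f) ≫ fo f) ≫ a.act

/-- translation on the first factor -/
noncomputable def Lmap (f : Y ⟶ X.left) (σ : 𝟙_ (Over (Spec (CommRingCat.of k))) ⟶ G) :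
    G ⊗ Yo f ⟶ G ⊗ Yo f :=
  ltrans G σ ▷ Yo f

instance (f : Y ⟶ X.left) (σ : 𝟙_ (Over (Spec (CommRingCat.of k))) ⟶ G) : IsIso (Lmap f σ) := by
  unfold Lmap; infer_instance

lemma Lmap_hmap (a : AlgGrp.Action G X) (f : Y ⟶ X.left)
    (σ : 𝟙_ (Over (Spec (CommRingCat.of k))) ⟶ G) :
    Lmap f σ ≫ hmap a f = hmap a f ≫ tact a σ := by
  rw [comp_tact]
  unfold hmap Lmap
  rw [← Category.assoc, comp_lift]
  simp only [whiskerRight_fst, whiskerRight_snd_assoc]
  rw [comp_ltrans, mul_pt]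

/-- the section `y ↦ (σ, y)` -/
noncomputable def isec (f : Y ⟶ X.left) (σ : 𝟙_ (Over (Spec (CommRingCat.of k))) ⟶ G) :
    Yo f ⟶ G ⊗ Yo f :=
  lift (toUnit (Yo f) ≫ σ) (𝟙 (Yo f))

lemma isec_hmap (a : AlgGrp.Action G X) (f : Y ⟶ X.left)
    (σ : 𝟙_ (Over (Spec (CommRingCat.of k))) ⟶ G) :
    isec f σ ≫ hmap a f = lift (toUnit (Yo f) ≫ σ) (fo f) ≫ a.act := by
  unfold hmap isec
  rw [← Category.assoc, comp_lift]
  simp only [lift_fst, lift_snd_assoc, Category.id_comp]

section smooth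

variable [IsAlgClosed k] [CharZero k]

omit [IsAlgClosed k] in
theorem smooth_tensor_hom (f : Y ⟶ X.left) [LocallyOfFiniteType G.hom]
    [Smooth (f ≫ X.hom)] : Smooth (G ⊗ Yo f).hom := by
  haveI : Smooth G.hom := Groth.Agent.H9.CAR.S0353_main k G
  rw [Over.tensorObj_hom]
  haveI : Smooth (Yo f).hom := ‹Smooth (f ≫ X.hom)›
  infer_instance

omit [IsAlgClosed k] in
theorem isIntegral_tensor (f : Y ⟶ X.left) [IsIntegral G.left] [LocallyOfFiniteType G.hom]
    [IsIntegral Y] [Smooth (f ≫ X.hom)] : IsIntegral (G ⊗ Yo f).left := by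
  haveI : Smooth G.hom := Groth.Agent.H9.CAR.S0353_main k G
  haveI : GeometricallyIrreducible G.hom :=
    Groth.Agent.H9.TOR.geometricallyIrreducible_of_connected G
  haveI : IrreducibleSpace ↥(Yo f).left := inferInstanceAs (IrreducibleSpace ↥Y)
  haveI : IrreducibleSpace ↥(pullback G.hom (Yo f).hom) := inferInstance
  haveI : IrreducibleSpace ↥(G ⊗ Yo f).left :=
    inferInstanceAs (IrreducibleSpace ↥(pullback G.hom (Yo f).hom))
  haveI := smooth_tensor_hom (G := G) f
  haveI : IsReduced (G ⊗ Yo f).left :=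
    Groth.Agent.H1.SmoothGeom.isReduced_of_smooth_field k (G ⊗ Yo f).hom
  exact isIntegral_of_irreducibleSpace_of_isReduced _

/-- **the map `G × Y ⟶ X` is smooth.** -/
theorem smooth_hmap (a : AlgGrp.Action G X)
    [IsIntegral G.left] [LocallyOfFiniteType G.hom] [QuasiCompact G.hom]
    [IsIntegral X.left] [IsSeparated X.hom] [LocallyOfFiniteType X.hom]
    (htrans : ∀ x x' : 𝟙_ (Over (Spec (CommRingCat.of k))) ⟶ X,
      ∃ σ : 𝟙_ (Over (Spec (CommRingCat.of k))) ⟶ G, lift σ x ≫ a.act = x')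
    (f : Y ⟶ X.left) [IsIntegral Y] [QuasiCompact (f ≫ X.hom)] [Smooth (f ≫ X.hom)] :
    Smooth (hmap a f).left := by
  haveI := smooth_tensor_hom (G := G) f
  haveI := isIntegral_tensor (G := G) f
  haveI : QuasiCompact (G ⊗ Yo f).hom := by
    rw [Over.tensorObj_hom]
    haveI : QuasiCompact (Yo f).hom := ‹QuasiCompact (f ≫ X.hom)›
    infer_instance
  obtain ⟨V, hVne, hVs⟩ := Groth.Agent.H6.GenSmooth3.s10930 k (G ⊗ Yo f).hom X.hom
    (hmap a f).left (Over.w (hmap a f))
  exact smooth_of_equivariant a htrans (hmap a f) (Lmap f) (fun σ => inferInstance)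
    (Lmap_hmap a f) V hVne hVs

omit [IsAlgClosed k] in
/-- **the projection `(G × Y) ×_X Z ⟶ G` is smooth over a nonempty open.** -/
theorem exists_open_smooth_qmap (a : AlgGrp.Action G X)
    [IsIntegral G.left] [IsSeparated G.hom] [LocallyOfFiniteType G.hom] [QuasiCompact G.hom]
    [IsSeparated X.hom]
    (f : Y ⟶ X.left) [QuasiCompact (f ≫ X.hom)] [Smooth (f ≫ X.hom)]
    (g : Z ⟶ X.left) [QuasiCompact (g ≫ X.hom)] [Smooth (g ≫ X.hom)]
    (hsm : Smooth (hmap a f).left) :
    ∃ V : G.left.Opens, (V : Set ↥G.left).Nonempty ∧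
      Smooth ((pullback.fst (hmap a f).left g ≫ (fst G (Yo f)).left) ∣_ V) := by
  haveI := hsm
  haveI : QuasiCompact (G ⊗ Yo f).hom := by
    rw [Over.tensorObj_hom]
    haveI : QuasiCompact (Yo f).hom := ‹QuasiCompact (f ≫ X.hom)›
    infer_instance
  haveI : QuasiCompact ((hmap a f).left ≫ X.hom) := by
    rw [Over.w]; infer_instance
  haveI : QuasiCompact (hmap a f).left := QuasiCompact.of_comp (hmap a f).left X.hom
  refine genSmooth k (pullback.snd (hmap a f).left g ≫ (g ≫ X.hom)) G.hom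
    (pullback.fst (hmap a f).left g ≫ (fst G (Yo f)).left) ?_
  rw [Category.assoc, Over.w (fst G (Yo f)), ← Over.w (hmap a f), ← Category.assoc,
    pullback.condition, Category.assoc]

end smooth

/-- **the fibre of the projection over a rational point `σ` is `Y^σ ×_X Z`.** -/
theorem exists_isPullback_fibre (a : AlgGrp.Action G X) (f : Y ⟶ X.left) (g : Z ⟶ X.left)
    (σ : 𝟙_ (Over (Spec (CommRingCat.of k))) ⟶ G) :
    ∃ j : pullback (lift (toUnit (Yo f) ≫ σ) (fo f) ≫ a.act).left g ⟶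
        pullback (hmap a f).left g,
      IsPullback j (pullback.fst (lift (toUnit (Yo f) ≫ σ) (fo f) ≫ a.act).left g ≫ f ≫ X.hom)
        (pullback.fst (hmap a f).left g ≫ (fst G (Yo f)).left) σ.left := by
  have hi := isec_hmap a f σ
  have hi' : (isec f σ).left ≫ (hmap a f).left =
      (lift (toUnit (Yo f) ≫ σ) (fo f) ≫ a.act).left := by
    rw [← Over.comp_left, hi]
  let j : pullback (lift (toUnit (Yo f) ≫ σ) (fo f) ≫ a.act).left g ⟶
      pullback (hmap a f).left g :=
    pullback.lift (pullback.fst _ g ≫ (isec f σ).left) (pullback.snd _ g)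
      (by rw [Category.assoc, hi', pullback.condition])
  have sqA : IsPullback j (pullback.fst (lift (toUnit (Yo f) ≫ σ) (fo f) ≫ a.act).left g)
      (pullback.fst (hmap a f).left g) (isec f σ).left := by
    refine IsPullback.of_right (h₁₂ := pullback.snd (hmap a f).left g) (h₂₂ := (hmap a f).left)
      (v₁₃ := g) ?_ (pullback.lift_fst _ _ _) (IsPullback.of_hasPullback _ g).flip
    rw [pullback.lift_snd, hi']
    exact (IsPullback.of_hasPullback _ g).flip
  have sqB : IsPullback (isec f σ).left (Yo f).hom (fst G (Yo f)).left σ.left :=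
    (isPullback_slice G (Yo f) σ).map (Over.forget _)
  exact ⟨j, sqA.paste_vert sqB⟩

end Groth.Agent.H3.Kleiman
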