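import Mathlib
import Groth.Agent.Lib.Helper1.AlgSpDim2
import Groth.Agent.Lib.Helper1.FibDimBC
import Groth.Agent.Lib.Helper1.DimFormula4
import Groth.Agent.Lib.Helper1.EquiDim
import Groth.Agent.Lib.Helper1.FlatRelDim
import Groth.Agent.Lib.Helper3.TopDim

/-!
# Kleiman's transversality theorem: the dimension count
-/

set_option autoImplicit false

open CategoryTheory Limits AlgebraicGeometry

universe u

namespace Groth.Agent.H3.Kleiman

theorem nat_of_add {x : WithBot ℕ∞} {a b : ℕ} (h : (a : WithBot ℕ∞) + x = b) :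
    ∃ d : ℕ, x = d ∧ a + d = b := by
  revert h
  refine Groth.Agent.H1.FlatRelDim.withBot_enat_cases
    (fun x => (a : WithBot ℕ∞) + x = b → ∃ d : ℕ, x = d ∧ a + d = b) ?_ ?_ ?_ x
  · intro h
    rw [WithBot.add_bot] at h
    exact absurd h (by simp)
  · intro h
    exfalso
    rw [add_comm, Groth.Agent.H1.FlatRelDim.top_add_natCast] at h
    exact Groth.Agent.H1.FlatRelDim.not_top_le_natCast b h.le
  · intro d h
    exact ⟨d, rfl, by exact_mod_cast h⟩

variable {k : Type u} [Field k]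

/-- **the dimension count in Kleiman's theorem.** -/
theorem dim_fibre_eq {Gs Xs Zs P Wσ : Scheme.{u}}
    (qG : Gs ⟶ Spec (CommRingCat.of k)) (qX : Xs ⟶ Spec (CommRingCat.of k))
    (qZ : Zs ⟶ Spec (CommRingCat.of k)) (qP : P ⟶ Spec (CommRingCat.of k))
    [LocallyOfFiniteType qG] [LocallyOfFiniteType qX] [LocallyOfFiniteType qZ]
    [LocallyOfFiniteType qP]
    [IrreducibleSpace Gs] [IrreducibleSpace Xs] [IrreducibleSpace Zs] [IrreducibleSpace P]
    (h : P ⟶ Xs) [Smooth h] (g : Zs ⟶ Xs) (q : pullback h g ⟶ Gs)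
    (V : Gs.Opens) [Smooth (q ∣_ V)]
    (pσ : Wσ ⟶ Spec (CommRingCat.of k)) (j' : Wσ ⟶ (q ⁻¹ᵁ V))
    (s' : Spec (CommRingCat.of k) ⟶ V)
    (sq : IsPullback j' pσ (q ∣_ V) s')
    (m n s N : ℕ) (hm : topologicalKrullDim Gs = m) (hn : topologicalKrullDim Xs = n)
    (hs : topologicalKrullDim Zs = s) (hP : topologicalKrullDim P = N) [Nonempty Wσ] :
    ∃ e : ℕ, e + m + n = s + N ∧ topologicalKrullDim Wσ = e := by
  classical
  haveI : IsLocallyNoetherian Xs := LocallyOfFiniteType.isLocallyNoetherian qX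
  haveI : IsLocallyNoetherian Zs := LocallyOfFiniteType.isLocallyNoetherian qZ
  haveI : IsLocallyNoetherian Gs := LocallyOfFiniteType.isLocallyNoetherian qG
  haveI : IsLocallyNoetherian (V : Scheme.{u}) := isLocallyNoetherian_of_isOpenImmersion V.ι
  have hI : ∀ p' : P, (n : WithBot ℕ∞) + FlatMor.fibreDimAt h p' = N := by
    intro p'
    have h1 := Groth.Agent.H1.SmoothDim.localDim_eq_add_of_smooth h p'
    rw [Groth.Agent.H1.EquiDim.localDim_eq_dim qP, Groth.Agent.H1.EquiDim.localDim_eq_dim qX,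
      hP, hn] at h1
    exact h1.symm
  have hII : ∀ p : ↥(pullback h g), FlatMor.localDim ↥(pullback h g) p =
      (s : WithBot ℕ∞) + FlatMor.fibreDimAt h (pullback.fst h g p) := by
    intro p
    have h1 := Groth.Agent.H1.SmoothDim.localDim_eq_add_of_smooth (pullback.snd h g) p
    rw [Groth.Agent.H1.EquiDim.localDim_eq_dim qZ, hs,
      Groth.Agent.H1.FibDimBC.fibreDimAt_eq_of_isPullback h g (pullback.fst h g)
        (pullback.snd h g) (IsPullback.of_hasPullback h g) p] at h1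
    exact h1
  have hIII : ∀ u : ↥(q ⁻¹ᵁ V), FlatMor.localDim ↥(pullback h g) ((q ⁻¹ᵁ V).ι u) =
      (m : WithBot ℕ∞) + FlatMor.fibreDimAt (q ∣_ V) u := by
    intro u
    have h1 := Groth.Agent.H1.SmoothDim.localDim_eq_add_of_smooth (q ∣_ V) u
    rw [Groth.Agent.H1.DimFormula.localDim_eq_of_isOpenEmbedding (q ⁻¹ᵁ V).ι.isOpenEmbedding u,
      Groth.Agent.H1.DimFormula.localDim_eq_of_isOpenEmbedding V.ι.isOpenEmbedding ((q ∣_ V) u),
      Groth.Agent.H1.EquiDim.localDim_eq_dim qG, hm] at h1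
    exact h1
  have hIV : ∀ w : Wσ, FlatMor.localDim Wσ w = FlatMor.fibreDimAt (q ∣_ V) (j' w) := by
    intro w
    rw [← Groth.Agent.H1.DimFormula.fibreDimAt_eq_localDim_of_field pσ w]
    exact Groth.Agent.H1.FibDimBC.fibreDimAt_eq_of_isPullback (q ∣_ V) s' j' pσ sq w
  have hall : ∀ w : Wσ, ∃ e : ℕ, e + m + n = s + N ∧ FlatMor.localDim Wσ w = e := by
    intro w
    obtain ⟨d, hd1, hd2⟩ := nat_of_add (hI (pullback.fst h g ((q ⁻¹ᵁ V).ι (j' w))))
    have h2 := hII ((q ⁻¹ᵁ V).ι (j' w))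
    rw [hd1, hIII (j' w)] at h2
    have h3 : (m : WithBot ℕ∞) + FlatMor.fibreDimAt (q ∣_ V) (j' w) = ((s + d : ℕ) : WithBot ℕ∞) := by
      rw [h2]; push_cast; rfl
    obtain ⟨e, he1, he2⟩ := nat_of_add h3
    refine ⟨e, by omega, ?_⟩
    rw [hIV w, he1]
  obtain ⟨w₀⟩ := ‹Nonempty Wσ›
  obtain ⟨e, he, -⟩ := hall w₀
  refine ⟨e, he, ?_⟩
  rw [Groth.Agent.H3.TopDim.dim_eq_iSup_localDim]
  have : ∀ w : Wσ, FlatMor.localDim Wσ w = (e : WithBot ℕ∞) := by
    intro w
    obtain ⟨e', he', hw⟩ := hall w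
    have : e' = e := by omega
    rw [hw, this]
  simp only [this]
  exact ciSup_const

end Groth.Agent.H3.Kleiman
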