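import Mathlib
import Groth.Prelude.Def_AlgGrp
import Groth.Agent.Lib.Helper3.OrbTrans

/-!
# Translates in a homogeneous space: light-weight base file

The constructions of `Kleiman1`/`Kleiman2` that do not need generic smoothness, restated with few
imports (namespace `Groth.Agent.H3.KleimanB`), and `of_equivariant` for an arbitrary property
local on the target.
-/

set_option autoImplicit false

open CategoryTheory Limits AlgebraicGeometry MonoidalCategory CartesianMonoidalCategory MonObj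

universe u

namespace Groth.Agent.H3.KleimanB

open Groth.Agent.H3.OrbTrans Groth.Agent.H3.AntiAff Groth.Agent.H3.ActPt

section equivariant

variable {k : Type u} [Field k]
variable {G X Q : Over (Spec (CommRingCat.of k))} [GrpObj G]

/-- an equivariant morphism to a homogeneous space which has a property `P`, local on the target,
over some nonempty open of the target has `P`. -/
theorem of_equivariant (P : MorphismProperty Scheme.{u}) [IsZariskiLocalAtTarget P]
    [IsAlgClosed k] (a : AlgGrp.Action G X)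
    [LocallyOfFiniteType X.hom]
    (htrans : ∀ x x' : 𝟙_ (Over (Spec (CommRingCat.of k))) ⟶ X,
      ∃ σ : 𝟙_ (Over (Spec (CommRingCat.of k))) ⟶ G, lift σ x ≫ a.act = x')
    (h : Q ⟶ X) (L : (𝟙_ (Over (Spec (CommRingCat.of k))) ⟶ G) → (Q ⟶ Q))
    (hLiso : ∀ σ, IsIso (L σ)) (hL : ∀ σ, L σ ≫ h = h ≫ tact a σ)
    (V : X.left.Opens) (hVne : (V : Set ↥X.left).Nonempty) (hVs : P (h.left ∣_ V)) :
    P h.left := by
  classical
  haveI : JacobsonSpace ↥X.left := LocallyOfFiniteType.jacobsonSpace X.hom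
  have key : ∀ σ : 𝟙_ (Over (Spec (CommRingCat.of k))) ⟶ G,
      P (h.left ∣_ ((tact a σ).left ⁻¹ᵁ V)) := by
    intro σ
    haveI := hLiso σ
    haveI : IsIso (L σ).left := (Over.forget _).map_isIso (L σ)
    haveI : IsIso (tact a σ).left := (Over.forget _).map_isIso (tact a σ)
    have e : (L σ).left ≫ h.left = h.left ≫ (tact a σ).left := by
      rw [← Over.comp_left, ← Over.comp_left, hL]
    have h1 : P ((L σ).left ∣_ (h.left ⁻¹ᵁ V) ≫ h.left ∣_ V) :=
      (MorphismProperty.cancel_left_of_respectsIso P _ _).mpr hVs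
    rw [← morphismRestrict_comp] at h1
    have h2 : P ((h.left ≫ (tact a σ).left) ∣_ V) := by
      rw [← e]
      exact h1
    rw [morphismRestrict_comp] at h2
    have h3 : P (h.left ∣_ ((tact a σ).left ⁻¹ᵁ V) ≫ (tact a σ).left ∣_ V) := h2
    exact (MorphismProperty.cancel_right_of_respectsIso P _ _).mp h3
  have hcov : (⨆ σ : 𝟙_ (Over (Spec (CommRingCat.of k))) ⟶ G, (tact a σ).left ⁻¹ᵁ V) = ⊤ := by
    by_contra hne
    have hne' : ((↑(⨆ σ : 𝟙_ (Over (Spec (CommRingCat.of k))) ⟶ G,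
        (tact a σ).left ⁻¹ᵁ V) : Set ↥X.left)ᶜ).Nonempty := by
      rw [Set.nonempty_compl]
      intro h
      exact hne (TopologicalSpace.Opens.ext h)
    obtain ⟨y, hyW, hycl⟩ := nonempty_inter_closedPoints hne'
      (⨆ σ : 𝟙_ (Over (Spec (CommRingCat.of k))) ⟶ G,
        (tact a σ).left ⁻¹ᵁ V).isOpen.isClosed_compl.isLocallyClosed
    obtain ⟨v, hvV, hvcl⟩ := nonempty_inter_closedPoints hVne V.isOpen.isLocallyClosed
    let py : 𝟙_ (Over (Spec (CommRingCat.of k))) ⟶ X :=
      Over.homMk (pointOfClosedPoint X.hom y hycl) (pointOfClosedPoint_comp X.hom y hycl)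
    let pv : 𝟙_ (Over (Spec (CommRingCat.of k))) ⟶ X :=
      Over.homMk (pointOfClosedPoint X.hom v hvcl) (pointOfClosedPoint_comp X.hom v hvcl)
    obtain ⟨σ, hσ⟩ := htrans py pv
    apply hyW
    have hmem : y ∈ (tact a σ).left ⁻¹ᵁ V := by
      change (tact a σ).left.base y ∈ V
      have h2 : py ≫ tact a σ = pv := by
        rw [pt_comp_tact, hσ]
      have h3 : (tact a σ).left.base
          (py.left.base (IsLocalRing.closedPoint k)) = pv.left.base (IsLocalRing.closedPoint k) := by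
        rw [← h2, Over.comp_left]
        rfl
      have h4 : py.left.base (IsLocalRing.closedPoint k) = y :=
        pointOfClosedPoint_apply X.hom y hycl _
      have h5 : pv.left.base (IsLocalRing.closedPoint k) = v :=
        pointOfClosedPoint_apply X.hom v hvcl _
      rw [h4, h5] at h3
      rw [h3]
      exact hvV
    exact (le_iSup (fun σ : 𝟙_ (Over (Spec (CommRingCat.of k))) ⟶ G =>
      (tact a σ).left ⁻¹ᵁ V) σ) hmem
  exact IsZariskiLocalAtTarget.of_iSup_eq_top (P := P) _ hcov key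

end equivariant

section squares

/-- the slice `{σ} × Y` of a product as a pullback. -/
theorem isPullback_slice {C : Type*} [Category C] [CartesianMonoidalCategory C] (G Y : C)
    (σ : 𝟙_ C ⟶ G) :
    IsPullback (lift (toUnit Y ≫ σ) (𝟙 Y)) (toUnit Y) (fst G Y) σ := by
  refine ⟨⟨by simp⟩, ⟨PullbackCone.IsLimit.mk _ (fun s => s.fst ≫ snd G Y) ?_ ?_ ?_⟩⟩
  · intro s
    apply CartesianMonoidalCategory.hom_ext
    · have h1 : s.snd = toUnit _ := toUnit_unique _ _
      simp only [Category.assoc, lift_fst]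
      rw [s.condition, h1, ← Category.assoc, ← Category.assoc]
      congr 1
      exact toUnit_unique _ _
    · simp
  · intro s
    exact toUnit_unique _ _
  · intro s m h1 _
    rw [← h1]
    simp

/-- restricting a pullback square over an open containing the image of the base. -/
theorem isPullback_restrict {A B C D : Scheme.{u}} {j : A ⟶ B} {p : A ⟶ C} {q : B ⟶ D}
    {s : C ⟶ D} (sq : IsPullback j p q s) (V : D.Opens)
    (hs : Set.range s.base ⊆ (V : Set D)) :
    ∃ (j' : A ⟶ q ⁻¹ᵁ V) (s' : C ⟶ V), j' ≫ (q ⁻¹ᵁ V).ι = j ∧ s' ≫ V.ι = s ∧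
      IsPullback j' p (q ∣_ V) s' := by
  have hs' : Set.range s.base ⊆ Set.range V.ι.base := by
    rw [Scheme.Opens.range_ι]; exact hs
  have hj' : Set.range j.base ⊆ Set.range (q ⁻¹ᵁ V).ι.base := by
    rw [Scheme.Opens.range_ι]
    rintro _ ⟨w, rfl⟩
    change q.base (j.base w) ∈ V
    have : q.base (j.base w) = s.base (p.base w) := by
      have := congrArg (fun φ : A ⟶ D => φ.base w) sq.w
      exact this
    rw [this]
    exact hs ⟨_, rfl⟩
  let s' : C ⟶ V := IsOpenImmersion.lift V.ι s hs'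
  let j' : A ⟶ q ⁻¹ᵁ V := IsOpenImmersion.lift (q ⁻¹ᵁ V).ι j hj'
  have hs1 : s' ≫ V.ι = s := IsOpenImmersion.lift_fac _ _ _
  have hj1 : j' ≫ (q ⁻¹ᵁ V).ι = j := IsOpenImmersion.lift_fac _ _ _
  refine ⟨j', s', hj1, hs1, ?_⟩
  have bot : IsPullback (q ∣_ V) (q ⁻¹ᵁ V).ι V.ι q := isPullback_morphismRestrict q V
  have big : IsPullback p (j' ≫ (q ⁻¹ᵁ V).ι) (s' ≫ V.ι) q := by
    rw [hj1, hs1]; exact sq.flip
  have comm : p ≫ s' = j' ≫ (q ∣_ V) := by
    rw [← cancel_mono V.ι, Category.assoc, Category.assoc, hs1, morphismRestrict_ι,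
      ← Category.assoc, hj1]
    exact sq.w.symm
  exact (IsPullback.of_bot big comm bot).flip

end squares

variable {k : Type u} [Field k]
variable {G X : Over (Spec (CommRingCat.of k))} [GrpObj G]
variable {Y Z : Scheme.{u}}

/-- `Y` as a `k`-scheme via `f : Y ⟶ X` -/
noncomputable abbrev Yo (f : Y ⟶ X.left) : Over (Spec (CommRingCat.of k)) := Over.mk (f ≫ X.hom)

/-- `f` as a morphism of `k`-schemes -/
noncomputable abbrev fo (f : Y ⟶ X.left) : Yo f ⟶ X := Over.homMk f

/-- `(σ, y) ↦ σ · f y` -/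
noncomputable def hmap (a : AlgGrp.Action G X) (f : Y ⟶ X.left) : G ⊗ Yo f ⟶ X :=
  lift (fst G (Yo f)) (snd G (Yo f) ≫ fo f) ≫ a.act

/-- translation on the first factor -/
noncomputable def Lmap (f : Y ⟶ X.left) (σ : 𝟙_ (Over (Spec (CommRingCat.of k))) ⟶ G) :
    G ⊗ Yo f ⟶ G ⊗ Yo f :=
  ltrans G σ ▷ Yo f

instance (f : Y ⟶ X.left) (σ : 𝟙_ (Over (Spec (CommRingCat.of k))) ⟶ G) : IsIso (Lmap f σ) := by
  unfold Lmap; infer_instance

lemma Lmap_hmap (a : AlgGrp.Action G X) (f : Y ⟶ X.left)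
    (σ : 𝟙_ (Over (Spec (CommRingCat.of k))) ⟶ G) :
    Lmap f σ ≫ hmap a f = hmap a f ≫ tact a σ := by
  rw [comp_tact]
  unfold hmap Lmap
  rw [← Category.assoc, comp_lift]
  simp only [whiskerRight_fst, whiskerRight_snd_assoc]
  rw [comp_ltrans, mul_pt]

/-- the section `y ↦ (σ, y)` -/
noncomputable def isec (f : Y ⟶ X.left) (σ : 𝟙_ (Over (Spec (CommRingCat.of k))) ⟶ G) :
    Yo f ⟶ G ⊗ Yo f :=
  lift (toUnit (Yo f) ≫ σ) (𝟙 (Yo f))

lemma isec_hmap (a : AlgGrp.Action G X) (f : Y ⟶ X.left)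
    (σ : 𝟙_ (Over (Spec (CommRingCat.of k))) ⟶ G) :
    isec f σ ≫ hmap a f = lift (toUnit (Yo f) ≫ σ) (fo f) ≫ a.act := by
  unfold hmap isec
  rw [← Category.assoc, comp_lift]
  simp only [lift_fst, lift_snd_assoc, Category.id_comp]

/-- the translate `y ↦ σ · f y` is `f` followed by the translation of `X`. -/
lemma translate_eq (a : AlgGrp.Action G X) (f : Y ⟶ X.left)
    (σ : 𝟙_ (Over (Spec (CommRingCat.of k))) ⟶ G) :
    (lift (toUnit (Yo f) ≫ σ) (fo f) ≫ a.act).left = f ≫ (tact a σ).left := by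
  rw [← comp_tact]
  rfl

/-- **the fibre of the projection `(G × Y) ×_X Z ⟶ G` over a rational point `σ` is
`Y^σ ×_X Z`.** -/
theorem exists_isPullback_fibre (a : AlgGrp.Action G X) (f : Y ⟶ X.left) (g : Z ⟶ X.left)
    (σ : 𝟙_ (Over (Spec (CommRingCat.of k))) ⟶ G) :
    ∃ j : pullback (lift (toUnit (Yo f) ≫ σ) (fo f) ≫ a.act).left g ⟶
        pullback (hmap a f).left g,
      IsPullback j (pullback.fst (lift (toUnit (Yo f) ≫ σ) (fo f) ≫ a.act).left g ≫ f ≫ X.hom)
        (pullback.fst (hmap a f).left g ≫ (fst G (Yo f)).left) σ.left := by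
  have hi := isec_hmap a f σ
  have hi' : (isec f σ).left ≫ (hmap a f).left =
      (lift (toUnit (Yo f) ≫ σ) (fo f) ≫ a.act).left := by
    rw [← Over.comp_left, hi]
  let j : pullback (lift (toUnit (Yo f) ≫ σ) (fo f) ≫ a.act).left g ⟶
      pullback (hmap a f).left g :=
    pullback.lift (pullback.fst _ g ≫ (isec f σ).left) (pullback.snd _ g)
      (by rw [Category.assoc, hi', pullback.condition])
  have sqA : IsPullback j (pullback.fst (lift (toUnit (Yo f) ≫ σ) (fo f) ≫ a.act).left g)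
      (pullback.fst (hmap a f).left g) (isec f σ).left := by
    refine IsPullback.of_right (h₁₂ := pullback.snd (hmap a f).left g) (h₂₂ := (hmap a f).left)
      (v₁₃ := g) ?_ (pullback.lift_fst _ _ _) (IsPullback.of_hasPullback _ g).flip
    rw [pullback.lift_snd, hi']
    exact (IsPullback.of_hasPullback _ g).flip
  have sqB : IsPullback (isec f σ).left (Yo f).hom (fst G (Yo f)).left σ.left :=
    (isPullback_slice G (Yo f) σ).map (Over.forget _)
  exact ⟨j, sqA.paste_vert sqB⟩

end Groth.Agent.H3.KleimanB
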