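import Mathlib
import Groth.Prelude.Def_NonAbH2

/-! From a kernel square to the "shear" pullback square of `NonAbH1.IsExactSeq`. -/

universe v u

open CategoryTheory MonoidalCategory CartesianMonoidalCategory MonObj GrpObj Limits

namespace Groth.Agent.H3.Shear

variable {C : Type u} [Category.{v} C] [CartesianMonoidalCategory C]

theorem whiskerLeft_comp_mul {G G' : C} [GrpObj G] (u : G' ⟶ G) :
    (G ◁ u) ≫ μ[G] = fst G G' * (snd G G' ≫ u) := by
  rw [Hom.mul_def]
  congr 1
  apply CartesianMonoidalCategory.hom_ext <;> simp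

/-- If `u` is a kernel of the homomorphism `v`, the shear square is cartesian. -/
theorem isPullback_shear {G' G G'' : C} [GrpObj G'] [GrpObj G] [GrpObj G'']
    (u : G' ⟶ G) (v : G ⟶ G'') [IsMonHom v]
    (hK : IsPullback u (toUnit G') v η[G'']) :
    IsPullback (fst G G') ((G ◁ u) ≫ μ[G]) v v := by
  have huv : u ≫ v = 1 := by rw [hK.w, Hom.one_def]
  have hw : fst G G' ≫ v = ((G ◁ u) ≫ μ[G]) ≫ v := by
    rw [whiskerLeft_comp_mul, MonObj.mul_comp, Category.assoc, huv, MonObj.comp_one, _root_.mul_one]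
  refine IsPullback.of_isLimit' ⟨hw⟩ (PullbackCone.IsLimit.mk _ ?_ ?_ ?_ ?_)
  · intro s
    have hc : (s.fst⁻¹ * s.snd) ≫ v = toUnit _ ≫ η[G''] := by
      rw [MonObj.mul_comp, GrpObj.inv_comp, s.condition, inv_mul_cancel, Hom.one_def]
    exact lift s.fst (hK.lift (s.fst⁻¹ * s.snd) (toUnit _) hc)
  · intro s
    simp
  · intro s
    have hc : (s.fst⁻¹ * s.snd) ≫ v = toUnit _ ≫ η[G''] := by
      rw [MonObj.mul_comp, GrpObj.inv_comp, s.condition, inv_mul_cancel, Hom.one_def]
    rw [whiskerLeft_comp_mul, MonObj.comp_mul, lift_fst, ← Category.assoc, lift_snd,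
      hK.lift_fst, mul_inv_cancel_left]
  · intro s m h1 h2
    have hc : (s.fst⁻¹ * s.snd) ≫ v = toUnit _ ≫ η[G''] := by
      rw [MonObj.mul_comp, GrpObj.inv_comp, s.condition, inv_mul_cancel, Hom.one_def]
    apply CartesianMonoidalCategory.hom_ext
    · rw [lift_fst, h1]
    · rw [lift_snd]
      apply hK.hom_ext
      · rw [hK.lift_fst, ← h1, ← h2, whiskerLeft_comp_mul, MonObj.comp_mul, inv_mul_cancel_left,
          Category.assoc]
      · exact toUnit_unique _ _

end Groth.Agent.H3.Shear
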