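import Mathlib
import Groth.Prelude.Def_Red2
import Groth.Prelude.Def_NonAbH2
import Groth.Agent.H4.GaGm
import Groth.Agent.Lib.Helper3.UnivEffEpi
import Groth.Agent.Lib.Helper3.DSKit
import Groth.Agent.Lib.Helper3.Shear

/-! The Kummer sequence `1 → μ_n → G_m → G_m → 1` is exact for the fppf topology. -/

universe u

open CategoryTheory MonoidalCategory CartesianMonoidalCategory MonObj GrpObj AlgebraicGeometry Limits
open Groth.Agent.H4.GaGm Polynomial

namespace Groth.Agent.H3.Kummer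

/-- The coordinate ring of `G_m` over `ℤ`. -/
abbrev A : Type u := MonoidAlgebra (ULift.{u} ℤ) (Multiplicative ℤ)

/-- The polynomial `X^n - T`. -/
noncomputable def g (n : ℕ) : (A.{u})[X] := X ^ n - C T1.{u}

theorem monic_g (n : ℕ) (hn : 0 < n) : (g.{u} n).Monic := monic_X_pow_sub_C _ hn.ne'

theorem natDegree_g (n : ℕ) (hn : 0 < n) : (g.{u} n).natDegree = n :=
  natDegree_X_pow_sub_C

theorem root_pow (n : ℕ) : (AdjoinRoot.root (g.{u} n)) ^ n = AdjoinRoot.of (g.{u} n) T1 := by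
  have h := AdjoinRoot.eval₂_root (g.{u} n)
  rw [g, eval₂_sub, eval₂_pow, eval₂_X, eval₂_C, sub_eq_zero] at h
  exact h

theorem isUnit_root (n : ℕ) (hn : 0 < n) : IsUnit (AdjoinRoot.root (g.{u} n)) := by
  have h1 : IsUnit ((AdjoinRoot.root (g.{u} n)) ^ n) := by
    rw [root_pow]
    exact isUnit_T1.map _
  exact (isUnit_pow_iff hn.ne').mp h1

instance free (n : ℕ) [hn : Fact (0 < n)] : Module.Free A.{u} (AdjoinRoot (g.{u} n)) :=
  .of_basis (AdjoinRoot.powerBasis' (monic_g n hn.out)).basis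

instance nontrivial (n : ℕ) [hn : Fact (0 < n)] : Nontrivial (AdjoinRoot (g.{u} n)) := by
  let b := (AdjoinRoot.powerBasis' (monic_g.{u} n hn.out)).basis
  have hd : (AdjoinRoot.powerBasis' (monic_g.{u} n hn.out)).dim = n := by
    rw [AdjoinRoot.powerBasis'_dim, natDegree_g n hn.out]
  exact ⟨b ⟨0, by rw [hd]; exact hn.out⟩, 0, b.ne_zero _⟩

theorem faithfullyFlat (n : ℕ) [hn : Fact (0 < n)] :
    (AdjoinRoot.of (g.{u} n)).FaithfullyFlat := by
  rw [← AdjoinRoot.algebraMap_eq, RingHom.faithfullyFlat_algebraMap_iff]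
  infer_instance

theorem finitePresentation (n : ℕ) : (AdjoinRoot.of (g.{u} n)).FinitePresentation := by
  rw [← AdjoinRoot.algebraMap_eq, RingHom.finitePresentation_algebraMap]
  infer_instance

/-- The section: `T ↦ root`. -/
theorem exists_sigma (n : ℕ) (hn : 0 < n) :
    ∃ σ : A.{u} →+* AdjoinRoot (g.{u} n), σ T1 = AdjoinRoot.root (g.{u} n) :=
  exists_ringHom_monAlg (isUnit_root n hn).unit

/-- The comorphism of the `n`-th power map of `G_m`. -/
noncomputable def psi (n : ℕ) : A.{u} →+* A.{u} :=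
  (MonoidAlgebra.mapDomainAlgHom (ULift.{u} ℤ) (ULift.{u} ℤ)
    (AddMonoidHom.toMultiplicative (zmultiplesHom ℤ (n : ℤ)))).toRingHom

theorem psi_T1 (n : ℕ) : psi.{u} n T1 = T1 ^ n := by
  unfold psi T1
  rw [MonoidAlgebra.single_pow, one_pow]
  simp [← ofAdd_nsmul]

theorem sigma_comp_psi (n : ℕ) (σ : A.{u} →+* AdjoinRoot (g.{u} n))
    (hσ : σ T1 = AdjoinRoot.root (g.{u} n)) : σ.comp (psi n) = AdjoinRoot.of (g.{u} n) := by
  apply ringHom_ext_monAlg
  rw [RingHom.comp_apply, psi_T1, map_pow, hσ, root_pow]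

theorem locallyTrivial (S : Scheme.{u}) (n : ℕ) (hn : 0 < n) :
    NonAbH1.IsLocallyTrivialFor Scheme.fppfPrecoverage
      (Over.mk (Red.chi S (n : ℤ)).left : Over (Red.Gm S).left) := by
  have : Fact (0 < n) := ⟨hn⟩
  obtain ⟨σ, hσ⟩ := exists_sigma.{u} n hn
  have hff := (flat_and_surjective_SpecMap_iff
    (CommRingCat.ofHom (AdjoinRoot.of (g.{u} n)))).mpr (faithfullyFlat n)
  have hflat : Flat (Spec.map (CommRingCat.ofHom (AdjoinRoot.of (g.{u} n)))) := hff.1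
  have hsurj : Surjective (Spec.map (CommRingCat.ofHom (AdjoinRoot.of (g.{u} n)))) := hff.2
  have hlfp : LocallyOfFinitePresentation
      (Spec.map (CommRingCat.ofHom (AdjoinRoot.of (g.{u} n)))) := by
    rw [HasRingHomProperty.Spec_iff (P := @LocallyOfFinitePresentation)]
    exact finitePresentation n
  let p : (Red.Gm S).left ⟶ Spec (CommRingCat.of A.{u}) := pullback.fst _ _
  let c := pullback.fst p (Spec.map (CommRingCat.ofHom (AdjoinRoot.of (g.{u} n))))
  refine ⟨Presieve.singleton c, Scheme.Hom.singleton_mem_fppfPrecoverage c, ?_⟩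
  rintro W f ⟨⟩
  obtain ⟨s, hs1, hs2⟩ : ∃ s : pullback p (Spec.map (CommRingCat.ofHom (AdjoinRoot.of (g.{u} n)))) ⟶
      pullback (Red.diag (ULift.{u} ℤ) ℤ).hom (fZ S),
      s ≫ pullback.fst _ _ = pullback.snd p _ ≫ Spec.map (CommRingCat.ofHom σ) ∧
      s ≫ pullback.snd _ _ = c ≫ pullback.snd _ (fZ S) :=
    ⟨pullback.lift (pullback.snd p _ ≫ Spec.map (CommRingCat.ofHom σ))
      (c ≫ pullback.snd _ (fZ S)) (specULiftZIsTerminal.hom_ext _ _),
      pullback.lift_fst _ _ _, pullback.lift_snd _ _ _⟩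
  refine ⟨s, ?_⟩
  have sq := Groth.Agent.H3.isPullback_overPullback_map (fZ S)
    (Red.diagMap (ULift.{u} ℤ) (zmultiplesHom ℤ (n : ℤ)))
  have h1 : (Red.chi S (n : ℤ)).left ≫ pullback.fst (Red.diag (ULift.{u} ℤ) ℤ).hom (fZ S) =
      pullback.fst (Red.diag (ULift.{u} ℤ) ℤ).hom (fZ S) ≫
        Spec.map (CommRingCat.ofHom (psi.{u} n)) := sq.w
  have h2 : (Red.chi S (n : ℤ)).left ≫ pullback.snd (Red.diag (ULift.{u} ℤ) ℤ).hom (fZ S) =
      pullback.snd (Red.diag (ULift.{u} ℤ) ℤ).hom (fZ S) :=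
    Over.w (Red.chi S (n : ℤ))
  have h4 : Spec.map (CommRingCat.ofHom σ) ≫ Spec.map (CommRingCat.ofHom (psi.{u} n)) =
      Spec.map (CommRingCat.ofHom (AdjoinRoot.of (g.{u} n))) := by
    rw [← Spec.map_comp, ← CommRingCat.ofHom_comp, sigma_comp_psi n σ hσ]
  change s ≫ (Red.chi S (n : ℤ)).left = c
  apply pullback.hom_ext
  · calc (s ≫ (Red.chi S (n : ℤ)).left) ≫ pullback.fst _ _
        = s ≫ ((Red.chi S (n : ℤ)).left ≫ pullback.fst _ _) := Category.assoc _ _ _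
      _ = s ≫ (pullback.fst _ _ ≫ Spec.map (CommRingCat.ofHom (psi.{u} n))) :=
          congrArg (s ≫ ·) h1
      _ = (s ≫ pullback.fst _ _) ≫ Spec.map (CommRingCat.ofHom (psi.{u} n)) :=
          (Category.assoc _ _ _).symm
      _ = (pullback.snd p _ ≫ Spec.map (CommRingCat.ofHom σ)) ≫
            Spec.map (CommRingCat.ofHom (psi.{u} n)) :=
          congrArg (· ≫ Spec.map (CommRingCat.ofHom (psi.{u} n))) hs1
      _ = pullback.snd p _ ≫ Spec.map (CommRingCat.ofHom (AdjoinRoot.of (g.{u} n))) :=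
          (Category.assoc _ _ _).trans (congrArg (pullback.snd p _ ≫ ·) h4)
      _ = c ≫ p := pullback.condition.symm
  · calc (s ≫ (Red.chi S (n : ℤ)).left) ≫ pullback.snd _ _
        = s ≫ ((Red.chi S (n : ℤ)).left ≫ pullback.snd _ _) := Category.assoc _ _ _
      _ = s ≫ pullback.snd _ _ := congrArg (s ≫ ·) h2
      _ = c ≫ pullback.snd _ _ := hs2

theorem castAddHom_comp_zmultiplesHom (n : ℕ) :
    (Int.castAddHom (ZMod n)).comp (zmultiplesHom ℤ (n : ℤ)) = 0 := by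
  ext
  simp

theorem mem_range_of_cast_eq_zero (n : ℕ) (k : ℤ) (hk : Int.castAddHom (ZMod n) k = 0) :
    k ∈ (zmultiplesHom ℤ (n : ℤ)).range := by
  have h1 : ((k : ℤ) : ZMod n) = 0 := hk
  rw [ZMod.intCast_zmod_eq_zero_iff_dvd] at h1
  obtain ⟨j, hj⟩ := h1
  refine ⟨j, ?_⟩
  simp [hj, mul_comm]

theorem isKernel (S : Scheme.{u}) (n : ℕ) :
    IsPullback (Red.DSmap S (Int.castAddHom (ZMod n))) (toUnit _) (Red.chi S (n : ℤ))
      η[Red.Gm S] :=
  Groth.Agent.H3.DSKit.isKernel_DSmap S (zmultiplesHom ℤ (n : ℤ)) (Int.castAddHom (ZMod n))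
    (ZMod.intCast_surjective) (mem_range_of_cast_eq_zero n) (castAddHom_comp_zmultiplesHom n)

theorem isExactSeq_fppf (S : Scheme.{u}) (n : ℕ) (hn : 0 < n) :
    NonAbH1.IsExactSeq Scheme.fppfPrecoverage
      (Red.DSmap S (Int.castAddHom (ZMod n))) (Red.chi S (n : ℤ)) := by
  have hK := isKernel S n
  have hv : IsMonHom (Red.chi S (n : ℤ)) := Groth.Agent.H3.DSKit.isMonHom_DSmap S _
  refine ⟨Groth.Agent.H3.DSKit.isMonHom_DSmap S _, hv, ?_, ?_, locallyTrivial S n hn⟩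
  · rw [hK.w, Hom.one_def]
  · exact Groth.Agent.H3.Shear.isPullback_shear _ _ hK

theorem isExactSeq_fpqc (S : Scheme.{u}) (n : ℕ) (hn : 0 < n) :
    NonAbH1.IsExactSeq Scheme.fpqcPrecoverage
      (Red.DSmap S (Int.castAddHom (ZMod n))) (Red.chi S (n : ℤ)) := by
  obtain ⟨h1, h2, h3, h4, R, hR, h5⟩ := isExactSeq_fppf S n hn
  exact ⟨h1, h2, h3, h4, R, Scheme.fppfPrecoverage_le_fpqcPrecoverage _ hR, h5⟩

end Groth.Agent.H3.Kummer
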