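import Mathlib

set_option autoImplicit false

universe u

open CategoryTheory CategoryTheory.Limits AlgebraicGeometry

namespace Groth.Agent.H3.LargestOpen

variable {X Y Y' : Scheme.{u}} (f : X ⟶ Y) (g : Y' ⟶ Y)

/-- the restricted pullback square -/
lemma isPullback_restrict (V : Y.Opens) (U' : Y'.Opens) (h : U' ≤ g ⁻¹ᵁ V) :
    ∃ (top : ((pullback.snd f g) ⁻¹ᵁ U').toScheme ⟶ (f ⁻¹ᵁ V).toScheme),
      IsPullback top (pullback.snd f g ∣_ U') (f ∣_ V) (g.resLE V U' h) := by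
  have H : IsPullback (pullback.fst f g) (pullback.snd f g) f g := IsPullback.of_hasPullback f g
  have hUY : (pullback.snd f g) ⁻¹ᵁ U' =
      (pullback.fst f g) ⁻¹ᵁ (f ⁻¹ᵁ V) ⊓ (pullback.snd f g) ⁻¹ᵁ U' := by
    apply le_antisymm
    · refine le_inf ?_ le_rfl
      intro x hx
      have h1 : g (pullback.snd f g x) ∈ V := h hx
      have h2 : f (pullback.fst f g x) = g (pullback.snd f g x) := by
        have := congrArg (fun φ : pullback f g ⟶ Y => φ x) pullback.condition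
        simpa using this
      change f (pullback.fst f g x) ∈ V
      rw [h2]; exact h1
    · exact inf_le_right
  have sq := Scheme.Hom.isPullback_resLE H (US := V) (UT := U') (UX := f ⁻¹ᵁ V) h le_rfl hUY
  rw [Scheme.Hom.resLE_eq_morphismRestrict, Scheme.Hom.resLE_eq_morphismRestrict] at sq
  exact ⟨_, sq⟩

variable (P : MorphismProperty Scheme.{u}) [P.IsStableUnderBaseChange]

lemma of_le (h : X ⟶ Y) {U V : Y.Opens} (hUV : U ≤ V) (hV : P (h ∣_ V)) : P (h ∣_ U) := by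
  have H : IsPullback (𝟙 X) h h (𝟙 Y) := IsPullback.of_horiz_isIso ⟨by simp⟩
  have hUY : h ⁻¹ᵁ U = (𝟙 X) ⁻¹ᵁ (h ⁻¹ᵁ V) ⊓ h ⁻¹ᵁ U := by
    apply le_antisymm
    · refine le_inf ?_ le_rfl
      intro x hx
      exact hUV hx
    · exact inf_le_right
  have sq := Scheme.Hom.isPullback_resLE H (US := V) (UT := U) (UX := h ⁻¹ᵁ V)
    (by simpa using hUV) le_rfl hUY
  rw [Scheme.Hom.resLE_eq_morphismRestrict, Scheme.Hom.resLE_eq_morphismRestrict] at sq
  exact P.of_isPullback sq hV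

theorem main [IsZariskiLocalAtTarget P]
    [P.DescendsAlong (@Flat ⊓ @Surjective ⊓ @QuasiCompact)]
    [Flat g] (hg : IsOpenMap g.base)
    (W : Y.Opens) (hW : P (f ∣_ W)) (hmax : ∀ W₀ : Y.Opens, P (f ∣_ W₀) → W₀ ≤ W)
    (W₁ : Y'.Opens) (hW₁ : P (pullback.snd f g ∣_ W₁))
    (hmax₁ : ∀ W₀ : Y'.Opens, P (pullback.snd f g ∣_ W₀) → W₀ ≤ W₁) :
    W₁ = g ⁻¹ᵁ W := by
  apply le_antisymm
  · intro y' hy'
    obtain ⟨U₀, hU₀, hyU₀, -⟩ := exists_isAffineOpen_mem_and_subset (x := g y') (U := ⊤) trivial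
    have hy'2 : y' ∈ W₁ ⊓ g ⁻¹ᵁ U₀ := ⟨hy', hyU₀⟩
    obtain ⟨U', hU', hyU', hU'sub⟩ := exists_isAffineOpen_mem_and_subset hy'2
    let V : Y.Opens := ⟨g '' (U' : Set Y'), hg _ U'.2⟩
    have hUV : U' ≤ g ⁻¹ᵁ V := fun x hx => ⟨x, hx, rfl⟩
    have hVU₀ : V ≤ U₀ := by
      rintro _ ⟨x, hx, rfl⟩
      exact (hU'sub hx).2
    have hU'W₁ : U' ≤ W₁ := fun x hx => (hU'sub hx).1
    obtain ⟨top, sq⟩ := isPullback_restrict f g V U' hUV
    have hP' : P (pullback.snd f g ∣_ U') := of_le P _ hU'W₁ hW₁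
    have hq : (@Flat ⊓ @Surjective ⊓ @QuasiCompact : MorphismProperty Scheme.{u}) (g.resLE V U' hUV) := by
      refine ⟨⟨inferInstance, ?_⟩, ?_⟩
      · constructor
        rintro ⟨_, x, hx, rfl⟩
        refine ⟨⟨x, hx⟩, ?_⟩
        apply Subtype.ext
        have := congrArg (fun φ : (U' : Scheme.{u}) ⟶ Y => φ ⟨x, hx⟩)
          (Scheme.Hom.resLE_comp_ι g hUV)
        simpa using this
      · haveI : IsAffine (U' : Scheme.{u}) := hU'
        haveI : IsAffine (U₀ : Scheme.{u}) := hU₀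
        haveI : QuasiCompact (g.resLE V U' hUV ≫ Y.homOfLE hVU₀) := by
          infer_instance
        exact QuasiCompact.of_comp (g.resLE V U' hUV) (Y.homOfLE hVU₀)
    have hPV : P (f ∣_ V) := MorphismProperty.DescendsAlong.of_isPullback sq.flip hq hP'
    have hVW : V ≤ W := hmax V hPV
    exact hVW (hUV hyU')
  · apply hmax₁
    obtain ⟨top, sq⟩ := isPullback_restrict f g W (g ⁻¹ᵁ W) le_rfl
    exact P.of_isPullback sq hW

end Groth.Agent.H3.LargestOpen
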