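import Mathlib
import Groth.Agent.Lib.Helper3.SatDesc
import Groth.Agent.Lib.Helper3.AlgSt.OpenSub5
import Groth.Agent.Lib.Helper3.AlgSt.Points.SpaceChart
import Groth.Agent.Lib.Helper3.AlgSt.Points.Homeo
import Groth.Agent.Lib.Helper3.AlgSt.Points.Surj
import Groth.Agent.Lib.Helper3.AlgSt.Points.Topology
import Groth.Agent.Lib.Helper3.AlgSt.Descent
import Groth.Agent.Lib.Helper3.AlgSt.DiagLft
import Groth.Agent.Lib.Helper3.AlgSt.DiagCharts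
import Groth.Agent.Lib.Helper3.AlgSt.BaseChangeSp
import Groth.Agent.Lib.Helper3.AlgSt.PropFacts
import Groth.Agent.Lib.Helper3.AlgSpCov.LargestOpen
import Groth.Agent.Lib.Helper5.AlgSp.OpenSub
import Groth.Agent.Lib.Helper5.AlgSp.FibreProduct
import Groth.Agent.Lib.Helper5.AlgSp.Points

/-!
# The largest open substack on which a representable morphism has a property (helper3)

S12877: for `f : 𝒳 ⟶ 𝒴` representable by algebraic spaces with `Q`, the largest open substack of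
`𝒳` on which `f` has `P`, from the corresponding statement for algebraic spaces and its
compatibility with base change along morphisms with `R` (which contains the smooth morphisms).
-/

set_option autoImplicit false
universe u
open CategoryTheory CategoryTheory.Functor CategoryTheory.Limits Opposite AlgebraicGeometry

noncomputable section

namespace Groth.Agent.H3.LargestOpenSt

open Groth.Agent.H3.FibCatAux Groth.Agent.H3.GerbAux Groth.Agent.H3.FpCalc Groth.Agent.H3.TwoCart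
  Groth.Agent.H3.StackPsh Groth.Agent.H3.PshBridge Groth.Agent.H3.AlgStAux Groth.Agent.H3.RepBridge
  Groth.Agent.H3.SetoidPsh Groth.Agent.H3.BaseChangeSp Groth.Agent.H3.AlgStComp
  Groth.Agent.H3.AlgStProps Groth.Agent.H3.AlgStBridge2 Groth.Agent.H3.AlgStCharts
  Groth.Agent.H3.AlgStDescent Groth.Agent.H3.Whisker Groth.Agent.H3.AlgStLES
  Groth.Agent.H3.FPtRel Groth.Agent.H3.AlgStStackRep Groth.Agent.H3.TwoYoneda
  Groth.Agent.H3.AlgStPoints Groth.Agent.H3.AlgStLocQ Groth.Agent.H3.AlgStDiag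
  Groth.Agent.H3.OpenSub Groth.Agent.H3.SatDesc

variable {S : Scheme.{u}}

/-- the representable algebraic space of a scheme -/
abbrev ySp (V : Over S) : AlgSp.Space S := ⟨(AlgSp.yon S).obj V, AlgSp.IsAlgSpace.yon_obj V⟩

/-- `w : W ⟶ X` is the largest open subspace of `X` on which `f` has `P` -/
def Largest (P : MorphismProperty (AlgSp.Sp S)) {X Y : AlgSp.Space S} (f : X ⟶ Y)
    (W : AlgSp.Space S) (w : W ⟶ X) : Prop :=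
  AlgSp.RepWith @IsOpenImmersion w.hom ∧ P (w ≫ f).hom ∧
    ∀ (W₁ : AlgSp.Space S) (w₁ : W₁ ⟶ X), AlgSp.RepWith @IsOpenImmersion w₁.hom →
      P (w₁ ≫ f).hom → ∃ k : W₁ ⟶ W, k ≫ w = w₁

/-- the largest open subspace is compatible with base change along morphisms with `R` -/
def BCLargest (P Q R : MorphismProperty (AlgSp.Sp S)) : Prop :=
  ∀ (X Y X' Y' : AlgSp.Space S) (f : X ⟶ Y) (g : Y' ⟶ Y) (f' : X' ⟶ Y') (g' : X' ⟶ X),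
    IsPullback g'.hom f'.hom f.hom g.hom → Q f.hom → R g.hom →
    ∀ (W : AlgSp.Space S) (w : W ⟶ X), Largest P f W w →
      ∀ (W' : AlgSp.Space S) (w' : W' ⟶ X') (k : W' ⟶ W), IsPullback k.hom w'.hom w.hom g'.hom →
        Largest P f' W' w'

section Pts

variable {A B C : AlgSp.Sp S}

lemma points_map_ofSpMap_comp (a : A ⟶ B) (b : B ⟶ C) (x : AlgSt.Points (AlgSt.ofSp A)) :
    AlgSt.Points.map (AlgSt.ofSpMap (a ≫ b)) x =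
      AlgSt.Points.map (AlgSt.ofSpMap b) (AlgSt.Points.map (AlgSt.ofSpMap a) x) := by
  obtain ⟨x', rfl⟩ := ptOf_surjective x
  rw [← ptOf_map, ← ptOf_map, ← ptOf_map, AlgSp.Points.map_comp]

lemma range_sub_of_st (g : A ⟶ C) (j : B ⟶ C)
    (h : Set.range (AlgSt.Points.map (AlgSt.ofSpMap g)) ⊆
      Set.range (AlgSt.Points.map (AlgSt.ofSpMap j))) :
    Set.range (AlgSp.Points.map g) ⊆ Set.range (AlgSp.Points.map j) := by
  rintro _ ⟨p, rfl⟩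
  obtain ⟨q, hq⟩ := h ⟨ptOf p, rfl⟩
  obtain ⟨q', rfl⟩ := ptOf_surjective q
  rw [← ptOf_map, ← ptOf_map] at hq
  exact ⟨q', ptOf_injective hq⟩

end Pts

lemma points_fp_comm {𝒜 ℬ 𝒞 : AlgSt.Cat S} (X : 𝒜 ⥤ᵇ 𝒞) (I : ℬ ⥤ᵇ 𝒞)
    (ρ : AlgSt.Points (FibCat.fp X I)) :
    AlgSt.Points.map X (AlgSt.Points.map (FibCat.fpFst X I) ρ) =
      AlgSt.Points.map I (AlgSt.Points.map (FibCat.fpSnd X I) ρ) := by
  rw [← points_map_comp, ← points_map_comp]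
  exact points_map_congr (FibCat.fpIso X I) ρ

/-- `exists_theta` with the three morphisms of sheaves as variables -/
theorem exists_theta' {𝒳 𝒴 : AlgSt.Cat S} {V : Over S} (y : FibCat.overCat V ⥤ᵇ 𝒴) (f : 𝒳 ⥤ᵇ 𝒴)
    (h𝒳 : FibCat.IsFibGrpd 𝒳.p) (h𝒴 : FibCat.IsFibGrpd 𝒴.p)
    (F : AlgSp.Space S) (e : AlgSt.ofSp F.obj ⥤ᵇ FibCat.fp y f) (he : FibCat.IsEquivOver e)
    (G₂ : AlgSp.Space S) (e₂ : AlgSt.ofSp G₂.obj ⥤ᵇ FibCat.fp y y) (he₂ : FibCat.IsEquivOver e₂)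
    (φ : F.obj ⟶ (AlgSp.yon S).obj V)
    (hφ : φ = AlgSt.spMapOfOver (BasedFunctor.comp e (FibCat.fpFst y f)))
    (π₁ π₂ : G₂.obj ⟶ (AlgSp.yon S).obj V)
    (hπ₁ : π₁ = AlgSt.spMapOfOver (BasedFunctor.comp e₂ (FibCat.fpFst y y)))
    (hπ₂ : π₂ = AlgSt.spMapOfOver (BasedFunctor.comp e₂ (FibCat.fpSnd y y)))
    {A₁ A₂ : AlgSp.Sp S} (a₁ : A₁ ⟶ F.obj) (b₁ : A₁ ⟶ G₂.obj) (a₂ : A₂ ⟶ F.obj)
    (b₂ : A₂ ⟶ G₂.obj) (sq₁ : IsPullback a₁ b₁ φ π₁) (sq₂ : IsPullback a₂ b₂ φ π₂) :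
    ∃ θ : A₁ ⟶ A₂, IsIso θ ∧ θ ≫ b₂ = b₁ ∧
      ∀ g g' : AlgSt.Points (AlgSt.ofSp F.obj),
        AlgSt.Points.map (BasedFunctor.comp e (FibCat.fpSnd y f)) g =
          AlgSt.Points.map (BasedFunctor.comp e (FibCat.fpSnd y f)) g' →
        ∃ r : AlgSt.Points (AlgSt.ofSp A₁), AlgSt.Points.map (AlgSt.ofSpMap a₁) r = g ∧
          AlgSt.Points.map (AlgSt.ofSpMap (θ ≫ a₂)) r = g' := by
  subst hφ hπ₁ hπ₂
  exact exists_theta y f h𝒳 h𝒴 F e he G₂ e₂ he₂ a₁ b₁ a₂ b₂ sq₁ sq₂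

/-- sheaf-level saturation: the largest open subspace is stable under the descent datum -/
theorem sat_sheaf (P Q R : MorphismProperty (AlgSp.Sp S)) (h₄ : BCLargest P Q R)
    {F Vs G₂ W : AlgSp.Space S} (φ : F ⟶ Vs) (π₁ π₂ : G₂ ⟶ Vs) (hQφ : Q φ.hom)
    (hR₁ : R π₁.hom) (hR₂ : R π₂.hom) (w : W ⟶ F) (hw : Largest P φ W w)
    {A₁ A₂ : AlgSp.Sp S} (a₁ : A₁ ⟶ F.obj) (b₁ : A₁ ⟶ G₂.obj) (a₂ : A₂ ⟶ F.obj)
    (b₂ : A₂ ⟶ G₂.obj) (sq₁ : IsPullback a₁ b₁ φ.hom π₁.hom)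
    (sq₂ : IsPullback a₂ b₂ φ.hom π₂.hom)
    (θ : A₁ ⟶ A₂) (hθ : IsIso θ) (hθb : θ ≫ b₂ = b₁) (r : AlgSp.Points A₁)
    (hr : AlgSp.Points.map a₁ r ∈ Set.range (AlgSp.Points.map w.hom)) :
    AlgSp.Points.map (θ ≫ a₂) r ∈ Set.range (AlgSp.Points.map w.hom) := by
  obtain ⟨g₀, hg₀⟩ := hr
  have hA₁ : AlgSp.IsAlgSpace A₁ :=
    Groth.Agent.H5.AlgSp.isAlgSpace_pullback Vs.property.diag F.property G₂.property sq₁
  have hA₂ : AlgSp.IsAlgSpace A₂ :=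
    Groth.Agent.H5.AlgSp.isAlgSpace_pullback Vs.property.diag F.property G₂.property sq₂
  have sW₁ := IsPullback.of_hasPullback w.hom a₁
  have sW₂ := IsPullback.of_hasPullback w.hom a₂
  have hW₁ : AlgSp.IsAlgSpace (pullback w.hom a₁) :=
    Groth.Agent.H5.AlgSp.isAlgSpace_pullback F.property.diag W.property hA₁ sW₁
  have hW₂ : AlgSp.IsAlgSpace (pullback w.hom a₂) :=
    Groth.Agent.H5.AlgSp.isAlgSpace_pullback F.property.diag W.property hA₂ sW₂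
  obtain ⟨hL₁o, hL₁P, -⟩ := h₄ F Vs ⟨A₁, hA₁⟩ G₂ φ π₁ (ObjectProperty.homMk b₁)
    (ObjectProperty.homMk a₁) sq₁ hQφ hR₁ W w hw ⟨pullback w.hom a₁, hW₁⟩
    (ObjectProperty.homMk (pullback.snd w.hom a₁)) (ObjectProperty.homMk (pullback.fst w.hom a₁))
    sW₁
  obtain ⟨-, -, hL₂max⟩ := h₄ F Vs ⟨A₂, hA₂⟩ G₂ φ π₂ (ObjectProperty.homMk b₂)
    (ObjectProperty.homMk a₂) sq₂ hQφ hR₂ W w hw ⟨pullback w.hom a₂, hW₂⟩
    (ObjectProperty.homMk (pullback.snd w.hom a₂)) (ObjectProperty.homMk (pullback.fst w.hom a₂))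
    sW₂
  obtain ⟨z, -, hz2⟩ := Groth.Agent.H5.AlgSp.points_pullback_surjective sW₁ g₀ r hg₀
  haveI : (AlgSp.RepWith (S := S) @IsOpenImmersion).RespectsIso :=
    MorphismProperty.IsStableUnderBaseChange.respectsIso
  haveI := hθ
  have hθo : AlgSp.RepWith @IsOpenImmersion (pullback.snd w.hom a₁ ≫ θ) :=
    (MorphismProperty.cancel_right_of_respectsIso (AlgSp.RepWith @IsOpenImmersion)
      (pullback.snd w.hom a₁) θ).2 hL₁o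
  have hP2 : P ((pullback.snd w.hom a₁ ≫ θ) ≫ b₂) := by
    rw [Category.assoc, hθb]
    exact hL₁P
  obtain ⟨k, hk⟩ := hL₂max ⟨pullback w.hom a₁, hW₁⟩
    (ObjectProperty.homMk (pullback.snd w.hom a₁ ≫ θ)) hθo hP2
  have hk' : k.hom ≫ pullback.snd w.hom a₂ = pullback.snd w.hom a₁ ≫ θ :=
    congrArg (fun m => m.hom) hk
  have e1 : (k.hom ≫ pullback.fst w.hom a₂) ≫ w.hom = pullback.snd w.hom a₁ ≫ θ ≫ a₂ := by
    rw [Category.assoc, pullback.condition, ← Category.assoc, hk', Category.assoc]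
  refine ⟨AlgSp.Points.map (k.hom ≫ pullback.fst w.hom a₂) z, ?_⟩
  rw [← hz2, ← AlgSp.Points.map_comp, ← AlgSp.Points.map_comp, e1]

/-- stack-level saturation: the image of the largest open subspace of the chart `F = V ×_𝒴 𝒳` is
saturated for `F ⟶ 𝒳` -/
theorem saturated {𝒳 𝒴 : AlgSt.Cat S} (g𝒳 : FibCat.IsFibGrpd 𝒳.p)
    (h𝒴 : AlgSt.IsAlgStack Scheme.fppfPrecoverage 𝒴)
    (P Q R : MorphismProperty (AlgSp.Sp S))
    (h₂ : ∀ (X Y : AlgSp.Space S) (g : X ⟶ Y), AlgSp.LocP @Smooth g.hom → R g.hom)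
    (h₄ : BCLargest P Q R) (f : 𝒳 ⥤ᵇ 𝒴) {V : Over S} (y : FibCat.overCat V ⥤ᵇ 𝒴)
    (hy₁ : AlgSt.RepByAlgSpWith (AlgSp.LocP @Smooth) y)
    (F : AlgSp.Space S) (e : AlgSt.ofSp F.obj ⥤ᵇ FibCat.fp y f) (he : FibCat.IsEquivOver e)
    (φ : F.obj ⟶ (AlgSp.yon S).obj V)
    (hφ : φ = AlgSt.spMapOfOver (BasedFunctor.comp e (FibCat.fpFst y f))) (hφQ : Q φ)
    (W : AlgSp.Space S) (w : W ⟶ F)
    (hw : Largest P (ObjectProperty.homMk φ : F ⟶ ySp V) W w)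
    (g g' : AlgSt.Points (AlgSt.ofSp F.obj))
    (hg : g ∈ Set.range (AlgSt.Points.map (AlgSt.ofSpMap w.hom)))
    (hgg : AlgSt.Points.map (BasedFunctor.comp e (FibCat.fpSnd y f)) g =
      AlgSt.Points.map (BasedFunctor.comp e (FibCat.fpSnd y f)) g') :
    g' ∈ Set.range (AlgSt.Points.map (AlgSt.ofSpMap w.hom)) := by
  have g𝒴 := h𝒴.isStack.1
  obtain ⟨G₂, e₂, he₂⟩ := repByAlgSp_fp_of_diag g𝒴 h𝒴.diag y y
    (AlgStDiagLft.repByAlgSp_overCat V) (AlgStDiagLft.repByAlgSp_overCat V)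
  obtain ⟨π₁, hπ₁⟩ : ∃ π₁ : G₂.obj ⟶ (AlgSp.yon S).obj V,
      π₁ = AlgSt.spMapOfOver (BasedFunctor.comp e₂ (FibCat.fpFst y y)) := ⟨_, rfl⟩
  obtain ⟨π₂, hπ₂⟩ : ∃ π₂ : G₂.obj ⟶ (AlgSp.yon S).obj V,
      π₂ = AlgSt.spMapOfOver (BasedFunctor.comp e₂ (FibCat.fpSnd y y)) := ⟨_, rfl⟩
  have hs₁ : AlgSp.LocP @Smooth π₁ := by
    rw [hπ₁]
    exact fst_prop _ good_smooth.bc good_smooth.toC.charts y hy₁ V y G₂ e₂ he₂
  have hs₂ : AlgSp.LocP @Smooth π₂ := by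
    rw [hπ₂]
    exact snd_prop _ good_smooth.bc good_smooth.toC.charts y V y hy₁ G₂ e₂ he₂
  have hR₁ : R π₁ := h₂ G₂ (ySp V) (ObjectProperty.homMk π₁) hs₁
  have hR₂ : R π₂ := h₂ G₂ (ySp V) (ObjectProperty.homMk π₂) hs₂
  have sq₁ := IsPullback.of_hasPullback φ π₁
  have sq₂ := IsPullback.of_hasPullback φ π₂
  obtain ⟨θ, hθ, hθb, hlift⟩ := exists_theta' y f g𝒳 g𝒴 F e he G₂ e₂ he₂ φ hφ π₁ π₂ hπ₁ hπ₂
    _ _ _ _ sq₁ sq₂
  obtain ⟨r, hr1, hr2⟩ := hlift g g' hgg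
  obtain ⟨r', rfl⟩ := ptOf_surjective r
  have hr : AlgSp.Points.map (pullback.fst φ π₁) r' ∈ Set.range (AlgSp.Points.map w.hom) := by
    obtain ⟨g₀, hg₀⟩ := hg
    obtain ⟨g₀', rfl⟩ := ptOf_surjective g₀
    refine ⟨g₀', ptOf_injective ?_⟩
    rw [ptOf_map, ptOf_map, hg₀, hr1]
  obtain ⟨s, hs⟩ := sat_sheaf P Q R h₄ (ObjectProperty.homMk φ : F ⟶ ySp V)
    (ObjectProperty.homMk π₁ : G₂ ⟶ ySp V) (ObjectProperty.homMk π₂ : G₂ ⟶ ySp V) hφQ hR₁ hR₂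
    w hw (pullback.fst φ π₁) (pullback.snd φ π₁) (pullback.fst φ π₂) (pullback.snd φ π₂)
    sq₁ sq₂ θ hθ hθb r' hr
  refine ⟨ptOf s, ?_⟩
  rw [← ptOf_map, hs, ptOf_map, hr2]

variable {𝒳 𝒴 : AlgSt.Cat S}

/-- the chart of the restriction of `f` to an open substack: an open subspace of the chart of
`f`, with the expected points -/
theorem chart_sub (g𝒳 : FibCat.IsFibGrpd 𝒳.p) (f : 𝒳 ⥤ᵇ 𝒴) {V : Over S}
    (y : FibCat.overCat V ⥤ᵇ 𝒴) (F : AlgSp.Space S) (e : AlgSt.ofSp F.obj ⥤ᵇ FibCat.fp y f)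
    (he : FibCat.IsEquivOver e) (Q₁ : 𝒳.obj → Prop)
    (hQ₁g : FibCat.IsFibGrpd (AlgSt.fullSub 𝒳 Q₁).p)
    (hQ₁o : AlgSt.IsOpenImm (AlgSt.subIncl 𝒳 Q₁)) :
    ∃ (F₁ : AlgSp.Space S) (j₁ : F₁ ⟶ F)
      (ε₁ : AlgSt.ofSp F₁.obj ⥤ᵇ FibCat.fp y (BasedFunctor.comp (AlgSt.subIncl 𝒳 Q₁) f)),
      FibCat.IsEquivOver ε₁ ∧ AlgSp.RepWith @IsOpenImmersion j₁.hom ∧
      AlgSt.spMapOfOver (BasedFunctor.comp ε₁ (FibCat.fpFst y _)) =
        j₁.hom ≫ AlgSt.spMapOfOver (BasedFunctor.comp e (FibCat.fpFst y f)) ∧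
      Set.range (AlgSt.Points.map (AlgSt.ofSpMap j₁.hom)) =
        AlgSt.Points.map (BasedFunctor.comp e (FibCat.fpSnd y f)) ⁻¹'
          Set.range (AlgSt.Points.map (AlgSt.subIncl 𝒳 Q₁)) := by
  have gF : FibCat.IsFibGrpd (AlgSt.ofSp F.obj).p := (isAlgStack_ofSp F).isStack.1
  obtain ⟨F₁, j₁, ε, hε, ⟨ι⟩, hj₁⟩ := exists_space_of_fp' (AlgSp.RepWith @IsOpenImmersion)
    (goodC_repWith @IsOpenImmersion).bc (goodC_repWith @IsOpenImmersion).charts hQ₁g g𝒳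
    (AlgSt.subIncl 𝒳 Q₁) hQ₁o F (BasedFunctor.comp e (FibCat.fpSnd y f))
  have : (BasedFunctor.id 𝒳).toFunctor.Full := Functor.Full.id
  have : (BasedFunctor.id 𝒳).toFunctor.Faithful := Functor.Faithful.id
  let M := fpMap (F' := BasedFunctor.comp e (FibCat.fpSnd y f)) (G' := AlgSt.subIncl 𝒳 Q₁)
    (F := FibCat.fpSnd y f) (G := AlgSt.subIncl 𝒳 Q₁) e (BasedFunctor.id _) (BasedFunctor.id 𝒳)
    (Iso.refl _) (idSq (AlgSt.subIncl 𝒳 Q₁))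
  have hM : FibCat.IsEquivOver M := isEquivOver_fpMap _ _ _ _ _ he isEquivOver_id
  obtain ⟨ε₁, hε₁def⟩ : ∃ ε₁ : AlgSt.ofSp F₁.obj ⥤ᵇ
      FibCat.fp y (BasedFunctor.comp (AlgSt.subIncl 𝒳 Q₁) f),
      ε₁ = BasedFunctor.comp ε (BasedFunctor.comp M (pasteR y f (AlgSt.subIncl 𝒳 Q₁))) :=
    ⟨_, rfl⟩
  have hε₁ : FibCat.IsEquivOver ε₁ := by
    rw [hε₁def]
    exact isEquivOver_comp _ _ hε (isEquivOver_comp _ _ hM (isEquivOver_pasteR y f _))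
  have hEq : BasedFunctor.comp ε₁ (FibCat.fpFst y (BasedFunctor.comp (AlgSt.subIncl 𝒳 Q₁) f)) =
      BasedFunctor.comp (BasedFunctor.comp ε (FibCat.fpFst _ (AlgSt.subIncl 𝒳 Q₁)))
        (BasedFunctor.comp e (FibCat.fpFst y f)) := by
    rw [hε₁def]
    apply basedFunctor_ext
    rfl
  have key : AlgSt.spMapOfOver
      (BasedFunctor.comp ε₁ (FibCat.fpFst y (BasedFunctor.comp (AlgSt.subIncl 𝒳 Q₁) f))) =
      j₁.hom ≫ AlgSt.spMapOfOver (BasedFunctor.comp e (FibCat.fpFst y f)) := by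
    rw [hEq, ← spMapOfOver_ofSpMap_comp]
    exact spMapOfOver_congr (whiskerR ι _)
  refine ⟨F₁, j₁, ε₁, hε₁, hj₁, key, ?_⟩
  have hj : ∀ r : AlgSt.Points (AlgSt.ofSp F₁.obj),
      AlgSt.Points.map (AlgSt.ofSpMap j₁.hom) r =
        AlgSt.Points.map (FibCat.fpFst _ (AlgSt.subIncl 𝒳 Q₁)) (AlgSt.Points.map ε r) := by
    intro r
    rw [← points_map_congr ι r, points_map_comp]
  apply Set.eq_of_subset_of_subset
  · rintro _ ⟨r, rfl⟩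
    show ∃ q, AlgSt.Points.map (AlgSt.subIncl 𝒳 Q₁) q =
      AlgSt.Points.map (BasedFunctor.comp e (FibCat.fpSnd y f))
        (AlgSt.Points.map (AlgSt.ofSpMap j₁.hom) r)
    refine ⟨AlgSt.Points.map (FibCat.fpSnd _ (AlgSt.subIncl 𝒳 Q₁)) (AlgSt.Points.map ε r), ?_⟩
    rw [hj r]
    exact (points_fp_comm _ _ _).symm
  · rintro g ⟨q, hq⟩
    obtain ⟨ρ, hρ1, -⟩ := exists_point_fp hQ₁g g𝒳 gF (AlgSt.subIncl 𝒳 Q₁)
      (BasedFunctor.comp e (FibCat.fpSnd y f)) g q hq.symm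
    obtain ⟨r, hr⟩ := isSurjective_of_isEquivOver ε hε ρ
    refine ⟨r, ?_⟩
    rw [hj r, hr, hρ1]

/-- the restriction of `f` to an open substack has `P` iff its chart has -/
theorem rep_sub_iff (h𝒳 : AlgSt.IsAlgStack Scheme.fppfPrecoverage 𝒳)
    (P : MorphismProperty (AlgSp.Sp S)) (hPb : BaseChangeSp P)
    (hP : AlgSp.IsLocalOnBase AlgSp.IsFppfCover P) (f : 𝒳 ⥤ᵇ 𝒴) (hf1 : AlgSt.RepByAlgSp1 f)
    {V : Over S} (y : FibCat.overCat V ⥤ᵇ 𝒴)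
    (hy₁ : AlgSt.RepByAlgSpWith (AlgSp.LocP @Smooth) y)
    (hy₂ : AlgSt.RepByAlgSpWith AlgSp.IsSurjectiveMor y)
    (Q₁ : 𝒳.obj → Prop) (hQ₁ : AlgSt.IsOpenSubstack 𝒳 Q₁ Scheme.fppfPrecoverage)
    (F₁ : AlgSp.Space S)
    (ε₁ : AlgSt.ofSp F₁.obj ⥤ᵇ FibCat.fp y (BasedFunctor.comp (AlgSt.subIncl 𝒳 Q₁) f))
    (hε₁ : FibCat.IsEquivOver ε₁) (ψ : F₁.obj ⟶ (AlgSp.yon S).obj V)
    (key : AlgSt.spMapOfOver (BasedFunctor.comp ε₁ (FibCat.fpFst y _)) = ψ) :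
    AlgSt.RepByAlgSpWith P (BasedFunctor.comp (AlgSt.subIncl 𝒳 Q₁) f) ↔ P ψ := by
  have hPc := ofCharts_of_isLocalOnBase P hP
  constructor
  · intro h
    have := ((repByAlgSpWith_iff_forall P hPb hPc _).1 h).2 V y F₁ ε₁ hε₁
    rw [key] at this
    exact this
  · intro h
    have hi1 : AlgSt.RepByAlgSp1 (AlgSt.subIncl 𝒳 Q₁) := repByAlgSp1_of_repByAlgSpWith hQ₁.2.2
    have hrep1 : AlgSt.RepByAlgSp1 (BasedFunctor.comp (AlgSt.subIncl 𝒳 Q₁) f) :=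
      (repByAlgSpWith_top_iff _).1 (good_top.toC.repComp hQ₁.2.1.isStack.1 h𝒳.isStack.1 _ _
        ((repByAlgSpWith_top_iff _).2 hi1) ((repByAlgSpWith_top_iff _).2 hf1))
    refine repByAlgSpWith_descent P hPb hP _ hrep1 y
      (AlgStDiagLft.les_of_smooth_surjective y hy₁ hy₂) ?_
    rw [← repByAlgSpWith_comp_equiv_iff P ε₁ hε₁, repByAlgSpWith_iff_spMapOfOver P hPb hPc F₁, key]
    exact h

/-- **S12877** -/
theorem main (h𝒳 : AlgSt.IsAlgStack Scheme.fppfPrecoverage 𝒳)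
    (h𝒴 : AlgSt.IsAlgStack Scheme.fppfPrecoverage 𝒴)
    (P Q R : MorphismProperty (AlgSp.Sp S)) (hPb : BaseChangeSp P)
    (hP : AlgSp.IsLocalOnBase AlgSp.IsFppfCover P)
    (h₂ : ∀ (X Y : AlgSp.Space S) (g : X ⟶ Y), AlgSp.LocP @Smooth g.hom → R g.hom)
    (h₃ : ∀ (X Y : AlgSp.Space S) (f : X ⟶ Y), Q f.hom →
      ∃ (W : AlgSp.Space S) (w : W ⟶ X), Largest P f W w)
    (h₄ : BCLargest P Q R) (f : 𝒳 ⥤ᵇ 𝒴) (hf : AlgSt.RepByAlgSpWith Q f) :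
    ∃ Q₀ : 𝒳.obj → Prop, AlgSt.IsOpenSubstack 𝒳 Q₀ Scheme.fppfPrecoverage ∧
      AlgSt.RepByAlgSpWith P (BasedFunctor.comp (AlgSt.subIncl 𝒳 Q₀) f) ∧
        ∀ Q₁ : 𝒳.obj → Prop, AlgSt.IsOpenSubstack 𝒳 Q₁ Scheme.fppfPrecoverage →
          AlgSt.RepByAlgSpWith P (BasedFunctor.comp (AlgSt.subIncl 𝒳 Q₁) f) →
            ∀ y, Q₁ y → Q₀ y := by
  have g𝒳 := h𝒳.isStack.1
  have hf1 : AlgSt.RepByAlgSp1 f := repByAlgSp1_of_repByAlgSpWith hf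
  obtain ⟨V, y, hy₁, hy₂⟩ := h𝒴.atlas
  obtain ⟨F, e, he, hφQ⟩ := hf V y
  obtain ⟨φ, hφ⟩ : ∃ φ : F.obj ⟶ (AlgSp.yon S).obj V,
      φ = AlgSt.spMapOfOver (BasedFunctor.comp e (FibCat.fpFst y f)) := ⟨_, rfl⟩
  rw [← hφ] at hφQ
  obtain ⟨W, w, hw⟩ := h₃ F (ySp V) (ObjectProperty.homMk φ) hφQ
  have hw' := hw
  obtain ⟨hw₁, hw₂, hw₃⟩ := hw'
  obtain ⟨x, hx⟩ : ∃ x : AlgSt.ofSp F.obj ⥤ᵇ 𝒳,
      x = BasedFunctor.comp e (FibCat.fpSnd y f) := ⟨_, rfl⟩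
  have hx₁ : AlgSt.RepByAlgSpWith (AlgSp.LocP @Smooth) x := by
    rw [hx]
    exact (repByAlgSpWith_comp_equiv_iff _ e he _).2 (repByAlgSpWith_fpSnd _ y f hy₁)
  have hx₂ : AlgSt.RepByAlgSpWith AlgSp.IsSurjectiveMor x := by
    rw [hx]
    exact (repByAlgSpWith_comp_equiv_iff _ e he _).2 (repByAlgSpWith_fpSnd _ y f hy₂)
  have hxfl : AlgSt.RepByAlgSpWith (AlgSp.LocP @Flat) x :=
    AlgStDiagLft.repByAlgSpWith_mono (AlgStDiagLft.locP_mono AlgStDiagLft.smooth_le_flat) hx₁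
  have hxfp : AlgSt.RepByAlgSpWith (AlgSp.LocP @LocallyOfFinitePresentation) x :=
    AlgStDiagLft.repByAlgSpWith_mono (AlgStDiagLft.locP_mono AlgStDiagLft.smooth_le_lfp) hx₁
  have hxs : AlgSt.IsSurjective x := isSurjective_of_rep g𝒳 x hx₂
  obtain ⟨ωW, hωW⟩ : ∃ ωW : Set (AlgSt.Points (AlgSt.ofSp F.obj)),
      ωW = Set.range (AlgSt.Points.map (AlgSt.ofSpMap w.hom)) := ⟨_, rfl⟩
  have hwimm : AlgSt.IsOpenImm (AlgSt.ofSpMap w.hom) :=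
    (repByAlgSpWith_ofPshMap_iff _ (goodC_repWith @IsOpenImmersion).bc
      (goodC_repWith @IsOpenImmersion).charts W.property F.property w.hom).2 hw₁
  have hωopen : IsOpen ωW := by
    have := isOpenMor_of_isOpenImm (isAlgStack_ofSp W) (isAlgStack_ofSp F)
      (AlgSt.ofSpMap w.hom) hwimm _ isOpen_univ
    rw [Set.image_univ] at this
    rw [hωW]
    exact this
  obtain ⟨T, hT⟩ : ∃ T : Set (AlgSt.Points 𝒳), T = AlgSt.Points.map x '' ωW := ⟨_, rfl⟩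
  have hTopen : IsOpen T := by
    rw [hT]
    exact isOpenMap_points_map_space g𝒳 F x hxfl hxfp ωW hωopen
  have hQ₀ := isOpenSubstack_subOf h𝒳 T hTopen
  have hsat : ∀ g g' : AlgSt.Points (AlgSt.ofSp F.obj), g ∈ ωW →
      AlgSt.Points.map x g = AlgSt.Points.map x g' → g' ∈ ωW := by
    intro g g' hg hgg
    rw [hωW] at hg ⊢
    rw [hx] at hgg
    exact saturated g𝒳 h𝒴 P Q R h₂ h₄ f y hy₁ F e he φ hφ hφQ W w hw g g' hg hgg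
  have hpre : AlgSt.Points.map x ⁻¹' T = ωW := by
    apply Set.eq_of_subset_of_subset
    · intro g hg
      rw [hT] at hg
      obtain ⟨g₁, hg₁, hgg⟩ := hg
      exact hsat g₁ g hg₁ hgg
    · intro g hg
      rw [hT]
      exact ⟨g, hg, rfl⟩
  refine ⟨subOf T, hQ₀, ?_, ?_⟩
  · obtain ⟨F₀, j₀, ε₀, hε₀, hj₀, key₀, hrange₀⟩ :=
      chart_sub g𝒳 f y F e he (subOf T) hQ₀.2.1.isStack.1 hQ₀.2.2
    rw [← hφ] at key₀
    rw [← hx, range_subIncl_subOf, hpre, hωW] at hrange₀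
    obtain ⟨κ₂, hκ₂⟩ := (Groth.Agent.H5.AlgSp.factors_through_open_iff j₀.hom hj₀ w.hom).2
      (range_sub_of_st _ _ hrange₀.ge)
    obtain ⟨κ₁, hκ₁⟩ := (Groth.Agent.H5.AlgSp.factors_through_open_iff w.hom hw₁ j₀.hom).2
      (range_sub_of_st _ _ hrange₀.le)
    have hmw : Mono w.hom := Groth.Agent.H3.AlgSpCov.mono_of_isOpenImmersion hw₁
    have hmj : Mono j₀.hom := Groth.Agent.H3.AlgSpCov.mono_of_isOpenImmersion hj₀
    have hκiso : IsIso κ₂ := by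
      refine ⟨⟨κ₁, ?_, ?_⟩⟩
      · rw [← cancel_mono w.hom, Category.assoc, hκ₁, hκ₂, Category.id_comp]
      · rw [← cancel_mono j₀.hom, Category.assoc, hκ₂, hκ₁, Category.id_comp]
    have hic : IsoCancel P := isoCancel_of_baseChangeSp hPb
    have hP0 : P (j₀.hom ≫ φ) := by
      apply hic κ₂ (j₀.hom ≫ φ) hκiso W.property F₀.property (AlgSp.IsAlgSpace.yon_obj V)
      rw [← Category.assoc, hκ₂]
      exact hw₂
    exact (rep_sub_iff h𝒳 P hPb hP f hf1 y hy₁ hy₂ (subOf T) hQ₀ F₀ ε₀ hε₀ (j₀.hom ≫ φ) key₀).2 hP0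
  · intro Q₁ hQ₁ hL a ha
    obtain ⟨F₁, j₁, ε₁, hε₁, hj₁, key₁, hrange₁⟩ :=
      chart_sub g𝒳 f y F e he Q₁ hQ₁.2.1.isStack.1 hQ₁.2.2
    rw [← hφ] at key₁
    rw [← hx] at hrange₁
    have hP1 : P (j₁.hom ≫ φ) :=
      (rep_sub_iff h𝒳 P hPb hP f hf1 y hy₁ hy₂ Q₁ hQ₁ F₁ ε₁ hε₁ (j₁.hom ≫ φ) key₁).1 hL
    obtain ⟨k, hk⟩ := hw₃ F₁ j₁ hj₁ hP1
    have hk' : k.hom ≫ w.hom = j₁.hom := congrArg (fun m => m.hom) hk
    have hTT : Set.range (AlgSt.Points.map (AlgSt.subIncl 𝒳 Q₁)) ⊆ T := by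
      intro t ht
      obtain ⟨g, rfl⟩ := hxs t
      have hg : g ∈ Set.range (AlgSt.Points.map (AlgSt.ofSpMap j₁.hom)) := by
        rw [hrange₁]
        exact ht
      obtain ⟨r, rfl⟩ := hg
      rw [hT]
      refine ⟨AlgSt.Points.map (AlgSt.ofSpMap j₁.hom) r, ?_, rfl⟩
      rw [hωW, ← hk', points_map_ofSpMap_comp]
      exact ⟨_, rfl⟩
    exact subOf_mono hTT a (Eq.mp (congrFun (eq_subOf_range h𝒳 Q₁ hQ₁) a) ha)

end Groth.Agent.H3.LargestOpenSt
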