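import Mathlib
import Groth.Agent.Lib.Helper3.LargestOpenSt
import Groth.Agent.Lib.Helper3.ImmCover
import Groth.Agent.Lib.Helper3.AlgSt.Algebraic
import Groth.Agent.Lib.Helper3.AlgSt.OpenSub6
import Groth.Agent.Lib.Helper3.AlgSt.Points.FpChart

/-!
# Base change of the largest open substack on which a morphism has a property (helper3, S19908)

For `f : 𝒳 ⟶ 𝒴` representable by algebraic spaces with `Q`, `𝒳' ⊂ 𝒳` the largest open substack on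
which `f` has `P`, and `z : 𝒵 ⟶ 𝒴` representable by algebraic spaces with `R`, the inverse image of
`𝒳'` in `𝒵 ×_𝒴 𝒳` is the largest open substack on which the projection to `𝒵` has `P`.
-/

set_option autoImplicit false
universe u
open CategoryTheory CategoryTheory.Functor CategoryTheory.Limits Opposite AlgebraicGeometry

noncomputable section

namespace Groth.Agent.H3.LargestOpenBC

open Groth.Agent.H3.FibCatAux Groth.Agent.H3.GerbAux Groth.Agent.H3.FpCalc Groth.Agent.H3.TwoCart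
  Groth.Agent.H3.StackPsh Groth.Agent.H3.PshBridge Groth.Agent.H3.AlgStAux Groth.Agent.H3.RepBridge
  Groth.Agent.H3.SetoidPsh Groth.Agent.H3.BaseChangeSp Groth.Agent.H3.AlgStComp
  Groth.Agent.H3.AlgStProps Groth.Agent.H3.AlgStBridge2 Groth.Agent.H3.AlgStCharts
  Groth.Agent.H3.AlgStDescent Groth.Agent.H3.Whisker Groth.Agent.H3.AlgStLES
  Groth.Agent.H3.FPtRel Groth.Agent.H3.AlgStStackRep Groth.Agent.H3.TwoYoneda
  Groth.Agent.H3.AlgStPoints Groth.Agent.H3.AlgStLocQ Groth.Agent.H3.AlgStDiag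
  Groth.Agent.H3.OpenSub Groth.Agent.H3.SatDesc Groth.Agent.H3.LargestOpenSt
  Groth.Agent.H3.AlgStAlgebraic

variable {S : Scheme.{u}} {𝒳 𝒴 𝒵 : AlgSt.Cat S}

/-! ### The largest open substack, with the atlas data as parameters -/

/-- `LargestOpenSt.main` for given atlas data: the largest open substack is the image of the
largest open subspace of the chart. -/
theorem main_param (h𝒳 : AlgSt.IsAlgStack Scheme.fppfPrecoverage 𝒳)
    (h𝒴 : AlgSt.IsAlgStack Scheme.fppfPrecoverage 𝒴)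
    (P Q R : MorphismProperty (AlgSp.Sp S)) (hPb : BaseChangeSp P)
    (hP : AlgSp.IsLocalOnBase AlgSp.IsFppfCover P)
    (h₂ : ∀ (X Y : AlgSp.Space S) (g : X ⟶ Y), AlgSp.LocP @Smooth g.hom → R g.hom)
    (h₄ : BCLargest P Q R) (f : 𝒳 ⥤ᵇ 𝒴) (hf1 : AlgSt.RepByAlgSp1 f)
    {V : Over S} (y : FibCat.overCat V ⥤ᵇ 𝒴)
    (hy₁ : AlgSt.RepByAlgSpWith (AlgSp.LocP @Smooth) y)
    (hy₂ : AlgSt.RepByAlgSpWith AlgSp.IsSurjectiveMor y)
    (F : AlgSp.Space S) (e : AlgSt.ofSp F.obj ⥤ᵇ FibCat.fp y f) (he : FibCat.IsEquivOver e)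
    (φ : F.obj ⟶ (AlgSp.yon S).obj V)
    (hφ : φ = AlgSt.spMapOfOver (BasedFunctor.comp e (FibCat.fpFst y f))) (hφQ : Q φ)
    (W : AlgSp.Space S) (w : W ⟶ F)
    (hw : Largest P (ObjectProperty.homMk φ : F ⟶ ySp V) W w)
    (x : AlgSt.ofSp F.obj ⥤ᵇ 𝒳) (hx : x = BasedFunctor.comp e (FibCat.fpSnd y f))
    (ωW : Set (AlgSt.Points (AlgSt.ofSp F.obj)))
    (hωW : ωW = Set.range (AlgSt.Points.map (AlgSt.ofSpMap w.hom)))
    (T : Set (AlgSt.Points 𝒳)) (hT : T = AlgSt.Points.map x '' ωW) :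
    AlgSt.IsOpenSubstack 𝒳 (subOf T) Scheme.fppfPrecoverage ∧
      AlgSt.RepByAlgSpWith P (BasedFunctor.comp (AlgSt.subIncl 𝒳 (subOf T)) f) ∧
      (∀ Q₁ : 𝒳.obj → Prop, AlgSt.IsOpenSubstack 𝒳 Q₁ Scheme.fppfPrecoverage →
        AlgSt.RepByAlgSpWith P (BasedFunctor.comp (AlgSt.subIncl 𝒳 Q₁) f) →
          ∀ a, Q₁ a → subOf T a) ∧
      AlgSt.Points.map x ⁻¹' T = ωW ∧ AlgSt.IsSurjective x := by
  have g𝒳 := h𝒳.isStack.1
  have hw' := hw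
  obtain ⟨hw₁, hw₂, hw₃⟩ := hw'
  have hx₁ : AlgSt.RepByAlgSpWith (AlgSp.LocP @Smooth) x := by
    rw [hx]
    exact (repByAlgSpWith_comp_equiv_iff _ e he _).2 (repByAlgSpWith_fpSnd _ y f hy₁)
  have hx₂ : AlgSt.RepByAlgSpWith AlgSp.IsSurjectiveMor x := by
    rw [hx]
    exact (repByAlgSpWith_comp_equiv_iff _ e he _).2 (repByAlgSpWith_fpSnd _ y f hy₂)
  have hxfl : AlgSt.RepByAlgSpWith (AlgSp.LocP @Flat) x :=
    AlgStDiagLft.repByAlgSpWith_mono (AlgStDiagLft.locP_mono AlgStDiagLft.smooth_le_flat) hx₁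
  have hxfp : AlgSt.RepByAlgSpWith (AlgSp.LocP @LocallyOfFinitePresentation) x :=
    AlgStDiagLft.repByAlgSpWith_mono (AlgStDiagLft.locP_mono AlgStDiagLft.smooth_le_lfp) hx₁
  have hxs : AlgSt.IsSurjective x := isSurjective_of_rep g𝒳 x hx₂
  have hwimm : AlgSt.IsOpenImm (AlgSt.ofSpMap w.hom) :=
    (repByAlgSpWith_ofPshMap_iff _ (goodC_repWith @IsOpenImmersion).bc
      (goodC_repWith @IsOpenImmersion).charts W.property F.property w.hom).2 hw₁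
  have hωopen : IsOpen ωW := by
    have := isOpenMor_of_isOpenImm (isAlgStack_ofSp W) (isAlgStack_ofSp F)
      (AlgSt.ofSpMap w.hom) hwimm _ isOpen_univ
    rw [Set.image_univ] at this
    rw [hωW]
    exact this
  have hTopen : IsOpen T := by
    rw [hT]
    exact isOpenMap_points_map_space g𝒳 F x hxfl hxfp ωW hωopen
  have hQ₀ := isOpenSubstack_subOf h𝒳 T hTopen
  have hsat : ∀ g g' : AlgSt.Points (AlgSt.ofSp F.obj), g ∈ ωW →
      AlgSt.Points.map x g = AlgSt.Points.map x g' → g' ∈ ωW := by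
    intro g g' hg hgg
    rw [hωW] at hg ⊢
    rw [hx] at hgg
    exact saturated g𝒳 h𝒴 P Q R h₂ h₄ f y hy₁ F e he φ hφ hφQ W w hw g g' hg hgg
  have hpre : AlgSt.Points.map x ⁻¹' T = ωW := by
    apply Set.eq_of_subset_of_subset
    · intro g hg
      rw [hT] at hg
      obtain ⟨g₁, hg₁, hgg⟩ := hg
      exact hsat g₁ g hg₁ hgg
    · intro g hg
      rw [hT]
      exact ⟨g, hg, rfl⟩
  refine ⟨hQ₀, ?_, ?_, hpre, hxs⟩
  · obtain ⟨F₀, j₀, ε₀, hε₀, hj₀, key₀, hrange₀⟩ :=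
      chart_sub g𝒳 f y F e he (subOf T) hQ₀.2.1.isStack.1 hQ₀.2.2
    rw [← hφ] at key₀
    rw [← hx, range_subIncl_subOf, hpre, hωW] at hrange₀
    obtain ⟨κ₂, hκ₂⟩ := (Groth.Agent.H5.AlgSp.factors_through_open_iff j₀.hom hj₀ w.hom).2
      (range_sub_of_st _ _ hrange₀.ge)
    obtain ⟨κ₁, hκ₁⟩ := (Groth.Agent.H5.AlgSp.factors_through_open_iff w.hom hw₁ j₀.hom).2
      (range_sub_of_st _ _ hrange₀.le)
    have hmw : Mono w.hom := Groth.Agent.H3.AlgSpCov.mono_of_isOpenImmersion hw₁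
    have hmj : Mono j₀.hom := Groth.Agent.H3.AlgSpCov.mono_of_isOpenImmersion hj₀
    have hκiso : IsIso κ₂ := by
      refine ⟨⟨κ₁, ?_, ?_⟩⟩
      · rw [← cancel_mono w.hom, Category.assoc, hκ₁, hκ₂, Category.id_comp]
      · rw [← cancel_mono j₀.hom, Category.assoc, hκ₂, hκ₁, Category.id_comp]
    have hic : IsoCancel P := isoCancel_of_baseChangeSp hPb
    have hP0 : P (j₀.hom ≫ φ) := by
      apply hic κ₂ (j₀.hom ≫ φ) hκiso W.property F₀.property (AlgSp.IsAlgSpace.yon_obj V)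
      rw [← Category.assoc, hκ₂]
      exact hw₂
    exact (rep_sub_iff h𝒳 P hPb hP f hf1 y hy₁ hy₂ (subOf T) hQ₀ F₀ ε₀ hε₀ (j₀.hom ≫ φ) key₀).2 hP0
  · intro Q₁ hQ₁ hL a ha
    obtain ⟨F₁, j₁, ε₁, hε₁, hj₁, key₁, hrange₁⟩ :=
      chart_sub g𝒳 f y F e he Q₁ hQ₁.2.1.isStack.1 hQ₁.2.2
    rw [← hφ] at key₁
    rw [← hx] at hrange₁
    have hP1 : P (j₁.hom ≫ φ) :=
      (rep_sub_iff h𝒳 P hPb hP f hf1 y hy₁ hy₂ Q₁ hQ₁ F₁ ε₁ hε₁ (j₁.hom ≫ φ) key₁).1 hL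
    obtain ⟨k, hk⟩ := hw₃ F₁ j₁ hj₁ hP1
    have hk' : k.hom ≫ w.hom = j₁.hom := congrArg (fun m => m.hom) hk
    have hTT : Set.range (AlgSt.Points.map (AlgSt.subIncl 𝒳 Q₁)) ⊆ T := by
      intro t ht
      obtain ⟨g, rfl⟩ := hxs t
      have hg : g ∈ Set.range (AlgSt.Points.map (AlgSt.ofSpMap j₁.hom)) := by
        rw [hrange₁]
        exact ht
      obtain ⟨r, rfl⟩ := hg
      rw [hT]
      refine ⟨AlgSt.Points.map (AlgSt.ofSpMap j₁.hom) r, ?_, rfl⟩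
      rw [hωW, ← hk', points_map_ofSpMap_comp]
      exact ⟨_, rfl⟩
    exact subOf_mono hTT a (Eq.mp (congrFun (eq_subOf_range h𝒳 Q₁ hQ₁) a) ha)

/-! ### Auxiliary lemmas -/

lemma pasteL_comp_fpSnd {𝒲 𝒵' 𝒴' 𝒳' : AlgSt.Cat S} (y : 𝒲 ⥤ᵇ 𝒵') (g : 𝒵' ⥤ᵇ 𝒴') (f : 𝒳' ⥤ᵇ 𝒴') :
    BasedFunctor.comp (pasteL y g f) (FibCat.fpSnd (BasedFunctor.comp y g) f) =
      BasedFunctor.comp (FibCat.fpSnd y (FibCat.fpFst g f)) (FibCat.fpSnd g f) := by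
  apply basedFunctor_ext; rfl

/-- points of the pullback of a morphism of sheaves -/
lemma range_of_isPullback {A B C D : AlgSp.Sp S} {k : D ⟶ A} {w' : D ⟶ B} {w : A ⟶ C}
    {a : B ⟶ C} (sq : IsPullback k w' w a) :
    Set.range (AlgSt.Points.map (AlgSt.ofSpMap w')) =
      AlgSt.Points.map (AlgSt.ofSpMap a) ⁻¹' Set.range (AlgSt.Points.map (AlgSt.ofSpMap w)) := by
  apply Set.eq_of_subset_of_subset
  · rintro _ ⟨r, rfl⟩
    refine ⟨AlgSt.Points.map (AlgSt.ofSpMap k) r, ?_⟩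
    rw [← points_map_ofSpMap_comp, ← points_map_ofSpMap_comp, sq.w]
  · intro g hg
    obtain ⟨g₀, hg₀⟩ := hg
    obtain ⟨g', rfl⟩ := ptOf_surjective g
    obtain ⟨g₀', rfl⟩ := ptOf_surjective g₀
    rw [← ptOf_map, ← ptOf_map] at hg₀
    obtain ⟨z, -, hz2⟩ :=
      Groth.Agent.H5.AlgSp.points_pullback_surjective sq g₀' g' (ptOf_injective hg₀)
    refine ⟨ptOf z, ?_⟩
    rw [← ptOf_map, hz2]

/-- the inverse image of the substack of a set of points is the substack of the inverse image -/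
theorem subOf_preimage_iff {𝒜 : AlgSt.Cat S} (g𝒜 : FibCat.IsFibGrpd 𝒜.p)
    (g𝒳 : FibCat.IsFibGrpd 𝒳.p) (G : 𝒜 ⥤ᵇ 𝒳) (T : Set (AlgSt.Points 𝒳)) (b : 𝒜.obj) :
    subOf T (G.obj b) ↔ subOf (AlgSt.Points.map G ⁻¹' T) b := by
  constructor
  · rintro h p ⟨m⟩
    show AlgSt.Points.map G (AlgSt.Points.mk p) ∈ T
    rw [AlgSt.Points.map_mk]
    exact h (p.map G) ⟨G.map m⟩
  · rintro h p ⟨m⟩
    obtain ⟨f, hf⟩ : ∃ f : 𝒳.p.obj p.obj ⟶ 𝒜.p.obj b, f = 𝒳.p.map m ≫ eqToHom (G.w_obj b) :=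
      ⟨_, rfl⟩
    obtain ⟨b', φ, hφ⟩ := g𝒜.exists_lift (x := b) f
    have hGφ : 𝒳.p.IsHomLift f (G.map φ) := BasedFunctor.preserves_isHomLift G f φ
    have hcart : 𝒳.p.IsStronglyCartesian f (G.map φ) :=
      isStronglyCartesian_of_isHomLift 𝒳.p g𝒳 _ _
    have hm : 𝒳.p.IsHomLift (𝟙 (𝒳.p.obj p.obj) ≫ f) m := by
      rw [Category.id_comp, hf]
      have : 𝒳.p.IsHomLift (𝒳.p.map m) m := IsHomLift.map 𝒳.p m
      infer_instance
    let χ : p.obj ⟶ G.obj b' := IsStronglyCartesian.map 𝒳.p f (G.map φ) (f' := 𝟙 _ ≫ f) rfl m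
    have hb' : 𝒜.p.obj b' = Over.mk p.str := (IsHomLift.domain_eq 𝒜.p f φ).trans p.lies
    have h1 : AlgSt.Points.map G (AlgSt.Points.mk ⟨p.K, p.str, b', hb'⟩) ∈ T :=
      h ⟨p.K, p.str, b', hb'⟩ ⟨φ⟩
    rw [AlgSt.Points.map_mk] at h1
    have h3 : AlgSt.Points.mk p =
        AlgSt.Points.mk ((⟨p.K, p.str, b', hb'⟩ : AlgSt.FPt 𝒜).map G) :=
      AlgSt.Points.sound ⟨p, 𝟙 _, χ, trivial⟩
    rw [h3]
    exact h1

/-! ### The chart of the base change -/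

/-- For an atlas `y : V ⟶ 𝒴`, the chart `F = V ×_𝒴 𝒳` of `f` with its largest open subspace `W`,
and `z : 𝒵 ⟶ 𝒴` with `R`: an atlas `u : U ⟶ 𝒵` through `V ×_𝒴 𝒵`, the chart
`F_U = U ×_V F` of the projection `𝒵 ×_𝒴 𝒳 ⟶ 𝒵`, whose largest open subspace is `U ×_V W`. -/
theorem exists_bc_chart (h𝒴 : AlgSt.IsAlgStack Scheme.fppfPrecoverage 𝒴)
    (g𝒵 : FibCat.IsFibGrpd 𝒵.p)
    (P Q R : MorphismProperty (AlgSp.Sp S)) (hQb : BaseChangeSp Q)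
    (h₂ : ∀ (X Y : AlgSp.Space S) (g : X ⟶ Y), AlgSp.LocP @Smooth g.hom → R g.hom)
    (h₄ : BCLargest P Q R) (f : 𝒳 ⥤ᵇ 𝒴) (z : 𝒵 ⥤ᵇ 𝒴) (hz : AlgSt.RepByAlgSpWith R z)
    {V : Over S} (y : FibCat.overCat V ⥤ᵇ 𝒴)
    (hy₁ : AlgSt.RepByAlgSpWith (AlgSp.LocP @Smooth) y)
    (hy₂ : AlgSt.RepByAlgSpWith AlgSp.IsSurjectiveMor y)
    (F : AlgSp.Space S) (e : AlgSt.ofSp F.obj ⥤ᵇ FibCat.fp y f) (he : FibCat.IsEquivOver e)
    (φ : F.obj ⟶ (AlgSp.yon S).obj V)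
    (hφ : φ = AlgSt.spMapOfOver (BasedFunctor.comp e (FibCat.fpFst y f))) (hφQ : Q φ)
    (W : AlgSp.Space S) (w : W ⟶ F)
    (hw : Largest P (ObjectProperty.homMk φ : F ⟶ ySp V) W w) :
    ∃ (U : Over S) (u : FibCat.overCat U ⥤ᵇ 𝒵) (F_U : AlgSp.Space S)
      (e_U : AlgSt.ofSp F_U.obj ⥤ᵇ FibCat.fp u (FibCat.fpFst z f)) (a : F_U.obj ⟶ F.obj)
      (φ_U : F_U.obj ⟶ (AlgSp.yon S).obj U) (W_U : AlgSp.Space S) (w_U : W_U ⟶ F_U)
      (k : W_U.obj ⟶ W.obj),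
      AlgSt.RepByAlgSpWith (AlgSp.LocP @Smooth) u ∧
      AlgSt.RepByAlgSpWith AlgSp.IsSurjectiveMor u ∧
      FibCat.IsEquivOver e_U ∧
      φ_U = AlgSt.spMapOfOver (BasedFunctor.comp e_U (FibCat.fpFst u (FibCat.fpFst z f))) ∧
      Q φ_U ∧ Largest P (ObjectProperty.homMk φ_U : F_U ⟶ ySp U) W_U w_U ∧
      IsPullback k w_U.hom w.hom a ∧
      ∀ g : AlgSt.Points (AlgSt.ofSp F_U.obj),
        AlgSt.Points.map (FibCat.fpSnd z f)
          (AlgSt.Points.map (BasedFunctor.comp e_U (FibCat.fpSnd u (FibCat.fpFst z f))) g) =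
        AlgSt.Points.map (BasedFunctor.comp e (FibCat.fpSnd y f))
          (AlgSt.Points.map (AlgSt.ofSpMap a) g) := by
  have g𝒴 := h𝒴.isStack.1
  obtain ⟨G₁, e₁, he₁, hγR⟩ := hz V y
  obtain ⟨γ, hγ⟩ : ∃ γ : G₁.obj ⟶ (AlgSp.yon S).obj V,
      γ = AlgSt.spMapOfOver (BasedFunctor.comp e₁ (FibCat.fpFst y z)) := ⟨_, rfl⟩
  rw [← hγ] at hγR
  obtain ⟨U, q, hqe, hqs⟩ := G₁.property.atlas
  obtain ⟨c, hc⟩ : ∃ c : U ⟶ V, (AlgSp.yon S).map c = q ≫ γ :=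
    ⟨(AlgSp.yon S).preimage (q ≫ γ), by simp⟩
  have hqe' : AlgSp.LocP @Etale q := Groth.Agent.H5.AlgSp.locP_of_repWith le_rfl hqe
  have hqsm : AlgSp.LocP @Smooth q :=
    Groth.Agent.H5.AlgSp.locP_mono
      (fun _ _ f hf => by have : Etale f := hf; exact (inferInstance : Smooth f)) hqe'
  -- the chart `u` of `𝒵`
  have hu : ∃ u : FibCat.overCat U ⥤ᵇ 𝒵, AlgSt.RepByAlgSpWith (AlgSp.LocP @Smooth) u ∧
      AlgSt.RepByAlgSpWith AlgSp.IsSurjectiveMor u ∧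
      Nonempty (BasedFunctor.comp u z ≅ BasedFunctor.comp (AlgSt.overMap c) y) := by
    let Ψ : FibCat.overCat U ⥤ᵇ FibCat.fp y z :=
      BasedFunctor.comp (ofOver U) (BasedFunctor.comp (AlgSt.ofSpMap q) e₁)
    obtain ⟨i2'⟩ := chart_proj_iso q (BasedFunctor.comp e₁ (FibCat.fpFst y z)) c
      (by rw [hc, hγ])
    let i2 : BasedFunctor.comp Ψ (FibCat.fpFst y z) ≅ AlgSt.overMap c := i2'
    let i1 : BasedFunctor.comp (BasedFunctor.comp Ψ (FibCat.fpFst y z)) y ≅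
        BasedFunctor.comp (BasedFunctor.comp Ψ (FibCat.fpSnd y z)) z :=
      whiskerL Ψ (FibCat.fpIso y z)
    have gfp : FibCat.IsFibGrpd (FibCat.fp y z).p :=
      X6401 y z (isFibGrpd_overCat V) g𝒵 g𝒴
    have hsm : AlgSt.RepByAlgSpWith (AlgSp.LocP @Smooth) (spChart q) :=
      rep_spChart _ good_smooth.bc good_smooth.toC.charts G₁.property q hqsm
    have hsj : AlgSt.RepByAlgSpWith AlgSp.IsSurjectiveMor (spChart q) :=
      rep_spChart _ good_isSurjectiveMor.bc good_isSurjectiveMor.toC.charts G₁.property q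
        (Groth.Agent.H5.AlgSp.points_map_surjective_of_repWith hqs)
    have hΨsm : AlgSt.RepByAlgSpWith (AlgSp.LocP @Smooth) Ψ :=
      repByAlgSpWith_of_square' _ Ψ (spChart q) (BasedFunctor.id _) e₁ isEquivOver_id he₁
        (Iso.refl _) hsm
    have hΨsj : AlgSt.RepByAlgSpWith AlgSp.IsSurjectiveMor Ψ :=
      repByAlgSpWith_of_square' _ Ψ (spChart q) (BasedFunctor.id _) e₁ isEquivOver_id he₁
        (Iso.refl _) hsj
    exact ⟨BasedFunctor.comp Ψ (FibCat.fpSnd y z),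
      good_smooth.toC.repComp (isFibGrpd_overCat U) gfp Ψ _ hΨsm
        (repByAlgSpWith_fpSnd _ y z hy₁),
      good_isSurjectiveMor.toC.repComp (isFibGrpd_overCat U) gfp Ψ _ hΨsj
        (repByAlgSpWith_fpSnd _ y z hy₂),
      ⟨i1.symm ≪≫ whiskerR i2 y⟩⟩
  obtain ⟨u, hu₁, hu₂, ⟨ι⟩⟩ := hu
  -- the first square: base change along `γ : V ×_𝒴 𝒵 ⟶ V`
  obtain ⟨F', a', b', sq1⟩ : ∃ (F' : AlgSp.Sp S) (a' : F' ⟶ F.obj) (b' : F' ⟶ G₁.obj),
      IsPullback a' b' φ γ := ⟨_, _, _, IsPullback.of_hasPullback φ γ⟩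
  have hF' : AlgSp.IsAlgSpace F' :=
    Groth.Agent.H5.AlgSp.isAlgSpace_pullback (AlgSp.IsAlgSpace.yon_obj V).diag F.property
      G₁.property sq1
  obtain ⟨W', k', w', sqW'⟩ : ∃ (W' : AlgSp.Sp S) (k' : W' ⟶ W.obj) (w' : W' ⟶ F'),
      IsPullback k' w' w.hom a' := ⟨_, _, _, IsPullback.of_hasPullback w.hom a'⟩
  have hW' : AlgSp.IsAlgSpace W' :=
    Groth.Agent.H5.AlgSp.isAlgSpace_pullback F.property.diag W.property hF' sqW'
  have hL' := h₄ F (ySp V) ⟨F', hF'⟩ G₁ (ObjectProperty.homMk φ) (ObjectProperty.homMk γ)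
    (ObjectProperty.homMk b') (ObjectProperty.homMk a') sq1 hφQ hγR W w hw ⟨W', hW'⟩
    (ObjectProperty.homMk w') (ObjectProperty.homMk k') sqW'
  have hqR : R q := h₂ (ySp U) G₁ (ObjectProperty.homMk q) hqsm
  have hQb' : Q b' :=
    hQb F.property (AlgSp.IsAlgSpace.yon_obj V) hF' G₁.property φ γ b' a' sq1 hφQ
  -- the second square: base change along the atlas `q : U ⟶ V ×_𝒴 𝒵`
  obtain ⟨F'', a'', b'', sq2⟩ : ∃ (F'' : AlgSp.Sp S) (a'' : F'' ⟶ F')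
      (b'' : F'' ⟶ (AlgSp.yon S).obj U), IsPullback a'' b'' b' q :=
    ⟨_, _, _, IsPullback.of_hasPullback b' q⟩
  have hF'' : AlgSp.IsAlgSpace F'' :=
    Groth.Agent.H5.AlgSp.isAlgSpace_pullback G₁.property.diag hF' (AlgSp.IsAlgSpace.yon_obj U) sq2
  obtain ⟨W'', k'', w'', sqW''⟩ : ∃ (W'' : AlgSp.Sp S) (k'' : W'' ⟶ W') (w'' : W'' ⟶ F''),
      IsPullback k'' w'' w' a'' := ⟨_, _, _, IsPullback.of_hasPullback w' a''⟩
  have hW'' : AlgSp.IsAlgSpace W'' :=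
    Groth.Agent.H5.AlgSp.isAlgSpace_pullback hF'.diag hW' hF'' sqW''
  have hL'' := h₄ ⟨F', hF'⟩ G₁ ⟨F'', hF''⟩ (ySp U) (ObjectProperty.homMk b')
    (ObjectProperty.homMk q) (ObjectProperty.homMk b'') (ObjectProperty.homMk a'') sq2 hQb' hqR
    ⟨W', hW'⟩ (ObjectProperty.homMk w') hL' ⟨W'', hW''⟩ (ObjectProperty.homMk w'')
    (ObjectProperty.homMk k'') sqW''
  have hQb'' : Q b'' :=
    hQb hF' G₁.property hF'' (AlgSp.IsAlgSpace.yon_obj U) b' q b'' a'' sq2 hQb'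
  have sqA : IsPullback (a'' ≫ a') b'' φ ((AlgSp.yon S).map c) := by
    rw [hc]
    exact sq2.paste_horiz sq1
  have sqWU : IsPullback (k'' ≫ k') w'' w.hom (a'' ≫ a') := sqW''.paste_horiz sqW'
  -- the equivalence `F'' ≃ U ×_𝒵 (𝒵 ×_𝒴 𝒳)`
  have h2 : AlgSt.spMapOfOver (RepBridge.toOver U) = 𝟙 _ := spMapOfOver_toOverCat U
  have hcU : (AlgSp.yon S).map c =
      AlgSt.spMapOfOver (BasedFunctor.comp (RepBridge.toOver U) (AlgSt.overMap c)) := by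
    rw [spMapOfOver_comp_overMap, h2, Category.id_comp]
  obtain ⟨D₁, hD₁, hD₁f, hD₁s⟩ := Groth.Agent.H3.ImmCover.exists_equiv_fp_pair'
    (AlgSt.overMap c) (FibCat.fpFst y f) ((AlgSp.yon S).obj U) F.obj (RepBridge.toOver U)
    (isEquivOver_toOver U) e he φ hφ ((AlgSp.yon S).map c) hcU (a'' ≫ a') b'' sqA
  obtain ⟨E₁, hE₁, hE₁f, hE₁s⟩ : ∃ E₁ : FibCat.fp (AlgSt.overMap c) (FibCat.fpFst y f) ⥤ᵇ
      FibCat.fp (BasedFunctor.comp (AlgSt.overMap c) y) f, FibCat.IsEquivOver E₁ ∧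
      BasedFunctor.comp E₁ (FibCat.fpFst (BasedFunctor.comp (AlgSt.overMap c) y) f) =
        FibCat.fpFst (AlgSt.overMap c) (FibCat.fpFst y f) ∧
      BasedFunctor.comp E₁ (FibCat.fpSnd (BasedFunctor.comp (AlgSt.overMap c) y) f) =
        BasedFunctor.comp (FibCat.fpSnd (AlgSt.overMap c) (FibCat.fpFst y f))
          (FibCat.fpSnd y f) :=
    ⟨pasteL (AlgSt.overMap c) y f, isEquivOver_pasteL _ _ _, pasteL_comp_fpFst _ _ _,
      pasteL_comp_fpSnd _ _ _⟩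
  have hfull : (BasedFunctor.id 𝒴).toFunctor.Full := Functor.Full.id
  have hfaith : (BasedFunctor.id 𝒴).toFunctor.Faithful := Functor.Faithful.id
  obtain ⟨E₂, hE₂, hE₂f, hE₂s⟩ : ∃ E₂ : FibCat.fp (BasedFunctor.comp (AlgSt.overMap c) y) f ⥤ᵇ
      FibCat.fp (BasedFunctor.comp u z) f, FibCat.IsEquivOver E₂ ∧
      BasedFunctor.comp E₂ (FibCat.fpFst (BasedFunctor.comp u z) f) =
        FibCat.fpFst (BasedFunctor.comp (AlgSt.overMap c) y) f ∧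
      BasedFunctor.comp E₂ (FibCat.fpSnd (BasedFunctor.comp u z) f) =
        FibCat.fpSnd (BasedFunctor.comp (AlgSt.overMap c) y) f :=
    ⟨fpMap (F' := BasedFunctor.comp (AlgSt.overMap c) y) (G' := f)
        (F := BasedFunctor.comp u z) (G := f) (BasedFunctor.id _) (BasedFunctor.id 𝒳)
        (BasedFunctor.id 𝒴) ι.symm (idSq f),
      isEquivOver_fpMap _ _ _ _ _ isEquivOver_id isEquivOver_id,
      fpMap_comp_fpFst _ _ _ _ _, fpMap_comp_fpSnd _ _ _ _ _⟩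
  obtain ⟨E₃', hE₃', -, ⟨κ₂⟩⟩ := isEquivOver_symm (isEquivOver_pasteL u z f)
  have hE₃f : BasedFunctor.comp (pasteL u z f) (FibCat.fpFst (BasedFunctor.comp u z) f) =
      FibCat.fpFst u (FibCat.fpFst z f) := pasteL_comp_fpFst u z f
  have hE₃s : BasedFunctor.comp (pasteL u z f) (FibCat.fpSnd (BasedFunctor.comp u z) f) =
      BasedFunctor.comp (FibCat.fpSnd u (FibCat.fpFst z f)) (FibCat.fpSnd z f) :=
    pasteL_comp_fpSnd u z f
  obtain ⟨M, hM⟩ : ∃ M : AlgSt.ofSp F'' ⥤ᵇ FibCat.fp (BasedFunctor.comp u z) f,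
      M = BasedFunctor.comp (BasedFunctor.comp D₁ E₁) E₂ := ⟨_, rfl⟩
  have hMe : FibCat.IsEquivOver M := by
    rw [hM]
    exact isEquivOver_comp _ _ (isEquivOver_comp _ _ hD₁ hE₁) hE₂
  have hMf : BasedFunctor.comp M (FibCat.fpFst (BasedFunctor.comp u z) f) =
      BasedFunctor.comp (AlgSt.ofSpMap b'') (RepBridge.toOver U) := by
    rw [hM]
    show BasedFunctor.comp D₁ (BasedFunctor.comp E₁
      (BasedFunctor.comp E₂ (FibCat.fpFst (BasedFunctor.comp u z) f))) = _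
    rw [hE₂f, hE₁f, hD₁f]
  have hMs : BasedFunctor.comp M (FibCat.fpSnd (BasedFunctor.comp u z) f) =
      BasedFunctor.comp (AlgSt.ofSpMap (a'' ≫ a')) (BasedFunctor.comp e (FibCat.fpSnd y f)) := by
    rw [hM]
    show BasedFunctor.comp D₁ (BasedFunctor.comp E₁
      (BasedFunctor.comp E₂ (FibCat.fpSnd (BasedFunctor.comp u z) f))) = _
    rw [hE₂s, hE₁s]
    show BasedFunctor.comp (BasedFunctor.comp D₁
      (FibCat.fpSnd (AlgSt.overMap c) (FibCat.fpFst y f))) (FibCat.fpSnd y f) = _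
    rw [hD₁s]
    rfl
  have hφU : b'' = AlgSt.spMapOfOver (BasedFunctor.comp (BasedFunctor.comp M E₃')
      (FibCat.fpFst u (FibCat.fpFst z f))) := by
    have κ' : BasedFunctor.comp (BasedFunctor.comp M E₃')
        (BasedFunctor.comp (pasteL u z f) (FibCat.fpFst (BasedFunctor.comp u z) f)) ≅
        BasedFunctor.comp M (FibCat.fpFst (BasedFunctor.comp u z) f) :=
      whiskerL M (whiskerR κ₂ (FibCat.fpFst (BasedFunctor.comp u z) f))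
    rw [← hE₃f, spMapOfOver_congr κ', hMf, spMapOfOver_ofSpMap_comp, h2, Category.comp_id]
  refine ⟨U, u, ⟨F'', hF''⟩, BasedFunctor.comp M E₃', a'' ≫ a', b'', ⟨W'', hW''⟩,
    ObjectProperty.homMk w'', k'' ≫ k', hu₁, hu₂, isEquivOver_comp _ _ hMe hE₃', hφU, hQb'',
    hL'', sqWU, ?_⟩
  intro g
  have k1 : AlgSt.Points.map (pasteL u z f)
      (AlgSt.Points.map E₃' (AlgSt.Points.map M g)) = AlgSt.Points.map M g := by
    rw [← points_map_comp E₃' (pasteL u z f), points_map_congr κ₂, points_map_id]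
  calc AlgSt.Points.map (FibCat.fpSnd z f)
        (AlgSt.Points.map (BasedFunctor.comp (BasedFunctor.comp M E₃')
          (FibCat.fpSnd u (FibCat.fpFst z f))) g)
      = AlgSt.Points.map (BasedFunctor.comp (FibCat.fpSnd u (FibCat.fpFst z f))
          (FibCat.fpSnd z f)) (AlgSt.Points.map E₃' (AlgSt.Points.map M g)) := by
        rw [points_map_comp (BasedFunctor.comp M E₃') _ g, points_map_comp M E₃' g,
          points_map_comp (FibCat.fpSnd u (FibCat.fpFst z f)) (FibCat.fpSnd z f)]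
    _ = AlgSt.Points.map (FibCat.fpSnd (BasedFunctor.comp u z) f) (AlgSt.Points.map M g) := by
        rw [← hE₃s, points_map_comp (pasteL u z f), k1]
    _ = AlgSt.Points.map (BasedFunctor.comp (AlgSt.ofSpMap (a'' ≫ a'))
          (BasedFunctor.comp e (FibCat.fpSnd y f))) g := by
        rw [← points_map_comp M, hMs]
    _ = _ := points_map_comp _ _ _

/-! ### The main theorem -/

/-- **S19908** -/
theorem main_bc (h𝒳 : AlgSt.IsAlgStack Scheme.fppfPrecoverage 𝒳)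
    (h𝒴 : AlgSt.IsAlgStack Scheme.fppfPrecoverage 𝒴)
    (h𝒵 : AlgSt.IsAlgStack Scheme.fppfPrecoverage 𝒵)
    (P Q R : MorphismProperty (AlgSp.Sp S)) (hPb : BaseChangeSp P) (hQb : BaseChangeSp Q)
    (hP : AlgSp.IsLocalOnBase AlgSp.IsFppfCover P)
    (h₂ : ∀ (X Y : AlgSp.Space S) (g : X ⟶ Y), AlgSp.LocP @Smooth g.hom → R g.hom)
    (h₃ : ∀ (X Y : AlgSp.Space S) (f : X ⟶ Y), Q f.hom →
      ∃ (W : AlgSp.Space S) (w : W ⟶ X), Largest P f W w)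
    (h₄ : BCLargest P Q R) (f : 𝒳 ⥤ᵇ 𝒴) (hf : AlgSt.RepByAlgSpWith Q f)
    (Q₀ : 𝒳.obj → Prop) (hQ₀ : AlgSt.IsOpenSubstack 𝒳 Q₀ Scheme.fppfPrecoverage)
    (hQ₀P : AlgSt.RepByAlgSpWith P (BasedFunctor.comp (AlgSt.subIncl 𝒳 Q₀) f))
    (hQ₀max : ∀ Q₁ : 𝒳.obj → Prop, AlgSt.IsOpenSubstack 𝒳 Q₁ Scheme.fppfPrecoverage →
      AlgSt.RepByAlgSpWith P (BasedFunctor.comp (AlgSt.subIncl 𝒳 Q₁) f) → ∀ y, Q₁ y → Q₀ y)
    (z : 𝒵 ⥤ᵇ 𝒴) (hz : AlgSt.RepByAlgSpWith R z) :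
    AlgSt.IsOpenSubstack (FibCat.fp z f) (fun b ↦ Q₀ b.obj.snd) Scheme.fppfPrecoverage ∧
      AlgSt.RepByAlgSpWith P
        (BasedFunctor.comp (AlgSt.subIncl (FibCat.fp z f) fun b ↦ Q₀ b.obj.snd)
          (FibCat.fpFst z f)) ∧
        ∀ Q₁ : (FibCat.fp z f).obj → Prop,
          AlgSt.IsOpenSubstack (FibCat.fp z f) Q₁ Scheme.fppfPrecoverage →
          AlgSt.RepByAlgSpWith P
            (BasedFunctor.comp (AlgSt.subIncl (FibCat.fp z f) Q₁) (FibCat.fpFst z f)) →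
            ∀ b, Q₁ b → Q₀ b.obj.snd := by
  have g𝒳 := h𝒳.isStack.1
  have g𝒵 := h𝒵.isStack.1
  have hfp : AlgSt.IsAlgStack Scheme.fppfPrecoverage (FibCat.fp z f) :=
    isAlgStack_fp h𝒴.isStack h𝒴.diag h𝒵 h𝒳 z f
  have gfp := hfp.isStack.1
  have hf1 : AlgSt.RepByAlgSp1 f := repByAlgSp1_of_repByAlgSpWith hf
  obtain ⟨V, y, hy₁, hy₂⟩ := h𝒴.atlas
  obtain ⟨F, e, he, hφQ⟩ := hf V y
  obtain ⟨φ, hφ⟩ : ∃ φ : F.obj ⟶ (AlgSp.yon S).obj V,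
      φ = AlgSt.spMapOfOver (BasedFunctor.comp e (FibCat.fpFst y f)) := ⟨_, rfl⟩
  rw [← hφ] at hφQ
  obtain ⟨W, w, hw⟩ := h₃ F (ySp V) (ObjectProperty.homMk φ) hφQ
  obtain ⟨x, hx⟩ : ∃ x : AlgSt.ofSp F.obj ⥤ᵇ 𝒳,
      x = BasedFunctor.comp e (FibCat.fpSnd y f) := ⟨_, rfl⟩
  obtain ⟨ωW, hωW⟩ : ∃ ωW : Set (AlgSt.Points (AlgSt.ofSp F.obj)),
      ωW = Set.range (AlgSt.Points.map (AlgSt.ofSpMap w.hom)) := ⟨_, rfl⟩
  obtain ⟨T, hT⟩ : ∃ T : Set (AlgSt.Points 𝒳), T = AlgSt.Points.map x '' ωW := ⟨_, rfl⟩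
  obtain ⟨hO, hPc, hmax, hpre, -⟩ := main_param h𝒳 h𝒴 P Q R hPb hP h₂ h₄ f hf1 y hy₁ hy₂ F e he
    φ hφ hφQ W w hw x hx ωW hωW T hT
  have hQ₀eq : Q₀ = subOf T := by
    funext a
    exact propext ⟨hmax Q₀ hQ₀ hQ₀P a, hQ₀max (subOf T) hO hPc a⟩
  subst hQ₀eq
  -- the chart of the base change
  obtain ⟨U, u, F_U, e_U, a, φ_U, W_U, w_U, k, hu₁, hu₂, he_U, hφ_U, hQφ_U, hL_U, sqk, hpts⟩ :=
    exists_bc_chart h𝒴 g𝒵 P Q R hQb h₂ h₄ f z hz y hy₁ hy₂ F e he φ hφ hφQ W w hw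
  have hpr1 : AlgSt.RepByAlgSp1 (FibCat.fpFst z f) :=
    repByAlgSp1_of_repByAlgSpWith (repByAlgSpWith_fpFst Q f z hf)
  obtain ⟨x_U, hx_U⟩ : ∃ x_U : AlgSt.ofSp F_U.obj ⥤ᵇ FibCat.fp z f,
      x_U = BasedFunctor.comp e_U (FibCat.fpSnd u (FibCat.fpFst z f)) := ⟨_, rfl⟩
  obtain ⟨ωU, hωU⟩ : ∃ ωU : Set (AlgSt.Points (AlgSt.ofSp F_U.obj)),
      ωU = Set.range (AlgSt.Points.map (AlgSt.ofSpMap w_U.hom)) := ⟨_, rfl⟩
  obtain ⟨TU, hTU⟩ : ∃ TU : Set (AlgSt.Points (FibCat.fp z f)),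
      TU = AlgSt.Points.map x_U '' ωU := ⟨_, rfl⟩
  obtain ⟨hO', hP', hmax', -, hxs'⟩ := main_param hfp h𝒵 P Q R hPb hP h₂ h₄ (FibCat.fpFst z f)
    hpr1 u hu₁ hu₂ F_U e_U he_U φ_U hφ_U hQφ_U W_U w_U hL_U x_U hx_U ωU hωU TU hTU
  have hωrel : ωU = AlgSt.Points.map (AlgSt.ofSpMap a) ⁻¹' ωW := by
    rw [hωU, hωW]
    exact range_of_isPullback sqk
  have hpts' : ∀ g, AlgSt.Points.map (FibCat.fpSnd z f) (AlgSt.Points.map x_U g) =
      AlgSt.Points.map x (AlgSt.Points.map (AlgSt.ofSpMap a) g) := by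
    intro g
    rw [hx_U, hx]
    exact hpts g
  have hTeq : TU = AlgSt.Points.map (FibCat.fpSnd z f) ⁻¹' T := by
    apply Set.eq_of_subset_of_subset
    · intro t ht
      rw [hTU] at ht
      obtain ⟨g, hg, rfl⟩ := ht
      show AlgSt.Points.map (FibCat.fpSnd z f) (AlgSt.Points.map x_U g) ∈ T
      rw [hpts', hT]
      rw [hωrel] at hg
      exact ⟨_, hg, rfl⟩
    · intro t ht
      obtain ⟨g, rfl⟩ := hxs' t
      have h1 : AlgSt.Points.map x (AlgSt.Points.map (AlgSt.ofSpMap a) g) ∈ T := by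
        rw [← hpts']
        exact ht
      have h2 : AlgSt.Points.map (AlgSt.ofSpMap a) g ∈ ωW := by
        rw [← hpre]
        exact h1
      rw [hTU]
      refine ⟨g, ?_, rfl⟩
      rw [hωrel]
      exact h2
  have hQ' : (fun b : (FibCat.fp z f).obj => subOf T b.obj.snd) = subOf TU := by
    funext b
    rw [hTeq]
    exact propext (subOf_preimage_iff gfp g𝒳 (FibCat.fpSnd z f) T b)
  have key : ∀ Q' : (FibCat.fp z f).obj → Prop, Q' = subOf TU →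
      (AlgSt.IsOpenSubstack (FibCat.fp z f) Q' Scheme.fppfPrecoverage ∧
        AlgSt.RepByAlgSpWith P
          (BasedFunctor.comp (AlgSt.subIncl (FibCat.fp z f) Q') (FibCat.fpFst z f)) ∧
        ∀ Q₁ : (FibCat.fp z f).obj → Prop,
          AlgSt.IsOpenSubstack (FibCat.fp z f) Q₁ Scheme.fppfPrecoverage →
          AlgSt.RepByAlgSpWith P
            (BasedFunctor.comp (AlgSt.subIncl (FibCat.fp z f) Q₁) (FibCat.fpFst z f)) →
            ∀ b, Q₁ b → Q' b) := by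
    rintro _ rfl
    exact ⟨hO', hP', hmax'⟩
  exact key _ hQ'

end Groth.Agent.H3.LargestOpenBC
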