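import Mathlib
import Groth.Prelude.Def_LCI2
import Groth.Agent.Lib.Helper5.KosCot.A
import Groth.Agent.H4.KosBC

/-! Jacobian criterion for quotients of smooth algebras by Koszul-regular sequences. -/

set_option autoImplicit false
set_option linter.style.haveILetI false
universe u
open TensorProduct KaehlerDifferential

namespace Groth.Agent.H3.LciSm

section Local

variable {R P S : Type u} [CommRing R] [CommRing P] [CommRing S] [Algebra R P] [Algebra P S]
  [Algebra R S] [IsScalarTower R P S] [IsLocalRing S]

/-- **local Jacobian criterion for complete intersections.** -/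
theorem formallySmooth_iff_finrank_le
    (hsurj : Function.Surjective (algebraMap P S))
    [Algebra.FormallySmooth R P] [Module.Free P Ω[P⁄R]] [Module.Finite P Ω[P⁄R]]
    (rs : List P) (hrs : LCI.IsKoszulRegularSeq P rs)
    (hker : RingHom.ker (algebraMap P S) = Ideal.ofList rs) (m : ℕ)
    (hrank : Module.finrank P Ω[P⁄R] = m + rs.length) :
    Algebra.FormallySmooth R S ↔
      Module.finrank (IsLocalRing.ResidueField S)
        (IsLocalRing.ResidueField S ⊗[S] Ω[S⁄R]) ≤ m := by
  classical
  haveI : Nontrivial P := (algebraMap P S).domain_nontrivial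
  let E : Algebra.Extension.{u} R S :=
    { Ring := P, σ := Function.surjInv hsurj, algebraMap_σ := Function.surjInv_eq hsurj }
  haveI : Algebra.FormallySmooth R E.Ring := ‹Algebra.FormallySmooth R P›
  haveI : Module.Free E.Ring Ω[E.Ring⁄R] := ‹Module.Free P Ω[P⁄R]›
  haveI : Module.Finite E.Ring Ω[E.Ring⁄R] := ‹Module.Finite P Ω[P⁄R]›
  have hspan : Ideal.span (Set.range rs.get) = E.ker := by
    rw [Set.range_list_get]
    exact hker.symm
  have hFG : E.ker.FG := by
    rw [← hspan]
    exact Submodule.fg_span (Set.finite_range _)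
  rw [Algebra.FormallySmooth.iff_injective_lTensor_residueField E hFG]
  let g : Fin rs.length → E.ker := fun i => ⟨rs.get i, hspan.le (Ideal.subset_span ⟨i, rfl⟩)⟩
  have hg : LCI.IsKoszulRegularSeq E.Ring (List.ofFn (fun i => ((g i : E.ker) : E.Ring))) := by
    have : (fun i => ((g i : E.ker) : E.Ring)) = rs.get := rfl
    rw [this, List.ofFn_get]
    exact hrs
  obtain ⟨b, hb⟩ := Groth.Agent.Lib.Helper5.KosCot.main (I := E.ker) rs.length g hg hspan
  let κ := IsLocalRing.ResidueField S
  let v : Fin rs.length → E.Cotangent := fun i => Algebra.Extension.Cotangent.mk (g i)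
  have hsp : ⊤ ≤ Submodule.span S (Set.range v) :=
    (Algebra.Extension.Cotangent.span_eq_top_of_span_eq_ker (P := E) rs.get hspan).ge
  have h1 : ∀ (s : Fin rs.length → S), ∑ j, s j • v j = 0 → ∀ i, s i = 0 := by
    intro s hs i
    choose p hp using fun i => hsurj (s i)
    have e1 : ∑ j, p j • v j = 0 := by
      rw [← hs]
      refine Finset.sum_congr rfl fun j _ => ?_
      rw [← hp j, algebraMap_smul]
    have e2 := congrArg E.cotangentEquivCotangentKer e1
    rw [map_sum, map_zero] at e2
    have e3 : ∑ j, (Ideal.Quotient.mk E.ker (p j)) • b j = 0 := by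
      rw [← e2]
      refine Finset.sum_congr rfl fun j _ => ?_
      rw [map_smul, hb j]
      rfl
    have e4 := Fintype.linearIndependent_iff.1 b.linearIndependent _ e3 i
    rw [← hp i]
    exact RingHom.mem_ker.1 (Ideal.Quotient.eq_zero_iff_mem.1 e4)
  let bS : Module.Basis (Fin rs.length) S E.Cotangent :=
    Module.Basis.mk (Fintype.linearIndependent_iff.2 h1) hsp
  haveI : Module.Free S E.Cotangent := Module.Free.of_basis bS
  haveI : Module.Finite S E.Cotangent := Module.Finite.of_basis bS
  have hd1 : Module.finrank κ (κ ⊗[S] E.Cotangent) = rs.length := by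
    rw [Module.finrank_baseChange, Module.finrank_eq_card_basis bS, Fintype.card_fin]
  have hd2 : Module.finrank κ (κ ⊗[S] E.CotangentSpace) = m + rs.length := by
    rw [Module.finrank_baseChange, Module.finrank_baseChange]
    exact hrank
  let φ : κ ⊗[S] E.Cotangent →ₗ[κ] κ ⊗[S] E.CotangentSpace := E.cotangentComplex.baseChange κ
  let ψ : κ ⊗[S] E.CotangentSpace →ₗ[κ] κ ⊗[S] Ω[S⁄R] := E.toKaehler.baseChange κ
  have hφ : (φ : _ → _) = E.cotangentComplex.lTensor κ := LinearMap.baseChange_eq_ltensor _
  have hψ' : (ψ : _ → _) = E.toKaehler.lTensor κ := LinearMap.baseChange_eq_ltensor _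
  have hex : Function.Exact φ ψ := by
    rw [hφ, hψ']
    exact lTensor_exact κ E.exact_cotangentComplex_toKaehler E.toKaehler_surjective
  have hψ : Function.Surjective ψ := by
    rw [hψ']
    exact LinearMap.lTensor_surjective κ E.toKaehler_surjective
  rw [← hφ]
  have r1 := φ.finrank_range_add_finrank_ker
  have r2 := ψ.finrank_range_add_finrank_ker
  rw [hd1] at r1
  rw [hd2] at r2
  have r3 : Module.finrank κ (LinearMap.range ψ) = Module.finrank κ (κ ⊗[S] Ω[S⁄R]) := by
    rw [LinearMap.range_eq_top.2 hψ, finrank_top]
  have r4 : LinearMap.ker ψ = LinearMap.range φ := LinearMap.exact_iff.1 hex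
  rw [r4] at r2
  rw [← LinearMap.ker_eq_bot, ← Submodule.finrank_eq_zero]
  have r5 : Module.finrank κ (κ ⊗[S] Ω[S⁄R]) = m + Module.finrank κ (LinearMap.ker φ) := by
    omega
  show Module.finrank κ (LinearMap.ker φ) = 0 ↔ Module.finrank κ (κ ⊗[S] Ω[S⁄R]) ≤ m
  rw [r5]
  omega

end Local

section Chart

/-- fibres of `Ω` at a prime via the local ring. -/
theorem finrank_residueField_eq (A B : Type u) [CommRing A] [CommRing B] [Algebra A B]
    (q : Ideal B) [q.IsPrime] :
    Module.finrank (IsLocalRing.ResidueField (Localization.AtPrime q))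
      (IsLocalRing.ResidueField (Localization.AtPrime q) ⊗[Localization.AtPrime q]
        Ω[Localization.AtPrime q⁄A]) =
    Module.finrank q.ResidueField (q.ResidueField ⊗[B] Ω[B⁄A]) := by
  haveI : Algebra.FormallyEtale B (Localization.AtPrime q) :=
    Algebra.FormallyEtale.of_isLocalization q.primeCompl
  let e1 : Localization.AtPrime q ⊗[B] Ω[B⁄A] ≃ₗ[Localization.AtPrime q]
      Ω[Localization.AtPrime q⁄A] :=
    KaehlerDifferential.tensorKaehlerEquivOfFormallyEtale A B (Localization.AtPrime q)
  let e2 := TensorProduct.AlgebraTensorModule.congr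
    (LinearEquiv.refl q.ResidueField q.ResidueField) e1
  let e3 := TensorProduct.AlgebraTensorModule.cancelBaseChange B (Localization.AtPrime q)
    q.ResidueField q.ResidueField Ω[B⁄A]
  exact (e2.symm.trans e3).finrank_eq

/-- **Jacobian criterion for a complete intersection in a standard smooth algebra.** -/
theorem isSmoothAt_iff_finrank_le
    {A C B : Type u} [CommRing A] [CommRing C] [CommRing B] [Algebra A C] [Algebra C B]
    [Algebra A B] [IsScalarTower A C B] (hsurj : Function.Surjective (algebraMap C B))
    (rs : List C) (hrs : LCI.IsKoszulRegularSeq C rs)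
    (hker : RingHom.ker (algebraMap C B) = Ideal.ofList rs) (m : ℕ)
    [Algebra.IsStandardSmoothOfRelativeDimension (m + rs.length) A C]
    (q : Ideal B) [q.IsPrime] :
    Algebra.IsSmoothAt A q ↔
      Module.finrank q.ResidueField (q.ResidueField ⊗[B] Ω[B⁄A]) ≤ m := by
  let q' : Ideal C := q.comap (algebraMap C B)
  haveI : q'.IsPrime := Ideal.comap_isPrime _ _
  let lr : Localization.AtPrime q' →+* Localization.AtPrime q :=
    Localization.localRingHom q' q (algebraMap C B) rfl
  letI algCB : Algebra (Localization.AtPrime q') (Localization.AtPrime q) := lr.toAlgebra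
  haveI tw : IsScalarTower A (Localization.AtPrime q') (Localization.AtPrime q) := by
    refine IsScalarTower.of_algebraMap_eq fun a => ?_
    rw [IsScalarTower.algebraMap_apply A C (Localization.AtPrime q'),
      IsScalarTower.algebraMap_apply A B (Localization.AtPrime q),
      IsScalarTower.algebraMap_apply A C B]
    exact (Localization.localRingHom_to_map q' q (algebraMap C B) rfl _).symm
  have hsurj' : Function.Surjective
      (algebraMap (Localization.AtPrime q') (Localization.AtPrime q)) :=
    (RingHom.surjectiveOnStalks_of_surjective hsurj).localRingHom_surjective q' q rfl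
  have hT : Submonoid.map (algebraMap C B) q'.primeCompl = q.primeCompl := by
    ext b
    constructor
    · rintro ⟨c, hc, rfl⟩
      exact hc
    · intro hb
      obtain ⟨c, rfl⟩ := hsurj b
      exact ⟨c, hb, rfl⟩
  have hker' : RingHom.ker (algebraMap (Localization.AtPrime q') (Localization.AtPrime q)) =
      Ideal.ofList (rs.map (algebraMap C (Localization.AtPrime q'))) := by
    have := IsLocalization.ker_map (S := Localization.AtPrime q') (M := q'.primeCompl)
      (T := q.primeCompl) (Localization.AtPrime q) (algebraMap C B) hT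
    rw [← Ideal.map_ofList, ← hker]
    exact this
  have hrs' : LCI.IsKoszulRegularSeq (Localization.AtPrime q')
      (rs.map (algebraMap C (Localization.AtPrime q'))) :=
    Groth.Agent.H4.KosBC.isKoszulRegularSeq_map rs hrs
  haveI : Algebra.IsStandardSmooth A C :=
    Algebra.IsStandardSmoothOfRelativeDimension.isStandardSmooth (m + rs.length)
  haveI : Algebra.FormallySmooth A C := inferInstance
  haveI : Algebra.FormallySmooth C (Localization.AtPrime q') :=
    Algebra.FormallySmooth.of_isLocalization q'.primeCompl
  haveI : Algebra.FormallySmooth A (Localization.AtPrime q') :=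
    Algebra.FormallySmooth.comp A C (Localization.AtPrime q')
  haveI : Algebra.FormallyEtale C (Localization.AtPrime q') :=
    Algebra.FormallyEtale.of_isLocalization q'.primeCompl
  let e1 : Localization.AtPrime q' ⊗[C] Ω[C⁄A] ≃ₗ[Localization.AtPrime q']
      Ω[Localization.AtPrime q'⁄A] :=
    KaehlerDifferential.tensorKaehlerEquivOfFormallyEtale A C (Localization.AtPrime q')
  haveI : Nontrivial C := (algebraMap C (Localization.AtPrime q')).domain_nontrivial
  have hrank : Module.rank C Ω[C⁄A] = ((m + rs.length : ℕ) : Cardinal) :=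
    Algebra.IsStandardSmoothOfRelativeDimension.rank_kaehlerDifferential _
  haveI : Module.Free C Ω[C⁄A] := inferInstance
  haveI : Module.Finite C Ω[C⁄A] := Module.finite_of_rank_eq_nat hrank
  haveI : Module.Free (Localization.AtPrime q') Ω[Localization.AtPrime q'⁄A] :=
    Module.Free.of_equiv e1
  haveI : Module.Finite (Localization.AtPrime q') Ω[Localization.AtPrime q'⁄A] :=
    Module.Finite.equiv e1
  have hfr : Module.finrank (Localization.AtPrime q') Ω[Localization.AtPrime q'⁄A] =
      m + (rs.map (algebraMap C (Localization.AtPrime q'))).length := by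
    rw [← e1.finrank_eq, Module.finrank_baseChange, List.length_map]
    exact Module.finrank_eq_of_rank_eq hrank
  have key := formallySmooth_iff_finrank_le (R := A) (P := Localization.AtPrime q')
    (S := Localization.AtPrime q) hsurj' _ hrs' hker' m hfr
  rw [← finrank_residueField_eq A B q]
  exact key

end Chart

end Groth.Agent.H3.LciSm
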