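import Mathlib
import Groth.Prelude.Def_RegImm
import Groth.Agent.Lib.Helper3.LciSmAlg
import Groth.Agent.Lib.Helper3.JacLocus
import Groth.Agent.Lib.Helper3.ClImmSm
import Groth.Agent.Lib.Helper1.RegImmersion

/-! Smoothness of a local complete intersection morphism via the Jacobian locus. -/

set_option autoImplicit false
set_option linter.style.haveILetI false
universe u
open CategoryTheory AlgebraicGeometry TensorProduct

namespace Groth.Agent.H3.LciSm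

/-- (copy of helper8's `KosImm.isClosedImmersion_restrict_of_le`, to keep imports light.) -/
theorem isClosedImmersion_restrict_of_le {X Y : Scheme.{u}} (j : Y ⟶ X) (U W : X.Opens)
    (hWU : W ≤ U) (h : IsClosedImmersion (j ∣_ U)) : IsClosedImmersion (j ∣_ W) := by
  have h1 : IsClosedImmersion (j ∣_ U ∣_ (U.ι ⁻¹ᵁ W)) :=
    IsZariskiLocalAtTarget.restrict (P := @IsClosedImmersion) h _
  have h2 : IsClosedImmersion (j ∣_ U.ι ''ᵁ (U.ι ⁻¹ᵁ W)) :=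
    (MorphismProperty.arrow_mk_iso_iff @IsClosedImmersion
      (morphismRestrictRestrict j U (U.ι ⁻¹ᵁ W))).mp h1
  have h3 : U.ι ''ᵁ (U.ι ⁻¹ᵁ W) = W := by
    rw [Scheme.Hom.image_preimage_eq_opensRange_inf, Scheme.Opens.opensRange_ι]
    exact inf_eq_right.mpr hWU
  exact (MorphismProperty.arrow_mk_iso_iff @IsClosedImmersion (morphismRestrictEq j h3)).mp h2

/-- (copy of helper8's `KosImm.ker_app_basicOpen`.) -/
theorem ker_app_basicOpen {X Y : Scheme.{u}} (j : Y ⟶ X) (U : X.Opens) (hU : IsAffineOpen U)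
    (hcl : IsClosedImmersion (j ∣_ U)) (g : Γ(X, U)) (W : X.Opens) (hW : W = X.basicOpen g)
    (hWU : W ≤ U) :
    RingHom.ker (j.app W).hom =
      (RingHom.ker (j.app U).hom).map (X.presheaf.map (homOfLE hWU).op).hom := by
  haveI := hcl
  obtain ⟨hV, -⟩ :=
    Groth.Agent.H1.RegImmersion.affine_and_surjective_of_isClosedImmersion_restrict j U hU
  have hpre : j ⁻¹ᵁ W = Y.basicOpen ((j.app U).hom g) := by
    rw [hW]
    exact Scheme.preimage_basicOpen j g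
  have hle' : j ⁻¹ᵁ W ≤ j ⁻¹ᵁ U := fun y hy => hWU hy
  letI algS : Algebra Γ(X, U) Γ(X, W) := (X.presheaf.map (homOfLE hWU).op).hom.toAlgebra
  letI algQ : Algebra Γ(Y, j ⁻¹ᵁ U) Γ(Y, j ⁻¹ᵁ W) :=
    (Y.presheaf.map (homOfLE hle').op).hom.toAlgebra
  haveI locS : IsLocalization.Away g Γ(X, W) :=
    hU.isLocalization_of_eq_basicOpen g (homOfLE hWU) hW
  haveI locQ : IsLocalization.Away ((j.app U).hom g) Γ(Y, j ⁻¹ᵁ W) :=
    hV.isLocalization_of_eq_basicOpen ((j.app U).hom g) (homOfLE hle') hpre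
  have hT : Submonoid.map (j.app U).hom (Submonoid.powers g) =
      Submonoid.powers ((j.app U).hom g) := Submonoid.map_powers _ _
  have hkm := IsLocalization.ker_map (S := Γ(X, W)) (M := Submonoid.powers g)
    (T := Submonoid.powers ((j.app U).hom g)) Γ(Y, j ⁻¹ᵁ W) (j.app U).hom hT
  have heq : (j.app W).hom = (IsLocalization.map (M := Submonoid.powers g)
      (T := Submonoid.powers ((j.app U).hom g)) Γ(Y, j ⁻¹ᵁ W) (j.app U).hom
      (hT.symm ▸ Submonoid.le_comap_map _) : Γ(X, W) →+* Γ(Y, j ⁻¹ᵁ W)) := by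
    apply IsLocalization.ringHom_ext (Submonoid.powers g)
    rw [IsLocalization.map_comp]
    ext a
    have hnat := j.naturality (homOfLE hWU).op
    exact congrArg (fun φ => φ.hom a) hnat
  rw [heq, hkm]
  rfl

/-- (copy of helper8's `KosImm.chart_basicOpen`.) -/
theorem chart_basicOpen {X Y : Scheme.{u}} (j : Y ⟶ X) (U : X.Opens) (hU : IsAffineOpen U)
    (hcl : IsClosedImmersion (j ∣_ U)) (rs : List Γ(X, U))
    (hrs : LCI.IsKoszulRegularSeq Γ(X, U) rs)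
    (hker : RingHom.ker (j.app U).hom = Ideal.ofList rs)
    (g : Γ(X, U)) (W : X.Opens) (hW : W = X.basicOpen g) :
    IsAffineOpen W ∧ IsClosedImmersion (j ∣_ W) ∧ ∃ rs' : List Γ(X, W),
      rs'.length = rs.length ∧ LCI.IsKoszulRegularSeq Γ(X, W) rs' ∧
        RingHom.ker (j.app W).hom = Ideal.ofList rs' := by
  have hWU : W ≤ U := hW ▸ X.basicOpen_le g
  refine ⟨hW ▸ hU.basicOpen g, isClosedImmersion_restrict_of_le j U W hWU hcl,
    rs.map (X.presheaf.map (homOfLE hWU).op).hom, List.length_map _, ?_, ?_⟩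
  · letI algS : Algebra Γ(X, U) Γ(X, W) := (X.presheaf.map (homOfLE hWU).op).hom.toAlgebra
    haveI locS : IsLocalization.Away g Γ(X, W) :=
      hU.isLocalization_of_eq_basicOpen g (homOfLE hWU) hW
    haveI : Module.Flat Γ(X, U) Γ(X, W) := IsLocalization.flat _ (Submonoid.powers g)
    exact Groth.Agent.H4.KosBC.isKoszulRegularSeq_map rs hrs
  · rw [ker_app_basicOpen j U hU hcl g W hW hWU, hker, Ideal.map_ofList]

/-- (copy of helper5's `H5.DS.exists_smooth_nhd_iff_lfp`.) -/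
theorem exists_smooth_nhd_iff_lfp {X Y : Scheme.{u}} (f : X ⟶ Y)
    [LocallyOfFinitePresentation f] (x : X) :
    (∃ U : X.Opens, x ∈ U ∧ Smooth (U.ι ≫ f)) ↔ (f.stalkMap x).hom.FormallySmooth := by
  rw [← Scheme.Hom.mem_smoothLocus]
  constructor
  · rintro ⟨U, hxU, hsm⟩
    have h1 : (U.ι ≫ f).smoothLocus = ⊤ := Scheme.Hom.smoothLocus_eq_top_iff.2 hsm
    rw [← Scheme.Hom.preimage_smoothLocus_eq] at h1
    have h2 : (⟨x, hxU⟩ : U) ∈ U.ι ⁻¹ᵁ f.smoothLocus := by rw [h1]; trivial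
    exact h2
  · intro hx
    refine ⟨f.smoothLocus, hx, ?_⟩
    rw [← Scheme.Hom.smoothLocus_eq_top_iff, ← Scheme.Hom.preimage_smoothLocus_eq]
    ext y
    simp only [TopologicalSpace.Opens.coe_top, Set.mem_univ, iff_true]
    exact y.2

/-- **Smoothness of a local complete intersection of virtual dimension `m` is detected by the
`m`-th Jacobian locus.** -/
theorem main {Y X : Scheme.{u}} (f : Y ⟶ X) [LocallyOfFinitePresentation f] [QuasiSeparated f]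
    (m : ℕ) (y : Y) (U : Y.Opens) (P : Scheme.{u}) (i : (U : Scheme.{u}) ⟶ P) (π : P ⟶ X)
    (c : ℕ) (hyU : y ∈ U) (hreg : RegImm.IsRegularImmersionOfCodim RegImm.Kind.koszul c i)
    (hsm : SmoothOfRelativeDimension (m + c) π) (comm : i ≫ π = U.ι ≫ f) :
    (∃ V : Y.Opens, y ∈ V ∧ Smooth (V.ι ≫ f)) ↔
      y ∉ (Fitt.sheafIdeal (Omega.sheaf f) m).support := by
  haveI : LocallyOfFiniteType f := inferInstance
  obtain ⟨himm, hreg'⟩ := hreg
  obtain ⟨W, hzW, hcl, rs, hlen, hrs, hker⟩ := hreg' ⟨y, hyU⟩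
  replace hrs : LCI.IsKoszulRegularSeq Γ(P, W.1) rs := hrs
  obtain ⟨V₁, hV₁, W₁, hW₁, hzW₁, e₁, hstd⟩ :=
    SmoothOfRelativeDimension.exists_isStandardSmoothOfRelativeDimension (n := m + c) (f := π)
      (i ⟨y, hyU⟩)
  obtain ⟨a, b, hab, hza⟩ := exists_basicOpen_le_affine_inter W.2 hW₁ (i ⟨y, hyU⟩) ⟨hzW, hzW₁⟩
  obtain ⟨hW', hcl', rs', hlen', hrs', hker'⟩ :=
    chart_basicOpen i W.1 W.2 hcl rs hrs hker a (P.basicOpen a) rfl
  generalize hW'def : P.basicOpen a = W' at hW' hcl' rs' hlen' hrs' hker' hza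
  have hW'W₁ : W' ≤ W₁ := by
    rw [← hW'def, hab]
    exact P.basicOpen_le b
  have e' : W' ≤ π ⁻¹ᵁ V₁ := hW'W₁.trans e₁
  have hstd' : (π.appLE V₁ W' e').hom.IsStandardSmoothOfRelativeDimension (m + c) := by
    have h1 : π.appLE V₁ W' e' = π.appLE V₁ W₁ e₁ ≫ P.presheaf.map (homOfLE hW'W₁).op :=
      (Scheme.Hom.appLE_map π e₁ (homOfLE hW'W₁).op).symm
    rw [h1, CommRingCat.hom_comp]
    letI := (P.presheaf.map (homOfLE hW'W₁).op).hom.toAlgebra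
    haveI : IsLocalization.Away b Γ(P, W') :=
      hW₁.isLocalization_of_eq_basicOpen b (homOfLE hW'W₁) (hW'def.symm.trans hab)
    exact (RingHom.isStandardSmoothOfRelativeDimension_stableUnderCompositionWithLocalizationAway
      (m + c)).right Γ(P, W') b _ hstd
  haveI := hcl'
  obtain ⟨hW, hsurj⟩ :=
    Groth.Agent.H1.RegImmersion.affine_and_surjective_of_isClosedImmersion_restrict i W' hW'
  have hU₀ : IsAffineOpen (U.ι ''ᵁ (i ⁻¹ᵁ W')) := hW.image_of_isOpenImmersion U.ι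
  have hyU₀ : y ∈ U.ι ''ᵁ (i ⁻¹ᵁ W') := ⟨⟨y, hyU⟩, hza, rfl⟩
  have hle : U.ι ''ᵁ (i ⁻¹ᵁ W') ≤ f ⁻¹ᵁ V₁ := by
    rintro _ ⟨z, hz, rfl⟩
    have h1 : f (U.ι z) = π (i z) := by
      rw [← Scheme.Hom.comp_apply, ← comm, Scheme.Hom.comp_apply]
    show f (U.ι z) ∈ V₁
    rw [h1]
    exact e' hz
  let ρ : Γ(P, W') →+* Γ(Y, U.ι ''ᵁ (i ⁻¹ᵁ W')) :=
    ((U.ι.appIso (i ⁻¹ᵁ W')).inv).hom.comp (i.app W').hom
  have hinj : Function.Injective ((U.ι.appIso (i ⁻¹ᵁ W')).inv).hom :=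
    ((U.ι.appIso (i ⁻¹ᵁ W')).symm.commRingCatIsoToRingEquiv).injective
  have hρ : Function.Surjective ρ := by
    have h2 : Function.Surjective ((U.ι.appIso (i ⁻¹ᵁ W')).inv).hom :=
      ((U.ι.appIso (i ⁻¹ᵁ W')).symm.commRingCatIsoToRingEquiv).surjective
    exact h2.comp hsurj
  have hcompat : π.appLE V₁ W' e' ≫ i.app W' ≫ (U.ι.appIso (i ⁻¹ᵁ W')).inv =
      f.appLE V₁ (U.ι ''ᵁ (i ⁻¹ᵁ W')) hle := by
    have h1 : π.appLE V₁ W' e' ≫ i.app W' = (i ≫ π).appLE V₁ (i ⁻¹ᵁ W')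
        (fun z hz => e' hz) := by
      rw [Scheme.Hom.app_eq_appLE, Scheme.Hom.appLE_comp_appLE]
    have h2 : f.appLE V₁ (U.ι ''ᵁ (i ⁻¹ᵁ W')) hle ≫ (U.ι.appIso (i ⁻¹ᵁ W')).hom =
        (U.ι ≫ f).appLE V₁ (i ⁻¹ᵁ W') (fun z hz => hle ⟨z, hz, rfl⟩) := by
      rw [Scheme.Hom.appIso_hom', Scheme.Hom.appLE_comp_appLE]
    have h3 : (i ≫ π).appLE V₁ (i ⁻¹ᵁ W') (fun z hz => e' hz) =
        (U.ι ≫ f).appLE V₁ (i ⁻¹ᵁ W') (fun z hz => hle ⟨z, hz, rfl⟩) :=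
      Groth.Agent.H3.JacLocus.appLE_eq_of_eq comm V₁ _ _ _
    rw [← Category.assoc, h1, h3, ← h2, Category.assoc, Iso.hom_inv_id, Category.comp_id]
  letI algAC : Algebra Γ(X, V₁) Γ(P, W') := (π.appLE V₁ W' e').hom.toAlgebra
  letI algAB : Algebra Γ(X, V₁) Γ(Y, U.ι ''ᵁ (i ⁻¹ᵁ W')) :=
    (f.appLE V₁ (U.ι ''ᵁ (i ⁻¹ᵁ W')) hle).hom.toAlgebra
  letI algCB : Algebra Γ(P, W') Γ(Y, U.ι ''ᵁ (i ⁻¹ᵁ W')) := ρ.toAlgebra
  haveI tw : IsScalarTower Γ(X, V₁) Γ(P, W') Γ(Y, U.ι ''ᵁ (i ⁻¹ᵁ W')) := by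
    refine IsScalarTower.of_algebraMap_eq' ?_
    ext t
    exact (congr($(hcompat).hom t)).symm
  have hlen'' : rs'.length = c := hlen'.trans hlen
  haveI hstdA : Algebra.IsStandardSmoothOfRelativeDimension (m + rs'.length) Γ(X, V₁) Γ(P, W') := by
    rw [hlen'']
    exact hstd'
  have hρ' : Function.Surjective (algebraMap Γ(P, W') Γ(Y, U.ι ''ᵁ (i ⁻¹ᵁ W'))) := hρ
  have hkerρ : RingHom.ker (algebraMap Γ(P, W') Γ(Y, U.ι ''ᵁ (i ⁻¹ᵁ W'))) = Ideal.ofList rs' := by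
    rw [← hker']
    ext x
    rw [RingHom.mem_ker, RingHom.mem_ker]
    exact map_eq_zero_iff _ hinj
  haveI : Algebra.FiniteType Γ(X, V₁) Γ(Y, U.ι ''ᵁ (i ⁻¹ᵁ W')) :=
    HasRingHomProperty.appLE @LocallyOfFiniteType f inferInstance ⟨V₁, hV₁⟩
      ⟨U.ι ''ᵁ (i ⁻¹ᵁ W'), hU₀⟩ hle
  have key := isSmoothAt_iff_finrank_le (A := Γ(X, V₁)) (C := Γ(P, W'))
    (B := Γ(Y, U.ι ''ᵁ (i ⁻¹ᵁ W'))) hρ' rs' hrs' hkerρ m
    (hU₀.primeIdealOf ⟨y, hyU₀⟩).asIdeal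
  rw [exists_smooth_nhd_iff_lfp f y, formallySmooth_stalkMap_iff V₁ hV₁ _ hU₀ hle hyU₀,
    Groth.Agent.H3.JacLocus.mem_support_sheafIdeal_iff (Omega.sheaf f)
      (Groth.Agent.H3.Om.isFiniteType_omega f) m hU₀ y hyU₀]
  obtain ⟨ε, -⟩ := Groth.Agent.H3.Om.exists_linearEquiv_kaehler f hU₀ hV₁ hle
  rw [← Groth.Agent.H4.Fitting.ideal_congr m ε,
    Groth.Agent.H3.ClImmSm.not_fitt_le_iff_finrank_le
      (Ω[Γ(Y, U.ι ''ᵁ (i ⁻¹ᵁ W'))⁄Γ(X, V₁)]) m (hU₀.primeIdealOf ⟨y, hyU₀⟩).asIdeal]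
  exact key

end Groth.Agent.H3.LciSm
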