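import Mathlib
import Groth.Prelude.Def_LieS
import Groth.Agent.Lib.Helper3.JointMono

/-! Additivity of the group law on the kernel of `X(B[ε]) → X(B)` (for any monoid scheme `X` over
any base): commutativity, `(b+b')•v = (b•v)*(b'•v)`, invertibility. -/

universe u

open CategoryTheory MonoidalCategory CartesianMonoidalCategory MonObj AlgebraicGeometry

namespace Groth.Agent.H3.LieAdd

noncomputable section

open LieS

section Rings

variable (B : Type u) [CommRing B]

/-- `B[ε₁, ε₂]` with all products of the `ε`'s zero. -/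
abbrev E2 : Type u := TrivSqZeroExt B (B × B)

variable {B}

/-- the ring map induced by a linear map of square-zero ideals. -/
def tm {M N : Type u} [AddCommGroup M] [AddCommGroup N] [Module B M] [Module B N]
    [Module Bᵐᵒᵖ M] [Module Bᵐᵒᵖ N] [IsCentralScalar B M] [IsCentralScalar B N]
    (l : M →ₗ[B] N) : TrivSqZeroExt B M →+* TrivSqZeroExt B N :=
  (TrivSqZeroExt.map l : TrivSqZeroExt B M →ₐ[B] TrivSqZeroExt B N).toRingHom

theorem tm_apply {M N : Type u} [AddCommGroup M] [AddCommGroup N] [Module B M] [Module B N]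
    [Module Bᵐᵒᵖ M] [Module Bᵐᵒᵖ N] [IsCentralScalar B M] [IsCentralScalar B N]
    (l : M →ₗ[B] N) (x : TrivSqZeroExt B M) : tm l x = TrivSqZeroExt.map l x := rfl

theorem tm_comp_algebraMap {M N : Type u} [AddCommGroup M] [AddCommGroup N] [Module B M]
    [Module B N] [Module Bᵐᵒᵖ M] [Module Bᵐᵒᵖ N] [IsCentralScalar B M] [IsCentralScalar B N]
    (l : M →ₗ[B] N) :
    (tm l).comp (algebraMap B (TrivSqZeroExt B M)) = algebraMap B (TrivSqZeroExt B N) :=
  (TrivSqZeroExt.map l : TrivSqZeroExt B M →ₐ[B] TrivSqZeroExt B N).comp_algebraMap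

theorem tm_comp {M N P : Type u} [AddCommGroup M] [AddCommGroup N] [AddCommGroup P] [Module B M]
    [Module B N] [Module B P] [Module Bᵐᵒᵖ M] [Module Bᵐᵒᵖ N] [Module Bᵐᵒᵖ P]
    [IsCentralScalar B M] [IsCentralScalar B N] [IsCentralScalar B P]
    (l : M →ₗ[B] N) (l' : N →ₗ[B] P) : (tm l').comp (tm l) = tm (l' ∘ₗ l) := by
  refine RingHom.ext fun x => ?_
  change TrivSqZeroExt.map l' (TrivSqZeroExt.map l x) = TrivSqZeroExt.map (l' ∘ₗ l) x
  have h := TrivSqZeroExt.map_comp_map l l'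
  exact (congrArg (fun φ => φ x) h).symm

theorem tm_id {M : Type u} [AddCommGroup M] [Module B M] [Module Bᵐᵒᵖ M] [IsCentralScalar B M] :
    tm (LinearMap.id : M →ₗ[B] M) = RingHom.id _ := by
  refine RingHom.ext fun x => ?_
  change TrivSqZeroExt.map LinearMap.id x = x
  rw [TrivSqZeroExt.map_id]
  rfl

theorem scaleHom_eq (b : B) : scaleHom b = tm (b • (LinearMap.id : B →ₗ[B] B)) := by
  refine RingHom.ext fun x => ?_
  apply TrivSqZeroExt.ext
  · simp [scaleHom, tm_apply, TrivSqZeroExt.algebraMap_eq_inl']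
  · simp [scaleHom, tm_apply, TrivSqZeroExt.algebraMap_eq_inl', mul_comm]

theorem tm_zero_eq :
    tm (0 : B →ₗ[B] B) =
      (algebraMap B (DualNumber B)).comp (TrivSqZeroExt.fstHom B B B).toRingHom := by
  refine RingHom.ext fun x => ?_
  apply TrivSqZeroExt.ext
  · simp [tm_apply, TrivSqZeroExt.algebraMap_eq_inl']
  · simp [tm_apply, TrivSqZeroExt.algebraMap_eq_inl']

end Rings

section Schemes

variable {S : Scheme.{u}} {B : Type u} [CommRing B] (f : Spec (CommRingCat.of B) ⟶ S)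

/-- `Spec (B ⊕ M)` as a scheme over `S`. -/
def tpt (M : Type u) [AddCommGroup M] [Module B M] [Module Bᵐᵒᵖ M] [IsCentralScalar B M] :
    Over S :=
  Over.mk (Spec.map (CommRingCat.ofHom (algebraMap B (TrivSqZeroExt B M))) ≫ f)

theorem tpt_B : tpt f B = dpt B f := rfl

/-- the morphism of schemes over `S` induced by a linear map of square-zero ideals. -/
def tmap {M N : Type u} [AddCommGroup M] [AddCommGroup N] [Module B M] [Module B N]
    [Module Bᵐᵒᵖ M] [Module Bᵐᵒᵖ N] [IsCentralScalar B M] [IsCentralScalar B N]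
    (l : M →ₗ[B] N) : tpt f N ⟶ tpt f M :=
  Over.homMk (Spec.map (CommRingCat.ofHom (tm l))) (by
    change Spec.map _ ≫ Spec.map _ ≫ f = Spec.map _ ≫ f
    rw [← Category.assoc, specMap_comp, tm_comp_algebraMap])

theorem tmap_comp {M N P : Type u} [AddCommGroup M] [AddCommGroup N] [AddCommGroup P] [Module B M]
    [Module B N] [Module B P] [Module Bᵐᵒᵖ M] [Module Bᵐᵒᵖ N] [Module Bᵐᵒᵖ P]
    [IsCentralScalar B M] [IsCentralScalar B N] [IsCentralScalar B P]
    (l : M →ₗ[B] N) (l' : N →ₗ[B] P) : tmap f l' ≫ tmap f l = tmap f (l' ∘ₗ l) := by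
  apply Over.OverMorphism.ext
  change Spec.map _ ≫ Spec.map _ = Spec.map _
  rw [specMap_comp, tm_comp]

theorem tmap_id {M : Type u} [AddCommGroup M] [Module B M] [Module Bᵐᵒᵖ M]
    [IsCentralScalar B M] : tmap f (LinearMap.id : M →ₗ[B] M) = 𝟙 _ := by
  apply Over.OverMorphism.ext
  change Spec.map _ = 𝟙 _
  rw [tm_id, CommRingCat.ofHom_id]
  erw [Spec.map_id]

theorem scale_eq (b : B) :
    scale B f b = (tmap f (b • (LinearMap.id : B →ₗ[B] B)) : tpt f B ⟶ tpt f B) := by
  apply Over.OverMorphism.ext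
  change Spec.map _ = Spec.map _
  rw [scaleHom_eq]

theorem proj_zeroSec :
    proj B f ≫ zeroSec B f = (tmap f (0 : B →ₗ[B] B) : tpt f B ⟶ tpt f B) := by
  apply Over.OverMorphism.ext
  change Spec.map _ ≫ Spec.map _ = Spec.map _
  rw [specMap_comp, tm_zero_eq]

variable {X : Over S} [MonObj X]

/-- points of `X` over `Spec (B ⊕ B²)` are determined by their two restrictions to the dual
numbers. -/
theorem joint_ext (G G' : tpt f (B × B) ⟶ X)
    (h₁ : tmap f (LinearMap.fst B B B) ≫ G = tmap f (LinearMap.fst B B B) ≫ G')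
    (h₂ : tmap f (LinearMap.snd B B B) ≫ G = tmap f (LinearMap.snd B B B) ≫ G') : G = G' := by
  apply Over.OverMorphism.ext
  refine Groth.Agent.H3.JointMono.hom_ext_of_joint
    (CommRingCat.ofHom (tm (LinearMap.fst B B B))) (CommRingCat.ofHom (tm (LinearMap.snd B B B)))
    ?_ ?_ G.left G'.left (congrArg (fun φ => φ.left) h₁) (congrArg (fun φ => φ.left) h₂)
  · intro x hx1 hx2
    have e1 : TrivSqZeroExt.map (LinearMap.fst B B B) x = 0 := hx1
    have e2 : TrivSqZeroExt.map (LinearMap.snd B B B) x = 0 := hx2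
    have a1 := congrArg TrivSqZeroExt.fst e1
    have a2 := congrArg TrivSqZeroExt.snd e1
    have a3 := congrArg TrivSqZeroExt.snd e2
    rw [TrivSqZeroExt.fst_map] at a1
    rw [TrivSqZeroExt.snd_map] at a2 a3
    apply TrivSqZeroExt.ext
    · exact a1
    · exact Prod.ext a2 a3
  · -- surjectivity on spectra of the first projection
    intro d
    have hθ : Function.Surjective (tm (LinearMap.fst B B B)) := by
      intro y
      refine ⟨tm (LinearMap.inl B B B) y, ?_⟩
      have := congrArg (fun φ => φ y) (tm_comp (LinearMap.inl B B B) (LinearMap.fst B B B))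
      simp only [RingHom.comp_apply] at this
      rw [this, LinearMap.fst_comp_inl, tm_id]
      rfl
    have h1 : Set.range (PrimeSpectrum.comap (tm (LinearMap.fst B B B))) = Set.univ := by
      rw [range_comap_of_surjective _ _ hθ, PrimeSpectrum.zeroLocus_eq_univ_iff]
      intro x hx
      have e1 : TrivSqZeroExt.map (LinearMap.fst B B B) x = 0 := RingHom.mem_ker.mp hx
      have a1 := congrArg TrivSqZeroExt.fst e1
      rw [TrivSqZeroExt.fst_map] at a1
      refine mem_nilradical.mpr ⟨2, ?_⟩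
      rw [pow_two]
      apply TrivSqZeroExt.ext
      · simp [a1]
      · simp [a1]
    have h2 : (d : PrimeSpectrum (TrivSqZeroExt B (B × B))) ∈
        Set.range (PrimeSpectrum.comap (tm (LinearMap.fst B B B))) := by
      rw [h1]; exact Set.mem_univ _
    obtain ⟨c, hc⟩ := h2
    exact ⟨c, hc⟩

/-- the kernel of restriction to the zero section. -/
def K (X : Over S) [MonObj X] : Set (dpt B f ⟶ X) := {v | zeroSec B f ≫ v = 1}

theorem tmap_zero_comp {v : dpt B f ⟶ X} (hv : zeroSec B f ≫ v = 1) :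
    (tmap f (0 : B →ₗ[B] B) : tpt f B ⟶ tpt f B) ≫ v = 1 := by
  have h : (proj B f ≫ zeroSec B f) ≫ v = 1 := by rw [Category.assoc, hv, MonObj.comp_one]
  exact (congrArg (fun φ : dpt B f ⟶ dpt B f => φ ≫ v) (proj_zeroSec f)).symm.trans h

/-- first coordinate embedding `ε ↦ ε₁`. -/
abbrev i1 : tpt f (B × B) ⟶ tpt f B := tmap f (LinearMap.inl B B B)
/-- second coordinate embedding `ε ↦ ε₂`. -/
abbrev i2 : tpt f (B × B) ⟶ tpt f B := tmap f (LinearMap.inr B B B)
/-- `ε₂ ↦ 0`. -/
abbrev q1 : tpt f B ⟶ tpt f (B × B) := tmap f (LinearMap.fst B B B)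
/-- `ε₁ ↦ 0`. -/
abbrev q2 : tpt f B ⟶ tpt f (B × B) := tmap f (LinearMap.snd B B B)

theorem q1_i1 : q1 f ≫ i1 f = 𝟙 _ := by
  rw [tmap_comp, LinearMap.fst_comp_inl, tmap_id]
theorem q2_i2 : q2 f ≫ i2 f = 𝟙 _ := by
  rw [tmap_comp, LinearMap.snd_comp_inr, tmap_id]
theorem q1_i2 : q1 f ≫ i2 f = tmap f (0 : B →ₗ[B] B) := by
  rw [tmap_comp, LinearMap.fst_comp_inr]
theorem q2_i1 : q2 f ≫ i1 f = tmap f (0 : B →ₗ[B] B) := by
  rw [tmap_comp, LinearMap.snd_comp_inl]

/-- the restrictions of a product of points in the two coordinates. -/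
theorem q1_prod {v w : dpt B f ⟶ X} (hw : zeroSec B f ≫ w = 1) :
    q1 f ≫ ((i1 f ≫ v) * (i2 f ≫ w)) = v := by
  rw [MonObj.comp_mul, ← Category.assoc, ← Category.assoc, q1_i1, q1_i2, Category.id_comp,
    tmap_zero_comp f hw, _root_.mul_one]

theorem q2_prod {v w : dpt B f ⟶ X} (hv : zeroSec B f ≫ v = 1) :
    q2 f ≫ ((i1 f ≫ v) * (i2 f ≫ w)) = w := by
  rw [MonObj.comp_mul, ← Category.assoc, ← Category.assoc, q2_i1, q2_i2, Category.id_comp,
    tmap_zero_comp f hv, _root_.one_mul]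

theorem q1_prod' {v w : dpt B f ⟶ X} (hw : zeroSec B f ≫ w = 1) :
    q1 f ≫ ((i2 f ≫ w) * (i1 f ≫ v)) = v := by
  rw [MonObj.comp_mul, ← Category.assoc, ← Category.assoc, q1_i1, q1_i2, Category.id_comp,
    tmap_zero_comp f hw, _root_.one_mul]

theorem q2_prod' {v w : dpt B f ⟶ X} (hv : zeroSec B f ≫ v = 1) :
    q2 f ≫ ((i2 f ≫ w) * (i1 f ≫ v)) = w := by
  rw [MonObj.comp_mul, ← Category.assoc, ← Category.assoc, q2_i1, q2_i2, Category.id_comp,
    tmap_zero_comp f hv, _root_.mul_one]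

/-- **commutativity** of the kernel of restriction to the zero section. -/
theorem comm {v w : dpt B f ⟶ X} (hv : zeroSec B f ≫ v = 1) (hw : zeroSec B f ≫ w = 1) :
    v * w = w * v := by
  have hG : (i1 f ≫ v) * (i2 f ≫ w) = (i2 f ≫ w) * (i1 f ≫ v) := by
    apply joint_ext f
    · rw [q1_prod f hw, q1_prod' f hw]
    · rw [q2_prod f hv, q2_prod' f hv]
  let sg : tpt f B ⟶ tpt f (B × B) :=
    tmap f (LinearMap.coprod (LinearMap.id : B →ₗ[B] B) (LinearMap.id : B →ₗ[B] B))
  have s1 : sg ≫ i1 f = 𝟙 _ := by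
    rw [tmap_comp, LinearMap.coprod_inl, tmap_id]
  have s2 : sg ≫ i2 f = 𝟙 _ := by
    rw [tmap_comp, LinearMap.coprod_inr, tmap_id]
  have h1 : sg ≫ ((i1 f ≫ v) * (i2 f ≫ w)) = v * w := by
    rw [MonObj.comp_mul, ← Category.assoc, ← Category.assoc, s1, s2, Category.id_comp,
      Category.id_comp]
    rfl
  have h2 : sg ≫ ((i2 f ≫ w) * (i1 f ≫ v)) = w * v := by
    rw [MonObj.comp_mul, ← Category.assoc, ← Category.assoc, s1, s2, Category.id_comp,
      Category.id_comp]
    rfl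
  rw [← h1, hG, h2]

/-- **distributivity** of the rescaling action over addition of scalars. -/
theorem add_scale {v : dpt B f ⟶ X} (hv : zeroSec B f ≫ v = 1) (b b' : B) :
    scale B f (b + b') ≫ v = (scale B f b ≫ v) * (scale B f b' ≫ v) := by
  let dg : tpt f (B × B) ⟶ tpt f B :=
    tmap f (LinearMap.prod (LinearMap.id : B →ₗ[B] B) (LinearMap.id : B →ₗ[B] B))
  have d1 : q1 f ≫ dg = 𝟙 _ := by
    rw [tmap_comp, LinearMap.fst_prod, tmap_id]
  have d2 : q2 f ≫ dg = 𝟙 _ := by
    rw [tmap_comp, LinearMap.snd_prod, tmap_id]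
  have hG : (i1 f ≫ v) * (i2 f ≫ v) = dg ≫ v := by
    apply joint_ext f
    · rw [q1_prod f hv, ← Category.assoc, d1, Category.id_comp]
    · rw [q2_prod f hv, ← Category.assoc, d2, Category.id_comp]
  let ta : tpt f B ⟶ tpt f (B × B) :=
    tmap f (LinearMap.coprod (b • (LinearMap.id : B →ₗ[B] B)) (b' • (LinearMap.id : B →ₗ[B] B)))
  have t1 : ta ≫ i1 f = scale B f b := by
    rw [tmap_comp, LinearMap.coprod_inl, scale_eq]
  have t2 : ta ≫ i2 f = scale B f b' := by
    rw [tmap_comp, LinearMap.coprod_inr, scale_eq]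
  have t3 : ta ≫ dg = scale B f (b + b') := by
    rw [tmap_comp, scale_eq]
    congr 1
    refine LinearMap.ext fun z => ?_
    simp [add_mul]
  have h1 : ta ≫ ((i1 f ≫ v) * (i2 f ≫ v)) = (scale B f b ≫ v) * (scale B f b' ≫ v) := by
    rw [MonObj.comp_mul, ← Category.assoc, ← Category.assoc, t1, t2]
    rfl
  rw [← h1, hG, ← Category.assoc, t3]
  rfl

theorem zero_scale {v : dpt B f ⟶ X} (hv : zeroSec B f ≫ v = 1) : scale B f 0 ≫ v = 1 := by
  rw [scale_eq, zero_smul]
  exact tmap_zero_comp f hv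

theorem one_scale (v : dpt B f ⟶ X) : scale B f 1 ≫ v = v := by
  rw [scale_eq, one_smul, tmap_id]
  exact Category.id_comp v

theorem zeroSec_scale_comp {v : dpt B f ⟶ X} (hv : zeroSec B f ≫ v = 1) (b : B) :
    zeroSec B f ≫ scale B f b ≫ v = 1 := by
  rw [← Category.assoc, zeroSec_scale, hv]

/-- every point in the kernel of restriction to the zero section is invertible. -/
theorem isUnit_of_mem {v : dpt B f ⟶ X} (hv : zeroSec B f ≫ v = 1) : IsUnit v := by
  have h1 : v * (scale B f (-1) ≫ v) = 1 := by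
    have := add_scale f hv 1 (-1)
    rw [add_neg_cancel, zero_scale f hv, one_scale] at this
    exact this.symm
  have h2 : (scale B f (-1) ≫ v) * v = 1 := by
    rw [← comm f hv (zeroSec_scale_comp f hv (-1))]
    exact h1
  exact ⟨⟨v, scale B f (-1) ≫ v, h1, h2⟩, rfl⟩

/-- `n • v = v ^ n` for natural `n`. -/
theorem natCast_scale {v : dpt B f ⟶ X} (hv : zeroSec B f ≫ v = 1) (n : ℕ) :
    scale B f (n : B) ≫ v = v ^ n := by
  induction n with
  | zero => rw [Nat.cast_zero, zero_scale f hv, pow_zero]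
  | succ n ih => rw [Nat.cast_succ, add_scale f hv, ih, one_scale, pow_succ]

end Schemes

section Results

variable {S : Scheme.{u}} {B : Type u} [CommRing B] (f : Spec (CommRingCat.of B) ⟶ S)

/-- `S8365`. -/
theorem isUnit_iff {X : Over S} [MonObj X] (v : dpt B f ⟶ X) :
    IsUnit v ↔ IsUnit (zeroSec B f ≫ v) := by
  constructor
  · rintro ⟨⟨v, w, h1, h2⟩, rfl⟩
    refine ⟨⟨zeroSec B f ≫ v, zeroSec B f ≫ w, ?_, ?_⟩, rfl⟩
    · rw [← MonObj.comp_mul, h1, MonObj.comp_one]
    · rw [← MonObj.comp_mul, h2, MonObj.comp_one]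
  · rintro ⟨⟨v₀, w₀, h1, h2⟩, hv₀⟩
    have hv₀' : zeroSec B f ≫ v = v₀ := hv₀.symm
    let w : dpt B f ⟶ X := proj B f ≫ w₀
    have hzw : zeroSec B f ≫ w = w₀ := by
      change zeroSec B f ≫ proj B f ≫ w₀ = w₀
      rw [← Category.assoc, zeroSec_proj, Category.id_comp]
    have hu : zeroSec B f ≫ (v * w) = 1 := by rw [MonObj.comp_mul, hv₀', hzw, h1]
    have hu' : zeroSec B f ≫ (w * v) = 1 := by rw [MonObj.comp_mul, hv₀', hzw, h2]
    obtain ⟨⟨_, r, hr1, hr2⟩, rfl⟩ := isUnit_of_mem f hu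
    obtain ⟨⟨_, l, hl1, hl2⟩, rfl⟩ := isUnit_of_mem f hu'
    -- right inverse `w * r`, left inverse `l * w`
    have hR : v * (w * r) = 1 := by rw [← _root_.mul_assoc]; exact hr1
    have hL : (l * w) * v = 1 := by rw [_root_.mul_assoc]; exact hl2
    have hLR : l * w = w * r := by
      calc l * w = (l * w) * (v * (w * r)) := by rw [hR, _root_.mul_one]
        _ = ((l * w) * v) * (w * r) := by simp only [_root_.mul_assoc]
        _ = w * r := by rw [hL, _root_.one_mul]
    exact ⟨⟨v, w * r, hR, by rw [← hLR]; exact hL⟩, rfl⟩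

variable {G : Over S} [GrpObj G]

theorem neg_scale {v : dpt B f ⟶ G} (hv : zeroSec B f ≫ v = 1) (b : B) :
    scale B f (-b) ≫ v = (scale B f b ≫ v)⁻¹ := by
  have h := add_scale f hv b (-b)
  rw [add_neg_cancel, zero_scale f hv] at h
  exact eq_inv_of_mul_eq_one_right h.symm

/-- `S8357`. -/
theorem zpow_eq (v : LieS.Lie G B f) (n : ℤ) : v ^ n = ((n : B) • v : LieS.Lie G B f) := by
  apply Subtype.ext
  rw [Subgroup.coe_zpow, smul_val]
  have hv : zeroSec B f ≫ v.1 = 1 := v.2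
  cases n with
  | ofNat m =>
    rw [Int.ofNat_eq_natCast, Int.cast_natCast, zpow_natCast, natCast_scale f hv]
  | negSucc m =>
    rw [zpow_negSucc, Int.cast_negSucc, neg_scale f hv, natCast_scale f hv]

end Results

end

end Groth.Agent.H3.LieAdd
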