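import Mathlib
import Groth.Prelude.Def_LieS

/-! The Lie algebra of a centraliser: commuting with all points of `K` versus invariance under the
adjoint action of the points of `K` (S8370). -/

universe u

open CategoryTheory MonoidalCategory CartesianMonoidalCategory MonObj GrpObj AlgebraicGeometry

namespace Groth.Agent.H3.LieCentr

open LieS

variable {S : Scheme.{u}} {G K : Over S} [GrpObj G] [GrpObj K] (i : K ⟶ G)
  {B : Type u} [CommRing B] (f : Spec (CommRingCat.of B) ⟶ S) (x : LieS.Lie G B f)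

theorem ad_val {B' : Type u} [CommRing B'] (f' : Spec (CommRingCat.of B') ⟶ S)
    (g : LieS.pt B' f' ⟶ G) (v : LieS.Lie G B' f') :
    (LieS.Ad G B' f' g v).1 = (LieS.proj B' f' ≫ g) * v.1 * (LieS.proj B' f' ≫ g)⁻¹ := rfl

theorem pull_val {B' : Type u} [CommRing B'] (h : B →+* B') :
    (LieS.pull G f h x).1 = LieS.dptMap f h ≫ x.1 := rfl

/-- every ring map out of the dual numbers factors through a base change of dual numbers. -/
theorem dualHom_factor {B' : Type u} [CommRing B'] (ψ : DualNumber B →+* B') :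
    ∃ (c : B') (hc : c * c = 0),
      ψ = (dualHom (RingHom.id B') c hc).comp (bcHom (ψ.comp (algebraMap B (DualNumber B)))) := by
  have hc : ψ DualNumber.eps * ψ DualNumber.eps = 0 := by
    rw [← map_mul, LieS.eps_sq, map_zero]
  refine ⟨ψ DualNumber.eps, hc, RingHom.ext fun z => ?_⟩
  have hz : z = algebraMap B (DualNumber B) z.fst +
      algebraMap B (DualNumber B) z.snd * DualNumber.eps := by
    apply TrivSqZeroExt.ext
    · simp [TrivSqZeroExt.algebraMap_eq_inl']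
    · simp [TrivSqZeroExt.algebraMap_eq_inl']
  conv_lhs => rw [hz]
  simp [bcHom, TrivSqZeroExt.algebraMap_eq_inl']

include x in
theorem forward
    (H : ∀ (X' : Over S) (y : X' ⟶ LieS.dpt B f) (h : X' ⟶ K),
      (y ≫ x.1) * (h ≫ i) = (h ≫ i) * (y ≫ x.1))
    (B' : Type u) [CommRing B'] (h : B →+* B')
    (k : LieS.pt B' (Spec.map (CommRingCat.ofHom h) ≫ f) ⟶ K) :
    LieS.Ad G B' (Spec.map (CommRingCat.ofHom h) ≫ f) (k ≫ i) (LieS.pull G f h x) =
      LieS.pull G f h x := by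
  apply Subtype.ext
  rw [ad_val, pull_val]
  have h1 := H (LieS.dpt B' (Spec.map (CommRingCat.ofHom h) ≫ f)) (LieS.dptMap f h)
    (LieS.proj B' (Spec.map (CommRingCat.ofHom h) ≫ f) ≫ k)
  rw [Category.assoc] at h1
  rw [← h1, mul_inv_cancel_right]

theorem backward_affine
    (H : ∀ (B' : Type u) [CommRing B'] (h : B →+* B')
      (k : LieS.pt B' (Spec.map (CommRingCat.ofHom h) ≫ f) ⟶ K),
      LieS.Ad G B' (Spec.map (CommRingCat.ofHom h) ≫ f) (k ≫ i) (LieS.pull G f h x) =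
        LieS.pull G f h x)
    (X' : Over S) (y : X' ⟶ LieS.dpt B f) (h : X' ⟶ K)
    (B' : Type u) [CommRing B'] (q : Spec (CommRingCat.of B') ⟶ X'.left) :
    q ≫ ((y ≫ x.1) * (h ≫ i)).left = q ≫ ((h ≫ i) * (y ≫ x.1)).left := by
  -- the ring map of `q ≫ y`
  let yl : X'.left ⟶ Spec (CommRingCat.of (DualNumber B)) := y.left
  obtain ⟨ψ, hψ⟩ : ∃ ψ : CommRingCat.of (DualNumber B) ⟶ CommRingCat.of B', Spec.map ψ = q ≫ yl :=
    ⟨Spec.preimage _, Spec.map_preimage _⟩
  let h₀ : B →+* B' := ψ.hom.comp (algebraMap B (DualNumber B))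
  obtain ⟨c, hc, hfac⟩ := dualHom_factor ψ.hom
  let f' : Spec (CommRingCat.of B') ⟶ S := Spec.map (CommRingCat.ofHom h₀) ≫ f
  have hyw : yl ≫ Spec.map (CommRingCat.ofHom (algebraMap B (DualNumber B))) ≫ f = X'.hom :=
    Over.w y
  have hq : q ≫ X'.hom = f' := by
    rw [← hyw, ← Category.assoc, ← hψ, ← Category.assoc]
    congr 1
    rw [← Spec.map_comp]
    rfl
  let qO : LieS.pt B' f' ⟶ X' := Over.homMk q hq
  let jc : LieS.pt B' f' ⟶ LieS.dpt B' f' :=
    Over.homMk (Spec.map (CommRingCat.ofHom (dualHom (RingHom.id B') c hc))) (by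
      change Spec.map _ ≫ Spec.map _ ≫ f' = f'
      rw [← Category.assoc, LieS.specMap_comp, LieS.dualHom_comp_algebraMap, CommRingCat.ofHom_id]
      erw [Spec.map_id]
      exact Category.id_comp f')
  have hA : jc ≫ LieS.dptMap f h₀ = qO ≫ y := by
    apply Over.OverMorphism.ext
    change Spec.map _ ≫ Spec.map _ = q ≫ yl
    rw [LieS.specMap_comp, ← hψ, ← hfac]
    rfl
  have hB : jc ≫ LieS.proj B' f' = 𝟙 _ := by
    apply Over.OverMorphism.ext
    change Spec.map _ ≫ Spec.map _ = 𝟙 _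
    rw [LieS.specMap_comp, LieS.dualHom_comp_algebraMap, CommRingCat.ofHom_id]
    erw [Spec.map_id]
  let k : LieS.pt B' f' ⟶ K := qO ≫ h
  have h2 := congrArg Subtype.val (H B' h₀ k)
  rw [ad_val, pull_val, mul_inv_eq_iff_eq_mul] at h2
  have h3 := congrArg (fun φ => jc ≫ φ) h2
  simp only [MonObj.comp_mul] at h3
  rw [← Category.assoc jc, hB, Category.id_comp, ← Category.assoc jc, hA] at h3
  -- h3 : (k ≫ i) * (qO ≫ y ≫ x.1) = (qO ≫ y ≫ x.1) * (k ≫ i)
  have h4 : qO ≫ ((y ≫ x.1) * (h ≫ i)) = qO ≫ ((h ≫ i) * (y ≫ x.1)) := by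
    rw [MonObj.comp_mul, MonObj.comp_mul]
    simp only [k, Category.assoc] at h3
    exact h3.symm
  exact congrArg (fun φ => φ.left) h4

theorem backward
    (H : ∀ (B' : Type u) [CommRing B'] (h : B →+* B')
      (k : LieS.pt B' (Spec.map (CommRingCat.ofHom h) ≫ f) ⟶ K),
      LieS.Ad G B' (Spec.map (CommRingCat.ofHom h) ≫ f) (k ≫ i) (LieS.pull G f h x) =
        LieS.pull G f h x)
    (X' : Over S) (y : X' ⟶ LieS.dpt B f) (h : X' ⟶ K) :
    (y ≫ x.1) * (h ≫ i) = (h ≫ i) * (y ≫ x.1) := by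
  apply Over.OverMorphism.ext
  apply Scheme.hom_ext_of_forall
  intro p
  obtain ⟨_, ⟨V, hV, rfl⟩, hpV, -⟩ := X'.left.isBasis_affineOpens.exists_subset_of_mem_open
    (Set.mem_univ p) isOpen_univ
  refine ⟨V, hpV, ?_⟩
  have key := backward_affine i f x H X' y h (↑Γ(X'.left, V)) hV.fromSpec
  rw [← hV.isoSpec_hom_fromSpec, Category.assoc, Category.assoc]
  exact congrArg (fun φ => hV.isoSpec.hom ≫ φ) key

theorem main :
    (∀ (X' : Over S) (y : X' ⟶ LieS.dpt B f) (h : X' ⟶ K),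
      (y ≫ x.1) * (h ≫ i) = (h ≫ i) * (y ≫ x.1)) ↔
    (∀ (B' : Type u) [CommRing B'] (h : B →+* B')
      (k : LieS.pt B' (Spec.map (CommRingCat.ofHom h) ≫ f) ⟶ K),
      LieS.Ad G B' (Spec.map (CommRingCat.ofHom h) ≫ f) (k ≫ i) (LieS.pull G f h x) =
        LieS.pull G f h x) :=
  ⟨fun H B' _ h k => forward i f x H B' h k, fun H X' y h => backward i f x H X' y h⟩

end Groth.Agent.H3.LieCentr
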