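import Mathlib
import Groth.Prelude.Def_LieS
import Groth.Prelude.Def_Red2
import Groth.Agent.Lib.Helper3.DiagDS

/-! The Lie algebra of the diagonalisable group `D_R(M)`: `Lie(D(M))(B) ≅ Hom(M, B)` (S8358). -/

universe u

open CategoryTheory MonoidalCategory CartesianMonoidalCategory MonObj GrpObj AlgebraicGeometry
open Groth.Agent.H3.DiagDS Groth.Agent.H4.GaGm

namespace Groth.Agent.H3.LieDiag

open LieS

noncomputable section

section Chi

variable {R : Type u} [CommRing R] {M : Type} [AddCommGroup M] {C : Type u} [CommRing C]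
  {s : Spec (CommRingCat.of C) ⟶ Spec (CommRingCat.of R)}

/-- the character of a point of `D(M)` over an affine test object, with values in the ring. -/
def chi (z : Over.mk s ⟶ Red.diag R M) : Multiplicative M →* C :=
  ((Scheme.ΓSpecIso (CommRingCat.of C)).hom.hom : Γ(Spec (CommRingCat.of C), ⊤) →* C).comp
    (chrD z)

theorem chi_apply (z : Over.mk s ⟶ Red.diag R M) (g : Multiplicative M) :
    chi z g = (Scheme.ΓSpecIso (CommRingCat.of C)).hom.hom (chrD z g) := rfl

theorem chi_mul (z w : Over.mk s ⟶ Red.diag R M) (g : Multiplicative M) :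
    chi (z * w) g = chi z g * chi w g := by
  rw [chi_apply, chi_apply, chi_apply, chrD_mul, map_mul]

theorem chi_injective (z w : Over.mk s ⟶ Red.diag R M) (h : ∀ g, chi z g = chi w g) : z = w := by
  apply chrD_injective
  refine MonoidHom.ext fun g => ?_
  have := h g
  rw [chi_apply, chi_apply] at this
  exact (ConcreteCategory.bijective_of_isIso (Scheme.ΓSpecIso (CommRingCat.of C)).hom).1 this

theorem chi_surjective (φ : Multiplicative M →* C) :
    ∃ z : Over.mk s ⟶ Red.diag R M, ∀ g, chi z g = φ g := by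
  obtain ⟨z, hz⟩ := chrD_surjective (R := R) (X := Over.mk s)
    (((Scheme.ΓSpecIso (CommRingCat.of C)).inv.hom : C →* Γ(Spec (CommRingCat.of C), ⊤)).comp φ)
  refine ⟨z, fun g => ?_⟩
  rw [chi_apply, hz]
  change (Scheme.ΓSpecIso (CommRingCat.of C)).hom.hom
    ((Scheme.ΓSpecIso (CommRingCat.of C)).inv.hom (φ g)) = φ g
  rw [← CommRingCat.comp_apply, Iso.inv_hom_id]
  rfl

theorem chi_comp {C' : Type u} [CommRing C']
    {s' : Spec (CommRingCat.of C') ⟶ Spec (CommRingCat.of R)} (θ : C →+* C')
    (q : Over.mk s' ⟶ Over.mk s) (hq : q.left = Spec.map (CommRingCat.ofHom θ))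
    (z : Over.mk s ⟶ Red.diag R M) (g : Multiplicative M) :
    chi (q ≫ z) g = θ (chi z g) := by
  rw [chi_apply, chi_apply, chrD_precomp, hq]
  change (Scheme.ΓSpecIso (CommRingCat.of C')).hom.hom
    ((Spec.map (CommRingCat.ofHom θ)).appTop.hom _) = _
  rw [← CommRingCat.comp_apply, Scheme.ΓSpecIso_naturality]
  rfl

theorem chi_one (g : Multiplicative M) : chi (1 : Over.mk s ⟶ Red.diag R M) g = 1 := by
  have h1 : chi (1 : Over.mk s ⟶ Red.diag R M) g * chi (1 : Over.mk s ⟶ Red.diag R M) g =
      chi (1 : Over.mk s ⟶ Red.diag R M) g := by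
    rw [← chi_mul, _root_.mul_one]
  have h2 : chi (1 : Over.mk s ⟶ Red.diag R M) g * chi (1 : Over.mk s ⟶ Red.diag R M) g⁻¹ = 1 := by
    rw [← map_mul, mul_inv_cancel, map_one]
  calc chi (1 : Over.mk s ⟶ Red.diag R M) g
      = chi (1 : Over.mk s ⟶ Red.diag R M) g *
          (chi (1 : Over.mk s ⟶ Red.diag R M) g * chi (1 : Over.mk s ⟶ Red.diag R M) g⁻¹) := by
        rw [h2, _root_.mul_one]
    _ = 1 := by rw [← _root_.mul_assoc, h1, h2]

theorem preimage_eq {A' C' : CommRingCat.{u}} (f : Spec C' ⟶ Spec A') :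
    Spec.preimage f = (Scheme.ΓSpecIso A').inv ≫ f.appTop ≫ (Scheme.ΓSpecIso C').hom := by
  obtain ⟨θ, rfl⟩ : ∃ θ, Spec.map θ = f := ⟨Spec.preimage f, Spec.map_preimage f⟩
  rw [Spec.preimage_map, Scheme.ΓSpecIso_naturality, Iso.inv_hom_id_assoc]

theorem chi_eq_preimage (z : Over.mk s ⟶ Red.diag R M) (g : Multiplicative M) :
    chi z g = (Spec.preimage (z.left : Spec (CommRingCat.of C) ⟶
      Spec (CommRingCat.of (MonoidAlgebra R (Multiplicative M))))).hom
        (MonoidAlgebra.single g 1) := by
  rw [preimage_eq]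
  rfl

end Chi

section Lie

variable (R : Type u) [CommRing R] (M : Type) [AddCommGroup M] (B : Type u) [CommRing B]
  [Algebra R B]

/-- the structure map of `Spec B`. -/
abbrev fB : Spec (CommRingCat.of B) ⟶ Spec (CommRingCat.of R) :=
  Spec.map (CommRingCat.ofHom (algebraMap R B))

variable {R M B}

/-- the algebra map attached to a dual-number point of `D(M)`, as in the statement. -/
def Phi (v : dpt B (fB R B) ⟶ Red.diag R M) :
    MonoidAlgebra R (Multiplicative M) →ₐ[R] DualNumber B :=
  (Spec.mapMulEquiv.symm ((dptIso B).inv ≫ v)).ofConv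

/-- the underlying scheme morphism of a dual-number point. -/
abbrev lft (v : dpt B (fB R B) ⟶ Red.diag R M) :
    Spec (CommRingCat.of (DualNumber B)) ⟶
      Spec (CommRingCat.of (MonoidAlgebra R (Multiplicative M))) := v.left

theorem Phi_apply (v : dpt B (fB R B) ⟶ Red.diag R M) (x : MonoidAlgebra R (Multiplicative M)) :
    Phi v x = (Spec.preimage (lft v)).hom x := by
  have h : ((dptIso B).inv ≫ v).left = lft v := by
    change 𝟙 _ ≫ lft v = lft v
    exact Category.id_comp _
  change (Spec.preimage ((dptIso B).inv ≫ v).left).hom x = _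
  rw [h]

/-- the character of a dual-number point. -/
def chiD (v : dpt B (fB R B) ⟶ Red.diag R M) : Multiplicative M →* DualNumber B :=
  chi (C := DualNumber B)
    (s := Spec.map (CommRingCat.ofHom (algebraMap B (DualNumber B))) ≫ fB R B) v

theorem Phi_single (v : dpt B (fB R B) ⟶ Red.diag R M) (g : Multiplicative M) :
    Phi v (MonoidAlgebra.single g 1) = chiD v g := by
  rw [Phi_apply]
  exact (chi_eq_preimage (C := DualNumber B)
    (s := Spec.map (CommRingCat.ofHom (algebraMap B (DualNumber B))) ≫ fB R B) v g).symm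

theorem chiD_mul (v w : dpt B (fB R B) ⟶ Red.diag R M) (g : Multiplicative M) :
    chiD (v * w) g = chiD v g * chiD w g :=
  chi_mul (C := DualNumber B)
    (s := Spec.map (CommRingCat.ofHom (algebraMap B (DualNumber B))) ≫ fB R B) v w g

theorem chiD_scale (b : B) (v : dpt B (fB R B) ⟶ Red.diag R M) (g : Multiplicative M) :
    chiD (scale B (fB R B) b ≫ v) g = scaleHom b (chiD v g) :=
  chi_comp (C := DualNumber B) (C' := DualNumber B)
    (s := Spec.map (CommRingCat.ofHom (algebraMap B (DualNumber B))) ≫ fB R B)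
    (s' := Spec.map (CommRingCat.ofHom (algebraMap B (DualNumber B))) ≫ fB R B)
    (scaleHom b) (scale B (fB R B) b) rfl v g

theorem chi_zeroSec (v : dpt B (fB R B) ⟶ Red.diag R M) (g : Multiplicative M) :
    chi (C := B) (s := fB R B) (zeroSec B (fB R B) ≫ v) g = TrivSqZeroExt.fst (chiD v g) :=
  chi_comp (C := DualNumber B) (C' := B)
    (s := Spec.map (CommRingCat.ofHom (algebraMap B (DualNumber B))) ≫ fB R B)
    (s' := fB R B)
    (TrivSqZeroExt.fstHom B B B).toRingHom (zeroSec B (fB R B)) rfl v g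

theorem mem_iff (v : dpt B (fB R B) ⟶ Red.diag R M) :
    v ∈ LieR (Red.diag R M) B ↔ ∀ g, TrivSqZeroExt.fst (chiD v g) = 1 := by
  rw [mem_Lie_iff]
  constructor
  · intro h g
    rw [← chi_zeroSec, h]
    exact chi_one (C := B) (s := fB R B) g
  · intro h
    refine chi_injective (C := B) (s := fB R B) _ _ (fun g => ?_)
    rw [chi_zeroSec, h g]
    exact (chi_one (C := B) (s := fB R B) g).symm

/-- the additive map attached to an element of the Lie algebra. -/
def aHom (v : LieR (Red.diag R M) B) : M →+ B where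
  toFun m := TrivSqZeroExt.snd (chiD v.1 (Multiplicative.ofAdd m))
  map_zero' := by
    rw [ofAdd_zero, map_one]
    simp
  map_add' m m' := by
    rw [ofAdd_add, map_mul, TrivSqZeroExt.snd_mul, (mem_iff v.1).mp v.2, (mem_iff v.1).mp v.2]
    simp [add_comm]

theorem aHom_apply (v : LieR (Red.diag R M) B) (m : M) :
    aHom v m = TrivSqZeroExt.snd (chiD v.1 (Multiplicative.ofAdd m)) := rfl

/-- the character `m ↦ 1 + a(m) ε`. -/
def unitHom (a : M →+ B) : Multiplicative M →* DualNumber B where
  toFun g := TrivSqZeroExt.inl 1 + TrivSqZeroExt.inr (a (Multiplicative.toAdd g))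
  map_one' := by simp
  map_mul' g g' := by
    apply TrivSqZeroExt.ext
    · simp
    · simp [add_comm]

theorem exists_point (a : M →+ B) :
    ∃ v : dpt B (fB R B) ⟶ Red.diag R M, ∀ g, chiD v g = unitHom a g :=
  chi_surjective (C := DualNumber B)
    (s := Spec.map (CommRingCat.ofHom (algebraMap B (DualNumber B))) ≫ fB R B) (unitHom a)

/-- the point with character `m ↦ 1 + a(m) ε`. -/
def ptOf (a : M →+ B) : dpt B (fB R B) ⟶ Red.diag R M := (exists_point (R := R) a).choose

theorem chiD_ptOf (a : M →+ B) (g : Multiplicative M) :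
    chiD (ptOf (R := R) a) g = unitHom a g := (exists_point (R := R) a).choose_spec g

theorem ptOf_mem (a : M →+ B) : ptOf (R := R) a ∈ LieR (Red.diag R M) B := by
  rw [mem_iff]
  intro g
  rw [chiD_ptOf]
  simp [unitHom]

theorem aHom_mul (v w : LieR (Red.diag R M) B) : aHom (v * w) = aHom v + aHom w := by
  refine AddMonoidHom.ext fun m => ?_
  rw [AddMonoidHom.add_apply, aHom_apply, aHom_apply, aHom_apply]
  have : (v * w).1 = v.1 * w.1 := rfl
  rw [this, chiD_mul, TrivSqZeroExt.snd_mul, (mem_iff v.1).mp v.2, (mem_iff w.1).mp w.2]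
  simp [add_comm]

theorem chiD_injective (v w : dpt B (fB R B) ⟶ Red.diag R M) (h : ∀ g, chiD v g = chiD w g) :
    v = w :=
  chi_injective (C := DualNumber B)
    (s := Spec.map (CommRingCat.ofHom (algebraMap B (DualNumber B))) ≫ fB R B) v w h

/-- `Lie(D(M))(B) ≃* Hom(M, B)`. -/
def e : LieR (Red.diag R M) B ≃* Multiplicative (M →+ B) where
  toFun v := Multiplicative.ofAdd (aHom v)
  invFun a := ⟨ptOf (Multiplicative.toAdd a), ptOf_mem _⟩
  left_inv v := by
    apply Subtype.ext
    apply chiD_injective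
    intro g
    change chiD (ptOf (aHom v)) g = chiD v.1 g
    rw [chiD_ptOf]
    apply TrivSqZeroExt.ext
    · simp [unitHom, (mem_iff v.1).mp v.2]
    · simp [unitHom, aHom_apply]
  right_inv a := by
    apply Multiplicative.toAdd.injective
    refine AddMonoidHom.ext fun m => ?_
    change aHom ⟨ptOf (Multiplicative.toAdd a), ptOf_mem _⟩ m = Multiplicative.toAdd a m
    rw [aHom_apply, chiD_ptOf]
    simp [unitHom]
  map_mul' v w := by
    change Multiplicative.ofAdd (aHom (v * w)) = _
    rw [aHom_mul]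
    rfl

theorem main :
    ∃ e : LieS.LieR (Red.diag R M) B ≃* Multiplicative (M →+ B),
      (∀ (v : LieS.LieR (Red.diag R M) B) (m : M),
        Multiplicative.toAdd (e v) m =
          TrivSqZeroExt.snd (((Spec.mapMulEquiv.symm ((LieS.dptIso B).inv ≫ v.1)).ofConv :
            MonoidAlgebra R (Multiplicative M) →ₐ[R] DualNumber B)
            (MonoidAlgebra.single (Multiplicative.ofAdd m) 1))) ∧
      ∀ (b : B) (v : LieS.LieR (Red.diag R M) B),
        e (b • v) = Multiplicative.ofAdd (b • Multiplicative.toAdd (e v)) := by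
  refine ⟨e, fun v m => ?_, fun b v => ?_⟩
  · change aHom v m = TrivSqZeroExt.snd (Phi v.1 (MonoidAlgebra.single (Multiplicative.ofAdd m) 1))
    rw [Phi_single, aHom_apply]
  · change Multiplicative.ofAdd (aHom (b • v)) = Multiplicative.ofAdd (b • aHom v)
    congr 1
    refine AddMonoidHom.ext fun m => ?_
    rw [aHom_apply, smul_val, chiD_scale]
    change _ = b • aHom v m
    rw [aHom_apply]
    simp [scaleHom, TrivSqZeroExt.algebraMap_eq_inl', mul_comm]

end Lie

end

end Groth.Agent.H3.LieDiag
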