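import Mathlib
import Groth.Agent.Lib.Helper3.IrrCompBC

set_option autoImplicit false

universe u

open AlgebraicGeometry CategoryTheory CategoryTheory.Limits TopologicalSpace

namespace Groth.Agent.H3.LocIntDesc

open Groth.Agent.H3.IrrCompBC

/-- the local rings of the target of a flat surjective morphism embed in local rings of the source -/
lemma isDomain_stalk_of_flat_surjective {X Y : Scheme.{u}} (f : X ⟶ Y) [Flat f] [Surjective f]
    (hX : ∀ x : X, IsDomain ↑(X.presheaf.stalk x)) (y : Y) : IsDomain ↑(Y.presheaf.stalk y) := by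
  obtain ⟨x, rfl⟩ := f.surjective y
  have hfl : (f.stalkMap x).hom.Flat := Flat.stalkMap f x
  letI : Algebra (Y.presheaf.stalk (f x)) (X.presheaf.stalk x) := (f.stalkMap x).hom.toAlgebra
  haveI : Module.Flat (Y.presheaf.stalk (f x)) (X.presheaf.stalk x) := hfl
  haveI : IsLocalHom (algebraMap (Y.presheaf.stalk (f x)) (X.presheaf.stalk x)) :=
    inferInstanceAs (IsLocalHom (f.stalkMap x).hom)
  haveI := Module.FaithfullyFlat.of_flat_of_isLocalHom (A := Y.presheaf.stalk (f x))
    (B := X.presheaf.stalk x)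
  have hinj : Function.Injective (algebraMap (Y.presheaf.stalk (f x)) (X.presheaf.stalk x)) :=
    FaithfulSMul.algebraMap_injective _ _
  haveI := hX x
  exact hinj.isDomain

theorem exists_isIntegral_nhd {W : Scheme.{u}} [NoetherianSpace ↥W]
    (hW : ∀ x : W, IsDomain ↑(W.presheaf.stalk x)) (w : W) :
    ∃ V : W.Opens, w ∈ V ∧ IsIntegral (V : Scheme.{u}) := by
  haveI := hW w
  let bot : PrimeSpectrum (W.presheaf.stalk w) := ⟨⊥, Ideal.isPrime_bot⟩
  let ζ : W := W.fromSpecStalk w bot
  have hζw : ζ ⤳ w := by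
    have : ζ ∈ Set.range (W.fromSpecStalk w) := ⟨bot, rfl⟩
    rwa [Scheme.range_fromSpecStalk] at this
  have hζ : ∀ t : W, t ⤳ w → ζ ⤳ t := by
    intro t ht
    obtain ⟨p, rfl⟩ : t ∈ Set.range (W.fromSpecStalk w) := by
      rw [Scheme.range_fromSpecStalk]; exact ht
    apply Specializes.map _ (W.fromSpecStalk w).continuous
    exact (PrimeSpectrum.le_iff_specializes bot p).1 (bot_le (a := p.asIdeal))
  have hζgen : ζ ∈ genericPoints ↥W := by
    rw [mem_genericPoints_iff]
    intro t ht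
    exact (ht.antisymm (hζ t (ht.trans hζw))).eq
  let C : Set W := closure {ζ}
  have hC : C ∈ irreducibleComponents ↥W := hζgen
  have huniq : ∀ C' ∈ irreducibleComponents ↥W, w ∈ C' → C' = C := by
    intro C' hC' hw
    obtain ⟨η, hη⟩ := QuasiSober.sober hC'.1 (isClosed_of_mem_irreducibleComponents C' hC')
    have hηgen : η ∈ genericPoints ↥W := by
      show closure {η} ∈ irreducibleComponents ↥W
      rw [hη.def]; exact hC'
    rw [mem_genericPoints_iff] at hηgen
    have hηw : η ⤳ w := by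
      rw [specializes_iff_mem_closure, hη.def]; exact hw
    have := hηgen ζ (hζ η hηw)
    rw [← hη.def, ← this]
  let D : Set W := ⋃ Z ∈ (irreducibleComponents ↥W \ {C}), Z
  have hD : IsClosed D :=
    NoetherianSpace.finite_irreducibleComponents.sdiff.isClosed_biUnion
      fun Z hZ => isClosed_of_mem_irreducibleComponents Z hZ.1
  have hwD : w ∉ D := by
    simp only [D, Set.mem_iUnion]
    rintro ⟨Z, ⟨hZ, hZC⟩, hwZ⟩
    exact hZC (huniq Z hZ hwZ)
  let V : W.Opens := ⟨Dᶜ, hD.isOpen_compl⟩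
  have hVC : (V : Set W) ⊆ C := by
    intro v hv
    by_contra hvC
    apply hv
    have hmem := irreducibleComponent_mem_irreducibleComponents v
    refine Set.mem_biUnion (x := irreducibleComponent v) ⟨hmem, ?_⟩ mem_irreducibleComponent
    intro h
    rw [Set.mem_singleton_iff] at h
    exact hvC (h ▸ mem_irreducibleComponent)
  have hVirr : IsIrreducible (V : Set W) :=
    ⟨⟨w, hwD⟩, hC.1.isPreirreducible.open_subset V.2 hVC⟩
  haveI : IrreducibleSpace ↥(V : Scheme.{u}) := Subtype.irreducibleSpace hVirr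
  haveI : IsReduced W := by
    haveI : ∀ x : W, _root_.IsReduced (W.presheaf.stalk x) := fun x => by
      haveI := hW x; infer_instance
    exact isReduced_of_isReduced_stalk W
  exact ⟨V, hwD, (isIntegral_iff_irreducibleSpace_and_isReduced _).2 ⟨‹_›, inferInstance⟩⟩

theorem main {X Y : Scheme.{u}} (f : X ⟶ Y) [Flat f] [Surjective f]
    (hX : ∀ x : X, IsDomain ↑(X.presheaf.stalk x))
    (hY : ∀ y : Y, ∃ U : Y.Opens, y ∈ U ∧ TopologicalSpace.NoetherianSpace ↥U) (y : Y) :
    ∃ U : Y.Opens, y ∈ U ∧ IsIntegral (U : Scheme.{u}) := by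
  obtain ⟨U, hyU, hU⟩ := hY y
  have hYd := isDomain_stalk_of_flat_surjective f hX
  haveI : NoetherianSpace ↥(U : Scheme.{u}) := hU
  have hUd : ∀ x : (U : Scheme.{u}), IsDomain ↑((U : Scheme.{u}).presheaf.stalk x) := by
    intro x
    haveI := hYd (U.ι x)
    exact (asIso (U.ι.stalkMap x)).symm.commRingCatIsoToRingEquiv.toMulEquiv.isDomain _
  obtain ⟨V, hV, hVint⟩ := exists_isIntegral_nhd hUd ⟨y, hyU⟩
  refine ⟨U.ι ''ᵁ V, ⟨⟨y, hyU⟩, hV, rfl⟩, ?_⟩
  exact IsIntegral.of_isIso (U.ι.isoImage V).hom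

end Groth.Agent.H3.LocIntDesc
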