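import Mathlib
import Groth.Agent.Lib.Helper2.AlgClosedGeom

/-! Locally trivial fibrations with irreducible fibre over an irreducible base, over an
algebraically closed field, have irreducible total space (helper3). -/

set_option autoImplicit false
universe u
open CategoryTheory CategoryTheory.Limits AlgebraicGeometry TopologicalSpace Topology

namespace Groth.Agent.H3.LocTriv

/-- a space covered by pairwise meeting irreducible open subsets is irreducible. -/
theorem irreducibleSpace_of_open_cover {X : Type*} [TopologicalSpace X] [Nonempty X]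
    (U : X → Set X) (hU : ∀ x, IsOpen (U x)) (hx : ∀ x, x ∈ U x)
    (hirr : ∀ x, IsIrreducible (U x)) (hmeet : ∀ x y, (U x ∩ U y).Nonempty) :
    IrreducibleSpace X := by
  have : PreirreducibleSpace X := by
    constructor
    rintro A B hA hB ⟨a, -, haA⟩ ⟨b, -, hbB⟩
    obtain ⟨z, hzUa, hzA, hzUb⟩ := (hirr a).isPreirreducible A (U b) hA (hU b)
      ⟨a, hx a, haA⟩ (hmeet a b)
    obtain ⟨w, -, hwA, hwB⟩ := (hirr b).isPreirreducible A B hA hB ⟨z, hzUb, hzA⟩
      ⟨b, hx b, hbB⟩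
    exact ⟨w, trivial, hwA, hwB⟩
  exact ⟨inferInstance⟩

theorem main (k : Type u) [Field k] [IsAlgClosed k]
    {X Y F : Scheme.{u}} (qY : Y ⟶ Spec (CommRingCat.of k))
    (qF : F ⟶ Spec (CommRingCat.of k)) [IrreducibleSpace ↥F] [IrreducibleSpace ↥Y]
    (f : X ⟶ Y)
    (htriv : ∀ y : ↥Y, ∃ V : Y.Opens, y ∈ V ∧
      ∃ e : (↑(f ⁻¹ᵁ V) : Scheme.{u}) ≅ pullback (V.ι ≫ qY) qF,
        e.hom ≫ pullback.fst (V.ι ≫ qY) qF = f ∣_ V) :
    IrreducibleSpace ↥X := by
  have hGI : GeometricallyIrreducible qF := Groth.Agent.H2.geometricallyIrreducible_of_isAlgClosed qF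
  have hUO : UniversallyOpen qF := inferInstance
  choose V hyV e he using htriv
  -- each `f⁻¹ V` is irreducible and surjects onto `V`
  have hVirr : ∀ y, IrreducibleSpace ↥((V y : Y.Opens) : Scheme.{u}) := fun y =>
    have : Nonempty ↥((V y : Y.Opens) : Scheme.{u}) := ⟨⟨y, hyV y⟩⟩
    (V y).ι.isOpenEmbedding.irreducibleSpace
  have hPirr : ∀ y, IsIrreducible ((f ⁻¹ᵁ V y : X.Opens) : Set X) := by
    intro y
    have := hVirr y
    have h1 : IrreducibleSpace ↥(pullback ((V y).ι ≫ qY) qF) := inferInstance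
    have h2 : IrreducibleSpace ↥((f ⁻¹ᵁ V y : X.Opens) : Scheme.{u}) :=
      (e y).hom.homeomorph.irreducibleSpace_iff.mpr h1
    rw [← Scheme.Opens.range_ι, ← Set.image_univ]
    exact (IrreducibleSpace.isIrreducible_univ _).image _ (Scheme.Hom.continuous _).continuousOn
  have hsurj : ∀ y, ∀ v ∈ V y, ∃ x : X, f x = v := by
    intro y v hv
    obtain ⟨p, hp⟩ := (pullback.fst ((V y).ι ≫ qY) qF).surjective ⟨v, hv⟩
    refine ⟨(f ⁻¹ᵁ V y).ι ((e y).inv p), ?_⟩
    have h1 : (f ∣_ V y) ((e y).inv p) = ⟨v, hv⟩ := by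
      rw [← he y, Scheme.Hom.comp_apply, Scheme.inv_hom_apply, hp]
    have h2 : ((f ⁻¹ᵁ V y).ι ≫ f) ((e y).inv p) = ((f ∣_ V y) ≫ (V y).ι) ((e y).inv p) := by
      rw [morphismRestrict_ι]
    rw [Scheme.Hom.comp_apply, Scheme.Hom.comp_apply, h1] at h2
    exact h2
  have hne : Nonempty X := by
    obtain ⟨y⟩ : Nonempty Y := inferInstance
    obtain ⟨x, -⟩ := hsurj y y (hyV y)
    exact ⟨x⟩
  refine irreducibleSpace_of_open_cover (fun x => ((f ⁻¹ᵁ V (f x) : X.Opens) : Set X))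
    (fun x => (f ⁻¹ᵁ V (f x)).isOpen) (fun x => hyV (f x)) (fun x => hPirr (f x)) ?_
  intro x₁ x₂
  obtain ⟨v, hv₁, hv₂⟩ := nonempty_preirreducible_inter (V (f x₁)).isOpen (V (f x₂)).isOpen
    ⟨_, hyV (f x₁)⟩ ⟨_, hyV (f x₂)⟩
  obtain ⟨x, hx⟩ := hsurj _ v hv₁
  refine ⟨x, ?_, ?_⟩
  · change f x ∈ V (f x₁)
    rw [hx]; exact hv₁
  · change f x ∈ V (f x₂)
    rw [hx]; exact hv₂

end Groth.Agent.H3.LocTriv
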