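import Mathlib
import Groth.Agent.Lib.Helper3.ImgSmooth2
import Groth.Agent.Lib.Helper3.DiscSep
import Groth.Agent.Lib.Helper3.TopDim
import Groth.Agent.Lib.Helper1.GrpEquidim
import Groth.Agent.Lib.Helper9.Misc.TOR4

/-!
# The largest abelian subvariety of a commutative group scheme over a field (helper3)
-/

set_option autoImplicit false

open CategoryTheory CategoryTheory.Limits AlgebraicGeometry MonoidalCategory
  CartesianMonoidalCategory MonObj

universe u

namespace Groth.Agent.H3.MaxAbSub

lemma exists_nat_eq (x : WithBot ℕ∞) (N : ℕ) (h0 : 0 ≤ x) (hN : x ≤ (N : WithBot ℕ∞)) :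
    ∃ d : ℕ, x = (d : WithBot ℕ∞) := by
  induction x using WithBot.recBotCoe with
  | bot => exact absurd h0 (not_le.mpr (WithBot.bot_lt_coe (0 : ℕ∞)))
  | coe a =>
    have h1 : a ≤ (N : ℕ∞) := by exact_mod_cast hN
    obtain ⟨d, rfl⟩ := ENat.ne_top_iff_exists.mp (ne_top_of_le_ne_top (ENat.natCast_ne_top N) h1)
    exact ⟨d, rfl⟩

/-- a closed immersion into an irreducible scheme of finite dimension, from a scheme of at least
the same dimension, is surjective -/
theorem surjective_of_dim_le {X Y : Scheme.{u}} (j : X ⟶ Y) [IsClosedImmersion j]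
    [IrreducibleSpace Y] (hfin : topologicalKrullDim Y ≠ ⊤)
    (hdim : topologicalKrullDim Y ≤ topologicalKrullDim X) : Function.Surjective j := by
  rw [← Set.range_eq_univ]
  by_contra hne
  have h1 := Groth.Agent.H3.TopDim.dim_lt_of_isClosed_ne_univ hfin (Set.range j)
    j.isClosedEmbedding.isClosed_range hne
  have h2 : topologicalKrullDim X ≤ topologicalKrullDim ↥(Set.range j) := by
    have hind : Topology.IsInducing (Set.codRestrict j (Set.range j) (fun x => ⟨x, rfl⟩)) :=
      j.isEmbedding.isInducing.codRestrict _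
    exact hind.topologicalKrullDim_le
  exact absurd (lt_of_le_of_lt (hdim.trans h2) h1) (lt_irrefl _)

variable (k : Type u) [Field k]

/-- a group scheme locally of finite type over a field has finite dimension -/
theorem exists_nat_dim_le (G : Over (Spec (CommRingCat.of k))) [GrpObj G]
    [LocallyOfFiniteType G.hom] : ∃ N : ℕ, topologicalKrullDim G.left ≤ (N : WithBot ℕ∞) := by
  obtain ⟨e, he⟩ : ∃ e, e = η[G].left (IsLocalRing.closedPoint k) := ⟨_, rfl⟩
  have hXn : IsLocallyNoetherian G.left := LocallyOfFiniteType.isLocallyNoetherian G.hom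
  have hcl : IsClosed ({e} : Set G.left) := by
    have hci : IsClosedImmersion η[G].left :=
      isClosedImmersion_of_comp_eq_id G.hom η[G].left (Over.w η[G])
    have hr : Set.range η[G].left = {e} := by
      ext y
      constructor
      · rintro ⟨s, rfl⟩
        rw [he]
        have : s = IsLocalRing.closedPoint k :=
          Subsingleton.elim (α := ↥(Spec (CommRingCat.of k))) _ _
        rw [this]
        rfl
      · intro hy
        rw [Set.mem_singleton_iff] at hy
        rw [hy, he]
        exact ⟨_, rfl⟩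
    rw [← hr]
    exact η[G].left.isClosedEmbedding.isClosed_range
  have hdim : ringKrullDim (G.left.presheaf.stalk e) = topologicalKrullDim G.left :=
    Groth.Agent.H1.GrpEquidim.s0354 k G e hcl
  have hN : IsNoetherianRing (G.left.presheaf.stalk e) := inferInstance
  have hle := ringKrullDim_le_spanFinrank_maximalIdeal (G.left.presheaf.stalk e)
  exact ⟨_, hdim ▸ hle⟩

/-- **The largest abelian subvariety.** -/
theorem main (G : Over (Spec (CommRingCat.of k))) [GrpObj G] [IsCommMonObj G]
    [LocallyOfFiniteType G.hom] :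
    ∃ (M : Over (Spec (CommRingCat.of k))) (_ : GrpObj M) (i : M ⟶ G), IsMonHom i ∧
      IsClosedImmersion i.left ∧ IsProper M.hom ∧ GeometricallyIntegral M.hom ∧
      ∀ (A : Over (Spec (CommRingCat.of k))) [GrpObj A] [IsProper A.hom]
        [GeometricallyReduced A.hom] [ConnectedSpace ↥A.left]
        (φ : A ⟶ G), IsMonHom φ → ∃ ψ : A ⟶ M, ψ ≫ i = φ := by
  obtain ⟨N, hN⟩ := exists_nat_dim_le k G
  obtain ⟨D, hD⟩ : ∃ D : Set ℕ, D = {d : ℕ | ∃ (M : Over (Spec (CommRingCat.of k))) (_ : GrpObj M)
      (i : M ⟶ G), IsMonHom i ∧ IsClosedImmersion i.left ∧ IsProper M.hom ∧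
      GeometricallyIntegral M.hom ∧ topologicalKrullDim M.left = (d : WithBot ℕ∞)} := ⟨_, rfl⟩
  have hbdd : BddAbove D := by
    refine ⟨N, ?_⟩
    intro d hd
    rw [hD] at hd
    obtain ⟨M, _, i, -, hci, -, -, hdim⟩ := hd
    have h1 : topologicalKrullDim M.left ≤ topologicalKrullDim G.left :=
      i.left.isEmbedding.isInducing.topologicalKrullDim_le
    rw [hdim] at h1
    exact_mod_cast h1.trans hN
  have hne : D.Nonempty := by
    refine ⟨0, ?_⟩
    rw [hD]
    refine ⟨𝟙_ _, inferInstance, η[G], inferInstance, ?_, ?_, ?_, ?_⟩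
    · exact isClosedImmersion_of_comp_eq_id G.hom η[G].left (Over.w η[G])
    · exact inferInstanceAs (IsProper (𝟙 (Spec (CommRingCat.of k))))
    · refine ⟨fun K _ y Z fst snd h => ?_⟩
      haveI : IsIso (𝟙_ (Over (Spec (CommRingCat.of k)))).hom :=
        inferInstanceAs (IsIso (𝟙 (Spec (CommRingCat.of k))))
      haveI : IsIso snd := h.isIso_snd_of_isIso
      haveI : Nonempty Z := ⟨(inv snd) (IsLocalRing.closedPoint K)⟩
      exact isIntegral_of_isOpenImmersion snd
    · have : (𝟙_ (Over (Spec (CommRingCat.of k)))).left = Spec (CommRingCat.of k) := rfl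
      rw [this]
      rw [Nat.cast_zero]
      exact le_antisymm (topologicalKrullDim_zero_of_discreteTopology _)
        Groth.Agent.H3.TopDim.dim_nonneg
  have hmem := Nat.sSup_mem hne hbdd
  obtain ⟨d₀, hd₀⟩ : ∃ d₀, d₀ = sSup D := ⟨_, rfl⟩
  rw [← hd₀] at hmem
  have hmax : ∀ d ∈ D, d ≤ d₀ := fun d hd => hd₀ ▸ le_csSup hbdd hd
  rw [hD] at hmem
  obtain ⟨M, grpM, i, hi1, hi2, hi3, hi4, hdimM⟩ := hmem
  refine ⟨M, grpM, i, hi1, hi2, hi3, hi4, ?_⟩
  intro A _ _ _ _ φ hφ
  -- smoothness of `M` and `A`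
  haveI : GeometricallyReduced M.hom := inferInstance
  haveI : Smooth M.hom := by
    letI : GrpObj (Over.mk M.hom) := grpM
    exact AlgebraicGeometry.smooth_of_grpObj M.hom
  haveI : Smooth A.hom := by
    letI : GrpObj (Over.mk A.hom) := ‹GrpObj A›
    exact AlgebraicGeometry.smooth_of_grpObj A.hom
  haveI : Smooth (M ⊗ A).hom := by
    rw [Over.tensorObj_hom]
    infer_instance
  haveI : IsProper (M ⊗ A).hom := by
    rw [Over.tensorObj_hom]
    infer_instance
  -- connectedness of the product
  haveI : IsIntegral M.left := GeometricallyIntegral.isIntegral_of_subsingleton M.hom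
  haveI : GeometricallyIrreducible A.hom :=
    Groth.Agent.H9.TOR.geometricallyIrreducible_of_connected A
  haveI : GeometricallyConnected A.hom :=
    Groth.Agent.H9.TOR.geometricallyConnected_of_geometricallyIrreducible A.hom
  haveI : ConnectedSpace (M ⊗ A).left :=
    inferInstanceAs (ConnectedSpace ↥(pullback M.hom A.hom))
  -- the sum homomorphism
  obtain ⟨ψ, hψ⟩ : ∃ ψ : M ⊗ A ⟶ G, ψ = lift (fst M A ≫ i) (snd M A ≫ φ) ≫ μ[G] := ⟨_, rfl⟩
  haveI : IsMonHom ψ := by rw [hψ]; infer_instance
  haveI : IsSeparated G.hom := Groth.Agent.H3.DiscSep.main _ G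
  haveI : IsProper ψ.left := by
    haveI : IsProper (ψ.left ≫ G.hom) := by rw [Over.w ψ]; infer_instance
    exact IsProper.of_comp ψ.left G.hom
  have hcl : IsClosed (Set.range ψ.left) := ψ.left.isClosedMap.isClosed_range
  obtain ⟨Ho, grpH, io, go, hio, hcio, hgo, hsurj, hsm, hredH⟩ :=
    Groth.Agent.H3.ImgSmooth.exists_image_subgroup k (M ⊗ A) G ψ hcl
  -- `Ho` is an abelian subvariety
  haveI : ConnectedSpace Ho.left := hsurj.connectedSpace go.left.continuous
  haveI : IsSeparated Ho.hom := by rw [← Over.w io]; infer_instance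
  haveI : LocallyOfFiniteType Ho.hom := by rw [← Over.w io]; infer_instance
  haveI : UniversallyClosed Ho.hom := by
    haveI : UniversallyClosed (go.left ≫ Ho.hom) := by rw [Over.w go]; infer_instance
    haveI : Surjective go.left := ⟨hsurj⟩
    exact UniversallyClosed.of_comp_surjective go.left Ho.hom
  have hHproper : IsProper Ho.hom := {}
  have hHgi : GeometricallyIntegral Ho.hom := by
    haveI : GeometricallyIrreducible Ho.hom :=
      Groth.Agent.H9.TOR.geometricallyIrreducible_of_connected Ho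
    haveI : GeometricallyReduced Ho.hom := by
      letI : Ho.left.Over (Spec (CommRingCat.of k)) := ⟨Ho.hom⟩
      haveI : Smooth (Ho.left ↘ Spec (CommRingCat.of k)) := hsm
      exact (Groth.Agent.H1.SmoothGeom.s1628 k Ho.left).1
    exact GeometricallyIntegral.of_geometricallyReduced_of_geometricallyIrreducible Ho.hom
  -- dimension of `Ho`
  obtain ⟨N', hN'⟩ := exists_nat_dim_le k Ho
  haveI : Nonempty Ho.left := ⟨η[Ho].left (IsLocalRing.closedPoint k)⟩
  obtain ⟨d', hd'⟩ := exists_nat_eq (topologicalKrullDim Ho.left) N'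
    Groth.Agent.H3.TopDim.dim_nonneg hN'
  have hd'D : d' ∈ D := by
    rw [hD]
    exact ⟨Ho, grpH, io, hio, hcio, hHproper, hHgi, hd'⟩
  have hle : d' ≤ d₀ := hmax d' hd'D
  -- the inclusions of `M` and `A` into `Ho`
  obtain ⟨j, hj⟩ : ∃ j : M ⟶ Ho, j = lift (𝟙 M) (toUnit M ≫ η[A]) ≫ go := ⟨_, rfl⟩
  have hjio : j ≫ io = i := by
    rw [hj, Category.assoc, hgo, hψ, comp_lift_assoc, lift_fst_assoc, lift_snd_assoc,
      Category.id_comp, Category.assoc, IsMonHom.one_hom, lift_comp_one_right]
  obtain ⟨jA, hjA⟩ : ∃ jA : A ⟶ Ho, jA = lift (toUnit A ≫ η[M]) (𝟙 A) ≫ go := ⟨_, rfl⟩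
  have hjAio : jA ≫ io = φ := by
    rw [hjA, Category.assoc, hgo, hψ, comp_lift_assoc, lift_fst_assoc, lift_snd_assoc,
      Category.id_comp, Category.assoc, IsMonHom.one_hom, lift_comp_one_left]
  haveI : IsClosedImmersion j.left := by
    haveI : IsClosedImmersion (j.left ≫ io.left) := by
      rw [← Over.comp_left, hjio]
      exact hi2
    exact IsClosedImmersion.of_comp j.left io.left
  haveI : IrreducibleSpace Ho.left := Groth.Agent.H9.GZB.S0348_main Ho
  have hsurjj : Function.Surjective j.left := by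
    apply surjective_of_dim_le j.left
    · rw [hd']
      intro htop
      have h2 : ((d' : ℕ∞) : WithBot ℕ∞) = ((⊤ : ℕ∞) : WithBot ℕ∞) := htop
      exact ENat.natCast_ne_top d' (WithBot.coe_injective h2)
    · rw [hd', hdimM]
      exact_mod_cast hle
  haveI : Surjective j.left := ⟨hsurjj⟩
  haveI : IsIso j.left := isIso_of_isClosedImmersion_of_surjective j.left
  haveI : IsIso ((Over.forget (Spec (CommRingCat.of k))).map j) :=
    inferInstanceAs (IsIso j.left)
  haveI : IsIso j := isIso_of_reflects_iso j (Over.forget _)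
  refine ⟨jA ≫ inv j, ?_⟩
  rw [← hjio, Category.assoc, IsIso.inv_hom_id_assoc, hjAio]

end Groth.Agent.H3.MaxAbSub
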