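import Mathlib
import Groth.Agent.Lib.Helper3.RelDense
import Groth.Agent.Lib.Helper3.GrpQuot1
import Groth.Agent.Lib.Helper3.WeilExt

/-!
# The largest open on which a homomorphism is universally open is an open subgroup
-/

set_option autoImplicit false

open CategoryTheory Limits AlgebraicGeometry MonoidalCategory CartesianMonoidalCategory MonObj

universe u

namespace Groth.Agent.H3.MaxOpenUO

open Groth.Agent.H3.RelDense

lemma univOpen_of_comp_surjective {X Y Z : Scheme.{u}} (f : X ⟶ Y) (g : Y ⟶ Z)
    [UniversallyOpen (f ≫ g)] [Surjective f] : UniversallyOpen g := by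
  constructor
  intro X' Y' i₁ i₂ f' H
  have := UniversallyOpen.universally_isOpenMap _ _ _
    ((IsPullback.of_hasPullback i₁ f).paste_horiz H)
  exact IsOpenMap.of_comp (Scheme.Hom.continuous _)
    (MorphismProperty.pullback_fst (P := @Surjective) _ _ ‹_›).1 this

variable {S : Scheme.{u}}

/-- whiskering preserves universally open morphisms -/
lemma univOpen_whiskerLeft (Z : Over S) {A B : Over S} (f : A ⟶ B) [UniversallyOpen f.left] :
    UniversallyOpen (Z ◁ f).left := by
  have sq := (Groth.Agent.H3.GrpQuot.isPullback_whiskerLeft Z f).map (Over.forget S)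
  exact MorphismProperty.of_isPullback (P := @UniversallyOpen) sq.flip ‹_›

/-- the shear automorphism of `X × K` attached to a point `a : X ⟶ K` -/
noncomputable def shearIso {X K : Over S} [GrpObj K] (a : X ⟶ K) : X ⊗ K ≅ X ⊗ K where
  hom := lift (fst X K) ((fst X K ≫ a) * snd X K)
  inv := lift (fst X K) ((fst X K ≫ a)⁻¹ * snd X K)
  hom_inv_id := by
    apply CartesianMonoidalCategory.hom_ext
    · simp
    · rw [Category.assoc, lift_snd, MonObj.comp_mul, GrpObj.comp_inv, ← Category.assoc,
        lift_fst, lift_snd, inv_mul_cancel_left, Category.id_comp]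
  inv_hom_id := by
    apply CartesianMonoidalCategory.hom_ext
    · simp
    · rw [Category.assoc, lift_snd, MonObj.comp_mul, ← Category.assoc,
        lift_fst, lift_snd, mul_inv_cancel_left, Category.id_comp]

/-- `(x, k) ↦ a(x) k` is universally open when `X` is universally open over `S` -/
lemma univOpen_act {X K : Over S} [GrpObj K] (a : X ⟶ K) [UniversallyOpen X.hom] :
    UniversallyOpen ((fst X K ≫ a) * snd X K).left := by
  have e : (fst X K ≫ a) * snd X K = (shearIso a).hom ≫ snd X K := by
    simp [shearIso]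
  rw [e, Over.comp_left]
  have : IsIso (shearIso a).hom.left :=
    inferInstanceAs (IsIso ((Over.forget S).map (shearIso a).hom))
  have : UniversallyOpen (snd X K).left := by rw [Over.snd_left]; infer_instance
  infer_instance

variable {G H : Over S} [GrpObj G] [GrpObj H]

theorem main (u : G ⟶ H) [IsMonHom u]
    (hG : UniversallyOpen G.hom ∨ UniversallyOpen H.hom)
    (V : G.left.Opens) (hV : UniversallyOpen (V.ι ≫ u.left))
    (hmax : ∀ W : G.left.Opens, UniversallyOpen (W.ι ≫ u.left) → W ≤ V) :
    IsOpen (G.hom '' (V : Set G.left)) ∧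
    (∀ g ∈ V, ∀ p : ↥(𝟙_ (Over S)).left, (𝟙_ (Over S)).hom p = G.hom g → η[G].left p ∈ V) ∧
    (∀ g ∈ V, ι[G].left g ∈ V) ∧
    (∀ z : ↥(G ⊗ G).left, (fst G G).left z ∈ V → (snd G G).left z ∈ V → μ[G].left z ∈ V) := by
  -- `V` is universally open over `S`
  have hVS : UniversallyOpen (V.ι ≫ G.hom) := by
    rcases hG with hG | hH
    · infer_instance
    · have e : V.ι ≫ G.hom = (V.ι ≫ u.left) ≫ H.hom := by rw [Category.assoc, Over.w u]
      rw [e]; infer_instance
  -- inverse
  have hinv' : ∀ g : G.left, ι[G].left g ∈ V → g ∈ V := by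
    let W : G.left.Opens := ι[G].left ⁻¹ᵁ V
    have hW : UniversallyOpen (W.ι ≫ u.left) := by
      have h1 : ι[G] ≫ ι[G] ≫ u = u := by rw [← Category.assoc, GrpObj.inv_comp_inv, Category.id_comp]
      have h2 : ι[G] ≫ u = u ≫ ι[H] := GrpObj.inv_hom u
      have h3 : ι[G].left ≫ u.left ≫ ι[H].left = u.left := by
        have := congrArg (fun m => m.left) h1
        rw [h2] at this
        exact this
      have e : W.ι ≫ u.left = (ι[G].left ∣_ V) ≫ (V.ι ≫ u.left) ≫ ι[H].left := by
        rw [Category.assoc, morphismRestrict_ι_assoc, h3]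
      have : IsIso ι[H] := ⟨ι[H], GrpObj.inv_comp_inv H, GrpObj.inv_comp_inv H⟩
      have : IsIso ι[G] := ⟨ι[G], GrpObj.inv_comp_inv G, GrpObj.inv_comp_inv G⟩
      have : IsIso ι[H].left := inferInstanceAs (IsIso ((Over.forget S).map ι[H]))
      have : IsIso ι[G].left := inferInstanceAs (IsIso ((Over.forget S).map ι[G]))
      rw [e]; infer_instance
    intro g hg
    exact hmax W hW hg
  have hinv : ∀ g ∈ V, ι[G].left g ∈ V := by
    intro g hg
    apply hinv'
    have h1 : (ι[G] ≫ ι[G]).left g = g := by rw [GrpObj.inv_comp_inv]; rfl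
    rw [Over.comp_left, Scheme.Hom.comp_apply] at h1
    rw [h1]; exact hg
  -- product
  let VV : Over S := opn G V
  let jV : VV ⟶ G := opnι G V
  have hVV : UniversallyOpen VV.hom := hVS
  obtain ⟨m', hm'⟩ : ∃ m' : VV ⊗ VV ⟶ G, m' = (jV ⊗ₘ jV) ≫ μ[G] := ⟨_, rfl⟩
  have hm'1 : m' = (VV ◁ jV) ≫ ((fst VV G ≫ jV) * snd VV G) := by
    rw [hm', MonObj.comp_mul, ← Category.assoc, whiskerLeft_fst, whiskerLeft_snd]
    have := Groth.Agent.H3.WeilExt.comp_tensor_mul jV (𝟙 (VV ⊗ VV))
    rw [Category.id_comp, Category.id_comp, Category.id_comp] at this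
    exact this
  have hm'u : m' ≫ u = (VV ◁ (jV ≫ u)) ≫ ((fst VV H ≫ (jV ≫ u)) * snd VV H) := by
    rw [MonObj.comp_mul, ← Category.assoc, whiskerLeft_fst, whiskerLeft_snd, hm']
    have := Groth.Agent.H3.WeilExt.comp_tensor_mul jV (𝟙 (VV ⊗ VV))
    rw [Category.id_comp, Category.id_comp, Category.id_comp] at this
    rw [this, MonObj.mul_comp]
    simp only [Category.assoc]
  have hjV : UniversallyOpen jV.left := inferInstanceAs (UniversallyOpen V.ι)
  have hjVu : UniversallyOpen (jV ≫ u).left := hV
  have hm'o : UniversallyOpen m'.left := by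
    have := univOpen_whiskerLeft VV jV
    have := univOpen_act (K := G) jV
    rw [hm'1, Over.comp_left]; infer_instance
  have hm'uo : UniversallyOpen (m'.left ≫ u.left) := by
    have := univOpen_whiskerLeft VV (jV ≫ u)
    have := univOpen_act (K := H) (jV ≫ u)
    rw [← Over.comp_left, hm'u, Over.comp_left]; infer_instance
  let V' : G.left.Opens := ⟨Set.range m'.left, m'.left.isOpenMap.isOpen_range⟩
  have hV'V : V' ≤ V := by
    apply hmax
    have hr : Set.range m'.left ⊆ Set.range V'.ι := by
      rw [Scheme.Opens.range_ι]; exact subset_rfl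
    let m'' := IsOpenImmersion.lift V'.ι m'.left hr
    have hfac : m'' ≫ V'.ι = m'.left := IsOpenImmersion.lift_fac _ _ _
    have hsurj : Surjective m'' := by
      refine ⟨fun y => ?_⟩
      obtain ⟨x, hx⟩ : y.1 ∈ Set.range m'.left := y.2
      refine ⟨x, ?_⟩
      apply V'.ι.isOpenEmbedding.injective
      rw [← Scheme.Hom.comp_apply, hfac, hx]
      rfl
    have : UniversallyOpen (m'' ≫ V'.ι ≫ u.left) := by
      rw [← Category.assoc, hfac]; exact hm'uo
    exact univOpen_of_comp_surjective m'' (V'.ι ≫ u.left)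
  have hmul : ∀ z : ↥(G ⊗ G).left, (fst G G).left z ∈ V → (snd G G).left z ∈ V →
      μ[G].left z ∈ V := by
    intro z h1 h2
    have hz : z ∈ Set.range (jV ⊗ₘ jV).left := by
      rw [Over.tensorHom_left, Scheme.Pullback.range_map]
      rw [Over.fst_left] at h1
      rw [Over.snd_left] at h2
      have hr : Set.range jV.left = (V : Set G.left) := Scheme.Opens.range_ι V
      rw [hr]
      exact ⟨h1, h2⟩
    obtain ⟨y, rfl⟩ := hz
    apply hV'V
    refine ⟨y, ?_⟩
    rw [hm', Over.comp_left, Scheme.Hom.comp_apply]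
  refine ⟨?_, ?_, hinv, hmul⟩
  · have h1 : IsOpen (Set.range (V.ι ≫ G.hom)) := (V.ι ≫ G.hom).isOpenMap.isOpen_range
    have h2 : Set.range (V.ι ≫ G.hom) = G.hom '' (V : Set G.left) := by
      rw [Scheme.Hom.comp_base, TopCat.coe_comp, Set.range_comp, Scheme.Opens.range_ι]
    rw [← h2]; exact h1
  · intro g hg p hp
    have h1 := hmul ((lift (𝟙 G) ι[G]).left g) ?_ ?_
    · have e : lift (𝟙 G) ι[G] ≫ μ[G] = toUnit G ≫ η[G] := GrpObj.right_inv G
      rw [← Scheme.Hom.comp_apply, ← Over.comp_left, e, Over.comp_left,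
        Scheme.Hom.comp_apply] at h1
      have hp' : (toUnit G).left g = p := by
        have h3 : (toUnit G).left ≫ (𝟙_ (Over S)).hom = G.hom := Over.w (toUnit G)
        have h4 : (𝟙_ (Over S)).hom ((toUnit G).left g) = G.hom g := by
          rw [← Scheme.Hom.comp_apply, h3]
        have h5 : Function.Injective ((𝟙_ (Over S)).hom : (𝟙_ (Over S)).left → S) := by
          have : (𝟙_ (Over S)).hom = 𝟙 S := rfl
          rw [this]
          exact fun _ _ h => h
        exact h5 (h4.trans hp.symm)
      rw [hp'] at h1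
      exact h1
    · rw [← Scheme.Hom.comp_apply, ← Over.comp_left, lift_fst]
      exact hg
    · rw [← Scheme.Hom.comp_apply, ← Over.comp_left, lift_snd]
      exact hinv g hg

end Groth.Agent.H3.MaxOpenUO
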