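import Mathlib
import Groth.Prelude.Def_MeroDiv

set_option autoImplicit false

universe u

open AlgebraicGeometry CategoryTheory CategoryTheory.Limits TopologicalSpace Opposite

namespace Groth.Agent.H3.MeroDivInj

open Mero

variable {X : Scheme.{u}}

/-- restriction of a unit of `Γ(U, K_X)` to a smaller open -/
noncomputable def resUnit {U W : X.Opens} (h : W ≤ U) (f : (Γ(kmod X, U))ˣ) : (Γ(kmod X, W))ˣ :=
  Units.map ((kring X).obj.map (homOfLE h).op).hom.toMonoidHom f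

lemma germOf_resUnit {U W : X.Opens} (h : W ≤ U) (f : (Γ(kmod X, U))ˣ) (y : W) :
    germOf (resUnit h f) y = germOf f ⟨y.1, h y.2⟩ := by
  rw [germOf, germOf]
  exact congrArg _ (Units.ext rfl)

/-- the value at `y` of a unit -/
noncomputable abbrev valUnit {U : X.Opens} (f : (Γ(kmod X, U))ˣ) (y : U) : (KStalk X y.1)ˣ :=
  Units.map (evalK X U y).toMonoidHom f

/-- `f⁻¹` satisfies the condition of `O_X(D)` where `D` is the class of `f` -/
lemma divCond_inv {U : X.Opens} (D : Divisor X) (f : (Γ(kmod X, U))ˣ)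
    (hf : ∀ y : U, D.1 y.1 = germOf f y) (y : U) :
    DivCond D y.1 (((f⁻¹ : (Γ(kmod X, U))ˣ) : Γ(kmod X, U)).1 y) := by
  intro g hg
  rw [hf y, germOf, QuotientGroup.eq] at hg
  obtain ⟨u, hu⟩ := hg
  refine ⟨(u : X.presheaf.stalk y.1), ?_⟩
  have h1 := congrArg (fun v : (KStalk X y.1)ˣ => (v : KStalk X y.1)) hu
  simp only [Units.val_mul] at h1
  refine h1.trans ?_
  rfl

/-- S5097 -/
theorem divMod_sections_eq_imp_eq (D D' : Divisor X)
    (h : ∀ (U : X.Opens) (t : Γ(kmod X, U)),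
      (∀ x : U, DivCond D x.1 (t.1 x)) ↔ (∀ x : U, DivCond D' x.1 (t.1 x))) :
    D = D' := by
  apply Subtype.ext
  funext x
  obtain ⟨U, hxU, f, hf⟩ := D.2 x
  obtain ⟨U', hxU', f', hf'⟩ := D'.2 x
  let W : X.Opens := U ⊓ U'
  have hxW : x ∈ W := ⟨hxU, hxU'⟩
  let fW := resUnit (inf_le_left : W ≤ U) f
  let fW' := resUnit (inf_le_right : W ≤ U') f'
  have hfW : ∀ y : W, D.1 y.1 = germOf fW y := fun y => by
    rw [germOf_resUnit]; exact hf ⟨y.1, y.2.1⟩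
  have hfW' : ∀ y : W, D'.1 y.1 = germOf fW' y := fun y => by
    rw [germOf_resUnit]; exact hf' ⟨y.1, y.2.2⟩
  -- f⁻¹ f' is regular at x
  have h1 := (h W _).1 (divCond_inv D fW hfW) ⟨x, hxW⟩ (valUnit fW' ⟨x, hxW⟩) (hfW' ⟨x, hxW⟩)
  have h2 := (h W _).2 (divCond_inv D' fW' hfW') ⟨x, hxW⟩ (valUnit fW ⟨x, hxW⟩) (hfW ⟨x, hxW⟩)
  obtain ⟨a, ha⟩ := h1
  obtain ⟨b, hb⟩ := h2
  have hab : a * b = 1 := by
    apply algebraMap_KStalk_injective x
    rw [map_mul, map_one]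
    rw [ha, hb]
    change ((valUnit fW ⟨x, hxW⟩)⁻¹ : (KStalk X x)ˣ).1 * (valUnit fW' ⟨x, hxW⟩).1 *
      (((valUnit fW' ⟨x, hxW⟩)⁻¹ : (KStalk X x)ˣ).1 * (valUnit fW ⟨x, hxW⟩).1) = 1
    rw [mul_assoc, ← mul_assoc (valUnit fW' ⟨x, hxW⟩).1, Units.mul_inv, one_mul, Units.inv_mul]
  rw [hfW ⟨x, hxW⟩, hfW' ⟨x, hxW⟩, germOf, germOf, QuotientGroup.eq]
  refine ⟨⟨a, b, hab, (mul_comm b a).trans hab⟩, ?_⟩
  apply Units.ext
  change (algebraMap (X.presheaf.stalk x) (KStalk X x)) a = _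
  rw [ha]
  rfl

end Groth.Agent.H3.MeroDivInj
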