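import Mathlib
import Groth.Prelude.Def_MeroDiv

set_option autoImplicit false

universe u

open AlgebraicGeometry CategoryTheory CategoryTheory.Limits TopologicalSpace Opposite

namespace Groth.Agent.H3.MeroDomain

open Mero

variable {X : Scheme.{u}}

/-- the set of points where a meromorphic function is defined -/
def dom (f : Γ(kmod X, ⊤)) : Set X :=
  {x | f.1 ⟨x, Opens.mem_top x⟩ ∈ (algebraMap (X.presheaf.stalk x) (KStalk X x)).range}

lemma algebraMap_eq_mk (x : X) (c : X.presheaf.stalk x) :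
    algebraMap (X.presheaf.stalk x) (KStalk X x) c = LocalizedModule.mk c 1 := rfl

/-- where the denominator is invertible the function is defined -/
lemma mem_range_of_isUnit (x : X) (a : X.presheaf.stalk x) (b : regStalk X x)
    (hb : IsUnit (b : X.presheaf.stalk x)) :
    (LocalizedModule.mk a b : KStalk X x) ∈
      (algebraMap (X.presheaf.stalk x) (KStalk X x)).range := by
  obtain ⟨u, hu⟩ := hb
  refine ⟨a * (u⁻¹ : (X.presheaf.stalk x)ˣ), ?_⟩
  rw [algebraMap_eq_mk, LocalizedModule.mk_eq]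
  refine ⟨1, ?_⟩
  simp only [one_smul, Submonoid.smul_def, smul_eq_mul]
  rw [← hu, mul_comm a, ← mul_assoc, Units.mul_inv, one_mul]

theorem isOpen_dom (f : Γ(kmod X, ⊤)) : IsOpen (dom f) := by
  rw [isOpen_iff_forall_mem_open]
  intro x hx
  obtain ⟨c, hc⟩ := hx
  obtain ⟨V1, hxV1, a1, rfl⟩ := TopCat.Presheaf.exists_germ_eq X.presheaf c
  obtain ⟨W, hxW, i, a, b, hab⟩ := f.2 ⟨x, Opens.mem_top x⟩
  have hx1 := hab ⟨x, hxW⟩
  have hx2 : (LocalizedModule.mk (X.presheaf.germ W x hxW a) (regGerm ⟨x, hxW⟩ b) : KStalk X x) =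
      LocalizedModule.mk (X.presheaf.germ V1 x hxV1 a1) 1 := by
    rw [← algebraMap_eq_mk, hc]; exact hx1.symm
  rw [LocalizedModule.mk_eq] at hx2
  obtain ⟨⟨u, V2, hxV2, c2, hc2, rfl⟩, hu⟩ := hx2
  simp only [one_smul, Submonoid.smul_def, smul_eq_mul] at hu
  -- the section `c2 * a - c2 * b * a1` has zero germ at `x`
  let V3 : X.Opens := W ⊓ V1 ⊓ V2
  have hxV3 : x ∈ V3 := ⟨⟨hxW, hxV1⟩, hxV2⟩
  have h31 : V3 ≤ W := inf_le_left.trans inf_le_left
  have h32 : V3 ≤ V1 := inf_le_left.trans inf_le_right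
  have h33 : V3 ≤ V2 := inf_le_right
  let e : Γ(X, V3) := X.presheaf.map (homOfLE h33).op c2 * X.presheaf.map (homOfLE h31).op a -
    X.presheaf.map (homOfLE h33).op c2 * (X.presheaf.map (homOfLE h31).op b.1 *
      X.presheaf.map (homOfLE h32).op a1)
  have he : X.presheaf.germ V3 x hxV3 e = X.presheaf.germ V3 x hxV3 0 := by
    rw [map_zero]
    simp only [e, map_sub, map_mul, TopCat.Presheaf.germ_res_apply]
    rw [sub_eq_zero]
    exact hu
  obtain ⟨V4, hxV4, i1, i2, h4⟩ := TopCat.Presheaf.germ_eq X.presheaf x hxV3 hxV3 e 0 he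
  rw [map_zero] at h4
  refine ⟨V4, ?_, V4.isOpen, hxV4⟩
  intro y hy
  have hyV3 : y ∈ V3 := i1.le hy
  have hy1 := hab ⟨y, h31 hyV3⟩
  refine ⟨X.presheaf.germ V1 y (h32 hyV3) a1, ?_⟩
  rw [algebraMap_eq_mk]
  refine Eq.trans ?_ hy1.symm
  symm
  rw [LocalizedModule.mk_eq]
  refine ⟨⟨X.presheaf.germ V2 y (h33 hyV3) c2, V2, h33 hyV3, c2, hc2, rfl⟩, ?_⟩
  simp only [one_smul, Submonoid.smul_def, smul_eq_mul]
  have h5 : X.presheaf.germ V4 y hy (X.presheaf.map i1.op e) = 0 := by rw [h4, map_zero]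
  rw [TopCat.Presheaf.germ_res_apply] at h5
  simp only [e, map_sub, map_mul, TopCat.Presheaf.germ_res_apply] at h5
  rw [sub_eq_zero] at h5
  exact h5


/-- the domain of definition is schematically dense -/
theorem injective_res_dom (f : Γ(kmod X, ⊤)) (D : X.Opens) (hD : (D : Set X) = dom f)
    (V : X.Opens) :
    Function.Injective (X.presheaf.map (homOfLE (inf_le_left : V ⊓ D ≤ V)).op) := by
  rw [injective_iff_map_eq_zero (X.presheaf.map (homOfLE (inf_le_left : V ⊓ D ≤ V)).op).hom]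
  intro r hr
  refine TopCat.Presheaf.section_ext X.sheaf V r 0 fun x hxV => ?_
  rw [map_zero]
  obtain ⟨W, hxW, i, a, b, hab⟩ := f.2 ⟨x, Opens.mem_top x⟩
  obtain ⟨W', hW', hxW', hW'le⟩ := exists_isAffineOpen_mem_and_subset (x := x) (U := W ⊓ V)
    ⟨hxW, hxV⟩
  have hW'W : W' ≤ W := fun y hy => (hW'le hy).1
  have hW'V : W' ≤ V := fun y hy => (hW'le hy).2
  let b' : Γ(X, W') := X.presheaf.map (homOfLE hW'W).op b.1
  let r' : Γ(X, W') := X.presheaf.map (homOfLE hW'V).op r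
  -- `D(b') ≤ V ⊓ D`
  have hbD : X.basicOpen b' ≤ V ⊓ D := by
    intro y hy
    have hyW' : y ∈ W' := X.basicOpen_le b' hy
    refine ⟨hW'V hyW', ?_⟩
    change y ∈ (D : Set X)
    rw [hD]
    change f.1 ⟨y, Opens.mem_top y⟩ ∈ (algebraMap (X.presheaf.stalk y) (KStalk X y)).range
    have h1 := hab ⟨y, hW'W hyW'⟩
    have h1' : f.1 ⟨y, Opens.mem_top y⟩ = (LocalizedModule.mk
        (X.presheaf.germ W y (hW'W hyW') a) (regGerm ⟨y, hW'W hyW'⟩ b) : KStalk X y) := h1
    rw [h1']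
    apply mem_range_of_isUnit
    have hu : IsUnit (X.presheaf.germ W' y hyW' b') := (X.mem_basicOpen b' y hyW').1 hy
    rwa [TopCat.Presheaf.germ_res_apply] at hu
  have hr' : X.presheaf.map (homOfLE (X.basicOpen_le b')).op r' = 0 := by
    have h1 : X.presheaf.map (homOfLE hbD).op
        (X.presheaf.map (homOfLE (inf_le_left : V ⊓ D ≤ V)).op r) = 0 := by
      rw [hr, map_zero]
    rw [← h1]
    simp only [r', ← CommRingCat.comp_apply, ← Functor.map_comp]
    rfl
  obtain ⟨n, hn⟩ := exists_pow_mul_eq_zero_of_res_basicOpen_eq_zero_of_isAffineOpen X hW' r' b' hr'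
  have h2 := congrArg (X.presheaf.germ W' x hxW') hn
  rw [map_mul, map_pow, map_zero] at h2
  simp only [b', r', TopCat.Presheaf.germ_res_apply] at h2
  have hnzd : X.presheaf.germ W x hxW b.1 ^ n ∈ nonZeroDivisors (X.presheaf.stalk x) :=
    pow_mem (b.2 ⟨x, hxW⟩) n
  exact (mul_left_mem_nonZeroDivisors_eq_zero_iff hnzd).1 h2

/-- S10856 -/
theorem exists_opens_eq_domain_and_schematicallyDense (f : Γ(kmod X, ⊤)) :
    ∃ D : X.Opens,
      (D : Set X) = {x | f.1 ⟨x, Opens.mem_top x⟩ ∈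
        (algebraMap (X.presheaf.stalk x) (KStalk X x)).range} ∧
        ∀ V : X.Opens,
          Function.Injective (X.presheaf.map (homOfLE (inf_le_left : V ⊓ D ≤ V)).op) :=
  ⟨⟨dom f, isOpen_dom f⟩, rfl, fun V => injective_res_dom f ⟨dom f, isOpen_dom f⟩ rfl V⟩

end Groth.Agent.H3.MeroDomain
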