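import Mathlib
import Groth.Prelude.Def_MeroDiv

set_option autoImplicit false

universe u

open AlgebraicGeometry CategoryTheory CategoryTheory.Limits TopologicalSpace Opposite

namespace Groth.Agent.H3.MeroLinEq

open Mero

variable {X : Scheme.{u}}

/-- the value at `x` of a global meromorphic function -/
noncomputable abbrev gval (f : Γ(kmod X, ⊤)) (x : X) : KStalk X x := f.1 ⟨x, Opens.mem_top x⟩

lemma kLoc_res (f : Γ(kmod X, ⊤)) (U : X.Opens) :
    (kLoc X).pred (fun x : U => gval f x.1) :=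
  ((kmod X).presheaf.map (homOfLE (le_top : U ≤ ⊤)).op f).2

/-- multiplication by a global meromorphic function, on sections -/
noncomputable def mulFun (D D' : Divisor X) (f : Γ(kmod X, ⊤))
    (hf : ∀ (x : X) (t : KStalk X x), DivCond D x t → DivCond D' x (t * gval f x)) (U : X.Opens) :
    Γ(divMod D, U) →+ Γ(divMod D', U) where
  toFun t := ⟨fun x => t.1 x * gval f x.1,
    ⟨kLoc_mul X U _ _ t.2.1 (kLoc_res f U), fun x => hf x.1 _ (t.2.2 x)⟩⟩
  map_zero' := Subtype.ext <| funext fun x => by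
    change (0 : KStalk X x.1) * _ = 0
    rw [zero_mul]
  map_add' s t := Subtype.ext <| funext fun x => by
    change (s.1 x + t.1 x) * _ = s.1 x * _ + t.1 x * _
    rw [add_mul]

/-- multiplication by a global meromorphic function as a morphism `O_X(D) ⟶ O_X(D')` -/
noncomputable def mulHom (D D' : Divisor X) (f : Γ(kmod X, ⊤))
    (hf : ∀ (x : X) (t : KStalk X x), DivCond D x t → DivCond D' x (t * gval f x)) :
    divMod D ⟶ divMod D' :=
  ⟨PresheafOfModules.homMk (M₁ := (divMod D).val) (M₂ := (divMod D').val)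
    { app := fun U => AddCommGrpCat.ofHom (mulFun D D' f hf U.unop)
      naturality := by intros; rfl }
    (fun U r t => Subtype.ext <| funext fun x => by
      change (X.presheaf.germ U.unop x.1 x.2 r • t.1 x) * gval f x.1 =
        X.presheaf.germ U.unop x.1 x.2 r • (t.1 x * gval f x.1)
      rw [smul_mul_assoc])⟩

lemma mulHom_app_apply (D D' : Divisor X) (f : Γ(kmod X, ⊤))
    (hf : ∀ (x : X) (t : KStalk X x), DivCond D x t → DivCond D' x (t * gval f x))
    (U : X.Opens) (t : Γ(divMod D, U)) (x : U) :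
    ((mulHom D D' f hf).app U t).1 x = t.1 x * gval f x.1 := rfl


lemma gval_mul_inv (f : (Γ(kmod X, ⊤))ˣ) (x : X) :
    gval (f : Γ(kmod X, ⊤)) x * gval ((f⁻¹ : (Γ(kmod X, ⊤))ˣ) : Γ(kmod X, ⊤)) x = 1 :=
  congrArg (fun s : Γ(kmod X, ⊤) => s.1 ⟨x, Opens.mem_top x⟩) f.mul_inv

lemma gval_inv_mul (f : (Γ(kmod X, ⊤))ˣ) (x : X) :
    gval ((f⁻¹ : (Γ(kmod X, ⊤))ˣ) : Γ(kmod X, ⊤)) x * gval (f : Γ(kmod X, ⊤)) x = 1 :=
  congrArg (fun s : Γ(kmod X, ⊤) => s.1 ⟨x, Opens.mem_top x⟩) f.inv_mul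

/-- S5083 -/
theorem nonempty_divMod_iso_of_linEquiv (D D' : Divisor X) (h : LinEquiv D D') :
    Nonempty (divMod D ≅ divMod D') := by
  obtain ⟨f, hf⟩ := h
  have hx : ∀ x : X, D.1 x = D'.1 x * germOf f ⟨x, Opens.mem_top x⟩ := by
    intro x
    have h1 : (D * D'⁻¹).1 x = (div f).1 x := congrArg (fun E : Divisor X => E.1 x) hf
    have h2 : D.1 x * (D'.1 x)⁻¹ = germOf f ⟨x, Opens.mem_top x⟩ := h1
    rw [← h2, mul_comm (D.1 x), mul_inv_cancel_left]
  have h1 : ∀ (x : X) (t : KStalk X x), DivCond D x t →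
      DivCond D' x (t * gval (f : Γ(kmod X, ⊤)) x) := by
    intro x t ht g' hg'
    have := ht (g' * Units.map (evalK X ⊤ ⟨x, Opens.mem_top x⟩).toMonoidHom f) (by
      rw [hx x, hg', germOf, QuotientGroup.mk_mul])
    have e : t * gval (f : Γ(kmod X, ⊤)) x * (g' : KStalk X x) =
        t * ((g' * Units.map (evalK X ⊤ ⟨x, Opens.mem_top x⟩).toMonoidHom f :
          (KStalk X x)ˣ) : KStalk X x) := by
      rw [Units.val_mul, mul_assoc, mul_comm (gval (f : Γ(kmod X, ⊤)) x)]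
      rfl
    rw [e]
    exact this
  have h2 : ∀ (x : X) (t : KStalk X x), DivCond D' x t →
      DivCond D x (t * gval ((f⁻¹ : (Γ(kmod X, ⊤))ˣ) : Γ(kmod X, ⊤)) x) := by
    intro x t ht g hg
    have := ht (g * (Units.map (evalK X ⊤ ⟨x, Opens.mem_top x⟩).toMonoidHom f)⁻¹) (by
      rw [QuotientGroup.mk_mul, QuotientGroup.mk_inv, ← hg, hx x, germOf, mul_inv_cancel_right])
    have e : t * gval ((f⁻¹ : (Γ(kmod X, ⊤))ˣ) : Γ(kmod X, ⊤)) x * (g : KStalk X x) =
        t * ((g * (Units.map (evalK X ⊤ ⟨x, Opens.mem_top x⟩).toMonoidHom f)⁻¹ :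
          (KStalk X x)ˣ) : KStalk X x) := by
      rw [Units.val_mul, mul_assoc, mul_comm (gval ((f⁻¹ : (Γ(kmod X, ⊤))ˣ) : Γ(kmod X, ⊤)) x)]
      rw [← map_inv]
      rfl
    rw [e]
    exact this
  refine ⟨⟨mulHom D D' f h1, mulHom D' D ((f⁻¹ : (Γ(kmod X, ⊤))ˣ) : Γ(kmod X, ⊤)) h2, ?_, ?_⟩⟩
  · apply Scheme.Modules.hom_ext
    intro U
    ext t
    apply Subtype.ext
    funext x
    change t.1 x * gval (f : Γ(kmod X, ⊤)) x.1 *
      gval ((f⁻¹ : (Γ(kmod X, ⊤))ˣ) : Γ(kmod X, ⊤)) x.1 = t.1 x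
    rw [mul_assoc, gval_mul_inv, mul_one]
  · apply Scheme.Modules.hom_ext
    intro U
    ext t
    apply Subtype.ext
    funext x
    change t.1 x * gval ((f⁻¹ : (Γ(kmod X, ⊤))ˣ) : Γ(kmod X, ⊤)) x.1 *
      gval (f : Γ(kmod X, ⊤)) x.1 = t.1 x
    rw [mul_assoc, gval_inv_mul, mul_one]

end Groth.Agent.H3.MeroLinEq
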