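import Mathlib
import Groth.Prelude.Def_MeroSh
import Groth.Agent.Lib.Lead.QC.Flat
import Groth.Agent.Lib.Lead.QC.CartierHeight

set_option autoImplicit false

universe u

open AlgebraicGeometry CategoryTheory CategoryTheory.Limits TopologicalSpace Opposite

namespace Groth.Agent.H3.MeroPull

open Groth.Agent.LD.QC

variable {X : Scheme.{u}}

/-- in a ring where the maximal ideal is an associated prime, nonzerodivisors are units -/
lemma isUnit_of_mem_nonZeroDivisors_of_isAssociatedPrime {R : Type*} [CommRing R] [IsLocalRing R]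
    (h : IsAssociatedPrime (IsLocalRing.maximalIdeal R) R) {a : R} (ha : a ∈ nonZeroDivisors R) :
    IsUnit a := by
  by_contra hna
  have ham : a ∈ IsLocalRing.maximalIdeal R := (IsLocalRing.mem_maximalIdeal a).2 hna
  obtain ⟨hp, z, hz⟩ := h
  rw [hz] at ham
  obtain ⟨n, hn⟩ := ham
  rw [Submodule.mem_colon_singleton] at hn
  have hz0 : z = 0 := by
    have : a ^ n * z = 0 := hn
    exact (mul_left_mem_nonZeroDivisors_eq_zero_iff (pow_mem ha n)).1 this
  have : (IsLocalRing.maximalIdeal R) = ⊤ := by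
    rw [hz, hz0]
    rw [Ideal.radical_eq_top]
    ext r
    simp [Submodule.mem_colon_singleton]
  exact hp.ne_top this

/-- in a local ring with a single prime, nonzerodivisors are units -/
lemma isUnit_of_mem_nonZeroDivisors_of_forall_prime {R : Type*} [CommRing R] [IsLocalRing R]
    (h : ∀ p : Ideal R, p.IsPrime → p = IsLocalRing.maximalIdeal R) {a : R}
    (ha : a ∈ nonZeroDivisors R) : IsUnit a := by
  by_contra hna
  have ham : a ∈ IsLocalRing.maximalIdeal R := (IsLocalRing.mem_maximalIdeal a).2 hna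
  have hnil : a ∈ nilradical R := by
    rw [nilradical_eq_sInf, Ideal.mem_sInf]
    intro p hp
    rw [h p hp]
    exact ham
  obtain ⟨n, hn⟩ := hnil
  have h1 : (a ^ n) * 1 = 0 := by rw [mul_one, hn]
  have := (mul_left_mem_nonZeroDivisors_eq_zero_iff (pow_mem ha n)).1 h1
  exact one_ne_zero this


/-- the germ at `fromSpec y` of a section in the prime `y` is not a unit -/
lemma not_isUnit_germ_of_mem {V : X.Opens} (hV : IsAffineOpen V) (y : PrimeSpectrum Γ(X, V))
    (t : Γ(X, V)) (ht : t ∈ y.asIdeal) :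
    ¬ IsUnit (X.presheaf.germ V (hV.fromSpec y) (fromSpec_mem hV y) t) := by
  have hmem := (mem_primeIdealOf_iff hV (hV.fromSpec y) (fromSpec_mem hV y) t).1 (by
    rw [primeIdealOf_fromSpec hV y (fromSpec_mem hV y)]; exact ht)
  intro hu
  exact hmem ((X.mem_basicOpen t (hV.fromSpec y) (fromSpec_mem hV y)).2 hu)

/-- Noetherian case: a zero-divisor germ is a non-unit at an associated generization -/
theorem exists_assPoint_of_not_mem_nonZeroDivisors [IsLocallyNoetherian X] {W : X.Opens}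
    (t : Γ(X, W)) (x : X) (hx : x ∈ W)
    (h : X.presheaf.germ W x hx t ∉ nonZeroDivisors (X.presheaf.stalk x)) :
    ∃ (x' : X) (hx' : x' ∈ W),
      IsAssociatedPrime (IsLocalRing.maximalIdeal (X.presheaf.stalk x')) (X.presheaf.stalk x') ∧
      ¬ IsUnit (X.presheaf.germ W x' hx' t) := by
  obtain ⟨V, hV, hxV, hVW⟩ := exists_isAffineOpen_mem_and_subset (x := x) (U := W) hx
  have hVW' : V ≤ W := hVW
  haveI : IsNoetherianRing Γ(X, V) := IsLocallyNoetherian.component_noetherian ⟨V, hV⟩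
  let t' : Γ(X, V) := X.presheaf.map (homOfLE hVW').op t
  letI alg : Algebra Γ(X, V) (X.presheaf.stalk x) :=
    TopCat.Presheaf.algebra_section_stalk X.presheaf ⟨x, hxV⟩
  haveI hloc : IsLocalization.AtPrime (X.presheaf.stalk x) (hV.primeIdealOf ⟨x, hxV⟩).asIdeal :=
    hV.isLocalization_stalk ⟨x, hxV⟩
  have hgerm : X.presheaf.germ W x hx t = algebraMap Γ(X, V) (X.presheaf.stalk x) t' :=
    (TopCat.Presheaf.germ_res_apply X.presheaf (homOfLE hVW') x hxV t).symm
  -- an associated prime of the stalk containing the germ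
  have hmem : X.presheaf.germ W x hx t ∈ ((nonZeroDivisors (X.presheaf.stalk x) :
      Set (X.presheaf.stalk x)))ᶜ := h
  rw [← biUnion_associatedPrimes_eq_compl_nonZeroDivisors] at hmem
  obtain ⟨p', hp'⟩ := Set.mem_iUnion.1 hmem
  obtain ⟨hp'ass, hp'mem⟩ := Set.mem_iUnion.1 hp'
  haveI : IsLocalizedModule (hV.primeIdealOf ⟨x, hxV⟩).asIdeal.primeCompl
      (Algebra.linearMap Γ(X, V) (X.presheaf.stalk x)) :=
    (isLocalizedModule_iff_isLocalization' _ _).2 hloc
  have hpass : p'.comap (algebraMap Γ(X, V) (X.presheaf.stalk x)) ∈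
      associatedPrimes Γ(X, V) Γ(X, V) :=
    Module.associatedPrimes.comap_mem_associatedPrimes_of_mem_associatedPrimes_of_isLocalizedModule_of_fg
      (hV.primeIdealOf ⟨x, hxV⟩).asIdeal.primeCompl
      (Algebra.linearMap Γ(X, V) (X.presheaf.stalk x)) p' hp'ass
      ((isNoetherianRing_iff_ideal_fg _).1 inferInstance _)
  haveI hpprime : (p'.comap (algebraMap Γ(X, V) (X.presheaf.stalk x))).IsPrime := hpass.1
  let y : PrimeSpectrum Γ(X, V) := ⟨p'.comap (algebraMap Γ(X, V) (X.presheaf.stalk x)), hpprime⟩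
  have hty : t' ∈ y.asIdeal := by
    change algebraMap Γ(X, V) (X.presheaf.stalk x) t' ∈ p'
    rw [← hgerm]; exact hp'mem
  refine ⟨hV.fromSpec y, hVW' (fromSpec_mem hV y), ?_, ?_⟩
  · letI alg' : Algebra Γ(X, V) (X.presheaf.stalk (hV.fromSpec y)) :=
      TopCat.Presheaf.algebra_section_stalk X.presheaf ⟨hV.fromSpec y, fromSpec_mem hV y⟩
    haveI hloc' : IsLocalization.AtPrime (X.presheaf.stalk (hV.fromSpec y)) y.asIdeal :=
      hV.isLocalization_stalk' y (fromSpec_mem hV y)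
    haveI : IsLocalizedModule y.asIdeal.primeCompl
        (Algebra.linearMap Γ(X, V) (X.presheaf.stalk (hV.fromSpec y))) :=
      (isLocalizedModule_iff_isLocalization' _ _).2 hloc'
    apply Module.associatedPrimes.mem_associatedPrimes_of_comap_mem_associatedPrimes_of_isLocalizedModule
      y.asIdeal.primeCompl (Algebra.linearMap Γ(X, V) (X.presheaf.stalk (hV.fromSpec y)))
    have e : Ideal.comap (algebraMap Γ(X, V) (X.presheaf.stalk (hV.fromSpec y)))
        (IsLocalRing.maximalIdeal (X.presheaf.stalk (hV.fromSpec y))) = y.asIdeal :=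
      IsLocalization.AtPrime.under_maximalIdeal _ _
    rw [e]
    exact hpass
  · have h1 := not_isUnit_germ_of_mem hV y t' hty
    rwa [TopCat.Presheaf.germ_res_apply X.presheaf (homOfLE hVW') (hV.fromSpec y)
      (fromSpec_mem hV y) t] at h1


/-- S5092 -/
theorem app_mem_regSub_of_assPoints_mapsTo {Y : Scheme.{u}} [IsLocallyNoetherian X]
    (f : X ⟶ Y)
    (hf : ∀ x : X, IsAssociatedPrime (IsLocalRing.maximalIdeal (X.presheaf.stalk x))
        (X.presheaf.stalk x) →
      IsAssociatedPrime (IsLocalRing.maximalIdeal (Y.presheaf.stalk (f x)))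
        (Y.presheaf.stalk (f x))) :
    ∀ (U : Y.Opens) (s : Γ(Y, U)), s ∈ Mero.regSub Y U → f.app U s ∈ Mero.regSub X (f ⁻¹ᵁ U) := by
  intro U s hs x
  by_contra hx
  obtain ⟨x', hx', hass, hnu⟩ := exists_assPoint_of_not_mem_nonZeroDivisors (f.app U s) x.1 x.2 hx
  apply hnu
  have hu : IsUnit (Y.presheaf.germ U (f x') hx' s) :=
    isUnit_of_mem_nonZeroDivisors_of_isAssociatedPrime (hf x' hass) (hs ⟨f x', hx'⟩)
  rw [← Scheme.Hom.germ_stalkMap_apply f U x' hx' s]
  exact hu.map _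

/-- reduced case: a zero-divisor germ is a non-unit at a maximal generization -/
theorem exists_maximalPoint_of_not_mem_nonZeroDivisors [IsReduced X] {W : X.Opens}
    (t : Γ(X, W)) (x : X) (hx : x ∈ W)
    (h : X.presheaf.germ W x hx t ∉ nonZeroDivisors (X.presheaf.stalk x)) :
    ∃ (x' : X) (hx' : x' ∈ W), (∀ z : X, z ⤳ x' → z = x') ∧
      ¬ IsUnit (X.presheaf.germ W x' hx' t) := by
  obtain ⟨V, hV, hxV, hVW⟩ := exists_isAffineOpen_mem_and_subset (x := x) (U := W) hx
  have hVW' : V ≤ W := hVW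
  let t' : Γ(X, V) := X.presheaf.map (homOfLE hVW').op t
  letI alg : Algebra Γ(X, V) (X.presheaf.stalk x) :=
    TopCat.Presheaf.algebra_section_stalk X.presheaf ⟨x, hxV⟩
  haveI hloc : IsLocalization.AtPrime (X.presheaf.stalk x) (hV.primeIdealOf ⟨x, hxV⟩).asIdeal :=
    hV.isLocalization_stalk ⟨x, hxV⟩
  have hgerm : X.presheaf.germ W x hx t = algebraMap Γ(X, V) (X.presheaf.stalk x) t' :=
    (TopCat.Presheaf.germ_res_apply X.presheaf (homOfLE hVW') x hxV t).symm
  -- a minimal prime of the stalk containing the germ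
  obtain ⟨b, hb0, hb⟩ : ∃ b : X.presheaf.stalk x, b ≠ 0 ∧
      b * X.presheaf.germ W x hx t = 0 := by
    rw [mem_nonZeroDivisors_iff_right] at h
    push Not at h
    obtain ⟨b, hb, hb0⟩ := h
    exact ⟨b, hb0, hb⟩
  have hbrad : b ∉ (⊥ : Ideal (X.presheaf.stalk x)).radical := by
    change b ∉ nilradical (X.presheaf.stalk x)
    rw [nilradical_eq_zero]
    exact hb0
  rw [← Ideal.sInf_minimalPrimes, Ideal.mem_sInf] at hbrad
  push Not at hbrad
  obtain ⟨p', hp'min, hbp'⟩ := hbrad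
  haveI hp'prime : p'.IsPrime := hp'min.1.1
  have hp'mem : X.presheaf.germ W x hx t ∈ p' := by
    have : b * X.presheaf.germ W x hx t ∈ p' := by rw [hb]; exact p'.zero_mem
    exact (hp'prime.mem_or_mem this).resolve_left hbp'
  have hpmin : p'.comap (algebraMap Γ(X, V) (X.presheaf.stalk x)) ∈
      (⊥ : Ideal Γ(X, V)).minimalPrimes := by
    have h1 := IsLocalization.minimalPrimes_map (hV.primeIdealOf ⟨x, hxV⟩).asIdeal.primeCompl
      (X.presheaf.stalk x) (⊥ : Ideal Γ(X, V))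
    rw [Ideal.map_bot] at h1
    have : p' ∈ Ideal.under Γ(X, V) ⁻¹' (⊥ : Ideal Γ(X, V)).minimalPrimes := by
      rw [← h1]; exact hp'min
    exact this
  haveI hpprime : (p'.comap (algebraMap Γ(X, V) (X.presheaf.stalk x))).IsPrime := hpmin.1.1
  let y : PrimeSpectrum Γ(X, V) := ⟨p'.comap (algebraMap Γ(X, V) (X.presheaf.stalk x)), hpprime⟩
  have hty : t' ∈ y.asIdeal := by
    change algebraMap Γ(X, V) (X.presheaf.stalk x) t' ∈ p'
    rw [← hgerm]; exact hp'mem
  refine ⟨hV.fromSpec y, hVW' (fromSpec_mem hV y), ?_, ?_⟩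
  · intro z hz
    have hzV : z ∈ V := hz.mem_open V.isOpen (fromSpec_mem hV y)
    have hz' : hV.fromSpec (hV.primeIdealOf ⟨z, hzV⟩) ⤳ hV.fromSpec y := by
      rw [hV.fromSpec_primeIdealOf ⟨z, hzV⟩]; exact hz
    have hz'' : hV.primeIdealOf ⟨z, hzV⟩ ⤳ y :=
      hV.fromSpec.isOpenEmbedding.isInducing.specializes_iff.1 hz'
    have hle : (hV.primeIdealOf ⟨z, hzV⟩).asIdeal ≤ y.asIdeal :=
      (PrimeSpectrum.le_iff_specializes _ _).2 hz''
    have heq : (hV.primeIdealOf ⟨z, hzV⟩).asIdeal = y.asIdeal :=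
      le_antisymm hle (hpmin.2 ⟨(hV.primeIdealOf ⟨z, hzV⟩).2, bot_le⟩ hle)
    have : hV.primeIdealOf ⟨z, hzV⟩ = y := PrimeSpectrum.ext heq
    rw [← this, hV.fromSpec_primeIdealOf ⟨z, hzV⟩]
  · have h1 := not_isUnit_germ_of_mem hV y t' hty
    rwa [TopCat.Presheaf.germ_res_apply X.presheaf (homOfLE hVW') (hV.fromSpec y)
      (fromSpec_mem hV y) t] at h1

/-- at a maximal point, the local ring has a single prime -/
lemma prime_eq_maximalIdeal_of_maximalPoint {Y : Scheme.{u}} (y : Y)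
    (hy : ∀ z : Y, z ⤳ y → z = y) (p : Ideal (Y.presheaf.stalk y)) (hp : p.IsPrime) :
    p = IsLocalRing.maximalIdeal (Y.presheaf.stalk y) := by
  let q : Spec (Y.presheaf.stalk y) := ⟨p, hp⟩
  have h1 : Y.fromSpecStalk y q ⤳ y := by
    have : Y.fromSpecStalk y q ∈ Set.range (Y.fromSpecStalk y) := ⟨q, rfl⟩
    rw [Scheme.range_fromSpecStalk] at this
    exact this
  have h2 : Y.fromSpecStalk y q = y := hy _ h1
  have h3 : Y.fromSpecStalk y (IsLocalRing.closedPoint (Y.presheaf.stalk y)) = y :=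
    Scheme.fromSpecStalk_closedPoint
  have h4 : q = IsLocalRing.closedPoint (Y.presheaf.stalk y) :=
    (Y.fromSpecStalk y).isEmbedding.injective (h2.trans h3.symm)
  exact congrArg PrimeSpectrum.asIdeal h4

/-- S5093 -/
theorem app_mem_regSub_of_isReduced_of_maximalPoints_mapsTo {Y : Scheme.{u}} [IsReduced X]
    (f : X ⟶ Y)
    (hf : ∀ ξ : X, (∀ z : X, z ⤳ ξ → z = ξ) → ∀ z : Y, z ⤳ f ξ → z = f ξ) :
    ∀ (U : Y.Opens) (s : Γ(Y, U)), s ∈ Mero.regSub Y U → f.app U s ∈ Mero.regSub X (f ⁻¹ᵁ U) := by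
  intro U s hs x
  by_contra hx
  obtain ⟨x', hx', hmax, hnu⟩ :=
    exists_maximalPoint_of_not_mem_nonZeroDivisors (f.app U s) x.1 x.2 hx
  apply hnu
  have hu : IsUnit (Y.presheaf.germ U (f x') hx' s) :=
    isUnit_of_mem_nonZeroDivisors_of_forall_prime
      (prime_eq_maximalIdeal_of_maximalPoint (f x') (hf x' hmax)) (hs ⟨f x', hx'⟩)
  rw [← Scheme.Hom.germ_stalkMap_apply f U x' hx' s]
  exact hu.map _

end Groth.Agent.H3.MeroPull
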