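import Mathlib
import Groth.Prelude.Def_MeroDiv
import Groth.Agent.Lib.Helper3.MeroPull

set_option autoImplicit false

universe u

open AlgebraicGeometry CategoryTheory CategoryTheory.Limits TopologicalSpace Opposite

namespace Groth.Agent.H3.MeroSupp

open Mero Groth.Agent.H3.MeroPull

variable {X : Scheme.{u}}

/-- if all germs of regular sections at `x` are units, every germ of divisor at `x` is trivial -/
lemma germ_eq_one_of_regStalk_le_units (x : X)
    (h : regStalk X x ≤ IsUnit.submonoid (X.presheaf.stalk x)) (d : Germ X x) : d = 1 := by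
  obtain ⟨g, rfl⟩ := QuotientGroup.mk_surjective d
  rw [QuotientGroup.eq_one_iff]
  let e : X.presheaf.stalk x ≃ₐ[X.presheaf.stalk x] KStalk X x :=
    IsLocalization.atUnits (X.presheaf.stalk x) (regStalk X x) h
  have he : ∀ a, e a = algebraMap (X.presheaf.stalk x) (KStalk X x) a := fun a => rfl
  refine ⟨⟨e.symm g, e.symm (g⁻¹ : (KStalk X x)ˣ), ?_, ?_⟩, ?_⟩
  · rw [← map_mul, Units.mul_inv, map_one]
  · rw [← map_mul, Units.inv_mul, map_one]
  · apply Units.ext
    change algebraMap (X.presheaf.stalk x) (KStalk X x) (e.symm g) = g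
    rw [← he, AlgEquiv.apply_symm_apply]

lemma le_zero_of_lt_one (x : WithBot ℕ∞) (h : x < 1) : x ≤ 0 := by
  induction x using WithBot.recBotCoe with
  | bot => exact bot_le
  | coe n =>
    have h1 : n < 1 := by exact_mod_cast h
    have h2 : n = 0 := Order.lt_one_iff.1 h1
    subst h2
    exact le_rfl

/-- S10851 -/
theorem one_le_ringKrullDim_stalk_of_mem_supp (D : Divisor X) (z : X) (hz : z ∈ supp D) :
    (1 : WithBot ℕ∞) ≤ ringKrullDim (X.presheaf.stalk z) := by
  by_contra hlt
  apply hz
  rw [not_le] at hlt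
  replace hlt := le_zero_of_lt_one _ hlt
  have h0 : Ring.KrullDimLE 0 (X.presheaf.stalk z) := (Ring.krullDimLE_iff).2 hlt
  have hprime : ∀ p : Ideal (X.presheaf.stalk z), p.IsPrime →
      p = IsLocalRing.maximalIdeal (X.presheaf.stalk z) := fun p hp =>
    IsLocalRing.eq_maximalIdeal (Ring.krullDimLE_zero_iff.1 h0 p hp)
  apply germ_eq_one_of_regStalk_le_units
  intro a ha
  exact isUnit_of_mem_nonZeroDivisors_of_forall_prime hprime (regStalk_le_nonZeroDivisors z ha)

end Groth.Agent.H3.MeroSupp
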