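import Mathlib

/-!
# Expansion of `det (M * N)` for rectangular matrices, and characteristic polynomial coefficients
acting on the lattice of maximal minors
-/

set_option autoImplicit false

namespace Groth.Agent.H3.MinorExp

open Matrix Polynomial

universe u

section Expand

variable {S : Type*} [CommRing S] {n p : Type*} [Fintype n] [DecidableEq n] [Fintype p]
  [DecidableEq p]

/-- The (unsymmetrised) Cauchy–Binet expansion. -/
theorem det_mul_expand (M : Matrix n p S) (N : Matrix p n S) :
    (M * N).det = ∑ f : n → p, (∏ k, N (f k) k) * (M.submatrix id f).det := by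
  rw [← det_transpose]
  have h : (M * N)ᵀ = fun k => ∑ l, N l k • Mᵀ l := by
    ext k i
    simp only [transpose_apply, mul_apply, Finset.sum_apply, Pi.smul_apply, smul_eq_mul]
    exact Finset.sum_congr rfl fun l _ => mul_comm _ _
  rw [h]
  have h2 := (detRowAlternating (R := S) (n := n)).toMultilinearMap.map_sum
    (fun k l => N l k • Mᵀ l)
  have h3 : Matrix.det (fun k => ∑ l, N l k • Mᵀ l)
      = (detRowAlternating (R := S) (n := n)).toMultilinearMap (fun k => ∑ l, N l k • Mᵀ l) := rfl
  rw [h3, h2]
  refine Finset.sum_congr rfl fun f _ => ?_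
  have h4 := (detRowAlternating (R := S) (n := n)).toMultilinearMap.map_smul_univ
    (fun k => N (f k) k) (fun k => Mᵀ (f k))
  rw [h4, smul_eq_mul]
  congr 1
  have h5 : (detRowAlternating (R := S) (n := n)).toMultilinearMap (fun k => Mᵀ (f k))
      = ((M.submatrix id f)ᵀ).det := rfl
  rw [h5, det_transpose]

end Expand

section Coeff

variable {A K : Type*} [CommRing A] [CommRing K] [Algebra A K]
  {n p : Type*} [Fintype n] [DecidableEq n] [Fintype p] [DecidableEq p]

/-- The `A`-lattice spanned by the maximal minors of `G`. -/
def minorLattice (A : Type*) {K : Type*} [CommRing A] [CommRing K] [Algebra A K]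
    {n p : Type*} [Fintype n] [DecidableEq n] (G : Matrix n p K) : Submodule A K :=
  Submodule.span A (Set.range fun f : n → p => (G.submatrix id f).det)

theorem coeff_charpoly_mul_minor_mem (V : Matrix n n K) (G : Matrix n p K) (a : Matrix p p A)
    (h : V * G = G * a.map (algebraMap A K)) (j : ℕ) (s : n → p) :
    V.charpoly.coeff j * (G.submatrix id s).det ∈ minorLattice A G := by
  have h1 : charmatrix V * (G.map C) = (G.map C) * charmatrix (a.map (algebraMap A K)) := by
    unfold charmatrix
    rw [Matrix.sub_mul, Matrix.mul_sub]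
    congr 1
    · ext i k
      rw [Matrix.scalar_apply, Matrix.scalar_apply, Matrix.diagonal_mul, Matrix.mul_diagonal,
        mul_comm]
    · have := congrArg (fun M : Matrix n p K => M.map (C : K →+* K[X])) h
      simpa [Matrix.map_mul] using this
  have e2 : charmatrix V * (G.map C).submatrix id s
      = (G.map C) * (charmatrix (a.map (algebraMap A K))).submatrix id s := by
    have := congrArg (fun M : Matrix n p K[X] => M.submatrix id s) h1
    rw [Matrix.submatrix_mul _ _ id id s Function.bijective_id,
      Matrix.submatrix_mul _ _ id id s Function.bijective_id] at this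
    simpa using this
  have e1 : (charmatrix V * (G.map C).submatrix id s).det
      = V.charpoly * C ((G.submatrix id s).det) := by
    rw [det_mul]
    congr 1
    rw [RingHom.map_det]
    rfl
  have h2 : V.charpoly * C ((G.submatrix id s).det)
      = ∑ f : n → p, (Polynomial.map (algebraMap A K) (∏ k, charmatrix a (f k) (s k)))
          * C ((G.submatrix id f).det) := by
    rw [← e1, e2, det_mul_expand]
    refine Finset.sum_congr rfl fun f _ => ?_
    congr 1
    · rw [Polynomial.map_prod]
      refine Finset.prod_congr rfl fun k _ => ?_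
      rw [charmatrix_map]
      rfl
    · rw [RingHom.map_det]
      rfl
  have h3 := congrArg (fun q : K[X] => q.coeff j) h2
  simp only [coeff_mul_C, finsetSum_coeff, coeff_map] at h3
  rw [h3]
  refine Submodule.sum_mem _ fun f _ => ?_
  rw [← Algebra.smul_def]
  exact Submodule.smul_mem _ _ (Submodule.subset_span ⟨f, rfl⟩)

end Coeff

section Module

open TensorProduct

/-- The algebra generated by the coefficients of the characteristic polynomials of the
endomorphisms of a finite module `E` (base changed to `K`, where `K ⊗ E` is free) is a finite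
module over a Noetherian ring. -/
theorem main (A : Type u) [CommRing A] [IsNoetherianRing A] (K : Type u) [CommRing K] [Algebra A K]
    (E : Type u) [AddCommGroup E] [Module A E] [Module.Finite A E]
    [Module.Free K (TensorProduct A K E)] :
    (Algebra.adjoin A {c : K | ∃ (v : E →ₗ[A] E) (j : ℕ),
        c = ((v.baseChange K).charpoly).coeff j}).toSubmodule.FG := by
  classical
  rcases subsingleton_or_nontrivial K with hK | hK
  · have : (Algebra.adjoin A {c : K | ∃ (v : E →ₗ[A] E) (j : ℕ),
        c = ((v.baseChange K).charpoly).coeff j}).toSubmodule = ⊥ := by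
      rw [eq_bot_iff]
      intro x _
      exact Subsingleton.elim x 0
    rw [this]
    exact Submodule.fg_bot
  let b := Module.Free.chooseBasis K (TensorProduct A K E)
  obtain ⟨m, g, hg⟩ := Module.Finite.exists_fin (R := A) (M := E)
  -- the `K`-span of the `1 ⊗ g k`
  have hone_mem : ∀ e : E, (1 : K) ⊗ₜ[A] e ∈
      Submodule.span K (Set.range fun k => (1 : K) ⊗ₜ[A] g k) := by
    intro e
    have he : e ∈ Submodule.span A (Set.range g) := hg ▸ Submodule.mem_top
    induction he using Submodule.span_induction with
    | mem e he =>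
      obtain ⟨k, rfl⟩ := he
      exact Submodule.subset_span ⟨k, rfl⟩
    | zero => rw [TensorProduct.tmul_zero]; exact zero_mem _
    | add x y _ _ hx hy => rw [TensorProduct.tmul_add]; exact add_mem hx hy
    | smul a x _ hx =>
      have : (1 : K) ⊗ₜ[A] (a • x) = (algebraMap A K a) • ((1 : K) ⊗ₜ[A] x) := by
        rw [TensorProduct.tmul_smul, algebraMap_smul]
      rw [this]
      exact Submodule.smul_mem _ _ hx
  have hspanK : Submodule.span K (Set.range fun k => (1 : K) ⊗ₜ[A] g k) = ⊤ := by
    rw [eq_top_iff]
    rintro x -
    induction x using TensorProduct.induction_on with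
    | zero => exact zero_mem _
    | add x y hx hy => exact add_mem hx hy
    | tmul c e =>
      have hce : c ⊗ₜ[A] e = c • ((1 : K) ⊗ₜ[A] e) := by
        rw [TensorProduct.smul_tmul', smul_eq_mul, mul_one]
      rw [hce]
      exact Submodule.smul_mem _ _ (hone_mem e)
  let G : Matrix (Module.Free.ChooseBasisIndex K (TensorProduct A K E)) (Fin m) K :=
    fun i k => b.repr ((1 : K) ⊗ₜ[A] g k) i
  -- a right inverse of `G`
  have hH : ∀ i, ∃ c : Fin m → K, ∑ k, c k • ((1 : K) ⊗ₜ[A] g k) = b i := by
    intro i
    have : b i ∈ Submodule.span K (Set.range fun k => (1 : K) ⊗ₜ[A] g k) := hspanK ▸ Submodule.mem_top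
    exact (Submodule.mem_span_range_iff_exists_fun K).mp this
  choose H hH using hH
  have hGH : G * (Matrix.of fun k i => H i k) = 1 := by
    ext i i'
    rw [Matrix.mul_apply]
    have h1 : ∑ k, G i k * (Matrix.of fun k i => H i k) k i'
        = b.repr (∑ k, H i' k • ((1 : K) ⊗ₜ[A] g k)) i := by
      rw [map_sum, Finsupp.coe_finsetSum, Finset.sum_apply]
      refine Finset.sum_congr rfl fun k _ => ?_
      rw [map_smul, Finsupp.smul_apply, smul_eq_mul, mul_comm]
      rfl
    rw [h1, hH, Module.Basis.repr_self, Matrix.one_apply, Finsupp.single_apply]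
    simp only [eq_comm]
  have hone : ∑ f : Module.Free.ChooseBasisIndex K (TensorProduct A K E) → Fin m,
      (∏ k, (Matrix.of fun k i => H i k) (f k) k) * (G.submatrix id f).det = 1 := by
    rw [← det_mul_expand, hGH, Matrix.det_one]
  -- the lattices
  let L : Submodule A K := minorLattice A G
  let O : Subalgebra A K :=
    { carrier := {c | ∀ ℓ ∈ L, c * ℓ ∈ L}
      mul_mem' := fun {c d} hc hd ℓ hℓ => by rw [mul_assoc]; exact hc _ (hd _ hℓ)
      add_mem' := fun {c d} hc hd ℓ hℓ => by rw [add_mul]; exact add_mem (hc _ hℓ) (hd _ hℓ)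
      algebraMap_mem' := fun r ℓ hℓ => by rw [← Algebra.smul_def]; exact L.smul_mem r hℓ }
  let L' : Submodule A K := Submodule.span A (Set.range
    fun ff : (Module.Free.ChooseBasisIndex K (TensorProduct A K E) → Fin m) ×
        (Module.Free.ChooseBasisIndex K (TensorProduct A K E) → Fin m) =>
      (∏ k, (Matrix.of fun k i => H i k) (ff.1 k) k) * (G.submatrix id ff.2).det)
  have hL' : L'.FG := Submodule.fg_span (Set.finite_range _)
  have hOL' : Subalgebra.toSubmodule O ≤ L' := by
    intro c hc
    have hc' : ∀ ℓ ∈ L, c * ℓ ∈ L := hc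
    have h1 : c = ∑ f : Module.Free.ChooseBasisIndex K (TensorProduct A K E) → Fin m,
        (∏ k, (Matrix.of fun k i => H i k) (f k) k) * (c * (G.submatrix id f).det) := by
      calc c = c * 1 := (mul_one c).symm
        _ = _ := by
          rw [← hone, Finset.mul_sum]
          refine Finset.sum_congr rfl fun f _ => ?_
          ring
    rw [h1]
    refine Submodule.sum_mem _ fun f _ => ?_
    have h2 : c * (G.submatrix id f).det ∈ L := hc' _ (Submodule.subset_span ⟨f, rfl⟩)
    generalize c * (G.submatrix id f).det = ℓ at h2
    induction h2 using Submodule.span_induction with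
    | mem ℓ hℓ =>
      obtain ⟨f', rfl⟩ := hℓ
      exact Submodule.subset_span ⟨(f, f'), rfl⟩
    | zero => rw [mul_zero]; exact zero_mem _
    | add x y _ _ hx hy => rw [mul_add]; exact add_mem hx hy
    | smul a x _ hx => rw [mul_smul_comm]; exact Submodule.smul_mem _ _ hx
  have hBO : Algebra.adjoin A {c : K | ∃ (v : E →ₗ[A] E) (j : ℕ),
      c = ((v.baseChange K).charpoly).coeff j} ≤ O := by
    refine Algebra.adjoin_le ?_
    rintro c ⟨v, j, rfl⟩
    -- a matrix of `v` on the generators
    have ha : ∀ k, ∃ c : Fin m → A, ∑ l, c l • g l = v (g k) := by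
      intro k
      have : v (g k) ∈ Submodule.span A (Set.range g) := hg ▸ Submodule.mem_top
      exact (Submodule.mem_span_range_iff_exists_fun A).mp this
    choose a ha using ha
    have hVG : LinearMap.toMatrix b b (v.baseChange K) * G
        = G * (Matrix.of fun l k => a k l).map (algebraMap A K) := by
      ext i k
      have h1 : (LinearMap.toMatrix b b (v.baseChange K) * G) i k
          = (LinearMap.toMatrix b b (v.baseChange K) *ᵥ (b.repr ((1 : K) ⊗ₜ[A] g k))) i := rfl
      rw [h1, LinearMap.toMatrix_mulVec_repr, LinearMap.baseChange_tmul, ← ha k,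
        TensorProduct.tmul_sum, map_sum, Finsupp.coe_finsetSum, Finset.sum_apply,
        Matrix.mul_apply]
      refine Finset.sum_congr rfl fun l _ => ?_
      rw [TensorProduct.tmul_smul, ← algebraMap_smul K (a k l), map_smul, Finsupp.smul_apply,
        smul_eq_mul, mul_comm]
      rfl
    rw [← LinearMap.charpoly_toMatrix (v.baseChange K) b]
    intro ℓ hℓ
    induction hℓ using Submodule.span_induction with
    | mem ℓ hℓ =>
      obtain ⟨f, rfl⟩ := hℓ
      exact coeff_charpoly_mul_minor_mem _ G _ hVG j f
    | zero => rw [mul_zero]; exact zero_mem _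
    | add x y _ _ hx hy => rw [mul_add]; exact add_mem hx hy
    | smul r x _ hx => rw [mul_smul_comm]; exact Submodule.smul_mem _ _ hx
  have : IsNoetherian A L' := isNoetherian_of_fg_of_noetherian _ hL'
  exact Submodule.FG.of_le_of_isNoetherian
    (le_trans (Subalgebra.toSubmodule.monotone hBO) hOL')

end Module

end Groth.Agent.H3.MinorExp
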