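import Groth.Prelude.Def_ModSt
import Groth.Agent.Lib.Helper3.StackMore
import Groth.Agent.Lib.Lead.QC.FlatBC
import Groth.Agent.Lib.Lead.QC.Pullback
import Groth.Agent.Lib.Helper3.ArtFlat.Fam2

set_option autoImplicit false

universe u

open CategoryTheory CategoryTheory.Limits AlgebraicGeometry Opposite

namespace Groth.Agent.H3.ModStFib

open ModSt

section Cart

variable {Y Z W : Scheme.{u}}

/-- the unit of the pullback-pushforward adjunction is a cartesian comparison map -/
theorem isCart_unit (h : Y ⟶ Z) (N : Z.Modules) :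
    IsCart h ((Scheme.Modules.pullbackPushforwardAdjunction h).unit.app N) := by
  intro M'
  have heq : (fun v : (Scheme.Modules.pullback h).obj N ⟶ M' =>
      (Scheme.Modules.pullbackPushforwardAdjunction h).unit.app N ≫
        (Scheme.Modules.pushforward h).map v) =
      ((Scheme.Modules.pullbackPushforwardAdjunction h).homEquiv N M') := by
    funext v
    exact ((Scheme.Modules.pullbackPushforwardAdjunction h).homEquiv_unit N M' v).symm
  rw [heq]
  exact Equiv.bijective _

/-- a cartesian comparison map identifies the source with the pullback -/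
theorem isIso_adjunct_of_isCart {h : Y ⟶ Z} {N : Z.Modules} {M : Y.Modules}
    {c : N ⟶ (Scheme.Modules.pushforward h).obj M} (hc : IsCart h c) :
    IsIso (((Scheme.Modules.pullbackPushforwardAdjunction h).homEquiv N M).symm c) := by
  rw [isIso_iff_coyoneda_map_bijective]
  intro T
  have heq : (fun x : M ⟶ T =>
      ((Scheme.Modules.pullbackPushforwardAdjunction h).homEquiv N M).symm c ≫ x) =
      ((Scheme.Modules.pullbackPushforwardAdjunction h).homEquiv N T).symm ∘
        (fun v : M ⟶ T => c ≫ (Scheme.Modules.pushforward h).map v) := by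
    funext x
    simp only [Function.comp_apply]
    rw [Adjunction.homEquiv_naturality_right_symm]
  rw [heq]
  exact (Equiv.bijective _).comp (hc T)

/-- the isomorphism `h^* N ≅ M` attached to a cartesian comparison map -/
noncomputable def isoOfIsCart {h : Y ⟶ Z} {N : Z.Modules} {M : Y.Modules}
    {c : N ⟶ (Scheme.Modules.pushforward h).obj M} (hc : IsCart h c) :
    (Scheme.Modules.pullback h).obj N ≅ M :=
  haveI := isIso_adjunct_of_isCart hc
  asIso (((Scheme.Modules.pullbackPushforwardAdjunction h).homEquiv N M).symm c)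

/-- two-out-of-three for cartesian comparison maps: a cartesian map along `h₁ ≫ h₂` factors
uniquely through a cartesian map along `h₂`, and the factor is cartesian. -/
theorem existsUnique_cart_fac {h₁ : Y ⟶ Z} {h₂ : Z ⟶ W} {P : W.Modules} {N : Z.Modules}
    {M : Y.Modules} {c₂ : P ⟶ (Scheme.Modules.pushforward h₂).obj N} (hc₂ : IsCart h₂ c₂)
    {c' : P ⟶ (Scheme.Modules.pushforward (h₁ ≫ h₂)).obj M} (hc' : IsCart (h₁ ≫ h₂) c') :
    ∃! c₁ : N ⟶ (Scheme.Modules.pushforward h₁).obj M, IsCart h₁ c₁ ∧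
      c₂ ≫ (Scheme.Modules.pushforward h₂).map c₁ ≫
        (Scheme.Modules.pushforwardComp h₁ h₂).hom.app M = c' := by
  obtain ⟨c₁, hc₁⟩ := (hc₂ ((Scheme.Modules.pushforward h₁).obj M)).surjective
    (c' ≫ (Scheme.Modules.pushforwardComp h₁ h₂).inv.app M)
  have hc₁0 : c₂ ≫ (Scheme.Modules.pushforward h₂).map c₁ =
      c' ≫ (Scheme.Modules.pushforwardComp h₁ h₂).inv.app M := hc₁
  have hc₁' : c₂ ≫ (Scheme.Modules.pushforward h₂).map c₁ ≫
      (Scheme.Modules.pushforwardComp h₁ h₂).hom.app M = c' := by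
    rw [← Category.assoc, hc₁0, Category.assoc, Iso.inv_hom_id_app, Category.comp_id]
  refine ⟨c₁, ⟨?_, hc₁'⟩, ?_⟩
  · intro M'
    have heq : (fun v : M ⟶ M' => (c₂ ≫ (Scheme.Modules.pushforward h₂).map c₁ ≫
        (Scheme.Modules.pushforwardComp h₁ h₂).hom.app M) ≫
          (Scheme.Modules.pushforward (h₁ ≫ h₂)).map v) =
        ((Scheme.Modules.pushforwardComp h₁ h₂).app M').homToEquiv ∘
          (fun w : N ⟶ (Scheme.Modules.pushforward h₁).obj M' =>
            c₂ ≫ (Scheme.Modules.pushforward h₂).map w) ∘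
          (fun v : M ⟶ M' => c₁ ≫ (Scheme.Modules.pushforward h₁).map v) := by
      funext v
      simp only [Function.comp_apply, Iso.homToEquiv_apply, Iso.app_hom, Category.assoc,
        Functor.map_comp]
      rw [← (Scheme.Modules.pushforwardComp h₁ h₂).hom.naturality v]
      rfl
    have hcomp := hc' M'
    rw [← hc₁', heq] at hcomp
    have h2 := (Function.Bijective.of_comp_iff' (Equiv.bijective _) _).mp hcomp
    exact (Function.Bijective.of_comp_iff' (hc₂ _) _).mp h2
  · rintro c₁' ⟨-, h'⟩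
    apply (hc₂ _).injective
    change c₂ ≫ (Scheme.Modules.pushforward h₂).map c₁' =
      c₂ ≫ (Scheme.Modules.pushforward h₂).map c₁
    rw [hc₁0, ← h']
    simp only [Category.assoc, Iso.hom_inv_id_app, Functor.comp_obj, Category.comp_id]

end Cart

variable {X S : Scheme.{u}} {f : X ⟶ S}

/-- the pulled-back object along a morphism of bases -/
noncomputable def pbObj (x : Obj f) {V : Over S} (g : V ⟶ x.base) : Obj f where
  base := V
  XT := pullback x.q g.left
  p := pullback.fst x.q g.left ≫ x.p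
  q := pullback.snd x.q g.left
  isPullback := by
    have h1 : IsPullback (pullback.fst x.q g.left) (pullback.snd x.q g.left) x.q g.left :=
      IsPullback.of_hasPullback _ _
    have h2 := h1.paste_horiz x.isPullback
    rwa [Over.w g] at h2
  E := (Scheme.Modules.pullback (pullback.fst x.q g.left)).obj x.E

/-- the canonical morphism from the pulled-back object -/
noncomputable def pbHom (x : Obj f) {V : Over S} (g : V ⟶ x.base) : Obj.Hom (pbObj x g) x where
  base := g
  top := pullback.fst x.q g.left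
  w_p := rfl
  w_q := pullback.condition
  c := (Scheme.Modules.pullbackPushforwardAdjunction (pullback.fst x.q g.left)).unit.app x.E
  cart := isCart_unit _ _

theorem c_eq_of_mk_eq {A B : Obj f} {b : A.base ⟶ B.base} {t : A.XT ⟶ B.XT}
    {wp wp' : t ≫ B.p = A.p} {wq wq' : t ≫ B.q = A.q ≫ b.left}
    {c c' : B.E ⟶ (Scheme.Modules.pushforward t).obj A.E} {h : IsCart t c} {h' : IsCart t c'}
    (e : (⟨b, t, wp, wq, c, h⟩ : Obj.Hom A B) = ⟨b, t, wp', wq', c', h'⟩) : c = c' := by
  cases e; rfl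

theorem mk_comp_eq {z y x : Obj f} (g : z.base ⟶ y.base) (t : z.XT ⟶ y.XT)
    (wp' : t ≫ y.p = z.p) (wq' : t ≫ y.q = z.q ≫ g.left)
    (c₁ : y.E ⟶ (Scheme.Modules.pushforward t).obj z.E) (cart₁ : IsCart t c₁) (φ : y ⟶ x) :
    ((⟨g, t, wp', wq', c₁, cart₁⟩ : Obj.Hom z y) : z ⟶ y) ≫ φ =
      (⟨g ≫ φ.base, t ≫ φ.top, by rw [Category.assoc, φ.w_p, wp'],
        by rw [Category.assoc, φ.w_q, reassoc_of% wq']; simp,
        φ.c ≫ (Scheme.Modules.pushforward φ.top).map c₁ ≫
          (Scheme.Modules.pushforwardComp t φ.top).hom.app z.E,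
        IsCart.comp cart₁ φ.cart⟩ : Obj.Hom z x) := rfl

theorem sc_aux2 {y x z : Obj f} (φ : y ⟶ x) (g : z.base ⟶ y.base) (ψ : z ⟶ x)
    (hb : ψ.base = g ≫ φ.base) (t : z.XT ⟶ y.XT) (ht : t ≫ φ.top = ψ.top)
    (hp : t ≫ y.p = z.p) (hq : t ≫ y.q = z.q ≫ g.left) :
    ∃! χ : z ⟶ y, (Obj.forget f).IsHomLift g χ ∧ χ ≫ φ = ψ := by
  obtain ⟨b, T, wp, wq, c', cart'⟩ := ψ
  change b = g ≫ φ.base at hb
  change t ≫ φ.top = T at ht
  subst hb
  subst ht
  obtain ⟨c, ⟨hc1, hc2⟩, hcu⟩ := existsUnique_cart_fac φ.cart cart'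
  obtain ⟨χ, hχ⟩ : ∃ χ : z ⟶ y, χ = (⟨g, t, hp, hq, c, hc1⟩ : Obj.Hom z y) := ⟨_, rfl⟩
  refine ⟨χ, ⟨?_, ?_⟩, ?_⟩
  · have : (Obj.forget f).map χ = g := by rw [hχ]; rfl
    rw [← this]
    exact IsHomLift.map (Obj.forget f) χ
  · subst hχ
    exact Obj.Hom.ext' rfl rfl (fun U s => heq_of_eq (by
      have := congrArg (fun k => (k.app U) s) hc2
      exact this))
  · rintro χ' ⟨hl, he⟩
    have hg' : g = χ'.base := @IsHomLift.eq_of_isHomLift _ _ _ _ (Obj.forget f) z y g χ' hl
    obtain ⟨g', t', wp', wq', c₁, cart₁⟩ := χ'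
    change g = g' at hg'
    subst hg'
    have ht' : t' = t := by
      apply φ.isPullback_top.hom_ext
      · exact congrArg Obj.Hom.top he
      · rw [wq', hq]
    subst ht'
    rw [mk_comp_eq] at he
    have hc : c₁ = c := hcu c₁ ⟨cart₁, c_eq_of_mk_eq he⟩
    subst hc
    rw [hχ]

theorem isStronglyCartesian {y x : Obj f} (φ : y ⟶ x) :
    (Obj.forget f).IsStronglyCartesian ((Obj.forget f).map φ) φ where
  universal_property' := by
    intro z g ψ hψ
    have hb : ψ.base = g ≫ φ.base :=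
      (IsHomLift.eq_of_isHomLift (Obj.forget f) (g ≫ (Obj.forget f).map φ) ψ).symm
    have hpb := Obj.Hom.isPullback_top φ
    have hw : ψ.top ≫ x.q = (z.q ≫ g.left) ≫ φ.base.left := by
      rw [ψ.w_q, hb]; exact (Category.assoc _ _ _).symm
    obtain ⟨t, ht1, ht2⟩ : ∃ t, t ≫ φ.top = ψ.top ∧ t ≫ y.q = z.q ≫ g.left :=
      ⟨hpb.lift _ _ hw, hpb.lift_fst _ _ _, hpb.lift_snd _ _ _⟩
    have htp : t ≫ y.p = z.p := by rw [← φ.w_p, ← Category.assoc, ht1, ψ.w_p]
    exact sc_aux2 φ g ψ hb t ht1 htp ht2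

/-- the category of all modules on base changes is fibred in groupoids -/
theorem isFibGrpd_fam (f : X ⟶ S) : FibCat.IsFibGrpd (ModSt.Fam f).p where
  exists_lift := by
    intro x V g
    refine ⟨pbObj x g, pbHom x g, ?_⟩
    exact IsHomLift.map (Obj.forget f) (show pbObj x g ⟶ x from pbHom x g)
  isStronglyCartesian := fun φ => isStronglyCartesian φ

/-- finitely presented modules flat over the base are stable under pull-back -/
theorem isCohObj_of_hom {y x : Obj f} (φ : y ⟶ x) (hx : IsCohObj x) : IsCohObj y := by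
  obtain ⟨hflat, hfp⟩ := hx
  have e := isoOfIsCart φ.cart
  haveI : x.E.IsFinitePresentation := hfp
  haveI : x.E.IsQuasicoherent := inferInstance
  refine ⟨?_, ?_⟩
  · intro pt
    exact Groth.Agent.H3.ArtFlat.isFlatOverAt_of_iso y.q e pt
      (Groth.Agent.LD.QC.isFlatOverAt_pullback_of_isPullback φ.isPullback_top x.E pt (hflat _))
  · exact Groth.Agent.LD.QC.isFinitePresentation_of_iso e
      (Groth.Agent.LD.QC.isFinitePresentation_pullback φ.top x.E hfp)

/-- quasi-coherent modules flat over the base are stable under pull-back -/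
theorem isQCohObj_of_hom {y x : Obj f} (φ : y ⟶ x) (hx : IsQCohObj x) : IsQCohObj y := by
  obtain ⟨hflat, hqc⟩ := hx
  have e := isoOfIsCart φ.cart
  haveI : x.E.IsQuasicoherent := hqc
  refine ⟨?_, ?_⟩
  · intro pt
    exact Groth.Agent.H3.ArtFlat.isFlatOverAt_of_iso y.q e pt
      (Groth.Agent.LD.QC.isFlatOverAt_pullback_of_isPullback φ.isPullback_top x.E pt (hflat _))
  · exact Groth.Agent.LD.QC.qc_of_iso e
      (Groth.Agent.LD.QC.qc_pullback φ.top x.E)

theorem isFibGrpd_coh (f : X ⟶ S) : FibCat.IsFibGrpd (ModSt.Coh f).p :=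
  Groth.Agent.H3.StackMore.isFibGrpd_sub (𝒳 := ModSt.Fam f) (Q := IsCohObj) (isFibGrpd_fam f)
    (fun y _ φ hx => ⟨y, Iso.refl y, isCohObj_of_hom φ hx, by
      change (Obj.forget f).IsHomLift (𝟙 _) (𝟙 y)
      infer_instance⟩)

theorem isFibGrpd_qcoh (f : X ⟶ S) : FibCat.IsFibGrpd (ModSt.QCoh f).p :=
  Groth.Agent.H3.StackMore.isFibGrpd_sub (𝒳 := ModSt.Fam f) (Q := IsQCohObj) (isFibGrpd_fam f)
    (fun y _ φ hx => ⟨y, Iso.refl y, isQCohObj_of_hom φ hx, by
      change (Obj.forget f).IsHomLift (𝟙 _) (𝟙 y)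
      infer_instance⟩)

end Groth.Agent.H3.ModStFib
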