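import Mathlib
import Groth.Agent.Lib.Helper3.EtFib

set_option autoImplicit false
universe u
open AlgebraicGeometry CategoryTheory CategoryTheory.Limits IsLocalRing

namespace Groth.Agent.H3.MonoFib

section Local

variable {R S : Type u} [CommRing R] [CommRing S] [IsLocalRing R] [IsLocalRing S]
  (φ : R →+* S) [IsLocalHom φ]

/-- The canonical map `κ(R) → S / 𝔪_R S`. -/
noncomputable abbrev ψ : R ⧸ maximalIdeal R →+* S ⧸ (maximalIdeal R).map φ :=
  Ideal.quotientMap ((maximalIdeal R).map φ) φ Ideal.le_comap_map

theorem map_eq_of_bijective (h : Function.Bijective (ψ φ)) :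
    (maximalIdeal R).map φ = maximalIdeal S := by
  have hfield : IsField (S ⧸ (maximalIdeal R).map φ) :=
    (RingEquiv.ofBijective (ψ φ) h).symm.toMulEquiv.isField
      ((Ideal.Quotient.maximal_ideal_iff_isField_quotient _).1 (maximalIdeal.isMaximal R))
  have hmax : ((maximalIdeal R).map φ).IsMaximal := Ideal.Quotient.maximal_of_isField _ hfield
  exact IsLocalRing.eq_maximalIdeal hmax

theorem bijective_iff (H : (maximalIdeal R).map φ = maximalIdeal S) :
    Function.Bijective (ψ φ) ↔ Function.Bijective (ResidueField.map φ) := by
  let e : (S ⧸ (maximalIdeal R).map φ) ≃+* ResidueField S := Ideal.quotEquivOfEq H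
  have hcomp : ∀ t, e (ψ φ t) = ResidueField.map φ t := by
    intro t
    obtain ⟨r, rfl⟩ := Ideal.Quotient.mk_surjective t
    rfl
  have h1 : (ResidueField.map φ : ResidueField R → ResidueField S) = e ∘ (ψ φ) := by
    funext t
    exact (hcomp t).symm
  rw [h1]
  exact (Function.Bijective.of_comp_iff' e.bijective _).symm

/-- A ring hom between fields is bijective iff it is separable and purely inseparable. -/
theorem field_bijective_iff {K L : Type u} [Field K] [Field L] (ρ : K →+* L) :
    Function.Bijective ρ ↔
      ρ.IsPurelyInseparable ∧ (letI := ρ.toAlgebra; Algebra.IsSeparable K L) := by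
  letI := ρ.toAlgebra
  constructor
  · intro h
    refine ⟨?_, ?_⟩
    · change IsPurelyInseparable K L
      rw [isPurelyInseparable_iff]
      intro x
      obtain ⟨r, rfl⟩ := h.2 x
      exact ⟨isIntegral_algebraMap (R := K) (A := L) (x := r), fun _ => ⟨r, rfl⟩⟩
    · refine ⟨fun x => ?_⟩
      obtain ⟨r, rfl⟩ := h.2 x
      exact isSeparable_algebraMap (F := K) (K := L) r
  · rintro ⟨h1, h2⟩
    haveI : IsPurelyInseparable K L := h1
    haveI : Algebra.IsSeparable K L := h2
    exact IsPurelyInseparable.bijective_algebraMap_of_isSeparable K L

end Local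

theorem main {X Y : Scheme.{u}} (f : X ⟶ Y) [LocallyOfFiniteType f] :
    Mono f ↔ ∀ x : ↥X,
      (∀ x' : ↥X, f.base x' = f.base x → x' = x) ∧
        Function.Bijective
          (Ideal.quotientMap
            ((IsLocalRing.maximalIdeal ↑(Y.presheaf.stalk (f.base x))).map (f.stalkMap x).hom)
            (f.stalkMap x).hom Ideal.le_comap_map) := by
  -- separability of residue field extension in terms of `ResidueField.map`
  have hsep : ∀ x : X, (f.stalkMap x).hom.FormallyUnramified →
      (letI := (ResidueField.map (f.stalkMap x).hom).toAlgebra
       Algebra.IsSeparable (ResidueField (Y.presheaf.stalk (f x)))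
        (ResidueField (X.presheaf.stalk x))) := by
    intro x hx
    algebraize [(f.stalkMap x).hom]
    have : IsLocalHom (algebraMap (Y.presheaf.stalk (f x)) (X.presheaf.stalk x)) :=
      inferInstanceAs <| IsLocalHom (f.stalkMap x).hom
    have : Algebra.EssFiniteType (Y.presheaf.stalk (f x)) (X.presheaf.stalk x) := by
      rw [← RingHom.essFiniteType_algebraMap, RingHom.algebraMap_toAlgebra]
      exact LocallyOfFiniteType.stalkMap f x
    have h : Algebra.IsSeparable (ResidueField (Y.presheaf.stalk (f x)))
        (ResidueField (X.presheaf.stalk x)) := inferInstance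
    convert! h
    refine Algebra.algebra_ext _ _ fun t => ?_
    obtain ⟨t, rfl⟩ := IsLocalRing.residue_surjective t
    rfl
  constructor
  · intro hmono x
    haveI : UniversallyInjective f := inferInstance
    refine ⟨fun x' hx' => f.injective hx', ?_⟩
    haveI : IsIso (pullback.diagonal f) := (pullback.isIso_diagonal_iff f).2 hmono
    haveI : FormallyUnramified f := inferInstance
    have hu : (f.stalkMap x).hom.FormallyUnramified := FormallyUnramified.stalkMap f x
    have H : (maximalIdeal (Y.presheaf.stalk (f x))).map (f.stalkMap x).hom =
        maximalIdeal (X.presheaf.stalk x) := by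
      algebraize [(f.stalkMap x).hom]
      have : IsLocalHom (algebraMap (Y.presheaf.stalk (f x)) (X.presheaf.stalk x)) :=
        inferInstanceAs <| IsLocalHom (f.stalkMap x).hom
      have : Algebra.EssFiniteType (Y.presheaf.stalk (f x)) (X.presheaf.stalk x) := by
        rw [← RingHom.essFiniteType_algebraMap, RingHom.algebraMap_toAlgebra]
        exact LocallyOfFiniteType.stalkMap f x
      exact Algebra.FormallyUnramified.map_maximalIdeal
        (R := Y.presheaf.stalk (f x)) (S := X.presheaf.stalk x)
    refine (bijective_iff (f.stalkMap x).hom H).2 ?_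
    rw [field_bijective_iff]
    refine ⟨?_, hsep x hu⟩
    have h02 := (tfae_universallyInjective f).out 0 2
    exact (h02.1 inferInstance).2 x
  · intro h
    have hinj : Function.Injective f := fun a b hab => (h b).1 a hab
    have Hx : ∀ x : X, (maximalIdeal (Y.presheaf.stalk (f x))).map (f.stalkMap x).hom =
        maximalIdeal (X.presheaf.stalk x) := fun x => map_eq_of_bijective _ (h x).2
    have hbij : ∀ x : X, Function.Bijective (ResidueField.map (f.stalkMap x).hom) :=
      fun x => (bijective_iff (f.stalkMap x).hom (Hx x)).1 (h x).2
    have hfu : FormallyUnramified f := by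
      rw [EtFib.formallyUnramified_iff_stalks]
      intro x
      algebraize [(f.stalkMap x).hom]
      have : IsLocalHom (algebraMap (Y.presheaf.stalk (f x)) (X.presheaf.stalk x)) :=
        inferInstanceAs <| IsLocalHom (f.stalkMap x).hom
      have : Algebra.EssFiniteType (Y.presheaf.stalk (f x)) (X.presheaf.stalk x) := by
        rw [← RingHom.essFiniteType_algebraMap, RingHom.algebraMap_toAlgebra]
        exact LocallyOfFiniteType.stalkMap f x
      haveI : Algebra.IsSeparable (ResidueField (Y.presheaf.stalk (f x)))
          (ResidueField (X.presheaf.stalk x)) := by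
        have := ((field_bijective_iff _).1 (hbij x)).2
        convert! this
        refine Algebra.algebra_ext _ _ fun t => ?_
        obtain ⟨t, rfl⟩ := IsLocalRing.residue_surjective t
        rfl
      exact Algebra.FormallyUnramified.of_map_maximalIdeal
        (R := Y.presheaf.stalk (f x)) (S := X.presheaf.stalk x) (Hx x)
    have hui : UniversallyInjective f := by
      have h02 := (tfae_universallyInjective f).out 0 2
      refine h02.2 ⟨hinj, fun x => ?_⟩
      exact ((field_bijective_iff _).1 (hbij x)).1
    haveI : IsOpenImmersion (pullback.diagonal f) := inferInstance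
    haveI : Surjective (pullback.diagonal f) := (UniversallyInjective.iff_diagonal f).1 hui
    haveI : IsIso (pullback.diagonal f) :=
      (isIso_iff_isOpenImmersion_and_surjective _).2 ⟨inferInstance, inferInstance⟩
    exact (pullback.isIso_diagonal_iff f).1 inferInstance

end Groth.Agent.H3.MonoFib
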