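import Mathlib
import Groth.Agent.Lib.Helper3.AlgSt.NoethQC
import Groth.Agent.Lib.Helper3.MonoFull
import Groth.Agent.Lib.Helper3.RepFaithful
import Groth.Agent.Lib.Helper3.AlgSt.LocEssSurj
import Groth.Agent.Lib.Helper3.AlgSt.PropFacts
import Groth.Agent.Lib.Helper3.AlgSpCov.IsoBase
import Groth.Agent.Lib.Helper3.PointsFp
import Groth.Agent.Lib.Helper3.AlgSt.Points.Surj
import Groth.Agent.Lib.Helper3.FFPostcomp

/-!
# Monomorphisms into a stack covered by the spectrum of a field (helper3)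

A monomorphism of algebraic stacks `𝒵' ⟶ 𝒵`, where `𝒵` receives an fppf covering from the spectrum
of a field, is an equivalence as soon as `𝒵'` has a point.
-/

set_option autoImplicit false
universe u
open CategoryTheory CategoryTheory.Functor CategoryTheory.Limits Opposite AlgebraicGeometry

noncomputable section

namespace Groth.Agent.H3.MonoField

open Groth.Agent.H3.FibCatAux Groth.Agent.H3.GerbAux Groth.Agent.H3.FpCalc Groth.Agent.H3.TwoCart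
  Groth.Agent.H3.StackPsh Groth.Agent.H3.PshBridge Groth.Agent.H3.AlgStAux Groth.Agent.H3.RepBridge
  Groth.Agent.H3.Whisker Groth.Agent.H3.FPtRel Groth.Agent.H3.AlgStPoints
  Groth.Agent.H3.AlgStBridge2 Groth.Agent.H3.AlgStCharts Groth.Agent.H3.BaseChangeSp
  Groth.Agent.H3.AlgStComp Groth.Agent.H3.AlgStProps Groth.Agent.H3.AlgStDescent
  Groth.Agent.H3.AlgStLES Groth.Agent.H3.AlgSpCov
open AlgSp

variable {S : Scheme.{u}} {𝒳 𝒴 : AlgSt.Cat S}

/-- being an isomorphism is a good property of morphisms of algebraic spaces -/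
theorem good_isomorphisms : Good (MorphismProperty.isomorphisms (Sp S)) where
  bc := fun _ _ _ _ _ _ _ _ _ _ _ _ sq ha =>
    (MorphismProperty.isomorphisms (Sp S)).of_isPullback sq ha
  comp := fun _ _ _ _ _ _ a b ha hb => (MorphismProperty.isomorphisms (Sp S)).comp_mem a b ha hb
  loc := isLocalOnBase_fppf_of_fpqc isLocalOnBase_fpqc_isomorphisms

/-- if the base change of `f` to a chart `t` is (represented by) an isomorphism, then `t` lifts
through `f` -/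
theorem exists_lift_of_isIso (f : 𝒴 ⥤ᵇ 𝒳) {T : Over S} (t : FibCat.overCat T ⥤ᵇ 𝒳)
    (F : AlgSp.Space S) (e : AlgSt.ofSp F.obj ⥤ᵇ FibCat.fp t f)
    (hiso : IsIso (AlgSt.spMapOfOver (BasedFunctor.comp e (FibCat.fpFst t f)))) :
    ∃ y : FibCat.overCat T ⥤ᵇ 𝒴, Nonempty (BasedFunctor.comp y f ≅ t) := by
  obtain ⟨m, hmdef⟩ : ∃ m, m = AlgSt.spMapOfOver (BasedFunctor.comp e (FibCat.fpFst t f)) :=
    ⟨_, rfl⟩
  rw [← hmdef] at hiso
  obtain ⟨ι⟩ := projIso (BasedFunctor.comp e (FibCat.fpFst t f))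
  rw [← hmdef] at ι
  -- the lift
  let Ψ : FibCat.overCat T ⥤ᵇ FibCat.fp t f :=
    BasedFunctor.comp (ofOver T) (BasedFunctor.comp (AlgSt.ofSpMap (inv m)) e)
  refine ⟨BasedFunctor.comp Ψ (FibCat.fpSnd t f), ⟨?_⟩⟩
  have i1 : BasedFunctor.comp (BasedFunctor.comp Ψ (FibCat.fpSnd t f)) f ≅
      BasedFunctor.comp (BasedFunctor.comp Ψ (FibCat.fpFst t f)) t :=
    whiskerL Ψ (FibCat.fpIso t f).symm
  have i2 : BasedFunctor.comp Ψ (FibCat.fpFst t f) ≅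
      BasedFunctor.comp (BasedFunctor.comp (ofOver T) (AlgSt.ofSpMap (inv m)))
        (projOf m.hom) :=
    whiskerL (BasedFunctor.comp (ofOver T) (AlgSt.ofSpMap (inv m))) ι
  have h3 : BasedFunctor.comp (BasedFunctor.comp (ofOver T) (AlgSt.ofSpMap (inv m)))
      (projOf m.hom) = BasedFunctor.id _ := by
    have h4 : BasedFunctor.comp (AlgSt.ofSpMap (inv m)) (AlgSt.ofSpMap m) = BasedFunctor.id _ := by
      show BasedFunctor.comp (Stk.ofPshMap (inv m).hom) (Stk.ofPshMap m.hom) = _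
      rw [← ofPshMap_comp]
      have : (inv m).hom ≫ m.hom = 𝟙 _ := by
        have := IsIso.inv_hom_id m
        exact congrArg (fun k => k.hom) this
      rw [this, ofPshMap_id]
    exact congrArg (fun Φ : AlgSt.ofSp ((AlgSp.yon S).obj T) ⥤ᵇ
        AlgSt.ofSp ((AlgSp.yon S).obj T) =>
      BasedFunctor.comp (ofOver T) (BasedFunctor.comp Φ (toOver T))) h4
  exact i1 ≪≫ whiskerR (i2 ≪≫ eqToIso h3) t

/-- a monomorphism whose base changes are all isomorphisms is an equivalence -/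
theorem isEquivOver_of_rep_iso (h𝒴 : FibCat.IsFibGrpd 𝒴.p) (h𝒳 : FibCat.IsFibGrpd 𝒳.p)
    (f : 𝒴 ⥤ᵇ 𝒳) (hf : AlgSt.IsMono f)
    (hB : AlgSt.RepByAlgSpWith (MorphismProperty.isomorphisms (Sp S)) f) :
    FibCat.IsEquivOver f := by
  rw [X5139]
  refine ⟨⟨Groth.Agent.H3.MonoFull.full_of_isMono h𝒴 h𝒳 f hf,
    Groth.Agent.H3.RepFaithful.faithful_of_repByAlgSp1 h𝒴 h𝒳 f
      (repByAlgSp1_of_repByAlgSpWith hf)⟩, ?_⟩
  intro η
  obtain ⟨ŷ, i, j, hi, hj, e1, e2⟩ := Groth.Agent.H3.FFPostcomp.exists_rep h𝒳 η rfl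
  obtain ⟨G, e', he', hiso'⟩ := hB (𝒳.p.obj η) ŷ
  obtain ⟨y, ⟨ι⟩⟩ := exists_lift_of_isIso f ŷ G e' hiso'
  have h1 : 𝒳.p.IsHomLift (𝟙 (𝒳.p.obj η)) (appIso ι (Over.mk (𝟙 (𝒳.p.obj η)))).hom :=
    appIso_hom_isHomLift ι (Over.mk (𝟙 (𝒳.p.obj η))) rfl
  refine ⟨y.obj (Over.mk (𝟙 (𝒳.p.obj η))),
    appIso ι (Over.mk (𝟙 (𝒳.p.obj η))) ≪≫ ⟨i, j, e1, e2⟩, ?_⟩
  show 𝒳.p.IsHomLift (𝟙 (𝒳.p.obj η)) ((appIso ι (Over.mk (𝟙 (𝒳.p.obj η)))).hom ≫ i)
  haveI := h1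
  haveI := hi
  infer_instance

/-- **Main theorem** (S16807) -/
theorem main {𝒵' 𝒵 : AlgSt.Cat S} (h𝒵' : AlgSt.IsAlgStack Scheme.fppfPrecoverage 𝒵')
    (h𝒵 : AlgSt.IsAlgStack Scheme.fppfPrecoverage 𝒵) (f : 𝒵' ⥤ᵇ 𝒵) (hf : AlgSt.IsMono f)
    (k : Type u) [Field k] (a : Spec (CommRingCat.of k) ⟶ S)
    (z : FibCat.overCat (Over.mk a) ⥤ᵇ 𝒵)
    (hzp : AlgSt.RepByAlgSpWith (AlgSp.LocP @LocallyOfFinitePresentation) z)
    (hzs : AlgSt.RepByAlgSpWith AlgSp.IsSurjectiveMor z)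
    (hzf : AlgSt.RepByAlgSpWith (AlgSp.LocP @Flat) z) :
    IsEmpty (AlgSt.Points 𝒵') ∨ FibCat.IsEquivOver f := by
  have g𝒵' := h𝒵'.isStack.1
  have g𝒵 := h𝒵.isStack.1
  by_cases hemp : IsEmpty (AlgSt.Points 𝒵')
  · exact Or.inl hemp
  right
  rw [not_isEmpty_iff] at hemp
  obtain ⟨p'⟩ := hemp
  obtain ⟨u, hu⟩ := isSurjective_of_rep g𝒵 z hzs (AlgSt.Points.map f p')
  obtain ⟨w, -, -⟩ := exists_point_fp g𝒵' g𝒵 (isFibGrpd_overCat _) f z u p' hu
  obtain ⟨F, e, he, hm⟩ := hf (Over.mk a) z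
  obtain ⟨m, hmdef⟩ : ∃ m, m = AlgSt.spMapOfOver (BasedFunctor.comp e (FibCat.fpFst z f)) :=
    ⟨_, rfl⟩
  rw [← hmdef] at hm
  have hmono : Mono m := hm
  obtain ⟨w', -⟩ := isSurjective_of_isEquivOver e he w
  obtain ⟨x', -⟩ := ptOf_surjective w'
  have hiso : IsIso m := Groth.Agent.H5.AlgSp.isIso_of_mono_to_field F.property a m ⟨x'⟩
  have hA : AlgSt.RepByAlgSpWith (MorphismProperty.isomorphisms (Sp S)) (FibCat.fpFst z f) := by
    rw [← repByAlgSpWith_comp_equiv_iff _ e he,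
      repByAlgSpWith_iff_spMapOfOver _ good_isomorphisms.bc good_isomorphisms.toC.charts F,
      ← hmdef]
    exact hiso
  have hB : AlgSt.RepByAlgSpWith (MorphismProperty.isomorphisms (Sp S)) f :=
    repByAlgSpWith_descent _ good_isomorphisms.bc good_isomorphisms.loc f
      (repByAlgSp1_of_repByAlgSpWith hf) z (les_of_fppf z hzf hzp hzs) hA
  exact isEquivOver_of_rep_iso g𝒵' g𝒵 f hf hB

end Groth.Agent.H3.MonoField
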