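import Mathlib

/-!
# Modules over simple Artinian rings are classified by their length
-/

set_option autoImplicit false
universe u v w

namespace Groth.Agent.H3.Mor

section SimpleArtinian

variable (B : Type u) [Ring B] [IsSimpleRing B] [IsArtinianRing B]

/-- Any two simple modules over a simple Artinian ring are isomorphic. -/
theorem simple_linearEquiv (S₁ : Type v) (S₂ : Type w) [AddCommGroup S₁] [Module B S₁] [AddCommGroup S₂]
    [Module B S₂] [IsSimpleModule B S₁] [IsSimpleModule B S₂] : Nonempty (S₁ ≃ₗ[B] S₂) := by
  have hiso := IsSimpleRing.isIsotypic B (S₁ × S₂)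
  let e₁ : S₁ ≃ₗ[B] LinearMap.range (LinearMap.inl B S₁ S₂) :=
    LinearEquiv.ofInjective _ LinearMap.inl_injective
  let e₂ : S₂ ≃ₗ[B] LinearMap.range (LinearMap.inr B S₁ S₂) :=
    LinearEquiv.ofInjective _ LinearMap.inr_injective
  haveI : IsSimpleModule B (LinearMap.range (LinearMap.inl B S₁ S₂)) := IsSimpleModule.congr e₁.symm
  haveI : IsSimpleModule B (LinearMap.range (LinearMap.inr B S₁ S₂)) := IsSimpleModule.congr e₂.symm
  obtain ⟨e⟩ := hiso (LinearMap.range (LinearMap.inr B S₁ S₂))
    (LinearMap.range (LinearMap.inl B S₁ S₂))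
  exact ⟨e₁.trans (e.trans e₂.symm)⟩

/-- Finite modules over a simple Artinian ring with the same length are isomorphic. -/
theorem linearEquiv_of_length_eq (V : Type v) (W : Type w) [AddCommGroup V] [Module B V] [AddCommGroup W]
    [Module B W] [Module.Finite B V] [Module.Finite B W]
    (h : Module.length B V = Module.length B W) : Nonempty (V ≃ₗ[B] W) := by
  rcases subsingleton_or_nontrivial V with hV | hV
  · have hW : Subsingleton W := by
      rw [← Module.length_eq_zero_iff (R := B), ← h, Module.length_eq_zero_iff]
      exact hV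
    exact ⟨LinearEquiv.ofSubsingleton V W⟩
  · have hW : Nontrivial W := by
      rw [← Module.length_pos_iff (R := B), ← h, Module.length_pos_iff]
      exact hV
    obtain ⟨a, _, SV, hSV, ⟨eV⟩⟩ := (IsSimpleRing.isIsotypic B V).linearEquiv_fun
    obtain ⟨b, _, SW, hSW, ⟨eW⟩⟩ := (IsSimpleRing.isIsotypic B W).linearEquiv_fun
    have hlV : Module.length B V = a := by
      rw [eV.length_eq, Module.length_pi, Module.length_eq_one, mul_one]
      simp
    have hlW : Module.length B W = b := by
      rw [eW.length_eq, Module.length_pi, Module.length_eq_one, mul_one]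
      simp
    have hab : a = b := by
      rw [hlV, hlW] at h
      exact_mod_cast h
    subst hab
    obtain ⟨eS⟩ := simple_linearEquiv B SV SW
    exact ⟨eV.trans ((LinearEquiv.piCongrRight fun _ => eS).trans eW.symm)⟩

end SimpleArtinian

end Groth.Agent.H3.Mor
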