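import Mathlib
import Groth.Agent.Lib.Helper3.MorA

/-!
# Modules killed by the Jacobson radical of a strongly local ring
-/

set_option autoImplicit false
universe u v w

namespace Groth.Agent.H3.Mor

section Alevel

variable (A : Type u) [Ring A] [IsSimpleRing (A ⧸ Ring.jacobson A)]
  [IsArtinianRing (A ⧸ Ring.jacobson A)]

/-- Finite `A`-modules killed by the Jacobson radical and of the same length are isomorphic. -/
theorem linearEquiv_of_torsion_of_length_eq (M : Type v) (N : Type w) [AddCommGroup M] [Module A M]
    [AddCommGroup N] [Module A N] [Module.Finite A M] [Module.Finite A N]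
    (hM : Module.IsTorsionBySet A M (Ring.jacobson A : Set A))
    (hN : Module.IsTorsionBySet A N (Ring.jacobson A : Set A))
    (h : Module.length A M = Module.length A N) : Nonempty (M ≃ₗ[A] N) := by
  letI := hM.module
  letI := hN.module
  haveI : Module.Finite (A ⧸ Ring.jacobson A) M := Module.Finite.of_restrictScalars_finite A _ _
  haveI : Module.Finite (A ⧸ Ring.jacobson A) N := Module.Finite.of_restrictScalars_finite A _ _
  have h1 : Module.length (A ⧸ Ring.jacobson A) M = Module.length A M := by
    apply WithBot.coe_injective
    rw [Module.coe_length, Module.coe_length]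
    exact (Order.krullDim_eq_of_orderIso
      (Submodule.orderIsoMapComapOfBijective hM.semilinearMap Function.bijective_id)).symm
  have h2 : Module.length (A ⧸ Ring.jacobson A) N = Module.length A N := by
    apply WithBot.coe_injective
    rw [Module.coe_length, Module.coe_length]
    exact (Order.krullDim_eq_of_orderIso
      (Submodule.orderIsoMapComapOfBijective hN.semilinearMap Function.bijective_id)).symm
  obtain ⟨e⟩ := linearEquiv_of_length_eq (A ⧸ Ring.jacobson A) M N (by rw [h1, h2, h])
  exact ⟨e.restrictScalars A⟩

/-- A simple module is killed by the Jacobson radical. -/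
theorem isTorsionBySet_of_isSimpleModule (S : Type v) [AddCommGroup S] [Module A S]
    [IsSimpleModule A S] : Module.IsTorsionBySet A S (Ring.jacobson A : Set A) := by
  intro x a
  have h1 : Module.jacobson A S = ⊥ := by
    unfold Module.jacobson
    apply le_bot_iff.mp
    apply sInf_le
    exact isCoatom_bot
  have h2 := Ring.jacobson_smul_top_le A S
  rw [h1, le_bot_iff] at h2
  have h3 : (a : A) • x ∈ Ring.jacobson A • (⊤ : Submodule A S) :=
    Submodule.smul_mem_smul a.2 Submodule.mem_top
  rw [h2] at h3
  exact h3

/-- Any two simple `A`-modules are isomorphic. -/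
theorem simple_linearEquiv' (S₁ : Type v) (S₂ : Type w) [AddCommGroup S₁] [Module A S₁] [AddCommGroup S₂]
    [Module A S₂] [IsSimpleModule A S₁] [IsSimpleModule A S₂] : Nonempty (S₁ ≃ₗ[A] S₂) := by
  haveI : Module.Finite A S₁ := inferInstance
  haveI : Module.Finite A S₂ := inferInstance
  exact linearEquiv_of_torsion_of_length_eq A S₁ S₂ (isTorsionBySet_of_isSimpleModule A S₁)
    (isTorsionBySet_of_isSimpleModule A S₂) (by rw [Module.length_eq_one, Module.length_eq_one])

end Alevel

end Groth.Agent.H3.Mor
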