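import Mathlib

/-!
# Right ideals of the endomorphism ring of a finite projective generator
-/

set_option autoImplicit false
universe u v

namespace Groth.Agent.H3.Mor

section RightIdeals

variable {A : Type u} [Ring A] {P : Type v} [AddCommGroup P] [Module A P]

/-- The rank one endomorphism `y ↦ lam y • x`. -/
def rk (lam : P →ₗ[A] A) (x : P) : Module.End A P := (LinearMap.toSpanSingleton A P x) ∘ₗ lam

@[simp] lemma rk_apply (lam : P →ₗ[A] A) (x y : P) : rk lam x y = lam y • x := rfl

lemma comp_rk (u : Module.End A P) (lam : P →ₗ[A] A) (x : P) : u * rk lam x = rk lam (u x) := by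
  ext y
  simp [Module.End.mul_apply]

lemma rk_add (lam : P →ₗ[A] A) (x x' : P) : rk lam (x + x') = rk lam x + rk lam x' := by
  ext y; simp

lemma rk_zero (lam : P →ₗ[A] A) : rk lam (0 : P) = 0 := by
  ext y; simp

/-- The right ideal of endomorphisms with image in `N`. -/
def toRight (N : Submodule A P) : Submodule (Module.End A P)ᵐᵒᵖ (Module.End A P) where
  carrier := {u | LinearMap.range u ≤ N}
  add_mem' := by
    intro u v hu hv
    rintro _ ⟨y, rfl⟩
    exact add_mem (hu ⟨y, rfl⟩) (hv ⟨y, rfl⟩)
  zero_mem' := by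
    rintro _ ⟨y, rfl⟩
    exact zero_mem _
  smul_mem' := by
    intro w u hu
    rintro _ ⟨y, rfl⟩
    exact hu ⟨w.unop y, rfl⟩

lemma mem_toRight {N : Submodule A P} {u : Module.End A P} :
    u ∈ toRight N ↔ LinearMap.range u ≤ N := Iff.rfl

/-- The submodule generated by the images of the elements of a right ideal. -/
def ofRight (Rr : Submodule (Module.End A P)ᵐᵒᵖ (Module.End A P)) : Submodule A P :=
  ⨆ u : Rr, LinearMap.range (u : Module.End A P)

lemma ofRight_toRight_le (N : Submodule A P) : ofRight (toRight N) ≤ N :=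
  iSup_le fun u => u.2

lemma le_toRight_ofRight (Rr : Submodule (Module.End A P)ᵐᵒᵖ (Module.End A P)) :
    Rr ≤ toRight (ofRight Rr) := fun u hu =>
  le_iSup (fun u : Rr => LinearMap.range (u : Module.End A P)) ⟨u, hu⟩

lemma toRight_mono {N N' : Submodule A P} (h : N ≤ N') : toRight N ≤ toRight N' :=
  fun _ hu => le_trans hu h

lemma ofRight_mono {Rr Rr' : Submodule (Module.End A P)ᵐᵒᵖ (Module.End A P)} (h : Rr ≤ Rr') :
    ofRight Rr ≤ ofRight Rr' :=
  iSup_le fun u => le_iSup (fun u : Rr' => LinearMap.range (u : Module.End A P)) ⟨u.1, h u.2⟩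

/-- For `x` in the submodule generated by a right ideal, rank one maps to `x` are in it. -/
lemma rk_mem_of_mem_ofRight (Rr : Submodule (Module.End A P)ᵐᵒᵖ (Module.End A P))
    (lam : P →ₗ[A] A) (x : P) (hx : x ∈ ofRight Rr) : rk lam x ∈ Rr := by
  unfold ofRight at hx
  induction hx using Submodule.iSup_induction' with
  | mem u x hx =>
    obtain ⟨z, rfl⟩ := hx
    rw [← comp_rk]
    have : (MulOpposite.op (rk lam z)) • (u : Module.End A P) ∈ Rr := Rr.smul_mem _ u.2
    exact this
  | zero => rw [rk_zero]; exact zero_mem _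
  | add x y _ _ hx hy => rw [rk_add]; exact add_mem hx hy

/-- For a finite projective module, `toRight (ofRight Rr) = Rr`. -/
lemma toRight_ofRight [Module.Finite A P] [Module.Projective A P]
    (Rr : Submodule (Module.End A P)ᵐᵒᵖ (Module.End A P)) : toRight (ofRight Rr) = Rr := by
  classical
  refine le_antisymm ?_ (le_toRight_ofRight Rr)
  intro u hu
  obtain ⟨n, f, g, -, -, hfg⟩ := Module.Finite.exists_comp_eq_id_of_projective A P
  have hsum : u = ∑ i : Fin n, rk ((LinearMap.proj i) ∘ₗ g) (u (f (Pi.single i 1))) := by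
    ext y
    have hy : y = f (g y) := (LinearMap.congr_fun hfg y).symm
    conv_lhs => rw [hy, pi_eq_sum_univ' (g y)]
    rw [map_sum, map_sum, LinearMap.sum_apply]
    refine Finset.sum_congr rfl fun i _ => ?_
    rw [map_smul, map_smul]
    rfl
  rw [hsum]
  exact Submodule.sum_mem _ fun i _ =>
    rk_mem_of_mem_ofRight Rr _ _ (hu ⟨_, rfl⟩)

/-- For a generator, `ofRight (toRight N) = N`. -/
lemma ofRight_toRight
    (hgen : ∀ I : Ideal A, (∀ (lam : P →ₗ[A] A) (y : P), lam y ∈ I) → I = ⊤)
    (N : Submodule A P) : ofRight (toRight N) = N := by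
  refine le_antisymm (ofRight_toRight_le N) ?_
  intro x hx
  let I : Ideal A :=
    { carrier := {a | a • x ∈ ofRight (toRight N)}
      add_mem' := by
        intro a b ha hb
        show (a + b) • x ∈ ofRight (toRight N)
        rw [add_smul]; exact add_mem ha hb
      zero_mem' := by
        show (0 : A) • x ∈ ofRight (toRight N)
        rw [zero_smul]; exact zero_mem _
      smul_mem' := by
        intro c a ha
        show (c • a) • x ∈ ofRight (toRight N)
        rw [smul_assoc]; exact Submodule.smul_mem _ _ ha }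
  have hI : I = ⊤ := by
    apply hgen
    intro lam y
    show lam y • x ∈ ofRight (toRight N)
    have hmem : rk lam x ∈ toRight N := by
      rintro _ ⟨z, rfl⟩
      exact N.smul_mem _ hx
    exact le_iSup (fun u : toRight N => LinearMap.range (u : Module.End A P)) ⟨_, hmem⟩ ⟨y, rfl⟩
  have h1 : (1 : A) ∈ I := hI ▸ Submodule.mem_top
  have : (1 : A) • x ∈ ofRight (toRight N) := h1
  rwa [one_smul] at this

/-- The lattice of submodules of a finite projective generator is isomorphic to the lattice of right
ideals of its endomorphism ring. -/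
def submoduleOrderIso [Module.Finite A P] [Module.Projective A P]
    (hgen : ∀ I : Ideal A, (∀ (lam : P →ₗ[A] A) (y : P), lam y ∈ I) → I = ⊤) :
    Submodule A P ≃o Submodule (Module.End A P)ᵐᵒᵖ (Module.End A P) where
  toFun := toRight
  invFun := ofRight
  left_inv := ofRight_toRight hgen
  right_inv := toRight_ofRight
  map_rel_iff' := by
    intro N N'
    constructor
    · intro h
      change toRight N ≤ toRight N' at h
      have := ofRight_mono h
      rwa [ofRight_toRight hgen, ofRight_toRight hgen] at this
    · intro h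
      exact toRight_mono h

end RightIdeals

section RingIso

variable {E₁ : Type u} {E₂ : Type v} [Ring E₁] [Ring E₂]

/-- Transport of right ideals along a ring isomorphism. -/
def rightIdealMap (e : E₁ ≃+* E₂) (Rr : Submodule E₁ᵐᵒᵖ E₁) : Submodule E₂ᵐᵒᵖ E₂ where
  carrier := {v | e.symm v ∈ Rr}
  add_mem' := by
    intro a b ha hb
    show e.symm (a + b) ∈ Rr
    rw [map_add]; exact add_mem ha hb
  zero_mem' := by
    show e.symm 0 ∈ Rr
    rw [map_zero]; exact zero_mem _
  smul_mem' := by
    intro w v hv
    show e.symm (w • v) ∈ Rr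
    have : w • v = v * w.unop := rfl
    rw [this, map_mul]
    exact Rr.smul_mem (MulOpposite.op (e.symm w.unop)) hv

lemma mem_rightIdealMap (e : E₁ ≃+* E₂) (Rr : Submodule E₁ᵐᵒᵖ E₁) (v : E₂) :
    v ∈ rightIdealMap e Rr ↔ e.symm v ∈ Rr := Iff.rfl

/-- A ring isomorphism induces an isomorphism of the lattices of right ideals. -/
def rightIdealOrderIso (e : E₁ ≃+* E₂) : Submodule E₁ᵐᵒᵖ E₁ ≃o Submodule E₂ᵐᵒᵖ E₂ where
  toFun := rightIdealMap e
  invFun := rightIdealMap e.symm
  left_inv := by
    intro Rr
    ext v
    rw [mem_rightIdealMap, mem_rightIdealMap]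
    simp
  right_inv := by
    intro Rr
    ext v
    rw [mem_rightIdealMap, mem_rightIdealMap]
    simp
  map_rel_iff' := by
    intro Rr Rr'
    constructor
    · intro h v hv
      change rightIdealMap e Rr ≤ rightIdealMap e Rr' at h
      have := h (show e v ∈ rightIdealMap e Rr by rw [mem_rightIdealMap]; simpa using hv)
      rw [mem_rightIdealMap] at this
      simpa using this
    · intro h v hv
      exact h hv

end RingIso

end Groth.Agent.H3.Mor
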