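import Mathlib
import Groth.Agent.Lib.Helper3.MorB
import Groth.Agent.Lib.Helper3.MorC

/-!
# Finite projective modules over a strongly local ring are determined by their endomorphism rings
-/

set_option autoImplicit false
universe u v w

namespace Groth.Agent.H3.Mor

section Lift

variable {A : Type u} [Ring A] {P : Type v} [AddCommGroup P] [Module A P] [Module.Finite A P]

/-- The Jacobson radical of a finite module is superfluous. -/
lemma eq_top_of_sup_jacobson_eq_top (N : Submodule A P) (h : N ⊔ Module.jacobson A P = ⊤) :
    N = ⊤ := by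
  rcases eq_top_or_exists_le_coatom N with hN | ⟨m, hm, hNm⟩
  · exact hN
  · exfalso
    have h1 : Module.jacobson A P ≤ m := sInf_le hm
    have h2 : (⊤ : Submodule A P) ≤ m := h ▸ sup_le hNm h1
    exact hm.1 (top_le_iff.mp h2)

/-- An endomorphism of a finite module which is the identity modulo the radical is surjective. -/
lemma surjective_of_sub_mem_jacobson (u : P →ₗ[A] P)
    (hu : ∀ y, u y - y ∈ Module.jacobson A P) : Function.Surjective u := by
  rw [← LinearMap.range_eq_top]
  apply eq_top_of_sup_jacobson_eq_top
  rw [eq_top_iff]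
  intro y _
  have : y = u y + (y - u y) := by abel
  rw [this]
  refine Submodule.add_mem_sup ⟨y, rfl⟩ ?_
  have := hu y
  rw [← neg_sub]
  exact neg_mem this

/-- An endomorphism of a finite projective module which is the identity modulo the radical is
bijective. -/
lemma bijective_of_sub_mem_jacobson [Module.Projective A P] (u : P →ₗ[A] P)
    (hu : ∀ y, u y - y ∈ Module.jacobson A P) : Function.Bijective u := by
  have hsurj := surjective_of_sub_mem_jacobson u hu
  obtain ⟨t, ht⟩ := Module.projective_lifting_property u LinearMap.id hsurj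
  have ht' : ∀ y, u (t y) = y := fun y => LinearMap.congr_fun ht y
  have htj : ∀ y, t y - y ∈ Module.jacobson A P := by
    intro y
    have := hu (t y)
    rw [ht' y] at this
    rw [← neg_sub]
    exact neg_mem this
  have htsurj := surjective_of_sub_mem_jacobson t htj
  refine ⟨?_, hsurj⟩
  intro x x' hxx
  obtain ⟨z, rfl⟩ := htsurj x
  obtain ⟨z', rfl⟩ := htsurj x'
  rw [ht', ht'] at hxx
  rw [hxx]

variable {Q : Type w} [AddCommGroup Q] [Module A Q] [Module.Finite A Q]

/-- Lifting an isomorphism modulo the radicals to an isomorphism of finite projective modules. -/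
theorem nonempty_linearEquiv_of_quotient [Module.Projective A P] [Module.Projective A Q]
    (e : (P ⧸ Module.jacobson A P) ≃ₗ[A] (Q ⧸ Module.jacobson A Q)) : Nonempty (P ≃ₗ[A] Q) := by
  obtain ⟨g, hg⟩ := Module.projective_lifting_property (Module.jacobson A Q).mkQ
    (e.toLinearMap ∘ₗ (Module.jacobson A P).mkQ) (Submodule.mkQ_surjective _)
  obtain ⟨h, hh⟩ := Module.projective_lifting_property (Module.jacobson A P).mkQ
    (e.symm.toLinearMap ∘ₗ (Module.jacobson A Q).mkQ) (Submodule.mkQ_surjective _)
  have hg' : ∀ y, (Module.jacobson A Q).mkQ (g y) = e ((Module.jacobson A P).mkQ y) :=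
    fun y => LinearMap.congr_fun hg y
  have hh' : ∀ y, (Module.jacobson A P).mkQ (h y) = e.symm ((Module.jacobson A Q).mkQ y) :=
    fun y => LinearMap.congr_fun hh y
  have h1 : Function.Bijective (h ∘ₗ g) := by
    apply bijective_of_sub_mem_jacobson
    intro y
    rw [← Submodule.ker_mkQ (Module.jacobson A P), LinearMap.mem_ker, map_sub,
      LinearMap.comp_apply, hh', hg', LinearEquiv.symm_apply_apply, sub_self]
  have h2 : Function.Bijective (g ∘ₗ h) := by
    apply bijective_of_sub_mem_jacobson
    intro y
    rw [← Submodule.ker_mkQ (Module.jacobson A Q), LinearMap.mem_ker, map_sub,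
      LinearMap.comp_apply, hg', hh', LinearEquiv.apply_symm_apply, sub_self]
  have hginj : Function.Injective g := by
    intro x x' hxx
    exact h1.1 (show h (g x) = h (g x') by rw [hxx])
  have hgsurj : Function.Surjective g := by
    intro y
    obtain ⟨z, hz⟩ := h2.2 y
    exact ⟨h z, hz⟩
  exact ⟨LinearEquiv.ofBijective g ⟨hginj, hgsurj⟩⟩

end Lift

section Main

variable (A : Type u) [Ring A] [IsSimpleRing (A ⧸ Ring.jacobson A)]
  [IsArtinianRing (A ⧸ Ring.jacobson A)]

/-- A nontrivial finite projective module over a strongly local ring is a generator. -/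
theorem isGenerator (P : Type v) [AddCommGroup P] [Module A P] [Module.Finite A P]
    [Module.Projective A P] [Nontrivial P] :
    ∀ I : Ideal A, (∀ (lam : P →ₗ[A] A) (y : P), lam y ∈ I) → I = ⊤ := by
  intro I hI
  by_contra hne
  obtain ⟨m, hm, hIm⟩ := Ideal.exists_le_maximal I hne
  have hmco : IsCoatom (m : Submodule A A) := hm.out
  haveI : IsSimpleModule A (A ⧸ (m : Submodule A A)) := isSimpleModule_iff_isCoatom.mpr hmco
  obtain ⟨N, hN, -⟩ := (eq_top_or_exists_le_coatom (⊥ : Submodule A P)).resolve_left bot_ne_top
  haveI : IsSimpleModule A (P ⧸ N) := isSimpleModule_iff_isCoatom.mpr hN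
  obtain ⟨e⟩ := simple_linearEquiv' A (P ⧸ N) (A ⧸ (m : Submodule A A))
  obtain ⟨lam, hlam⟩ := Module.projective_lifting_property (m : Submodule A A).mkQ
    (e.toLinearMap ∘ₗ N.mkQ) (Submodule.mkQ_surjective _)
  obtain ⟨y', hy'⟩ := e.surjective ((m : Submodule A A).mkQ 1)
  obtain ⟨y, rfl⟩ := N.mkQ_surjective y'
  have h1 : (m : Submodule A A).mkQ (lam y) = (m : Submodule A A).mkQ 1 := by
    rw [← hy']
    exact LinearMap.congr_fun hlam y
  have h2 : lam y - 1 ∈ (m : Submodule A A) := by
    rw [← Submodule.ker_mkQ (m : Submodule A A), LinearMap.mem_ker, map_sub, h1, sub_self]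
  have h3 : (1 : A) ∈ m := by
    have := sub_mem (hIm (hI lam y)) h2
    simpa using this
  exact hm.ne_top ((Ideal.eq_top_iff_one m).mpr h3)

/-- The quotient by the radical is killed by the Jacobson radical of the ring. -/
theorem isTorsionBySet_quotient_jacobson (P : Type v) [AddCommGroup P] [Module A P] :
    Module.IsTorsionBySet A (P ⧸ Module.jacobson A P) (Ring.jacobson A : Set A) := by
  intro x a
  obtain ⟨y, rfl⟩ := Submodule.mkQ_surjective _ x
  rw [← map_smul, ← LinearMap.mem_ker, Submodule.ker_mkQ]
  exact Ring.jacobson_smul_top_le A P (Submodule.smul_mem_smul a.2 Submodule.mem_top)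

/-- An order isomorphism of submodule lattices preserves the radical. -/
theorem orderIso_jacobson {P : Type v} {Q : Type w} [AddCommGroup P] [Module A P] [AddCommGroup Q]
    [Module A Q] (Φ : Submodule A P ≃o Submodule A Q) :
    Φ (Module.jacobson A P) = Module.jacobson A Q := by
  unfold Module.jacobson
  rw [OrderIso.map_sInf]
  apply le_antisymm
  · apply le_sInf
    intro m hm
    have h1 : IsCoatom (Φ.symm m) := (OrderIso.isCoatom_iff Φ.symm m).mpr hm
    refine iInf₂_le_of_le (Φ.symm m) h1 ?_
    rw [OrderIso.apply_symm_apply]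
  · apply le_iInf₂
    intro a ha
    exact sInf_le ((OrderIso.isCoatom_iff Φ a).mpr ha)

theorem main (P Q : Type v) [AddCommGroup P] [Module A P] [Module.Finite A P]
    [Module.Projective A P] [AddCommGroup Q] [Module A Q] [Module.Finite A Q]
    [Module.Projective A Q] (e : Module.End A P ≃+* Module.End A Q) : Nonempty (P ≃ₗ[A] Q) := by
  have hsub : ∀ (P' : Type v) [AddCommGroup P'] [Module A P'],
      Subsingleton P' ↔ Subsingleton (Module.End A P') := by
    intro P' _ _
    constructor
    · intro h
      exact ⟨fun u v => LinearMap.ext fun y => Subsingleton.elim _ _⟩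
    · intro h
      refine ⟨fun x y => ?_⟩
      have : (1 : Module.End A P') = 0 := Subsingleton.elim _ _
      have hx : x = 0 := by
        have := LinearMap.congr_fun this x
        simpa using this
      have hy : y = 0 := by
        have := LinearMap.congr_fun this y
        simpa using this
      rw [hx, hy]
  rcases subsingleton_or_nontrivial P with hP | hP
  · have hQ : Subsingleton Q := by
      rw [hsub Q]
      rw [hsub P] at hP
      exact e.symm.toEquiv.subsingleton
    exact ⟨LinearEquiv.ofSubsingleton P Q⟩
  · have hQ : Nontrivial Q := by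
      by_contra hQ
      rw [not_nontrivial_iff_subsingleton, hsub Q] at hQ
      have : Subsingleton P := by
        rw [hsub P]
        exact e.toEquiv.subsingleton
      exact not_subsingleton P this
    let Φ : Submodule A P ≃o Submodule A Q :=
      (submoduleOrderIso (isGenerator A P)).trans
        ((rightIdealOrderIso e).trans (submoduleOrderIso (isGenerator A Q)).symm)
    have hlen : Module.length A (P ⧸ Module.jacobson A P)
        = Module.length A (Q ⧸ Module.jacobson A Q) := by
      rw [Module.length_quotient, Module.length_quotient, ← orderIso_jacobson A Φ,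
        Order.coheight_orderIso]
    obtain ⟨ē⟩ := linearEquiv_of_torsion_of_length_eq A (P ⧸ Module.jacobson A P)
      (Q ⧸ Module.jacobson A Q) (isTorsionBySet_quotient_jacobson A P)
      (isTorsionBySet_quotient_jacobson A Q) hlen
    exact nonempty_linearEquiv_of_quotient ē

end Main

end Groth.Agent.H3.Mor
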