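import Mathlib
import Groth.Prelude.Def_Red2
import Groth.Agent.Lib.Helper3.UnivEffEpi
import Groth.Agent.Lib.Helper3.DSKit

/-! A nontrivial diagonalisable group of finite type contains some `μ_r`, `r` prime. -/

universe u

open CategoryTheory MonoidalCategory CartesianMonoidalCategory MonObj GrpObj AlgebraicGeometry Limits

namespace Groth.Agent.H3.MuSub

theorem exists_surjective_zmod (M : Type) [AddCommGroup M] [AddGroup.FG M] [Nontrivial M] :
    ∃ (r : ℕ) (_ : r.Prime) (φ : M →+ ZMod r), Function.Surjective φ := by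
  have : Module.Finite ℤ M := Module.Finite.iff_addGroup_fg.mpr ‹_›
  obtain ⟨H, hH⟩ : ∃ H : Submodule ℤ M, IsCoatom H := by
    obtain h | ⟨H, hH, -⟩ := IsCoatomic.eq_top_or_exists_le_coatom (⊥ : Submodule ℤ M)
    · exact absurd h bot_ne_top
    · exact ⟨H, hH⟩
  have hs : IsSimpleModule ℤ (M ⧸ H) := isSimpleModule_iff_isCoatom.mpr hH
  obtain ⟨I, hI, ⟨e⟩⟩ := isSimpleModule_iff_quot_maximal.mp hs
  obtain ⟨p, hp⟩ : ∃ p : ℕ, I = Ideal.span {(p : ℤ)} := by
    obtain ⟨a, ha⟩ := (IsPrincipalIdealRing.principal I).principal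
    refine ⟨a.natAbs, ?_⟩
    rw [Int.span_natAbs]
    exact ha
  subst hp
  have hp0 : p ≠ 0 := by
    rintro rfl
    have h1 : (⊥ : Ideal ℤ).IsMaximal := by
      have : Ideal.span {((0 : ℕ) : ℤ)} = (⊥ : Ideal ℤ) := by simp
      rwa [this] at hI
    exact Int.not_isField (Ring.isField_iff_maximal_bot.mpr h1)
  have hpp : p.Prime := by
    have h1 : (Ideal.span {(p : ℤ)}).IsPrime := hI.isPrime
    rw [Ideal.span_singleton_prime (by exact_mod_cast hp0)] at h1
    exact Nat.prime_iff_prime_int.mpr h1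
  refine ⟨p, hpp, ((Int.quotientSpanNatEquivZMod p).toAddMonoidHom.comp
    (e.toLinearMap.toAddMonoidHom)).comp (H.mkQ.toAddMonoidHom), ?_⟩
  intro z
  obtain ⟨y, rfl⟩ := (Int.quotientSpanNatEquivZMod p).surjective z
  obtain ⟨x, rfl⟩ := e.surjective y
  obtain ⟨m, rfl⟩ := H.mkQ_surjective x
  exact ⟨m, rfl⟩

theorem isClosedImmersion_DSmap (S : Scheme.{u}) {M N : Type} [AddCommGroup M] [AddCommGroup N]
    (φ : M →+ N) (hφ : Function.Surjective φ) : IsClosedImmersion (Red.DSmap S φ).left := by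
  have sq := Groth.Agent.H3.isPullback_overPullback_map (Groth.Agent.H4.GaGm.fZ S)
    (Red.diagMap (ULift.{u} ℤ) φ)
  have h1 : IsClosedImmersion (Red.diagMap (ULift.{u} ℤ) φ).left := by
    apply IsClosedImmersion.spec_of_surjective
    intro x
    induction x using MonoidAlgebra.induction_on with
    | of n =>
      obtain ⟨m, hm⟩ := hφ (Multiplicative.toAdd n)
      refine ⟨MonoidAlgebra.of _ _ (Multiplicative.ofAdd m), ?_⟩
      simp [hm]
    | add a b ha hb =>
      obtain ⟨a', rfl⟩ := ha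
      obtain ⟨b', rfl⟩ := hb
      exact ⟨a' + b', map_add _ _ _⟩
    | smul r a ha =>
      obtain ⟨a', rfl⟩ := ha
      exact ⟨r • a', map_smul (MonoidAlgebra.mapDomainAlgHom (ULift.{u} ℤ) (ULift.{u} ℤ)
        (AddMonoidHom.toMultiplicative φ)) r a'⟩
  exact MorphismProperty.of_isPullback (P := @IsClosedImmersion) sq.flip h1

theorem main (S : Scheme.{u}) (M : Type) [AddCommGroup M] [AddGroup.FG M] [Nontrivial M] :
    ∃ (r : ℕ) (_ : r.Prime) (j : Red.DS S (ZMod r) ⟶ Red.DS S M),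
      IsMonHom j ∧ IsClosedImmersion j.left := by
  obtain ⟨r, hr, φ, hφ⟩ := exists_surjective_zmod M
  exact ⟨r, hr, Red.DSmap S φ, Groth.Agent.H3.DSKit.isMonHom_DSmap S φ,
    isClosedImmersion_DSmap S φ hφ⟩

end Groth.Agent.H3.MuSub
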