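import Mathlib
import Groth.Prelude.Def_Red2
import Groth.Prelude.Def_SGA3x
import Groth.Agent.Lib.Helper3.RigidAct
import Groth.Agent.H4.GaGmCover
import Groth.Agent.H4.GaGmBridge

/-! Every homomorphism from a group of multiplicative type to `𝔾_a` is trivial (S8392). -/

universe u

open CategoryTheory MonoidalCategory CartesianMonoidalCategory MonObj GrpObj AlgebraicGeometry Limits
open Groth.Agent.H3.RigidAct Groth.Agent.H4.GaGm

namespace Groth.Agent.H3.MultGa

section Alg

open MonoidAlgebra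

/-- an element of a monoid algebra which is "primitive" is zero. -/
theorem eq_zero_of_prim {C : Type*} [Ring C] {N : Type*} [Monoid N] (a : MonoidAlgebra C N)
    (h : mapDomainRingHom C ((MonoidHom.id N).prod (MonoidHom.id N)) a =
      mapDomainRingHom C (MonoidHom.inl N N) a + mapDomainRingHom C (MonoidHom.inr N N) a) :
    a = 0 := by
  have hd : Function.Injective ((MonoidHom.id N).prod (MonoidHom.id N)) := by
    intro x y hxy
    exact congrArg Prod.fst hxy
  have hl : Function.Injective (MonoidHom.inl N N) := by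
    intro x y hxy
    exact congrArg Prod.fst hxy
  have hr : Function.Injective (MonoidHom.inr N N) := by
    intro x y hxy
    exact congrArg Prod.snd hxy
  ext m
  have hc := congrArg (fun x => x.coeff (((MonoidHom.id N).prod (MonoidHom.id N)) m)) h
  have hco : ∀ (f : N → N × N), (mapDomain f a).coeff = Finsupp.mapDomain f a.coeff :=
    fun f => rfl
  simp only [mapDomainRingHom_apply, coeff_add, Finsupp.add_apply, hco] at hc
  rw [Finsupp.mapDomain_apply hd] at hc
  by_cases hm : m = 1
  · subst hm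
    have e1 : ((MonoidHom.id N).prod (MonoidHom.id N)) 1 = MonoidHom.inl N N 1 := by simp
    have e2 : ((MonoidHom.id N).prod (MonoidHom.id N)) 1 = MonoidHom.inr N N 1 := by simp
    rw [e1, Finsupp.mapDomain_apply hl] at hc
    rw [← e1, e2, Finsupp.mapDomain_apply hr] at hc
    simpa using hc
  · have n1 : ((MonoidHom.id N).prod (MonoidHom.id N)) m ∉ Set.range (MonoidHom.inl N N) := by
      rintro ⟨x, hx⟩
      have h2 := congrArg Prod.snd hx
      simp at h2
      exact hm h2.symm
    have n2 : ((MonoidHom.id N).prod (MonoidHom.id N)) m ∉ Set.range (MonoidHom.inr N N) := by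
      rintro ⟨x, hx⟩
      have h2 := congrArg Prod.fst hx
      simp at h2
      exact hm h2.symm
    rw [Finsupp.mapDomain_of_notMem_range _ _ n1, Finsupp.mapDomain_of_notMem_range _ _ n2] at hc
    simpa using hc

end Alg

section Split

variable {S W : Scheme.{u}} (w : W ⟶ S) {H : Over S} [GrpObj H] (u : H ⟶ Red.Ga S) [IsMonHom u]
  {M : Type} [AddCommGroup M] (e : Grp.mk (Red.bc w H) ≅ Grp.mk (Red.DS W M))

/-- the value of `u` on a point over an affine test object, as an element of the ring. -/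
noncomputable def Fn {C : CommRingCat.{u}} {s : Spec C ⟶ W} (g : Over.mk s ⟶ Red.bc w H) : C :=
  (Scheme.ΓSpecIso C).hom.hom (Red.gaFn (tp w H g ≫ u))

theorem Fn_mul {C : CommRingCat.{u}} {s : Spec C ⟶ W} (g h : Over.mk s ⟶ Red.bc w H) :
    Fn w u (g * h) = Fn w u g + Fn w u h := by
  unfold Fn
  have h1 : tp w H (g * h) = tp w H g * tp w H h := tp_mul (G := H) w g h
  have h2 : (tp w H g * tp w H h) ≫ u = (tp w H g ≫ u) * (tp w H h ≫ u) :=
    MonObj.mul_comp _ _ u
  rw [h1, h2, gaFn_mul, map_add]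

omit [IsMonHom u] in
theorem Fn_bc {C C' : CommRingCat.{u}} (s : Spec C ⟶ W) (s' : Spec C' ⟶ W) (θ : C ⟶ C')
    (hs : Spec.map θ ≫ s = s') (g : Over.mk s ⟶ Red.bc w H) :
    Fn w u (bcHom s s' θ hs ≫ g) = θ.hom (Fn w u g) := by
  unfold Fn
  rw [tp_comp, Category.assoc, gaFn_comp]
  change (Scheme.ΓSpecIso C').hom.hom ((Spec.map θ).appTop.hom _) = _
  rw [← CommRingCat.comp_apply, Scheme.ΓSpecIso_naturality]
  rfl

omit [IsMonHom u] in
theorem comp_eq_one_of_Fn {C : CommRingCat.{u}} {s : Spec C ⟶ W} (g : Over.mk s ⟶ Red.bc w H)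
    (h : Fn w u g = 0) : tp w H g ≫ u = 1 := by
  apply gaFn_injective
  rw [gaFn_one]
  have hinj : Function.Injective (Scheme.ΓSpecIso C).hom.hom :=
    (ConcreteCategory.bijective_of_isIso (Scheme.ΓSpecIso C).hom).1
  exact hinj (h.trans (map_zero _).symm)

include e in
/-- **split case, affine test objects**. -/
theorem affine_trivial {C : CommRingCat.{u}} (s : Spec C ⟶ W) (g : Over.mk s ⟶ Red.bc w H) :
    tp w H g ≫ u = 1 := by
  apply comp_eq_one_of_Fn
  -- the universal point over the group algebra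
  let C₁ : CommRingCat.{u} := CommRingCat.of (MonoidAlgebra C (Multiplicative M))
  let θ₁ : C ⟶ C₁ := CommRingCat.ofHom (algebraMap C (MonoidAlgebra C (Multiplicative M)))
  let s₁ : Spec C₁ ⟶ W := Spec.map θ₁ ≫ s
  obtain ⟨g₁, hg₁⟩ := chC_surjective e s₁ (MonoidAlgebra.of C (Multiplicative M))
  -- the doubled group algebra
  let N2 := Multiplicative M × Multiplicative M
  let C₂ : CommRingCat.{u} := CommRingCat.of (MonoidAlgebra C N2)
  let θ₂ : C ⟶ C₂ := CommRingCat.ofHom (algebraMap C (MonoidAlgebra C N2))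
  let s₂ : Spec C₂ ⟶ W := Spec.map θ₂ ≫ s
  let f1 : Multiplicative M →* N2 := MonoidHom.inl _ _
  let f2 : Multiplicative M →* N2 := MonoidHom.inr _ _
  let f3 : Multiplicative M →* N2 := (MonoidHom.id _).prod (MonoidHom.id _)
  have hstr : ∀ f : Multiplicative M →* N2,
      Spec.map (CommRingCat.ofHom (MonoidAlgebra.mapDomainRingHom C f)) ≫ s₁ = s₂ := by
    intro f
    change Spec.map _ ≫ Spec.map θ₁ ≫ s = Spec.map θ₂ ≫ s
    rw [← Category.assoc, ← Spec.map_comp]
    congr 2
    refine CommRingCat.hom_ext ?_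
    exact MonoidAlgebra.mapDomainRingHom_comp_algebraMap (R := C) (A := C) f
  let hpt : (Multiplicative M →* N2) → (Over.mk s₂ ⟶ Red.bc w H) := fun f =>
    bcHom s₁ s₂ (CommRingCat.ofHom (MonoidAlgebra.mapDomainRingHom C f)) (hstr f) ≫ g₁
  have hch : ∀ (f : Multiplicative M →* N2) (m : Multiplicative M),
      chC e (hpt f) m = MonoidAlgebra.single (f m) 1 := by
    intro f m
    change chC e (bcHom s₁ s₂ _ (hstr f) ≫ g₁) m = _
    rw [chC_bcHom, hg₁]
    change MonoidAlgebra.mapDomainRingHom C f (MonoidAlgebra.single m 1) = _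
    rw [MonoidAlgebra.mapDomainRingHom_apply, MonoidAlgebra.mapDomain_single]
  have h3 : hpt f3 = hpt f1 * hpt f2 := by
    apply chC_injective e
    intro m
    rw [chC_mul, hch, hch, hch, MonoidAlgebra.single_mul_single, _root_.mul_one]
    congr 1
    refine Prod.ext ?_ ?_
    · change m = m * 1
      exact (_root_.mul_one m).symm
    · change m = 1 * m
      exact (_root_.one_mul m).symm
  have hF : ∀ f : Multiplicative M →* N2,
      Fn w u (hpt f) = MonoidAlgebra.mapDomainRingHom C f (Fn w u g₁) := by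
    intro f
    exact Fn_bc w u s₁ s₂ _ (hstr f) g₁
  have ha : Fn w u g₁ = 0 := by
    apply eq_zero_of_prim
    have := Fn_mul w u (hpt f1) (hpt f2)
    rw [← h3, hF, hF, hF] at this
    exact this
  -- every point is a specialisation of the universal one
  let φ : C₁ ⟶ C := CommRingCat.ofHom
    (MonoidAlgebra.lift C C (Multiplicative M) (chC e g)).toRingHom
  have hφθ : θ₁ ≫ φ = 𝟙 C := by
    refine CommRingCat.hom_ext (RingHom.ext fun c => ?_)
    change MonoidAlgebra.lift C C (Multiplicative M) (chC e g) (algebraMap C _ c) = c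
    rw [AlgHom.commutes]
    rfl
  have hφs : Spec.map φ ≫ s₁ = s := by
    change Spec.map φ ≫ Spec.map θ₁ ≫ s = s
    rw [← Category.assoc, ← Spec.map_comp, hφθ, Spec.map_id, Category.id_comp]
  have hg : bcHom s₁ s φ hφs ≫ g₁ = g := by
    apply chC_injective e
    intro m
    rw [chC_bcHom, hg₁]
    change MonoidAlgebra.lift C C (Multiplicative M) (chC e g) (MonoidAlgebra.of C _ m) = _
    rw [MonoidAlgebra.lift_of]
  rw [← hg, Fn_bc, ha, map_zero]

include e in
/-- **split case**. -/
theorem split_trivial {T : Over W} (g : T ⟶ Red.bc w H) : tp w H g ≫ u = 1 := by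
  apply Over.OverMorphism.ext
  apply Scheme.hom_ext_of_forall
  intro t
  obtain ⟨_, ⟨V, hV, rfl⟩, htV, -⟩ := T.left.isBasis_affineOpens.exists_subset_of_mem_open
    (Set.mem_univ t) isOpen_univ
  refine ⟨V, htV, ?_⟩
  let jV : Over.mk (hV.fromSpec ≫ T.hom) ⟶ T := Over.homMk hV.fromSpec rfl
  have h1 := affine_trivial w u e (hV.fromSpec ≫ T.hom) (jV ≫ g)
  rw [tp_comp, Category.assoc] at h1
  have h2 : (Over.map w).map jV ≫ tp w H g ≫ u = (Over.map w).map jV ≫ 1 := by
    rw [h1, MonObj.comp_one]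
  have h3 : hV.fromSpec ≫ (tp w H g ≫ u).left =
      hV.fromSpec ≫ (1 : (Over.map w).obj T ⟶ Red.Ga S).left :=
    congrArg (fun ψ => ψ.left) h2
  rw [← hV.isoSpec_hom_fromSpec, Category.assoc, Category.assoc, h3]

end Split

section Main

variable {S : Scheme.{u}} {H : Over S} [GrpObj H]

/-- `S8392`. -/
theorem main (hH : SGA3x.IsMultTypeFT H) (u : H ⟶ Red.Ga S) [IsMonHom u] : u = 1 := by
  obtain ⟨S', f, hflat, hsurj, -, hloc⟩ := hH
  apply Over.OverMorphism.ext
  have hepi : Epi (pullback.fst H.hom f) := Flat.epi_of_flat_of_surjective _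
  apply (cancel_epi (pullback.fst H.hom f)).mp
  apply Scheme.hom_ext_of_forall
  intro y'
  obtain ⟨O, hO, M, hM, -, ⟨e⟩⟩ := hloc (pullback.snd H.hom f y')
  refine ⟨pullback.snd H.hom f ⁻¹ᵁ O, hO, ?_⟩
  let T : Over (O : Scheme.{u}) := Over.mk (pullback.snd H.hom f ∣_ O)
  let φ : (Over.map (O.ι ≫ f)).obj T ⟶ H :=
    Over.homMk ((pullback.snd H.hom f ⁻¹ᵁ O).ι ≫ pullback.fst H.hom f) (by
      change _ = (pullback.snd H.hom f ∣_ O) ≫ O.ι ≫ f
      rw [← Category.assoc (pullback.snd H.hom f ∣_ O), morphismRestrict_ι, Category.assoc,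
        Category.assoc, pullback.condition])
  have key := split_trivial (O.ι ≫ f) u e (T := T) (tpInv (O.ι ≫ f) H φ)
  rw [tp_tpInv] at key
  have key2 : φ ≫ u = φ ≫ 1 := by rw [key, MonObj.comp_one]
  exact congrArg (fun ψ => ψ.left) key2

end Main

end Groth.Agent.H3.MultGa
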