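import Mathlib

set_option autoImplicit false
universe u
open TensorProduct

namespace Groth.Agent.H3.NL

open Algebra

section Basic
variable {A B : Type u} [CommRing A] [CommRing B] [Algebra A B]

theorem algebraMap_mem_ker (P : Extension.{u} A B) (x : A) (hx : algebraMap A B x = 0) :
    algebraMap A P.Ring x ∈ P.ker := by
  change algebraMap P.Ring B (algebraMap A P.Ring x) = 0
  rw [← IsScalarTower.algebraMap_apply, hx]

theorem mk_algebraMap_mem_ker (P : Extension.{u} A B) (x : A) (hx : algebraMap A B x = 0) :
    Extension.Cotangent.mk ⟨algebraMap A P.Ring x, algebraMap_mem_ker P x hx⟩ ∈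
      LinearMap.ker P.cotangentComplex := by
  rw [LinearMap.mem_ker, Extension.cotangentComplex_mk]
  have : KaehlerDifferential.D A P.Ring (algebraMap A P.Ring x) = 0 :=
    Derivation.map_algebraMap _ _
  rw [this, tmul_zero]

/-- the class in `H¹(L_P)` of a constant lying in the kernel of `A → B`. -/
noncomputable def kerToH1' (P : Extension.{u} A B) (x : A) (hx : algebraMap A B x = 0) :
    P.H1Cotangent :=
  ⟨Extension.Cotangent.mk ⟨algebraMap A P.Ring x, algebraMap_mem_ker P x hx⟩,
    mk_algebraMap_mem_ker P x hx⟩

theorem kerToH1'_val (P : Extension.{u} A B) (x : A) (hx : algebraMap A B x = 0) :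
    (kerToH1' P x hx).1 =
      Extension.Cotangent.mk ⟨algebraMap A P.Ring x, algebraMap_mem_ker P x hx⟩ := rfl

theorem kerToH1'_add (P : Extension.{u} A B) (x y : A) (hx : algebraMap A B x = 0)
    (hy : algebraMap A B y = 0) (hxy : algebraMap A B (x + y) = 0) :
    kerToH1' P (x + y) hxy = kerToH1' P x hx + kerToH1' P y hy := by
  apply Subtype.ext
  rw [Extension.H1Cotangent.val_add, kerToH1'_val, kerToH1'_val, kerToH1'_val, ← map_add]
  congr 1
  apply Subtype.ext
  exact map_add _ _ _

theorem kerToH1'_mul (P : Extension.{u} A B) (a x : A) (hx : algebraMap A B x = 0)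
    (hax : algebraMap A B (a * x) = 0) :
    kerToH1' P (a * x) hax = algebraMap A B a • kerToH1' P x hx := by
  apply Subtype.ext
  rw [Extension.H1Cotangent.val_smul, kerToH1'_val, kerToH1'_val]
  have h1 : algebraMap A B a • (Extension.Cotangent.mk
      ⟨algebraMap A P.Ring x, algebraMap_mem_ker P x hx⟩ : P.Cotangent) =
      (algebraMap A P.Ring a) • (Extension.Cotangent.mk
      ⟨algebraMap A P.Ring x, algebraMap_mem_ker P x hx⟩ : P.Cotangent) := by
    rw [IsScalarTower.algebraMap_apply A P.Ring B a]
    exact algebraMap_smul _ _ _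
  rw [h1, ← map_smul]
  congr 1
  apply Subtype.ext
  change algebraMap A P.Ring (a * x) = algebraMap A P.Ring a * algebraMap A P.Ring x
  exact map_mul _ _ _

theorem map_kerToH1' {A' B' : Type u} [CommRing A'] [CommRing B'] [Algebra A' B'] [Algebra A A']
    [Algebra B B'] [Algebra A B'] [IsScalarTower A A' B'] [IsScalarTower A B B']
    {P : Extension.{u} A B} {P' : Extension.{u} A' B'} (f : P.Hom P')
    (x : A) (hx : algebraMap A B x = 0) (hx' : algebraMap A' B' (algebraMap A A' x) = 0) :
    Extension.H1Cotangent.map f (kerToH1' P x hx) = kerToH1' P' (algebraMap A A' x) hx' := by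
  apply Subtype.ext
  rw [Extension.H1Cotangent.map_apply_coe, kerToH1'_val, kerToH1'_val, Extension.Cotangent.map_mk]
  congr 1
  apply Subtype.ext
  exact f.toRingHom_algebraMap x

/-- the class in `H¹(L_{B/A})` of a constant lying in the kernel of `A → B`. -/
noncomputable def kerToH1 (x : A) (hx : algebraMap A B x = 0) : Algebra.H1Cotangent A B :=
  kerToH1' (Generators.self A B).toExtension x hx

/-- `kerToH1` as a linear map out of a module mapping into the kernel. -/
noncomputable def kerToH1ₗ {I : Type u} [AddCommGroup I] [Module A I] (ι : I →ₗ[A] A)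
    (h : ∀ s, algebraMap A B (ι s) = 0) : I →ₗ[A] Algebra.H1Cotangent A B where
  toFun s := kerToH1 (ι s) (h s)
  map_add' s t := by
    have h1 : algebraMap A B (ι s + ι t) = 0 := by rw [← map_add]; exact h (s + t)
    have h2 : kerToH1 (ι (s + t)) (h (s + t)) = (kerToH1 (ι s + ι t) h1 : Algebra.H1Cotangent A B) := by
      congr 1
      exact map_add ι s t
    rw [h2]
    exact kerToH1'_add _ _ _ _ _ _
  map_smul' a s := by
    have h1 : algebraMap A B (a * ι s) = 0 := by
      have := h (a • s)
      rwa [map_smul, smul_eq_mul] at this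
    have h2 : kerToH1 (ι (a • s)) (h (a • s)) = (kerToH1 (a * ι s) h1 : Algebra.H1Cotangent A B) := by
      congr 1
      rw [map_smul, smul_eq_mul]
    rw [h2, RingHom.id_apply]
    exact (kerToH1'_mul _ _ _ _ _).trans (algebraMap_smul B a _)

theorem kerToH1ₗ_apply {I : Type u} [AddCommGroup I] [Module A I] (ι : I →ₗ[A] A)
    (h : ∀ s, algebraMap A B (ι s) = 0) (s : I) :
    kerToH1ₗ ι h s = kerToH1 (ι s) (h s) := rfl

end Basic

section Surj
variable {A B : Type u} [CommRing A] [CommRing B] [Algebra A B]
  (hs : Function.Surjective (algebraMap A B))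

/-- the extension `A → B` of `B` over `A`, when `A → B` is surjective. -/
noncomputable def surjExt : Extension.{u} A B := Extension.ofSurjective (Algebra.ofId A B) hs

instance : Algebra.FormallySmooth A (surjExt hs).Ring :=
  inferInstanceAs (Algebra.FormallySmooth A A)

/-- the comparison hom from `A → B` to the standard presentation. -/
noncomputable def surjExtHom : (surjExt hs).Hom (Generators.self A B).toExtension where
  toRingHom := algebraMap A (Generators.self A B).toExtension.Ring
  toRingHom_algebraMap x := rfl
  algebraMap_toRingHom x :=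
    (IsScalarTower.algebraMap_apply A (Generators.self A B).toExtension.Ring B x).symm

theorem equiv_kerToH1' (x : A) (hx : algebraMap A B x = 0) :
    Extension.equivH1CotangentOfFormallySmooth (surjExt hs) (kerToH1' (surjExt hs) x hx) =
      kerToH1 x hx := by
  haveI : FormallySmooth A (Generators.self A B).toExtension.Ring :=
    inferInstanceAs (FormallySmooth A (MvPolynomial B A))
  unfold Extension.equivH1CotangentOfFormallySmooth
  rw [Extension.H1Cotangent.equivOfFormallySmooth_apply (surjExtHom hs)]
  exact map_kerToH1' (surjExtHom hs) x hx hx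

include hs in
theorem exists_kerToH1_eq (n : Algebra.H1Cotangent A B) :
    ∃ (x : A) (hx : algebraMap A B x = 0), kerToH1 x hx = n := by
  obtain ⟨y, rfl⟩ := (Extension.equivH1CotangentOfFormallySmooth (surjExt hs)).surjective n
  obtain ⟨⟨x, hx⟩, hxy⟩ := Extension.Cotangent.mk_surjective y.1
  have hx' : algebraMap A B x = 0 := hx
  refine ⟨x, hx', ?_⟩
  rw [← equiv_kerToH1' hs x hx']
  congr 1
  apply Subtype.ext
  exact hxy

include hs in
theorem kerToH1_eq_zero (x : A) (hx : algebraMap A B x = 0)
    (h0 : kerToH1 x hx = (0 : Algebra.H1Cotangent A B)) :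
    x ∈ (RingHom.ker (algebraMap A B)) ^ 2 := by
  rw [← equiv_kerToH1' hs x hx, LinearEquiv.map_eq_zero_iff] at h0
  have h1 : (kerToH1' (surjExt hs) x hx).1 = 0 := by rw [h0]; rfl
  rw [kerToH1'_val, Extension.Cotangent.mk_eq_zero_iff] at h1
  exact h1

include hs in
/-- **surjective case**: if `A → B` is surjective with kernel the (injective) image of `ι : I → A`
and `M = B ⊗_A I`, then `M → H¹(L_{B/A})` is bijective. -/
theorem bijective_lift_kerToH1ₗ {I M : Type u} [AddCommGroup I] [Module A I] [AddCommGroup M]
    [Module A M] [Module B M] [IsScalarTower A B M] (p : I →ₗ[A] M) (hp : IsBaseChange B p)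
    (ι : I →ₗ[A] A) (hι : Function.Injective ι)
    (hιr : ∀ a, algebraMap A B a = 0 → ∃ s, ι s = a)
    (h : ∀ s, algebraMap A B (ι s) = 0) :
    Function.Bijective (hp.lift (kerToH1ₗ ι h)) := by
  have hsurjp : ∀ m : M, ∃ s, p s = m := by
    intro m
    refine hp.inductionOn m (fun m => ∃ s, p s = m) ⟨0, map_zero _⟩ (fun s => ⟨s, rfl⟩) ?_ ?_
    · rintro b m ⟨s, rfl⟩
      obtain ⟨a, rfl⟩ := hs b
      exact ⟨a • s, by rw [map_smul, algebraMap_smul]⟩
    · rintro m₁ m₂ ⟨s₁, rfl⟩ ⟨s₂, rfl⟩
      exact ⟨s₁ + s₂, map_add _ _ _⟩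
  have hsq : ∀ y ∈ (RingHom.ker (algebraMap A B)) ^ 2, ∃ s, ι s = y ∧ p s = 0 := by
    intro y hy
    rw [pow_two] at hy
    refine Submodule.mul_induction_on hy ?_ ?_
    · intro a ha b hb
      obtain ⟨t, rfl⟩ := hιr b hb
      refine ⟨a • t, by rw [map_smul, smul_eq_mul], ?_⟩
      rw [map_smul, ← algebraMap_smul B a (p t), (RingHom.mem_ker).1 ha, zero_smul]
    · rintro y₁ y₂ ⟨s₁, rfl, h₁⟩ ⟨s₂, rfl, h₂⟩
      exact ⟨s₁ + s₂, map_add _ _ _, by rw [map_add, h₁, h₂, add_zero]⟩
  constructor
  · rw [injective_iff_map_eq_zero]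
    intro m hm
    obtain ⟨s, rfl⟩ := hsurjp m
    rw [hp.lift_eq, kerToH1ₗ_apply] at hm
    obtain ⟨s', hs', hps'⟩ := hsq _ (kerToH1_eq_zero hs _ _ hm)
    rw [← hι hs']
    exact hps'
  · intro n
    obtain ⟨x, hx, rfl⟩ := exists_kerToH1_eq hs n
    obtain ⟨s, rfl⟩ := hιr x hx
    exact ⟨p s, by rw [hp.lift_eq, kerToH1ₗ_apply]⟩

end Surj

section BaseLoc
variable {A A' B : Type u} [CommRing A] [CommRing A'] [CommRing B] [Algebra A A'] [Algebra A B]
  [Algebra A' B] [IsScalarTower A A' B] [Algebra.FormallyEtale A A']
  (hs : Function.Surjective (algebraMap A' B))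

/-- the extension `A' → B` of `B` over `A`. -/
noncomputable def midExt : Extension.{u} A B :=
  Extension.ofSurjective (IsScalarTower.toAlgHom A A' B) hs

instance : Algebra.FormallySmooth A (midExt (A := A) hs).Ring :=
  inferInstanceAs (Algebra.FormallySmooth A A')

/-- the identity as a hom of extensions over different bases. -/
noncomputable def midExtHom : (midExt (A := A) hs).Hom (surjExt hs) where
  toRingHom := RingHom.id A'
  toRingHom_algebraMap x := rfl
  algebraMap_toRingHom x := rfl

theorem map_midExtHom_injective :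
    Function.Injective (Extension.H1Cotangent.map (midExtHom (A := A) hs)) := by
  rw [injective_iff_map_eq_zero]
  intro y hy
  apply Subtype.ext
  have h1 : (Extension.H1Cotangent.map (midExtHom (A := A) hs) y).1 = 0 := by rw [hy]; rfl
  rw [Extension.H1Cotangent.map_apply_coe] at h1
  obtain ⟨⟨a, ha⟩, hay⟩ := Extension.Cotangent.mk_surjective y.1
  rw [← hay, Extension.Cotangent.map_mk, Extension.Cotangent.mk_eq_zero_iff] at h1
  change y.1 = 0
  rw [← hay, Extension.Cotangent.mk_eq_zero_iff]
  exact h1

set_option backward.isDefEq.respectTransparency false in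
/-- a hom from the standard presentation to a given extension. -/
noncomputable def selfHom {R S : Type u} [CommRing R] [CommRing S] [Algebra R S]
    (Q : Extension.{u} R S) : (Generators.self R S).toExtension.Hom Q where
  toRingHom := (MvPolynomial.aeval Q.σ).toRingHom
  toRingHom_algebraMap := (MvPolynomial.aeval Q.σ).commutes
  algebraMap_toRingHom := by
    have : (IsScalarTower.toAlgHom R Q.Ring S).comp (MvPolynomial.aeval Q.σ) =
        IsScalarTower.toAlgHom _ (Generators.self R S).toExtension.Ring _ := by
      ext i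
      change _ = algebraMap (Generators.self R S).Ring _ (.X i)
      simp
    exact DFunLike.congr_fun this

include hs in
/-- **localising the base**: for `A → A'` formally étale and `A' → B` surjective, the map
`H¹(L_{B/A}) → H¹(L_{B/A'})` is injective. -/
theorem map_injective_of_formallyEtale :
    Function.Injective (Algebra.H1Cotangent.map A A' B B) := by
  haveI : FormallySmooth A (Generators.self A B).toExtension.Ring :=
    inferInstanceAs (FormallySmooth A (MvPolynomial B A))
  rw [injective_iff_map_eq_zero]
  intro x hx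
  have h1 : Extension.H1Cotangent.map (midExtHom (A := A) hs)
      (Extension.H1Cotangent.map (selfHom (midExt (A := A) hs)) x) =
      Extension.H1Cotangent.map (selfHom (surjExt hs)) (Algebra.H1Cotangent.map A A' B B x) := by
    unfold Algebra.H1Cotangent.map
    have e1 := Extension.H1Cotangent.map_comp_apply (selfHom (midExt (A := A) hs))
      (midExtHom (A := A) hs) x
    have e2 := Extension.H1Cotangent.map_comp_apply
      ((Generators.self A B).defaultHom (Generators.self A' B)).toExtensionHom
      (selfHom (surjExt hs)) x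
    rw [← e1, ← e2]
    exact congrArg (fun φ => φ x) (Extension.H1Cotangent.map_eq
      ((midExtHom (A := A) hs).comp (selfHom (midExt (A := A) hs)))
      ((selfHom (surjExt hs)).comp
        ((Generators.self A B).defaultHom (Generators.self A' B)).toExtensionHom))
  rw [hx, map_zero] at h1
  have h2 := (map_midExtHom_injective (A := A) hs) (h1.trans (map_zero _).symm)
  have h3 := Extension.H1Cotangent.equivOfFormallySmooth_apply (selfHom (midExt (A := A) hs)) x
  rw [h2] at h3
  exact (LinearEquiv.map_eq_zero_iff _).1 h3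

include hs in
/-- variant of `map_injective_of_formallyEtale` for an arbitrary algebra instance `B → B` whose
structure map is the identity. -/
theorem map_injective_of_formallyEtale' (instBB : Algebra B B)
    (hBB : ∀ b, @algebraMap B B _ _ instBB b = b)
    (tw : @IsScalarTower A B B _ instBB.toSMul _) :
    Function.Injective (@Algebra.H1Cotangent.map A A' _ _ _ B _ _ B _ _ _ _ instBB tw) := by
  obtain rfl : instBB = Algebra.id B := Algebra.algebra_ext _ _ hBB
  exact map_injective_of_formallyEtale hs

end BaseLoc

/-- variant of `Algebra.H1Cotangent.isLocalizedModule` for an arbitrary algebra instance `R → R`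
whose structure map is the identity. -/
theorem isLocalizedModule_map' (R : Type u) {S : Type u} (T : Type u) [CommRing R] [CommRing S]
    [CommRing T] [Algebra R S] [Algebra R T] [Algebra S T] [IsScalarTower R S T]
    (M : Submonoid S) [IsLocalization M T] (instRR : Algebra R R)
    (hRR : ∀ r, @algebraMap R R _ _ instRR r = r)
    (tw : @IsScalarTower R R T instRR.toSMul _ _) :
    IsLocalizedModule M (@Algebra.H1Cotangent.map R R _ _ instRR S _ _ T _ _ _ tw _ _) := by
  obtain rfl : instRR = Algebra.id R := Algebra.algebra_ext _ _ hRR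
  exact Algebra.H1Cotangent.isLocalizedModule R T M

end Groth.Agent.H3.NL
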