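import Mathlib
import Groth.Prelude.Def_SheafNL
import Groth.Prelude.Def_Omega3
import Groth.Agent.Lib.Helper3.NL1
import Groth.Agent.Lib.Helper3.OmU2
import Groth.Agent.Lib.Helper3.OmGood
import Groth.Agent.Lib.Helper3.OmCM5
import Groth.Agent.Lib.Lead.QC.Extend

set_option autoImplicit false
universe u
open AlgebraicGeometry CategoryTheory TopologicalSpace Opposite CategoryTheory.Limits TensorProduct

namespace Groth.Agent.H3.NL

open Groth.Agent.H3.Om Groth.Agent.LD.QC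

variable {Z X : Scheme.{u}} (i : Z ⟶ X)

/-- `idealSect` as a linear map. -/
noncomputable def idealSectₗ (V : X.Opens) :
    Γ(ClSub.idealMod i.ker, V) →ₗ[Γ(X, V)] Γ(X, V) where
  toFun := OmegaSh.idealSect i.ker V
  map_add' := map_add _
  map_smul' a s := by rw [idealSect_smul]; rfl

theorem idealSectₗ_apply (V : X.Opens) (s : Γ(ClSub.idealMod i.ker, V)) :
    idealSectₗ i V s = OmegaSh.idealSect i.ker V s := rfl

theorem appLE_idealSect {U : Z.Opens} {V : X.Opens} (e : U ≤ i ⁻¹ᵁ V)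
    (s : Γ(ClSub.idealMod i.ker, V)) :
    (i.appLE V U e).hom (OmegaSh.idealSect i.ker V s) = 0 := by
  have h := app_idealSect_eq_zero i V s
  rw [Scheme.Hom.appLE]
  change (Z.presheaf.map (homOfLE e).op).hom ((i.app V).hom (OmegaSh.idealSect i.ker V s)) = 0
  have h' : (i.app V).hom (OmegaSh.idealSect i.ker V s) = 0 := h
  rw [h', map_zero]

/-- the comparison map `Γ(U, C_{Z/X}) → H¹(L_{Γ(Z,U)/Γ(X,V)})` on a chart pair. -/
noncomputable def theta {U : Z.Opens} {V : X.Opens} (hU : IsAffineOpen U) (hV : IsAffineOpen V)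
    (e : U ≤ i ⁻¹ᵁ V) :
    letI := (i.appLE V U e).hom.toAlgebra
    Γ(Omega.conormal i, U) →ₗ[Γ(Z, U)] Algebra.H1Cotangent Γ(X, V) Γ(Z, U) :=
  letI := (i.appLE V U e).hom.toAlgebra
  letI := pbModule i (ClSub.idealMod i.ker) e
  haveI := pbModule_isScalarTower i (ClSub.idealMod i.ker) e
  (isBaseChange_pbSec i hU hV e (ClSub.idealMod i.ker)).lift
    (kerToH1ₗ (idealSectₗ i V) (appLE_idealSect i e))

theorem theta_pbSec {U : Z.Opens} {V : X.Opens} (hU : IsAffineOpen U) (hV : IsAffineOpen V)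
    (e : U ≤ i ⁻¹ᵁ V) (s : Γ(ClSub.idealMod i.ker, V)) :
    letI := (i.appLE V U e).hom.toAlgebra
    theta i hU hV e (pbSec i (ClSub.idealMod i.ker) e s) =
      kerToH1 (OmegaSh.idealSect i.ker V s) (appLE_idealSect i e s) := by
  letI := (i.appLE V U e).hom.toAlgebra
  letI := pbModule i (ClSub.idealMod i.ker) e
  haveI := pbModule_isScalarTower i (ClSub.idealMod i.ker) e
  exact (isBaseChange_pbSec i hU hV e (ClSub.idealMod i.ker)).lift_eq
    (kerToH1ₗ (idealSectₗ i V) (appLE_idealSect i e)) s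

section ChartRes

variable {i}
variable {U U' : Z.affineOpens} {V V' : X.affineOpens}
    (e : (U : Z.Opens) ≤ i ⁻¹ᵁ (V : X.Opens)) (e' : (U' : Z.Opens) ≤ i ⁻¹ᵁ (V' : X.Opens))
    (hU : (U' : Z.Opens) ≤ (U : Z.Opens)) (hV : (V' : X.Opens) ≤ (V : X.Opens))

theorem chartRes_kerToH1 (a : Γ(X, (V : X.Opens)))
    (ha : (i.appLE (V : X.Opens) (U : Z.Opens) e).hom a = 0)
    (ha' : (i.appLE (V' : X.Opens) (U' : Z.Opens) e').hom
      ((X.presheaf.map (homOfLE hV).op).hom a) = 0) :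
    letI := (i.appLE (V : X.Opens) (U : Z.Opens) e).hom.toAlgebra
    letI := (i.appLE (V' : X.Opens) (U' : Z.Opens) e').hom.toAlgebra
    NLCx.chartRes (f := i) e e' hU hV (kerToH1 a ha) =
      kerToH1 ((X.presheaf.map (homOfLE hV).op).hom a) ha' := by
  letI := (i.appLE (V : X.Opens) (U : Z.Opens) e).hom.toAlgebra
  letI := (i.appLE (V' : X.Opens) (U' : Z.Opens) e').hom.toAlgebra
  letI := (i.appLE (V : X.Opens) (U' : Z.Opens) (hU.trans e)).hom.toAlgebra
  letI := (Z.presheaf.map (homOfLE hU).op).hom.toAlgebra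
  letI := (X.presheaf.map (homOfLE hV).op).hom.toAlgebra
  haveI : IsScalarTower Γ(X, (V : X.Opens)) Γ(X, (V' : X.Opens)) Γ(Z, (U' : Z.Opens)) :=
    IsScalarTower.of_algebraMap_eq' (by
      change (i.appLE _ _ _).hom = (i.appLE _ _ _).hom.comp (X.presheaf.map _).hom
      rw [← CommRingCat.hom_comp, Scheme.Hom.map_appLE])
  haveI : IsScalarTower Γ(X, (V : X.Opens)) Γ(Z, (U : Z.Opens)) Γ(Z, (U' : Z.Opens)) :=
    IsScalarTower.of_algebraMap_eq' (by
      change (i.appLE _ _ _).hom = (Z.presheaf.map _).hom.comp (i.appLE _ _ _).hom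
      rw [← CommRingCat.hom_comp, Scheme.Hom.appLE_map])
  exact map_kerToH1' _ a ha ha'

theorem chartRes_smul (b : Γ(Z, (U : Z.Opens)))
    (x : NLCx.ChartH1 i U V e) :
    NLCx.chartRes (f := i) e e' hU hV (b • x) =
      ((Z.presheaf.map (homOfLE hU).op).hom b) • NLCx.chartRes (f := i) e e' hU hV x := by
  letI := (i.appLE (V : X.Opens) (U : Z.Opens) e).hom.toAlgebra
  letI := (i.appLE (V' : X.Opens) (U' : Z.Opens) e').hom.toAlgebra
  letI := (i.appLE (V : X.Opens) (U' : Z.Opens) (hU.trans e)).hom.toAlgebra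
  letI := (Z.presheaf.map (homOfLE hU).op).hom.toAlgebra
  letI := (X.presheaf.map (homOfLE hV).op).hom.toAlgebra
  haveI : IsScalarTower Γ(X, (V : X.Opens)) Γ(X, (V' : X.Opens)) Γ(Z, (U' : Z.Opens)) :=
    IsScalarTower.of_algebraMap_eq' (by
      change (i.appLE _ _ _).hom = (i.appLE _ _ _).hom.comp (X.presheaf.map _).hom
      rw [← CommRingCat.hom_comp, Scheme.Hom.map_appLE])
  haveI : IsScalarTower Γ(X, (V : X.Opens)) Γ(Z, (U : Z.Opens)) Γ(Z, (U' : Z.Opens)) :=
    IsScalarTower.of_algebraMap_eq' (by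
      change (i.appLE _ _ _).hom = (Z.presheaf.map _).hom.comp (i.appLE _ _ _).hom
      rw [← CommRingCat.hom_comp, Scheme.Hom.appLE_map])
  change (Algebra.H1Cotangent.map Γ(X, (V : X.Opens)) Γ(X, (V' : X.Opens)) Γ(Z, (U : Z.Opens))
    Γ(Z, (U' : Z.Opens))) (b • x) = algebraMap Γ(Z, (U : Z.Opens)) Γ(Z, (U' : Z.Opens)) b •
    (Algebra.H1Cotangent.map Γ(X, (V : X.Opens)) Γ(X, (V' : X.Opens)) Γ(Z, (U : Z.Opens))
    Γ(Z, (U' : Z.Opens))) x
  rw [map_smul, algebraMap_smul]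

theorem theta_res (m : Γ(Omega.conormal i, (U : Z.Opens))) :
    theta i U'.2 V'.2 e' ((Omega.conormal i).presheaf.map (homOfLE hU).op m) =
      NLCx.chartRes (f := i) e e' hU hV (theta i U.2 V.2 e m) := by
  have hspan := span_range_pbSec i U.2 V.2 e (ClSub.idealMod i.ker)
  have hm : m ∈ Submodule.span Γ(Z, (U : Z.Opens))
      (Set.range (pbSec i (ClSub.idealMod i.ker) e)) := by rw [hspan]; trivial
  induction hm using Submodule.span_induction with
  | mem x hx =>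
    obtain ⟨s, rfl⟩ := hx
    have h1 := pbSec_res i (ClSub.idealMod i.ker) e e' hU hV s
    have h2 : (Omega.conormal i).presheaf.map (homOfLE hU).op
        (pbSec i (ClSub.idealMod i.ker) e s) =
        pbSec i (ClSub.idealMod i.ker) e' ((ClSub.idealMod i.ker).presheaf.map (homOfLE hV).op s) :=
      h1.symm
    rw [h2, theta_pbSec, theta_pbSec]
    have h3 := idealSect_res i.ker hV s
    rw [chartRes_kerToH1 e e' hU hV _ _ (by
      have := appLE_idealSect i e' ((ClSub.idealMod i.ker).presheaf.map (homOfLE hV).op s)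
      rwa [h3] at this)]
    congr 1
  | zero => rw [map_zero, map_zero, map_zero, map_zero]
  | add x y _ _ hx hy => rw [map_add, map_add, map_add, map_add, hx, hy]
  | smul b x _ hx =>
    have h4 : (Omega.conormal i).presheaf.map (homOfLE hU).op (b • x) =
        ((Z.presheaf.map (homOfLE hU).op).hom b) •
          (Omega.conormal i).presheaf.map (homOfLE hU).op x :=
      Scheme.Modules.map_smul _ _ _ _
    have h5 : theta i U.2 V.2 e (b • x) = b • theta i U.2 V.2 e x := map_smul _ _ _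
    refine (congrArg (theta i U'.2 V'.2 e') h4).trans ?_
    refine (map_smul (theta i U'.2 V'.2 e') _ _).trans ?_
    refine Eq.trans ?_ (congrArg (NLCx.chartRes (f := i) e e' hU hV) h5.symm)
    refine Eq.trans ?_ (chartRes_smul e e' hU hV b _).symm
    exact congrArg (fun t => ((Z.presheaf.map (homOfLE hU).op).hom b) • t) hx

end ChartRes

section Bij

variable [QuasiCompact i]

/-- on a good chart the comparison map is bijective. -/
theorem theta_bijective_of_good {V : X.Opens} (hg : IsGoodChart i V) :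
    Function.Bijective (theta i hg.preimage_affine hg.affine le_rfl) := by
  letI := (i.appLE V (i ⁻¹ᵁ V) le_rfl).hom.toAlgebra
  letI := pbModule i (ClSub.idealMod i.ker) (le_refl (i ⁻¹ᵁ V))
  haveI := pbModule_isScalarTower i (ClSub.idealMod i.ker) (le_refl (i ⁻¹ᵁ V))
  have hmap : algebraMap Γ(X, V) Γ(Z, i ⁻¹ᵁ V) = (i.app V).hom :=
    congrArg CommRingCat.Hom.hom (Scheme.Hom.appLE_eq_app i)
  have hs : Function.Surjective (algebraMap Γ(X, V) Γ(Z, i ⁻¹ᵁ V)) := by
    rw [hmap]; exact hg.surj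
  exact bijective_lift_kerToH1ₗ hs _
    (isBaseChange_pbSec i hg.preimage_affine hg.affine le_rfl (ClSub.idealMod i.ker))
    (idealSectₗ i V) (idealSect_injective i.ker V)
    (fun a ha => (exists_idealSect_eq_iff i V a).2 (by rw [hmap] at ha; exact ha))
    (appLE_idealSect i le_rfl)

theorem presheaf_map_refl (W : Z.Opens) (h : W ≤ W) (b : Γ(Z, W)) :
    (Z.presheaf.map (homOfLE h).op).hom b = b := by
  have : (homOfLE h).op = 𝟙 (op W) := Subsingleton.elim _ _
  rw [this, Z.presheaf.map_id]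
  rfl

theorem modules_map_refl (M : Z.Modules) (W : Z.Opens) (h : W ≤ W) (m : Γ(M, W)) :
    M.presheaf.map (homOfLE h).op m = m := by
  have : (homOfLE h).op = 𝟙 (op W) := Subsingleton.elim _ _
  rw [this, M.presheaf.map_id]
  rfl

/-- base localisation: for a good basic open `D(a) ⊆ V`, restriction of the base is injective on
`H¹`. -/
theorem chartRes_injective_of_good {V : X.Opens} (hV : IsAffineOpen V) (a : Γ(X, V))
    (hg : IsGoodChart i (X.basicOpen a)) (e : i ⁻¹ᵁ (X.basicOpen a) ≤ i ⁻¹ᵁ V) :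
    Function.Injective (NLCx.chartRes (f := i)
      (U := ⟨i ⁻¹ᵁ (X.basicOpen a), hg.preimage_affine⟩)
      (U' := ⟨i ⁻¹ᵁ (X.basicOpen a), hg.preimage_affine⟩)
      (V := ⟨V, hV⟩) (V' := ⟨X.basicOpen a, hg.affine⟩) e le_rfl le_rfl (X.basicOpen_le a)) := by
  letI := (i.appLE V (i ⁻¹ᵁ (X.basicOpen a)) e).hom.toAlgebra
  letI := (i.appLE (X.basicOpen a) (i ⁻¹ᵁ (X.basicOpen a)) le_rfl).hom.toAlgebra
  letI := (i.appLE V (i ⁻¹ᵁ (X.basicOpen a)) ((le_refl _).trans e)).hom.toAlgebra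
  letI instBB := (Z.presheaf.map (homOfLE (le_refl (i ⁻¹ᵁ (X.basicOpen a)))).op).hom.toAlgebra
  letI := (X.presheaf.map (homOfLE (X.basicOpen_le a)).op).hom.toAlgebra
  haveI tw1 : IsScalarTower Γ(X, V) Γ(X, X.basicOpen a) Γ(Z, i ⁻¹ᵁ (X.basicOpen a)) :=
    IsScalarTower.of_algebraMap_eq' (by
      change (i.appLE _ _ _).hom = (i.appLE _ _ _).hom.comp (X.presheaf.map _).hom
      rw [← CommRingCat.hom_comp, Scheme.Hom.map_appLE])
  have tw2 : @IsScalarTower Γ(X, V) Γ(Z, i ⁻¹ᵁ (X.basicOpen a)) Γ(Z, i ⁻¹ᵁ (X.basicOpen a)) _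
      instBB.toSMul _ :=
    @IsScalarTower.of_algebraMap_eq' Γ(X, V) Γ(Z, i ⁻¹ᵁ (X.basicOpen a))
      Γ(Z, i ⁻¹ᵁ (X.basicOpen a)) _ _ _ _ instBB _ (by
      change (i.appLE _ _ _).hom = (Z.presheaf.map _).hom.comp (i.appLE _ _ _).hom
      rw [← CommRingCat.hom_comp, Scheme.Hom.appLE_map])
  haveI : IsLocalization.Away a Γ(X, X.basicOpen a) := hV.isLocalization_basicOpen a
  haveI : Algebra.FormallyEtale Γ(X, V) Γ(X, X.basicOpen a) :=
    Algebra.FormallyEtale.of_isLocalization (Submonoid.powers a)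
  have hmap : algebraMap Γ(X, X.basicOpen a) Γ(Z, i ⁻¹ᵁ (X.basicOpen a)) =
      (i.app (X.basicOpen a)).hom :=
    congrArg CommRingCat.Hom.hom (Scheme.Hom.appLE_eq_app i)
  have hs : Function.Surjective
      (algebraMap Γ(X, X.basicOpen a) Γ(Z, i ⁻¹ᵁ (X.basicOpen a))) := by
    rw [hmap]; exact hg.surj
  exact map_injective_of_formallyEtale' (A := Γ(X, V)) hs instBB
    (fun b => presheaf_map_refl _ _ b) tw2

/-- the pair `(i⁻¹ D(a), V)` for a good basic open `D(a) ⊆ V`. -/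
theorem theta_bijective_of_good_basicOpen {V : X.Opens} (hV : IsAffineOpen V) (a : Γ(X, V))
    (hg : IsGoodChart i (X.basicOpen a)) {U'' : Z.Opens} (hU'' : U'' = i ⁻¹ᵁ (X.basicOpen a))
    (hU''a : IsAffineOpen U'') (e : U'' ≤ i ⁻¹ᵁ V) :
    Function.Bijective (theta i hU''a hV e) := by
  subst hU''
  have hb := theta_bijective_of_good i hg
  have hres := theta_res (i := i) (U := ⟨_, hg.preimage_affine⟩) (U' := ⟨_, hg.preimage_affine⟩)
    (V := ⟨V, hV⟩) (V' := ⟨X.basicOpen a, hg.affine⟩) e le_rfl le_rfl (X.basicOpen_le a)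
  have hinj := chartRes_injective_of_good i hV a hg e
  have hres' : ∀ m, theta i hg.preimage_affine hg.affine le_rfl m =
      NLCx.chartRes (f := i) (U := ⟨_, hg.preimage_affine⟩) (U' := ⟨_, hg.preimage_affine⟩)
        (V := ⟨V, hV⟩) (V' := ⟨X.basicOpen a, hg.affine⟩) e le_rfl le_rfl (X.basicOpen_le a)
        (theta i hg.preimage_affine hV e m) := by
    intro m
    have := hres m
    rwa [modules_map_refl] at this
  constructor
  · intro m m' hmm
    apply hb.1
    rw [hres', hres']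
    exact congrArg _ hmm
  · intro n
    obtain ⟨m, hm⟩ := hb.2 (NLCx.chartRes (f := i) (U := ⟨_, hg.preimage_affine⟩)
      (U' := ⟨_, hg.preimage_affine⟩)
      (V := ⟨V, hV⟩) (V' := ⟨X.basicOpen a, hg.affine⟩) e le_rfl le_rfl (X.basicOpen_le a) n)
    refine ⟨m, hinj ?_⟩
    rw [← hres']
    exact hm

theorem exists_good_basicOpen [IsImmersion i] {U : Z.Opens} {V : X.Opens} (hV : IsAffineOpen V)
    (e : U ≤ i ⁻¹ᵁ V) (z : Z) (hz : z ∈ U) :
    ∃ a : Γ(X, V), IsGoodChart i (X.basicOpen a) ∧ z ∈ i ⁻¹ᵁ (X.basicOpen a) ∧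
      i ⁻¹ᵁ (X.basicOpen a) ≤ U := by
  obtain ⟨W, hW, hWc, hzW, hWU⟩ := exists_good_chart i z U hz
  obtain ⟨a, ha, hza⟩ := hV.exists_basicOpen_le (⟨i z, hzW⟩ : W) (e hz)
  exact ⟨a, isGoodChart_of_le_coborder i (hV.basicOpen a) (ha.trans hWc), hza,
    fun y hy => hWU (ha hy)⟩

theorem basicOpen_appLE {U : Z.Opens} {V : X.Opens} (e : U ≤ i ⁻¹ᵁ V) (a : Γ(X, V))
    (h : i ⁻¹ᵁ (X.basicOpen a) ≤ U) :
    Z.basicOpen ((i.appLE V U e).hom a) = i ⁻¹ᵁ (X.basicOpen a) := by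
  rw [Scheme.Hom.appLE]
  change Z.basicOpen ((Z.presheaf.map (homOfLE e).op).hom ((i.app V).hom a)) = _
  rw [Scheme.basicOpen_res, ← Scheme.preimage_basicOpen]
  exact inf_eq_right.2 h

/-- localising the source: an element of `H¹` dying on a basic open is killed by a power. -/
theorem exists_pow_smul_eq_zero_of_chartRes {U : Z.Opens} {V : X.Opens} (hU : IsAffineOpen U)
    (hV : IsAffineOpen V) (e : U ≤ i ⁻¹ᵁ V) (g : Γ(Z, U)) (e' : Z.basicOpen g ≤ i ⁻¹ᵁ V)
    (x : NLCx.ChartH1 i ⟨U, hU⟩ ⟨V, hV⟩ e)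
    (hx : NLCx.chartRes (f := i) (U := ⟨U, hU⟩) (U' := ⟨Z.basicOpen g, hU.basicOpen g⟩)
      (V := ⟨V, hV⟩) (V' := ⟨V, hV⟩) e e' (Z.basicOpen_le g) le_rfl x = 0) :
    ∃ k : ℕ, g ^ k • x = 0 := by
  letI := (i.appLE V U e).hom.toAlgebra
  letI := (i.appLE V (Z.basicOpen g) e').hom.toAlgebra
  letI := (i.appLE V (Z.basicOpen g) ((Z.basicOpen_le g).trans e)).hom.toAlgebra
  letI := (Z.presheaf.map (homOfLE (Z.basicOpen_le g)).op).hom.toAlgebra
  letI instAA := (X.presheaf.map (homOfLE (le_refl V)).op).hom.toAlgebra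
  have tw1 : @IsScalarTower Γ(X, V) Γ(X, V) Γ(Z, Z.basicOpen g) instAA.toSMul _ _ :=
    @IsScalarTower.of_algebraMap_eq' Γ(X, V) Γ(X, V) Γ(Z, Z.basicOpen g) _ _ _ instAA _ _ (by
      change (i.appLE _ _ _).hom = (i.appLE _ _ _).hom.comp (X.presheaf.map _).hom
      rw [← CommRingCat.hom_comp, Scheme.Hom.map_appLE])
  haveI tw2 : IsScalarTower Γ(X, V) Γ(Z, U) Γ(Z, Z.basicOpen g) :=
    IsScalarTower.of_algebraMap_eq' (by
      change (i.appLE _ _ _).hom = (Z.presheaf.map _).hom.comp (i.appLE _ _ _).hom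
      rw [← CommRingCat.hom_comp, Scheme.Hom.appLE_map])
  haveI : IsLocalization.Away g Γ(Z, Z.basicOpen g) := hU.isLocalization_basicOpen g
  have hloc := isLocalizedModule_map' Γ(X, V) Γ(Z, Z.basicOpen g) (Submonoid.powers g) instAA
    (fun r => presheaf_map_refl (Z := X) _ _ r) tw1
  haveI := hloc
  obtain ⟨⟨c, k, rfl⟩, hc⟩ := (IsLocalizedModule.eq_zero_iff (Submonoid.powers g)
    (@Algebra.H1Cotangent.map Γ(X, V) Γ(X, V) _ _ instAA Γ(Z, U) _ _ Γ(Z, Z.basicOpen g)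
      _ _ _ tw1 _ _) (m := x)).1 hx
  exact ⟨k, hc⟩

/-- **the comparison map is bijective on every chart pair.** -/
theorem theta_bijective [IsImmersion i] {U : Z.Opens} {V : X.Opens} (hU : IsAffineOpen U)
    (hV : IsAffineOpen V) (e : U ≤ i ⁻¹ᵁ V) :
    Function.Bijective (theta i hU hV e) := by
  letI := (i.appLE V U e).hom.toAlgebra
  let s : Set Γ(Z, U) := {g | ∃ a : Γ(X, V), g = (i.appLE V U e).hom a ∧
    IsGoodChart i (X.basicOpen a) ∧ i ⁻¹ᵁ (X.basicOpen a) ≤ U}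
  have hle : ∀ g : Γ(Z, U), Z.basicOpen g ≤ i ⁻¹ᵁ V := fun g => (Z.basicOpen_le g).trans e
  have hbij : ∀ g ∈ s, Function.Bijective (theta i (hU.basicOpen g) hV (hle g)) := by
    rintro g ⟨a, rfl, hg, hgU⟩
    exact theta_bijective_of_good_basicOpen i hV a hg (basicOpen_appLE i e a hgU) _ _
  have hcov : U ≤ ⨆ g : s, Z.basicOpen g.1 := by
    intro z hz
    obtain ⟨a, hg, hza, hgU⟩ := exists_good_basicOpen i hV e z hz
    refine Opens.mem_iSup.2 ⟨⟨(i.appLE V U e).hom a, a, rfl, hg, hgU⟩, ?_⟩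
    change z ∈ Z.basicOpen ((i.appLE V U e).hom a)
    rw [basicOpen_appLE i e a hgU]
    exact hza
  have hspan : Ideal.span s = ⊤ := hU.self_le_iSup_basicOpen_iff.1 hcov
  have hres : ∀ (g : Γ(Z, U)) (m : Γ(Omega.conormal i, U)),
      theta i (hU.basicOpen g) hV (hle g)
        ((Omega.conormal i).presheaf.map (homOfLE (Z.basicOpen_le g)).op m) =
      NLCx.chartRes (f := i) (U := ⟨U, hU⟩) (U' := ⟨Z.basicOpen g, hU.basicOpen g⟩)
        (V := ⟨V, hV⟩) (V' := ⟨V, hV⟩) e (hle g) (Z.basicOpen_le g) le_rfl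
        (theta i hU hV e m) := fun g m =>
    theta_res (i := i) (U := ⟨U, hU⟩) (U' := ⟨Z.basicOpen g, hU.basicOpen g⟩)
        (V := ⟨V, hV⟩) (V' := ⟨V, hV⟩) e (hle g) (Z.basicOpen_le g) le_rfl m
  constructor
  · rw [injective_iff_map_eq_zero]
    intro m hm
    refine section_ext_of_cover (Omega.conormal i) (fun g : s => Z.basicOpen g.1)
      (fun g => Z.basicOpen_le g.1) hcov m 0 (fun g => ?_)
    apply (hbij g.1 g.2).1
    rw [hres, hres, hm, map_zero, map_zero, map_zero]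
  · intro n
    have key : n ∈ LinearMap.range (theta i hU hV e) := by
      refine Submodule.mem_of_span_eq_top_of_smul_pow_mem _ s hspan n (fun g => ?_)
      obtain ⟨mg, hmg⟩ := (hbij g.1 g.2).2 (NLCx.chartRes (f := i) (U := ⟨U, hU⟩)
        (U' := ⟨Z.basicOpen g.1, hU.basicOpen g.1⟩)
        (V := ⟨V, hV⟩) (V' := ⟨V, hV⟩) e (hle g.1) (Z.basicOpen_le g.1) le_rfl n)
      obtain ⟨k, m, hkm⟩ := compact_qs_surj (Omega.conormal i) hU.isCompact
        hU.isQuasiSeparated g.1 mg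
      have h1 : NLCx.chartRes (f := i) (U := ⟨U, hU⟩)
          (U' := ⟨Z.basicOpen g.1, hU.basicOpen g.1⟩)
          (V := ⟨V, hV⟩) (V' := ⟨V, hV⟩) e (hle g.1) (Z.basicOpen_le g.1) le_rfl
          (theta i hU hV e m - g.1 ^ k • n) = 0 := by
        rw [map_sub, chartRes_smul, ← hres, hkm, ← hmg, map_pow]
        exact sub_eq_zero.2 (map_smul _ _ _)
      obtain ⟨k', hk'⟩ := exists_pow_smul_eq_zero_of_chartRes i hU hV e g.1 (hle g.1) _ h1
      refine ⟨k' + k, ⟨g.1 ^ k' • m, ?_⟩⟩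
      rw [smul_sub, sub_eq_zero, smul_smul, ← pow_add] at hk'
      rw [map_smul]
      exact hk'
    exact key

/-- **the conormal sheaf of a quasi-compact immersion is `H^{-1}(NL)`.** -/
noncomputable def h1Sheaf [IsImmersion i] : NLCx.H1Sheaf i (Omega.conormal i) where
  iso U V e := AddEquiv.ofBijective (theta i U.2 V.2 e).toAddMonoidHom
    (theta_bijective i U.2 V.2 e)
  map_smul U V e a m := map_smul (theta i U.2 V.2 e) a m
  map_res e e' hU hV m := theta_res e e' hU hV m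

end Bij

theorem onCharts_subsingleton_kaehler [IsImmersion i] :
    NLCx.OnCharts i (fun A B _ _ _ => Subsingleton (Ω[B⁄A])) := by
  intro U V e
  letI := (i.appLE (V : X.Opens) (U : Z.Opens) e).hom.toAlgebra
  have h : RingHom.FormallyUnramified (i.appLE (V : X.Opens) (U : Z.Opens) e).hom :=
    HasRingHomProperty.appLE @FormallyUnramified i inferInstance V U e
  exact Algebra.FormallyUnramified.subsingleton_kaehlerDifferential (self := h)

end Groth.Agent.H3.NL
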