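import Mathlib
import Groth.Agent.Lib.Helper1.ThickAff6
import Groth.Agent.Lib.Lead.QC.Gen

set_option autoImplicit false
universe u
open CategoryTheory CategoryTheory.Limits AlgebraicGeometry TopologicalSpace Opposite

namespace Groth.Agent.H3.NilPush

/-- a closed immersion with nilpotent ideal is surjective. -/
theorem surjective_of_nilpotent {T Tc : Scheme.{u}} (i : T ⟶ Tc) [IsClosedImmersion i]
    (hnil : ∃ n : ℕ, ∀ V : Tc.affineOpens, i.ker.ideal V ^ n = ⊥) : Function.Surjective i := by
  obtain ⟨n, hn⟩ := hnil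
  intro x
  have hx : x ∈ i.ker.support := by
    obtain ⟨_, ⟨V, hV, rfl⟩, hxV, -⟩ :=
      Tc.isBasis_affineOpens.exists_subset_of_mem_open (Set.mem_univ x) isOpen_univ
    rw [Scheme.IdealSheafData.mem_support_iff_of_mem (U := ⟨V, hV⟩) hxV, Scheme.mem_zeroLocus_iff]
    intro f hf hxf
    have h0 : f ^ n = 0 := by
      have : f ^ n ∈ i.ker.ideal ⟨V, hV⟩ ^ n := Ideal.pow_mem_pow hf n
      rw [hn] at this
      exact this
    have hb : Tc.basicOpen f = ⊥ := by
      by_cases hn0 : n = 0
      · subst hn0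
        rw [pow_zero] at h0
        have : f = 0 := by rw [← mul_one f, h0, mul_zero]
        rw [this, Scheme.basicOpen_zero]
      · rw [← Scheme.basicOpen_pow _ f (Nat.pos_of_ne_zero hn0), h0, Scheme.basicOpen_zero]
    rw [hb] at hxf
    exact hxf
  have hx' : x ∈ (i.ker.support : Set Tc) := hx
  rw [Scheme.Hom.support_ker, i.isClosedEmbedding.isClosed_range.closure_eq] at hx'
  exact hx'

theorem epi_pushforward
    {T Tc U : Scheme.{u}} (i : T ⟶ Tc) [IsClosedImmersion i]
    (hnil : ∃ n : ℕ, ∀ V : Tc.affineOpens, i.ker.ideal V ^ n = ⊥)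
    (u : T ⟶ U) [IsAffineHom u] (g : Tc.carrier ⟶ U.carrier) (hg : i.base ≫ g = u.base)
    (M N : Tc.Modules) [M.IsQuasicoherent] [N.IsQuasicoherent] (φ : M ⟶ N) [Epi φ] :
    Epi ((SheafOfModules.pushforward (F := Opens.map g) (R := Tc.ringCatSheaf)
      (𝟙 (((Opens.map g).sheafPushforwardContinuous RingCat.{u} (Opens.grothendieckTopology U)
        (Opens.grothendieckTopology Tc)).obj Tc.ringCatSheaf))).map φ) := by
  have hsurj := surjective_of_nilpotent i hnil
  set R' := ((Opens.map g).sheafPushforwardContinuous RingCat.{u} (Opens.grothendieckTopology U)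
        (Opens.grothendieckTopology Tc)).obj Tc.ringCatSheaf with hR'
  set P := (SheafOfModules.pushforward (F := Opens.map g) (R := Tc.ringCatSheaf) (𝟙 R')).map φ
    with hP
  have h3 : TopCat.Presheaf.IsLocallySurjective ((SheafOfModules.toSheaf R').map P).hom := by
    rw [TopCat.Presheaf.isLocallySurjective_iff]
    intro W t x hx
    obtain ⟨_, ⟨W', hW', rfl⟩, hxW', hW'W⟩ :=
      U.isBasis_affineOpens.exists_subset_of_mem_open hx W.2
    have hpre : i ⁻¹ᵁ ((Opens.map g).obj W') = u ⁻¹ᵁ W' := by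
      ext z
      change g (i.base z) ∈ W' ↔ u.base z ∈ W'
      rw [← hg]
      rfl
    have haff : IsAffineOpen ((Opens.map g).obj W') := by
      apply Groth.Agent.H1.ThickAff.isAffineOpen_of_preimage i hsurj
      rw [hpre]
      exact hW'.preimage u
    have hle : (Opens.map g).obj W' ≤ (Opens.map g).obj W := fun z hz => hW'W hz
    obtain ⟨s, hs⟩ := Groth.Agent.LD.QC.epi_app_affine ‹_› ‹_› φ haff
      (N.presheaf.map (homOfLE hle).op t)
    exact ⟨W', hW'W, ⟨s, hs⟩, hxW'⟩
  have h1 : Epi ((SheafOfModules.toSheaf R').map P) :=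
    (Sheaf.isLocallySurjective_iff_epi' (φ := (SheafOfModules.toSheaf R').map P)).mp h3
  exact (SheafOfModules.toSheaf R').epi_of_epi_map h1

end Groth.Agent.H3.NilPush
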