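import Mathlib

/-!
# The node `A[X,Y]/(XY - t)`: a colon-ideal computation

`G * X ∈ (XY - t)` and `G * Y ∈ (XY - t)` imply `G ∈ (XY - t)`, over any commutative ring.
-/

set_option autoImplicit false

namespace Groth.Agent.H3.NodeCrux

open MvPolynomial LaurentPolynomial

variable {A : Type*} [CommRing A] (t : A)

/-- The polynomial `XY - t`. -/
noncomputable def Fbar : MvPolynomial (Fin 2) A := X 0 * X 1 - MvPolynomial.C t

/-- `x ↦ T`, `y ↦ t T⁻¹`. -/
noncomputable def th1 : MvPolynomial (Fin 2) A →ₐ[A] A[T;T⁻¹] :=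
  aeval ![T 1, LaurentPolynomial.C t * T (-1)]

/-- `x ↦ t T⁻¹`, `y ↦ T`. -/
noncomputable def th2 : MvPolynomial (Fin 2) A →ₐ[A] A[T;T⁻¹] :=
  aeval ![LaurentPolynomial.C t * T (-1), T 1]

lemma T_one_mul_T_neg_one : (T 1 : A[T;T⁻¹]) * T (-1) = 1 := by
  rw [← T_add]; simp

lemma th1_Fbar : th1 t (Fbar t) = 0 := by
  have h : (T 1 : A[T;T⁻¹]) * (LaurentPolynomial.C t * T (-1)) = LaurentPolynomial.C t := by
    rw [mul_left_comm, T_one_mul_T_neg_one, mul_one]
  simp only [th1, Fbar, map_sub, map_mul, aeval_X, Matrix.cons_val_zero, Matrix.cons_val_one,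
    MvPolynomial.algebraMap_eq, aeval_C, h]
  rw [LaurentPolynomial.C_eq_algebraMap, sub_self]

lemma th2_Fbar : th2 t (Fbar t) = 0 := by
  have h : (LaurentPolynomial.C t * T (-1)) * (T 1 : A[T;T⁻¹]) = LaurentPolynomial.C t := by
    rw [mul_assoc, mul_comm (T (-1)), T_one_mul_T_neg_one, mul_one]
  simp only [th2, Fbar, map_sub, map_mul, aeval_X, Matrix.cons_val_zero, Matrix.cons_val_one,
    aeval_C, h]
  rw [LaurentPolynomial.C_eq_algebraMap, sub_self]

lemma th1_mem (G : MvPolynomial (Fin 2) A) (h : G ∈ Ideal.span {Fbar t}) : th1 t G = 0 := by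
  obtain ⟨q, rfl⟩ := Ideal.mem_span_singleton'.mp h
  rw [map_mul, th1_Fbar, mul_zero]

lemma th2_mem (G : MvPolynomial (Fin 2) A) (h : G ∈ Ideal.span {Fbar t}) : th2 t G = 0 := by
  obtain ⟨q, rfl⟩ := Ideal.mem_span_singleton'.mp h
  rw [map_mul, th2_Fbar, mul_zero]

lemma X0_mul_X1 : (X 0 * X 1 : MvPolynomial (Fin 2) A) = Fbar t + MvPolynomial.C t := by
  simp [Fbar]

/-- Normal form modulo `XY - t`. -/
lemma exists_normalForm (G : MvPolynomial (Fin 2) A) :
    ∃ a b : ℕ →₀ A,
      G - ((a.sum fun i c => c • (X 0 : MvPolynomial (Fin 2) A) ^ i) +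
        (b.sum fun j c => c • (X 1 : MvPolynomial (Fin 2) A) ^ (j + 1))) ∈
      Ideal.span {Fbar t} := by
  classical
  let M : Submodule A (MvPolynomial (Fin 2) A) :=
    Submodule.span A (Set.range fun i : ℕ => (X 0 : MvPolynomial (Fin 2) A) ^ i) ⊔
      Submodule.span A (Set.range fun j : ℕ => (X 1 : MvPolynomial (Fin 2) A) ^ (j + 1)) ⊔
      (Ideal.span {Fbar t}).restrictScalars A
  have hX0 : ∀ i : ℕ, (X 0 : MvPolynomial (Fin 2) A) ^ i ∈ M :=
    fun i => Submodule.mem_sup_left (Submodule.mem_sup_left (Submodule.subset_span ⟨i, rfl⟩))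
  have hX1 : ∀ j : ℕ, (X 1 : MvPolynomial (Fin 2) A) ^ (j + 1) ∈ M :=
    fun j => Submodule.mem_sup_left (Submodule.mem_sup_right (Submodule.subset_span ⟨j, rfl⟩))
  have hI : ∀ q : MvPolynomial (Fin 2) A, q ∈ Ideal.span {Fbar t} → q ∈ M :=
    fun q hq => Submodule.mem_sup_right hq
  have hF : ∀ q : MvPolynomial (Fin 2) A, q * Fbar t ∈ M :=
    fun q => hI _ (Ideal.mul_mem_left _ _ (Ideal.subset_span rfl))
  have hmul : ∀ i : Fin 2, ∀ p ∈ M, p * X i ∈ M := by
    intro i
    have : M.map (LinearMap.mulRight A (X i : MvPolynomial (Fin 2) A)) ≤ M := by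
      change (Submodule.span A (Set.range fun i : ℕ => (X 0 : MvPolynomial (Fin 2) A) ^ i) ⊔
        Submodule.span A (Set.range fun j : ℕ => (X 1 : MvPolynomial (Fin 2) A) ^ (j + 1)) ⊔
        (Ideal.span {Fbar t}).restrictScalars A).map _ ≤ M
      rw [Submodule.map_sup, Submodule.map_sup, Submodule.map_span, Submodule.map_span]
      refine sup_le (sup_le ?_ ?_) ?_
      · rw [Submodule.span_le]
        rintro _ ⟨_, ⟨n, rfl⟩, rfl⟩
        simp only [LinearMap.mulRight_apply]
        fin_cases i
        · have h := hX0 (n + 1)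
          rwa [pow_succ] at h
        · rcases n with _ | n
          · have h := hX1 0
            simpa using h
          · have : (X 0 : MvPolynomial (Fin 2) A) ^ (n + 1) * X 1
                = X 0 ^ n * Fbar t + t • X 0 ^ n := by
              rw [pow_succ, mul_assoc, X0_mul_X1 t, mul_add, MvPolynomial.smul_eq_C_mul]
              ring
            simp only [Fin.mk_one, Fin.isValue]
            rw [this]
            exact add_mem (hF _) (Submodule.smul_mem _ _ (hX0 n))
      · rw [Submodule.span_le]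
        rintro _ ⟨_, ⟨n, rfl⟩, rfl⟩
        simp only [LinearMap.mulRight_apply]
        fin_cases i
        · have : (X 1 : MvPolynomial (Fin 2) A) ^ (n + 1) * X 0
              = X 1 ^ n * Fbar t + t • X 1 ^ n := by
            rw [pow_succ, mul_assoc, mul_comm (X 1) (X 0), X0_mul_X1 t, mul_add,
              MvPolynomial.smul_eq_C_mul]
            ring
          simp only [Fin.zero_eta, Fin.isValue]
          rw [this]
          refine add_mem (hF _) (Submodule.smul_mem _ _ ?_)
          rcases n with _ | n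
          · have h := hX0 0
            simpa using h
          · exact hX1 n
        · have h := hX1 (n + 1)
          rwa [pow_succ] at h
      · rintro _ ⟨q, hq, rfl⟩
        simp only [LinearMap.mulRight_apply]
        exact hI _ (Ideal.mul_mem_right _ _ hq)
    intro p hp
    exact this ⟨p, hp, rfl⟩
  have htop : ∀ p : MvPolynomial (Fin 2) A, p ∈ M := by
    intro p
    induction p using MvPolynomial.induction_on with
    | C a =>
      have : (MvPolynomial.C a : MvPolynomial (Fin 2) A) = a • X 0 ^ 0 := by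
        rw [pow_zero, MvPolynomial.smul_eq_C_mul, mul_one]
      rw [this]
      exact Submodule.smul_mem _ _ (hX0 0)
    | add p q hp hq => exact add_mem hp hq
    | mul_X p i hp => exact hmul i p hp
  obtain ⟨uv, huv, w, hw, hG⟩ := Submodule.mem_sup.mp (htop G)
  obtain ⟨u, hu, v, hv, rfl⟩ := Submodule.mem_sup.mp huv
  obtain ⟨a, rfl⟩ := Finsupp.mem_span_range_iff_exists_finsupp.mp hu
  obtain ⟨b, rfl⟩ := Finsupp.mem_span_range_iff_exists_finsupp.mp hv
  refine ⟨a, b, ?_⟩
  rw [← hG, add_sub_cancel_left]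
  exact hw

lemma C_mul_T_pow (n : ℕ) :
    (LaurentPolynomial.C t * T (-1) : A[T;T⁻¹]) ^ n = LaurentPolynomial.C (t ^ n) * T (-(n : ℤ)) := by
  rw [mul_pow, T_pow, map_pow, mul_neg_one]

lemma coeff_C_mul_T (c : A) (m n : ℤ) :
    (LaurentPolynomial.C c * T m : A[T;T⁻¹]).coeff n = if m = n then c else 0 := by
  rw [← LaurentPolynomial.single_eq_C_mul_T, AddMonoidAlgebra.coeff_single, Finsupp.single_apply]

lemma coeff_smul_T (c : A) (m n : ℤ) :
    (c • (T m : A[T;T⁻¹])).coeff n = if m = n then c else 0 := by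
  rw [LaurentPolynomial.smul_eq_C_mul, coeff_C_mul_T]

lemma coeff_finsupp_sum (a : ℕ →₀ A) (g : ℕ → A → A[T;T⁻¹]) (n : ℤ) :
    (a.sum g).coeff n = a.sum fun i c => (g i c).coeff n := by
  rw [Finsupp.sum, AddMonoidAlgebra.coeff_sum, Finsupp.finset_sum_apply, Finsupp.sum]

/-- The colon-ideal computation at the node. -/
theorem crux (G : MvPolynomial (Fin 2) A) (h0 : G * X 0 ∈ Ideal.span {Fbar t})
    (h1 : G * X 1 ∈ Ideal.span {Fbar t}) : G ∈ Ideal.span {Fbar t} := by
  classical
  obtain ⟨a, b, hab⟩ := exists_normalForm t G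
  -- `θ₁ G = 0` and `θ₂ G = 0`
  have e1 : th1 t G = 0 := by
    have h := th1_mem t _ h0
    rw [map_mul] at h
    have hX : th1 t (X 0) = T 1 := by simp [th1]
    rw [hX] at h
    calc th1 t G = th1 t G * T 1 * T (-1) := by
          rw [mul_assoc, T_one_mul_T_neg_one, mul_one]
      _ = 0 := by rw [h, zero_mul]
  have e2 : th2 t G = 0 := by
    have h := th2_mem t _ h1
    rw [map_mul] at h
    have hX : th2 t (X 1) = T 1 := by simp [th2]
    rw [hX] at h
    calc th2 t G = th2 t G * T 1 * T (-1) := by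
          rw [mul_assoc, T_one_mul_T_neg_one, mul_one]
      _ = 0 := by rw [h, zero_mul]
  -- normal form has zero images
  have n1 := th1_mem t _ hab
  have n2 := th2_mem t _ hab
  rw [map_sub, e1, zero_sub, neg_eq_zero, map_add, map_finsuppSum, map_finsuppSum] at n1
  rw [map_sub, e2, zero_sub, neg_eq_zero, map_add, map_finsuppSum, map_finsuppSum] at n2
  have ha : a = 0 := by
    ext n
    have h := congrArg (fun q : A[T;T⁻¹] => q.coeff (n : ℤ)) n1
    simp only [AddMonoidAlgebra.coeff_add, Finsupp.coe_add, Pi.add_apply, coeff_finsupp_sum,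
      map_smul, map_pow, AddMonoidAlgebra.coeff_zero, Finsupp.coe_zero, Pi.zero_apply] at h
    have hx0 : th1 t (X 0) = T 1 := by simp [th1]
    have hx1 : th1 t (X 1) = LaurentPolynomial.C t * T (-1) := by simp [th1]
    simp only [hx0, hx1, T_pow, C_mul_T_pow, mul_one, LaurentPolynomial.smul_eq_C_mul,
      ← mul_assoc, ← map_mul, coeff_C_mul_T] at h
    rw [Finsupp.sum, Finsupp.sum, Finset.sum_eq_zero (s := b.support)] at h
    · rw [add_zero] at h
      by_cases hn : n ∈ a.support
      · rw [Finset.sum_eq_single n] at h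
        · simpa using h
        · intro i _ hi
          rw [if_neg]
          exact_mod_cast hi
        · intro hn'; exact absurd hn hn'
      · simpa using hn
    · intro j _
      rw [if_neg]
      push_cast
      omega
  have hb : b = 0 := by
    ext n
    have h := congrArg (fun q : A[T;T⁻¹] => q.coeff ((n : ℤ) + 1)) n2
    simp only [AddMonoidAlgebra.coeff_add, Finsupp.coe_add, Pi.add_apply, coeff_finsupp_sum,
      map_smul, map_pow, AddMonoidAlgebra.coeff_zero, Finsupp.coe_zero, Pi.zero_apply] at h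
    have hx0 : th2 t (X 0) = LaurentPolynomial.C t * T (-1) := by simp [th2]
    have hx1 : th2 t (X 1) = T 1 := by simp [th2]
    simp only [hx0, hx1, T_pow, C_mul_T_pow, mul_one, LaurentPolynomial.smul_eq_C_mul,
      ← mul_assoc, ← map_mul, coeff_C_mul_T] at h
    rw [Finsupp.sum, Finsupp.sum, Finset.sum_eq_zero (s := a.support)] at h
    · rw [zero_add] at h
      by_cases hn : n ∈ b.support
      · rw [Finset.sum_eq_single n] at h
        · simpa using h
        · intro i _ hi
          rw [if_neg]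
          push_cast
          intro hc
          exact hi (by omega)
        · intro hn'; exact absurd hn hn'
      · simpa using hn
    · intro j _
      rw [if_neg]
      omega
  rw [ha, hb] at hab
  simpa using hab

end Groth.Agent.H3.NodeCrux
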