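import Mathlib
import Groth.Agent.Lib.Helper3.NodeCrux

/-!
# Injectivity of the conormal map for the first-order deformation of a node
-/

set_option autoImplicit false

namespace Groth.Agent.H3.NodeCot

open MvPolynomial Groth.Agent.H3.NodeCrux

universe u

section Setup

variable {A A' B' : Type u} [CommRing A] [CommRing A'] [CommRing B'] [Algebra A A']
  [Algebra A' B'] [Algebra A B'] [IsScalarTower A A' B']
  (ρ : A' →+* A) (hρ : ∀ a, ρ (algebraMap A A' a) = a)
  (τ : A') (x y : B')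

/-- The image of `ker ρ` in `B'`. -/
abbrev I0 : Ideal B' := Ideal.map (algebraMap A' B') (RingHom.ker ρ)

/-- Evaluation at the classes of `x`, `y` over `A`. -/
noncomputable abbrev evB : MvPolynomial (Fin 2) A →ₐ[A] (B' ⧸ I0 (B' := B') ρ) :=
  aeval ![Ideal.Quotient.mk (I0 (B' := B') ρ) x, Ideal.Quotient.mk (I0 (B' := B') ρ) y]

include hρ in
lemma mk_aeval_eq (G' : MvPolynomial (Fin 2) A') :
    Ideal.Quotient.mk (I0 (B' := B') ρ) (aeval ![x, y] G') = evB ρ x y (MvPolynomial.map ρ G') := by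
  have h : ((Ideal.Quotient.mk (I0 (B' := B') ρ)).comp
      (aeval ![x, y] : MvPolynomial (Fin 2) A' →ₐ[A'] B').toRingHom)
      = ((evB ρ x y).toRingHom).comp (MvPolynomial.map ρ) := by
    apply MvPolynomial.ringHom_ext
    · intro a'
      simp only [AlgHom.toRingHom_eq_coe, RingHom.coe_comp, RingHom.coe_coe, Function.comp_apply,
        aeval_C, map_C]
      rw [IsScalarTower.algebraMap_apply A B' (B' ⧸ I0 (B' := B') ρ), Ideal.Quotient.algebraMap_eq,
        IsScalarTower.algebraMap_apply A A' B', Ideal.Quotient.eq, ← map_sub]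
      refine Ideal.mem_map_of_mem _ ?_
      rw [RingHom.mem_ker, map_sub, hρ, sub_self]
    · intro i
      fin_cases i <;> simp
  exact congrArg (fun f : MvPolynomial (Fin 2) A' →+* (B' ⧸ I0 (B' := B') ρ) => f G') h

/-- Elements of `I0` lift to polynomials with coefficients in `ker ρ`. -/
lemma exists_lift_of_mem_I0
    (hsurj : Function.Surjective (aeval ![x, y] : MvPolynomial (Fin 2) A' →ₐ[A'] B'))
    (i : B') (hi : i ∈ I0 (B' := B') ρ) :
    ∃ H : MvPolynomial (Fin 2) A', aeval ![x, y] H = i ∧ MvPolynomial.map ρ H = 0 := by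
  revert hi
  suffices key : ∀ i ∈ Ideal.span (algebraMap A' B' '' (RingHom.ker ρ : Set A')),
      ∃ H : MvPolynomial (Fin 2) A', aeval ![x, y] H = i ∧ MvPolynomial.map ρ H = 0 from
    fun hi => key i hi
  clear i
  intro i hi'
  induction hi' using Submodule.span_induction with
  | mem i hi =>
    obtain ⟨j, hj, rfl⟩ := hi
    refine ⟨C j, by simp, ?_⟩
    rw [map_C, (RingHom.mem_ker).mp hj, map_zero]
  | zero => exact ⟨0, by simp, by simp⟩
  | add u v _ _ hu hv =>
    obtain ⟨Hu, hu1, hu2⟩ := hu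
    obtain ⟨Hv, hv1, hv2⟩ := hv
    exact ⟨Hu + Hv, by rw [map_add, hu1, hv1], by rw [map_add, hu2, hv2, add_zero]⟩
  | smul b u _ hu =>
    obtain ⟨Hu, hu1, hu2⟩ := hu
    obtain ⟨Gb, rfl⟩ := hsurj b
    exact ⟨Gb * Hu, by rw [map_mul, hu1, smul_eq_mul], by rw [map_mul, hu2, mul_zero]⟩

include hρ in
lemma evB_surjective
    (hsurj : Function.Surjective (aeval ![x, y] : MvPolynomial (Fin 2) A' →ₐ[A'] B')) :
    Function.Surjective (evB ρ x y) := by
  intro b
  obtain ⟨b', rfl⟩ := Ideal.Quotient.mk_surjective b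
  obtain ⟨G', rfl⟩ := hsurj b'
  exact ⟨MvPolynomial.map ρ G', (mk_aeval_eq ρ hρ x y G').symm⟩

include hρ in
lemma ker_evB
    (hsurj : Function.Surjective (aeval ![x, y] : MvPolynomial (Fin 2) A' →ₐ[A'] B'))
    (hker : RingHom.ker (aeval ![x, y] : MvPolynomial (Fin 2) A' →ₐ[A'] B') =
      Ideal.span {X 0 * X 1 - C τ}) :
    RingHom.ker (evB ρ x y) = Ideal.span {Fbar (ρ τ)} := by
  have hmapF : MvPolynomial.map ρ (X 0 * X 1 - C τ : MvPolynomial (Fin 2) A') = Fbar (ρ τ) := by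
    simp [Fbar]
  have hcomp : ∀ G : MvPolynomial (Fin 2) A,
      MvPolynomial.map ρ (MvPolynomial.map (algebraMap A A') G) = G := by
    intro G
    rw [MvPolynomial.map_map]
    have : ρ.comp (algebraMap A A') = RingHom.id A := RingHom.ext hρ
    rw [this, MvPolynomial.map_id]
  apply le_antisymm
  · intro G hG
    rw [RingHom.mem_ker] at hG
    have h1 : Ideal.Quotient.mk (I0 (B' := B') ρ)
        (aeval ![x, y] (MvPolynomial.map (algebraMap A A') G)) = 0 := by
      rw [mk_aeval_eq ρ hρ, hcomp, hG]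
    rw [Ideal.Quotient.eq_zero_iff_mem] at h1
    obtain ⟨H, hH1, hH2⟩ := exists_lift_of_mem_I0 ρ x y hsurj _ h1
    have h2 : MvPolynomial.map (algebraMap A A') G - H ∈
        RingHom.ker (aeval ![x, y] : MvPolynomial (Fin 2) A' →ₐ[A'] B') := by
      rw [RingHom.mem_ker, map_sub, hH1, sub_self]
    rw [hker] at h2
    obtain ⟨L, hL⟩ := Ideal.mem_span_singleton'.mp h2
    have h3 := congrArg (MvPolynomial.map ρ) hL
    rw [map_mul, hmapF, map_sub, hcomp, hH2, sub_zero] at h3
    rw [← h3]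
    exact Ideal.mul_mem_left _ _ (Ideal.subset_span rfl)
  · rw [Ideal.span_le, Set.singleton_subset_iff, SetLike.mem_coe, RingHom.mem_ker, ← hmapF,
      ← mk_aeval_eq ρ hρ]
    have : (X 0 * X 1 - C τ : MvPolynomial (Fin 2) A') ∈
        RingHom.ker (aeval ![x, y] : MvPolynomial (Fin 2) A' →ₐ[A'] B') := by
      rw [hker]; exact Ideal.subset_span rfl
    rw [RingHom.mem_ker] at this
    rw [this, map_zero]

include hρ in
theorem subsingleton_h1Cotangent
    (hsurj : Function.Surjective (aeval ![x, y] : MvPolynomial (Fin 2) A' →ₐ[A'] B'))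
    (hker : RingHom.ker (aeval ![x, y] : MvPolynomial (Fin 2) A' →ₐ[A'] B') =
      Ideal.span {X 0 * X 1 - C τ}) :
    Subsingleton (Algebra.H1Cotangent A (B' ⧸ I0 (B' := B') ρ)) := by
  let P₀ : Algebra.Generators A (B' ⧸ I0 (B' := B') ρ) (Fin 2) :=
    Algebra.Generators.ofSurjective
      ![Ideal.Quotient.mk (I0 (B' := B') ρ) x, Ideal.Quotient.mk (I0 (B' := B') ρ) y]
      (evB_surjective ρ hρ x y hsurj)
  have hkerP : P₀.ker = Ideal.span {Fbar (ρ τ)} := by
    rw [Algebra.Generators.ker_eq_ker_aeval_val]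
    exact ker_evB ρ hρ τ x y hsurj hker
  have hval : ∀ G : MvPolynomial (Fin 2) A, aeval P₀.val G = evB ρ x y G := fun _ => rfl
  have hinj : Function.Injective P₀.toExtension.cotangentComplex := by
    rw [injective_iff_map_eq_zero]
    intro c hc
    obtain ⟨⟨z, hz⟩, rfl⟩ := Algebra.Extension.Cotangent.mk_surjective c
    rw [Algebra.Extension.cotangentComplex_mk] at hc
    have hz' : (z : MvPolynomial (Fin 2) A) ∈ Ideal.span {Fbar (ρ τ)} := hkerP ▸ hz
    obtain ⟨(g : MvPolynomial (Fin 2) A), hgz⟩ := Ideal.mem_span_singleton'.mp hz'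
    subst hgz
    have hF0 : evB ρ x y (Fbar (ρ τ)) = 0 := by
      have : Fbar (ρ τ) ∈ RingHom.ker (evB ρ x y) := by
        rw [ker_evB ρ hρ τ x y hsurj hker]; exact Ideal.subset_span rfl
      exact this
    have hcomp : ∀ i : Fin 2, evB ρ x y (pderiv i (g * Fbar (ρ τ))) =
        evB ρ x y (g * pderiv i (Fbar (ρ τ))) := by
      intro i
      rw [Derivation.leibniz, map_add, smul_eq_mul, smul_eq_mul, map_mul (evB ρ x y) (Fbar (ρ τ)),
        hF0, zero_mul, add_zero]
    have h0 := congrArg (fun v => P₀.cotangentSpaceBasis.repr v 0) hc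
    have h1 := congrArg (fun v => P₀.cotangentSpaceBasis.repr v 1) hc
    simp only [map_zero, Finsupp.coe_zero, Pi.zero_apply] at h0 h1
    erw [Algebra.Generators.cotangentSpaceBasis_repr_one_tmul] at h0 h1
    replace h0 : evB ρ x y (pderiv (0 : Fin 2) (g * Fbar (ρ τ))) = 0 := h0
    replace h1 : evB ρ x y (pderiv (1 : Fin 2) (g * Fbar (ρ τ))) = 0 := h1
    rw [hcomp] at h0 h1
    have hp0 : pderiv (0 : Fin 2) (Fbar (ρ τ)) = X 1 := by
      simp [Fbar, pderiv_X]
    have hp1 : pderiv (1 : Fin 2) (Fbar (ρ τ)) = X 0 := by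
      simp [Fbar, pderiv_X]
    rw [hp0] at h0
    rw [hp1] at h1
    have hk0 : g * X 0 ∈ Ideal.span {Fbar (ρ τ)} := by
      rw [← ker_evB ρ hρ τ x y hsurj hker]; exact h1
    have hk1 : g * X 1 ∈ Ideal.span {Fbar (ρ τ)} := by
      rw [← ker_evB ρ hρ τ x y hsurj hker]; exact h0
    have hg := crux (ρ τ) g hk0 hk1
    rw [Algebra.Extension.Cotangent.mk_eq_zero_iff]
    change g * Fbar (ρ τ) ∈ P₀.ker ^ 2
    rw [hkerP]
    have h2 : g * Fbar (ρ τ) ∈ Ideal.span {Fbar (ρ τ)} * Ideal.span {Fbar (ρ τ)} :=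
      Ideal.mul_mem_mul hg (Ideal.subset_span rfl)
    rw [← pow_two] at h2
    exact h2
  have hsub : Subsingleton P₀.toExtension.H1Cotangent :=
    (Algebra.Extension.subsingleton_h1Cotangent _).mpr hinj
  exact P₀.equivH1Cotangent.symm.injective.subsingleton

include hρ in
/-- The conormal map `I0 → B ⊗ Ω_{B'/A}` is injective. -/
theorem main (hsq : RingHom.ker ρ ^ 2 = ⊥)
    (hsurj : Function.Surjective (aeval ![x, y] : MvPolynomial (Fin 2) A' →ₐ[A'] B'))
    (hker : RingHom.ker (aeval ![x, y] : MvPolynomial (Fin 2) A' →ₐ[A'] B') =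
      Ideal.span {X 0 * X 1 - C τ}) :
    Function.Injective (KaehlerDifferential.kerToTensor A B' (B' ⧸ I0 (B' := B') ρ)) := by
  have hsub := subsingleton_h1Cotangent ρ hρ τ x y hsurj hker
  have hI0sq : I0 (B' := B') ρ ^ 2 = ⊥ := by
    rw [I0, ← Ideal.map_pow, hsq, Ideal.map_bot]
  rw [injective_iff_map_eq_zero]
  rintro ⟨i, hi⟩ h
  rw [KaehlerDifferential.kerToTensor_apply] at h
  have hi0 : i ∈ I0 (B' := B') ρ := by
    rw [RingHom.mem_ker, Ideal.Quotient.algebraMap_eq] at hi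
    exact Ideal.Quotient.eq_zero_iff_mem.mp hi
  -- the class of `C i` in `H¹(L_{B/B'})`
  have hr : (C i : MvPolynomial (B' ⧸ I0 (B' := B') ρ) B') ∈
      (Algebra.Generators.self B' (B' ⧸ I0 (B' := B') ρ)).ker := by
    rw [Algebra.Generators.ker_eq_ker_aeval_val, RingHom.mem_ker, aeval_C]
    exact hi
  have hδ := Algebra.Generators.H1Cotangent.δ_C
    (Algebra.Generators.self B' (B' ⧸ I0 (B' := B') ρ)) (Algebra.Generators.self A B') hr
  have hex := Algebra.H1Cotangent.exact_map_δ A B' (B' ⧸ I0 (B' := B') ρ)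
  have hz : Algebra.H1Cotangent.δ A B' (B' ⧸ I0 (B' := B') ρ)
      ⟨Algebra.Extension.Cotangent.mk ⟨C i, hr⟩,
        Algebra.Extension.Cotangent.mk_C_mem_ker_cotangentComplex _ hr⟩ = 0 := by
    rw [← h]
    exact hδ
  obtain ⟨w, hw⟩ := (hex _).mp hz
  have hw0 : w = 0 := Subsingleton.elim _ _
  rw [hw0, map_zero] at hw
  have hmk : Algebra.Extension.Cotangent.mk
      (P := (Algebra.Generators.self B' (B' ⧸ I0 (B' := B') ρ)).toExtension) ⟨C i, hr⟩ = 0 :=
    (congrArg Subtype.val hw).symm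
  rw [Algebra.Extension.Cotangent.mk_eq_zero_iff] at hmk
  -- evaluate at a set-theoretic section
  let σ : (B' ⧸ I0 (B' := B') ρ) → B' := Function.surjInv Ideal.Quotient.mk_surjective
  have hσ : ∀ b, Ideal.Quotient.mk (I0 (B' := B') ρ) (σ b) = b :=
    Function.surjInv_eq Ideal.Quotient.mk_surjective
  let ev : MvPolynomial (B' ⧸ I0 (B' := B') ρ) B' →ₐ[B'] B' := aeval σ
  have hev : ∀ p ∈ (Algebra.Generators.self B' (B' ⧸ I0 (B' := B') ρ)).ker,
      ev p ∈ I0 (B' := B') ρ := by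
    intro p hp
    rw [Algebra.Generators.ker_eq_ker_aeval_val, RingHom.mem_ker] at hp
    rw [← Ideal.Quotient.eq_zero_iff_mem, ← hp]
    have : ((Ideal.Quotient.mk (I0 (B' := B') ρ)).comp ev.toRingHom)
        = (aeval (Algebra.Generators.self B' (B' ⧸ I0 (B' := B') ρ)).val :
            MvPolynomial (B' ⧸ I0 (B' := B') ρ) B' →ₐ[B'] _).toRingHom := by
      apply MvPolynomial.ringHom_ext
      · intro b
        simp [ev]
      · intro b
        simp [ev, hσ, Algebra.Generators.self]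
    exact congrArg (fun f : MvPolynomial (B' ⧸ I0 (B' := B') ρ) B' →+* _ => f p) this
  have hle : Ideal.map ev.toRingHom
      ((Algebra.Generators.self B' (B' ⧸ I0 (B' := B') ρ)).ker ^ 2) ≤ ⊥ := by
    rw [Ideal.map_pow, ← hI0sq]
    refine Ideal.pow_right_mono ?_ 2
    rw [Ideal.map_le_iff_le_comap]
    exact fun p hp => hev p hp
  have hfin : ev (C i) ∈ (⊥ : Ideal B') := hle (Ideal.mem_map_of_mem _ hmk)
  have : i = 0 := by simpa [ev] using hfin
  exact Subtype.ext this

end Setup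

end Groth.Agent.H3.NodeCot
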