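import Groth.Agent.Lib.Helper3.OmST

/-!
# Derivations on an affine scheme are determined by (and built from) their global sections

For `f : X ⟶ S` with `X`, `S` affine and ANY `O_X`-module `F`, every `Γ(S)`-derivation
`Γ(X, O_X) → Γ(X, F)` is the global part of a unique sheaf derivation `O_X → F`.
-/

set_option autoImplicit false
universe u
open AlgebraicGeometry CategoryTheory TopologicalSpace Opposite

namespace Groth.Agent.H3.OmAffDer

open Groth.Agent.H3.Om

section spec

variable {A B : Type u} [CommRing A] [CommRing B] [Algebra A B]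

/-- On `Spec B` over `Spec A`: every `A`-derivation of `B` into the global sections of a module `F`
is the global part of a sheaf derivation. -/
theorem exists_der_of_derivation (F : (Spec (CommRingCat.of B)).Modules)
    (δ' : Derivation A B (GMod A F)) :
    ∃ E : OmegaSh.Der (Spec.map (CommRingCat.ofHom (algebraMap A B))) F,
      ∀ t : B, toG (A := A) F (E.app ⊤ ((Scheme.ΓSpecIso (CommRingCat.of B)).inv t)) = δ' t := by
  obtain ⟨α, hα⟩ : ∃ α : tilde (OmMod A B) ⟶ F,
      (tilde.adjunction (R := CommRingCat.of B)).homEquiv (OmMod A B) F α =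
        ModuleCat.ofHom (Y := (moduleSpecΓFunctor (R := CommRingCat.of B)).obj F)
          δ'.liftKaehlerDifferential :=
    ⟨_, Equiv.apply_symm_apply _ _⟩
  refine ⟨(specDer (KaehlerDifferential.D A B)).postcomp α.val, fun t => ?_⟩
  rw [Der.postcomp_app, ← homEquiv_D, hα]
  exact δ'.liftKaehlerDifferential_comp_D t

end spec

section transport

variable {X Y : Scheme.{u}}

theorem le_image_preimage {X' : Scheme.{u}} (j : X' ⟶ X) [IsIso j] (U : X.Opens) :
    U ≤ j ''ᵁ j ⁻¹ᵁ U := by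
  rw [j.image_preimage_eq_opensRange_inf, Scheme.Hom.opensRange_of_isIso, top_inf_eq]

theorem modules_map_map (F : X.Modules) {U V W : X.Opens} (f₁ : V ⟶ U) (f₂ : W ⟶ V) (g : W ⟶ U)
    (m : Γ(F, U)) :
    F.presheaf.map f₂.op (F.presheaf.map f₁.op m) = F.presheaf.map g.op m := by
  rw [← ConcreteCategory.comp_apply, ← Functor.map_comp, ← op_comp, Subsingleton.elim (f₂ ≫ f₁) g]

theorem modules_map_id (F : X.Modules) {U : X.Opens} (g : U ⟶ U) (m : Γ(F, U)) :
    F.presheaf.map g.op m = m := by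
  rw [Subsingleton.elim g (𝟙 U), op_id, CategoryTheory.Functor.map_id]
  rfl

theorem ring_map_map_self (X : Scheme.{u}) {U V : X.Opens} (h1 : V ≤ U) (h2 : U ≤ V)
    (a : Γ(X, U)) :
    X.presheaf.map (homOfLE h2).op (X.presheaf.map (homOfLE h1).op a) = a := by
  rw [← ConcreteCategory.comp_apply, ← Functor.map_comp, ← op_comp,
    Subsingleton.elim (homOfLE h2 ≫ homOfLE h1) (𝟙 U), op_id, CategoryTheory.Functor.map_id]
  rfl

/-- sections of a restriction, viewed as sections of the original module (identity map) -/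
noncomputable def castR {X' : Scheme.{u}} (j : X' ⟶ X) [IsOpenImmersion j] (F : X.Modules)
    (W : X'.Opens) : Γ(F.restrict j, W) →+ Γ(F, j ''ᵁ W) :=
  (F.restrictAppIso j W).hom.hom

/-- the inverse identification -/
noncomputable def castRinv {X' : Scheme.{u}} (j : X' ⟶ X) [IsOpenImmersion j] (F : X.Modules)
    (W : X'.Opens) : Γ(F, j ''ᵁ W) →+ Γ(F.restrict j, W) :=
  (F.restrictAppIso j W).inv.hom

theorem castR_castRinv {X' : Scheme.{u}} (j : X' ⟶ X) [IsOpenImmersion j] (F : X.Modules)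
    (W : X'.Opens) (x : Γ(F, j ''ᵁ W)) : castR j F W (castRinv j F W x) = x := rfl

theorem castR_smul {X' : Scheme.{u}} (j : X' ⟶ X) [IsOpenImmersion j] (F : X.Modules)
    (W : X'.Opens) (r : Γ(X', W)) (m : Γ(F.restrict j, W)) :
    castR j F W (r • m) = (j.appIso W).inv r • castR j F W m := rfl

theorem castRinv_smul {X' : Scheme.{u}} (j : X' ⟶ X) [IsOpenImmersion j] (F : X.Modules)
    (W : X'.Opens) (r : Γ(X', W)) (x : Γ(F, j ''ᵁ W)) :
    castRinv j F W ((j.appIso W).inv r • x) = r • castRinv j F W x := rfl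

theorem castR_map {X' : Scheme.{u}} (j : X' ⟶ X) [IsOpenImmersion j] (F : X.Modules)
    {W W' : X'.Opens} (k : W' ⟶ W) (m : Γ(F.restrict j, W)) :
    castR j F W' ((F.restrict j).presheaf.map k.op m) =
      F.presheaf.map (j.opensFunctor.map k).op (castR j F W m) := rfl

theorem smul_map_image_preimage {X' : Scheme.{u}} (j : X' ⟶ X) [IsIso j] (F : X.Modules)
    (U : X.Opens) (a : Γ(X, U)) (m : Γ(F.restrict j, j ⁻¹ᵁ U)) :
    F.presheaf.map (homOfLE (le_image_preimage j U)).op
        (castR j F (j ⁻¹ᵁ U) ((j.app U a) • m)) =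
      a • F.presheaf.map (homOfLE (le_image_preimage j U)).op (castR j F (j ⁻¹ᵁ U) m) := by
  have h := j.app_appIso_inv U
  have h' : (j.appIso (j ⁻¹ᵁ U)).inv (j.app U a) =
      X.presheaf.map (homOfLE (j.image_preimage_le U)).op a := congr($h a)
  rw [castR_smul, h', Scheme.Modules.map_smul, ring_map_map_self]

/-- Transport a derivation along an isomorphism `j : X' ⟶ X`. -/
noncomputable def Der.ofIso {X' : Scheme.{u}} (j : X' ⟶ X) [IsIso j] {f : X ⟶ Y}
    {F : X.Modules} (D : OmegaSh.Der (j ≫ f) (F.restrict j)) : OmegaSh.Der f F :=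
  Der.mk' f F
    (fun U => (F.presheaf.map (homOfLE (le_image_preimage j U)).op).hom.comp
      ((castR j F (j ⁻¹ᵁ U)).comp ((D.app (j ⁻¹ᵁ U)).comp (j.app U).hom.toAddMonoidHom)))
    (fun U a b => by
      change F.presheaf.map (homOfLE (le_image_preimage j U)).op
        (castR j F (j ⁻¹ᵁ U) (D.app (j ⁻¹ᵁ U) (j.app U (a * b)))) =
        a • F.presheaf.map (homOfLE (le_image_preimage j U)).op
          (castR j F (j ⁻¹ᵁ U) (D.app (j ⁻¹ᵁ U) (j.app U b))) +
        b • F.presheaf.map (homOfLE (le_image_preimage j U)).op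
          (castR j F (j ⁻¹ᵁ U) (D.app (j ⁻¹ᵁ U) (j.app U a)))
      rw [map_mul, Der.app_mul, map_add, map_add, smul_map_image_preimage,
        smul_map_image_preimage])
    (fun {U V} i s => by
      change F.presheaf.map (homOfLE (le_image_preimage j V)).op
        (castR j F (j ⁻¹ᵁ V) (D.app (j ⁻¹ᵁ V) (j.app V (X.presheaf.map i.op s)))) =
        F.presheaf.map i.op (F.presheaf.map (homOfLE (le_image_preimage j U)).op
          (castR j F (j ⁻¹ᵁ U) (D.app (j ⁻¹ᵁ U) (j.app U s))))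
      have h := j.naturality i.op
      have h' : j.app V (X.presheaf.map i.op s) =
          X'.presheaf.map ((Opens.map j.base).map i).op (j.app U s) := congr($h s)
      rw [h', Der.app_map, castR_map,
        modules_map_map F _ _ (i ≫ homOfLE (le_image_preimage j U)),
        modules_map_map F _ _ (i ≫ homOfLE (le_image_preimage j U))])
    (fun V a => by
      change F.presheaf.map (homOfLE (le_image_preimage j (f ⁻¹ᵁ V))).op
        (castR j F (j ⁻¹ᵁ (f ⁻¹ᵁ V))
          (D.app (j ⁻¹ᵁ (f ⁻¹ᵁ V)) (j.app (f ⁻¹ᵁ V) (f.app V a)))) = 0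
      have h : D.app (j ⁻¹ᵁ (f ⁻¹ᵁ V)) (j.app (f ⁻¹ᵁ V) (f.app V a)) = 0 := Der.app_comp D V a
      rw [h, map_zero, map_zero])

theorem Der.ofIso_app {X' : Scheme.{u}} (j : X' ⟶ X) [IsIso j] {f : X ⟶ Y}
    {F : X.Modules} (D : OmegaSh.Der (j ≫ f) (F.restrict j)) (U : X.Opens) (s : Γ(X, U)) :
    (Der.ofIso j D).app U s =
      F.presheaf.map (homOfLE (le_image_preimage j U)).op
        (castR j F (j ⁻¹ᵁ U) (D.app (j ⁻¹ᵁ U) (j.app U s))) := rfl

theorem app_zero_of_eq {X Y Y' : Scheme.{u}} {f' : X ⟶ Y'} {G : X.Modules}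
    (E : OmegaSh.Der f' G) (g : Y' ⟶ Y) (k : X ⟶ Y) (hk : k = f' ≫ g) (V : Y.Opens)
    (a : Γ(Y, V)) : E.app (k ⁻¹ᵁ V) (k.app V a) = 0 := by
  subst hk
  exact Der.app_comp_of_comp f' g E V a

/-- restriction of global sections to the image of `j` -/
noncomputable def rho {X' : Scheme.{u}} (j : X' ⟶ X) [IsOpenImmersion j] (F : X.Modules) :
    Γ(F, ⊤) →+ Γ(F.restrict j, ⊤) :=
  (castRinv j F ⊤).comp (F.presheaf.map (homOfLE (le_top : j ''ᵁ ⊤ ≤ ⊤)).op).hom

theorem rho_apply {X' : Scheme.{u}} (j : X' ⟶ X) [IsOpenImmersion j] (F : X.Modules)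
    (m : Γ(F, ⊤)) :
    rho j F m = castRinv j F ⊤ (F.presheaf.map (homOfLE (le_top : j ''ᵁ ⊤ ≤ ⊤)).op m) := rfl

end transport

theorem isoSpec_inv_appTop' (X : Scheme.{u}) [IsAffine X] :
    X.isoSpec.inv.appTop = (Scheme.ΓSpecIso Γ(X, ⊤)).inv := by
  have h1 : X.toSpecΓ.appTop ≫ X.isoSpec.inv.appTop = 𝟙 _ := by
    have := congrArg Scheme.Hom.appTop (Scheme.isoSpec_inv_toSpecΓ X)
    exact this
  rw [Scheme.toSpecΓ_appTop] at h1
  rw [← cancel_epi (Scheme.ΓSpecIso Γ(X, ⊤)).hom, h1, Iso.hom_inv_id]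

/-- **Existence**: a derivation on global sections of an affine scheme over an affine base extends
to a sheaf derivation, for an arbitrary target module. -/
theorem exists_der_of_global {X S : Scheme.{u}} [IsAffine X] [IsAffine S] (f : X ⟶ S)
    (F : X.Modules) (δ : Γ(X, ⊤) →+ Γ(F, ⊤))
    (hmul : ∀ a b : Γ(X, ⊤), δ (a * b) = a • δ b + b • δ a)
    (hzero : ∀ c : Γ(S, ⊤), δ (f.appTop c) = 0) :
    ∃ D : OmegaSh.Der f F, D.app ⊤ = δ := by
  letI : Algebra Γ(S, ⊤) Γ(X, ⊤) := f.appTop.hom.toAlgebra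
  obtain ⟨j, hj⟩ : ∃ j : Spec (CommRingCat.of Γ(X, ⊤)) ⟶ X, j = X.isoSpec.inv := ⟨_, rfl⟩
  haveI : IsIso j := by rw [hj]; infer_instance
  have hjtop : ∀ b : Γ(X, ⊤),
      j.app ⊤ b = (Scheme.ΓSpecIso (CommRingCat.of Γ(X, ⊤))).inv b := by
    intro b
    rw [hj]
    exact congr($(isoSpec_inv_appTop' X) b)
  have hsm : ∀ (b : Γ(X, ⊤)) (m : Γ(F, ⊤)),
      toG (A := Γ(S, ⊤)) (F.restrict j) (rho j F (b • m)) =
        b • toG (A := Γ(S, ⊤)) (F.restrict j) (rho j F m) := by
    intro b m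
    have h := j.app_appIso_inv ⊤
    have h' : (j.appIso (j ⁻¹ᵁ ⊤)).inv (j.app ⊤ b) =
        X.presheaf.map (homOfLE (j.image_preimage_le ⊤)).op b := congr($h b)
    rw [hjtop b] at h'
    have h'' : X.presheaf.map (homOfLE (le_top : j ''ᵁ ⊤ ≤ ⊤)).op b =
        (j.appIso ⊤).inv ((Scheme.ΓSpecIso (CommRingCat.of Γ(X, ⊤))).inv b) := h'.symm
    rw [rho_apply, rho_apply, Scheme.Modules.map_smul, h'', castRinv_smul]
    exact toG_smul (A := Γ(S, ⊤)) (F.restrict j) b _
  have hδ1 : δ 1 = 0 := by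
    have := hzero 1
    rwa [map_one] at this
  let δ' : Derivation Γ(S, ⊤) Γ(X, ⊤) (GMod Γ(S, ⊤) (F.restrict j)) :=
    { toFun := fun b => toG (F.restrict j) (rho j F (δ b))
      map_add' := fun a b => by
        change toG (F.restrict j) (rho j F (δ (a + b))) =
          toG (F.restrict j) (rho j F (δ a)) + toG (F.restrict j) (rho j F (δ b))
        rw [map_add, map_add]
        rfl
      map_smul' := fun c b => by
        change toG (F.restrict j) (rho j F (δ (c • b))) =
          c • toG (F.restrict j) (rho j F (δ b))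
        rw [Algebra.smul_def, hmul,
          show δ (algebraMap Γ(S, ⊤) Γ(X, ⊤) c) = 0 from hzero c, smul_zero, add_zero, hsm,
          algebraMap_smul]
      map_one_eq_zero' := by
        change toG (F.restrict j) (rho j F (δ 1)) = 0
        rw [hδ1, map_zero]
        rfl
      leibniz' := fun a b => by
        change toG (F.restrict j) (rho j F (δ (a * b))) =
          a • toG (F.restrict j) (rho j F (δ b)) + b • toG (F.restrict j) (rho j F (δ a))
        rw [hmul, map_add, ← hsm, ← hsm]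
        rfl }
  obtain ⟨E, hE⟩ := exists_der_of_derivation (A := Γ(S, ⊤)) (F.restrict j) δ'
  have heq : j ≫ f =
      Spec.map (CommRingCat.ofHom (algebraMap Γ(S, ⊤) Γ(X, ⊤))) ≫ S.isoSpec.inv := by
    rw [hj]
    exact (Scheme.isoSpec_inv_naturality f).symm
  refine ⟨Der.ofIso j (Der.changeBase E (j ≫ f)
    (fun V a => app_zero_of_eq E S.isoSpec.inv (j ≫ f) heq V a)), ?_⟩
  ext s
  change F.presheaf.map (homOfLE (le_image_preimage j ⊤)).op
    (castR j F ⊤ (E.app ⊤ (j.app ⊤ s))) = δ s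
  have h2 : E.app ⊤ ((Scheme.ΓSpecIso (CommRingCat.of Γ(X, ⊤))).inv s) = rho j F (δ s) := hE s
  rw [hjtop s, h2, rho_apply, castR_castRinv]
  exact (modules_map_map F (homOfLE le_top) (homOfLE (le_image_preimage j ⊤)) (𝟙 ⊤) (δ s)).trans
    (modules_map_id F (𝟙 ⊤) (δ s))

end Groth.Agent.H3.OmAffDer
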