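import Mathlib

set_option autoImplicit false
universe u
open TensorProduct

namespace Groth.Agent.H3.Om

/-- ring-level form of `C ⊗ I → C ⊗ J → C ⊗_B K → 0` for `A ↠ B → C`. -/
theorem exists_conormal_ring_seq {A B C : Type u} [CommRing A] [CommRing B] [CommRing C]
    [Algebra A B] [Algebra B C] [Algebra A C] [IsScalarTower A B C]
    (hAB : Function.Surjective (algebraMap A B)) :
    ∃ (T₁ : C ⊗[A] (RingHom.ker (algebraMap A B)) →ₗ[A] C ⊗[A] (RingHom.ker (algebraMap A C)))
      (T₂ : C ⊗[A] (RingHom.ker (algebraMap A C)) →ₗ[A] C ⊗[B] (RingHom.ker (algebraMap B C))),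
      (∀ (c : C) (x : RingHom.ker (algebraMap A B)) (y : RingHom.ker (algebraMap A C)),
        (y : A) = x → T₁ (c ⊗ₜ x) = c ⊗ₜ y) ∧
      (∀ (c : C) (y : RingHom.ker (algebraMap A C)) (k : RingHom.ker (algebraMap B C)),
        (k : B) = algebraMap A B y → T₂ (c ⊗ₜ y) = c ⊗ₜ k) ∧
      Function.Exact T₁ T₂ ∧ Function.Surjective T₂ := by
  have hIJ : RingHom.ker (algebraMap A B) ≤ RingHom.ker (algebraMap A C) := by
    intro x hx
    rw [RingHom.mem_ker] at hx ⊢
    rw [IsScalarTower.algebraMap_apply A B C, hx, map_zero]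
  have hmem : ∀ y : RingHom.ker (algebraMap A C),
      algebraMap A B y ∈ RingHom.ker (algebraMap B C) := by
    intro y
    rw [RingHom.mem_ker, ← IsScalarTower.algebraMap_apply A B C]
    exact y.2
  let ι : RingHom.ker (algebraMap A B) →ₗ[A] RingHom.ker (algebraMap A C) :=
    Submodule.inclusion hIJ
  let π : RingHom.ker (algebraMap A C) →ₗ[A] RingHom.ker (algebraMap B C) :=
    { toFun := fun y => ⟨algebraMap A B y, hmem y⟩
      map_add' := fun x y => Subtype.ext (by simp)
      map_smul' := fun a x => Subtype.ext (by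
        simp only [SetLike.val_smul, smul_eq_mul, map_mul, RingHom.id_apply]
        exact (Algebra.smul_def _ _).symm) }
  have hexact : Function.Exact ι π := by
    intro y
    constructor
    · intro hy
      have h1 : algebraMap A B y = 0 := congrArg Subtype.val hy
      exact ⟨⟨y, h1⟩, Subtype.ext rfl⟩
    · rintro ⟨x, rfl⟩
      apply Subtype.ext
      exact x.2
  have hπsurj : Function.Surjective π := by
    rintro ⟨k, hk⟩
    obtain ⟨a, rfl⟩ := hAB k
    refine ⟨⟨a, ?_⟩, Subtype.ext rfl⟩
    rw [RingHom.mem_ker, IsScalarTower.algebraMap_apply A B C]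
    exact hk
  have h1 := lTensor_exact C hexact hπsurj
  have h2 := LinearMap.lTensor_surjective C hπsurj
  haveI : TensorProduct.CompatibleSMul A B C (RingHom.ker (algebraMap B C)) :=
    TensorProduct.CompatibleSMul.of_algebraMap_surjective _ _ hAB
  let E : C ⊗[B] (RingHom.ker (algebraMap B C)) ≃ₗ[A] C ⊗[A] (RingHom.ker (algebraMap B C)) :=
    TensorProduct.equivOfCompatibleSMul A B A C (RingHom.ker (algebraMap B C))
  refine ⟨LinearMap.lTensor C ι, E.symm.toLinearMap ∘ₗ LinearMap.lTensor C π, ?_, ?_, ?_, ?_⟩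
  · intro c x y hxy
    rw [LinearMap.lTensor_tmul]
    congr 1
    exact Subtype.ext hxy.symm
  · intro c y k hk
    rw [LinearMap.comp_apply, LinearMap.lTensor_tmul]
    have : π y = k := Subtype.ext hk.symm
    rw [this]
    rfl
  · intro t
    rw [LinearMap.comp_apply]
    constructor
    · intro ht
      apply (h1 t).1
      apply E.symm.injective
      rw [map_zero]
      exact ht
    · intro ht
      have := (h1 t).2 ht
      change E.symm (LinearMap.lTensor C π t) = 0
      rw [this, map_zero]
  · intro m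
    obtain ⟨t, ht⟩ := h2 (E m)
    refine ⟨t, ?_⟩
    rw [LinearMap.comp_apply, ht]
    exact E.symm_apply_apply m

end Groth.Agent.H3.Om
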