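import Mathlib
import Groth.Prelude.Def_Omega3
import Groth.Agent.Lib.Helper3.OmCM5
import Groth.Agent.Lib.Helper3.OmCMRing2
import Groth.Agent.Lib.Helper3.OmId

set_option autoImplicit false
universe u
open AlgebraicGeometry CategoryTheory TopologicalSpace Opposite CategoryTheory.Limits TensorProduct
open Groth.Agent.LD.QC

namespace Groth.Agent.H3.Om

theorem pullbackId_inv_app' {X : Scheme.{u}} (M : X.Modules) (V : X.Opens)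
    (e : V ≤ (𝟙 X) ⁻¹ᵁ V) (m : Γ(M, V)) :
    ((Scheme.Modules.pullbackId X).inv.app M).app V m = pbSec (𝟙 X) M e m :=
  (pullbackId_inv_app M V m).trans (pbSec_le_rfl (𝟙 X) M V m).symm

/-- the chart statement behind S5974. -/
theorem conormalSeq2_chart {Y' Y X : Scheme.{u}} (f : Y ⟶ X) [IsImmersion f] [QuasiCompact f]
    (j : Y' ⟶ Y) [IsImmersion j] [QuasiCompact j]
    {φ₁ : (Scheme.Modules.pullback j).obj (Omega.conormal f) ⟶ Omega.conormal (j ≫ f)}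
    (hφ₁ : OmegaSh.IsConormalMap (j ≫ f) f (𝟙 X) j φ₁)
    {φ₂ : (Scheme.Modules.pullback (𝟙 Y')).obj (Omega.conormal (j ≫ f)) ⟶ Omega.conormal j}
    (hφ₂ : OmegaSh.IsConormalMap j (j ≫ f) f (𝟙 Y') φ₂)
    {U : X.Opens} (hU : IsAffineOpen U) (hle : U ≤ f.coborderRange)
    (hle2 : f ⁻¹ᵁ U ≤ j.coborderRange) :
    (∀ t, ((Scheme.Modules.pullbackId Y').inv.app (Omega.conormal (j ≫ f)) ≫ φ₂).app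
      (j ⁻¹ᵁ (f ⁻¹ᵁ U)) (φ₁.app (j ⁻¹ᵁ (f ⁻¹ᵁ U)) t) = 0) ∧
    (∀ m, ((Scheme.Modules.pullbackId Y').inv.app (Omega.conormal (j ≫ f)) ≫ φ₂).app
      (j ⁻¹ᵁ (f ⁻¹ᵁ U)) m = 0 → ∃ t, φ₁.app (j ⁻¹ᵁ (f ⁻¹ᵁ U)) t = m) ∧
    Function.Surjective (φ₂.app (j ⁻¹ᵁ (f ⁻¹ᵁ U))) := by
  have hgf := isGoodChart_of_le_coborder f hU hle
  have hgj := isGoodChart_of_le_coborder j hgf.preimage_affine hle2
  have hgjf : IsGoodChart (j ≫ f) U := hgf.comp hgj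
  have hV : IsAffineOpen (j ⁻¹ᵁ (f ⁻¹ᵁ U)) := hgj.preimage_affine
  letI algAB : Algebra Γ(X, U) Γ(Y, f ⁻¹ᵁ U) := (f.appLE U (f ⁻¹ᵁ U) le_rfl).hom.toAlgebra
  letI algBC : Algebra Γ(Y, f ⁻¹ᵁ U) Γ(Y', j ⁻¹ᵁ (f ⁻¹ᵁ U)) :=
    (j.appLE (f ⁻¹ᵁ U) (j ⁻¹ᵁ (f ⁻¹ᵁ U)) le_rfl).hom.toAlgebra
  letI algAC : Algebra Γ(X, U) Γ(Y', j ⁻¹ᵁ (f ⁻¹ᵁ U)) :=
    ((j ≫ f).appLE U (j ⁻¹ᵁ (f ⁻¹ᵁ U)) (le_refl _)).hom.toAlgebra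
  have hcomp : f.appLE U (f ⁻¹ᵁ U) le_rfl ≫ j.appLE (f ⁻¹ᵁ U) (j ⁻¹ᵁ (f ⁻¹ᵁ U)) le_rfl =
      (j ≫ f).appLE U (j ⁻¹ᵁ (f ⁻¹ᵁ U)) (le_refl _) :=
    Scheme.Hom.appLE_comp_appLE j f U (f ⁻¹ᵁ U) (j ⁻¹ᵁ (f ⁻¹ᵁ U)) le_rfl le_rfl
  haveI : IsScalarTower Γ(X, U) Γ(Y, f ⁻¹ᵁ U) Γ(Y', j ⁻¹ᵁ (f ⁻¹ᵁ U)) :=
    IsScalarTower.of_algebraMap_eq' (congrArg CommRingCat.Hom.hom hcomp.symm)
  -- chart data
  obtain ⟨hsf, hexf, hmemf, -⟩ := conormal_chart_g' f hgf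
  obtain ⟨-, hexj, hmemj, Ξj, hΞj⟩ := conormal_chart_g' j hgj
  obtain ⟨-, hexjf, hmemjf, Ξjf, hΞjf⟩ :
    Function.Surjective (algebraMap Γ(X, U) Γ(Y', j ⁻¹ᵁ (f ⁻¹ᵁ U))) ∧
    (∀ x : RingHom.ker (algebraMap Γ(X, U) Γ(Y', j ⁻¹ᵁ (f ⁻¹ᵁ U))),
      ∃ s : Γ(ClSub.idealMod (j ≫ f).ker, U), OmegaSh.idealSect (j ≫ f).ker U s = x) ∧
    (∀ s : Γ(ClSub.idealMod (j ≫ f).ker, U),
      OmegaSh.idealSect (j ≫ f).ker U s ∈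
        RingHom.ker (algebraMap Γ(X, U) Γ(Y', j ⁻¹ᵁ (f ⁻¹ᵁ U)))) ∧
    ∃ (Ξ : Γ(Y', j ⁻¹ᵁ (f ⁻¹ᵁ U)) ⊗[Γ(X, U)]
          (RingHom.ker (algebraMap Γ(X, U) Γ(Y', j ⁻¹ᵁ (f ⁻¹ᵁ U))))
          ≃ₗ[Γ(Y', j ⁻¹ᵁ (f ⁻¹ᵁ U))] Γ(Omega.conormal (j ≫ f), j ⁻¹ᵁ (f ⁻¹ᵁ U))),
      ∀ (b : Γ(Y', j ⁻¹ᵁ (f ⁻¹ᵁ U)))
        (x : RingHom.ker (algebraMap Γ(X, U) Γ(Y', j ⁻¹ᵁ (f ⁻¹ᵁ U))))
        (s : Γ(ClSub.idealMod (j ≫ f).ker, U)), OmegaSh.idealSect (j ≫ f).ker U s = x →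
        Ξ (b ⊗ₜ x) = b • (show Γ(Omega.conormal (j ≫ f), j ⁻¹ᵁ (f ⁻¹ᵁ U)) from
          OmegaSh.conormalSect (j ≫ f) U s) := conormal_chart_g' (j ≫ f) hgjf
  obtain ⟨Θ₁, hΘ₁⟩ := pullback_conormal_chart f j hgf hV (le_refl _)
    ((j ≫ f).appLE U (j ⁻¹ᵁ (f ⁻¹ᵁ U)) (le_refl _)).hom (congrArg CommRingCat.Hom.hom hcomp.symm)
  have hid : (j ≫ f).appLE U (j ⁻¹ᵁ (f ⁻¹ᵁ U)) (le_refl _) ≫
      Scheme.Hom.appLE (𝟙 Y') (j ⁻¹ᵁ (f ⁻¹ᵁ U)) (j ⁻¹ᵁ (f ⁻¹ᵁ U)) (le_refl _) =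
      (j ≫ f).appLE U (j ⁻¹ᵁ (f ⁻¹ᵁ U)) (le_refl _) := by
    rw [appLE_eq_id_of_eq_id (𝟙 Y') rfl]
    exact Category.comp_id _
  obtain ⟨Θ₂, hΘ₂⟩ : ∃ (Θ : Γ(Y', j ⁻¹ᵁ (f ⁻¹ᵁ U)) ⊗[Γ(X, U)]
          (RingHom.ker (algebraMap Γ(X, U) Γ(Y', j ⁻¹ᵁ (f ⁻¹ᵁ U))))
          ≃ₗ[Γ(Y', j ⁻¹ᵁ (f ⁻¹ᵁ U))]
          Γ((Scheme.Modules.pullback (𝟙 Y')).obj (Omega.conormal (j ≫ f)), j ⁻¹ᵁ (f ⁻¹ᵁ U))),
      ∀ (b : Γ(Y', j ⁻¹ᵁ (f ⁻¹ᵁ U)))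
        (x' : RingHom.ker (algebraMap Γ(X, U) Γ(Y', j ⁻¹ᵁ (f ⁻¹ᵁ U))))
        (s' : Γ(ClSub.idealMod (j ≫ f).ker, U)), OmegaSh.idealSect (j ≫ f).ker U s' = x' →
        Θ (b ⊗ₜ x') = b • pbSec (𝟙 Y') (Omega.conormal (j ≫ f))
          (show j ⁻¹ᵁ (f ⁻¹ᵁ U) ≤ (𝟙 Y') ⁻¹ᵁ ((j ≫ f) ⁻¹ᵁ U) from le_refl _)
          (OmegaSh.conormalSect (j ≫ f) U s') :=
    pullback_conormal_chart (j ≫ f) (𝟙 Y') hgjf hV (le_refl _)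
      ((j ≫ f).appLE U (j ⁻¹ᵁ (f ⁻¹ᵁ U)) (le_refl _)).hom (congrArg CommRingCat.Hom.hom hid.symm)
  obtain ⟨T₁, T₂, hT₁, hT₂, hTex, hTsurj⟩ :=
    exists_conormal_ring_seq (A := Γ(X, U)) (B := Γ(Y, f ⁻¹ᵁ U)) (C := Γ(Y', j ⁻¹ᵁ (f ⁻¹ᵁ U))) hsf
  have hIJ : ∀ x : RingHom.ker (algebraMap Γ(X, U) Γ(Y, f ⁻¹ᵁ U)),
      (x : Γ(X, U)) ∈ RingHom.ker (algebraMap Γ(X, U) Γ(Y', j ⁻¹ᵁ (f ⁻¹ᵁ U))) := by
    intro x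
    rw [RingHom.mem_ker, IsScalarTower.algebraMap_apply Γ(X, U) Γ(Y, f ⁻¹ᵁ U)
      Γ(Y', j ⁻¹ᵁ (f ⁻¹ᵁ U)), (RingHom.mem_ker).1 x.2, map_zero]
  have hJK : ∀ y : RingHom.ker (algebraMap Γ(X, U) Γ(Y', j ⁻¹ᵁ (f ⁻¹ᵁ U))),
      algebraMap Γ(X, U) Γ(Y, f ⁻¹ᵁ U) y ∈
        RingHom.ker (algebraMap Γ(Y, f ⁻¹ᵁ U) Γ(Y', j ⁻¹ᵁ (f ⁻¹ᵁ U))) := by
    intro y
    rw [RingHom.mem_ker, ← IsScalarTower.algebraMap_apply Γ(X, U) Γ(Y, f ⁻¹ᵁ U)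
      Γ(Y', j ⁻¹ᵁ (f ⁻¹ᵁ U))]
    exact y.2
  -- formula for φ₁
  have hF₁ : ∀ y, φ₁.app (j ⁻¹ᵁ (f ⁻¹ᵁ U)) (Θ₁ y) = Ξjf (T₁ y) := by
    intro y
    induction y with
    | zero => rw [map_zero, map_zero, map_zero, map_zero]
    | add y z hy hz => rw [map_add, map_add, hy, hz, map_add, map_add]
    | tmul c x =>
      obtain ⟨s', hs'⟩ := hexf x
      obtain ⟨s, hs⟩ := hexjf ⟨x, hIJ x⟩
      have hs2 : OmegaSh.idealSect (j ≫ f).ker U s =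
          Scheme.Hom.appLE (𝟙 X) U U (le_refl _) (OmegaSh.idealSect f.ker U s') := by
        rw [appLE_eq_id_of_eq_id (𝟙 X) rfl, hs, hs']
        rfl
      rw [hΘ₁ c x s' hs', Scheme.Modules.Hom.app_smul, hT₁ c x ⟨x, hIJ x⟩ rfl,
        hΞjf c ⟨x, hIJ x⟩ s hs]
      congr 1
      exact conormalMap_chart_formula hφ₁ (le_refl _) (le_refl _) s' s hs2
  -- formula for φ₂
  have hF₂ : ∀ y, φ₂.app (j ⁻¹ᵁ (f ⁻¹ᵁ U)) (Θ₂ y) = Ξj (T₂ y) := by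
    intro y
    induction y with
    | zero => rw [map_zero, map_zero, map_zero, map_zero]
    | add y z hy hz => rw [map_add, map_add, hy, hz, map_add, map_add]
    | tmul c y =>
      obtain ⟨s', hs'⟩ := hexjf y
      obtain ⟨s, hs⟩ := hexj ⟨_, hJK y⟩
      have hs2 : OmegaSh.idealSect j.ker (f ⁻¹ᵁ U) s =
          f.appLE U (f ⁻¹ᵁ U) (le_refl _) (OmegaSh.idealSect (j ≫ f).ker U s') := by
        rw [hs, hs']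
        rfl
      rw [hΘ₂ c y s' hs', Scheme.Modules.Hom.app_smul, hT₂ c y ⟨_, hJK y⟩ rfl,
        hΞj c ⟨_, hJK y⟩ s hs]
      congr 1
      exact conormalMap_chart_formula hφ₂ (le_refl _) (le_refl _) s' s hs2
  -- the identification `𝟙^* C ≅ C`
  have hId : ∀ y, ((Scheme.Modules.pullbackId Y').inv.app (Omega.conormal (j ≫ f))).app
      (j ⁻¹ᵁ (f ⁻¹ᵁ U)) (Ξjf y) = Θ₂ y := by
    intro y
    induction y with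
    | zero => rw [map_zero, map_zero, map_zero]
    | add y z hy hz => rw [map_add, map_add, hy, hz, map_add]
    | tmul c y =>
      obtain ⟨s', hs'⟩ := hexjf y
      rw [hΞjf c y s' hs', Scheme.Modules.Hom.app_smul, hΘ₂ c y s' hs',
        pullbackId_inv_app' _ _ (le_refl _)]
      rfl
  have hF₂' : ∀ y, ((Scheme.Modules.pullbackId Y').inv.app (Omega.conormal (j ≫ f)) ≫ φ₂).app
      (j ⁻¹ᵁ (f ⁻¹ᵁ U)) (Ξjf y) = Ξj (T₂ y) := fun y => by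
    rw [Scheme.Modules.Hom.comp_app, ConcreteCategory.comp_apply, hId, hF₂]
  refine ⟨fun t => ?_, fun m hm => ?_, fun m => ?_⟩
  · obtain ⟨y, rfl⟩ := Θ₁.surjective t
    rw [hF₁, hF₂', hTex.apply_apply_eq_zero, map_zero]
  · obtain ⟨y, rfl⟩ := Ξjf.surjective m
    rw [hF₂'] at hm
    have h0 : T₂ y = 0 := Ξj.injective (hm.trans (map_zero _).symm)
    obtain ⟨x, rfl⟩ := (hTex y).1 h0
    exact ⟨Θ₁ x, hF₁ x⟩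
  · obtain ⟨z, rfl⟩ := Ξj.surjective m
    obtain ⟨y, rfl⟩ := hTsurj z
    exact ⟨Θ₂ y, hF₂ y⟩

end Groth.Agent.H3.Om

namespace Groth.Agent.H3.Om

/-- **S5974**: the sequence `j^* N_{Y/X} → N_{Y'/X} → N_{Y'/Y} → 0` is exact. -/
theorem conormal_exact_of_immersions {Y' Y X : Scheme.{u}} (f : Y ⟶ X) [IsImmersion f]
    [QuasiCompact f] (j : Y' ⟶ Y) [IsImmersion j] [QuasiCompact j]
    {φ₁ : (Scheme.Modules.pullback j).obj (Omega.conormal f) ⟶ Omega.conormal (j ≫ f)}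
    (hφ₁ : OmegaSh.IsConormalMap (j ≫ f) f (𝟙 X) j φ₁)
    {φ₂ : (Scheme.Modules.pullback (𝟙 Y')).obj (Omega.conormal (j ≫ f)) ⟶ Omega.conormal j}
    (hφ₂ : OmegaSh.IsConormalMap j (j ≫ f) f (𝟙 Y') φ₂) :
    Epi φ₂ ∧
      imageSubobject φ₁ =
        kernelSubobject ((Scheme.Modules.pullbackId Y').inv.app (Omega.conormal (j ≫ f)) ≫ φ₂) := by
  let B : Set Y'.Opens := {V | ∃ U : X.Opens, IsAffineOpen U ∧ U ≤ f.coborderRange ∧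
    f ⁻¹ᵁ U ≤ j.coborderRange ∧ V = j ⁻¹ᵁ (f ⁻¹ᵁ U)}
  have hB : Opens.IsBasis B := by
    rw [Opens.isBasis_iff_nbhd]
    intro N z hz
    obtain ⟨T, hT, hTle, hzT, hTN⟩ := exists_good_chart j z N hz
    obtain ⟨U, hU, hUle, hzU, hUT⟩ := exists_good_chart f (j z) T hzT
    exact ⟨j ⁻¹ᵁ (f ⁻¹ᵁ U), ⟨U, hU, hUle, hUT.trans hTle, rfl⟩, hzU,
      (j.preimage_mono hUT).trans hTN⟩
  have chart : ∀ V ∈ B,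
      (∀ t, ((Scheme.Modules.pullbackId Y').inv.app (Omega.conormal (j ≫ f)) ≫ φ₂).app V
        (φ₁.app V t) = 0) ∧
      (∀ m, ((Scheme.Modules.pullbackId Y').inv.app (Omega.conormal (j ≫ f)) ≫ φ₂).app V m = 0 →
        ∃ t, φ₁.app V t = m) ∧
      Function.Surjective (φ₂.app V) := by
    rintro V ⟨U, hU, hle, hle2, rfl⟩
    exact conormalSeq2_chart f j hφ₁ hφ₂ hU hle hle2
  refine ⟨epi_of_surjective_basis φ₂ B hB (fun V hV => (chart V hV).2.2), ?_⟩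
  obtain ⟨w, hex⟩ := exact_of_basis φ₁
    ((Scheme.Modules.pullbackId Y').inv.app (Omega.conormal (j ≫ f)) ≫ φ₂) B hB
    (fun V hV => (chart V hV).1) (fun V hV => (chart V hV).2.1)
  exact (ShortComplex.exact_iff_image_eq_kernel _).1 hex

end Groth.Agent.H3.Om
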