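import Mathlib
import Groth.Agent.Lib.Helper3.OmConRing

set_option autoImplicit false
universe u
open TensorProduct

namespace Groth.Agent.H3.Om

/-- surjectivity of `C ⊗ I → C ⊗ Ω[A/R]` when `R → C` is formally unramified. -/
theorem kerPsi_surjective_of_formallyUnramified (R : Type u) {A C : Type u} [CommRing R]
    [CommRing A] [CommRing C] [Algebra R A] [Algebra A C] [Algebra R C] [IsScalarTower R A C]
    [Algebra.FormallyUnramified R C] (hAC : Function.Surjective (algebraMap A C)) :
    Function.Surjective (kerPsi R A C) := by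
  intro t
  have h0 : KaehlerDifferential.mapBaseChange R A C t = 0 := Subsingleton.elim _ _
  obtain ⟨a, rfl⟩ := exists_of_mapBaseChange_eq_zero R hAC t h0
  exact ⟨_, rfl⟩

/-- the kernel of `C ⊗ I → C ⊗ Ω[A/R]` is generated by the image of `ker (R → C)`, when both
`A → C` and `R → C` are surjective. -/
theorem kerPsi_eq_zero_mem_span (R : Type u) {A C : Type u} [CommRing R]
    [CommRing A] [CommRing C] [Algebra R A] [Algebra A C] [Algebra R C] [IsScalarTower R A C]
    (hAC : Function.Surjective (algebraMap A C)) (hRC : Function.Surjective (algebraMap R C))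
    (t : C ⊗[A] (RingHom.ker (algebraMap A C))) (ht : kerPsi R A C t = 0) :
    t ∈ Submodule.span C {t : C ⊗[A] (RingHom.ker (algebraMap A C)) |
      ∃ (r : R) (h : algebraMap R A r ∈ RingHom.ker (algebraMap A C)),
        t = (1 : C) ⊗ₜ[A] (⟨algebraMap R A r, h⟩ : RingHom.ker (algebraMap A C))} := by
  set P : Submodule C (C ⊗[A] (RingHom.ker (algebraMap A C))) :=
    Submodule.span C {t : C ⊗[A] (RingHom.ker (algebraMap A C)) |
      ∃ (r : R) (h : algebraMap R A r ∈ RingHom.ker (algebraMap A C)),
        t = (1 : C) ⊗ₜ[A] (⟨algebraMap R A r, h⟩ : RingHom.ker (algebraMap A C))} with hP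
  -- the quotient module
  let N := (C ⊗[A] (RingHom.ker (algebraMap A C))) ⧸ P
  haveI : IsScalarTower R A N := inferInstance
  have hkill : ∀ (a : A) (n : N), algebraMap A C a = 0 → a • n = 0 := by
    intro a n ha
    rw [← algebraMap_smul C a n, ha, zero_smul]
  -- the element `a - ρ r` of `I`
  have hmem : ∀ (a : A) (r : R), algebraMap R C r = algebraMap A C a →
      a - algebraMap R A r ∈ RingHom.ker (algebraMap A C) := by
    intro a r h
    rw [RingHom.mem_ker, map_sub, ← IsScalarTower.algebraMap_apply R A C, h, sub_self]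
  let q : RingHom.ker (algebraMap A C) → N := fun x => Submodule.Quotient.mk ((1 : C) ⊗ₜ[A] x)
  have hq_add : ∀ x y, q (x + y) = q x + q y := fun x y => by
    change Submodule.Quotient.mk ((1 : C) ⊗ₜ[A] (x + y)) = _
    rw [TensorProduct.tmul_add, Submodule.Quotient.mk_add]
  have hq_smul : ∀ (a : A) x, q (a • x) = a • q x := fun a x => by
    change Submodule.Quotient.mk ((1 : C) ⊗ₜ[A] (a • x)) = _
    rw [TensorProduct.tmul_smul, Submodule.Quotient.mk_smul]
  have hq_gen : ∀ (r : R) (h : algebraMap R A r ∈ RingHom.ker (algebraMap A C)),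
      q ⟨algebraMap R A r, h⟩ = 0 := fun r h => by
    change Submodule.Quotient.mk _ = 0
    rw [Submodule.Quotient.mk_eq_zero]
    exact Submodule.subset_span ⟨r, h, rfl⟩
  -- independence of the lift
  have hindep : ∀ (a : A) (r r' : R) (h : algebraMap R C r = algebraMap A C a)
      (h' : algebraMap R C r' = algebraMap A C a),
      q ⟨a - algebraMap R A r, hmem a r h⟩ = q ⟨a - algebraMap R A r', hmem a r' h'⟩ := by
    intro a r r' h h'
    have hm : algebraMap R A (r' - r) ∈ RingHom.ker (algebraMap A C) := by
      rw [RingHom.mem_ker, ← IsScalarTower.algebraMap_apply R A C, map_sub, h, h', sub_self]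
    have e : (⟨a - algebraMap R A r, hmem a r h⟩ : RingHom.ker (algebraMap A C)) =
        ⟨a - algebraMap R A r', hmem a r' h'⟩ + ⟨algebraMap R A (r' - r), hm⟩ := by
      apply Subtype.ext
      change a - algebraMap R A r = (a - algebraMap R A r') + algebraMap R A (r' - r)
      rw [map_sub]; ring
    rw [e, hq_add, hq_gen, add_zero]
  let σ : A → R := fun a => Function.surjInv hRC (algebraMap A C a)
  have hσ : ∀ a, algebraMap R C (σ a) = algebraMap A C a := fun a => Function.surjInv_eq hRC _
  let D₀ : A → N := fun a => q ⟨a - algebraMap R A (σ a), hmem a (σ a) (hσ a)⟩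
  have hD₀ : ∀ (a : A) (r : R) (h : algebraMap R C r = algebraMap A C a),
      D₀ a = q ⟨a - algebraMap R A r, hmem a r h⟩ := fun a r h => hindep a (σ a) r (hσ a) h
  have hD_add : ∀ a b, D₀ (a + b) = D₀ a + D₀ b := by
    intro a b
    have h : algebraMap R C (σ a + σ b) = algebraMap A C (a + b) := by
      rw [map_add, map_add, hσ, hσ]
    rw [hD₀ (a + b) (σ a + σ b) h, ← hq_add]
    congr 1
    apply Subtype.ext
    change a + b - algebraMap R A (σ a + σ b) =
      (a - algebraMap R A (σ a)) + (b - algebraMap R A (σ b))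
    rw [map_add]; ring
  have hD_mul : ∀ a b, D₀ (a * b) = a • D₀ b + b • D₀ a := by
    intro a b
    have h : algebraMap R C (σ a * σ b) = algebraMap A C (a * b) := by
      rw [map_mul, map_mul, hσ, hσ]
    have e1 : b • D₀ a = algebraMap R A (σ b) • D₀ a := by
      have : (b - algebraMap R A (σ b)) • D₀ a = 0 := hkill _ _ (hmem b (σ b) (hσ b))
      rw [sub_smul, sub_eq_zero] at this
      exact this
    rw [hD₀ (a * b) (σ a * σ b) h, e1, ← hq_smul, ← hq_smul, ← hq_add]
    congr 1
    apply Subtype.ext
    change a * b - algebraMap R A (σ a * σ b) =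
      a * (b - algebraMap R A (σ b)) + algebraMap R A (σ b) * (a - algebraMap R A (σ a))
    rw [map_mul]; ring
  have hD_alg : ∀ r : R, D₀ (algebraMap R A r) = 0 := by
    intro r
    have h : algebraMap R C r = algebraMap A C (algebraMap R A r) :=
      IsScalarTower.algebraMap_apply R A C r
    rw [hD₀ _ r h]
    have : (⟨algebraMap R A r - algebraMap R A r, hmem _ r h⟩ : RingHom.ker (algebraMap A C)) =
        ⟨algebraMap R A 0, by rw [map_zero]; exact Submodule.zero_mem _⟩ := by
      apply Subtype.ext
      change algebraMap R A r - algebraMap R A r = algebraMap R A 0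
      rw [sub_self, map_zero]
    rw [this, hq_gen]
  let DR : A →ₗ[R] N :=
    { toFun := D₀
      map_add' := hD_add
      map_smul' := fun r a => by
        rw [Algebra.smul_def, hD_mul, hD_alg, smul_zero, add_zero, RingHom.id_apply,
          algebraMap_smul] }
  let Dder : Derivation R A N := Derivation.mk' DR hD_mul
  let ℓ : Ω[A⁄R] →ₗ[A] N := Dder.liftKaehlerDifferential
  let L : C ⊗[A] Ω[A⁄R] →ₗ[C] N := ℓ.liftBaseChange C
  obtain ⟨x, rfl⟩ := exists_one_tmul hAC t
  have h1 : L (kerPsi R A C ((1 : C) ⊗ₜ x)) = q x := by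
    rw [kerPsi_tmul, LinearMap.liftBaseChange_tmul, one_smul]
    change Dder.liftKaehlerDifferential (KaehlerDifferential.D R A (x : A)) = _
    rw [Derivation.liftKaehlerDifferential_comp_D]
    change D₀ (x : A) = _
    have h : algebraMap R C 0 = algebraMap A C (x : A) := by
      rw [map_zero]; exact ((RingHom.mem_ker).1 x.2).symm
    rw [hD₀ _ 0 h]
    congr 1
    apply Subtype.ext
    change (x : A) - algebraMap R A 0 = x
    rw [map_zero, sub_zero]
  rw [ht, map_zero] at h1
  exact (Submodule.Quotient.mk_eq_zero P).1 h1.symm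

end Groth.Agent.H3.Om
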