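import Mathlib
import Groth.Prelude.Def_Omega3
import Groth.Agent.Lib.Helper3.OmCM6
import Groth.Agent.Lib.Helper3.OmCMRing3
import Groth.Agent.Lib.Helper3.OmCon2

set_option autoImplicit false
universe u
open AlgebraicGeometry CategoryTheory TopologicalSpace Opposite CategoryTheory.Limits TensorProduct
open Groth.Agent.LD.QC

namespace Groth.Agent.H3.Om

theorem appLE_id_bijective {Z : Scheme.{u}} {V V' : Z.Opens} (e : V ≤ (𝟙 Z) ⁻¹ᵁ V')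
    (h : V' ≤ V) : Function.Bijective (Scheme.Hom.appLE (𝟙 Z) V' V e) := by
  obtain rfl : V = V' := le_antisymm e h
  rw [appLE_eq_id_of_eq_id (𝟙 Z) rfl]
  exact Function.bijective_id

/-- charts adapted to two immersions `i : Z → X`, `j = i ≫ p : Z → Y`: a good chart `W` of `j` and a
good chart `U ⊆ p⁻¹ W` of `i` with the same trace on `Z`. -/
theorem exists_adapted_charts {Z X Y : Scheme.{u}} (p : X ⟶ Y) (i : Z ⟶ X) (j : Z ⟶ Y)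
    [IsImmersion i] [IsImmersion j] (hij : i ≫ p = j) (z : Z) (N : Z.Opens) (hz : z ∈ N) :
    ∃ (W : Y.Opens) (U : X.Opens), IsAffineOpen W ∧ W ≤ j.coborderRange ∧ IsAffineOpen U ∧
      U ≤ i.coborderRange ∧ U ≤ p ⁻¹ᵁ W ∧ j ⁻¹ᵁ W ≤ i ⁻¹ᵁ U ∧ z ∈ i ⁻¹ᵁ U ∧ i ⁻¹ᵁ U ≤ N := by
  obtain ⟨W₀, hW₀, hW₀le, hzW₀, -⟩ := exists_good_chart j z ⊤ trivial
  have hzM : i z ∈ p ⁻¹ᵁ W₀ := by
    have h1 : j z ∈ W₀ := hzW₀
    rw [← hij] at h1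
    exact h1
  obtain ⟨U₀, hU₀, hU₀le, hU₀W₀, hzU₀, hU₀N⟩ := exists_good_chart' i z N hz (p ⁻¹ᵁ W₀) hzM
  obtain ⟨W₁, hW₁o, hW₁⟩ := j.isEmbedding.isInducing.isOpen_iff.1 (i ⁻¹ᵁ U₀).2
  have hzW₁ : j z ∈ (⟨W₁, hW₁o⟩ : Y.Opens) := by
    have : z ∈ (j.base ⁻¹' W₁) := by rw [hW₁]; exact hzU₀
    exact this
  obtain ⟨h, hh₁, hh₂⟩ := hW₀.exists_basicOpen_le (V := ⟨W₁, hW₁o⟩) ⟨j z, hzW₁⟩ hzW₀
  refine ⟨Y.basicOpen h, X.basicOpen (p.appLE W₀ U₀ hU₀W₀ h), hW₀.basicOpen h,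
    (Y.basicOpen_le h).trans hW₀le, hU₀.basicOpen _, (X.basicOpen_le _).trans hU₀le, ?_, ?_, ?_, ?_⟩
  · rw [Scheme.basicOpen_appLE]
    exact inf_le_right
  · rw [Scheme.basicOpen_appLE]
    intro z' hz'
    refine ⟨?_, ?_⟩
    · have h1 : j z' ∈ W₁ := hh₁ hz'
      have h2 : z' ∈ (j.base ⁻¹' W₁) := h1
      rw [hW₁] at h2
      exact h2
    · have h1 : j z' ∈ Y.basicOpen h := hz'
      rw [← hij] at h1
      exact h1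
  · rw [Scheme.basicOpen_appLE]
    refine ⟨hzU₀, ?_⟩
    have h1 : j z ∈ Y.basicOpen h := hh₂
    rw [← hij] at h1
    exact h1
  · rw [Scheme.basicOpen_appLE]
    exact fun z' hz' => hU₀N hz'.1

end Groth.Agent.H3.Om

namespace Groth.Agent.H3.Om

/-- the chart statement behind S9375. -/
theorem conormalSeq3_chart {Z X Y : Scheme.{u}} (p : X ⟶ Y) (i : Z ⟶ X) (j : Z ⟶ Y)
    [IsImmersion i] [IsImmersion j] [QuasiCompact i] [QuasiCompact j]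
    {Ω : X.Modules} {d : OmegaSh.Der p Ω} (hd : OmegaSh.IsUniversal d)
    {ψ : (Scheme.Modules.pullback (𝟙 Z)).obj (Omega.conormal j) ⟶ Omega.conormal i}
    (hψ : OmegaSh.IsConormalMap i j p (𝟙 Z) ψ)
    {φ : Omega.conormal i ⟶ (Scheme.Modules.pullback i).obj Ω}
    (hφ : OmegaSh.IsConormalDiff i d φ)
    {W : Y.Opens} {U : X.Opens} (hW : IsAffineOpen W) (hWle : W ≤ j.coborderRange)
    (hU : IsAffineOpen U) (hUle : U ≤ i.coborderRange) (eU : U ≤ p ⁻¹ᵁ W)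
    (hVW : j ⁻¹ᵁ W ≤ i ⁻¹ᵁ U) :
    (∀ t, φ.app (i ⁻¹ᵁ U) (ψ.app (i ⁻¹ᵁ U) t) = 0) ∧
    (∀ m, φ.app (i ⁻¹ᵁ U) m = 0 → ∃ t, ψ.app (i ⁻¹ᵁ U) t = m) ∧
    Function.Surjective (φ.app (i ⁻¹ᵁ U)) := by
  have hgj := isGoodChart_of_le_coborder j hW hWle
  have hgi := isGoodChart_of_le_coborder i hU hUle
  have hV := hgi.preimage_affine
  have eV : i ⁻¹ᵁ U ≤ (𝟙 Z) ⁻¹ᵁ (j ⁻¹ᵁ W) := preimage_le_of_sq' hψ.1 (i.preimage_mono eU)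
  letI algRA : Algebra Γ(Y, W) Γ(X, U) := (p.appLE W U eU).hom.toAlgebra
  letI algAC : Algebra Γ(X, U) Γ(Z, i ⁻¹ᵁ U) := (i.appLE U (i ⁻¹ᵁ U) le_rfl).hom.toAlgebra
  letI algRC' : Algebra Γ(Y, W) Γ(Z, j ⁻¹ᵁ W) := (j.appLE W (j ⁻¹ᵁ W) le_rfl).hom.toAlgebra
  letI algRC : Algebra Γ(Y, W) Γ(Z, i ⁻¹ᵁ U) :=
    (p.appLE W U eU ≫ i.appLE U (i ⁻¹ᵁ U) le_rfl).hom.toAlgebra
  haveI : IsScalarTower Γ(Y, W) Γ(X, U) Γ(Z, i ⁻¹ᵁ U) := IsScalarTower.of_algebraMap_eq' rfl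
  have hcomm : j.appLE W (j ⁻¹ᵁ W) le_rfl ≫ Scheme.Hom.appLE (𝟙 Z) (j ⁻¹ᵁ W) (i ⁻¹ᵁ U) eV =
      p.appLE W U eU ≫ i.appLE U (i ⁻¹ᵁ U) le_rfl := by
    rw [Scheme.Hom.appLE_comp_appLE, Scheme.Hom.appLE_comp_appLE]
    exact appLE_congr_of_eq hψ.1 _ _ _ _
  obtain ⟨Θ, hΘ⟩ := pullback_conormal_chart j (𝟙 Z) hgj hV eV
    (p.appLE W U eU ≫ i.appLE U (i ⁻¹ᵁ U) le_rfl).hom (congrArg CommRingCat.Hom.hom hcomm.symm)
  obtain ⟨hsj, hexj, hmemj, -⟩ := conormal_chart_g' j hgj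
  obtain ⟨hsi, hexi, hmemi, Ξ, hΞ⟩ := conormal_chart_g' i hgi
  obtain ⟨Φ, hΦ⟩ := pullback_chart i hd hU hW eU hV (le_refl (i ⁻¹ᵁ U))
  -- `R → C` is `R → C' → C` with `C' → C` bijective
  have hres := appLE_id_bijective eV hVW
  have hRC : ∀ r : Γ(Y, W), algebraMap Γ(Y, W) Γ(Z, i ⁻¹ᵁ U) r =
      Scheme.Hom.appLE (𝟙 Z) (j ⁻¹ᵁ W) (i ⁻¹ᵁ U) eV (algebraMap Γ(Y, W) Γ(Z, j ⁻¹ᵁ W) r) :=
    fun r => congr($(hcomm.symm) r)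
  have hRCsurj : Function.Surjective (algebraMap Γ(Y, W) Γ(Z, i ⁻¹ᵁ U)) := by
    intro c
    obtain ⟨c', rfl⟩ := hres.2 c
    obtain ⟨r, rfl⟩ := hsj c'
    exact ⟨r, hRC r⟩
  haveI : Algebra.FormallyUnramified Γ(Y, W) Γ(Z, i ⁻¹ᵁ U) :=
    ⟨KaehlerDifferential.subsingleton_of_surjective _ _ hRCsurj⟩
  -- membership transfers
  have hmemκ : ∀ x' : RingHom.ker (algebraMap Γ(Y, W) Γ(Z, j ⁻¹ᵁ W)),
      algebraMap Γ(Y, W) Γ(X, U) x' ∈ RingHom.ker (algebraMap Γ(X, U) Γ(Z, i ⁻¹ᵁ U)) := by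
    intro x'
    rw [RingHom.mem_ker, ← IsScalarTower.algebraMap_apply Γ(Y, W) Γ(X, U) Γ(Z, i ⁻¹ᵁ U), hRC,
      (RingHom.mem_ker).1 x'.2, map_zero]
  have hmemκ' : ∀ r : Γ(Y, W),
      algebraMap Γ(Y, W) Γ(X, U) r ∈ RingHom.ker (algebraMap Γ(X, U) Γ(Z, i ⁻¹ᵁ U)) →
      r ∈ RingHom.ker (algebraMap Γ(Y, W) Γ(Z, j ⁻¹ᵁ W)) := by
    intro r hr
    rw [RingHom.mem_ker, ← IsScalarTower.algebraMap_apply Γ(Y, W) Γ(X, U) Γ(Z, i ⁻¹ᵁ U),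
      hRC] at hr
    rw [RingHom.mem_ker]
    exact hres.1 (hr.trans (map_zero _).symm)
  -- formula for ψ
  have hFψ : ∀ (c : Γ(Z, i ⁻¹ᵁ U)) (x' : RingHom.ker (algebraMap Γ(Y, W) Γ(Z, j ⁻¹ᵁ W))),
      ψ.app (i ⁻¹ᵁ U) (Θ (c ⊗ₜ x')) = Ξ (c ⊗ₜ ⟨algebraMap Γ(Y, W) Γ(X, U) x', hmemκ x'⟩) := by
    intro c x'
    obtain ⟨s', hs'⟩ := hexj x'
    obtain ⟨s, hs⟩ := hexi ⟨_, hmemκ x'⟩
    have hs2 : OmegaSh.idealSect i.ker U s = p.appLE W U eU (OmegaSh.idealSect j.ker W s') := by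
      rw [hs, hs']; rfl
    rw [hΘ c x' s' hs', Scheme.Modules.Hom.app_smul,
      conormalMap_chart_formula hψ eU eV s' s hs2, hΞ c ⟨_, hmemκ x'⟩ s hs]
  -- formula for φ
  have hFφ : ∀ y, φ.app (i ⁻¹ᵁ U) (Ξ y) = Φ (kerPsi Γ(Y, W) Γ(X, U) Γ(Z, i ⁻¹ᵁ U) y) := by
    intro y
    induction y with
    | zero => rw [map_zero, map_zero, map_zero, map_zero]
    | add y z hy hz => rw [map_add, map_add, hy, hz, map_add, map_add]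
    | tmul c x =>
      obtain ⟨s, hs⟩ := hexi x
      rw [hΞ c x s hs, Scheme.Modules.Hom.app_smul, hφ U s, kerPsi_tmul, hΦ, hs, pbSec_le_rfl]
  refine ⟨fun t => ?_, fun m hm => ?_, fun m => ?_⟩
  · obtain ⟨y, rfl⟩ := Θ.surjective t
    induction y with
    | zero => rw [map_zero, map_zero, map_zero]
    | add y z hy hz => rw [map_add, map_add, map_add, hy, hz, add_zero]
    | tmul c x' =>
      rw [hFψ, hFφ, kerPsi_tmul]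
      have : KaehlerDifferential.D Γ(Y, W) Γ(X, U) (algebraMap Γ(Y, W) Γ(X, U) (x' : Γ(Y, W))) = 0 :=
        Derivation.map_algebraMap _ _
      change Φ (c ⊗ₜ KaehlerDifferential.D Γ(Y, W) Γ(X, U)
        (algebraMap Γ(Y, W) Γ(X, U) (x' : Γ(Y, W)))) = 0
      rw [this, TensorProduct.tmul_zero, map_zero]
  · obtain ⟨y, rfl⟩ := Ξ.surjective m
    rw [hFφ] at hm
    have h0 : kerPsi Γ(Y, W) Γ(X, U) Γ(Z, i ⁻¹ᵁ U) y = 0 :=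
      Φ.injective (hm.trans (map_zero _).symm)
    have hy := kerPsi_eq_zero_mem_span Γ(Y, W) hsi hRCsurj y h0
    clear h0 hm
    induction hy using Submodule.span_induction with
    | mem y hy =>
      obtain ⟨r, h, rfl⟩ := hy
      exact ⟨Θ ((1 : Γ(Z, i ⁻¹ᵁ U)) ⊗ₜ ⟨r, hmemκ' r h⟩), hFψ 1 ⟨r, hmemκ' r h⟩⟩
    | zero => exact ⟨0, by rw [map_zero, map_zero]⟩
    | add y z _ _ hy hz =>
      obtain ⟨t, ht⟩ := hy
      obtain ⟨t', ht'⟩ := hz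
      exact ⟨t + t', by rw [map_add, map_add, ht, ht']⟩
    | smul c y _ hy =>
      obtain ⟨t, ht⟩ := hy
      exact ⟨c • t, by rw [Scheme.Modules.Hom.app_smul, map_smul, ht]⟩
  · obtain ⟨w, rfl⟩ := Φ.surjective m
    obtain ⟨y, rfl⟩ := kerPsi_surjective_of_formallyUnramified Γ(Y, W) hsi w
    exact ⟨Ξ y, hFφ y⟩

end Groth.Agent.H3.Om

namespace Groth.Agent.H3.Om

/-- **S9375**: the exact sequence `C_{Z/Y} → C_{Z/X} → i^*Ω_{X/Y} → 0`. -/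
theorem conormal_diff_exact_sequence {Z X Y : Scheme.{u}} (p : X ⟶ Y) (i : Z ⟶ X) (j : Z ⟶ Y)
    [IsImmersion i] [IsImmersion j] [QuasiCompact i] [QuasiCompact j] (hij : i ≫ p = j)
    {Ω : X.Modules} {d : OmegaSh.Der p Ω} (hd : OmegaSh.IsUniversal d)
    {ψ : (Scheme.Modules.pullback (𝟙 Z)).obj (Omega.conormal j) ⟶ Omega.conormal i}
    (hψ : OmegaSh.IsConormalMap i j p (𝟙 Z) ψ)
    {φ : Omega.conormal i ⟶ (Scheme.Modules.pullback i).obj Ω}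
    (hφ : OmegaSh.IsConormalDiff i d φ) :
    ∃ w : ψ ≫ φ = 0, (ShortComplex.mk ψ φ w).Exact ∧ Epi φ := by
  let B : Set Z.Opens := {V | ∃ (W : Y.Opens) (U : X.Opens), IsAffineOpen W ∧
    W ≤ j.coborderRange ∧ IsAffineOpen U ∧ U ≤ i.coborderRange ∧ U ≤ p ⁻¹ᵁ W ∧
    j ⁻¹ᵁ W ≤ i ⁻¹ᵁ U ∧ V = i ⁻¹ᵁ U}
  have hB : Opens.IsBasis B := by
    rw [Opens.isBasis_iff_nbhd]
    intro N z hz
    obtain ⟨W, U, hW, hWle, hU, hUle, eU, hVW, hzU, hUN⟩ := exists_adapted_charts p i j hij z N hz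
    exact ⟨i ⁻¹ᵁ U, ⟨W, U, hW, hWle, hU, hUle, eU, hVW, rfl⟩, hzU, hUN⟩
  have chart : ∀ V ∈ B, (∀ t, φ.app V (ψ.app V t) = 0) ∧
      (∀ m, φ.app V m = 0 → ∃ t, ψ.app V t = m) ∧ Function.Surjective (φ.app V) := by
    rintro V ⟨W, U, hW, hWle, hU, hUle, eU, hVW, rfl⟩
    exact conormalSeq3_chart p i j hd hψ hφ hW hWle hU hUle eU hVW
  obtain ⟨w, hex⟩ := exact_of_basis ψ φ B hB (fun V hV => (chart V hV).1)
    (fun V hV => (chart V hV).2.1)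
  exact ⟨w, hex, epi_of_surjective_basis φ B hB (fun V hV => (chart V hV).2.2)⟩

end Groth.Agent.H3.Om
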