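import Mathlib
import Groth.Agent.Lib.Helper3.OmConRing

set_option autoImplicit false
universe u
open TensorProduct

namespace Groth.Agent.H3.Om

/-- for `A ↠ C` with kernel `I`: `1 ⊗ x = 0` in `C ⊗[A] I` iff `x ∈ I²`. -/
theorem one_tmul_eq_zero_iff {A C : Type u} [CommRing A] [CommRing C] [Algebra A C]
    (hAC : Function.Surjective (algebraMap A C)) (x : RingHom.ker (algebraMap A C)) :
    (1 : C) ⊗ₜ[A] x = 0 ↔ (x : A) ∈ RingHom.ker (algebraMap A C) ^ 2 := by
  rw [← Ideal.toCotangent_eq_zero]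
  constructor
  · intro h
    have hs' : Function.Surjective (Algebra.ofId A C) := hAC
    let e₁ : (A ⧸ RingHom.ker (Algebra.ofId A C)) ≃ₗ[A] C :=
      (Ideal.quotientKerAlgEquivOfSurjective hs').toLinearEquiv
    let E := (TensorProduct.congr e₁.symm (LinearEquiv.refl A (RingHom.ker (algebraMap A C)))) ≪≫ₗ
      TensorProduct.quotTensorEquivQuotSMul (RingHom.ker (algebraMap A C))
        (RingHom.ker (Algebra.ofId A C))
    have h1 : E ((1 : C) ⊗ₜ[A] x) = Submodule.Quotient.mk x := by
      have h2 : e₁.symm (1 : C) = Ideal.Quotient.mk _ (1 : A) := by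
        rw [LinearEquiv.symm_apply_eq]
        change (1 : C) = Algebra.ofId A C 1
        rw [map_one]
      change TensorProduct.quotTensorEquivQuotSMul _ _ (e₁.symm 1 ⊗ₜ x) = _
      rw [h2, TensorProduct.quotTensorEquivQuotSMul_mk_tmul, one_smul]
    rw [h, map_zero] at h1
    exact h1.symm
  · intro h0
    have hmem : x ∈ (RingHom.ker (algebraMap A C) • ⊤ :
        Submodule A (RingHom.ker (algebraMap A C))) :=
      (Submodule.Quotient.mk_eq_zero _).1 h0
    refine Submodule.smul_induction_on hmem ?_ ?_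
    · intro r hr n _
      rw [← TensorProduct.smul_tmul, Algebra.smul_def, RingHom.mem_ker.1 hr, zero_mul,
        TensorProduct.zero_tmul]
    · intro x y hx hy
      rw [TensorProduct.tmul_add, hx, hy, add_zero]

/-- `J/J² → I/I²` is injective when `R → A` is formally smooth (`R ↠ C`, `A ↠ C`). -/
theorem conormalMap_injective_of_formallySmooth (R : Type u) {A C : Type u} [CommRing R]
    [CommRing A] [CommRing C] [Algebra R A] [Algebra A C] [Algebra R C] [IsScalarTower R A C]
    [Algebra.FormallySmooth R A]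
    (hAC : Function.Surjective (algebraMap A C)) (hRC : Function.Surjective (algebraMap R C))
    (r : RingHom.ker (algebraMap R C))
    (h : algebraMap R A r ∈ RingHom.ker (algebraMap A C))
    (h0 : (1 : C) ⊗ₜ[A] (⟨algebraMap R A r, h⟩ : RingHom.ker (algebraMap A C)) = 0) :
    (1 : C) ⊗ₜ[R] r = 0 := by
  rw [one_tmul_eq_zero_iff hRC]
  rw [one_tmul_eq_zero_iff hAC] at h0
  change algebraMap R A r ∈ RingHom.ker (algebraMap A C) ^ 2 at h0
  -- the lift `A → R/J²`
  let f : A →ₐ[R] C := IsScalarTower.toAlgHom R A C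
  let g₀ : R →ₐ[R] C := Algebra.ofId R C
  have hsurj : Function.Surjective g₀.kerSquareLift := by
    intro c
    obtain ⟨r', rfl⟩ := hRC c
    exact ⟨Ideal.Quotient.mk _ r', rfl⟩
  have hnil : IsNilpotent (RingHom.ker g₀.kerSquareLift.toRingHom) := by
    refine ⟨2, ?_⟩
    rw [g₀.ker_kerSquareLift]
    exact Ideal.cotangentIdeal_square _
  let s : A →ₐ[R] R ⧸ (RingHom.ker g₀.toRingHom ^ 2) :=
    Algebra.FormallySmooth.liftOfSurjective f g₀.kerSquareLift hsurj hnil
  have hs : g₀.kerSquareLift.comp s = f :=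
    Algebra.FormallySmooth.comp_liftOfSurjective _ _ hsurj hnil
  have hI : Ideal.map s.toRingHom (RingHom.ker (algebraMap A C)) ≤
      RingHom.ker g₀.kerSquareLift.toRingHom := by
    rw [Ideal.map_le_iff_le_comap]
    intro x hx
    rw [Ideal.mem_comap, RingHom.mem_ker]
    have := congrArg (fun φ : A →ₐ[R] C => φ x) hs
    exact this.trans ((RingHom.mem_ker).1 hx)
  have hI2 : Ideal.map s.toRingHom (RingHom.ker (algebraMap A C) ^ 2) = ⊥ := by
    rw [Ideal.map_pow, eq_bot_iff]
    refine (Ideal.pow_right_mono hI 2).trans ?_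
    rw [g₀.ker_kerSquareLift, Ideal.cotangentIdeal_square]
  have h1 : s (algebraMap R A r) = 0 := by
    have : s.toRingHom (algebraMap R A r) ∈ Ideal.map s.toRingHom
        (RingHom.ker (algebraMap A C) ^ 2) := Ideal.mem_map_of_mem _ h0
    rw [hI2] at this
    exact this
  rw [AlgHom.commutes] at h1
  have h2 : (r : R) ∈ RingHom.ker g₀.toRingHom ^ 2 := Ideal.Quotient.eq_zero_iff_mem.1 h1
  exact h2

/-- for `R ↠ C`, every element of `C ⊗[R] M` is of the form `1 ⊗ m`. -/
theorem exists_one_tmul' {R C : Type u} [CommRing R] [CommRing C] [Algebra R C]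
    (hRC : Function.Surjective (algebraMap R C)) {M : Type u} [AddCommGroup M] [Module R M]
    (y : C ⊗[R] M) : ∃ m : M, y = (1 : C) ⊗ₜ[R] m := by
  induction y with
  | zero => exact ⟨0, (TensorProduct.tmul_zero _ _).symm⟩
  | add x y hx hy =>
    obtain ⟨a, rfl⟩ := hx
    obtain ⟨b, rfl⟩ := hy
    exact ⟨a + b, (TensorProduct.tmul_add _ _ _).symm⟩
  | tmul c m =>
    obtain ⟨r, rfl⟩ := hRC c
    refine ⟨r • m, ?_⟩
    rw [← TensorProduct.smul_tmul, Algebra.smul_def, mul_one]

/-- for an ideal `J'` killed in `C`: `x ∈ J'²` gives `1 ⊗ x = 0` in `C ⊗[R] J'`. -/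
theorem one_tmul_eq_zero_of_mem_sq {R C : Type u} [CommRing R] [CommRing C] [Algebra R C]
    (J' : Ideal R) (hJ' : ∀ x ∈ J', algebraMap R C x = 0) (x : J')
    (hx : (x : R) ∈ J' ^ 2) : (1 : C) ⊗ₜ[R] x = 0 := by
  have h0 : J'.toCotangent x = 0 := (Ideal.toCotangent_eq_zero _ x).2 hx
  have hmem : x ∈ (J' • ⊤ : Submodule R J') := (Submodule.Quotient.mk_eq_zero _).1 h0
  refine Submodule.smul_induction_on hmem ?_ ?_
  · intro r hr n _
    rw [← TensorProduct.smul_tmul, Algebra.smul_def, hJ' r hr, zero_mul,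
      TensorProduct.zero_tmul]
  · intro x y hx hy
    rw [TensorProduct.tmul_add, hx, hy, add_zero]

/-- variant of `conormalMap_injective_of_formallySmooth` with conclusion in `R`. -/
theorem mem_sq_of_formallySmooth (R : Type u) {A C : Type u} [CommRing R]
    [CommRing A] [CommRing C] [Algebra R A] [Algebra A C] [Algebra R C] [IsScalarTower R A C]
    [Algebra.FormallySmooth R A]
    (hAC : Function.Surjective (algebraMap A C)) (hRC : Function.Surjective (algebraMap R C))
    (r : R) (h : algebraMap R A r ∈ RingHom.ker (algebraMap A C))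
    (h0 : (1 : C) ⊗ₜ[A] (⟨algebraMap R A r, h⟩ : RingHom.ker (algebraMap A C)) = 0) :
    r ∈ RingHom.ker (algebraMap R C) ^ 2 := by
  have hr : r ∈ RingHom.ker (algebraMap R C) := by
    rw [RingHom.mem_ker, IsScalarTower.algebraMap_apply R A C]
    exact h
  have h1 := conormalMap_injective_of_formallySmooth R hAC hRC ⟨r, hr⟩ h h0
  exact (one_tmul_eq_zero_iff hRC ⟨r, hr⟩).1 h1

end Groth.Agent.H3.Om
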