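import Mathlib
import Groth.Prelude.Def_Omega3
import Groth.Agent.Lib.Helper3.OmCM7
import Groth.Agent.Lib.Helper3.OmCMRing4

set_option autoImplicit false
universe u
open AlgebraicGeometry CategoryTheory TopologicalSpace Opposite CategoryTheory.Limits TensorProduct
open Groth.Agent.LD.QC

namespace Groth.Agent.H3.Om

/-- injectivity of the conormal map `C_{Z/Y} → C_{Z/X}` on adapted charts when `p` is smooth. -/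
theorem conormalSeq3_chart_inj {Z X Y : Scheme.{u}} (p : X ⟶ Y) [Smooth p] (i : Z ⟶ X) (j : Z ⟶ Y)
    [IsImmersion i] [IsImmersion j] [QuasiCompact i] [QuasiCompact j]
    {ψ : (Scheme.Modules.pullback (𝟙 Z)).obj (Omega.conormal j) ⟶ Omega.conormal i}
    (hψ : OmegaSh.IsConormalMap i j p (𝟙 Z) ψ)
    {W : Y.Opens} {U : X.Opens} (hW : IsAffineOpen W) (hWle : W ≤ j.coborderRange)
    (hU : IsAffineOpen U) (hUle : U ≤ i.coborderRange) (eU : U ≤ p ⁻¹ᵁ W)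
    (hVW : j ⁻¹ᵁ W ≤ i ⁻¹ᵁ U) :
    Function.Injective (ψ.app (i ⁻¹ᵁ U)) := by
  have hgj := isGoodChart_of_le_coborder j hW hWle
  have hgi := isGoodChart_of_le_coborder i hU hUle
  have hV := hgi.preimage_affine
  have eV : i ⁻¹ᵁ U ≤ (𝟙 Z) ⁻¹ᵁ (j ⁻¹ᵁ W) := preimage_le_of_sq' hψ.1 (i.preimage_mono eU)
  letI algRA : Algebra Γ(Y, W) Γ(X, U) := (p.appLE W U eU).hom.toAlgebra
  letI algAC : Algebra Γ(X, U) Γ(Z, i ⁻¹ᵁ U) := (i.appLE U (i ⁻¹ᵁ U) le_rfl).hom.toAlgebra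
  letI algRC' : Algebra Γ(Y, W) Γ(Z, j ⁻¹ᵁ W) := (j.appLE W (j ⁻¹ᵁ W) le_rfl).hom.toAlgebra
  letI algRC : Algebra Γ(Y, W) Γ(Z, i ⁻¹ᵁ U) :=
    (p.appLE W U eU ≫ i.appLE U (i ⁻¹ᵁ U) le_rfl).hom.toAlgebra
  haveI : IsScalarTower Γ(Y, W) Γ(X, U) Γ(Z, i ⁻¹ᵁ U) := IsScalarTower.of_algebraMap_eq' rfl
  haveI : Algebra.FormallySmooth Γ(Y, W) Γ(X, U) := by
    have h1 : (p.appLE W U eU).hom.Smooth :=
      HasRingHomProperty.appLE (P := @Smooth) p inferInstance ⟨W, hW⟩ ⟨U, hU⟩ eU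
    have h2 : Algebra.Smooth Γ(Y, W) Γ(X, U) := h1
    exact h2.formallySmooth
  have hcomm : j.appLE W (j ⁻¹ᵁ W) le_rfl ≫ Scheme.Hom.appLE (𝟙 Z) (j ⁻¹ᵁ W) (i ⁻¹ᵁ U) eV =
      p.appLE W U eU ≫ i.appLE U (i ⁻¹ᵁ U) le_rfl := by
    rw [Scheme.Hom.appLE_comp_appLE, Scheme.Hom.appLE_comp_appLE]
    exact appLE_congr_of_eq hψ.1 _ _ _ _
  obtain ⟨Θ, hΘ⟩ := pullback_conormal_chart j (𝟙 Z) hgj hV eV
    (p.appLE W U eU ≫ i.appLE U (i ⁻¹ᵁ U) le_rfl).hom (congrArg CommRingCat.Hom.hom hcomm.symm)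
  obtain ⟨hsj, hexj, hmemj, -⟩ := conormal_chart_g' j hgj
  obtain ⟨hsi, hexi, hmemi, Ξ, hΞ⟩ := conormal_chart_g' i hgi
  have hres := appLE_id_bijective eV hVW
  have hRC : ∀ r : Γ(Y, W), algebraMap Γ(Y, W) Γ(Z, i ⁻¹ᵁ U) r =
      Scheme.Hom.appLE (𝟙 Z) (j ⁻¹ᵁ W) (i ⁻¹ᵁ U) eV (algebraMap Γ(Y, W) Γ(Z, j ⁻¹ᵁ W) r) :=
    fun r => congr($(hcomm.symm) r)
  have hRCsurj : Function.Surjective (algebraMap Γ(Y, W) Γ(Z, i ⁻¹ᵁ U)) := by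
    intro c
    obtain ⟨c', rfl⟩ := hres.2 c
    obtain ⟨r, rfl⟩ := hsj c'
    exact ⟨r, hRC r⟩
  have hJ : RingHom.ker (algebraMap Γ(Y, W) Γ(Z, j ⁻¹ᵁ W)) =
      RingHom.ker (algebraMap Γ(Y, W) Γ(Z, i ⁻¹ᵁ U)) := by
    ext r
    rw [RingHom.mem_ker, RingHom.mem_ker, hRC]
    constructor
    · intro h; rw [h, map_zero]
    · intro h; exact hres.1 (h.trans (map_zero _).symm)
  have hmemκ : ∀ x' : RingHom.ker (algebraMap Γ(Y, W) Γ(Z, j ⁻¹ᵁ W)),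
      algebraMap Γ(Y, W) Γ(X, U) x' ∈ RingHom.ker (algebraMap Γ(X, U) Γ(Z, i ⁻¹ᵁ U)) := by
    intro x'
    rw [RingHom.mem_ker, ← IsScalarTower.algebraMap_apply Γ(Y, W) Γ(X, U) Γ(Z, i ⁻¹ᵁ U), hRC,
      (RingHom.mem_ker).1 x'.2, map_zero]
  have hFψ : ∀ (c : Γ(Z, i ⁻¹ᵁ U)) (x' : RingHom.ker (algebraMap Γ(Y, W) Γ(Z, j ⁻¹ᵁ W))),
      ψ.app (i ⁻¹ᵁ U) (Θ (c ⊗ₜ x')) = Ξ (c ⊗ₜ ⟨algebraMap Γ(Y, W) Γ(X, U) x', hmemκ x'⟩) := by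
    intro c x'
    obtain ⟨s', hs'⟩ := hexj x'
    obtain ⟨s, hs⟩ := hexi ⟨_, hmemκ x'⟩
    have hs2 : OmegaSh.idealSect i.ker U s = p.appLE W U eU (OmegaSh.idealSect j.ker W s') := by
      rw [hs, hs']; rfl
    rw [hΘ c x' s' hs', Scheme.Modules.Hom.app_smul,
      conormalMap_chart_formula hψ eU eV s' s hs2, hΞ c ⟨_, hmemκ x'⟩ s hs]
  rw [injective_iff_map_eq_zero]
  intro t ht
  obtain ⟨y, rfl⟩ := Θ.surjective t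
  obtain ⟨x', rfl⟩ := exists_one_tmul' hRCsurj y
  rw [hFψ] at ht
  have h0 : (1 : Γ(Z, i ⁻¹ᵁ U)) ⊗ₜ[Γ(X, U)]
      (⟨algebraMap Γ(Y, W) Γ(X, U) x', hmemκ x'⟩ :
        RingHom.ker (algebraMap Γ(X, U) Γ(Z, i ⁻¹ᵁ U))) = 0 :=
    Ξ.injective (ht.trans (map_zero _).symm)
  have h1 := mem_sq_of_formallySmooth Γ(Y, W) hsi hRCsurj (x' : Γ(Y, W)) (hmemκ x') h0
  rw [← hJ] at h1
  rw [one_tmul_eq_zero_of_mem_sq _ (fun x hx => by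
    have hx' : x ∈ RingHom.ker (algebraMap Γ(Y, W) Γ(Z, i ⁻¹ᵁ U)) := by rw [← hJ]; exact hx
    exact hx') x' h1, map_zero]

/-- **S9711**: for smooth `p` the sequence `0 → C_{Z/Y} → C_{Z/X} → i^*Ω_{X/Y} → 0` is short
exact. -/
theorem conormal_diff_shortExact_of_smooth {Z X Y : Scheme.{u}} (p : X ⟶ Y) [Smooth p]
    (i : Z ⟶ X) (j : Z ⟶ Y)
    [IsImmersion i] [IsImmersion j] [QuasiCompact i] [QuasiCompact j] (hij : i ≫ p = j)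
    {Ω : X.Modules} {d : OmegaSh.Der p Ω} (hd : OmegaSh.IsUniversal d)
    {ψ : (Scheme.Modules.pullback (𝟙 Z)).obj (Omega.conormal j) ⟶ Omega.conormal i}
    (hψ : OmegaSh.IsConormalMap i j p (𝟙 Z) ψ)
    {φ : Omega.conormal i ⟶ (Scheme.Modules.pullback i).obj Ω}
    (hφ : OmegaSh.IsConormalDiff i d φ) :
    ∃ w : ψ ≫ φ = 0, (ShortComplex.mk ψ φ w).ShortExact := by
  obtain ⟨w, hex, hepi⟩ := conormal_diff_exact_sequence p i j hij hd hψ hφ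
  refine ⟨w, ?_⟩
  have hmono : Mono ψ := by
    apply Groth.Agent.H3.ZClosCover.mono_of_injective_basis ψ
      {V | ∃ (W : Y.Opens) (U : X.Opens), IsAffineOpen W ∧
        W ≤ j.coborderRange ∧ IsAffineOpen U ∧ U ≤ i.coborderRange ∧ U ≤ p ⁻¹ᵁ W ∧
        j ⁻¹ᵁ W ≤ i ⁻¹ᵁ U ∧ V = i ⁻¹ᵁ U}
    · rw [Opens.isBasis_iff_nbhd]
      intro N z hz
      obtain ⟨W, U, hW, hWle, hU, hUle, eU, hVW, hzU, hUN⟩ :=
        exists_adapted_charts p i j hij z N hz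
      exact ⟨i ⁻¹ᵁ U, ⟨W, U, hW, hWle, hU, hUle, eU, hVW, rfl⟩, hzU, hUN⟩
    · rintro V ⟨W, U, hW, hWle, hU, hUle, eU, hVW, rfl⟩
      exact conormalSeq3_chart_inj p i j hψ hW hWle hU hUle eU hVW
  exact { exact := hex, mono_f := hmono, epi_g := hepi }

end Groth.Agent.H3.Om
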