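import Mathlib
import Groth.Prelude.Def_Omega3
import Groth.Agent.Lib.Helper3.OmSq2

set_option autoImplicit false
universe u
open AlgebraicGeometry CategoryTheory TopologicalSpace Opposite CategoryTheory.Limits TensorProduct

namespace Groth.Agent.H3.Om

/-- If `R₁ → R₂` is formally unramified then `Ω[B/R₁] → Ω[B/R₂]` is bijective. -/
theorem kaehler_map_bijective_of_formallyUnramified (R₁ R₂ B : Type*) [CommRing R₁] [CommRing R₂]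
    [CommRing B] [Algebra R₁ R₂] [Algebra R₁ B] [Algebra R₂ B] [IsScalarTower R₁ R₂ B]
    [Algebra.FormallyUnramified R₁ R₂] :
    Function.Bijective (KaehlerDifferential.map R₁ R₂ B B) := by
  refine ⟨?_, KaehlerDifferential.map_surjective R₁ R₂ B⟩
  rw [injective_iff_map_eq_zero]
  intro x hx
  obtain ⟨y, rfl⟩ := (KaehlerDifferential.exact_mapBaseChange_map R₁ R₂ B x).1 hx
  rw [Subsingleton.elim y 0, map_zero]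

/-- étale square, on charts -/
theorem app_bijective_of_etale {X₁ S₁ X₂ S₂ : Scheme.{u}} {p₁ : X₁ ⟶ S₁} {p₂ : X₂ ⟶ S₂}
    {f : X₂ ⟶ X₁} {g : S₂ ⟶ S₁} [Etale f] [Etale g] (hsq : f ≫ p₁ = p₂ ≫ g)
    {Ω₁ : X₁.Modules} {d₁ : OmegaSh.Der p₁ Ω₁} (hd₁ : OmegaSh.IsUniversal d₁)
    {Ω₂ : X₂.Modules} {d₂ : OmegaSh.Der p₂ Ω₂} (hd₂ : OmegaSh.IsUniversal d₂)
    {c : (Scheme.Modules.pullback f).obj Ω₁ ⟶ Ω₂} (hc : OmegaSh.IsDiffCompat f d₁ d₂ c)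
    {U₁ : X₁.Opens} (hU₁ : IsAffineOpen U₁) {W₁ : S₁.Opens} (hW₁ : IsAffineOpen W₁)
    (e₁ : U₁ ≤ p₁ ⁻¹ᵁ W₁) {U₂ : X₂.Opens} (hU₂ : IsAffineOpen U₂) {W₂ : S₂.Opens}
    (hW₂ : IsAffineOpen W₂) (e₂ : U₂ ≤ p₂ ⁻¹ᵁ W₂) (eh : U₂ ≤ f ⁻¹ᵁ U₁) (eg : W₂ ≤ g ⁻¹ᵁ W₁) :
    Function.Bijective (c.app U₂) := by
  letI := (p₁.appLE W₁ U₁ e₁).hom.toAlgebra
  letI := (p₂.appLE W₂ U₂ e₂).hom.toAlgebra
  letI := (f.appLE U₁ U₂ eh).hom.toAlgebra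
  letI := (g.appLE W₁ W₂ eg).hom.toAlgebra
  letI : Algebra Γ(S₁, W₁) Γ(X₂, U₂) :=
    (p₁.appLE W₁ U₁ e₁ ≫ f.appLE U₁ U₂ eh).hom.toAlgebra
  haveI : IsScalarTower Γ(S₁, W₁) Γ(X₁, U₁) Γ(X₂, U₂) := IsScalarTower.of_algebraMap_eq' rfl
  haveI : IsScalarTower Γ(S₁, W₁) Γ(S₂, W₂) Γ(X₂, U₂) := by
    refine IsScalarTower.of_algebraMap_eq' ?_
    have h1 := Scheme.Hom.appLE_comp_appLE f p₁ W₁ U₁ U₂ e₁ eh
    have h2 := Scheme.Hom.appLE_comp_appLE p₂ g W₁ W₂ U₂ eg e₂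
    have h3 : (f ≫ p₁).appLE W₁ U₂ (fun y hy => e₁ (eh hy)) =
        (p₂ ≫ g).appLE W₁ U₂ (fun y hy => eg (e₂ hy)) := by
      congr 1
    exact congrArg CommRingCat.Hom.hom (h1.trans (h3.trans h2.symm))
  haveI : Algebra.FormallyEtale Γ(X₁, U₁) Γ(X₂, U₂) := by
    have : (f.appLE U₁ U₂ eh).hom.Etale :=
      HasRingHomProperty.appLE (P := @Etale) f inferInstance ⟨U₁, hU₁⟩ ⟨U₂, hU₂⟩ eh
    exact this.toAlgebra.formallyEtale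
  haveI : Algebra.FormallyUnramified Γ(S₁, W₁) Γ(S₂, W₂) := by
    have : (g.appLE W₁ W₂ eg).hom.Etale :=
      HasRingHomProperty.appLE (P := @Etale) g inferInstance ⟨W₁, hW₁⟩ ⟨W₂, hW₂⟩ eg
    haveI := this.toAlgebra.formallyEtale
    infer_instance
  refine sq_app_bijective hd₁ hd₂ hc hU₁ hW₁ e₁ hU₂ hW₂ e₂ eh
    ((KaehlerDifferential.map Γ(S₁, W₁) Γ(S₂, W₂) Γ(X₂, U₂) Γ(X₂, U₂)) ∘ₗ
      (KaehlerDifferential.tensorKaehlerEquivOfFormallyEtale Γ(S₁, W₁) Γ(X₁, U₁)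
        Γ(X₂, U₂)).toLinearMap) (fun s => ?_)
    ((kaehler_map_bijective_of_formallyUnramified Γ(S₁, W₁) Γ(S₂, W₂) Γ(X₂, U₂)).comp
      (KaehlerDifferential.tensorKaehlerEquivOfFormallyEtale Γ(S₁, W₁) Γ(X₁, U₁)
        Γ(X₂, U₂)).bijective)
  rw [LinearMap.comp_apply, LinearEquiv.coe_coe,
    KaehlerDifferential.tensorKaehlerEquivOfFormallyEtale_apply,
    KaehlerDifferential.mapBaseChange_tmul, one_smul, KaehlerDifferential.map_D,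
    KaehlerDifferential.map_D]
  rfl

end Groth.Agent.H3.Om

namespace Groth.Agent.H3.Om

/-- S9776: étale squares induce isomorphisms on differentials -/
theorem isIso_diffCompat_of_etale {X₁ S₁ X₂ S₂ : Scheme.{u}} {p₁ : X₁ ⟶ S₁} {p₂ : X₂ ⟶ S₂}
    {f : X₂ ⟶ X₁} {g : S₂ ⟶ S₁} [Etale f] [Etale g] (hsq : f ≫ p₁ = p₂ ≫ g)
    {Ω₁ : X₁.Modules} {d₁ : OmegaSh.Der p₁ Ω₁} (hd₁ : OmegaSh.IsUniversal d₁)
    {Ω₂ : X₂.Modules} {d₂ : OmegaSh.Der p₂ Ω₂} (hd₂ : OmegaSh.IsUniversal d₂)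
    {c : (Scheme.Modules.pullback f).obj Ω₁ ⟶ Ω₂} (hc : OmegaSh.IsDiffCompat f d₁ d₂ c) :
    IsIso c := by
  haveI := isQuasicoherent_of_isUniversal hd₁
  haveI := isQuasicoherent_of_isUniversal hd₂
  haveI : ((Scheme.Modules.pullback f).obj Ω₁).IsQuasicoherent :=
    Groth.Agent.LD.QC.qc_pullback f Ω₁
  apply isIso_of_bijective_affine_cover
  intro x
  obtain ⟨_, ⟨W₁, hW₁ : IsAffineOpen W₁, rfl⟩, hxW₁, -⟩ :=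
    S₁.isBasis_affineOpens.exists_subset_of_mem_open (Set.mem_univ (p₁ (f x))) isOpen_univ
  obtain ⟨_, ⟨U₁, hU₁ : IsAffineOpen U₁, rfl⟩, hxU₁, hUW₁⟩ :=
    X₁.isBasis_affineOpens.exists_subset_of_mem_open
      (show f x ∈ ((p₁ ⁻¹ᵁ W₁ : X₁.Opens) : Set X₁) from hxW₁) (p₁ ⁻¹ᵁ W₁).2
  have hx2 : g (p₂ x) ∈ W₁ := by
    have := congrArg (fun φ : X₂ ⟶ S₁ => φ x) hsq
    simp only [Scheme.Hom.comp_apply] at this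
    rw [← this]; exact hxW₁
  obtain ⟨_, ⟨W₂, hW₂ : IsAffineOpen W₂, rfl⟩, hxW₂, hWW⟩ :=
    S₂.isBasis_affineOpens.exists_subset_of_mem_open
      (show p₂ x ∈ ((g ⁻¹ᵁ W₁ : S₂.Opens) : Set S₂) from hx2) (g ⁻¹ᵁ W₁).2
  obtain ⟨_, ⟨U₂, hU₂ : IsAffineOpen U₂, rfl⟩, hxU₂, hU₂'⟩ :=
    X₂.isBasis_affineOpens.exists_subset_of_mem_open
      (show x ∈ ((f ⁻¹ᵁ U₁ ⊓ p₂ ⁻¹ᵁ W₂ : X₂.Opens) : Set X₂) from ⟨hxU₁, hxW₂⟩)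
      (f ⁻¹ᵁ U₁ ⊓ p₂ ⁻¹ᵁ W₂).2
  exact ⟨U₂, hU₂, hxU₂, app_bijective_of_etale hsq hd₁ hd₂ hc hU₁ hW₁ hUW₁ hU₂ hW₂
    (fun y hy => (hU₂' hy).2) (fun y hy => (hU₂' hy).1) hWW⟩

end Groth.Agent.H3.Om
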