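import Mathlib
import Groth.Agent.Lib.Helper3.CA.KaehlerReg

/-! Helper3: a lower bound for the dimension of the fibre of relative differentials at a rational
point, in terms of the dimension of a closed subscheme of the fibre through the point (algebra). -/

set_option autoImplicit false
universe u
open IsLocalRing TensorProduct KaehlerDifferential

namespace Groth.Agent.H3.OmFiber

section Der

variable {k A T S N : Type*} [CommRing k] [CommRing A] [CommRing T] [CommRing S]
  [Algebra k S] [Algebra A T] [Algebra T S] [Algebra A S] [IsScalarTower A T S]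
  [AddCommGroup N] [Module S N] [Module k N] [IsScalarTower k S N] [Module T N]
  [IsScalarTower T S N] [Module A N] [IsScalarTower A T N]

/-- restrict a `k`-derivation of `S` to an `A`-derivation of `T`, when `A` maps into the image of
`k` in `S`. -/
noncomputable def restrictDer (d : Derivation k S N)
    (hA : ∀ a : A, ∃ c : k, algebraMap A S a = algebraMap k S c) : Derivation A T N where
  toFun t := d (algebraMap T S t)
  map_add' x y := by rw [map_add, map_add]
  map_smul' a t := by
    obtain ⟨c, hc⟩ := hA a
    simp only [RingHom.id_apply]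
    rw [Algebra.smul_def, map_mul, ← IsScalarTower.algebraMap_apply A T S, hc, ← Algebra.smul_def,
      d.map_smul, ← algebraMap_smul T a (d _), ← algebraMap_smul S (algebraMap A T a) (d _),
      ← IsScalarTower.algebraMap_apply A T S, hc, algebraMap_smul]
  map_one_eq_zero' := by
    show d (algebraMap T S 1) = 0
    rw [map_one, d.map_one_eq_zero]
  leibniz' x y := by
    show d (algebraMap T S (x * y)) = x • d (algebraMap T S y) + y • d (algebraMap T S x)
    rw [map_mul, d.leibniz, algebraMap_smul, algebraMap_smul]

@[simp] theorem restrictDer_apply (d : Derivation k S N)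
    (hA : ∀ a : A, ∃ c : k, algebraMap A S a = algebraMap k S c) (t : T) :
    restrictDer (T := T) d hA t = d (algebraMap T S t) := rfl

end Der


section Main

variable {k A T S : Type u} [Field k] [CommRing A] [CommRing T] [IsLocalRing T] [CommRing S]
  [IsLocalRing S] [IsNoetherianRing S]
  [Algebra k T] [Algebra A T] [Algebra k S] [Algebra T S] [IsScalarTower k T S] [Algebra A S]
  [IsScalarTower A T S]

omit [IsNoetherianRing S] in
/-- the maximal ideal kills `κ(S) ⊗ M`. -/
theorem smul_residueField_tensor_eq_zero {M : Type u} [AddCommGroup M] [Module S M] (s : S)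
    (hs : s ∈ maximalIdeal S) (n : ResidueField S ⊗[S] M) : s • n = 0 := by
  induction n using TensorProduct.induction_on with
  | zero => rw [smul_zero]
  | tmul x m =>
    rw [TensorProduct.smul_tmul', Algebra.smul_def]
    have : algebraMap S (ResidueField S) s = 0 := (residue_eq_zero_iff s).mpr hs
    rw [this, zero_mul, zero_tmul]
  | add a b ha hb => rw [smul_add, ha, hb, add_zero]

/-- the fibre `M / m M` is killed by the maximal ideal. -/
theorem smul_quotient_eq_zero {M : Type u} [AddCommGroup M] [Module T M] (t : T)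
    (ht : t ∈ maximalIdeal T) (q : M ⧸ (maximalIdeal T • ⊤ : Submodule T M)) : t • q = 0 := by
  obtain ⟨m, rfl⟩ := Submodule.Quotient.mk_surjective _ q
  rw [← Submodule.Quotient.mk_smul, Submodule.Quotient.mk_eq_zero]
  exact Submodule.smul_mem_smul ht Submodule.mem_top

/-- the fibre of a finite module at a rational point is finite over the ground field. -/
theorem finite_quotient {M : Type u} [AddCommGroup M] [Module T M] [Module.Finite T M]
    [Module k M] [IsScalarTower k T M]
    (hresT : ∀ t : T, ∃ c : k, t - algebraMap k T c ∈ maximalIdeal T) :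
    Module.Finite k (M ⧸ (maximalIdeal T • ⊤ : Submodule T M)) := by
  obtain ⟨s, hs⟩ := (Module.Finite.fg_top :
    (⊤ : Submodule T (M ⧸ (maximalIdeal T • ⊤ : Submodule T M))).FG)
  refine ⟨⟨s, ?_⟩⟩
  rw [eq_top_iff]
  rintro q -
  have hq : q ∈ Submodule.span T (s : Set (M ⧸ (maximalIdeal T • ⊤ : Submodule T M))) := by
    rw [hs]; trivial
  induction hq using Submodule.span_induction with
  | mem x hx => exact Submodule.subset_span hx
  | zero => exact Submodule.zero_mem _
  | add x y _ _ hx hy => exact Submodule.add_mem _ hx hy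
  | smul t x _ hx =>
    obtain ⟨c, hc⟩ := hresT t
    have h1 : t • x = c • x := by
      have h2 := smul_quotient_eq_zero (t - algebraMap k T c) hc x
      rw [sub_smul, sub_eq_zero, algebraMap_smul] at h2
      exact h2
    rw [h1]
    exact Submodule.smul_mem _ c hx

/-- **lower bound for the fibre of the relative differentials.** -/
theorem le_finrank_fibre_kaehler
    (hπ : Function.Surjective (algebraMap T S))
    (hresT : ∀ t : T, ∃ c : k, t - algebraMap k T c ∈ maximalIdeal T)
    (hA : ∀ a : A, ∃ c : k, algebraMap A S a = algebraMap k S c)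
    [Module.Finite T Ω[T⁄A]]
    (r : ℕ) (hr : (r : WithBot ℕ∞) ≤ ringKrullDim S) :
    r ≤ Module.finrank k (Ω[T⁄A] ⧸ (maximalIdeal T • ⊤ : Submodule T Ω[T⁄A])) := by
  haveI hloc : IsLocalHom (algebraMap T S) := hπ.isLocalHom
  -- residue field of `S`
  have hres : Function.Bijective (algebraMap k (ResidueField S)) := by
    refine ⟨RingHom.injective _, fun x => ?_⟩
    obtain ⟨s, rfl⟩ := IsLocalRing.residue_surjective x
    obtain ⟨t, rfl⟩ := hπ s
    obtain ⟨c, hc⟩ := hresT t
    refine ⟨c, ?_⟩
    rw [IsScalarTower.algebraMap_apply k S (ResidueField S),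
      IsScalarTower.algebraMap_apply k T S]
    symm
    rw [← sub_eq_zero]
    change residue S _ - residue S _ = 0
    rw [← map_sub, ← map_sub, residue_eq_zero_iff]
    by_contra hnot
    have hu : IsUnit (algebraMap T S (t - algebraMap k T c)) :=
      IsLocalRing.notMem_maximalIdeal.mp hnot
    exact (IsLocalRing.notMem_maximalIdeal.mpr ((isUnit_map_iff (algebraMap T S) _).mp hu)) hc
  -- the derivation and the induced map
  let d₀ : Derivation k S (ResidueField S ⊗[S] Ω[S⁄k]) :=
    (TensorProduct.mk S (ResidueField S) Ω[S⁄k] 1).compDer (D k S)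
  let δ : Derivation A T (ResidueField S ⊗[S] Ω[S⁄k]) := restrictDer (T := T) d₀ hA
  let g : Ω[T⁄A] →ₗ[T] ResidueField S ⊗[S] Ω[S⁄k] := δ.liftKaehlerDifferential
  have hgD : ∀ t : T, g (D A T t) = (1 : ResidueField S) ⊗ₜ[S] D k S (algebraMap T S t) := by
    intro t
    exact δ.liftKaehlerDifferential_comp_D t
  -- surjectivity
  have hmem1 : ∀ ω : Ω[S⁄k], (1 : ResidueField S) ⊗ₜ[S] ω ∈ LinearMap.range g := by
    intro ω
    have hω : ω ∈ Submodule.span S (Set.range (D k S)) := by
      rw [KaehlerDifferential.span_range_derivation]; trivial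
    induction hω using Submodule.span_induction with
    | mem x hx =>
      obtain ⟨s, rfl⟩ := hx
      obtain ⟨t, rfl⟩ := hπ s
      exact ⟨D A T t, hgD t⟩
    | zero => rw [tmul_zero]; exact Submodule.zero_mem _
    | add x y _ _ hx hy => rw [tmul_add]; exact Submodule.add_mem _ hx hy
    | smul s x _ hx =>
      obtain ⟨t, rfl⟩ := hπ s
      rw [tmul_smul, algebraMap_smul]
      exact Submodule.smul_mem _ t hx
  have hsurj : Function.Surjective g := by
    intro n
    induction n using TensorProduct.induction_on with
    | zero => exact ⟨0, map_zero _⟩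
    | tmul x ω =>
      obtain ⟨s, rfl⟩ := IsLocalRing.residue_surjective x
      obtain ⟨t, rfl⟩ := hπ s
      have h1 : (residue S (algebraMap T S t)) ⊗ₜ[S] ω =
          t • ((1 : ResidueField S) ⊗ₜ[S] ω) := by
        rw [TensorProduct.smul_tmul', ← algebraMap_smul S t (1 : ResidueField S),
          Algebra.smul_def, mul_one]
        rfl
      rw [h1]
      exact Submodule.smul_mem (LinearMap.range g) t (hmem1 ω)
    | add a b ha hb =>
      obtain ⟨a', rfl⟩ := ha
      obtain ⟨b', rfl⟩ := hb
      exact ⟨a' + b', map_add _ _ _⟩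
  -- factor through the fibre
  have hker : (maximalIdeal T • ⊤ : Submodule T Ω[T⁄A]) ≤ LinearMap.ker g := by
    rw [Submodule.smul_le]
    intro t ht ω _
    rw [LinearMap.mem_ker, map_smul, ← algebraMap_smul S t (g ω)]
    apply smul_residueField_tensor_eq_zero
    by_contra hnot
    have hu : IsUnit (algebraMap T S t) := IsLocalRing.notMem_maximalIdeal.mp hnot
    exact (IsLocalRing.notMem_maximalIdeal.mpr ((isUnit_map_iff (algebraMap T S) _).mp hu)) ht
  let gbar : (Ω[T⁄A] ⧸ (maximalIdeal T • ⊤ : Submodule T Ω[T⁄A])) →ₗ[T]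
      ResidueField S ⊗[S] Ω[S⁄k] := (maximalIdeal T • ⊤ : Submodule T Ω[T⁄A]).liftQ g hker
  have hgbar : Function.Surjective gbar := by
    intro n
    obtain ⟨ω, rfl⟩ := hsurj n
    exact ⟨Submodule.Quotient.mk ω, rfl⟩
  haveI := finite_quotient (k := k) (T := T) (M := Ω[T⁄A]) hresT
  have h1 : Module.finrank k (ResidueField S ⊗[S] Ω[S⁄k]) ≤
      Module.finrank k (Ω[T⁄A] ⧸ (maximalIdeal T • ⊤ : Submodule T Ω[T⁄A])) :=
    LinearMap.finrank_le_finrank_of_surjective (f := gbar.restrictScalars k) hgbar
  -- compare with the cotangent space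
  have h2 : Module.finrank k (ResidueField S ⊗[S] Ω[S⁄k]) =
      Module.finrank (ResidueField S) (ResidueField S ⊗[S] Ω[S⁄k]) := by
    have := rank_eq_of_equiv_equiv (algebraMap k (ResidueField S))
      (AddEquiv.refl (ResidueField S ⊗[S] Ω[S⁄k])) hres
      (fun c n => (algebraMap_smul (ResidueField S) c n).symm)
    unfold Module.finrank
    rw [this]
  have h3 := (Groth.Agent.H3.KReg.cotangentSpaceEquiv k S hres).finrank_eq
  have h4 : ringKrullDim S ≤ (Module.finrank (ResidueField S) (CotangentSpace S) : WithBot ℕ∞) := by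
    rw [← IsLocalRing.spanFinrank_maximalIdeal_eq_finrank_cotangentSpace]
    exact ringKrullDim_le_spanFinrank_maximalIdeal S
  have h5 : (r : WithBot ℕ∞) ≤ (Module.finrank (ResidueField S) (CotangentSpace S) : WithBot ℕ∞) :=
    hr.trans h4
  have h6 : r ≤ Module.finrank (ResidueField S) (CotangentSpace S) := by exact_mod_cast h5
  omega

end Main

end Groth.Agent.H3.OmFiber
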