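import Mathlib
import Groth.Prelude.Def_FixPt
import Groth.Agent.Lib.Helper3.OmFiberAlg
import Groth.Agent.Lib.Helper3.CotSmOm
import Groth.Agent.Lib.Helper8.RedImm
import Groth.Agent.Lib.Helper1.SmoothReg2

/-! Helper3: a lower bound for the dimension of the fibre of `Ω_{X/Y}` at a closed point in terms
of the dimension of an irreducible closed subset of the fibre of `f` through it. -/

set_option autoImplicit false
universe u
open AlgebraicGeometry CategoryTheory CategoryTheory.Limits IsLocalRing TensorProduct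

namespace Groth.Agent.H3.OmFiber

open Groth.Agent.H3.Om Groth.Agent.LD.QC

/-- the stalk of `Ω_{X/Y}` at a point of a chart is the module of differentials of the local ring
over the sections of the chart of the base. -/
theorem exists_stalk_linearEquiv {X Y : Scheme.{u}} (f : X ⟶ Y) [QuasiSeparated f]
    {U : X.Opens} (hU : IsAffineOpen U) {V : Y.Opens} (hV : IsAffineOpen V) (e : U ≤ f ⁻¹ᵁ V)
    (x : X) (hxU : x ∈ U) :
    letI : Algebra Γ(Y, V) (X.presheaf.stalk x) :=
      ((X.presheaf.germ U x hxU).hom.comp (f.appLE V U e).hom).toAlgebra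
    Nonempty (Ω[X.presheaf.stalk x⁄Γ(Y, V)] ≃ₗ[X.presheaf.stalk x]
      (Omega.sheaf f).presheaf.stalk x) := by
  letI algAB : Algebra Γ(Y, V) Γ(X, U) := (f.appLE V U e).hom.toAlgebra
  letI algBT : Algebra Γ(X, U) (X.presheaf.stalk x) :=
    TopCat.Presheaf.algebra_section_stalk X.presheaf ⟨x, hxU⟩
  letI algAT : Algebra Γ(Y, V) (X.presheaf.stalk x) :=
    ((X.presheaf.germ U x hxU).hom.comp (f.appLE V U e).hom).toAlgebra
  haveI tw1 : IsScalarTower Γ(Y, V) Γ(X, U) (X.presheaf.stalk x) :=
    IsScalarTower.of_algebraMap_eq' rfl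
  haveI locT := hU.isLocalization_stalk ⟨x, hxU⟩
  obtain ⟨ε, -⟩ := exists_linearEquiv_kaehler f hU hV e
  letI modB := stalkΓModule (Omega.sheaf f) x U hxU
  haveI locM := isLocalizedModule_germ (Omega.sheaf f) hU x hxU
  haveI tw2 : IsScalarTower Γ(X, U) (X.presheaf.stalk x) ((Omega.sheaf f).presheaf.stalk x) :=
    ⟨fun b t m => by
      rw [Algebra.smul_def, mul_smul]
      rfl⟩
  haveI locM2 : IsLocalizedModule (hU.primeIdealOf ⟨x, hxU⟩).asIdeal.primeCompl
      ((germLinear (Omega.sheaf f) x U hxU).comp ε.toLinearMap) :=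
    IsLocalizedModule.of_linearEquiv_right _ _ ε
  let E0 : Ω[X.presheaf.stalk x⁄Γ(Y, V)] ≃ₗ[Γ(X, U)] (Omega.sheaf f).presheaf.stalk x :=
    IsLocalizedModule.linearEquiv (hU.primeIdealOf ⟨x, hxU⟩).asIdeal.primeCompl
      (KaehlerDifferential.map Γ(Y, V) Γ(Y, V) Γ(X, U) (X.presheaf.stalk x))
      ((germLinear (Omega.sheaf f) x U hxU).comp ε.toLinearMap)
  exact ⟨LinearEquiv.extendScalarsOfIsLocalization
    (hU.primeIdealOf ⟨x, hxU⟩).asIdeal.primeCompl (X.presheaf.stalk x) E0⟩


/-- transfer of the dimension of the fibre along a linear equivalence. -/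
theorem finrank_quotient_eq_of_linearEquiv {k T N M : Type u} [Field k] [CommRing T]
    [IsLocalRing T] [Algebra k T] [AddCommGroup N] [Module T N] [Module k N] [IsScalarTower k T N]
    [AddCommGroup M] [Module T M] (E : N ≃ₗ[T] M) :
    letI : Module k (M ⧸ (maximalIdeal T • ⊤ : Submodule T M)) :=
      Module.compHom _ (algebraMap k T)
    Module.finrank k (N ⧸ (maximalIdeal T • ⊤ : Submodule T N)) =
      Module.finrank k (M ⧸ (maximalIdeal T • ⊤ : Submodule T M)) := by
  letI : Module k (M ⧸ (maximalIdeal T • ⊤ : Submodule T M)) :=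
    Module.compHom _ (algebraMap k T)
  have hmap : (maximalIdeal T • ⊤ : Submodule T N).map (E : N →ₗ[T] M) =
      (maximalIdeal T • ⊤ : Submodule T M) := by
    rw [Submodule.map_smul'', Submodule.map_top, LinearEquiv.range]
  let Q : (N ⧸ (maximalIdeal T • ⊤ : Submodule T N)) ≃ₗ[T]
      (M ⧸ (maximalIdeal T • ⊤ : Submodule T M)) := Submodule.Quotient.equiv _ _ E hmap
  have h := rank_eq_of_equiv_equiv (R := k) (R' := k) (fun c => c) Q.toAddEquiv
    Function.bijective_id (fun c q => by
      change Q (c • q) = algebraMap k T c • Q q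
      rw [← algebraMap_smul T c q, map_smul])
  unfold Module.finrank
  rw [h]

open Groth.Agent.H1.SmoothReg

/-- the reduced induced structure on a closed subset (copy of `KleimanF`, lighter imports). -/
theorem exists_reduced_closedImmersion' {X : Scheme.{u}} (Z : Set X) (hZ : IsClosed Z) :
    ∃ (Y : Scheme.{u}) (i : Y ⟶ X), IsClosedImmersion i ∧ IsReduced Y ∧ Set.range i = Z := by
  let C : TopologicalSpace.Closeds X := ⟨Z, hZ⟩
  refine ⟨(Scheme.IdealSheafData.vanishingIdeal C).subscheme,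
    (Scheme.IdealSheafData.vanishingIdeal C).subschemeι, inferInstance,
    Groth.Agent.H8.RedImm.isReduced_subscheme_vanishingIdeal C, ?_⟩
  rw [Scheme.IdealSheafData.range_subschemeι, Scheme.IdealSheafData.coe_support_vanishingIdeal]
  rfl

/-- a scheme mapping homeomorphically onto an irreducible subset is irreducible of the same
dimension (copy of `KleimanF`). -/
theorem irreducibleSpace_and_dim_of_range' {Y X : Scheme.{u}} (i : Y ⟶ X) [IsClosedImmersion i]
    (Z : Set X) (hr : Set.range i = Z) (hZ : IsIrreducible Z) :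
    IrreducibleSpace Y ∧ topologicalKrullDim Y = topologicalKrullDim ↥Z := by
  have hemb : Topology.IsEmbedding i := i.isClosedEmbedding.isEmbedding
  let φ : Y ≃ₜ ↥Z := hemb.toHomeomorph.trans (Homeomorph.setCongr hr)
  haveI : IrreducibleSpace ↥Z := Subtype.irreducibleSpace hZ
  exact ⟨φ.irreducibleSpace_iff.mpr inferInstance,
    IsHomeomorph.topologicalKrullDim_eq _ φ.isHomeomorph⟩

/-- the residue field at a rational point (image of a section) is the base field (copy of
`GrpSmoothE`). -/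
theorem resMap_surjective_of_section' {K : Type u} [Field K] {X : Scheme.{u}}
    (f : X ⟶ Spec (CommRingCat.of K)) (σ : Spec (CommRingCat.of K) ⟶ X) (hσ : σ ≫ f = 𝟙 _)
    (t : Spec (CommRingCat.of K)) :
    Function.Surjective ((X.residue (σ t)).hom.comp (stalkMapK f (σ t))) := by
  intro z
  obtain ⟨s, rfl⟩ := X.residue_surjective (σ t) z
  obtain ⟨c, hc⟩ := (baseMapK_bijective K t).2 ((σ.stalkMap t).hom s)
  refine ⟨c, ?_⟩
  have key : (σ.stalkMap t).hom (stalkMapK f (σ t) c) = baseMapK K t c := by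
    have h := Scheme.Hom.germ_stalkMap σ ⊤ t trivial
    have h2 := congr($(h).hom (f.appTop.hom ((Scheme.ΓSpecIso (CommRingCat.of K)).inv.hom c)))
    have h3 : σ.appTop.hom (f.appTop.hom ((Scheme.ΓSpecIso (CommRingCat.of K)).inv.hom c)) =
        (Scheme.ΓSpecIso (CommRingCat.of K)).inv.hom c := by
      have h4 : f.appTop ≫ σ.appTop = 𝟙 _ := by
        rw [← Scheme.Hom.comp_appTop, hσ, Scheme.Hom.id_appTop]
      exact congr($(h4).hom ((Scheme.ΓSpecIso (CommRingCat.of K)).inv.hom c))
    refine h2.trans ?_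
    show ((Spec (CommRingCat.of K)).presheaf.germ _ t _).hom
      (σ.appTop.hom (f.appTop.hom ((Scheme.ΓSpecIso (CommRingCat.of K)).inv.hom c))) = _
    rw [h3]
    rfl
  have hker : (σ.stalkMap t).hom (s - stalkMapK f (σ t) c) = 0 := by
    rw [map_sub, key, hc, sub_self]
  have hnu : ¬ IsUnit (s - stalkMapK f (σ t) c) := fun hu => by
    have h5 := hu.map (σ.stalkMap t).hom
    rw [hker] at h5
    exact not_isUnit_zero h5
  have h6 : IsLocalRing.residue (X.presheaf.stalk (σ t)) (s - stalkMapK f (σ t) c) = 0 :=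
    (IsLocalRing.residue_eq_zero_iff _).mpr ((IsLocalRing.mem_maximalIdeal _).mpr hnu)
  rw [map_sub, sub_eq_zero] at h6
  exact h6.symm

/-- at a closed point of a scheme locally of finite type over an algebraically closed field,
every element of the local ring is a constant modulo the maximal ideal. -/
theorem exists_sub_mem_of_isClosed (k : Type u) [Field k] [IsAlgClosed k] {X : Scheme.{u}}
    (qX : X ⟶ Spec (CommRingCat.of k)) [LocallyOfFiniteType qX] (x : X)
    (hx : IsClosed ({x} : Set X)) (t : X.presheaf.stalk x) :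
    ∃ c : k, t - stalkMapK qX x c ∈ maximalIdeal (X.presheaf.stalk x) := by
  obtain ⟨s, hs, hpt⟩ : ∃ s : Spec (CommRingCat.of k) ⟶ X,
      s ≫ qX = 𝟙 _ ∧ s (closedPoint k) = x :=
    ⟨_, pointOfClosedPoint_comp qX x hx, pointOfClosedPoint_apply qX x hx _⟩
  subst hpt
  obtain ⟨c, hc⟩ := resMap_surjective_of_section' qX s hs
    (closedPoint k) ((X.residue (s (closedPoint k))).hom t)
  refine ⟨c, ?_⟩
  have h1 : IsLocalRing.residue (X.presheaf.stalk (s (closedPoint k)))
      (t - stalkMapK qX (s (closedPoint k)) c) = 0 := by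
    rw [map_sub, sub_eq_zero]
    exact hc.symm
  exact (IsLocalRing.residue_eq_zero_iff _).mp h1

/-- compatibility of the structure maps from the base field with a morphism over the base. -/
theorem germ_appLE_toGlobal {k : Type u} [Field k] {X Y : Scheme.{u}}
    (qX : X ⟶ Spec (CommRingCat.of k)) (qY : Y ⟶ Spec (CommRingCat.of k)) (f : X ⟶ Y)
    (hf : f ≫ qY = qX) {U : X.Opens} {V : Y.Opens} (e : U ≤ f ⁻¹ᵁ V) (x : X) (hxU : x ∈ U)
    (c : k) :
    X.presheaf.germ U x hxU ((f.appLE V U e).hom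
      ((Y.presheaf.map (homOfLE (le_top : V ≤ ⊤)).op).hom (Coh.toGlobal qY c))) =
      stalkMapK qX x c := by
  subst hf
  have h1 : Y.presheaf.map (homOfLE (le_top : V ≤ ⊤)).op ≫ f.appLE V U e =
      f.appLE ⊤ U le_top := Scheme.Hom.map_appLE f e _
  have h2 : f.appLE ⊤ U le_top = f.appTop ≫ X.presheaf.map (homOfLE (le_top : U ≤ ⊤)).op := rfl
  have h3 : (f.appLE V U e).hom
      ((Y.presheaf.map (homOfLE (le_top : V ≤ ⊤)).op).hom (Coh.toGlobal qY c)) =
      (X.presheaf.map (homOfLE (le_top : U ≤ ⊤)).op).hom (f.appTop.hom (Coh.toGlobal qY c)) := by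
    have := congr($(h1).hom (Coh.toGlobal qY c))
    rw [h2] at this
    exact this
  rw [h3]
  have h4 : f.appTop.hom (Coh.toGlobal qY c) = Coh.toGlobal (f ≫ qY) c := by
    unfold Coh.toGlobal
    rw [Scheme.Hom.comp_appTop]
    rfl
  rw [h4]
  exact TopCat.Presheaf.germ_res_apply X.presheaf (homOfLE (le_top : U ≤ ⊤)) x hxU _


/-- **the fibre of `Ω_{X/Y}` at a closed point has dimension at least the dimension of any
irreducible closed subset of the fibre of `f` through the point.** -/
theorem main (k : Type u) [Field k] [IsAlgClosed k] {X Y : Scheme.{u}}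
    (qX : X ⟶ Spec (CommRingCat.of k)) (qY : Y ⟶ Spec (CommRingCat.of k))
    [LocallyOfFiniteType qX] [LocallyOfFiniteType qY]
    (f : X ⟶ Y) (hf : f ≫ qY = qX)
    (x : X) (hx : IsClosed ({x} : Set X)) (Z : Set X) (hZ : IsIrreducible Z) (hZc : IsClosed Z)
    (hxZ : x ∈ Z) (hZf : Z ⊆ f ⁻¹' {f x}) (r : ℕ)
    (hr : topologicalKrullDim ↥Z = (r : WithBot ℕ∞)) :
    letI : Module k (FixPt.fiber (Omega.sheaf f) x) := Module.compHom _ (stalkMapK qX x)
    r ≤ Module.finrank k (FixPt.fiber (Omega.sheaf f) x) := by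
  haveI : IsLocallyNoetherian X := LocallyOfFiniteType.isLocallyNoetherian qX
  haveI : QuasiSeparated f := QuasiSeparated.of_quasiSeparatedSpace f
  -- the reduced subscheme
  obtain ⟨W, j, hj, hWred, hrange⟩ :=
    exists_reduced_closedImmersion' Z hZc
  obtain ⟨hWirr, hWdim⟩ :=
    irreducibleSpace_and_dim_of_range' j Z hrange hZ
  obtain ⟨w, rfl⟩ : ∃ w, j w = x := by rw [← hrange] at hxZ; exact hxZ
  obtain ⟨U, V, hU, hV, hxU, hUV⟩ := exists_chart f (j w)
  haveI : LocallyOfFiniteType (j ≫ qX) := inferInstance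
  haveI : IsLocallyNoetherian W := LocallyOfFiniteType.isLocallyNoetherian (j ≫ qX)
  -- the algebra structures
  letI algkT : Algebra k (X.presheaf.stalk (j w)) := (stalkMapK qX (j w)).toAlgebra
  letI algAB : Algebra Γ(Y, V) Γ(X, U) := (f.appLE V U hUV).hom.toAlgebra
  letI algBT : Algebra Γ(X, U) (X.presheaf.stalk (j w)) :=
    TopCat.Presheaf.algebra_section_stalk X.presheaf ⟨j w, hxU⟩
  letI algAT : Algebra Γ(Y, V) (X.presheaf.stalk (j w)) :=
    ((X.presheaf.germ U (j w) hxU).hom.comp (f.appLE V U hUV).hom).toAlgebra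
  haveI tw0 : IsScalarTower Γ(Y, V) Γ(X, U) (X.presheaf.stalk (j w)) :=
    IsScalarTower.of_algebraMap_eq' rfl
  letI algTS : Algebra (X.presheaf.stalk (j w)) (W.presheaf.stalk w) :=
    (j.stalkMap w).hom.toAlgebra
  letI algkS : Algebra k (W.presheaf.stalk w) :=
    ((algebraMap (X.presheaf.stalk (j w)) (W.presheaf.stalk w)).comp
      (algebraMap k (X.presheaf.stalk (j w)))).toAlgebra
  letI algAS : Algebra Γ(Y, V) (W.presheaf.stalk w) :=
    ((algebraMap (X.presheaf.stalk (j w)) (W.presheaf.stalk w)).comp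
      (algebraMap Γ(Y, V) (X.presheaf.stalk (j w)))).toAlgebra
  haveI tw1 : IsScalarTower k (X.presheaf.stalk (j w)) (W.presheaf.stalk w) :=
    IsScalarTower.of_algebraMap_eq' rfl
  haveI tw2 : IsScalarTower Γ(Y, V) (X.presheaf.stalk (j w)) (W.presheaf.stalk w) :=
    IsScalarTower.of_algebraMap_eq' rfl
  have hπ : Function.Surjective (algebraMap (X.presheaf.stalk (j w)) (W.presheaf.stalk w)) :=
    j.stalkMap_surjective w
  have hresT : ∀ t : X.presheaf.stalk (j w), ∃ c : k,
      t - algebraMap k (X.presheaf.stalk (j w)) c ∈ maximalIdeal (X.presheaf.stalk (j w)) :=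
    exists_sub_mem_of_isClosed k qX (j w) hx
  -- finiteness
  haveI locT := hU.isLocalization_stalk ⟨j w, hxU⟩
  have hft : RingHom.FiniteType (f.appLE V U hUV).hom := by
    haveI : LocallyOfFiniteType f := by
      haveI : LocallyOfFiniteType (f ≫ qY) := by rw [hf]; infer_instance
      exact locallyOfFiniteType_of_comp f qY
    exact HasRingHomProperty.appLE @LocallyOfFiniteType f inferInstance ⟨V, hV⟩ ⟨U, hU⟩ hUV
  haveI : Algebra.FiniteType Γ(Y, V) Γ(X, U) := hft
  haveI : Algebra.EssFiniteType Γ(X, U) (X.presheaf.stalk (j w)) :=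
    Algebra.EssFiniteType.of_isLocalization _ (hU.primeIdealOf ⟨j w, hxU⟩).asIdeal.primeCompl
  haveI : Algebra.EssFiniteType Γ(Y, V) (X.presheaf.stalk (j w)) :=
    Algebra.EssFiniteType.comp Γ(Y, V) Γ(X, U) (X.presheaf.stalk (j w))
  haveI hfin : Module.Finite (X.presheaf.stalk (j w)) Ω[X.presheaf.stalk (j w)⁄Γ(Y, V)] :=
    inferInstance
  -- the dimension
  have hwcl : IsClosed ({w} : Set W) := by
    have h1 : ({w} : Set W) = j ⁻¹' {j w} := by
      ext w'
      simp only [Set.mem_singleton_iff, Set.mem_preimage]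
      exact ⟨fun h => by rw [h], fun h => j.isClosedEmbedding.injective h⟩
    rw [h1]
    exact hx.preimage j.continuous
  have hdim : (r : WithBot ℕ∞) ≤ ringKrullDim (W.presheaf.stalk w) := by
    have h1 := Groth.Agent.H1.DimFormula.localDim_eq_stalk_of_isClosed (j ≫ qX) w hwcl
    have h2 := Groth.Agent.H1.EquiDim.localDim_eq_dim (j ≫ qX) w
    rw [← h1, h2, hWdim, hr]
  -- the base sections are constant on `W`
  have hA : ∀ a : Γ(Y, V), ∃ c : k,
      algebraMap Γ(Y, V) (W.presheaf.stalk w) a = algebraMap k (W.presheaf.stalk w) c := by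
    intro a
    have hyV : f (j w) ∈ V := hUV hxU
    have hycl : IsClosed ({f (j w)} : Set Y) :=
      Groth.Agent.H3.CotSm.isClosed_image k qX qY f hf (j w) hx
    obtain ⟨c, hc⟩ := exists_sub_mem_of_isClosed k qY (f (j w)) hycl
      (Y.presheaf.germ V (f (j w)) hyV a)
    refine ⟨c, ?_⟩
    have hσ : Y.presheaf.germ V (f (j w)) hyV
        ((Y.presheaf.map (homOfLE (le_top : V ≤ ⊤)).op).hom (Coh.toGlobal qY c)) =
        stalkMapK qY (f (j w)) c :=
      TopCat.Presheaf.germ_res_apply Y.presheaf (homOfLE (le_top : V ≤ ⊤)) (f (j w)) hyV _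
    have hgerm : Y.presheaf.germ V (f (j w)) hyV
        (a - (Y.presheaf.map (homOfLE (le_top : V ≤ ⊤)).op).hom (Coh.toGlobal qY c)) ∈
        maximalIdeal (Y.presheaf.stalk (f (j w))) := by
      rw [map_sub, hσ]
      exact hc
    have hgw : ∀ w' : W, (j ≫ f) w' = f (j w) := by
      intro w'
      have h1 : j w' ∈ Z := hrange ▸ Set.mem_range_self w'
      exact hZf h1
    have hbo : W.basicOpen ((j ≫ f).app V
        (a - (Y.presheaf.map (homOfLE (le_top : V ≤ ⊤)).op).hom (Coh.toGlobal qY c))) = ⊥ := by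
      rw [← Scheme.preimage_basicOpen]
      rw [eq_bot_iff]
      intro w' hw'
      have h1 : (j ≫ f) w' ∈ Y.basicOpen
          (a - (Y.presheaf.map (homOfLE (le_top : V ≤ ⊤)).op).hom (Coh.toGlobal qY c)) := hw'
      rw [hgw w'] at h1
      have h2 := (Y.mem_basicOpen _ (f (j w)) hyV).mp h1
      exact ((mem_maximalIdeal _).mp hgerm) h2
    have hzero : (j ≫ f).app V
        (a - (Y.presheaf.map (homOfLE (le_top : V ≤ ⊤)).op).hom (Coh.toGlobal qY c)) = 0 :=
      (AlgebraicGeometry.basicOpen_eq_bot_iff _).mp hbo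
    have hAS : ∀ b : Γ(Y, V), algebraMap Γ(Y, V) (W.presheaf.stalk w) b =
        ((j ≫ f).stalkMap w).hom (Y.presheaf.germ V (f (j w)) hyV b) := by
      intro b
      change (j.stalkMap w).hom (X.presheaf.germ U (j w) hxU ((f.appLE V U hUV).hom b)) = _
      have h1 : X.presheaf.germ U (j w) hxU ((f.appLE V U hUV).hom b) =
          (f.stalkMap (j w)).hom (Y.presheaf.germ V (f (j w)) hyV b) := by
        rw [Scheme.Hom.germ_stalkMap_apply f V (j w) hyV b, Scheme.Hom.appLE]
        exact TopCat.Presheaf.germ_res_apply X.presheaf (homOfLE hUV) (j w) hxU _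
      rw [h1, Scheme.Hom.stalkMap_comp j f w]
      rfl
    have h0 : algebraMap Γ(Y, V) (W.presheaf.stalk w)
        (a - (Y.presheaf.map (homOfLE (le_top : V ≤ ⊤)).op).hom (Coh.toGlobal qY c)) = 0 := by
      rw [hAS]
      refine (Scheme.Hom.germ_stalkMap_apply (j ≫ f) V w hyV _).trans ?_
      rw [hzero, map_zero]
    rw [map_sub, sub_eq_zero] at h0
    rw [h0]
    change (j.stalkMap w).hom (X.presheaf.germ U (j w) hxU ((f.appLE V U hUV).hom _)) =
      (j.stalkMap w).hom (stalkMapK qX (j w) c)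
    rw [germ_appLE_toGlobal qX qY f hf hUV (j w) hxU c]
  have key := le_finrank_fibre_kaehler (k := k) (A := Γ(Y, V)) (T := X.presheaf.stalk (j w))
    (S := W.presheaf.stalk w) hπ hresT hA r hdim
  obtain ⟨E⟩ := exists_stalk_linearEquiv f hU hV hUV (j w) hxU
  have htr := finrank_quotient_eq_of_linearEquiv (k := k) E
  exact key.trans htr.le

end Groth.Agent.H3.OmFiber
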