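import Mathlib
import Groth.Prelude.Def_Omega3
import Groth.Agent.Lib.Helper3.OmSec
import Groth.Agent.Lib.Helper3.OmQC
import Groth.Agent.Lib.Lead.QC.FinPres

set_option autoImplicit false
universe u
open AlgebraicGeometry CategoryTheory TopologicalSpace Opposite CategoryTheory.Limits

namespace Groth.Agent.H3.Om

variable {X Y : Scheme.{u}}

/-- S9387: differentials of a morphism locally of finite type are of finite type. -/
theorem isFiniteType_of_locallyOfFiniteType {f : X ⟶ Y} [LocallyOfFiniteType f] {Ω' : X.Modules}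
    {d : OmegaSh.Der f Ω'} (hd : OmegaSh.IsUniversal d) : Ω'.IsFiniteType := by
  haveI := isQuasicoherent_of_isUniversal hd
  apply Groth.Agent.LD.QC.isFiniteType_of_finite_sections
  intro x
  obtain ⟨U, V, hU, hV, hxU, hUV⟩ := exists_affine_le_preimage f x
  refine ⟨U, hU, hxU, ?_⟩
  letI := (f.appLE V U hUV).hom.toAlgebra
  obtain ⟨ε, -⟩ := exists_linearEquiv_sections hd hU hV hUV
  have h1 : Algebra.FiniteType Γ(Y, V) Γ(X, U) := LocallyOfFiniteType.finiteType_appLE f hV hU hUV
  exact Module.Finite.equiv ε

/-- S9388: differentials of a morphism locally of finite presentation are finitely presented. -/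
theorem isFinitePresentation_of_locallyOfFinitePresentation {f : X ⟶ Y}
    [LocallyOfFinitePresentation f] {Ω' : X.Modules}
    {d : OmegaSh.Der f Ω'} (hd : OmegaSh.IsUniversal d) : Ω'.IsFinitePresentation := by
  haveI := isQuasicoherent_of_isUniversal hd
  apply Groth.Agent.LD.QC.isFinitePresentation_of_sections
  intro x
  obtain ⟨U, V, hU, hV, hxU, hUV⟩ := exists_affine_le_preimage f x
  refine ⟨U, hU, hxU, ?_⟩
  letI := (f.appLE V U hUV).hom.toAlgebra
  obtain ⟨ε, -⟩ := exists_linearEquiv_sections hd hU hV hUV
  have h1 : Algebra.FinitePresentation Γ(Y, V) Γ(X, U) :=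
    LocallyOfFinitePresentation.finitePresentation_appLE f hV hU hUV
  exact Module.FinitePresentation.of_equiv ε

end Groth.Agent.H3.Om
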