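import Mathlib

set_option autoImplicit false
universe u
open TensorProduct

namespace Groth.Agent.H3.OmFree

section Core
variable {A : Type u} [CommRing A] [IsDomain A] (Q : Ideal A) [Q.IsPrime]
  {N M : Type u} [AddCommGroup N] [Module A N] [AddCommGroup M] [Module A M]

/-- if `M = N / A w` with `N` free over a domain, `0 ≠ w ∈ Q N`, then `M_Q` is not free. -/
theorem not_free_localized [Module.Free A N]
    (β : N →ₗ[A] M) (hβ : Function.Surjective β) (w : N) (hw : w ≠ 0)
    (hker : LinearMap.ker β = Submodule.span A {w})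
    (hwQ : w ∈ Q • (⊤ : Submodule A N)) :
    ¬ Module.Free (Localization.AtPrime Q) (LocalizedModule Q.primeCompl M) := by
  intro hfree
  set S := Q.primeCompl with hS
  set βQ := LocalizedModule.map S β with hβQ
  have hsurj : Function.Surjective βQ := LocalizedModule.map_surjective S β hβ
  obtain ⟨s, hs⟩ := Module.projective_lifting_property βQ LinearMap.id hsurj
  have hs' : ∀ y, βQ (s y) = y := fun y => LinearMap.congr_fun hs y
  set W : LocalizedModule S N := LocalizedModule.mk w 1 with hW
  have hβw : β w = 0 := by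
    have : w ∈ LinearMap.ker β := by rw [hker]; exact Submodule.mem_span_singleton_self w
    exact this
  -- the kernel of `βQ` is generated by `W`
  have hK : ∀ x : LocalizedModule S N, βQ x = 0 → ∃ l : Localization S, x = l • W := by
    intro x
    induction x using LocalizedModule.induction_on with
    | h n t =>
      intro h0
      rw [hβQ, LocalizedModule.map_mk, ← LocalizedModule.zero_mk t, LocalizedModule.mk_eq] at h0
      obtain ⟨r, hr⟩ := h0
      simp only [smul_zero, Submonoid.smul_def] at hr
      have h1 : ((r : A) * (t : A)) • n ∈ LinearMap.ker β := by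
        rw [LinearMap.mem_ker, map_smul, mul_smul]
        exact hr
      rw [hker, Submodule.mem_span_singleton] at h1
      obtain ⟨c, hc⟩ := h1
      refine ⟨Localization.mk c (r * t * t), ?_⟩
      rw [hW, LocalizedModule.mk_smul_mk, mul_one, hc]
      have := LocalizedModule.mk_cancel_common_left (r * t) t n
      rw [← this]
      rfl
  -- ρ
  have hρ : ∀ x : LocalizedModule S N, ∃ l : Localization S, x - s (βQ x) = l • W := by
    intro x
    apply hK
    rw [map_sub, hs', sub_self]
  have hmax : ∀ n ∈ Q • (⊤ : Submodule A N), ∃ μ ∈ IsLocalRing.maximalIdeal (Localization.AtPrime Q),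
      (LocalizedModule.mk n 1 : LocalizedModule S N) - s (βQ (LocalizedModule.mk n 1)) = μ • W := by
    intro n hn
    refine Submodule.smul_induction_on hn ?_ ?_
    · intro q hq n' _
      obtain ⟨l, hl⟩ := hρ (LocalizedModule.mk n' 1)
      refine ⟨algebraMap A (Localization.AtPrime Q) q * l, ?_, ?_⟩
      · apply Ideal.mul_mem_right
        exact (IsLocalization.AtPrime.to_map_mem_maximal_iff (Localization.AtPrime Q) Q q).mpr hq
      · have e1 : (LocalizedModule.mk (q • n') 1 : LocalizedModule S N) =
            algebraMap A (Localization.AtPrime Q) q • LocalizedModule.mk n' 1 := by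
          rw [← Localization.mk_one_eq_algebraMap, LocalizedModule.mk_smul_mk, one_mul]
        rw [e1, map_smul, map_smul, ← smul_sub, hl, mul_smul]
    · intro x y hx hy
      obtain ⟨μ1, h1, e1⟩ := hx
      obtain ⟨μ2, h2, e2⟩ := hy
      refine ⟨μ1 + μ2, Ideal.add_mem _ h1 h2, ?_⟩
      have e3 : (LocalizedModule.mk (x + y) 1 : LocalizedModule S N) =
          LocalizedModule.mk x 1 + LocalizedModule.mk y 1 := by
        rw [LocalizedModule.mk_add_mk]
        simp
      rw [e3, map_add, map_add, add_smul, ← e1, ← e2]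
      abel
  obtain ⟨μ, hμ, e⟩ := hmax w hwQ
  have hβW : βQ W = 0 := by
    rw [hW, hβQ, LocalizedModule.map_mk, hβw, LocalizedModule.zero_mk]
  rw [← hW, hβW, map_zero, sub_zero] at e
  have hunit : IsUnit (1 - μ) := by
    have := IsLocalRing.isUnit_one_sub_self_of_mem_nonunits μ
      ((IsLocalRing.mem_maximalIdeal μ).mp hμ)
    exact this
  have hW0 : W = 0 := by
    have h1 : (1 - μ) • W = 0 := by rw [sub_smul, one_smul, ← e, sub_self]
    obtain ⟨v, hv⟩ := hunit
    have : (↑v⁻¹ : Localization.AtPrime Q) • ((1 - μ) • W) = 0 := by rw [h1, smul_zero]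
    rwa [← hv, smul_smul, Units.inv_mul, one_smul] at this
  rw [hW, ← LocalizedModule.zero_mk (1 : S), LocalizedModule.mk_eq] at hW0
  obtain ⟨r, hr⟩ := hW0
  simp only [smul_zero, one_smul, Submonoid.smul_def] at hr
  have hr' : (r : A) • w = 0 := hr
  rcases smul_eq_zero.mp hr' with h | h
  · exact r.2 (by rw [h]; exact Q.zero_mem)
  · exact hw h

end Core

end Groth.Agent.H3.OmFree

namespace Groth.Agent.H3.OmFree

section Proj
variable {A : Type u} [CommRing A] [IsLocalRing A]
  {N M : Type u} [AddCommGroup N] [Module A N] [AddCommGroup M] [Module A M]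

/-- if `w` is unimodular in the finite free module `N` over a local ring, `N / A w` is free. -/
theorem free_of_unimodular [Module.Free A N] [Module.Finite A N]
    (β : N →ₗ[A] M) (hβ : Function.Surjective β) (w : N)
    (hker : LinearMap.ker β = Submodule.span A {w})
    (φ : N →ₗ[A] A) (hφ : φ w = 1) : Module.Free A M := by
  have hβw : β w = 0 := by
    have : w ∈ LinearMap.ker β := by rw [hker]; exact Submodule.mem_span_singleton_self w
    exact this
  let σ' : N →ₗ[A] N := LinearMap.id - (LinearMap.toSpanSingleton A N w).comp φ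
  have hσ'w : σ' w = 0 := by
    simp [σ', hφ]
  have hle : LinearMap.ker β ≤ LinearMap.ker σ' := by
    rw [hker, Submodule.span_le]
    rintro _ rfl
    exact hσ'w
  let σ : M →ₗ[A] N := ((LinearMap.ker β).liftQ σ' hle).comp
    (β.quotKerEquivOfSurjective hβ).symm.toLinearMap
  have hσβ : ∀ n, σ (β n) = σ' n := by
    intro n
    have : (β.quotKerEquivOfSurjective hβ).symm (β n) = (LinearMap.ker β).mkQ n := by
      rw [LinearEquiv.symm_apply_eq]
      rfl
    change ((LinearMap.ker β).liftQ σ' hle) ((β.quotKerEquivOfSurjective hβ).symm (β n)) = _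
    rw [this]
    rfl
  have hsplit : β.comp σ = LinearMap.id := by
    ext m
    obtain ⟨n, rfl⟩ := hβ m
    change β (σ (β n)) = β n
    rw [hσβ]
    simp [σ', hβw]
  haveI : Module.Projective A M := Module.Projective.of_split σ β hsplit
  haveI : Module.Finite A M := Module.Finite.of_surjective β hβ
  exact Module.free_of_flat_of_isLocalRing

end Proj

section Main

theorem main
    (V R A : Type u) [CommRing V] [IsDomain V] [IsDiscreteValuationRing V] [CommRing R] [CommRing A]
    [IsDomain A] [IsNoetherianRing A] [IsLocalRing A]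
    [Algebra V R] [Algebra V A] [Algebra R A] [IsScalarTower V R A]
    (u : V) 
    (hdimA : ringKrullDim A = 3)
    (hΩA : Module.Free A (Ω[A⁄V])) (hrkA : Module.finrank A (Ω[A⁄V]) = 2)
    (hΩR : Module.Free A (A ⊗[R] Ω[R⁄V])) (hrkR : Module.finrank A (A ⊗[R] Ω[R⁄V]) = 1)
    (h0 : ∀ P : PrimeSpectrum A, algebraMap V A u ∈ P.asIdeal → P.asIdeal ≠ IsLocalRing.maximalIdeal A →
      Module.Free (Localization.AtPrime P.asIdeal) (LocalizedModule P.asIdeal.primeCompl (Ω[A⁄R])))
    (hm : ¬ Module.Free A (Ω[A⁄R])) :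
    ∃ Q : PrimeSpectrum A, algebraMap V A u ∉ Q.asIdeal ∧
      ¬ Module.Free (Localization.AtPrime Q.asIdeal) (LocalizedModule Q.asIdeal.primeCompl (Ω[A⁄R])) := by
  haveI : Module.Finite A (Ω[A⁄V]) := Module.finite_of_finrank_pos (by rw [hrkA]; norm_num)
  haveI : Module.Finite A (A ⊗[R] Ω[R⁄V]) := Module.finite_of_finrank_pos (by rw [hrkR]; norm_num)
  let eL := Module.finBasisOfFinrankEq A (A ⊗[R] Ω[R⁄V]) hrkR
  let b := Module.finBasisOfFinrankEq A (Ω[A⁄V]) hrkA
  let α := KaehlerDifferential.mapBaseChange V R A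
  let β := KaehlerDifferential.map V R A A
  have hex : Function.Exact α β := KaehlerDifferential.exact_mapBaseChange_map V R A
  have hβ : Function.Surjective β := KaehlerDifferential.map_surjective V R A
  set w := α (eL 0) with hw_def
  have hker : LinearMap.ker β = Submodule.span A {w} := by
    rw [LinearMap.exact_iff.mp hex, LinearMap.range_eq_map, ← eL.span_eq, Submodule.map_span]
    congr 1
    ext x
    constructor
    · rintro ⟨_, ⟨i, rfl⟩, rfl⟩
      have hi : i = 0 := Subsingleton.elim _ _
      subst hi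
      rfl
    · rintro rfl
      exact ⟨_, ⟨0, rfl⟩, rfl⟩
  have hw : w ≠ 0 := by
    intro h0'
    apply hm
    have hinj : Function.Injective β := by
      rw [← LinearMap.ker_eq_bot, hker, h0']
      simp
    exact Module.Free.of_equiv (LinearEquiv.ofBijective β ⟨hinj, hβ⟩)
  set a := b.repr w 0 with ha_def
  set c := b.repr w 1 with hc_def
  have hwac : w = a • b 0 + c • b 1 := by
    conv_lhs => rw [← b.sum_repr w]
    rw [Fin.sum_univ_two]
  have ha : a ∈ IsLocalRing.maximalIdeal A := by
    by_contra hna
    have hu : IsUnit a := by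
      by_contra h
      exact hna ((IsLocalRing.mem_maximalIdeal a).mpr h)
    obtain ⟨v, hv⟩ := hu
    apply hm
    refine free_of_unimodular β hβ w hker ((↑v⁻¹ : A) • b.coord 0) ?_
    change (↑v⁻¹ : A) • b.repr w 0 = 1
    rw [← ha_def, ← hv, smul_eq_mul, Units.inv_mul]
  have hc : c ∈ IsLocalRing.maximalIdeal A := by
    by_contra hna
    have hu : IsUnit c := by
      by_contra h
      exact hna ((IsLocalRing.mem_maximalIdeal c).mpr h)
    obtain ⟨v, hv⟩ := hu
    apply hm
    refine free_of_unimodular β hβ w hker ((↑v⁻¹ : A) • b.coord 1) ?_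
    change (↑v⁻¹ : A) • b.repr w 1 = 1
    rw [← hc_def, ← hv, smul_eq_mul, Units.inv_mul]
  have hIne : Ideal.span ({a, c} : Set A) ≠ ⊤ := by
    intro h
    have hle : Ideal.span ({a, c} : Set A) ≤ IsLocalRing.maximalIdeal A := by
      rw [Ideal.span_le]
      rintro x (rfl | rfl)
      · exact ha
      · exact hc
    rw [h] at hle
    exact (IsLocalRing.maximalIdeal.isMaximal A).ne_top (top_le_iff.mp hle)
  obtain ⟨Q, hQ⟩ := Ideal.nonempty_minimalPrimes hIne
  haveI hQp : Q.IsPrime := hQ.1.1
  have hIQ : Ideal.span ({a, c} : Set A) ≤ Q := hQ.1.2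
  have haQ : a ∈ Q := hIQ (Ideal.subset_span (by simp))
  have hcQ : c ∈ Q := hIQ (Ideal.subset_span (by simp))
  have hht : Q.height ≤ 2 := by
    have h1 := Ideal.height_le_card_of_mem_minimalPrimes_span (s := ({a, c} : Set A))
      (Set.toFinite _) hQ
    refine h1.trans ?_
    have : ({a, c} : Set A).ncard ≤ 2 := by
      refine (Set.ncard_insert_le a {c}).trans ?_
      rw [Set.ncard_singleton]
    exact_mod_cast this
  have hQm : Q ≠ IsLocalRing.maximalIdeal A := by
    intro h
    have h3 := IsLocalRing.maximalIdeal_height_eq_ringKrullDim (R := A)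
    rw [hdimA, ← h] at h3
    have : ((Q.height : ℕ∞) : WithBot ℕ∞) ≤ ((2 : ℕ∞) : WithBot ℕ∞) := by exact_mod_cast hht
    rw [h3] at this
    exact absurd this (by decide)
  have hwQ : w ∈ Q • (⊤ : Submodule A (Ω[A⁄V])) := by
    rw [hwac]
    exact Submodule.add_mem _ (Submodule.smul_mem_smul haQ trivial)
      (Submodule.smul_mem_smul hcQ trivial)
  have hnf := not_free_localized Q β hβ w hw hker hwQ
  refine ⟨⟨Q, hQp⟩, ?_, hnf⟩
  intro hu
  exact hnf (h0 ⟨Q, hQp⟩ hu hQm)

end Main

end Groth.Agent.H3.OmFree
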