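import Mathlib
import Groth.Prelude.Def_Omega3
import Groth.Agent.Lib.Helper3.OmApi
import Groth.Agent.Lib.Lead.QC.Extend

set_option autoImplicit false
universe u
open AlgebraicGeometry CategoryTheory TopologicalSpace Opposite CategoryTheory.Limits

namespace Groth.Agent.H3.Om

open Groth.Agent.LD.QC

/-- a pushout of commutative rings is generated by the images of the two legs. -/
theorem closure_range_union_of_isPushout {A B B' C : CommRingCat.{u}} {φ₁ : A ⟶ B} {φ₂ : A ⟶ B'}
    {ι₁ : B ⟶ C} {ι₂ : B' ⟶ C} (hpo : IsPushout φ₁ φ₂ ι₁ ι₂) :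
    Subring.closure (Set.range ι₁.hom ∪ Set.range ι₂.hom) = ⊤ := by
  set Q : Subring C := Subring.closure (Set.range ι₁.hom ∪ Set.range ι₂.hom) with hQ
  let incl : CommRingCat.of Q ⟶ C := CommRingCat.ofHom Q.subtype
  let j₁ : B ⟶ CommRingCat.of Q := CommRingCat.ofHom
    (ι₁.hom.codRestrict Q (fun b => Subring.subset_closure (Or.inl ⟨b, rfl⟩)))
  let j₂ : B' ⟶ CommRingCat.of Q := CommRingCat.ofHom
    (ι₂.hom.codRestrict Q (fun b => Subring.subset_closure (Or.inr ⟨b, rfl⟩)))
  have h₁ : j₁ ≫ incl = ι₁ := rfl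
  have h₂ : j₂ ≫ incl = ι₂ := rfl
  have hw : φ₁ ≫ j₁ = φ₂ ≫ j₂ := by
    refine CommRingCat.hom_ext (RingHom.ext fun a => Subtype.ext ?_)
    exact congr($(hpo.w) a)
  let δ : C ⟶ CommRingCat.of Q := hpo.desc j₁ j₂ hw
  have hδ : δ ≫ incl = 𝟙 C := by
    apply hpo.hom_ext
    · rw [← Category.assoc, hpo.inl_desc, h₁, Category.comp_id]
    · rw [← Category.assoc, hpo.inr_desc, h₂, Category.comp_id]
  rw [eq_top_iff]
  intro c _
  have hc : ((δ.hom c : Q) : C) = c := congr($hδ c)
  rw [← hc]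
  exact (δ.hom c).2

variable {P S : Scheme.{u}}

theorem Der.app_one {g : P ⟶ S} {G : P.Modules} (E : OmegaSh.Der g G) (N : P.Opens) :
    E.app N 1 = 0 := by
  have h := Der.app_mul E N 1 1
  rw [mul_one, one_smul] at h
  have h2 : E.app N 1 + 0 = E.app N 1 + E.app N 1 := by rw [add_zero]; exact h
  exact (add_left_cancel h2).symm

theorem Der.app_pow {g : P ⟶ S} {G : P.Modules} (E : OmegaSh.Der g G) (N : P.Opens)
    (b : Γ(P, N)) (n : ℕ) :
    E.app N (b ^ (n + 1)) = (((n + 1 : ℕ) : Γ(P, N)) * b ^ n) • E.app N b := by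
  induction n with
  | zero => simp
  | succ n ih =>
    rw [pow_succ, Der.app_mul, ih, smul_smul, ← add_smul]
    congr 1
    push_cast
    ring

/-- a derivation vanishing on ring generators of the sections over an open vanishes there. -/
theorem Der.app_eq_zero_of_closure {g : P ⟶ S} {G : P.Modules} (E : OmegaSh.Der g G)
    (N : P.Opens) (T : Set Γ(P, N)) (hT : Subring.closure T = ⊤)
    (h : ∀ t ∈ T, E.app N t = 0) (c : Γ(P, N)) : E.app N c = 0 := by
  have hc : c ∈ Subring.closure T := hT ▸ Subring.mem_top c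
  induction hc using Subring.closure_induction with
  | mem x hx => exact h x hx
  | zero => exact map_zero _
  | one => exact Der.app_one E N
  | add x y _ _ hx hy => rw [map_add, hx, hy, add_zero]
  | neg x _ hx => rw [map_neg, hx, neg_zero]
  | mul x y _ _ hx hy => rw [Der.app_mul, hx, hy, smul_zero, smul_zero, add_zero]

/-- a derivation vanishing on the sections over an affine open vanishes on its basic opens. -/
theorem Der.app_basicOpen_eq_zero {g : P ⟶ S} {G : P.Modules} (E : OmegaSh.Der g G)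
    {N : P.Opens} (hN : IsAffineOpen N) (h : ∀ c : Γ(P, N), E.app N c = 0) (r : Γ(P, N))
    (s : Γ(P, P.basicOpen r)) : E.app (P.basicOpen r) s = 0 := by
  letI : Algebra Γ(P, N) Γ(P, P.basicOpen r) :=
    (P.presheaf.map (homOfLE (P.basicOpen_le r)).op).hom.toAlgebra
  haveI : IsLocalization.Away r Γ(P, P.basicOpen r) := hN.isLocalization_basicOpen r
  obtain ⟨⟨a, m⟩, hm⟩ := IsLocalization.surj (Submonoid.powers r) s
  have hu : IsUnit (algebraMap Γ(P, N) Γ(P, P.basicOpen r) m) := IsLocalization.map_units _ m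
  have h1 := congrArg (E.app (P.basicOpen r)) hm
  rw [Der.app_mul] at h1
  have h2 : E.app (P.basicOpen r) (algebraMap Γ(P, N) Γ(P, P.basicOpen r) a) =
      G.presheaf.map (homOfLE (P.basicOpen_le r)).op (E.app N a) :=
    Der.app_map E (homOfLE (P.basicOpen_le r)) a
  have h3 : E.app (P.basicOpen r) (algebraMap Γ(P, N) Γ(P, P.basicOpen r) (m : Γ(P, N))) =
      G.presheaf.map (homOfLE (P.basicOpen_le r)).op (E.app N (m : Γ(P, N))) :=
    Der.app_map E (homOfLE (P.basicOpen_le r)) _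
  rw [h2, h3, h, h, map_zero, smul_zero, zero_add] at h1
  have h4 : algebraMap Γ(P, N) Γ(P, P.basicOpen r) m • E.app (P.basicOpen r) s =
      algebraMap Γ(P, N) Γ(P, P.basicOpen r) m • 0 := by rw [h1, smul_zero]
  exact hu.smul_left_cancel.1 h4

/-- a derivation vanishing on the sections over an affine open vanishes on all smaller opens. -/
theorem Der.app_eq_zero_of_le {g : P ⟶ S} {G : P.Modules} (E : OmegaSh.Der g G)
    {N : P.Opens} (hN : IsAffineOpen N) (h : ∀ c : Γ(P, N), E.app N c = 0) {V : P.Opens}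
    (hV : V ≤ N) (s : Γ(P, V)) : E.app V s = 0 := by
  have hex : ∀ x : V, ∃ r : Γ(P, N), x.1 ∈ P.basicOpen r ∧ P.basicOpen r ≤ V := by
    intro x
    obtain ⟨r, hr, hxr⟩ := hN.exists_basicOpen_le ⟨x.1, x.2⟩ (hV x.2)
    exact ⟨r, hxr, hr⟩
  choose r hxr hrV using hex
  apply section_ext_of_cover G (fun x : V => P.basicOpen (r x)) hrV
  · intro y hy
    exact Opens.mem_iSup.2 ⟨⟨y, hy⟩, hxr ⟨y, hy⟩⟩
  · intro x
    rw [map_zero, ← Der.app_map E (homOfLE (hrV x)) s]
    exact Der.app_basicOpen_eq_zero E hN h (r x) _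

/-- a derivation is zero as soon as it is zero on ring generators of an affine cover. -/
theorem Der.app_eq_zero_of_cover {g : P ⟶ S} {G : P.Modules} (E : OmegaSh.Der g G)
    (hcov : ∀ z : P, ∃ N : P.Opens, z ∈ N ∧ IsAffineOpen N ∧ ∃ T : Set Γ(P, N),
      Subring.closure T = ⊤ ∧ ∀ t ∈ T, E.app N t = 0)
    (V : P.Opens) (s : Γ(P, V)) : E.app V s = 0 := by
  choose N hzN hN T hT hTz using hcov
  apply section_ext_of_cover G (fun x : V => V ⊓ N x.1) (fun _ => inf_le_left)
  · intro y hy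
    exact Opens.mem_iSup.2 ⟨⟨y, hy⟩, ⟨hy, hzN y⟩⟩
  · intro x
    rw [map_zero, ← Der.app_map E (homOfLE (inf_le_left : V ⊓ N x.1 ≤ V)) s]
    exact Der.app_eq_zero_of_le E (hN x.1)
      (Der.app_eq_zero_of_closure E (N x.1) (T x.1) (hT x.1) (hTz x.1)) inf_le_right _

end Groth.Agent.H3.Om
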