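import Mathlib
import Groth.Prelude.Def_Omega3
import Groth.Prelude.Def_Frob
import Groth.Agent.Lib.Helper3.OmFrob1
import Groth.Agent.Lib.Helper3.OmBase
import Groth.Agent.Lib.Helper3.OmCompat
import Groth.Agent.Lib.Helper3.OmBC

set_option autoImplicit false
universe u
open AlgebraicGeometry CategoryTheory TopologicalSpace Opposite CategoryTheory.Limits

namespace Groth.Agent.H3.Om

variable (p : ℕ) [Fact p.Prime] {X S : Scheme.{u}}

/-- in characteristic `p`, a derivation kills `p`-th powers. -/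
theorem Der.app_frob [FrobSch.IsCharP X p] {f : X ⟶ S} {F' : X.Modules} (D : OmegaSh.Der f F')
    {q : X ⟶ X} (hq : q = FrobSch.frob X p) (U : X.Opens) (b : Γ(X, U)) :
    D.app (q ⁻¹ᵁ U) (q.app U b) = 0 := by
  subst hq
  change D.app U (b ^ p) = 0
  obtain ⟨n, hn⟩ : ∃ n, p = n + 1 :=
    ⟨p - 1, (Nat.succ_pred_eq_of_pos (Fact.out : p.Prime).pos).symm⟩
  rw [hn, Der.app_pow, ← hn, FrobSch.natCast_eq_zero_app X p U, zero_mul, zero_smul]

variable [FrobSch.IsCharP S p] (f : X ⟶ S)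

/-- an `S`-derivation of `O_X` kills the functions coming from the Frobenius twist. -/
theorem Der.app_relFrob_eq_zero {F' : X.Modules} (D : OmegaSh.Der f F')
    (V : (FrobSch.frobTwist f p).Opens) (t : Γ(FrobSch.frobTwist f p, V)) :
    D.app ((FrobSch.relFrob f p) ⁻¹ᵁ V) ((FrobSch.relFrob f p).app V t) = 0 := by
  haveI : FrobSch.IsCharP X p := FrobSch.IsCharP.of_hom f p
  have hF₂ : FrobSch.relFrob f p ≫ pullback.snd f (FrobSch.frob S p) = f :=
    FrobSch.relFrob_snd f p
  have hF₁ : FrobSch.relFrob f p ≫ pullback.fst f (FrobSch.frob S p) = FrobSch.frob X p :=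
    FrobSch.relFrob_fst f p
  let D' : OmegaSh.Der (FrobSch.relFrob f p ≫ pullback.snd f (FrobSch.frob S p)) F' :=
    Der.changeBase D (FrobSch.relFrob f p ≫ pullback.snd f (FrobSch.frob S p))
      (fun V a => Der.app_comp_of_eq hF₂.symm D V a)
  let E : OmegaSh.Der (pullback.snd f (FrobSch.frob S p))
      ((Scheme.Modules.pushforward (FrobSch.relFrob f p)).obj F') := Der.push (FrobSch.relFrob f p) D'
  have hE : ∀ (V : (FrobSch.frobTwist f p).Opens) (t : Γ(FrobSch.frobTwist f p, V)),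
      E.app V t = D.app ((FrobSch.relFrob f p) ⁻¹ᵁ V) ((FrobSch.relFrob f p).app V t) :=
    fun V t => rfl
  rw [← hE]
  apply Der.app_eq_zero_of_cover E
  intro z
  obtain ⟨W, hW, hzW, -⟩ := exists_isAffineOpen_mem_and_subset
    (x := pullback.snd f (FrobSch.frob S p) z) (U := ⊤) trivial
  have hxW : pullback.fst f (FrobSch.frob S p) z ∈ f ⁻¹ᵁ W := by
    have h1 : f (pullback.fst f (FrobSch.frob S p) z) =
        FrobSch.frob S p (pullback.snd f (FrobSch.frob S p) z) := by
      rw [← Scheme.Hom.comp_apply, ← Scheme.Hom.comp_apply, pullback.condition]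
    change f (pullback.fst f (FrobSch.frob S p) z) ∈ W
    rw [h1]
    exact hzW
  obtain ⟨U, hU, hxU, hUW⟩ := exists_isAffineOpen_mem_and_subset
    (x := pullback.fst f (FrobSch.frob S p) z) (U := f ⁻¹ᵁ W) hxW
  have hsq : IsPullback (pullback.fst f (FrobSch.frob S p)) (pullback.snd f (FrobSch.frob S p)) f
      (FrobSch.frob S p) := IsPullback.of_hasPullback _ _
  have eW : W ≤ (FrobSch.frob S p) ⁻¹ᵁ W := le_refl W
  have hN := isAffineOpen_prodChart hsq hU hW hW hUW eW
  have hpo := isPushout_prodChart hsq hU hW hW hUW eW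
  refine ⟨pullback.fst f (FrobSch.frob S p) ⁻¹ᵁ U ⊓ pullback.snd f (FrobSch.frob S p) ⁻¹ᵁ W,
    ⟨hxU, hzW⟩, hN, _, closure_range_union_of_isPushout hpo, ?_⟩
  rintro t (⟨b, rfl⟩ | ⟨a, rfl⟩)
  · have h1 : ((pullback.fst f (FrobSch.frob S p)).appLE U
        (pullback.fst f (FrobSch.frob S p) ⁻¹ᵁ U ⊓ pullback.snd f (FrobSch.frob S p) ⁻¹ᵁ W)
        inf_le_left).hom b =
        (FrobSch.frobTwist f p).presheaf.map (homOfLE (inf_le_left :
          pullback.fst f (FrobSch.frob S p) ⁻¹ᵁ U ⊓ pullback.snd f (FrobSch.frob S p) ⁻¹ᵁ W ≤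
            pullback.fst f (FrobSch.frob S p) ⁻¹ᵁ U)).op
          ((pullback.fst f (FrobSch.frob S p)).app U b) := rfl
    have h2 := Der.app_frob p D hF₁ U b
    have h3 : E.app (pullback.fst f (FrobSch.frob S p) ⁻¹ᵁ U)
          ((pullback.fst f (FrobSch.frob S p)).app U b) = 0 := h2
    rw [h1, Der.app_map, h3, map_zero]
  · have h1 : ((pullback.snd f (FrobSch.frob S p)).appLE W
        (pullback.fst f (FrobSch.frob S p) ⁻¹ᵁ U ⊓ pullback.snd f (FrobSch.frob S p) ⁻¹ᵁ W)
        inf_le_right).hom a =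
        (FrobSch.frobTwist f p).presheaf.map (homOfLE (inf_le_right :
          pullback.fst f (FrobSch.frob S p) ⁻¹ᵁ U ⊓ pullback.snd f (FrobSch.frob S p) ⁻¹ᵁ W ≤
            pullback.snd f (FrobSch.frob S p) ⁻¹ᵁ W)).op
          ((pullback.snd f (FrobSch.frob S p)).app W a) := rfl
    rw [h1, Der.app_map, Der.app_comp, map_zero]

/-- **a universal `S`-derivation is also universal relative to the relative Frobenius.** -/
theorem exists_universal_der_relFrob {Ω : X.Modules} {d : OmegaSh.Der f Ω}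
    (hd : OmegaSh.IsUniversal d) :
    ∃ d' : OmegaSh.Der (FrobSch.relFrob f p) Ω,
      (∀ (U : X.Opens) (s : Γ(X, U)), d'.app U s = d.app U s) ∧ OmegaSh.IsUniversal d' := by
  have hF₂ : FrobSch.relFrob f p ≫ pullback.snd f (FrobSch.frob S p) = f :=
    FrobSch.relFrob_snd f p
  refine ⟨Der.changeBase d (FrobSch.relFrob f p) (Der.app_relFrob_eq_zero p f d),
    fun U s => rfl, ?_⟩
  apply isUniversal_changeBase hd
  intro G E V a
  exact Der.app_comp_of_eq hF₂
    (Der.changeBase E (FrobSch.relFrob f p ≫ pullback.snd f (FrobSch.frob S p))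
      (Der.app_comp_of_comp _ _ E)) V a

end Groth.Agent.H3.Om
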