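import Mathlib
import Groth.Prelude.Def_Omega4
import Groth.Prelude.Def_Coh
import Groth.Agent.Lib.Helper3.OmGrp1
import Groth.Agent.Lib.Helper3.OmCM5

set_option autoImplicit false
universe u
open CategoryTheory MonoidalCategory CartesianMonoidalCategory MonObj GrpObj Limits AlgebraicGeometry
open TopologicalSpace Opposite

namespace Groth.Agent.H3.Om

/-- in a cartesian monoidal category, `(g, h) ↦ (g⁻¹ h, g)` exhibits `G ⊗ G` as a product. -/
theorem isPullback_div {C : Type*} [Category C] [CartesianMonoidalCategory C] (G : C) [GrpObj G] :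
    IsPullback (lift (fst G G ≫ ι) (snd G G) ≫ μ) (fst G G) (toUnit G) (toUnit G) where
  w := toUnit_unique _ _
  isLimit' := ⟨PullbackCone.IsLimit.mk _
    (fun s => lift s.snd (lift s.snd s.fst ≫ μ))
    (fun s => by
      rw [comp_lift_assoc, ← Category.assoc, lift_fst, lift_snd, GrpObj.lift_inv_left_eq])
    (fun s => lift_fst _ _)
    (fun s m hm₁ hm₂ => by
      apply CartesianMonoidalCategory.hom_ext
      · rw [lift_fst]; exact hm₂
      · rw [lift_snd]
        rw [comp_lift_assoc, ← Category.assoc, GrpObj.lift_inv_left_eq] at hm₁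
        rw [hm₁, hm₂])⟩

instance final_opensMap {X Y : TopCat.{u}} (f : X ⟶ Y) : (Opens.map f).Final := by
  apply Functor.final_of_exists_of_isFiltered
  · intro U
    exact ⟨⊤, ⟨homOfLE le_top⟩⟩
  · intro U V s s'
    exact ⟨V, 𝟙 V, Subsingleton.elim _ _⟩

/-- the pullback of a free module is free. -/
noncomputable def pullbackFreeIso {X Y : Scheme.{u}} (g : X ⟶ Y) (I : Type u) :
    (Scheme.Modules.pullback g).obj (SheafOfModules.free I) ≅ SheafOfModules.free I :=
  SheafOfModules.pullbackObjFreeIso g.toRingCatSheafHom I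

/-- a quasi-coherent module on the spectrum of a field is free. -/
theorem exists_iso_free_of_isField (R : CommRingCat.{u}) (hR : IsField R) (M : (Spec R).Modules)
    [M.IsQuasicoherent] : ∃ I : Type u, Nonempty (M ≅ SheafOfModules.free I) := by
  letI := hR.toField
  let V : ModuleCat R := (modulesSpecToSheaf.obj M).presheaf.obj (.op ⊤)
  let b := Module.Free.chooseBasis R V
  let e : V ≅ ModuleCat.of R (Module.Free.ChooseBasisIndex R V →₀ R) :=
    b.repr.toModuleIso
  let i1 : M ≅ tilde V := (asIso M.fromTildeΓ).symm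
  let i2 : tilde V ≅ tilde (ModuleCat.of R
      (Module.Free.ChooseBasisIndex R V →₀ R)) := (tilde.functor R).mapIso e
  exact ⟨Module.Free.ChooseBasisIndex R V, ⟨i1 ≪≫ i2 ≪≫ tildeFinsupp _⟩⟩

/-- a quasi-coherent module on a scheme isomorphic to the spectrum of a field is free. -/
theorem exists_iso_free_of_iso_spec_field {S : Scheme.{u}} (K : Type u) [Field K]
    (θ : S ≅ Spec (CommRingCat.of K)) (C : S.Modules) [C.IsQuasicoherent] :
    ∃ I : Type u, Nonempty (C ≅ SheafOfModules.free I) := by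
  haveI : ((Scheme.Modules.pullback θ.inv).obj C).IsQuasicoherent :=
    Groth.Agent.LD.QC.qc_pullback θ.inv C
  obtain ⟨I, ⟨ε⟩⟩ := exists_iso_free_of_isField (CommRingCat.of K) (Field.toIsField K)
    ((Scheme.Modules.pullback θ.inv).obj C)
  exact ⟨I, ⟨(Scheme.Modules.pullbackId S).symm.app C ≪≫
    (Scheme.Modules.pullbackCongr θ.hom_inv_id.symm).app C ≪≫
    (Scheme.Modules.pullbackComp θ.hom θ.inv).symm.app C ≪≫
    (Scheme.Modules.pullback θ.hom).mapIso ε ≪≫ pullbackFreeIso θ.hom I⟩⟩

/-- **Ω of a group scheme is the pullback of the conormal sheaf of the unit section.** -/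
theorem nonempty_omega_iso_of_grpObj (S : Scheme.{u}) (G : Over S) [GrpObj G]
    [QuasiSeparated G.hom] :
    Nonempty (Omega.sheaf G.hom ≅
      (Scheme.Modules.pullback G.hom).obj (Omega.conormal η[G].left)) := by
  let ψ' : G ⊗ G ⟶ G := lift (fst G G ≫ ι) (snd G G) ≫ μ
  have h := (isPullback_div G).map (Over.forget S)
  have hψ : IsPullback ψ'.left (pullback.fst G.hom G.hom) G.hom G.hom := h
  have he : η[G].left ≫ G.hom = 𝟙 S := Over.w η[G]
  have hΔ : pullback.diagonal G.hom ≫ ψ'.left = G.hom ≫ η[G].left := by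
    have h1 : lift (𝟙 G) (𝟙 G) ≫ ψ' = toUnit G ≫ η := by
      simp only [ψ', comp_lift_assoc]
      rw [← Category.assoc, lift_fst, lift_snd, Category.id_comp]
      exact GrpObj.left_inv G
    exact congrArg CommaMorphism.left h1
  exact nonempty_omega_iso_pullback_conormal G.hom G.hom η[G].left he ψ'.left hψ hΔ

/-- over a field, `Ω_{G/S}` is free. -/
theorem exists_omega_iso_free_of_grpObj (S : Scheme.{u}) (G : Over S) [GrpObj G]
    [QuasiSeparated G.hom] (K : Type u) [Field K] (hS : Nonempty (S ≅ Spec (CommRingCat.of K))) :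
    ∃ I : Type u, Nonempty (Omega.sheaf G.hom ≅ ∐ fun _ : I => Coh.structureModule G.left) := by
  obtain ⟨θ⟩ := hS
  obtain ⟨κ⟩ := nonempty_omega_iso_of_grpObj S G
  obtain ⟨I, ⟨ε⟩⟩ := exists_iso_free_of_iso_spec_field K θ (Omega.conormal η[G].left)
  exact ⟨I, ⟨κ ≪≫ (Scheme.Modules.pullback G.hom).mapIso ε ≪≫ pullbackFreeIso G.hom I⟩⟩

end Groth.Agent.H3.Om
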