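import Mathlib

set_option autoImplicit false
open TensorProduct KaehlerDifferential

namespace Groth.Agent.H3.Om

section
variable (R A B C : Type*) [CommRing R] [CommRing A] [CommRing B] [CommRing C]
  [Algebra R A] [Algebra R B] [Algebra R C] [Algebra A C] [Algebra B C]
  [IsScalarTower R A C] [IsScalarTower R B C]

/-- `Ω[C/R] → Ω[C/A]` composed with `C ⊗[B] Ω[B/R] → Ω[C/R]` is the base change isomorphism. -/
theorem map_comp_mapBaseChange_eq [Algebra.IsPushout R A B C] (y : C ⊗[B] Ω[B⁄R]) :
    KaehlerDifferential.map R A C C (KaehlerDifferential.mapBaseChange R B C y) =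
      KaehlerDifferential.tensorKaehlerEquiv R A B C y := by
  induction y with
  | zero => simp
  | add y y' h h' => rw [map_add, map_add, map_add, h, h']
  | tmul c ω =>
    have hω : ω ∈ Submodule.span B (Set.range (KaehlerDifferential.D R B)) := by
      rw [KaehlerDifferential.span_range_derivation]; trivial
    induction hω using Submodule.span_induction with
    | mem ω hω =>
      obtain ⟨b, rfl⟩ := hω
      rw [KaehlerDifferential.mapBaseChange_tmul, KaehlerDifferential.map_D, map_smul,
        KaehlerDifferential.map_D, KaehlerDifferential.tensorKaehlerEquiv_tmul_D]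
      rfl
    | zero => simp
    | add ω ω' _ _ h h' => rw [TensorProduct.tmul_add, map_add, map_add, map_add, h, h']
    | smul b ω _ h =>
      have e : c ⊗ₜ[B] (b • ω) = (algebraMap B C b) • (c ⊗ₜ[B] ω) := by
        rw [← TensorProduct.smul_tmul, TensorProduct.smul_tmul', Algebra.smul_def, smul_eq_mul]
      rw [e, map_smul, map_smul, map_smul, h]

/-- **Differentials of a product**: for `C = A ⊗[R] B`,
`(C ⊗[A] Ω[A/R]) × (C ⊗[B] Ω[B/R]) → Ω[C/R]` is bijective. -/
theorem coprod_mapBaseChange_bijective [Algebra.IsPushout R A B C] :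
    Function.Bijective (LinearMap.coprod (KaehlerDifferential.mapBaseChange R A C)
      (KaehlerDifferential.mapBaseChange R B C)) := by
  haveI : Algebra.IsPushout R B A C := Algebra.IsPushout.symm inferInstance
  have hA0 : ∀ x : C ⊗[A] Ω[A⁄R], KaehlerDifferential.map R A C C
      (KaehlerDifferential.mapBaseChange R A C x) = 0 := fun x =>
    (KaehlerDifferential.exact_mapBaseChange_map R A C _).2 ⟨x, rfl⟩
  have hB0 : ∀ y : C ⊗[B] Ω[B⁄R], KaehlerDifferential.map R B C C
      (KaehlerDifferential.mapBaseChange R B C y) = 0 := fun y =>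
    (KaehlerDifferential.exact_mapBaseChange_map R B C _).2 ⟨y, rfl⟩
  constructor
  · rw [injective_iff_map_eq_zero]
    rintro ⟨x, y⟩ hxy
    rw [LinearMap.coprod_apply] at hxy
    have h1 := congrArg (KaehlerDifferential.map R A C C) hxy
    rw [map_add, hA0, zero_add, map_zero, map_comp_mapBaseChange_eq,
      LinearEquiv.map_eq_zero_iff] at h1
    have h2 := congrArg (KaehlerDifferential.map R B C C) hxy
    rw [map_add, hB0, add_zero, map_zero, map_comp_mapBaseChange_eq,
      LinearEquiv.map_eq_zero_iff] at h2
    exact Prod.ext h2 h1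
  · intro ω
    let y := (KaehlerDifferential.tensorKaehlerEquiv R A B C).symm
      (KaehlerDifferential.map R A C C ω)
    have h1 : KaehlerDifferential.map R A C C
        (ω - KaehlerDifferential.mapBaseChange R B C y) = 0 := by
      rw [map_sub, map_comp_mapBaseChange_eq, LinearEquiv.apply_symm_apply, sub_self]
    obtain ⟨x, hx⟩ := (KaehlerDifferential.exact_mapBaseChange_map R A C _).1 h1
    refine ⟨(x, y), ?_⟩
    rw [LinearMap.coprod_apply, hx]
    abel

end

end Groth.Agent.H3.Om
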