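import Mathlib
import Groth.Prelude.Def_Omega3
import Groth.Agent.Lib.Helper3.OmBC
import Groth.Agent.Lib.Helper3.OmProdRing
import Groth.Agent.Lib.Lead.SC.Efface
import Groth.Agent.Lib.Lead.QC.BiprodSec

set_option autoImplicit false
universe u
open AlgebraicGeometry CategoryTheory TopologicalSpace Opposite CategoryTheory.Limits TensorProduct

namespace Groth.Agent.H3.Om

/-- differentials of a product, on a product chart -/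
theorem app_bijective_prod {X Y S Z : Scheme.{u}} {a : X ⟶ S} {b : Y ⟶ S}
    {p : Z ⟶ X} {q : Z ⟶ Y} (hZ : IsPullback p q a b)
    {ΩX : X.Modules} {dX : OmegaSh.Der a ΩX} (hX : OmegaSh.IsUniversal dX)
    {ΩY : Y.Modules} {dY : OmegaSh.Der b ΩY} (hY : OmegaSh.IsUniversal dY)
    {ΩZ : Z.Modules} {dZ : OmegaSh.Der (p ≫ a) ΩZ} (hZu : OmegaSh.IsUniversal dZ)
    {c₁ : (Scheme.Modules.pullback p).obj ΩX ⟶ ΩZ} (hc₁ : OmegaSh.IsDiffCompat p dX dZ c₁)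
    {c₂ : (Scheme.Modules.pullback q).obj ΩY ⟶ ΩZ} (hc₂ : OmegaSh.IsDiffCompat q dY dZ c₂)
    {U : X.Opens} (hU : IsAffineOpen U) {V : Y.Opens} (hV : IsAffineOpen V)
    {W : S.Opens} (hW : IsAffineOpen W) (eU : U ≤ a ⁻¹ᵁ W) (eV : V ≤ b ⁻¹ᵁ W) :
    Function.Bijective ((biprod.desc c₁ c₂).app (p ⁻¹ᵁ U ⊓ q ⁻¹ᵁ V)) := by
  have hN := isAffineOpen_prodChart hZ hU hW hV eU eV
  have hpo := isPushout_prodChart hZ hU hW hV eU eV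
  have eN : p ⁻¹ᵁ U ⊓ q ⁻¹ᵁ V ≤ (p ≫ a) ⁻¹ᵁ W := fun y hy => eU hy.1
  letI := (a.appLE W U eU).hom.toAlgebra
  letI := (b.appLE W V eV).hom.toAlgebra
  letI := (p.appLE U (p ⁻¹ᵁ U ⊓ q ⁻¹ᵁ V) inf_le_left).hom.toAlgebra
  letI := (q.appLE V (p ⁻¹ᵁ U ⊓ q ⁻¹ᵁ V) inf_le_right).hom.toAlgebra
  letI := ((p ≫ a).appLE W (p ⁻¹ᵁ U ⊓ q ⁻¹ᵁ V) eN).hom.toAlgebra
  have tA : a.appLE W U eU ≫ p.appLE U (p ⁻¹ᵁ U ⊓ q ⁻¹ᵁ V) inf_le_left =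
      (p ≫ a).appLE W (p ⁻¹ᵁ U ⊓ q ⁻¹ᵁ V) eN :=
    Scheme.Hom.appLE_comp_appLE p a W U _ eU inf_le_left
  haveI : IsScalarTower Γ(S, W) Γ(X, U) Γ(Z, p ⁻¹ᵁ U ⊓ q ⁻¹ᵁ V) :=
    IsScalarTower.of_algebraMap_eq' (congrArg CommRingCat.Hom.hom tA.symm)
  haveI : IsScalarTower Γ(S, W) Γ(Y, V) Γ(Z, p ⁻¹ᵁ U ⊓ q ⁻¹ᵁ V) :=
    IsScalarTower.of_algebraMap_eq' (congrArg CommRingCat.Hom.hom (tA.symm.trans hpo.w))
  haveI hP : Algebra.IsPushout Γ(S, W) Γ(X, U) Γ(Y, V) Γ(Z, p ⁻¹ᵁ U ⊓ q ⁻¹ᵁ V) :=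
    CommRingCat.isPushout_iff_isPushout.1 hpo
  obtain ⟨εZ, hεZ⟩ := exists_linearEquiv_sections hZu hN hW eN
  obtain ⟨Φ₁, hΦ₁⟩ := sq_chart hX hc₁ hU hW eU hN inf_le_left
  obtain ⟨Φ₂, hΦ₂⟩ := sq_chart hY hc₂ hV hW eV hN inf_le_right
  have k₁ := hΦ₁ (εZ.toLinearMap ∘ₗ KaehlerDifferential.mapBaseChange Γ(S, W) Γ(X, U)
    Γ(Z, p ⁻¹ᵁ U ⊓ q ⁻¹ᵁ V)) (fun s => by
      rw [LinearMap.comp_apply, KaehlerDifferential.mapBaseChange_tmul, one_smul,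
        KaehlerDifferential.map_D]
      exact hεZ _)
  have k₂ := hΦ₂ (εZ.toLinearMap ∘ₗ KaehlerDifferential.mapBaseChange Γ(S, W) Γ(Y, V)
    Γ(Z, p ⁻¹ᵁ U ⊓ q ⁻¹ᵁ V)) (fun s => by
      rw [LinearMap.comp_apply, KaehlerDifferential.mapBaseChange_tmul, one_smul,
        KaehlerDifferential.map_D]
      exact hεZ _)
  have hbij := coprod_mapBaseChange_bijective Γ(S, W) Γ(X, U) Γ(Y, V) Γ(Z, p ⁻¹ᵁ U ⊓ q ⁻¹ᵁ V)
  have hdesc : ∀ t, (biprod.desc c₁ c₂).app (p ⁻¹ᵁ U ⊓ q ⁻¹ᵁ V) t =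
      εZ (LinearMap.coprod
        (KaehlerDifferential.mapBaseChange Γ(S, W) Γ(X, U) Γ(Z, p ⁻¹ᵁ U ⊓ q ⁻¹ᵁ V))
        (KaehlerDifferential.mapBaseChange Γ(S, W) Γ(Y, V) Γ(Z, p ⁻¹ᵁ U ⊓ q ⁻¹ᵁ V))
        (Φ₁.symm ((biprod.fst : _ ⊞ _ ⟶ (Scheme.Modules.pullback p).obj ΩX).app _ t),
         Φ₂.symm ((biprod.snd : _ ⊞ _ ⟶ (Scheme.Modules.pullback q).obj ΩY).app _ t))) := by
    intro t
    rw [LinearMap.coprod_apply, map_add]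
    have e₁ := k₁ (Φ₁.symm ((biprod.fst : _ ⊞ _ ⟶ (Scheme.Modules.pullback p).obj ΩX).app _ t))
    have e₂ := k₂ (Φ₂.symm ((biprod.snd : _ ⊞ _ ⟶ (Scheme.Modules.pullback q).obj ΩY).app _ t))
    rw [LinearEquiv.apply_symm_apply, LinearMap.comp_apply] at e₁ e₂
    rw [biprod.desc_eq, Groth.Agent.LD.QC.add_app', Groth.Agent.LD.QC.comp_app',
      Groth.Agent.LD.QC.comp_app', e₁, e₂]
    rfl
  constructor
  · intro t t' htt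
    rw [hdesc, hdesc] at htt
    have := hbij.1 (εZ.injective htt)
    have h1 := Φ₁.symm.injective (congrArg Prod.fst this)
    have h2 := Φ₂.symm.injective (congrArg Prod.snd this)
    exact Groth.Agent.LD.QC.bext _ _ _ h1 h2
  · intro ω
    obtain ⟨⟨x, y⟩, hxy⟩ := hbij.2 (εZ.symm ω)
    refine ⟨Groth.Agent.LD.QC.bmk _ _ _ (Φ₁ x) (Φ₂ y), ?_⟩
    rw [hdesc, Groth.Agent.LD.QC.bfst_bmk, Groth.Agent.LD.QC.bsnd_bmk,
      LinearEquiv.symm_apply_apply, LinearEquiv.symm_apply_apply, hxy,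
      LinearEquiv.apply_symm_apply]

end Groth.Agent.H3.Om

namespace Groth.Agent.H3.Om

/-- S5023: differentials of a fibre product -/
theorem isIso_coprod_desc_of_isPullback {X Y S Z : Scheme.{u}} (a : X ⟶ S) (b : Y ⟶ S)
    (p : Z ⟶ X) (q : Z ⟶ Y) (h : Z ⟶ S) (wp : p ≫ a = h) (hZ : IsPullback p q a b)
    {ΩX : X.Modules} {dX : OmegaSh.Der a ΩX} (hX : OmegaSh.IsUniversal dX)
    {ΩY : Y.Modules} {dY : OmegaSh.Der b ΩY} (hY : OmegaSh.IsUniversal dY)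
    {ΩZ : Z.Modules} {dZ : OmegaSh.Der h ΩZ} (hZu : OmegaSh.IsUniversal dZ)
    {c₁ : (Scheme.Modules.pullback p).obj ΩX ⟶ ΩZ} (hc₁ : OmegaSh.IsDiffCompat p dX dZ c₁)
    {c₂ : (Scheme.Modules.pullback q).obj ΩY ⟶ ΩZ} (hc₂ : OmegaSh.IsDiffCompat q dY dZ c₂) :
    IsIso (coprod.desc c₁ c₂) := by
  subst wp
  haveI := isQuasicoherent_of_isUniversal hX
  haveI := isQuasicoherent_of_isUniversal hY
  haveI := isQuasicoherent_of_isUniversal hZu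
  have q1 : ((Scheme.Modules.pullback p).obj ΩX).IsQuasicoherent :=
    Groth.Agent.LD.QC.qc_pullback p ΩX
  have q2 : ((Scheme.Modules.pullback q).obj ΩY).IsQuasicoherent :=
    Groth.Agent.LD.QC.qc_pullback q ΩY
  haveI : ((Scheme.Modules.pullback p).obj ΩX ⊞ (Scheme.Modules.pullback q).obj ΩY).IsQuasicoherent :=
    Groth.Agent.LD.SC.qc_biprod _ _ q1 q2
  have hb : IsIso (biprod.desc c₁ c₂) := by
    apply isIso_of_bijective_affine_cover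
    intro z
    obtain ⟨_, ⟨W, hW : IsAffineOpen W, rfl⟩, hxW, -⟩ :=
      S.isBasis_affineOpens.exists_subset_of_mem_open (Set.mem_univ (a (p z))) isOpen_univ
    obtain ⟨_, ⟨U, hU : IsAffineOpen U, rfl⟩, hxU, hUW⟩ :=
      X.isBasis_affineOpens.exists_subset_of_mem_open
        (show p z ∈ ((a ⁻¹ᵁ W : X.Opens) : Set X) from hxW) (a ⁻¹ᵁ W).2
    have hx2 : b (q z) ∈ W := by
      have := congrArg (fun φ : Z ⟶ S => φ z) hZ.w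
      simp only [Scheme.Hom.comp_apply] at this
      rw [← this]; exact hxW
    obtain ⟨_, ⟨V, hV : IsAffineOpen V, rfl⟩, hxV, hVW⟩ :=
      Y.isBasis_affineOpens.exists_subset_of_mem_open
        (show q z ∈ ((b ⁻¹ᵁ W : Y.Opens) : Set Y) from hx2) (b ⁻¹ᵁ W).2
    exact ⟨p ⁻¹ᵁ U ⊓ q ⁻¹ᵁ V, isAffineOpen_prodChart hZ hU hW hV hUW hVW, ⟨hxU, hxV⟩,
      app_bijective_prod hZ hX hY hZu hc₁ hc₂ hU hV hW hUW hVW⟩
  have e : coprod.desc c₁ c₂ = (biprod.isoCoprod _ _).inv ≫ biprod.desc c₁ c₂ := by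
    apply coprod.hom_ext
    · rw [coprod.inl_desc, biprod.isoCoprod_inv, ← Category.assoc, coprod.inl_desc, biprod.inl_desc]
    · rw [coprod.inr_desc, biprod.isoCoprod_inv, ← Category.assoc, coprod.inr_desc, biprod.inr_desc]
  rw [e]
  infer_instance

end Groth.Agent.H3.Om
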