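import Mathlib
import Groth.Prelude.Def_Omega3
import Groth.Agent.Lib.Helper3.OmCompat
import Groth.Agent.Lib.Helper3.OmChart
import Groth.Agent.Lib.Helper3.OmId
import Groth.Agent.Lib.Helper3.OmSq3
import Groth.Agent.Lib.Helper3.OmST

set_option autoImplicit false
universe u
open AlgebraicGeometry CategoryTheory TopologicalSpace Opposite CategoryTheory.Limits TensorProduct

namespace Groth.Agent.H3.Om

/-- a retraction `g` of `i` over `S` gives a section of `c : i^*Ω_X → Ω_Z`. -/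
theorem exists_section_of_retract {Z X S : Scheme.{u}} (f : X ⟶ S) (i : Z ⟶ X) (g : X ⟶ Z)
    (hgi : i ≫ g = 𝟙 Z) (hgS : g ≫ i ≫ f = f)
    {ΩX : X.Modules} {dX : OmegaSh.Der f ΩX}
    {ΩZ : Z.Modules} {dZ : OmegaSh.Der (i ≫ f) ΩZ} (hZ : OmegaSh.IsUniversal dZ)
    {c : (Scheme.Modules.pullback i).obj ΩX ⟶ ΩZ} (hc : OmegaSh.IsDiffCompat i dX dZ c) :
    ∃ σ : ΩZ ⟶ (Scheme.Modules.pullback i).obj ΩX, σ ≫ c = 𝟙 ΩZ := by
  have hsq : f ≫ 𝟙 S = g ≫ (i ≫ f) := by rw [Category.comp_id, hgS]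
  obtain ⟨cg, hcg, -⟩ := existsUnique_isDiffCompat g (𝟙 S) hsq hZ dX
  replace hcg : OmegaSh.IsDiffCompat g dZ dX cg := hcg
  let σ : ΩZ ⟶ (Scheme.Modules.pullback i).obj ΩX :=
    (Scheme.Modules.pullbackId Z).inv.app ΩZ ≫
      (Scheme.Modules.pullbackCongr hgi.symm).hom.app ΩZ ≫
      (Scheme.Modules.pullbackComp i g).inv.app ΩZ ≫ (Scheme.Modules.pullback i).map cg
  refine ⟨σ, ?_⟩
  have hgi' : ∀ y : Z, g (i y) = y := fun y => by
    have := congrArg (fun φ : Z ⟶ Z => φ y) hgi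
    simp only [Scheme.Hom.comp_apply] at this
    exact this
  have key : ∀ (V : Z.Opens) (b : Γ(Z, V)), (σ ≫ c).app V (dZ.app V b) = dZ.app V b := by
    intro V b
    have eW : V ≤ i ⁻¹ᵁ (g ⁻¹ᵁ V) := fun y hy => by
      change g (i y) ∈ V
      rw [hgi']; exact hy
    have eWV : V ≤ (i ≫ g) ⁻¹ᵁ V := eW
    have eI : V ≤ (𝟙 Z) ⁻¹ᵁ V := le_refl V
    have e1 : ((Scheme.Modules.pullbackId Z).inv.app ΩZ).app V (dZ.app V b) =
        Groth.Agent.LD.QC.pbSec (𝟙 Z) ΩZ eI (dZ.app V b) :=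
      (pullbackId_inv_app ΩZ V (dZ.app V b)).trans (pbSec_le_rfl (𝟙 Z) ΩZ V _).symm
    have e2 : ((Scheme.Modules.pullbackCongr hgi.symm).hom.app ΩZ).app V
        (Groth.Agent.LD.QC.pbSec (𝟙 Z) ΩZ eI (dZ.app V b)) =
        Groth.Agent.LD.QC.pbSec (i ≫ g) ΩZ eWV (dZ.app V b) :=
      Groth.Agent.LD.QC.pbSec_congr hgi.symm ΩZ _ eWV (dZ.app V b)
    have e3 : ((Scheme.Modules.pullbackComp i g).inv.app ΩZ).app V
        (Groth.Agent.LD.QC.pbSec (i ≫ g) ΩZ eWV (dZ.app V b)) =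
        Groth.Agent.LD.QC.pbSec i ((Scheme.Modules.pullback g).obj ΩZ) eW
          (Groth.Agent.LD.QC.pbSec g ΩZ (le_refl (g ⁻¹ᵁ V)) (dZ.app V b)) :=
      Groth.Agent.LD.QC.pbSec_comp i g ΩZ eW (le_refl _) eWV (dZ.app V b)
    have e4 : ((Scheme.Modules.pullback i).map cg).app V
        (Groth.Agent.LD.QC.pbSec i ((Scheme.Modules.pullback g).obj ΩZ) eW
          (Groth.Agent.LD.QC.pbSec g ΩZ (le_refl (g ⁻¹ᵁ V)) (dZ.app V b))) =
        Groth.Agent.LD.QC.pbSec i ΩX eW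
          (dX.app (g ⁻¹ᵁ V) (g.appLE V (g ⁻¹ᵁ V) (le_refl _) b)) := by
      rw [Groth.Agent.LD.QC.pbSec_naturality, IsDiffCompat.app_pbSec hcg]
    have e5 := IsDiffCompat.app_pbSec hc eW (g.appLE V (g ⁻¹ᵁ V) (le_refl _) b)
    have e6 : i.appLE (g ⁻¹ᵁ V) V eW (g.appLE V (g ⁻¹ᵁ V) (le_refl _) b) = b := by
      have := Scheme.Hom.appLE_comp_appLE i g V (g ⁻¹ᵁ V) V (le_refl _) eW
      have h2 : (i ≫ g).appLE V V eWV = 𝟙 _ := by
        have : ∀ (φ : Z ⟶ Z) (h : φ = 𝟙 Z) (e : V ≤ φ ⁻¹ᵁ V), φ.appLE V V e = 𝟙 _ := by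
          intro φ h e
          subst h
          rw [Scheme.Hom.appLE, Scheme.Hom.id_app]
          exact (Category.id_comp _).trans (Z.presheaf.map_id _)
        exact this _ hgi _
      exact congrArg (fun ψ => ψ.hom b) (this.trans h2)
    change c.app V (((Scheme.Modules.pullback i).map cg).app V
      (((Scheme.Modules.pullbackComp i g).inv.app ΩZ).app V
        (((Scheme.Modules.pullbackCongr hgi.symm).hom.app ΩZ).app V
          (((Scheme.Modules.pullbackId Z).inv.app ΩZ).app V (dZ.app V b))))) = _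
    rw [e1, e2, e3, e4, e5, e6]
  obtain ⟨α, -, huniq⟩ := hZ ΩZ dZ
  have h1 : σ ≫ c = α := huniq _ (by
    apply Der.ext'
    intro V b
    rw [Der.postcomp_app]
    exact key V b)
  have h2 : 𝟙 ΩZ = α := huniq _ (Der.postcomp_id dZ)
  rw [h1, h2]

end Groth.Agent.H3.Om
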