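import Mathlib
import Groth.Prelude.Def_Omega3
import Groth.Agent.Lib.Helper3.OmSeq1

set_option autoImplicit false
universe u
open AlgebraicGeometry CategoryTheory TopologicalSpace Opposite CategoryTheory.Limits TensorProduct

namespace Groth.Agent.H3.Om

variable {X Y S : Scheme.{u}}

/-- version of `tri_app_eq_mapBaseChange` with a prescribed identification `εX`. -/
theorem tri_app_eq_mapBaseChange' (g : Y ⟶ S) (f : X ⟶ Y)
    {ΩY : Y.Modules} {dY : OmegaSh.Der g ΩY} (hY : OmegaSh.IsUniversal dY)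
    {ΩX : X.Modules} {dX : OmegaSh.Der (f ≫ g) ΩX}
    {c : (Scheme.Modules.pullback f).obj ΩY ⟶ ΩX} (hc : OmegaSh.IsDiffCompat f dY dX c)
    {U : X.Opens} {V : Y.Opens} {W : S.Opens} (hU : IsAffineOpen U) (hV : IsAffineOpen V)
    (hW : IsAffineOpen W) (eU : U ≤ f ⁻¹ᵁ V) (eV : V ≤ g ⁻¹ᵁ W) :
    letI := (g.appLE W V eV).hom.toAlgebra
    letI := (f.appLE V U eU).hom.toAlgebra
    letI := ((f ≫ g).appLE W U (fun y hy => eV (eU hy))).hom.toAlgebra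
    ∀ (_ : IsScalarTower Γ(S, W) Γ(Y, V) Γ(X, U))
      (εX : Ω[Γ(X, U)⁄Γ(S, W)] ≃ₗ[Γ(X, U)] Γ(ΩX, U))
      (_ : ∀ s, εX (KaehlerDifferential.D Γ(S, W) Γ(X, U) s) = dX.app U s),
      ∃ (Φ : Γ(X, U) ⊗[Γ(Y, V)] Ω[Γ(Y, V)⁄Γ(S, W)] ≃ₗ[Γ(X, U)]
        Γ((Scheme.Modules.pullback f).obj ΩY, U)),
      ∀ t, c.app U (Φ t) = εX (KaehlerDifferential.mapBaseChange Γ(S, W) Γ(Y, V) Γ(X, U) t) := by
  have eUW : U ≤ (f ≫ g) ⁻¹ᵁ W := fun y hy => eV (eU hy)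
  letI := (g.appLE W V eV).hom.toAlgebra
  letI := (f.appLE V U eU).hom.toAlgebra
  letI := ((f ≫ g).appLE W U eUW).hom.toAlgebra
  intro hT εX hεX
  haveI := isQuasicoherent_of_isUniversal hY
  obtain ⟨εY, hεY⟩ := exists_linearEquiv_sections hY hV hW eV
  letI := Groth.Agent.LD.QC.pbModule f ΩY eU
  haveI := Groth.Agent.LD.QC.pbModule_isScalarTower f ΩY eU
  have hbc := Groth.Agent.LD.QC.isBaseChange_pbSec f hU hV eU ΩY
  let Φ : Γ(X, U) ⊗[Γ(Y, V)] Ω[Γ(Y, V)⁄Γ(S, W)] ≃ₗ[Γ(X, U)]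
      Γ((Scheme.Modules.pullback f).obj ΩY, U) :=
    (TensorProduct.AlgebraTensorModule.congr (LinearEquiv.refl Γ(X, U) Γ(X, U)) εY) ≪≫ₗ hbc.equiv
  have hΦ : ∀ (b : Γ(X, U)) (ω : Ω[Γ(Y, V)⁄Γ(S, W)]),
      Φ (b ⊗ₜ ω) = b • Groth.Agent.LD.QC.pbSec f ΩY eU (εY ω) := by
    intro b ω
    change hbc.equiv (b ⊗ₜ εY ω) = _
    rw [IsBaseChange.equiv_tmul]
    rfl
  have key : ∀ ω : Ω[Γ(Y, V)⁄Γ(S, W)], c.app U (Groth.Agent.LD.QC.pbSec f ΩY eU (εY ω)) =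
      εX (KaehlerDifferential.map Γ(S, W) Γ(S, W) Γ(Y, V) Γ(X, U) ω) := by
    intro ω
    have hω : ω ∈ Submodule.span Γ(Y, V) (Set.range (KaehlerDifferential.D Γ(S, W) Γ(Y, V))) := by
      rw [KaehlerDifferential.span_range_derivation]; trivial
    induction hω using Submodule.span_induction with
    | mem ω hω =>
      obtain ⟨a, rfl⟩ := hω
      rw [hεY, IsDiffCompat.app_pbSec hc eU a, KaehlerDifferential.map_D, hεX]
      rfl
    | zero =>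
      rw [map_zero, Groth.Agent.LD.QC.pbSec_zero, map_zero, map_zero, map_zero]
    | add ω ω' _ _ h h' =>
      rw [map_add, Groth.Agent.LD.QC.pbSec_add, map_add, h, h', map_add, map_add]
    | smul a ω _ h =>
      rw [map_smul, Groth.Agent.LD.QC.pbSec_smul, Scheme.Modules.Hom.app_smul, h, map_smul,
        ← algebraMap_smul Γ(X, U) a, map_smul]
      rfl
  refine ⟨Φ, fun t => ?_⟩
  induction t with
  | zero => rw [map_zero, map_zero, map_zero, map_zero]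
  | add t t' h h' => rw [map_add, map_add, h, h', map_add, map_add]
  | tmul b ω =>
    rw [hΦ, Scheme.Modules.Hom.app_smul, key, KaehlerDifferential.mapBaseChange_tmul, map_smul]

/-- chart description of `ψ : Ω_{X/Z} → Ω_{X/Y}`: it is `KaehlerDifferential.map`. -/
theorem idCompat_chart (f : X ⟶ Y) (g : Y ⟶ S)
    {ΩX : X.Modules} {dX : OmegaSh.Der (f ≫ g) ΩX}
    {ΩXY : X.Modules} {dXY : OmegaSh.Der f ΩXY}
    {c₂ : (Scheme.Modules.pullback (𝟙 X)).obj ΩX ⟶ ΩXY}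
    (hc₂ : OmegaSh.IsDiffCompat (𝟙 X) dX dXY c₂)
    {U : X.Opens} {V : Y.Opens} {W : S.Opens} (eU : U ≤ f ⁻¹ᵁ V) (eV : V ≤ g ⁻¹ᵁ W) :
    letI := (g.appLE W V eV).hom.toAlgebra
    letI := (f.appLE V U eU).hom.toAlgebra
    letI := ((f ≫ g).appLE W U (fun y hy => eV (eU hy))).hom.toAlgebra
    ∀ (_ : IsScalarTower Γ(S, W) Γ(Y, V) Γ(X, U))
      (εX : Ω[Γ(X, U)⁄Γ(S, W)] ≃ₗ[Γ(X, U)] Γ(ΩX, U))
      (_ : ∀ s, εX (KaehlerDifferential.D Γ(S, W) Γ(X, U) s) = dX.app U s)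
      (εXY : Ω[Γ(X, U)⁄Γ(Y, V)] ≃ₗ[Γ(X, U)] Γ(ΩXY, U))
      (_ : ∀ s, εXY (KaehlerDifferential.D Γ(Y, V) Γ(X, U) s) = dXY.app U s)
      (ω : Ω[Γ(X, U)⁄Γ(S, W)]),
      ((Scheme.Modules.pullbackId X).inv.app ΩX ≫ c₂).app U (εX ω) =
        εXY (KaehlerDifferential.map Γ(S, W) Γ(Y, V) Γ(X, U) Γ(X, U) ω) := by
  letI := (g.appLE W V eV).hom.toAlgebra
  letI := (f.appLE V U eU).hom.toAlgebra
  letI := ((f ≫ g).appLE W U (fun y hy => eV (eU hy))).hom.toAlgebra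
  intro hT εX hεX εXY hεXY ω
  have hω : ω ∈ Submodule.span Γ(X, U) (Set.range (KaehlerDifferential.D Γ(S, W) Γ(X, U))) := by
    rw [KaehlerDifferential.span_range_derivation]; trivial
  induction hω using Submodule.span_induction with
  | mem ω hω =>
    obtain ⟨s, rfl⟩ := hω
    rw [hεX, idCompat_app f g hc₂ U s, KaehlerDifferential.map_D, hεXY]
    rfl
  | zero => rw [map_zero, map_zero, map_zero, map_zero]
  | add ω ω' _ _ h h' => rw [map_add, map_add, h, h', map_add, map_add]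
  | smul b ω _ h => rw [map_smul, Scheme.Modules.Hom.app_smul, h, map_smul, map_smul]

end Groth.Agent.H3.Om
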