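import Mathlib
import Groth.Prelude.Def_Omega3
import Groth.Agent.Lib.Helper3.OmSeq2

set_option autoImplicit false
universe u
open AlgebraicGeometry CategoryTheory TopologicalSpace Opposite CategoryTheory.Limits TensorProduct

namespace Groth.Agent.H3.Om

variable {X Y Z : Scheme.{u}}

/-- S5975: the first fundamental exact sequence `f^*Ω_{Y/Z} → Ω_{X/Z} → Ω_{X/Y} → 0`. -/
theorem first_exact_sequence (f : X ⟶ Y) (g : Y ⟶ Z)
    {ΩY : Y.Modules} {dY : OmegaSh.Der g ΩY} (hY : OmegaSh.IsUniversal dY)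
    {ΩX : X.Modules} {dX : OmegaSh.Der (f ≫ g) ΩX} (hX : OmegaSh.IsUniversal dX)
    {ΩXY : X.Modules} {dXY : OmegaSh.Der f ΩXY} (hXY : OmegaSh.IsUniversal dXY)
    {c₁ : (Scheme.Modules.pullback f).obj ΩY ⟶ ΩX} (hc₁ : OmegaSh.IsDiffCompat f dY dX c₁)
    {c₂ : (Scheme.Modules.pullback (𝟙 X)).obj ΩX ⟶ ΩXY}
    (hc₂ : OmegaSh.IsDiffCompat (𝟙 X) dX dXY c₂) :
    Epi c₂ ∧
      imageSubobject c₁ = kernelSubobject ((Scheme.Modules.pullbackId X).inv.app ΩX ≫ c₂) := by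
  -- the chart data
  have chart : ∀ U ∈ chartBasis g f, ∃ (A : Type u) (_ : AddCommGroup A) (k : A → Γ(ΩX, U))
      (_ : ∀ a, ((Scheme.Modules.pullbackId X).inv.app ΩX ≫ c₂).app U (k a) = 0),
      (∀ t, ∃ a, c₁.app U t = k a) ∧ (∀ a, ∃ t, c₁.app U t = k a) ∧
      (∀ m, ((Scheme.Modules.pullbackId X).inv.app ΩX ≫ c₂).app U m = 0 → ∃ a, m = k a) ∧
      Function.Surjective (((Scheme.Modules.pullbackId X).inv.app ΩX ≫ c₂).app U) := by
    rintro U ⟨hU, V, W, hV, hW, eU, eV⟩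
    have eUW : U ≤ (f ≫ g) ⁻¹ᵁ W := fun y hy => eV (eU hy)
    letI := (g.appLE W V eV).hom.toAlgebra
    letI := (f.appLE V U eU).hom.toAlgebra
    letI := ((f ≫ g).appLE W U eUW).hom.toAlgebra
    haveI hT : IsScalarTower Γ(Z, W) Γ(Y, V) Γ(X, U) := by
      refine IsScalarTower.of_algebraMap_eq' ?_
      have := Scheme.Hom.appLE_comp_appLE f g W V U eV eU
      exact congrArg CommRingCat.Hom.hom this.symm
    obtain ⟨εX, hεX⟩ := exists_linearEquiv_sections hX hU hW eUW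
    obtain ⟨εXY, hεXY⟩ := exists_linearEquiv_sections hXY hU hV eU
    obtain ⟨Φ, hΦ⟩ := tri_app_eq_mapBaseChange' g f hY hc₁ hU hV hW eU eV hT εX hεX
    have hψ := idCompat_chart f g hc₂ eU eV hT εX hεX εXY hεXY
    have hex := KaehlerDifferential.exact_mapBaseChange_map Γ(Z, W) Γ(Y, V) Γ(X, U)
    refine ⟨Γ(X, U) ⊗[Γ(Y, V)] Ω[Γ(Y, V)⁄Γ(Z, W)], inferInstance,
      fun a => εX (KaehlerDifferential.mapBaseChange Γ(Z, W) Γ(Y, V) Γ(X, U) a), ?_, ?_, ?_, ?_, ?_⟩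
    · intro a
      rw [hψ, (hex _).2 ⟨a, rfl⟩, map_zero]
    · intro t
      obtain ⟨a, rfl⟩ := Φ.surjective t
      exact ⟨a, hΦ a⟩
    · intro a
      exact ⟨Φ a, hΦ a⟩
    · intro m hm
      obtain ⟨ω, rfl⟩ := εX.surjective m
      rw [hψ] at hm
      have h0 : KaehlerDifferential.map Γ(Z, W) Γ(Y, V) Γ(X, U) Γ(X, U) ω = 0 := by
        apply εXY.injective
        rw [hm, map_zero]
      obtain ⟨a, rfl⟩ := (hex ω).1 h0
      exact ⟨a, rfl⟩
    · intro m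
      obtain ⟨ω, rfl⟩ := εXY.surjective m
      obtain ⟨ω', rfl⟩ := KaehlerDifferential.map_surjective Γ(Z, W) Γ(Y, V) Γ(X, U) ω
      exact ⟨εX ω', hψ ω'⟩
  have hB := isBasis_chartBasis g f
  constructor
  · -- Epi c₂
    have hepi : Epi ((Scheme.Modules.pullbackId X).inv.app ΩX ≫ c₂) := by
      apply Groth.Agent.LD.QC.epi_of_local_lift
      intro N t x hxN
      obtain ⟨U, hUB, hxU, hUN⟩ := Opens.isBasis_iff_nbhd.1 hB hxN
      obtain ⟨A, _, k, hk0, h1, h2, h3, h4⟩ := chart U hUB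
      obtain ⟨s, hs⟩ := h4 (ΩXY.presheaf.map (homOfLE hUN).op t)
      exact ⟨U, hUN, hxU, s, hs⟩
    have : c₂ = (Scheme.Modules.pullbackId X).hom.app ΩX ≫
        ((Scheme.Modules.pullbackId X).inv.app ΩX ≫ c₂) := by
      rw [Iso.hom_inv_id_app_assoc]
    rw [this]
    infer_instance
  · have w : c₁ ≫ ((Scheme.Modules.pullbackId X).inv.app ΩX ≫ c₂) = 0 := by
      apply hom_ext_basis _ _ (chartBasis g f) hB
      intro U hUB s
      obtain ⟨A, _, k, hk0, h1, h2, h3, h4⟩ := chart U hUB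
      obtain ⟨a, ha⟩ := h1 s
      rw [Scheme.Modules.Hom.comp_app, ConcreteCategory.comp_apply, ha, hk0]
      rfl
    have hexact : (ShortComplex.mk c₁ ((Scheme.Modules.pullbackId X).inv.app ΩX ≫ c₂) w).Exact := by
      apply Groth.Agent.LD.QC.exact_of_local
      intro N t ht x hxN
      obtain ⟨U, hUB, hxU, hUN⟩ := Opens.isBasis_iff_nbhd.1 hB hxN
      obtain ⟨A, _, k, hk0, h1, h2, h3, h4⟩ := chart U hUB
      have ht0 : ((Scheme.Modules.pullbackId X).inv.app ΩX ≫ c₂).app N t = 0 := ht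
      have e := Groth.Agent.LD.QC.app_res ((Scheme.Modules.pullbackId X).inv.app ΩX ≫ c₂) hUN t
      have ht' : ((Scheme.Modules.pullbackId X).inv.app ΩX ≫ c₂).app U
          (ΩX.presheaf.map (homOfLE hUN).op t) = 0 := by
        refine e.trans ?_
        rw [ht0, map_zero]
      obtain ⟨a, ha⟩ := h3 _ ht'
      obtain ⟨s, hs⟩ := h2 a
      exact ⟨U, hUN, hxU, s, hs.trans ha.symm⟩
    exact (ShortComplex.exact_iff_image_eq_kernel _).1 hexact

end Groth.Agent.H3.Om
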