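import Mathlib
import Groth.Prelude.Def_Omega3
import Groth.Prelude.Def_MoreMor
import Groth.Agent.Lib.Helper3.OmSm1
import Groth.Agent.Lib.Helper3.OmFinOld
import Groth.Agent.Lib.Lead.QC.LocFree

set_option autoImplicit false
universe u
open AlgebraicGeometry CategoryTheory TopologicalSpace Opposite CategoryTheory.Limits

namespace Groth.Agent.H3.Om

variable {X Y : Scheme.{u}}

/-- S5018 -/
theorem isFinLocFree_of_formallySmooth {f : X ⟶ Y} (hf : MoreMor.IsFormallySmoothHom f)
    [LocallyOfFiniteType f] {Ω' : X.Modules} {d : OmegaSh.Der f Ω'} (hd : OmegaSh.IsUniversal d) :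
    FlatMod.IsFinLocFree Ω' := by
  haveI := isQuasicoherent_of_isUniversal hd
  have hft := isFiniteType_of_locallyOfFiniteType hd
  -- sections over good affines are finite projective
  have key : ∀ x : X, ∃ U : X.Opens, IsAffineOpen U ∧ x ∈ U ∧
      Module.FinitePresentation Γ(X, U) Γ(Ω', U) ∧ Module.Flat Γ(X, U) Γ(Ω', U) := by
    intro x
    obtain ⟨U, V, hU, hV, hxU, hUV⟩ := exists_affine_le_preimage f x
    refine ⟨U, hU, hxU, ?_⟩
    letI := (f.appLE V U hUV).hom.toAlgebra
    obtain ⟨ε, -⟩ := exists_linearEquiv_sections hd hU hV hUV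
    have h1 : Algebra.FiniteType Γ(Y, V) Γ(X, U) := LocallyOfFiniteType.finiteType_appLE f hV hU hUV
    have h2 : Algebra.FormallySmooth Γ(Y, V) Γ(X, U) := formallySmooth_appLE hf hU hV hUV
    have h3 : Module.Projective Γ(X, U) (Ω[Γ(X, U)⁄Γ(Y, V)]) := inferInstance
    have h4 : Module.Finite Γ(X, U) (Ω[Γ(X, U)⁄Γ(Y, V)]) := inferInstance
    have h5 : Module.FinitePresentation Γ(X, U) (Ω[Γ(X, U)⁄Γ(Y, V)]) :=
      Module.finitePresentation_of_projective _ _
    exact ⟨Module.FinitePresentation.of_equiv ε, Module.Flat.of_linearEquiv ε.symm⟩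
  have hfp : Ω'.IsFinitePresentation := by
    apply Groth.Agent.LD.QC.isFinitePresentation_of_sections
    intro x
    obtain ⟨U, hU, hxU, h1, -⟩ := key x
    exact ⟨U, hU, hxU, h1⟩
  apply Groth.Agent.LD.QC.isFinLocFree_of_free_stalks Ω' hfp
  intro x
  obtain ⟨U, hU, hxU, -, h2⟩ := key x
  exact Groth.Agent.LD.QC.free_stalk_of_flat_stalk Ω' hft x
    (Groth.Agent.LD.QC.flat_stalk_of_flat_sections Ω' hU x hxU h2)

end Groth.Agent.H3.Om
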