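import Mathlib

/-!
# Open subschemes as subobjects, and descent of open subschemes along fpqc morphisms
-/

set_option autoImplicit false

open CategoryTheory Limits AlgebraicGeometry

universe u

namespace Groth.Agent.H3.OpenSub

variable {X X' : Scheme.{u}}

/-- the underlying set of a subobject of a scheme -/
def rng (Y : Subobject X) : Set X := Set.range Y.arrow

lemma le_of_rng_subset (Y₁ Y₂ : Subobject X) [IsOpenImmersion Y₂.arrow] (h : rng Y₁ ⊆ rng Y₂) :
    Y₁ ≤ Y₂ :=
  Subobject.le_of_comm (IsOpenImmersion.lift Y₂.arrow Y₁.arrow h) (IsOpenImmersion.lift_fac _ _ _)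

lemma eq_of_rng_eq (Y₁ Y₂ : Subobject X) [IsOpenImmersion Y₁.arrow] [IsOpenImmersion Y₂.arrow]
    (h : rng Y₁ = rng Y₂) : Y₁ = Y₂ :=
  le_antisymm (le_of_rng_subset Y₁ Y₂ h.le) (le_of_rng_subset Y₂ Y₁ h.ge)

lemma rng_pullback (f : X ⟶ X') (Y' : Subobject X') :
    rng ((Subobject.pullback f).obj Y') = f ⁻¹' (rng Y') := by
  have := Scheme.image_preimage_eq_of_isPullback (Subobject.isPullback f Y') Set.univ
  simpa [rng, Set.image_univ] using this

lemma rng_mk {U : Scheme.{u}} (i : U ⟶ X) [Mono i] : rng (Subobject.mk i) = Set.range i := by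
  rw [rng, ← Subobject.underlyingIso_hom_comp_eq_mk i]
  have h2 : Set.range ((Subobject.underlyingIso i).hom) = Set.univ :=
    Set.range_eq_univ.mpr (Subobject.underlyingIso i).hom.surjective
  have h3 : ⇑((Subobject.underlyingIso i).hom ≫ i) = ⇑i ∘ ⇑(Subobject.underlyingIso i).hom := by
    funext x
    exact Scheme.Hom.comp_apply _ _ x
  rw [h3, Set.range_comp, h2, Set.image_univ]

lemma isOpenImmersion_pullback (f : X ⟶ X') (Y' : Subobject X') [h : IsOpenImmersion Y'.arrow] :
    IsOpenImmersion ((Subobject.pullback f).obj Y').arrow :=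
  MorphismProperty.of_isPullback (P := @IsOpenImmersion) (Subobject.isPullback f Y') h

lemma isOpenImmersion_mk {U : Scheme.{u}} (i : U ⟶ X) [IsOpenImmersion i] :
    IsOpenImmersion (Subobject.mk i).arrow := by
  rw [← Subobject.underlyingIso_hom_comp_eq_mk]
  infer_instance

/-- abstract form of S5235 -/
theorem bijOn_open (π : X ⟶ X') [Flat π] [Surjective π] [QuasiCompact π] :
    Set.BijOn (Subobject.pullback π).obj
      {Y' : Subobject X' | IsOpenImmersion Y'.arrow}
      {Y : Subobject X | IsOpenImmersion Y.arrow ∧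
        (Subobject.pullback (pullback.fst π π)).obj Y =
          (Subobject.pullback (pullback.snd π π)).obj Y} := by
  refine ⟨?_, ?_, ?_⟩
  · intro Y' hY'
    haveI : IsOpenImmersion Y'.arrow := hY'
    refine ⟨isOpenImmersion_pullback π Y', ?_⟩
    rw [← Subobject.pullback_comp, ← Subobject.pullback_comp, pullback.condition]
  · intro Y₁ h₁ Y₂ h₂ h
    haveI : IsOpenImmersion Y₁.arrow := h₁
    haveI : IsOpenImmersion Y₂.arrow := h₂
    apply eq_of_rng_eq
    have h' := congrArg rng h
    rw [rng_pullback, rng_pullback] at h'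
    exact π.surjective.preimage_injective h'
  · rintro Y ⟨hY, hst⟩
    haveI : IsOpenImmersion Y.arrow := hY
    have hU : IsOpen (rng Y) := Y.arrow.isOpenEmbedding.isOpen_range
    have hsat : π ⁻¹' (π '' rng Y) = rng Y := by
      apply subset_antisymm _ (Set.subset_preimage_image _ _)
      rintro x₂ ⟨x₁, hx₁, hx⟩
      obtain ⟨z, hz1, hz2⟩ := Scheme.Pullback.exists_preimage_pullback (f := π) (g := π) x₁ x₂ hx
      have h1 := congrArg rng hst
      rw [rng_pullback, rng_pullback] at h1
      have h2 : z ∈ (pullback.fst π π) ⁻¹' rng Y := by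
        rw [Set.mem_preimage, hz1]
        exact hx₁
      rw [h1, Set.mem_preimage, hz2] at h2
      exact h2
    have hV : IsOpen (π '' rng Y) := by
      rw [← (Flat.isQuotientMap_of_surjective π).isOpen_preimage, hsat]
      exact hU
    obtain ⟨V, hVdef⟩ : ∃ V : X'.Opens, (V : Set X') = π '' rng Y := ⟨⟨_, hV⟩, rfl⟩
    haveI := isOpenImmersion_mk V.ι
    refine ⟨Subobject.mk V.ι, isOpenImmersion_mk V.ι, ?_⟩
    haveI := isOpenImmersion_pullback π (Subobject.mk V.ι)
    apply eq_of_rng_eq
    rw [rng_pullback, rng_mk, Scheme.Opens.range_ι, hVdef]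
    exact hsat

end Groth.Agent.H3.OpenSub
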