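import Mathlib
import Groth.Agent.Lib.Helper3.OrbitQuot

/-!
# The kernel of the action on `G/H`
-/

set_option autoImplicit false

open CategoryTheory Limits MonoidalCategory CartesianMonoidalCategory MonObj AlgebraicGeometry

universe u

namespace Groth.Agent.H3.OrbitQuot

open Groth.Agent.H3.GrpQuot

variable {S : Scheme.{u}} {G H Q N : Over S} [GrpObj G] [GrpObj H] (i : H ⟶ G) [IsMonHom i]
  (a : AlgGrp.Action G Q) (o : 𝟙_ (Over S) ⟶ Q)
  (hkp : IsPullback (fst G H) ((G ◁ i) ≫ μ[G]) (a.orbitMap o) (a.orbitMap o))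
  (huee : UEE (Over S) (a.orbitMap o))
  [GrpObj N] (n : N ⟶ G) [IsMonHom n]
  (hN : ∀ (T : Over S) (g : T ⟶ G),
      (∃ m : T ⟶ N, m ≫ n = g) ↔
        ∀ (T' : Over S) (s : T' ⟶ T) (x : T' ⟶ Q), lift (s ≫ g) x ≫ a.act = x)

include hN in
omit [IsMonHom n] in
lemma kernel_normal : AlgGrp.IsNormalHom n := by
  intro T g m
  obtain ⟨m', hm'⟩ := (hN T (g * (m ≫ n) * g⁻¹)).2 (by
    intro T' s x
    have h1 := (hN T (m ≫ n)).1 ⟨m, rfl⟩ T' s (lift (s ≫ g)⁻¹ x ≫ a.act)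
    rw [MonObj.comp_mul, MonObj.comp_mul, GrpObj.comp_inv, AlgGrp.Action.lift_mul_act,
      AlgGrp.Action.lift_mul_act, h1, ← AlgGrp.Action.lift_mul_act, mul_inv_cancel,
      AlgGrp.Action.lift_one_act])
  exact ⟨m', hm'.symm⟩

include hkp hN in
omit [IsMonHom n] in
lemma kernel_le : ∃ f : N ⟶ H, f ≫ i = n := by
  have h1 : n ≫ a.orbitMap o = toUnit N ≫ o := by
    have := (hN N n).1 ⟨𝟙 N, Category.id_comp _⟩ N (𝟙 N) (toUnit N ≫ o)
    rw [Category.id_comp] at this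
    rw [AlgGrp.Action.comp_orbitMap, this]
  have h2 : (1 : N ⟶ G) ≫ a.orbitMap o = toUnit N ≫ o := by
    rw [AlgGrp.Action.comp_orbitMap, AlgGrp.Action.lift_one_act]
  obtain ⟨h, hh⟩ := (comp_π_eq_iff i (a.orbitMap o) hkp (1 : N ⟶ G) n).1 (h2.trans h1.symm)
  exact ⟨h, by rw [hh, _root_.one_mul]⟩

include hkp huee hN in
omit [IsMonHom n] in
lemma kernel_largest {N' : Over S} [GrpObj N'] (n' : N' ⟶ G) [IsMonHom n']
    (hn' : AlgGrp.IsNormalHom n') (hf : ∃ f : N' ⟶ H, f ≫ i = n') : ∃ f' : N' ⟶ N, f' ≫ n = n' := by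
  obtain ⟨f, hf⟩ := hf
  refine (hN N' n').2 ?_
  intro T' s x
  obtain ⟨T'', e, g, he, hx⟩ := UEE.exists_lift huee x
  rw [← cancel_epi e, ← Category.assoc, comp_lift, hx, AlgGrp.Action.comp_orbitMap,
    ← AlgGrp.Action.lift_mul_act, ← AlgGrp.Action.comp_orbitMap, ← AlgGrp.Action.comp_orbitMap]
  symm
  rw [comp_π_eq_iff i (a.orbitMap o) hkp]
  obtain ⟨m', hm'⟩ := hn' T'' g⁻¹ (e ≫ s)
  refine ⟨m' ≫ f, ?_⟩
  rw [Category.assoc, hf, ← hm', Category.assoc]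
  group

end Groth.Agent.H3.OrbitQuot
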