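import Mathlib
import Groth.Agent.Lib.Helper3.OrbitQuot

/-!
# Trivial torsors: pseudo-torsors with a section
-/

set_option autoImplicit false

open CategoryTheory Limits MonoidalCategory CartesianMonoidalCategory MonObj AlgebraicGeometry

universe u

namespace Groth.Agent.H3.OrbitQuot

variable {S : Scheme.{u}} {G X : Over S} [GrpObj G] (a : AlgGrp.Action G X)

/-- a pseudo-torsor with a section is equivariantly isomorphic to the trivial torsor -/
noncomputable def equivIsoOfSection (hps : IsIso (lift a.act (snd G X))) (x₀ : 𝟙_ (Over S) ⟶ X) :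
    NonAbH1.EquivIso (NonAbH1.trivialAction G) a where
  iso :=
    { hom := a.orbitMap x₀
      inv := lift (𝟙 X) (toUnit X ≫ x₀) ≫ inv (lift a.act (snd G X)) ≫ fst G X
      hom_inv_id := by
        have h1 : a.orbitMap x₀ ≫ lift (𝟙 X) (toUnit X ≫ x₀) =
            lift (𝟙 G) (toUnit G ≫ x₀) ≫ lift a.act (snd G X) := by
          apply CartesianMonoidalCategory.hom_ext
          · rw [Category.assoc, lift_fst, Category.comp_id, Category.assoc, lift_fst]
            rfl
          · rw [Category.assoc, lift_snd, Category.assoc, lift_snd, lift_snd, ← Category.assoc,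
              toUnit_unique (a.orbitMap x₀ ≫ toUnit X) (toUnit G)]
        rw [← Category.assoc, h1, Category.assoc, IsIso.hom_inv_id_assoc, lift_fst]
      inv_hom_id := by
        obtain ⟨w, hwdef⟩ : ∃ w, w = lift (𝟙 X) (toUnit X ≫ x₀) ≫ inv (lift a.act (snd G X)) :=
          ⟨_, rfl⟩
        have hw : w ≫ lift a.act (snd G X) = lift (𝟙 X) (toUnit X ≫ x₀) := by
          rw [hwdef, Category.assoc, IsIso.inv_hom_id, Category.comp_id]
        have hw1 : w ≫ a.act = 𝟙 X := by
          have := congrArg (fun t => t ≫ fst X X) hw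
          simpa using this
        have hw2 : w ≫ snd G X = toUnit X ≫ x₀ := by
          have := congrArg (fun t => t ≫ snd X X) hw
          simpa using this
        rw [← Category.assoc (lift (𝟙 X) (toUnit X ≫ x₀)), ← hwdef, AlgGrp.Action.comp_orbitMap,
          ← hw2, ← comp_lift, lift_fst_snd, Category.comp_id, hw1] }
  comm := by
    change μ[G] ≫ a.orbitMap x₀ = (G ◁ a.orbitMap x₀) ≫ a.act
    rw [whiskerLeft_orbitMap_act]

lemma isPseudoTorsor_of_equivIso (e : NonAbH1.EquivIso (NonAbH1.trivialAction G) a) :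
    IsIso (lift a.act (snd G X)) := by
  haveI h : IsIso (lift (NonAbH1.trivialAction G).act (snd G G)) :=
    NonAbH1.isPseudoTorsorSch_trivialAction G
  have hc : (NonAbH1.trivialAction G).act ≫ e.iso.hom = (G ◁ e.iso.hom) ≫ a.act := e.comm
  have : lift a.act (snd G X) = (G ◁ e.iso.inv) ≫ lift (NonAbH1.trivialAction G).act (snd G G) ≫
      (e.iso.hom ⊗ₘ e.iso.hom) := by
    apply CartesianMonoidalCategory.hom_ext
    · rw [lift_fst, Category.assoc, Category.assoc, tensorHom_fst, lift_fst_assoc, hc,
        ← MonoidalCategory.whiskerLeft_comp_assoc, e.iso.inv_hom_id, MonoidalCategory.whiskerLeft_id,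
        Category.id_comp]
    · rw [lift_snd, Category.assoc, Category.assoc, tensorHom_snd, lift_snd_assoc,
        whiskerLeft_snd_assoc, e.iso.inv_hom_id, Category.comp_id]
  rw [this]
  infer_instance

/-- abstract form of S6011 -/
theorem equivIso_trivialAction_iff :
    Nonempty (NonAbH1.EquivIso (NonAbH1.trivialAction G) a) ↔
      (NonAbH1.IsPseudoTorsorSch a ∧ NonAbH1.HasSectionOver X (𝟙 S)) := by
  constructor
  · rintro ⟨e⟩
    refine ⟨isPseudoTorsor_of_equivIso a e, (η[G] ≫ e.iso.hom).left, ?_⟩
    simp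
  · rintro ⟨hps, s, hs⟩
    exact ⟨equivIsoOfSection a hps (Over.homMk s (by simpa using hs))⟩

end Groth.Agent.H3.OrbitQuot
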