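import Mathlib
import Groth.Agent.Lib.Helper5.Segre.A

set_option autoImplicit false
universe u
open CategoryTheory CategoryTheory.Limits AlgebraicGeometry HomogeneousLocalization MvPolynomial

namespace Groth.Agent.H3.P0

variable (A : Type u) [CommRing A]

lemma X0_mem : (X 0 : MvPolynomial (Fin (0 + 1)) A) ∈ CohB1.polyGrading 0 A 1 :=
  isHomogeneous_X _ _

lemma eq_monomial_of_mem {n : ℕ} {g : MvPolynomial (Fin (0 + 1)) A}
    (hg : g ∈ CohB1.polyGrading 0 A n) :
    g = C (coeff (Finsupp.single 0 n) g) * X 0 ^ n := by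
  have hg' : g.IsHomogeneous n := hg
  ext d
  rw [C_mul_X_pow_eq_monomial, coeff_monomial]
  split_ifs with h
  · rw [h]
  · apply hg'.coeff_eq_zero
    intro hd
    apply h
    ext i
    have hi : i = 0 := Fin.fin_one_eq_zero i
    subst hi
    rw [Finsupp.single_eq_same, ← hd, Finsupp.degree_eq_sum]
    simp

lemma basicOpen_X0 : Proj.basicOpen (CohB1.polyGrading 0 A) (X 0) = ⊤ := by
  have h := Groth.Agent.H5.Segre.iSup_Dp 0 A
  rw [← h]
  have : ∀ i : Fin (0 + 1), Groth.Agent.H5.Segre.Dp 0 A i =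
      Proj.basicOpen (CohB1.polyGrading 0 A) (X 0) := by
    intro i
    have hi : i = 0 := Fin.fin_one_eq_zero i
    subst hi
    unfold Groth.Agent.H5.Segre.Dp Groth.Agent.H5.Segre.xi Groth.Agent.H5.Segre.ei
    rw [Groth.Agent.H2.PUP.ιPn_single]
  simp only [this]
  exact (ciSup_const).symm

end Groth.Agent.H3.P0

namespace Groth.Agent.H3.P0
variable (A : Type u) [CommRing A]

/-- the retraction `Away → A`, `X 0 ↦ 1`. -/
noncomputable def retr : Away (CohB1.polyGrading 0 A) (X 0) →+* A :=
  (IsLocalization.Away.lift (S := Localization.Away (X 0 : MvPolynomial (Fin (0 + 1)) A))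
    (X 0 : MvPolynomial (Fin (0 + 1)) A)
    (g := (MvPolynomial.eval (fun _ => (1 : A)))) (by simp)).comp
  (algebraMap (Away (CohB1.polyGrading 0 A) (X 0)) (Localization.Away (X 0 : MvPolynomial (Fin (0 + 1)) A)))

/-- the map `A → Away`. -/
noncomputable def phi : A →+* Away (CohB1.polyGrading 0 A) (X 0) :=
  (fromZeroRingHom (CohB1.polyGrading 0 A) _).comp (algebraMap A (CohB1.polyGrading 0 A 0))

lemma retr_phi (a : A) : retr A (phi A a) = a := by
  unfold retr phi
  simp only [RingHom.comp_apply]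
  have h1 : algebraMap (Away (CohB1.polyGrading 0 A) (X 0)) (Localization.Away (X 0 : MvPolynomial (Fin (0 + 1)) A))
      (fromZeroRingHom (CohB1.polyGrading 0 A) _ (algebraMap A (CohB1.polyGrading 0 A 0) a)) =
      algebraMap (MvPolynomial (Fin (0 + 1)) A) (Localization.Away (X 0 : MvPolynomial (Fin (0 + 1)) A)) (C a) := by
    rw [HomogeneousLocalization.algebraMap_apply]
    simp only [fromZeroRingHom, RingHom.coe_mk, MonoidHom.coe_mk, OneHom.coe_mk, val_mk]
    exact Localization.mk_one_eq_algebraMap _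
  rw [h1, IsLocalization.Away.lift_eq]
  simp

end Groth.Agent.H3.P0

namespace Groth.Agent.H3.P0
variable (A : Type u) [CommRing A]

lemma phi_surjective : Function.Surjective (phi A) := by
  intro x
  obtain ⟨n, g, hg, rfl⟩ := Away.mk_surjective (CohB1.polyGrading 0 A) (X0_mem A) x
  have hg' : g ∈ CohB1.polyGrading 0 A n := by simpa using hg
  refine ⟨coeff (Finsupp.single 0 n) g, ?_⟩
  apply HomogeneousLocalization.val_injective
  rw [Away.val_mk]
  unfold phi
  simp only [RingHom.comp_apply, fromZeroRingHom, RingHom.coe_mk, MonoidHom.coe_mk, OneHom.coe_mk,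
    val_mk]
  rw [Localization.mk_eq_mk_iff, Localization.r_iff_exists]
  refine ⟨1, ?_⟩
  have h2 : ((algebraMap A (CohB1.polyGrading 0 A 0) (coeff (Finsupp.single 0 n) g) :
      CohB1.polyGrading 0 A 0) : MvPolynomial (Fin (0 + 1)) A) = C (coeff (Finsupp.single 0 n) g) := rfl
  simp only [OneMemClass.coe_one, one_mul, h2]
  conv_rhs => rw [eq_monomial_of_mem A hg']
  simp [mul_comm]

lemma phi_bijective : Function.Bijective (phi A) :=
  ⟨(Function.LeftInverse.injective (g := retr A) (retr_phi A)), phi_surjective A⟩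

theorem isIso_toSpec : IsIso (CohB1.ProjSpace.toSpec 0 A) := by
  have h1 : IsIso (Proj.awayι (CohB1.polyGrading 0 A) (X 0) (X0_mem A) one_pos) := by
    apply isIso_of_isOpenImmersion_of_opensRange_eq_top
    rw [Proj.opensRange_awayι, basicOpen_X0]
  have h2 : IsIso (Proj.awayι (CohB1.polyGrading 0 A) (X 0) (X0_mem A) one_pos ≫
      CohB1.ProjSpace.toSpec 0 A) := by
    unfold CohB1.ProjSpace.toSpec
    erw [Proj.awayι_toSpecZero_assoc]
    rw [← Spec.map_comp, ← CommRingCat.ofHom_comp]
    have : IsIso (CommRingCat.ofHom (phi A)) :=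
      (ConcreteCategory.isIso_iff_bijective _).mpr (phi_bijective A)
    exact inferInstanceAs (IsIso (Spec.map (CommRingCat.ofHom (phi A))))
  exact IsIso.of_isIso_comp_left (Proj.awayι (CohB1.polyGrading 0 A) (X 0) (X0_mem A) one_pos) _

end Groth.Agent.H3.P0
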