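import Mathlib

/-! helper3: a linear action of a finite `p`-group on a vector space killed by `p` has a full flag
of subspaces on whose graded pieces the group acts trivially; consequence for regular systems of
parameters. -/

set_option autoImplicit false
universe u v

open IsLocalRing

namespace Groth.Agent.H3.PFlag

section fix

variable {κ : Type*} [Field κ] {G : Type*} [Group G] [Finite G]
  (p : ℕ) [Fact p.Prime] (hG : IsPGroup p G)

include hG in
theorem exists_fixed {V : Type*} [AddCommGroup V] [Module κ V] (ρ : Representation κ G V)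
    (hp : ∀ v : V, p • v = 0) [Nontrivial V] :
    ∃ w : V, w ≠ 0 ∧ ∀ g, ρ g w = w := by
  classical
  obtain ⟨w₀, hw₀⟩ := exists_ne (0 : V)
  set S : Set V := Set.range (fun g : G => ρ g w₀) with hS
  haveI : Finite S := Set.finite_range _
  set H : AddSubgroup V := AddSubgroup.closure S with hH
  have hstab : ∀ g : G, ∀ h ∈ H, ρ g h ∈ H := by
    intro g h hh
    induction hh using AddSubgroup.closure_induction with
    | mem x hx =>
      obtain ⟨g', rfl⟩ := hx
      apply AddSubgroup.subset_closure
      exact ⟨g * g', by change ρ (g * g') w₀ = ρ g (ρ g' w₀); rw [map_mul]; rfl⟩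
    | zero => rw [map_zero]; exact H.zero_mem
    | add x y _ _ hx hy => rw [map_add]; exact H.add_mem hx hy
    | neg x _ hx => rw [map_neg]; exact H.neg_mem hx
  letI : MulAction G H :=
    { smul := fun g h => ⟨ρ g h.1, hstab g h.1 h.2⟩
      one_smul := fun h => Subtype.ext (by change ρ 1 h.1 = h.1; rw [map_one]; rfl)
      mul_smul := fun g g' h => Subtype.ext (by
        change ρ (g * g') h.1 = ρ g (ρ g' h.1); rw [map_mul]; rfl) }
  have hsm : ∀ (g : G) (h : H), ((g • h : H) : V) = ρ g h.1 := fun _ _ => rfl
  haveI : AddGroup.FG H := AddGroup.closure_finite_fg S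
  have hpH : ∀ x : H, p • x = 0 := fun x => Subtype.ext (by
    rw [AddSubgroup.coe_nsmul, AddSubgroup.coe_zero]; exact hp x.1)
  haveI : Finite H := AddCommGroup.finite_of_fg_isAddTorsion ↥H fun x =>
    isOfFinAddOrder_iff_nsmul_eq_zero.mpr ⟨p, (Fact.out : p.Prime).pos, hpH x⟩
  have hcard := hG.card_modEq_card_fixedPoints H
  let w₀' : H := ⟨w₀, AddSubgroup.subset_closure
    ⟨1, by change ρ 1 w₀ = w₀; rw [map_one]; rfl⟩⟩
  have hw₀' : w₀' ≠ 0 := fun h => hw₀ (congrArg Subtype.val h)
  have hord : addOrderOf w₀' = p := addOrderOf_eq_prime (hpH w₀') hw₀'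
  have hdvd : p ∣ Nat.card H := hord ▸ addOrderOf_dvd_natCard w₀'
  have hdvd' : p ∣ Nat.card (MulAction.fixedPoints G H) :=
    (Nat.modEq_zero_iff_dvd).mp (hcard.symm.trans ((Nat.modEq_zero_iff_dvd).mpr hdvd))
  have hz : (0 : H) ∈ MulAction.fixedPoints G H := by
    intro g
    apply Subtype.ext
    rw [hsm, AddSubgroup.coe_zero, map_zero]
  haveI : Nonempty (MulAction.fixedPoints G H) := ⟨⟨0, hz⟩⟩
  have hpos : 0 < Nat.card (MulAction.fixedPoints G H) := Nat.card_pos
  have h2 : 1 < Nat.card (MulAction.fixedPoints G H) :=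
    lt_of_lt_of_le (Fact.out : p.Prime).one_lt (Nat.le_of_dvd hpos hdvd')
  haveI : Nontrivial (MulAction.fixedPoints G H) := Finite.one_lt_card_iff_nontrivial.mp h2
  obtain ⟨x, hx⟩ := exists_ne (⟨0, hz⟩ : MulAction.fixedPoints G H)
  refine ⟨x.1.1, ?_, fun g => ?_⟩
  · intro h
    apply hx
    apply Subtype.ext
    apply Subtype.ext
    exact h
  · have := x.2 g
    rw [← hsm]
    exact congrArg Subtype.val this

include hG in
/-- the flag statement, in the form of a basis all of whose translates generate. -/
theorem exists_family : ∀ (n : ℕ) (V : Type u) [AddCommGroup V] [Module κ V]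
    [FiniteDimensional κ V] (ρ : Representation κ G V) (_ : ∀ v : V, p • v = 0)
    (_ : Module.finrank κ V = n),
    ∃ e : Fin n → V, ∀ τ : Fin n → G,
      Submodule.span κ (Set.range fun i => ρ (τ i) (e i)) = ⊤ := by
  intro n
  induction n with
  | zero =>
    intro V _ _ _ ρ hp hn
    haveI : Subsingleton V := Module.finrank_zero_iff.mp hn
    exact ⟨Fin.elim0, fun τ => Subsingleton.elim _ _⟩
  | succ n ih =>
    intro V _ _ _ ρ hp hn
    haveI : Nontrivial V := Module.nontrivial_of_finrank_pos (R := κ) (by omega)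
    obtain ⟨w, hw0, hw⟩ := exists_fixed p hG ρ hp
    set W : Submodule κ V := Submodule.span κ {w} with hW
    have hstab : ∀ g, W ≤ W.comap (ρ g) := by
      intro g x hx
      obtain ⟨c, rfl⟩ := Submodule.mem_span_singleton.mp hx
      rw [Submodule.mem_comap, map_smul, hw g]
      exact Submodule.smul_mem _ _ (Submodule.mem_span_singleton_self w)
    have hfin : Module.finrank κ (V ⧸ W) = n := by
      have h1 := Submodule.finrank_quotient_add_finrank W
      have h2 : Module.finrank κ W = 1 := finrank_span_singleton hw0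
      rw [h2, hn] at h1
      omega
    have hp' : ∀ v : V ⧸ W, p • v = 0 := by
      intro v
      obtain ⟨v, rfl⟩ := Submodule.Quotient.mk_surjective W v
      rw [← Submodule.Quotient.mk_smul, hp v, Submodule.Quotient.mk_zero]
    obtain ⟨e', he'⟩ := ih (V ⧸ W) (ρ.quotient W hstab) hp' hfin
    choose e hee using fun i => Submodule.Quotient.mk_surjective W (e' i)
    refine ⟨Fin.cons w e, fun τ => ?_⟩
    set T := Submodule.span κ (Set.range fun i => ρ (τ i) ((Fin.cons w e : Fin (n + 1) → V) i))
      with hT
    have hwT : w ∈ T := by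
      apply Submodule.subset_span
      refine ⟨0, ?_⟩
      change ρ (τ 0) ((Fin.cons w e : Fin (n + 1) → V) 0) = w
      rw [Fin.cons_zero, hw]
    have hWT : W ≤ T := by
      rw [hW, Submodule.span_le, Set.singleton_subset_iff]
      exact hwT
    have hmap : T.map W.mkQ = ⊤ := by
      rw [eq_top_iff, ← he' (fun i => τ i.succ), Submodule.span_le]
      rintro _ ⟨i, rfl⟩
      refine ⟨ρ (τ i.succ) (e i), Submodule.subset_span ⟨i.succ, ?_⟩, ?_⟩
      · change ρ (τ i.succ) ((Fin.cons w e : Fin (n + 1) → V) i.succ) = _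
        rw [Fin.cons_succ]
      · change W.mkQ _ = (ρ.quotient W hstab (τ i.succ)) (e' i)
        rw [Representation.quotient_apply, ← hee i]
        rfl
    have := (Submodule.map_mkQ_eq_top W T).mp hmap
    rwa [sup_eq_right.mpr hWT] at this

end fix

section reg

variable (p : ℕ) [Fact p.Prime] (A : Type u) [CommRing A] [IsLocalRing A]
  (G : Type v) [Group G] [MulSemiringAction G A]

omit [Fact p.Prime] in
theorem smul_mem_maximalIdeal (σ : G) (a : A) (ha : a ∈ maximalIdeal A) :
    σ • a ∈ maximalIdeal A := by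
  rw [mem_maximalIdeal, mem_nonunits_iff] at ha ⊢
  intro h
  apply ha
  have := h.map (MulSemiringAction.toRingHom G A σ⁻¹)
  rwa [MulSemiringAction.toRingHom_apply, inv_smul_smul] at this

variable (hres : ∀ (σ : G) (a : A), σ • a - a ∈ maximalIdeal A)

/-- the additive map induced on the cotangent space. -/
noncomputable def cotZ (σ : G) : CotangentSpace A →ₗ[ℤ] CotangentSpace A :=
  Ideal.mapCotangent (maximalIdeal A) (maximalIdeal A)
    (RingHom.toIntAlgHom (MulSemiringAction.toRingHom G A σ))
    (fun a ha => smul_mem_maximalIdeal A G σ a ha)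

theorem cotZ_toCotangent (σ : G) (x : maximalIdeal A) :
    cotZ A G σ ((maximalIdeal A).toCotangent x) =
      (maximalIdeal A).toCotangent ⟨σ • x.1, smul_mem_maximalIdeal A G σ x.1 x.2⟩ := rfl

include hres in
theorem cotZ_smul (σ : G) (c : ResidueField A) (v : CotangentSpace A) :
    cotZ A G σ (c • v) = c • cotZ A G σ v := by
  obtain ⟨a, rfl⟩ := IsLocalRing.residue_surjective c
  obtain ⟨x, rfl⟩ := Ideal.toCotangent_surjective _ v
  have h1 : (IsLocalRing.residue A a) • (maximalIdeal A).toCotangent x =
      (maximalIdeal A).toCotangent (a • x) := by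
    rw [map_smul]
    rfl
  rw [h1, cotZ_toCotangent, cotZ_toCotangent]
  have h2 : (IsLocalRing.residue A a) • (maximalIdeal A).toCotangent
      ⟨σ • x.1, smul_mem_maximalIdeal A G σ x.1 x.2⟩ =
      (maximalIdeal A).toCotangent (a • ⟨σ • x.1, smul_mem_maximalIdeal A G σ x.1 x.2⟩) := by
    rw [map_smul]
    rfl
  rw [h2, Ideal.toCotangent_eq]
  change σ • (a • x.1) - a • (σ • x.1) ∈ maximalIdeal A ^ 2
  rw [smul_eq_mul, smul_mul', smul_eq_mul, ← sub_mul, pow_two]
  exact Ideal.mul_mem_mul (hres σ a) (smul_mem_maximalIdeal A G σ x.1 x.2)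

/-- the representation on the cotangent space. -/
noncomputable def cotRep : Representation (ResidueField A) G (CotangentSpace A) where
  toFun σ :=
    { toFun := cotZ A G σ
      map_add' := map_add _
      map_smul' := fun c v => cotZ_smul A G hres σ c v }
  map_one' := by
    apply LinearMap.ext
    intro v
    obtain ⟨x, rfl⟩ := Ideal.toCotangent_surjective _ v
    change cotZ A G 1 ((maximalIdeal A).toCotangent x) = (maximalIdeal A).toCotangent x
    rw [cotZ_toCotangent]
    exact congrArg _ (Subtype.ext (one_smul G x.1))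
  map_mul' σ τ := by
    apply LinearMap.ext
    intro v
    obtain ⟨x, rfl⟩ := Ideal.toCotangent_surjective _ v
    change cotZ A G (σ * τ) ((maximalIdeal A).toCotangent x) =
      cotZ A G σ (cotZ A G τ ((maximalIdeal A).toCotangent x))
    rw [cotZ_toCotangent, cotZ_toCotangent, cotZ_toCotangent]
    exact congrArg _ (Subtype.ext (mul_smul σ τ x.1))

theorem cotRep_toCotangent (σ : G) (x : maximalIdeal A) :
    cotRep A G hres σ ((maximalIdeal A).toCotangent x) =
      (maximalIdeal A).toCotangent ⟨σ • x.1, smul_mem_maximalIdeal A G σ x.1 x.2⟩ := rfl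

end reg

/-- admissible regular systems of parameters. -/
theorem exists_admissible (p : ℕ) [Fact p.Prime] (A : Type u) [CommRing A] [IsRegularLocalRing A]
    [CharP A p] (G : Type v) [Group G] [Finite G] [MulSemiringAction G A] (hG : IsPGroup p G)
    (hres : ∀ (σ : G) (a : A), σ • a - a ∈ IsLocalRing.maximalIdeal A)
    (n : ℕ) (hn : ringKrullDim A = n) :
    ∃ u : Fin n → A, ∀ τ : Fin n → G,
      Ideal.span (Set.range fun i => τ i • u i) = IsLocalRing.maximalIdeal A := by
  have hfin : Module.finrank (ResidueField A) (CotangentSpace A) = n := by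
    have h1 := (IsRegularLocalRing.iff_finrank_cotangentSpace A).mp inferInstance
    rw [hn] at h1
    exact_mod_cast h1
  have hp : ∀ v : CotangentSpace A, p • v = 0 := by
    intro v
    obtain ⟨x, rfl⟩ := Ideal.toCotangent_surjective _ v
    rw [← map_nsmul]
    have : p • x = 0 := by
      apply Subtype.ext
      rw [Submodule.coe_smul_of_tower, Submodule.coe_zero, nsmul_eq_mul, CharP.cast_eq_zero,
        zero_mul]
    rw [this, map_zero]
  obtain ⟨e, he⟩ := exists_family p hG n (CotangentSpace A) (cotRep A G hres) hp hfin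
  choose x hx using fun i => Ideal.toCotangent_surjective _ (e i)
  refine ⟨fun i => (x i).1, fun τ => ?_⟩
  have h1 := he τ
  set s : Set (maximalIdeal A) := Set.range fun i =>
    (⟨τ i • (x i).1, smul_mem_maximalIdeal A G (τ i) (x i).1 (x i).2⟩ : maximalIdeal A) with hs
  have h2 : (Set.range fun i => cotRep A G hres (τ i) (e i)) =
      (maximalIdeal A).toCotangent '' s := by
    rw [hs, ← Set.range_comp]
    congr 1
    funext i
    rw [Function.comp_apply, ← hx i, cotRep_toCotangent]
  rw [h2, CotangentSpace.span_image_eq_top_iff] at h1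
  have h3 := congrArg (Submodule.map (maximalIdeal A).subtype) h1
  rw [Submodule.map_subtype_top, Submodule.map_span, hs, ← Set.range_comp] at h3
  exact h3

end Groth.Agent.H3.PFlag
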