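import Mathlib.RingTheory.RingHom.PurelyInseparable
import Mathlib.FieldTheory.PurelyInseparable.Basic

namespace Groth.Agent.H3.PIAux

lemma pi_of_comp_top {F E K : Type*} [Field F] [Field E] [Field K] {f : F →+* E} {g : E →+* K}
    (h : (g.comp f).IsPurelyInseparable) : g.IsPurelyInseparable := by
  algebraize [f, g, g.comp f]
  exact IsPurelyInseparable.tower_top F E K

lemma pi_of_comp_bot {F E K : Type*} [Field F] [Field E] [Field K] {f : F →+* E} {g : E →+* K}
    (h : (g.comp f).IsPurelyInseparable) : f.IsPurelyInseparable := by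
  algebraize [f, g, g.comp f]
  exact IsPurelyInseparable.tower_bot F E K

end Groth.Agent.H3.PIAux
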