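import Mathlib
import Groth.Agent.Lib.Helper3.PLenB

/-!
# Lengths at minimal primes of flat algebras: fibre primes (helper3)
-/

namespace Groth.Agent.H3.PLen

open TensorProduct

universe u v

section FibrePrime

variable {R : Type u} {S : Type v} [CommRing R] [CommRing S] [Algebra R S]

/-- A minimal prime `q'` of `S` over `p` corresponds to a minimal prime of the fibre. -/
theorem exists_fibre_prime (p : Ideal R) [p.IsPrime] (q' : Ideal S) [hq'p : q'.IsPrime]
    [hlo : q'.LiesOver p] (hq' : q' ∈ minimalPrimes S) :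
    ∃ Q : Ideal (p.Fiber S), ∃ _ : Q.IsPrime, Q ∈ minimalPrimes (p.Fiber S) ∧
      Q.comap (Algebra.TensorProduct.includeRight : S →ₐ[R] p.Fiber S) = q' := by
  let Q : PrimeSpectrum (p.Fiber S) :=
    PrimeSpectrum.primesOverOrderIsoFiber R S p ⟨q', ⟨hq'p, hlo⟩⟩
  have hQ : Q.asIdeal.comap (Algebra.TensorProduct.includeRight : S →ₐ[R] p.Fiber S) = q' := by
    have := (PrimeSpectrum.primesOverOrderIsoFiber R S p).symm_apply_apply ⟨q', ⟨hq'p, hlo⟩⟩
    exact congrArg Subtype.val this
  refine ⟨Q.asIdeal, Q.2, ⟨⟨Q.2, bot_le⟩, ?_⟩, hQ⟩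
  rintro t ⟨ht, -⟩ hle
  have h1 : t.comap (Algebra.TensorProduct.includeRight : S →ₐ[R] p.Fiber S) ≤ q' :=
    (Ideal.comap_mono hle).trans hQ.le
  have h2 : q' ≤ t.comap (Algebra.TensorProduct.includeRight : S →ₐ[R] p.Fiber S) :=
    hq'.2 ⟨Ideal.comap_isPrime _ _, bot_le⟩ h1
  have h3 : (PrimeSpectrum.primesOverOrderIsoFiber R S p).symm Q ≤
      (PrimeSpectrum.primesOverOrderIsoFiber R S p).symm ⟨t, ht⟩ := by
    rw [← Subtype.coe_le_coe]
    show Q.asIdeal.comap (Algebra.TensorProduct.includeRight : S →ₐ[R] p.Fiber S) ≤ t.comap _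
    exact hQ.le.trans h2
  have h4 : Q ≤ ⟨t, ht⟩ := (OrderIso.le_iff_le _).mp h3
  exact h4

/-- `ℓ(S_{q'}) = ℓ(R_p) · ℓ(fibre at the corresponding minimal prime)` for flat `S`. -/
theorem exists_length_eq_mul_of_minimal [Module.Flat R S] (p : Ideal R) [p.IsPrime] (q' : Ideal S)
    [q'.IsPrime] [q'.LiesOver p] (hq' : q' ∈ minimalPrimes S) :
    ∃ Q : Ideal (p.Fiber S), ∃ _ : Q.IsPrime, Q ∈ minimalPrimes (p.Fiber S) ∧
      Module.length (Localization.AtPrime q') (Localization.AtPrime q') =
        Module.length (Localization.AtPrime p) (Localization.AtPrime p) *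
          Module.length (Localization.AtPrime Q) (Localization.AtPrime Q) := by
  obtain ⟨Q, hQp, hQmin, hQ⟩ := exists_fibre_prime p q' hq'
  exact ⟨Q, hQp, hQmin, length_localization_eq_mul p Q q' hQ⟩

end FibrePrime

section LocalTensor

/-- For a local `k`-algebra `A` whose residue field has reduced base change to `K`, the
localisation of `A ⊗[k] K` at a minimal prime over the maximal ideal has the length of `A`. -/
theorem length_localization_tensor_of_reduced_fibre {k : Type*} [Field k] (A : Type u)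
    [CommRing A] [IsLocalRing A] [Algebra k A] (K : Type v) [Field K] [Algebra k K]
    (hred : IsReduced ((IsLocalRing.maximalIdeal A).ResidueField ⊗[k] K))
    (q : Ideal (A ⊗[k] K)) [q.IsPrime] (hq : q ∈ minimalPrimes (A ⊗[k] K))
    (hqm : q.comap (algebraMap A (A ⊗[k] K)) = IsLocalRing.maximalIdeal A) :
    Module.length (Localization.AtPrime q) (Localization.AtPrime q) = Module.length A A := by
  haveI : q.LiesOver (IsLocalRing.maximalIdeal A) := ⟨hqm.symm⟩
  obtain ⟨Q, hQp, hQmin, hlen⟩ :=
    exists_length_eq_mul_of_minimal (IsLocalRing.maximalIdeal A) q hq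
  let e := Algebra.TensorProduct.cancelBaseChange k A A
    (IsLocalRing.maximalIdeal A).ResidueField K
  haveI : IsReduced ((IsLocalRing.maximalIdeal A).Fiber (A ⊗[k] K)) :=
    isReduced_of_injective e e.injective
  rw [hlen, length_eq_one_of_isReduced Q hQmin, mul_one]
  exact length_localization_maximalIdeal _ rfl

end LocalTensor

end Groth.Agent.H3.PLen
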