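import Mathlib
import Groth.Prelude.Def_Curv2
import Groth.Prelude.Def_FDesc
import Groth.Agent.Lib.Helper1.BCStalk
import Groth.Agent.Lib.Helper3.PLenD
import Groth.Agent.Lib.Helper3.AG.GeomRedProd

/-!
# Lengths of local rings at maximal points of base changes to field extensions (helper3)
-/

set_option autoImplicit false
universe u
open CategoryTheory CategoryTheory.Limits AlgebraicGeometry IsLocalRing TensorProduct

namespace Groth.Agent.H3.PLenSch

section Dict

variable (k : Type u) [Field k] (X : Scheme.{u}) [X.Over (Spec (CommRingCat.of k))]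
  (K : Type u) [Field K] [Algebra k K] (x : X)

attribute [local instance] Curv2.stalkAlgebra

open Groth.Agent.H1.BCStalk in
/-- A maximal point `x''` of `X_K` over `x` corresponds to a minimal prime of `O_{X,x} ⊗_k K`
over the maximal ideal. -/
theorem exists_minimal_prime_of_maximal_point (x'' : ↥(Curv2.bc k X K))
    (hx : (Curv2.bcFst k X K) x'' = x)
    (hmax : ∀ z : ↥(Curv2.bc k X K), z ⤳ x'' → z = x'') :
    ∃ q : PrimeSpectrum (X.presheaf.stalk x ⊗[k] K),
      q.asIdeal ∈ minimalPrimes (X.presheaf.stalk x ⊗[k] K) ∧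
      q.asIdeal.comap (Algebra.TensorProduct.includeLeftRingHom
        (R := k) (A := X.presheaf.stalk x) (B := K)) = maximalIdeal (X.presheaf.stalk x) ∧
      Nonempty ((Curv2.bc k X K).presheaf.stalk x'' ≃+* Localization.AtPrime q.asIdeal) := by
  obtain ⟨t, ht1, ht2⟩ := Scheme.Pullback.exists_preimage_pullback
    (f := X.fromSpecStalk x) (g := Curv2.bcFst k X K) (closedPoint (X.presheaf.stalk x)) x''
    (by rw [Scheme.fromSpecStalk_closedPoint, hx])
  refine ⟨(isoSpec k X K x).hom t, ?_, (fst_eq_closedPoint_iff k X K x t).mp ht1, ?_⟩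
  · refine ⟨⟨PrimeSpectrum.isPrime _, bot_le⟩, ?_⟩
    rintro q' ⟨hq'p, -⟩ hle
    let t' := (isoSpec k X K x).inv ⟨q', hq'p⟩
    have hspec : (⟨q', hq'p⟩ : PrimeSpectrum (X.presheaf.stalk x ⊗[k] K)) ⤳
        (isoSpec k X K x).hom t :=
      (PrimeSpectrum.le_iff_specializes _ _).mp hle
    have h1 : t' ⤳ (isoSpec k X K x).inv ((isoSpec k X K x).hom t) :=
      hspec.map (isoSpec k X K x).inv.continuous
    have h2 : (isoSpec k X K x).inv ((isoSpec k X K x).hom t) = t := by
      rw [← Scheme.Hom.comp_apply, Iso.hom_inv_id]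
      rfl
    rw [h2] at h1
    have h3 : (pullback.snd (X.fromSpecStalk x) (Curv2.bcFst k X K)) t' ⤳
        (pullback.snd (X.fromSpecStalk x) (Curv2.bcFst k X K)) t :=
      h1.map (pullback.snd (X.fromSpecStalk x) (Curv2.bcFst k X K)).continuous
    rw [ht2] at h3
    have h4 := hmax _ h3
    haveI : IsPreimmersion (pullback.snd (X.fromSpecStalk x) (Curv2.bcFst k X K)) :=
      MorphismProperty.pullback_snd _ _ inferInstance
    have hinj : Function.Injective (pullback.snd (X.fromSpecStalk x) (Curv2.bcFst k X K)) :=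
      (pullback.snd (X.fromSpecStalk x) (Curv2.bcFst k X K)).isEmbedding.injective
    have h5 : t' = t := hinj (h4.trans ht2.symm)
    have h7 : (isoSpec k X K x).hom t' = ⟨q', hq'p⟩ := by
      show (isoSpec k X K x).hom ((isoSpec k X K x).inv _) = _
      rw [← Scheme.Hom.comp_apply, Iso.inv_hom_id]
      rfl
    rw [h5] at h7
    exact (congrArg PrimeSpectrum.asIdeal h7).le
  · have := nonempty_stalk_ringEquiv k X K x t
    rw [ht2] at this
    exact this

/-- Length of the local ring at a maximal point of `X_K` when `K/k` is "separable" on the residue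
field of the image point. -/
theorem length_stalk_bc_eq (x'' : ↥(Curv2.bc k X K))
    (hx : (Curv2.bcFst k X K) x'' = x)
    (hmax : ∀ z : ↥(Curv2.bc k X K), z ⤳ x'' → z = x'')
    (hred : IsReduced ((maximalIdeal (X.presheaf.stalk x)).ResidueField ⊗[k] K)) :
    Module.length ((Curv2.bc k X K).presheaf.stalk x'') ((Curv2.bc k X K).presheaf.stalk x'') =
      Module.length (X.presheaf.stalk x) (X.presheaf.stalk x) := by
  obtain ⟨q, hqmin, hqm, ⟨e⟩⟩ := exists_minimal_prime_of_maximal_point k X K x x'' hx hmax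
  rw [Groth.Agent.H3.PLen.length_eq_of_ringEquiv e]
  exact Groth.Agent.H3.PLen.length_localization_tensor_of_reduced_fibre
    (X.presheaf.stalk x) K hred q.asIdeal hqmin hqm

end Dict

end Groth.Agent.H3.PLenSch
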