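import Mathlib
import Groth.Prelude.Def_FDesc
import Groth.Agent.Lib.Helper1.FibreStalk
import Groth.Agent.Lib.Helper1.StalkGen
import Groth.Agent.Lib.Helper3.PLenA
import Groth.Agent.S4368

/-!
# Lengths of local rings: fibres of flat morphisms and reduced subschemes (helper3, for S4686)
-/

set_option autoImplicit false
universe u
open CategoryTheory CategoryTheory.Limits AlgebraicGeometry IsLocalRing TensorProduct

namespace Groth.Agent.H3.PLenSch2

open Groth.Agent.H3.PLen

variable {X Y : Scheme.{u}}

/-- `ℓ(O_{X,x}) = ℓ(O_{Y,f x}) · ℓ(O_{X_{f x},x})` for flat `f`. -/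
theorem length_stalk_eq_mul_fiber (f : X ⟶ Y) [Flat f] (x : X) :
    Module.length (X.presheaf.stalk x) (X.presheaf.stalk x) =
      Module.length (Y.presheaf.stalk (f x)) (Y.presheaf.stalk (f x)) *
        Module.length ((f.fiber (f x)).presheaf.stalk (f.asFiber x))
          ((f.fiber (f x)).presheaf.stalk (f.asFiber x)) := by
  have hflat := Flat.stalkMap f x
  algebraize [(f.stalkMap x).hom]
  haveI : IsLocalHom (algebraMap (Y.presheaf.stalk (f x)) (X.presheaf.stalk x)) :=
    inferInstanceAs (IsLocalHom (f.stalkMap x).hom)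
  have h1 := IsLocalRing.length_baseChange (Y.presheaf.stalk (f x)) (X.presheaf.stalk x)
    (Y.presheaf.stalk (f x))
  have h2 := (TensorProduct.AlgebraTensorModule.rid (Y.presheaf.stalk (f x))
    (X.presheaf.stalk x) (X.presheaf.stalk x)).length_eq
  rw [h2] at h1
  rw [h1]
  congr 1
  set I := (maximalIdeal (Y.presheaf.stalk (f x))).map
    (algebraMap (Y.presheaf.stalk (f x)) (X.presheaf.stalk x)) with hI
  have h3 : Module.length (X.presheaf.stalk x) (X.presheaf.stalk x ⧸ I) =
      Module.length (X.presheaf.stalk x ⧸ I) (X.presheaf.stalk x ⧸ I) :=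
    Module.length_eq_of_surjective Ideal.Quotient.mk_surjective
  rw [h3]
  exact length_eq_of_ringEquiv (Groth.Agent.H1.FibreStalk.fiberStalkEquiv f x)

/-- Variant for an arbitrary point of an arbitrary fibre. -/
theorem length_stalk_eq_mul_fiber' (f : X ⟶ Y) [Flat f] (y : Y) (t : f.fiber y) :
    Module.length (X.presheaf.stalk (f.fiberι y t)) (X.presheaf.stalk (f.fiberι y t)) =
      Module.length (Y.presheaf.stalk y) (Y.presheaf.stalk y) *
        Module.length ((f.fiber y).presheaf.stalk t) ((f.fiber y).presheaf.stalk t) := by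
  have key : ∀ (x : X) (y : Y) (hy : f x = y) (t : f.fiber y) (ht : f.fiberι y t = x),
      Module.length (X.presheaf.stalk x) (X.presheaf.stalk x) =
      Module.length (Y.presheaf.stalk y) (Y.presheaf.stalk y) *
        Module.length ((f.fiber y).presheaf.stalk t) ((f.fiber y).presheaf.stalk t) := by
    intro x y hy t ht
    subst hy
    have : t = f.asFiber x :=
      (f.fiberι (f x)).isEmbedding.injective (ht.trans (f.fiberι_asFiber x).symm)
    subst this
    exact length_stalk_eq_mul_fiber f x
  have hy : f (f.fiberι y t) = y := by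
    have : f.fiberι y t ∈ f ⁻¹' {y} := by
      rw [← f.range_fiberι y]
      exact ⟨t, rfl⟩
    exact this
  exact key _ y hy t rfl

/-- Isomorphisms of schemes preserve lengths of local rings. -/
theorem length_stalk_of_isIso (M : X ⟶ Y) [IsIso M] (a : X) :
    Module.length (Y.presheaf.stalk (M a)) (Y.presheaf.stalk (M a)) =
      Module.length (X.presheaf.stalk a) (X.presheaf.stalk a) :=
  length_eq_of_ringEquiv (RingEquiv.ofBijective (M.stalkMap a).hom
    (ConcreteCategory.bijective_of_isIso (M.stalkMap a)))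

/-- The local ring of a reduced scheme at a maximal point is a field (length one). -/
theorem length_stalk_eq_one_of_maximal (Z : Scheme.{u}) [IsReduced Z] (z : Z)
    (hz : ∀ w : Z, w ⤳ z → w = z) :
    Module.length (Z.presheaf.stalk z) (Z.presheaf.stalk z) = 1 := by
  have hmin : maximalIdeal (Z.presheaf.stalk z) ∈ minimalPrimes (Z.presheaf.stalk z) := by
    refine ⟨⟨inferInstance, bot_le⟩, ?_⟩
    rintro P ⟨hP, -⟩ -
    have h1 : Z.fromSpecStalk z ⟨P, hP⟩ ⤳ z :=
      Groth.Agent.H1.StalkGen.fromSpecStalk_specializes z ⟨P, hP⟩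
    have h2 : Z.fromSpecStalk z ⟨P, hP⟩ = Z.fromSpecStalk z (closedPoint _) := by
      rw [hz _ h1, Scheme.fromSpecStalk_closedPoint]
    have h3 := Groth.Agent.H1.StalkGen.fromSpecStalk_injective z h2
    exact (congrArg PrimeSpectrum.asIdeal h3).ge
  have := length_eq_one_of_isReduced (maximalIdeal (Z.presheaf.stalk z)) hmin
  rw [length_localization_maximalIdeal _ rfl] at this
  exact this

/-- The residue field map of a closed immersion is an isomorphism. -/
theorem isIso_SpecMap_residueFieldMap {Z X : Scheme.{u}} (ι : Z ⟶ X) [IsClosedImmersion ι]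
    (z : Z) : IsIso (Spec.map (ι.residueFieldMap z)) := by
  have hbij : Function.Bijective (ι.residueFieldMap z).hom := by
    refine ⟨(ι.residueFieldMap z).hom.injective, ?_⟩
    have h1 : Function.Surjective (ι.stalkMap z).hom := ι.stalkMap_surjective z
    have h2 : Function.Surjective (Z.residue z).hom := Ideal.Quotient.mk_surjective
    have h3 := Scheme.residue_residueFieldMap ι z
    have h4 : Function.Surjective ((ι.residueFieldMap z).hom.comp (X.residue (ι z)).hom) := by
      have : (ι.residueFieldMap z).hom.comp (X.residue (ι z)).hom =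
          (Z.residue z).hom.comp (ι.stalkMap z).hom := by
        rw [← CommRingCat.hom_comp, ← CommRingCat.hom_comp, h3]
      rw [this]
      exact h2.comp h1
    rw [RingHom.coe_comp] at h4
    exact Function.Surjective.of_comp h4
  haveI : IsIso (ι.residueFieldMap z) :=
    (ConcreteCategory.isIso_iff_bijective _).mpr hbij
  infer_instance

/-- Main abstract statement: base change of a reduced closed subscheme (a homeomorphism onto
`X'`) along a flat morphism. -/
theorem length_stalk_eq_mul {X' Z' X'' Z'' : Scheme.{u}} (π : X'' ⟶ X') (ι : Z' ⟶ X')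
    (j : Z'' ⟶ X'') (p₁ : Z'' ⟶ Z') (hpb : IsPullback j p₁ π ι) [Flat π] [IsClosedImmersion ι]
    [IsReduced Z'] (z'' : Z'') (hmax : ∀ z : X'', z ⤳ j z'' → z = j z'') :
    Module.length (X''.presheaf.stalk (j z'')) (X''.presheaf.stalk (j z'')) =
      Module.length (X'.presheaf.stalk (ι (p₁ z''))) (X'.presheaf.stalk (ι (p₁ z''))) *
        Module.length (Z''.presheaf.stalk z'') (Z''.presheaf.stalk z'') := by
  haveI : Flat p₁ := MorphismProperty.of_isPullback hpb inferInstance
  haveI : IsClosedImmersion j := MorphismProperty.of_isPullback hpb.flip inferInstance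
  -- `z''` is a maximal point
  have hz''max : ∀ w : Z'', w ⤳ z'' → w = z'' := by
    intro w hw
    have h1 : j w ⤳ j z'' := hw.map j.continuous
    exact j.isEmbedding.injective (hmax _ h1)
  -- `p₁ z''` is a maximal point
  have hz'max : ∀ w : Z', w ⤳ p₁ z'' → w = p₁ z'' := by
    intro w hw
    obtain ⟨w'', hw'', rfl⟩ := (Flat.generalizingMap (f := p₁)) hw
    rw [hz''max w'' hw'']
  have hB' := length_stalk_eq_one_of_maximal Z' (p₁ z'') hz'max
  have hF := length_stalk_eq_mul_fiber p₁ z''
  rw [hB', one_mul] at hF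
  -- the isomorphism of fibres
  have hsq := isPullback_fiberToSpecResidueField_of_isPullback hpb (p₁ z'')
  haveI := isIso_SpecMap_residueFieldMap ι (p₁ z'')
  haveI hM := hsq.isIso_fst_of_isIso
  set M : p₁.fiber (p₁ z'') ⟶ π.fiber (ι (p₁ z'')) :=
    pullback.map p₁ (Z'.fromSpecResidueField (p₁ z'')) π
    (X'.fromSpecResidueField (ι (p₁ z''))) j (Spec.map (ι.residueFieldMap (p₁ z''))) ι
    hpb.w.symm (by simp) with hMdef
  have hMι : M ≫ π.fiberι (ι (p₁ z'')) = p₁.fiberι (p₁ z'') ≫ j := by
    rw [hMdef]
    exact pullback.lift_fst _ _ _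
  have hpt : π.fiberι (ι (p₁ z'')) (M (p₁.asFiber z'')) = j z'' := by
    have h := congr($(hMι) (p₁.asFiber z''))
    rw [Scheme.Hom.comp_apply, Scheme.Hom.comp_apply, Scheme.Hom.fiberι_asFiber] at h
    exact h
  haveI : IsIso M := hM
  have hG := length_stalk_of_isIso M (p₁.asFiber z'')
  have hF' := length_stalk_eq_mul_fiber' π (ι (p₁ z'')) (M (p₁.asFiber z''))
  rw [hpt] at hF'
  rw [hF', hG, hF]

end Groth.Agent.H3.PLenSch2
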