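import Mathlib
import Groth.Prelude.Def_OmegaPn
import Groth.Agent.Lib.Lead.QC.Push
import Groth.Agent.Lib.Lead.QC.Pullback

set_option autoImplicit false
universe u
open AlgebraicGeometry CategoryTheory TopologicalSpace Opposite CategoryTheory.Limits

namespace Groth.Agent.H3.PP

/-- a morphism of schemes which is a homeomorphism on points is quasi-compact. -/
theorem quasiCompact_of_homeomorph {Z X : Scheme.{u}} (g : Z ⟶ X) (h : Z ≃ₜ X)
    (hg : ∀ z, h z = g z) : QuasiCompact g := by
  rw [quasiCompact_iff]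
  intro U _ hUc
  have : g ⁻¹' U = h.symm '' U := by
    ext z
    simp only [Set.mem_preimage, Set.mem_image]
    constructor
    · intro hz
      exact ⟨g z, hz, by rw [← hg, Homeomorph.symm_apply_apply]⟩
    · rintro ⟨x, hx, rfl⟩
      rw [← hg, Homeomorph.apply_symm_apply]
      exact hx
  rw [this]
  exact hUc.image h.symm.continuous

/-- a morphism of schemes which is a homeomorphism on points is quasi-separated. -/
theorem quasiSeparated_of_homeomorph {Z X : Scheme.{u}} (g : Z ⟶ X) (h : Z ≃ₜ X)
    (hg : ∀ z, h z = g z) : QuasiSeparated g := by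
  rw [HasAffineProperty.iff_of_iSup_eq_top (P := @QuasiSeparated) (fun U : X.affineOpens => U)
    (iSup_affineOpens_eq_top X)]
  intro U
  have hU : QuasiSeparatedSpace (U.1 : Set X) :=
    (isQuasiSeparated_iff_quasiSeparatedSpace _ U.1.2).1 U.2.isQuasiSeparated
  let e : (g ⁻¹ᵁ U.1 : Set Z) ≃ₜ (U.1 : Set X) :=
    h.subtype (fun z => by
      change g z ∈ U.1 ↔ h z ∈ U.1
      rw [hg])
  exact (quasiSeparatedSpace_congr e).2 hU

variable {X S : Scheme.{u}} (f : X ⟶ S)

instance : IsClosedImmersion (PrinPart.diagCl f) := by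
  unfold PrinPart.diagCl; infer_instance

/-- the first projection of the `n`-th neighbourhood of the diagonal, as a homeomorphism. -/
noncomputable def pr1Homeo (n : ℕ) : PrinPart.nbhd f n ≃ₜ X where
  toFun := PrinPart.pr1 f n
  invFun := PrinPart.toNbhd f n
  left_inv x := by
    obtain ⟨y, rfl⟩ := PrinPart.toInfNbhd_surjective (PrinPart.diagCl f) n x
    change PrinPart.toNbhd f n (PrinPart.pr1 f n (PrinPart.toNbhd f n y)) = _
    have : PrinPart.pr1 f n (PrinPart.toNbhd f n y) = y := by
      rw [← Scheme.Hom.comp_apply, PrinPart.toNbhd_pr1]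
      rfl
    rw [this]
  right_inv y := by
    change PrinPart.pr1 f n (PrinPart.toNbhd f n y) = y
    rw [← Scheme.Hom.comp_apply, PrinPart.toNbhd_pr1]
    rfl
  continuous_toFun := (PrinPart.pr1 f n).continuous
  continuous_invFun := (PrinPart.toNbhd f n).continuous

instance quasiCompact_pr1 (n : ℕ) : QuasiCompact (PrinPart.pr1 f n) :=
  quasiCompact_of_homeomorph _ (pr1Homeo f n) (fun _ => rfl)

instance quasiSeparated_pr1 (n : ℕ) : QuasiSeparated (PrinPart.pr1 f n) :=
  quasiSeparated_of_homeomorph _ (pr1Homeo f n) (fun _ => rfl)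

/-- **`P^n_{X/S}(F)` is quasi-coherent for quasi-coherent `F`.** -/
theorem qc_PMod (n : ℕ) (F : X.Modules) [F.IsQuasicoherent] :
    (PrinPart.PMod f n F).IsQuasicoherent := by
  haveI := Groth.Agent.LD.QC.qc_pullback (PrinPart.pr2 f n) F
  exact Groth.Agent.LD.QC.qc_pushforward (PrinPart.pr1 f n) _

end Groth.Agent.H3.PP
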