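import Mathlib
import Groth.Prelude.Def_OmegaPn
import Groth.Prelude.Def_PP16
import Groth.Agent.Lib.Helper3.PP1

set_option autoImplicit false
universe u
open AlgebraicGeometry CategoryTheory TopologicalSpace Opposite CategoryTheory.Limits TensorProduct

namespace Groth.Agent.H3.PP

variable {X S : Scheme.{u}} (f : X ⟶ S)

section Chart

variable {U : X.Opens} {V : S.Opens} (hU : IsAffineOpen U) (hV : IsAffineOpen V) (e : U ≤ f ⁻¹ᵁ V)

include hU hV e in
/-- the product chart `pr₁⁻¹ U ∩ pr₂⁻¹ U` of an affine chart pair is affine. -/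
theorem isAffineOpen_diagNbhd : IsAffineOpen (OmegaSh.diagNbhd f U) := by
  have H := IsPullback.of_hasPullback f f
  haveI : IsAffine V.toScheme := hV
  haveI : IsAffine U.toScheme := hU
  exact .of_isIso (Scheme.Hom.isPullback_resLE H e e rfl).isoPullback.hom

include hU hV in
/-- the sections over the product chart form the pushout `B ⊗_A B`. -/
theorem isPushout_diagNbhd :
    IsPushout (f.appLE V U e) (f.appLE V U e)
      ((pullback.fst f f).appLE U (OmegaSh.diagNbhd f U) inf_le_left)
      ((pullback.snd f f).appLE U (OmegaSh.diagNbhd f U) inf_le_right) :=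
  (isIso_pushoutSection_iff (IsPullback.of_hasPullback f f) e e rfl).1
    (isIso_pushoutSection_of_isAffineOpen (IsPullback.of_hasPullback f f) e e rfl hV hU hU)

/-- the ring isomorphism `B ⊗_A B ≃ Γ(X ×_S X, pr₁⁻¹ U ∩ pr₂⁻¹ U)`. -/
noncomputable def tensorEquiv :
    letI := (f.appLE V U e).hom.toAlgebra
    Γ(X, U) ⊗[Γ(S, V)] Γ(X, U) ≃+* Γ(pullback f f, OmegaSh.diagNbhd f U) :=
  letI := (f.appLE V U e).hom.toAlgebra
  ((CommRingCat.isPushout_tensorProduct Γ(S, V) Γ(X, U) Γ(X, U)).isoIsPushout _ _
    (isPushout_diagNbhd f hU hV e)).commRingCatIsoToRingEquiv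

theorem tensorEquiv_tmul_one (b : Γ(X, U)) :
    letI := (f.appLE V U e).hom.toAlgebra
    tensorEquiv f hU hV e (b ⊗ₜ 1) =
      (pullback.fst f f).appLE U (OmegaSh.diagNbhd f U) inf_le_left b := by
  letI := (f.appLE V U e).hom.toAlgebra
  have := (CommRingCat.isPushout_tensorProduct Γ(S, V) Γ(X, U) Γ(X, U)).inl_isoIsPushout_hom _ _
    (isPushout_diagNbhd f hU hV e)
  exact congr($this b)

theorem tensorEquiv_one_tmul (b : Γ(X, U)) :
    letI := (f.appLE V U e).hom.toAlgebra
    tensorEquiv f hU hV e (1 ⊗ₜ b) =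
      (pullback.snd f f).appLE U (OmegaSh.diagNbhd f U) inf_le_right b := by
  letI := (f.appLE V U e).hom.toAlgebra
  have := (CommRingCat.isPushout_tensorProduct Γ(S, V) Γ(X, U) Γ(X, U)).inr_isoIsPushout_hom _ _
    (isPushout_diagNbhd f hU hV e)
  exact congr($this b)

/-- the preimage of the product chart under the diagonal is `U`. -/
theorem diagonal_preimage_diagNbhd (U : X.Opens) :
    pullback.diagonal f ⁻¹ᵁ OmegaSh.diagNbhd f U = U :=
  le_antisymm (OmegaSh.diagonal_preimage_le f le_rfl) (OmegaSh.le_preimage_diagNbhd f U)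

include hU hV e in
/-- the diagonal restricted to the product chart is a closed immersion. -/
theorem isClosedImmersion_diagonal_restrict :
    IsClosedImmersion (pullback.diagonal f ∣_ OmegaSh.diagNbhd f U) := by
  haveI : IsAffine (OmegaSh.diagNbhd f U).toScheme := isAffineOpen_diagNbhd f hU hV e
  have hsrc : IsAffineOpen (pullback.diagonal f ⁻¹ᵁ OmegaSh.diagNbhd f U) := by
    rw [diagonal_preimage_diagNbhd]; exact hU
  refine (HasAffineProperty.iff_of_isAffine (P := @IsClosedImmersion)).mpr ⟨hsrc, ?_⟩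
  rw [morphismRestrict_appTop]
  have key : ∀ (W' : (pullback f f).Opens) (hW' : W' = OmegaSh.diagNbhd f U),
      Function.Surjective ((pullback.diagonal f).app W') := by
    rintro W' rfl t
    refine ⟨(pullback.fst f f).appLE U (OmegaSh.diagNbhd f U) inf_le_left
      (X.presheaf.map (homOfLE (OmegaSh.le_preimage_diagNbhd f U)).op t), ?_⟩
    have h1 := OmegaSh.diagonal_app_section f _ (pullback.diagonal_fst f) U
      (W := OmegaSh.diagNbhd f U) le_rfl inf_le_left (OmegaSh.diagonal_preimage_le f le_rfl)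
      (X.presheaf.map (homOfLE (OmegaSh.le_preimage_diagNbhd f U)).op t)
    rw [OmegaSh.res_refl, OmegaSh.res_res, OmegaSh.res_refl] at h1
    exact h1
  have h1 := key ((OmegaSh.diagNbhd f U).ι ''ᵁ ⊤) (by simp)
  have h2 : Function.Surjective (X.presheaf.map (eqToHom (image_morphismRestrict_preimage
      (pullback.diagonal f) (OmegaSh.diagNbhd f U) ⊤)).op) :=
    (ConcreteCategory.bijective_of_isIso _).surjective
  exact h2.comp h1

include hU hV e in
/-- the product chart lies in the open where the diagonal is closed. -/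
theorem diagNbhd_le_coborderRange :
    OmegaSh.diagNbhd f U ≤ (pullback.diagonal f).coborderRange := by
  haveI := isClosedImmersion_diagonal_restrict f hU hV e
  have h1 : (OmegaSh.diagNbhd f U).ι ⁻¹' Set.range (pullback.diagonal f) =
      Set.range (pullback.diagonal f ∣_ OmegaSh.diagNbhd f U) := by
    ext q
    simp only [Set.mem_preimage, Set.mem_range]
    constructor
    · rintro ⟨x, hx⟩
      have hxW : x ∈ pullback.diagonal f ⁻¹ᵁ OmegaSh.diagNbhd f U := by
        change pullback.diagonal f x ∈ OmegaSh.diagNbhd f U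
        rw [hx]; exact q.2
      refine ⟨⟨x, hxW⟩, Subtype.ext ?_⟩
      rw [morphismRestrict_base_coe]
      exact hx
    · rintro ⟨x, rfl⟩
      exact ⟨x.1, (morphismRestrict_base_coe _ _ x).symm⟩
  have h2 := (OmegaSh.diagNbhd f U).ι.isOpenEmbedding.coborder_preimage
    (Set.range (pullback.diagonal f))
  rw [h1, (pullback.diagonal f ∣_ OmegaSh.diagNbhd f U).isClosedEmbedding.isClosed_range.coborder_eq]
    at h2
  intro p hp
  have : (⟨p, hp⟩ : OmegaSh.diagNbhd f U) ∈
      (OmegaSh.diagNbhd f U).ι ⁻¹' coborder (Set.range (pullback.diagonal f)) := by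
    rw [← h2]; trivial
  exact this

end Chart

end Groth.Agent.H3.PP
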