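import Mathlib
import Groth.Prelude.Def_OmegaPn
import Groth.Prelude.Def_PP16
import Groth.Agent.Lib.Helper3.PP2

set_option autoImplicit false
universe u
open AlgebraicGeometry CategoryTheory TopologicalSpace Opposite CategoryTheory.Limits TensorProduct

namespace Groth.Agent.H3.PP

variable {X S : Scheme.{u}} (f : X ⟶ S)

theorem res_injective_of_le' {Z : Scheme.{u}} {W₁ W₂ : Z.Opens} (h : W₁ ≤ W₂) (h' : W₂ ≤ W₁) :
    Function.Injective (Z.presheaf.map (homOfLE h).op).hom := by
  obtain rfl := le_antisymm h h'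
  have : (homOfLE h).op = 𝟙 (op W₁) := rfl
  rw [this, Z.presheaf.map_id]
  exact fun _ _ h => h

section Chart

variable {U : X.Opens} {V : S.Opens} (hU : IsAffineOpen U) (hV : IsAffineOpen V) (e : U ≤ f ⁻¹ᵁ V)
  (n : ℕ)

/-- the chart of the `n`-th neighbourhood of the diagonal over an affine chart pair. -/
noncomputable abbrev nbhdChart (U : X.Opens) (n : ℕ) : (PrinPart.nbhd f n).Opens :=
  PrinPart.nbhdι f n ⁻¹ᵁ OmegaSh.diagNbhd f U

include hU hV e in
theorem isAffineOpen_preimage_diagNbhd :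
    IsAffineOpen ((pullback.diagonal f).coborderRange.ι ⁻¹ᵁ OmegaSh.diagNbhd f U) :=
  (isAffineOpen_diagNbhd f hU hV e).preimage_of_isOpenImmersion _
    (by rw [Scheme.Opens.opensRange_ι]; exact diagNbhd_le_coborderRange f hU hV e)

include hU hV e in
theorem isAffineOpen_nbhdChart : IsAffineOpen (nbhdChart f U n) := by
  haveI : IsClosedImmersion (PrinPart.infNbhdι (PrinPart.diagCl f) n) := by
    unfold PrinPart.infNbhdι; infer_instance
  exact (isAffineOpen_preimage_diagNbhd f hU hV e).preimage (PrinPart.infNbhdι (PrinPart.diagCl f) n)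

/-- the multiplication map `Γ(X ×_S X, pr₁⁻¹U ∩ pr₂⁻¹U) → Γ(X, U)`. -/
noncomputable abbrev diagMul (U : X.Opens) : Γ(pullback f f, OmegaSh.diagNbhd f U) ⟶ Γ(X, U) :=
  (pullback.diagonal f).appLE (OmegaSh.diagNbhd f U) U (OmegaSh.le_preimage_diagNbhd f U)

include hU hV e in
/-- the kernel ideal of the closed diagonal on the product chart is the kernel of multiplication. -/
theorem ker_diagCl_ideal :
    (PrinPart.diagCl f).ker.ideal ⟨_, isAffineOpen_preimage_diagNbhd f hU hV e⟩ =
      (RingHom.ker (diagMul f U).hom).map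
        ((pullback.diagonal f).coborderRange.ι.app (OmegaSh.diagNbhd f U)).hom := by
  set C := (pullback.diagonal f).coborderRange with hC
  have hWC : OmegaSh.diagNbhd f U ≤ C := diagNbhd_le_coborderRange f hU hV e
  haveI : IsIso (C.ι.app (OmegaSh.diagNbhd f U)) := Scheme.Hom.isIso_app C.ι _ (by
    rw [Scheme.Opens.opensRange_ι]; exact hWC)
  rw [Scheme.Hom.ker_apply]
  have hcomp : C.ι.app (OmegaSh.diagNbhd f U) ≫
      (PrinPart.diagCl f).appLE (C.ι ⁻¹ᵁ OmegaSh.diagNbhd f U) U
        (fun x hx => by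
          have := OmegaSh.le_preimage_diagNbhd f U hx
          have h2 : (PrinPart.diagCl f ≫ C.ι) x ∈ OmegaSh.diagNbhd f U := by
            rw [Scheme.Hom.liftCoborder_ι]; exact this
          exact h2) = diagMul f U := by
    rw [← Scheme.Hom.appLE_eq_app C.ι, Scheme.Hom.appLE_comp_appLE]
    exact OmegaSh.appLE_congr_hom (Scheme.Hom.liftCoborder_ι _) _ _
  have hb : Function.Bijective (C.ι.app (OmegaSh.diagNbhd f U)).hom :=
    ConcreteCategory.bijective_of_isIso _
  rw [← hcomp, CommRingCat.hom_comp, ← RingHom.comap_ker,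
    Ideal.map_comap_of_surjective _ hb.surjective, Scheme.Hom.appLE, CommRingCat.hom_comp]
  refine (RingHom.ker_comp_of_injective _ ?_).symm
  have hle : PrinPart.diagCl f ⁻¹ᵁ (C.ι ⁻¹ᵁ OmegaSh.diagNbhd f U) ≤ U := by
    intro x hx
    have h2 : (PrinPart.diagCl f ≫ C.ι) x ∈ OmegaSh.diagNbhd f U := hx
    rw [Scheme.Hom.liftCoborder_ι] at h2
    exact OmegaSh.diagonal_preimage_le f le_rfl h2
  exact res_injective_of_le' _ hle

theorem nbhdι_app_eq (W : (pullback f f).Opens) :
    (PrinPart.nbhdι f n).app W = (pullback.diagonal f).coborderRange.ι.app W ≫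
      ((PrinPart.diagCl f).ker ^ (n + 1)).subschemeι.app
        ((pullback.diagonal f).coborderRange.ι ⁻¹ᵁ W) := rfl

include hU hV e in
theorem nbhdι_app_surjective :
    Function.Surjective ((PrinPart.nbhdι f n).app (OmegaSh.diagNbhd f U)) := by
  set C := (pullback.diagonal f).coborderRange with hC
  have hWC : OmegaSh.diagNbhd f U ≤ C := diagNbhd_le_coborderRange f hU hV e
  haveI : IsIso (C.ι.app (OmegaSh.diagNbhd f U)) := Scheme.Hom.isIso_app C.ι _ (by
    rw [Scheme.Opens.opensRange_ι]; exact hWC)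
  rw [nbhdι_app_eq]
  have h1 : Function.Surjective (C.ι.app (OmegaSh.diagNbhd f U)) :=
    (ConcreteCategory.bijective_of_isIso _).surjective
  have h2 := ((PrinPart.diagCl f).ker ^ (n + 1)).subschemeι_app_surjective
    ⟨_, isAffineOpen_preimage_diagNbhd f hU hV e⟩
  exact h2.comp h1

include hU hV e in
theorem ker_nbhdι_app :
    RingHom.ker ((PrinPart.nbhdι f n).app (OmegaSh.diagNbhd f U)).hom =
      RingHom.ker (diagMul f U).hom ^ (n + 1) := by
  set C := (pullback.diagonal f).coborderRange with hC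
  have hWC : OmegaSh.diagNbhd f U ≤ C := diagNbhd_le_coborderRange f hU hV e
  haveI : IsIso (C.ι.app (OmegaSh.diagNbhd f U)) := Scheme.Hom.isIso_app C.ι _ (by
    rw [Scheme.Opens.opensRange_ι]; exact hWC)
  have hb : Function.Bijective (C.ι.app (OmegaSh.diagNbhd f U)).hom :=
    ConcreteCategory.bijective_of_isIso _
  have h2 := ((PrinPart.diagCl f).ker ^ (n + 1)).ker_subschemeι_app
    ⟨_, isAffineOpen_preimage_diagNbhd f hU hV e⟩
  have h3 : RingHom.ker ((PrinPart.nbhdι f n).app (OmegaSh.diagNbhd f U)).hom =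
      Ideal.comap (C.ι.app (OmegaSh.diagNbhd f U)).hom
        (RingHom.ker (((PrinPart.diagCl f).ker ^ (n + 1)).subschemeι.app
          (C.ι ⁻¹ᵁ OmegaSh.diagNbhd f U)).hom) :=
    (RingHom.comap_ker _ _).symm
  rw [h3, h2, Scheme.IdealSheafData.ideal_pow, Pi.pow_apply, ker_diagCl_ideal f hU hV e,
    ← Ideal.map_pow, Ideal.comap_map_of_bijective _ hb]

end Chart

end Groth.Agent.H3.PP
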