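import Mathlib
import Groth.Prelude.Def_OmegaPn
import Groth.Prelude.Def_PP16
import Groth.Agent.Lib.Helper3.PP3

set_option autoImplicit false
universe u
open AlgebraicGeometry CategoryTheory TopologicalSpace Opposite CategoryTheory.Limits TensorProduct

namespace Groth.Agent.H3.PP

variable {X S : Scheme.{u}} (f : X ⟶ S)

theorem pr1_apply_eq (n : ℕ) (x : PrinPart.nbhd f n) :
    PrinPart.pr1 f n x = pullback.fst f f (PrinPart.nbhdι f n x) := by
  unfold PrinPart.pr1; rw [Scheme.Hom.comp_apply]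

theorem pr2_apply_eq (n : ℕ) (x : PrinPart.nbhd f n) :
    PrinPart.pr2 f n x = pullback.snd f f (PrinPart.nbhdι f n x) := by
  unfold PrinPart.pr2; rw [Scheme.Hom.comp_apply]

theorem nbhdChart_eq_pr1 (U : X.Opens) (n : ℕ) :
    nbhdChart f U n = PrinPart.pr1 f n ⁻¹ᵁ U := by
  ext x
  change (pullback.fst f f (PrinPart.nbhdι f n x) ∈ U ∧
    pullback.snd f f (PrinPart.nbhdι f n x) ∈ U) ↔ PrinPart.pr1 f n x ∈ U
  rw [← pr1_apply_eq, ← pr2_apply_eq, ← PrinPart.pr1_apply]
  exact and_self_iff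

theorem nbhdChart_eq_pr2 (U : X.Opens) (n : ℕ) :
    nbhdChart f U n = PrinPart.pr2 f n ⁻¹ᵁ U := by
  rw [nbhdChart_eq_pr1, PrinPart.preimage_pr1]

section Chart

variable {U : X.Opens} {V : S.Opens} (hU : IsAffineOpen U) (hV : IsAffineOpen V) (e : U ≤ f ⁻¹ᵁ V)
  (n : ℕ)

include hU hV e in
theorem isAffineOpen_pr1_preimage : IsAffineOpen (PrinPart.pr1 f n ⁻¹ᵁ U) := by
  rw [← nbhdChart_eq_pr1]; exact isAffineOpen_nbhdChart f hU hV e n

variable {A B : Type u} [CommRing A] [CommRing B] [Algebra A B]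
  (α : CommRingCat.of A ≅ Γ(S, V)) (β : CommRingCat.of B ≅ Γ(X, U))
  (hαβ : α.hom ≫ f.appLE V U e = CommRingCat.ofHom (algebraMap A B) ≫ β.hom)

include hU hV hαβ in
theorem isPushout_diagNbhdG :
    IsPushout (CommRingCat.ofHom (algebraMap A B)) (CommRingCat.ofHom (algebraMap A B))
      (β.hom ≫ (pullback.fst f f).appLE U (OmegaSh.diagNbhd f U) inf_le_left)
      (β.hom ≫ (pullback.snd f f).appLE U (OmegaSh.diagNbhd f U) inf_le_right) := by
  have hc : f.appLE V U e ≫ β.inv = α.inv ≫ CommRingCat.ofHom (algebraMap A B) := by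
    rw [Iso.comp_inv_eq, Category.assoc, ← hαβ, Iso.inv_hom_id_assoc]
  refine (isPushout_diagNbhd f hU hV e).of_iso α.symm β.symm β.symm (Iso.refl _) hc hc ?_ ?_
  · simp
  · simp

/-- the ring isomorphism `B ⊗_A B ≃ Γ(X ×_S X, pr₁⁻¹ U ∩ pr₂⁻¹ U)`, for rings `A`, `B` identified
with the sections over the chart. -/
noncomputable def tensorEquivG :
    B ⊗[A] B ≃+* Γ(pullback f f, OmegaSh.diagNbhd f U) :=
  ((CommRingCat.isPushout_tensorProduct A B B).isoIsPushout _ _
    (isPushout_diagNbhdG f hU hV e α β hαβ)).commRingCatIsoToRingEquiv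

theorem tensorEquivG_tmul_one (b : B) :
    tensorEquivG f hU hV e α β hαβ (b ⊗ₜ 1) =
      (pullback.fst f f).appLE U (OmegaSh.diagNbhd f U) inf_le_left (β.hom b) := by
  have := (CommRingCat.isPushout_tensorProduct A B B).inl_isoIsPushout_hom _ _
    (isPushout_diagNbhdG f hU hV e α β hαβ)
  exact congr($this b)

theorem tensorEquivG_one_tmul (b : B) :
    tensorEquivG f hU hV e α β hαβ (1 ⊗ₜ b) =
      (pullback.snd f f).appLE U (OmegaSh.diagNbhd f U) inf_le_right (β.hom b) := by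
  have := (CommRingCat.isPushout_tensorProduct A B B).inr_isoIsPushout_hom _ _
    (isPushout_diagNbhdG f hU hV e α β hαβ)
  exact congr($this b)

theorem tensorEquivG_tmul (b b' : B) :
    tensorEquivG f hU hV e α β hαβ (b ⊗ₜ b') =
      (pullback.fst f f).appLE U (OmegaSh.diagNbhd f U) inf_le_left (β.hom b) *
      (pullback.snd f f).appLE U (OmegaSh.diagNbhd f U) inf_le_right (β.hom b') := by
  have : b ⊗ₜ[A] b' = (b ⊗ₜ[A] 1) * (1 ⊗ₜ[A] b') := by
    rw [Algebra.TensorProduct.tmul_mul_tmul, mul_one, one_mul]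
  rw [this, map_mul, tensorEquivG_tmul_one, tensorEquivG_one_tmul]

theorem diagMul_fst (b : Γ(X, U)) :
    (diagMul f U).hom ((pullback.fst f f).appLE U (OmegaSh.diagNbhd f U) inf_le_left b) = b := by
  change ((pullback.fst f f).appLE U (OmegaSh.diagNbhd f U) inf_le_left ≫ diagMul f U) b = b
  rw [Scheme.Hom.appLE_comp_appLE, OmegaSh.id_appLE_eq_id (pullback.diagonal_fst f)]
  rfl

theorem diagMul_snd (b : Γ(X, U)) :
    (diagMul f U).hom ((pullback.snd f f).appLE U (OmegaSh.diagNbhd f U) inf_le_right b) = b := by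
  change ((pullback.snd f f).appLE U (OmegaSh.diagNbhd f U) inf_le_right ≫ diagMul f U) b = b
  rw [Scheme.Hom.appLE_comp_appLE, OmegaSh.id_appLE_eq_id (pullback.diagonal_snd f)]
  rfl

theorem diagMul_tensorEquivG (x : B ⊗[A] B) :
    (diagMul f U).hom (tensorEquivG f hU hV e α β hαβ x) =
      β.hom (Algebra.TensorProduct.lmul' A x) := by
  induction x using TensorProduct.induction_on with
  | zero => simp
  | tmul b b' =>
    rw [tensorEquivG_tmul, map_mul, diagMul_fst, diagMul_snd, Algebra.TensorProduct.lmul'_apply_tmul,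
      map_mul]
  | add x y hx hy => rw [map_add, map_add, hx, hy, map_add, map_add]

theorem comap_ker_diagMul :
    (RingHom.ker (diagMul f U).hom).comap (tensorEquivG f hU hV e α β hαβ).toRingHom =
      KaehlerDifferential.ideal A B := by
  ext x
  rw [Ideal.mem_comap, RingHom.mem_ker]
  change (diagMul f U).hom (tensorEquivG f hU hV e α β hαβ x) = 0 ↔ _
  rw [diagMul_tensorEquivG]
  have hinj : Function.Injective β.hom := (ConcreteCategory.bijective_of_isIso β.hom).injective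
  rw [← map_zero β.hom.hom]
  change β.hom.hom _ = β.hom.hom 0 ↔ _
  rw [hinj.eq_iff]
  rfl

/-- the surjection `B ⊗_A B → Γ(X^{(n)}_Δ, chart)`. -/
noncomputable def thetaG : B ⊗[A] B →+* Γ(PrinPart.nbhd f n, nbhdChart f U n) :=
  ((PrinPart.nbhdι f n).app (OmegaSh.diagNbhd f U)).hom.comp
    (tensorEquivG f hU hV e α β hαβ).toRingHom

theorem thetaG_apply (x : B ⊗[A] B) :
    thetaG f hU hV e n α β hαβ x =
      (PrinPart.nbhdι f n).app (OmegaSh.diagNbhd f U) (tensorEquivG f hU hV e α β hαβ x) := rfl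

theorem thetaG_surjective : Function.Surjective (thetaG f hU hV e n α β hαβ) := by
  intro y
  obtain ⟨z, hz⟩ := nbhdι_app_surjective f hU hV e n y
  obtain ⟨x, rfl⟩ := (tensorEquivG f hU hV e α β hαβ).surjective z
  exact ⟨x, hz⟩

theorem ker_thetaG :
    RingHom.ker (thetaG f hU hV e n α β hαβ) = KaehlerDifferential.ideal A B ^ (n + 1) := by
  have h1 : RingHom.ker (thetaG f hU hV e n α β hαβ) =
      (RingHom.ker ((PrinPart.nbhdι f n).app (OmegaSh.diagNbhd f U)).hom).comap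
        (tensorEquivG f hU hV e α β hαβ).toRingHom := (RingHom.comap_ker _ _).symm
  rw [h1, ker_nbhdι_app f hU hV e n, ← comap_ker_diagMul f hU hV e α β hαβ]
  set E := tensorEquivG f hU hV e α β hαβ with hE
  change Ideal.comap E _ = Ideal.comap E _ ^ (n + 1)
  rw [← Ideal.map_symm, ← Ideal.map_symm, Ideal.map_pow]

/-- **the ring of principal parts on a chart**: `P^n_{B/A} ≃ Γ(X^{(n)}_Δ, chart)`. -/
noncomputable def PhiG : PP16.P n A B ≃+* Γ(PrinPart.nbhd f n, nbhdChart f U n) :=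
  (Ideal.quotEquivOfEq (ker_thetaG f hU hV e n α β hαβ).symm).trans
    (RingHom.quotientKerEquivOfSurjective (thetaG_surjective f hU hV e n α β hαβ))

theorem PhiG_mk (x : B ⊗[A] B) :
    PhiG f hU hV e n α β hαβ (Ideal.Quotient.mk _ x) = thetaG f hU hV e n α β hαβ x := rfl

theorem nbhdChart_le_pr1 : nbhdChart f U n ≤ PrinPart.pr1 f n ⁻¹ᵁ U := (nbhdChart_eq_pr1 f U n).le
theorem nbhdChart_le_pr2 : nbhdChart f U n ≤ PrinPart.pr2 f n ⁻¹ᵁ U := (nbhdChart_eq_pr2 f U n).le

theorem nbhdι_app_fst (b : Γ(X, U)) :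
    (PrinPart.nbhdι f n).app (OmegaSh.diagNbhd f U)
        ((pullback.fst f f).appLE U (OmegaSh.diagNbhd f U) inf_le_left b) =
      (PrinPart.pr1 f n).appLE U (nbhdChart f U n) (nbhdChart_le_pr1 f n) b := by
  change ((pullback.fst f f).appLE U (OmegaSh.diagNbhd f U) inf_le_left ≫
    (PrinPart.nbhdι f n).app (OmegaSh.diagNbhd f U)) b = _
  rw [Scheme.Hom.app_eq_appLE, Scheme.Hom.appLE_comp_appLE]
  rfl

theorem nbhdι_app_snd (b : Γ(X, U)) :
    (PrinPart.nbhdι f n).app (OmegaSh.diagNbhd f U)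
        ((pullback.snd f f).appLE U (OmegaSh.diagNbhd f U) inf_le_right b) =
      (PrinPart.pr2 f n).appLE U (nbhdChart f U n) (nbhdChart_le_pr2 f n) b := by
  change ((pullback.snd f f).appLE U (OmegaSh.diagNbhd f U) inf_le_right ≫
    (PrinPart.nbhdι f n).app (OmegaSh.diagNbhd f U)) b = _
  rw [Scheme.Hom.app_eq_appLE, Scheme.Hom.appLE_comp_appLE]
  rfl

theorem thetaG_tmul (b b' : B) :
    thetaG f hU hV e n α β hαβ (b ⊗ₜ b') =
      (PrinPart.pr1 f n).appLE U (nbhdChart f U n) (nbhdChart_le_pr1 f n) (β.hom b) *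
      (PrinPart.pr2 f n).appLE U (nbhdChart f U n) (nbhdChart_le_pr2 f n) (β.hom b') := by
  rw [thetaG_apply, tensorEquivG_tmul, map_mul, nbhdι_app_fst, nbhdι_app_snd]

end Chart

end Groth.Agent.H3.PP
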