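import Mathlib
import Groth.Prelude.Def_OmegaPn
import Groth.Prelude.Def_PP16
import Groth.Agent.Lib.Helper3.PP4
import Groth.Agent.Lib.Lead.QC.PushFin
import Groth.Agent.Lib.Lead.QC.Pullback
import Groth.Agent.S5002
import Groth.Agent.S3814

set_option autoImplicit false
universe u
open AlgebraicGeometry CategoryTheory TopologicalSpace Opposite CategoryTheory.Limits TensorProduct

namespace Groth.Agent.H3.PP

variable {X S : Scheme.{u}} (f : X ⟶ S)

section Chart

variable {U : X.Opens} {V : S.Opens} (hU : IsAffineOpen U) (hV : IsAffineOpen V) (e : U ≤ f ⁻¹ᵁ V)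
  (n : ℕ)

/-- the chart isomorphism with `A = Γ(S, V)`, `B = Γ(X, U)`. -/
noncomputable def Phi :
    letI := (f.appLE V U e).hom.toAlgebra
    PP16.P n Γ(S, V) Γ(X, U) ≃+* Γ(PrinPart.nbhd f n, nbhdChart f U n) :=
  letI := (f.appLE V U e).hom.toAlgebra
  PhiG (A := Γ(S, V)) (B := Γ(X, U)) f hU hV e n (Iso.refl _) (Iso.refl _) (by
    simp only [Iso.refl_hom, Category.id_comp, Category.comp_id]; rfl)

theorem Phi_mk_tmul (b b' : Γ(X, U)) :
    letI := (f.appLE V U e).hom.toAlgebra
    Phi f hU hV e n (Ideal.Quotient.mk _ (b ⊗ₜ b')) =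
      (PrinPart.pr1 f n).appLE U (nbhdChart f U n) (nbhdChart_le_pr1 f n) b *
      (PrinPart.pr2 f n).appLE U (nbhdChart f U n) (nbhdChart_le_pr2 f n) b' := by
  letI := (f.appLE V U e).hom.toAlgebra
  unfold Phi
  rw [PhiG_mk, thetaG_tmul]
  rfl

theorem Phi_algebraMap (b : Γ(X, U)) :
    letI := (f.appLE V U e).hom.toAlgebra
    Phi f hU hV e n (algebraMap Γ(X, U) (PP16.P n Γ(S, V) Γ(X, U)) b) =
      (PrinPart.pr1 f n).appLE U (nbhdChart f U n) (nbhdChart_le_pr1 f n) b := by
  letI := (f.appLE V U e).hom.toAlgebra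
  change Phi f hU hV e n (Ideal.Quotient.mk _ (b ⊗ₜ 1)) = _
  rw [Phi_mk_tmul, map_one, mul_one]

theorem Phi_dn (b : Γ(X, U)) :
    letI := (f.appLE V U e).hom.toAlgebra
    Phi f hU hV e n (PP16.dn n Γ(S, V) Γ(X, U) b) =
      (PrinPart.pr2 f n).appLE U (nbhdChart f U n) (nbhdChart_le_pr2 f n) b := by
  letI := (f.appLE V U e).hom.toAlgebra
  change Phi f hU hV e n (Ideal.Quotient.mk _ (1 ⊗ₜ b)) = _
  rw [Phi_mk_tmul, map_one, one_mul]

/-- the restriction isomorphism `Γ(N, pr₁⁻¹U) ≃ Γ(N, chart)`. -/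
noncomputable def resChart :
    Γ(PrinPart.nbhd f n, PrinPart.pr1 f n ⁻¹ᵁ U) ≃+* Γ(PrinPart.nbhd f n, nbhdChart f U n) :=
  RingEquiv.ofBijective ((PrinPart.nbhd f n).presheaf.map (homOfLE (nbhdChart_le_pr1 f n)).op).hom
    ⟨res_injective_of_le' _ (nbhdChart_eq_pr1 f U n).ge, by
      intro y
      refine ⟨(PrinPart.nbhd f n).presheaf.map (homOfLE (nbhdChart_eq_pr1 f U n).ge).op y, ?_⟩
      change ((PrinPart.nbhd f n).presheaf.map _ ≫ (PrinPart.nbhd f n).presheaf.map _) y = y
      rw [← Functor.map_comp]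
      exact congr($((PrinPart.nbhd f n).presheaf.map_id _) y)⟩

theorem resChart_pr1_app (b : Γ(X, U)) :
    resChart f n ((PrinPart.pr1 f n).app U b) =
      (PrinPart.pr1 f n).appLE U (nbhdChart f U n) (nbhdChart_le_pr1 f n) b := rfl

include hU hV e in
theorem pr1_app_eq_comp :
    letI := (f.appLE V U e).hom.toAlgebra
    ((PrinPart.pr1 f n).app U).hom =
      (((resChart f n).symm.toRingHom).comp (Phi f hU hV e n).toRingHom).comp
        (algebraMap Γ(X, U) (PP16.P n Γ(S, V) Γ(X, U))) := by
  letI := (f.appLE V U e).hom.toAlgebra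
  ext b
  change _ = (resChart f n).symm (Phi f hU hV e n (algebraMap Γ(X, U) _ b))
  rw [Phi_algebraMap, ← resChart_pr1_app, RingEquiv.symm_apply_apply]

include hU hV e in
theorem finite_pr1_app (hft : (f.appLE V U e).hom.FiniteType) :
    ((PrinPart.pr1 f n).app U).hom.Finite := by
  letI := (f.appLE V U e).hom.toAlgebra
  haveI : Algebra.FiniteType Γ(S, V) Γ(X, U) := hft
  have h1 : Module.Finite Γ(X, U) (PP16.P n Γ(S, V) Γ(X, U)) := Groth.Agent.S5002.result n _ _
  rw [pr1_app_eq_comp f hU hV e n]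
  refine RingHom.Finite.comp (RingHom.Finite.of_surjective _ ?_) (RingHom.finite_algebraMap.mpr h1)
  exact (resChart f n).symm.surjective.comp (Phi f hU hV e n).surjective

include hU hV e in
theorem finitePresentation_pr1_app (hfp : (f.appLE V U e).hom.FinitePresentation) :
    ((PrinPart.pr1 f n).app U).hom.FinitePresentation := by
  letI := (f.appLE V U e).hom.toAlgebra
  haveI : Algebra.FinitePresentation Γ(S, V) Γ(X, U) := hfp
  have h1 : Module.FinitePresentation Γ(X, U) (PP16.P n Γ(S, V) Γ(X, U)) :=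
    Groth.Agent.S3814.result n _ _
  have h2 : Algebra.FinitePresentation Γ(X, U) (PP16.P n Γ(S, V) Γ(X, U)) := by
    have h2' : Algebra.FinitePresentation Γ(X, U) (Γ(X, U) ⊗[Γ(S, V)] Γ(X, U)) := inferInstance
    exact Algebra.FinitePresentation.quotient (KaehlerDifferential.ideal_fg _ _).pow
  rw [pr1_app_eq_comp f hU hV e n]
  refine RingHom.FinitePresentation.comp (RingHom.FinitePresentation.of_bijective ?_)
    (RingHom.finitePresentation_algebraMap.mpr h2)
  exact (resChart f n).symm.bijective.comp (Phi f hU hV e n).bijective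

end Chart

open Groth.Agent.LD.QC in
/-- `P^n_{X/S}(F)` is of finite type for `f` locally of finite type and `F` qc of finite type. -/
theorem isFiniteType_PMod [LocallyOfFiniteType f] (n : ℕ) (F : X.Modules) [F.IsQuasicoherent]
    (hF : F.IsFiniteType) : (PrinPart.PMod f n F).IsFiniteType := by
  haveI := qc_PMod f n F
  apply isFiniteType_of_finite_sections
  intro x
  obtain ⟨U, V, hU, hV, hxU, e⟩ := exists_affine_nhds_le_preimage f x
  refine ⟨U, hU, hxU, ?_⟩
  haveI := qc_pullback (PrinPart.pr2 f n) F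
  exact pushforward_sections_finite (PrinPart.pr1 f n) ((Scheme.Modules.pullback (PrinPart.pr2 f n)).obj F)
    U (finite_pr1_app f hU hV e n (f.finiteType_appLE hV hU e))
    (finite_sections_of_isFiniteType _ (isFiniteType_pullback _ F hF)
      (isAffineOpen_pr1_preimage f hU hV e n))

open Groth.Agent.LD.QC in
/-- `P^n_{X/S}(F)` is of finite presentation for `f` locally of finite presentation and `F` of
finite presentation. -/
theorem isFinitePresentation_PMod [LocallyOfFinitePresentation f] (n : ℕ) (F : X.Modules)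
    (hF : F.IsFinitePresentation) : (PrinPart.PMod f n F).IsFinitePresentation := by
  haveI : F.IsQuasicoherent := inferInstance
  haveI := qc_PMod f n F
  apply isFinitePresentation_of_sections
  intro x
  obtain ⟨U, V, hU, hV, hxU, e⟩ := exists_affine_nhds_le_preimage f x
  refine ⟨U, hU, hxU, ?_⟩
  haveI := qc_pullback (PrinPart.pr2 f n) F
  have hfp := f.finitePresentation_appLE hV hU e
  exact (pushforward_sections_finitePresentation_iff (PrinPart.pr1 f n)
    ((Scheme.Modules.pullback (PrinPart.pr2 f n)).obj F) U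
    (finite_pr1_app f hU hV e n (RingHom.FiniteType.of_finitePresentation hfp))
    (finitePresentation_pr1_app f hU hV e n hfp)).mp
    (finitePresentation_sections_of_isFinitePresentation _ (isFinitePresentation_pullback _ F hF)
      (isAffineOpen_pr1_preimage f hU hV e n))

end Groth.Agent.H3.PP
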