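import Mathlib
import Groth.Prelude.Def_OmegaPn
import Groth.Prelude.Def_PP16
import Groth.Agent.Lib.Helper3.PP5
import Groth.Agent.Lib.Lead.QC.UnitIso

set_option autoImplicit false
universe u
open AlgebraicGeometry CategoryTheory TopologicalSpace Opposite CategoryTheory.Limits TensorProduct

namespace Groth.Agent.H3.PP

variable {X S : Scheme.{u}} (f : X ⟶ S)

/-- for any morphism `g`, the iso `g^* O ≅ O` sends the pullback of a function to its comorphism
image. -/
theorem pullbackUnitIso_pullSect {X Y : Scheme.{u}} (g : X ⟶ Y) (U : Y.Opens) (b : Γ(Y, U)) :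
    (Groth.Agent.LD.QC.pullbackUnitIso g).hom.app (g ⁻¹ᵁ U)
      (OmegaSh.pullSect g (Coh.structureModule Y) U (OmegaSh.strSect Y U b)) =
      OmegaSh.strSect X (g ⁻¹ᵁ U) (g.app U b) := by
  have h := Groth.Agent.LD.QC.unit_unitMod g
  have h2 := congr($(h).app U (OmegaSh.strSect Y U b))
  exact h2

/-- sections of `P^n_{X/S}` over `U`, as functions on the `n`-th neighbourhood of the diagonal. -/
noncomputable def kappa (n : ℕ) (U : X.Opens) :
    Γ(PrinPart.P f n, U) →+ Γ(PrinPart.nbhd f n, PrinPart.pr1 f n ⁻¹ᵁ U) :=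
  ((Groth.Agent.LD.QC.pullbackUnitIso (PrinPart.pr2 f n)).hom.app (PrinPart.pr1 f n ⁻¹ᵁ U)).hom

theorem kappa_bijective (n : ℕ) (U : X.Opens) : Function.Bijective (kappa f n U) := by
  have : IsIso ((Groth.Agent.LD.QC.pullbackUnitIso (PrinPart.pr2 f n)).hom.app
      (PrinPart.pr1 f n ⁻¹ᵁ U)) := inferInstance
  exact (ConcreteCategory.bijective_of_isIso
    ((Groth.Agent.LD.QC.pullbackUnitIso (PrinPart.pr2 f n)).hom.app (PrinPart.pr1 f n ⁻¹ᵁ U)) :)

theorem kappa_smul (n : ℕ) (U : X.Opens) (b : Γ(X, U)) (s : Γ(PrinPart.P f n, U)) :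
    kappa f n U (b • s) = (PrinPart.pr1 f n).app U b * kappa f n U s := by
  have := Scheme.Modules.Hom.app_smul (Groth.Agent.LD.QC.pullbackUnitIso (PrinPart.pr2 f n)).hom
    (U := PrinPart.pr1 f n ⁻¹ᵁ U) ((PrinPart.pr1 f n).app U b)
    (show Γ((Scheme.Modules.pullback (PrinPart.pr2 f n)).obj (Coh.structureModule X),
      PrinPart.pr1 f n ⁻¹ᵁ U) from s)
  exact this

theorem kappa_dn (n : ℕ) (U : X.Opens) (b : Γ(X, U)) :
    kappa f n U (PrinPart.dn f n U b) =
      (PrinPart.pr2 f n).appLE U (PrinPart.pr1 f n ⁻¹ᵁ U) (PrinPart.preimage_pr1 f n U).le b := by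
  have h1 := pullbackUnitIso_pullSect (PrinPart.pr2 f n) U b
  have h2 := Groth.Agent.LD.QC.app_res (Groth.Agent.LD.QC.pullbackUnitIso (PrinPart.pr2 f n)).hom
    (PrinPart.preimage_pr1 f n U).le
    (OmegaSh.pullSect (PrinPart.pr2 f n) (Coh.structureModule X) U (OmegaSh.strSect X U b))
  change (Groth.Agent.LD.QC.pullbackUnitIso (PrinPart.pr2 f n)).hom.app (PrinPart.pr1 f n ⁻¹ᵁ U)
    (((Scheme.Modules.pullback (PrinPart.pr2 f n)).obj (Coh.structureModule X)).presheaf.map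
      (homOfLE (PrinPart.preimage_pr1 f n U).le).op
      (OmegaSh.pullSect (PrinPart.pr2 f n) (Coh.structureModule X) U (OmegaSh.strSect X U b))) = _
  rw [h2, h1]
  rfl

section Chart

variable {U : X.Opens} {V : S.Opens} (hU : IsAffineOpen U) (hV : IsAffineOpen V) (e : U ≤ f ⁻¹ᵁ V)
  (n : ℕ)

theorem resChart_pr2_appLE (b : Γ(X, U)) :
    resChart f n ((PrinPart.pr2 f n).appLE U (PrinPart.pr1 f n ⁻¹ᵁ U)
        (PrinPart.preimage_pr1 f n U).le b) =
      (PrinPart.pr2 f n).appLE U (nbhdChart f U n) (nbhdChart_le_pr2 f n) b := by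
  change ((PrinPart.pr2 f n).appLE U (PrinPart.pr1 f n ⁻¹ᵁ U) _ ≫
    (PrinPart.nbhd f n).presheaf.map (homOfLE (nbhdChart_le_pr1 f n)).op) b = _
  rw [Scheme.Hom.appLE_map]

variable {A B : Type u} [CommRing A] [CommRing B] [Algebra A B]
  (α : CommRingCat.of A ≅ Γ(S, V)) (β : CommRingCat.of B ≅ Γ(X, U))
  (hαβ : α.hom ≫ f.appLE V U e = CommRingCat.ofHom (algebraMap A B) ≫ β.hom)

/-- `κ` as an additive equivalence. -/
noncomputable def kappaEquiv (n : ℕ) (U : X.Opens) :
    Γ(PrinPart.P f n, U) ≃+ Γ(PrinPart.nbhd f n, PrinPart.pr1 f n ⁻¹ᵁ U) :=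
  AddEquiv.ofBijective (kappa f n U) (kappa_bijective f n U)

/-- **sections of `P^n_{X/S}` over a chart**: `P^n_{B/A} ≃ Γ(U, P^n_{X/S})`. -/
noncomputable def psiG : PP16.P n A B ≃+ Γ(PrinPart.P f n, U) :=
  ((PhiG f hU hV e n α β hαβ).toAddEquiv.trans (resChart f n).symm.toAddEquiv).trans
    (kappaEquiv f n U).symm

theorem kappa_psiG (x : PP16.P n A B) :
    resChart f n (kappa f n U (psiG f hU hV e n α β hαβ x)) = PhiG f hU hV e n α β hαβ x := by
  unfold psiG
  change resChart f n (kappaEquiv f n U ((kappaEquiv f n U).symm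
    ((resChart f n).symm (PhiG f hU hV e n α β hαβ x)))) = _
  rw [AddEquiv.apply_symm_apply, RingEquiv.apply_symm_apply]

theorem psiG_mk_tmul (b b' : B) :
    psiG f hU hV e n α β hαβ (Ideal.Quotient.mk _ (b ⊗ₜ b')) =
      (β.hom b : Γ(X, U)) • PrinPart.dn f n U (β.hom b') := by
  apply (kappaEquiv f n U).injective
  apply (resChart f n).injective
  change resChart f n (kappa f n U (psiG f hU hV e n α β hαβ _)) = resChart f n (kappa f n U _)
  rw [kappa_psiG, PhiG_mk, thetaG_tmul, kappa_smul, kappa_dn, map_mul, resChart_pr1_app,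
    resChart_pr2_appLE]

theorem psiG_smul (b : B) (x : PP16.P n A B) :
    psiG f hU hV e n α β hαβ (b • x) = (β.hom b : Γ(X, U)) • psiG f hU hV e n α β hαβ x := by
  apply (kappaEquiv f n U).injective
  apply (resChart f n).injective
  change resChart f n (kappa f n U (psiG f hU hV e n α β hαβ _)) = resChart f n (kappa f n U _)
  rw [kappa_psiG, kappa_smul, map_mul, kappa_psiG, resChart_pr1_app, Algebra.smul_def, map_mul]
  congr 1
  change PhiG f hU hV e n α β hαβ (Ideal.Quotient.mk _ (b ⊗ₜ 1)) = _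
  rw [PhiG_mk, thetaG_tmul, map_one, map_one, mul_one]

theorem psiG_dn (b : B) :
    psiG f hU hV e n α β hαβ (PP16.dn n A B b) = PrinPart.dn f n U (β.hom b) := by
  change psiG f hU hV e n α β hαβ (Ideal.Quotient.mk _ (1 ⊗ₜ b)) = _
  rw [psiG_mk_tmul, map_one, one_smul]

end Chart

end Groth.Agent.H3.PP
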