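import Mathlib
import Groth.Prelude.Def_OmegaPn
import Groth.Prelude.Def_PP16
import Groth.Agent.Lib.Helper3.PP6

set_option autoImplicit false
universe u
open AlgebraicGeometry CategoryTheory TopologicalSpace Opposite CategoryTheory.Limits TensorProduct

namespace Groth.Agent.H3.PP

variable {X S : Scheme.{u}} (f : X ⟶ S)

/-- `pr₂♯ a − pr₁♯ a` on the `n`-th neighbourhood of the diagonal. -/
noncomputable def eps (n : ℕ) (U : X.Opens) (a : Γ(X, U)) :
    Γ(PrinPart.nbhd f n, PrinPart.pr1 f n ⁻¹ᵁ U) :=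
  (PrinPart.pr2 f n).appLE U (PrinPart.pr1 f n ⁻¹ᵁ U) (PrinPart.preimage_pr1 f n U).le a -
    (PrinPart.pr1 f n).app U a

section Chart

variable {U : X.Opens} {V : S.Opens} (hU : IsAffineOpen U) (hV : IsAffineOpen V) (e : U ≤ f ⁻¹ᵁ V)
  (n : ℕ)

/-- restriction of `eps` to the chart of a smaller affine chart pair. -/
theorem res_eps {U₀ : X.Opens} (hUU : U ≤ U₀) (a : Γ(X, U₀)) :
    letI := (f.appLE V U e).hom.toAlgebra
    (PrinPart.nbhd f n).presheaf.map
        (homOfLE ((nbhdChart_le_pr1 f n).trans ((PrinPart.pr1 f n).preimage_mono hUU))).op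
        (eps f n U₀ a) =
      thetaG (A := Γ(S, V)) (B := Γ(X, U)) f hU hV e n (Iso.refl _) (Iso.refl _) (by
        simp only [Iso.refl_hom, Category.id_comp, Category.comp_id]; rfl)
        ((1 : Γ(X, U)) ⊗ₜ (X.presheaf.map (homOfLE hUU).op a) -
          (X.presheaf.map (homOfLE hUU).op a) ⊗ₜ (1 : Γ(X, U))) := by
  letI := (f.appLE V U e).hom.toAlgebra
  rw [map_sub, thetaG_tmul, thetaG_tmul, map_one, map_one, map_one, one_mul, mul_one, eps, map_sub]
  congr 1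
  · change ((PrinPart.pr2 f n).appLE U₀ _ _ ≫ (PrinPart.nbhd f n).presheaf.map _) a =
      (X.presheaf.map _ ≫ (PrinPart.pr2 f n).appLE U _ _) a
    rw [Scheme.Hom.appLE_map, Scheme.Hom.map_appLE]
  · change ((PrinPart.pr1 f n).app U₀ ≫ (PrinPart.nbhd f n).presheaf.map _) a =
      (X.presheaf.map _ ≫ (PrinPart.pr1 f n).appLE U _ _) a
    rw [Scheme.Hom.map_appLE, Scheme.Hom.app_eq_appLE, Scheme.Hom.appLE_map]

end Chart

/-- a product of `n + 1` elements `pr₂♯ a − pr₁♯ a` vanishes on the `n`-th neighbourhood. -/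
theorem prod_eps_eq_zero (n : ℕ) (U₀ : X.Opens) (a : Fin (n + 1) → Γ(X, U₀)) :
    ∏ i, eps f n U₀ (a i) = 0 := by
  have key : ∀ x : (PrinPart.pr1 f n ⁻¹ᵁ U₀ : (PrinPart.nbhd f n).Opens),
      ∃ (U : X.Opens) (V : S.Opens), IsAffineOpen U ∧ IsAffineOpen V ∧ U ≤ f ⁻¹ᵁ V ∧ U ≤ U₀ ∧
        x.1 ∈ nbhdChart f U n := by
    intro x
    obtain ⟨V, hV, hxV, -⟩ := exists_isAffineOpen_mem_and_subset
      (x := f (PrinPart.pr1 f n x.1)) (U := ⊤) trivial
    have hx : PrinPart.pr1 f n x.1 ∈ U₀ ⊓ f ⁻¹ᵁ V := ⟨x.2, hxV⟩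
    obtain ⟨U, hU, hxU, hUle⟩ := exists_isAffineOpen_mem_and_subset hx
    refine ⟨U, V, hU, hV, fun y hy => (hUle hy).2, fun y hy => (hUle hy).1, ?_⟩
    rw [nbhdChart_eq_pr1]
    exact hxU
  choose U V hU hV e hUU hx using key
  refine (PrinPart.nbhd f n).sheaf.eq_of_locally_eq' (fun x => nbhdChart f (U x) n)
    (PrinPart.pr1 f n ⁻¹ᵁ U₀)
    (fun x => homOfLE ((nbhdChart_le_pr1 f n).trans ((PrinPart.pr1 f n).preimage_mono (hUU x))))
    ?_ _ _ ?_
  · intro y hy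
    exact TopologicalSpace.Opens.mem_iSup.mpr ⟨⟨y, hy⟩, hx _⟩
  · intro x
    letI := (f.appLE (V x) (U x) (e x)).hom.toAlgebra
    change (PrinPart.nbhd f n).presheaf.map _ (∏ i, eps f n U₀ (a i)) =
      (PrinPart.nbhd f n).presheaf.map _ 0
    rw [map_zero, map_prod]
    simp_rw [res_eps f (hU x) (hV x) (e x) n (hUU x)]
    rw [← map_prod, ← RingHom.mem_ker, ker_thetaG]
    have := PP16.prod_mem_pow (KaehlerDifferential.ideal Γ(S, V x) Γ(X, U x))
      (Finset.univ : Finset (ULift.{u} (Fin (n + 1))))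
      (fun i => (1 : Γ(X, U x)) ⊗ₜ[Γ(S, V x)] (X.presheaf.map (homOfLE (hUU x)).op (a i.down)) -
          (X.presheaf.map (homOfLE (hUU x)).op (a i.down)) ⊗ₜ[Γ(S, V x)] (1 : Γ(X, U x)))
      (fun i _ => KaehlerDifferential.one_smul_sub_smul_one_mem_ideal _ _)
    rw [Finset.card_univ, Fintype.card_ulift, Fintype.card_fin] at this
    convert this using 1
    exact (Fintype.prod_equiv Equiv.ulift _ _ (fun _ => rfl)).symm

end Groth.Agent.H3.PP
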