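import Mathlib
import Groth.Prelude.Def_OmegaPn
import Groth.Prelude.Def_PP16
import Groth.Agent.Lib.Helper3.PP10

set_option autoImplicit false
universe u
open AlgebraicGeometry CategoryTheory TopologicalSpace Opposite CategoryTheory.Limits TensorProduct

namespace Groth.Agent.H3.PP

variable {X S : Scheme.{u}} (f : X ⟶ S)

theorem kappa_injective (n : ℕ) (U : X.Opens) : Function.Injective (kappa f n U) :=
  (kappa_bijective f n U).injective

theorem kappa_dn_one (n : ℕ) (U : X.Opens) : kappa f n U (PrinPart.dn f n U 1) = 1 := by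
  rw [kappa_dn, map_one]

/-- the Leibniz rule for `d^1`: `d^1(ab) = a d^1 b + b d^1 a − ab d^1 1`. -/
theorem dn_one_mul (U : X.Opens) (a b : Γ(X, U)) :
    PrinPart.dn f 1 U (a * b) =
      a • PrinPart.dn f 1 U b + b • PrinPart.dn f 1 U a - (a * b) • PrinPart.dn f 1 U 1 := by
  apply kappa_injective f 1 U
  rw [map_sub, map_add, kappa_smul, kappa_smul, kappa_smul, kappa_dn, kappa_dn, kappa_dn,
    kappa_dn_one, map_mul, map_mul, mul_one]
  have h := prod_eps_eq_zero f 1 U ![a, b]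
  rw [Fin.prod_univ_two] at h
  simp only [Matrix.cons_val_zero, Matrix.cons_val_one, eps] at h
  have h2 : ∀ x y z w : Γ(PrinPart.nbhd f 1, PrinPart.pr1 f 1 ⁻¹ᵁ U),
      (x - y) * (z - w) = 0 → x * z = y * z + w * x - y * w := by
    intro x y z w hxy
    have : x * z - (y * z + w * x - y * w) = (x - y) * (z - w) := by ring
    rw [← sub_eq_zero, this, hxy]
  exact h2 _ _ _ _ h

/-- `d^n` of a function from the base is that function times `d^n 1`. -/
theorem dn_app_base (n : ℕ) (V : S.Opens) (s : Γ(S, V)) :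
    PrinPart.dn f n (f ⁻¹ᵁ V) (f.app V s) = (f.app V s) • PrinPart.dn f n (f ⁻¹ᵁ V) 1 := by
  apply kappa_injective f n (f ⁻¹ᵁ V)
  rw [kappa_smul, kappa_dn, kappa_dn_one, mul_one]
  change (f.app V ≫ (PrinPart.pr2 f n).appLE (f ⁻¹ᵁ V) _ _) s =
    (f.app V ≫ (PrinPart.pr1 f n).app (f ⁻¹ᵁ V)) s
  rw [← Scheme.Hom.comp_appLE, Scheme.Hom.app_eq_appLE (PrinPart.pr1 f n), ← Scheme.Hom.comp_appLE]
  exact congr($(OmegaSh.appLE_congr_hom (PrinPart.pr1_comp f n).symm _ _) s)

end Groth.Agent.H3.PP
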