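import Mathlib
import Groth.Prelude.Def_OmegaPn

set_option autoImplicit false
universe u
open AlgebraicGeometry CategoryTheory TopologicalSpace Opposite CategoryTheory.Limits Polynomial

namespace Groth.Agent.H3.PP

section Gen

variable {X Y N : Scheme.{u}}

theorem comp_app_apply (J : Y ⟶ N) (ι : N ⟶ X) {U : X.Opens} (β : Γ(X, U)) :
    (J ≫ ι).app U β = J.app (ι ⁻¹ᵁ U) (ι.app U β) := rfl

theorem app_eq_zero_of_eq {p q : Y ⟶ X} (hpq : p = q) (U : X.Opens) (β : Γ(X, U))
    (h : p.app U β = 0) : q.app U β = 0 := by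
  subst hpq; exact h

theorem app_res_apply (J : Y ⟶ N) {W W' : N.Opens} (h : W' ≤ W) (b : Γ(N, W)) :
    J.app W' (N.presheaf.map (homOfLE h).op b) =
      Y.presheaf.map (homOfLE (J.preimage_mono h)).op (J.app W b) :=
  congr($(J.naturality (homOfLE h).op) b)

/-- generic form: `ι` the inclusion of the closed subscheme of `I`, `J` any morphism into it with
`J ≫ ι = i`, `I = i.ker ^ (n+1)`. -/
theorem pow_eq_zero_gen (i : Y ⟶ X) [QuasiCompact i] (n : ℕ)
    (J : Y ⟶ (i.ker ^ (n + 1)).subscheme) (hJ : J ≫ (i.ker ^ (n + 1)).subschemeι = i)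
    (W : ((i.ker ^ (n + 1)).subscheme).Opens) (b : Γ((i.ker ^ (n + 1)).subscheme, W))
    (hb : J.app W b = 0) : b ^ (n + 1) = 0 := by
  have key : ∀ z : W, ∃ U' : X.Opens, IsAffineOpen U' ∧ (i.ker ^ (n + 1)).subschemeι z.1 ∈ U' ∧
      (i.ker ^ (n + 1)).subschemeι ⁻¹ᵁ U' ≤ W := by
    intro z
    obtain ⟨O, hO, hOW⟩ :=
      (i.ker ^ (n + 1)).subschemeι.isEmbedding.isInducing.isOpen_iff.mp W.isOpen
    have hz : (i.ker ^ (n + 1)).subschemeι z.1 ∈ (⟨O, hO⟩ : X.Opens) := by
      change z.1 ∈ (i.ker ^ (n + 1)).subschemeι ⁻¹' O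
      rw [hOW]; exact z.2
    obtain ⟨U', hU', hzU', hle⟩ := exists_isAffineOpen_mem_and_subset hz
    refine ⟨U', hU', hzU', ?_⟩
    intro w hw
    have : w ∈ (i.ker ^ (n + 1)).subschemeι ⁻¹' O := hle hw
    rw [hOW] at this
    exact this
  choose U' hU' hzU' hle using key
  refine ((i.ker ^ (n + 1)).subscheme).sheaf.eq_of_locally_eq'
    (fun z => (i.ker ^ (n + 1)).subschemeι ⁻¹ᵁ U' z) W (fun z => homOfLE (hle z)) ?_ _ _ ?_
  · intro w hw
    exact TopologicalSpace.Opens.mem_iSup.mpr ⟨⟨w, hw⟩, hzU' _⟩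
  · intro z
    change ((i.ker ^ (n + 1)).subscheme).presheaf.map (homOfLE (hle z)).op (b ^ (n + 1)) =
      ((i.ker ^ (n + 1)).subscheme).presheaf.map (homOfLE (hle z)).op 0
    rw [map_zero, map_pow]
    obtain ⟨β, hβ⟩ := Scheme.IdealSheafData.subschemeι_app_surjective (i.ker ^ (n + 1))
      ⟨U' z, hU' z⟩ (((i.ker ^ (n + 1)).subscheme).presheaf.map (homOfLE (hle z)).op b)
    have h1 : β ∈ i.ker.ideal ⟨U' z, hU' z⟩ := by
      rw [Scheme.Hom.ker_apply, RingHom.mem_ker]
      apply app_eq_zero_of_eq hJ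
      rw [comp_app_apply]
      have hβ' : (i.ker ^ (n + 1)).subschemeι.app (U' z) β =
        ((i.ker ^ (n + 1)).subscheme).presheaf.map (homOfLE (hle z)).op b := hβ
      rw [hβ', app_res_apply, hb, map_zero]
      rfl
    have h4 : β ^ (n + 1) ∈ (i.ker ^ (n + 1)).ideal ⟨U' z, hU' z⟩ := by
      rw [Scheme.IdealSheafData.ideal_pow]
      exact Ideal.pow_mem_pow h1 _
    rw [← Scheme.IdealSheafData.ker_subschemeι_app (i.ker ^ (n + 1)) ⟨U' z, hU' z⟩] at h4
    rw [← hβ, ← map_pow]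
    exact h4

/-- a morphism with a section which is a nilpotent thickening is integral on sections. -/
theorem isIntegral_app_of_section (h : N ⟶ Y) (J : Y ⟶ N) (hJh : J ≫ h = 𝟙 Y) (k : ℕ)
    (hnil : ∀ (W : N.Opens) (b : Γ(N, W)), J.app W b = 0 → b ^ k = 0) (V : Y.Opens) :
    (h.app V).hom.IsIntegral := by
  intro b
  haveI : IsIso (J ≫ h) := by rw [hJh]; infer_instance
  have hbij : Function.Bijective ((J ≫ h).app V) := ConcreteCategory.bijective_of_isIso _
  obtain ⟨a, ha⟩ := hbij.surjective (J.app (h ⁻¹ᵁ V) b)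
  have h1 : J.app (h ⁻¹ᵁ V) (b - h.app V a) = 0 := by
    rw [map_sub, ← comp_app_apply, ha, sub_self]
  have h2 : (b - h.app V a) ^ k = 0 := hnil _ _ h1
  have h3 : (h.app V).hom.IsIntegralElem (b - h.app V a) :=
    ⟨X ^ k, monic_X_pow k, by rw [eval₂_X_pow]; exact h2⟩
  have h4 : (h.app V).hom.IsIntegralElem (h.app V a) := RingHom.isIntegralElem_map _
  have h5 := RingHom.IsIntegralElem.add _ h3 h4
  rwa [sub_add_cancel] at h5

/-- a morphism with a continuous two-sided inverse on points is affine. -/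
theorem isAffineHom_of_section (h : N ⟶ Y) (J : Y ⟶ N) (hJh : J ≫ h = 𝟙 Y)
    (hJ : Function.Surjective J) : IsAffineHom h := by
  have hJh' : ∀ y, h (J y) = y := by
    intro y
    rw [← Scheme.Hom.comp_apply, hJh]; rfl
  have hhJ : ∀ z, J (h z) = z := by
    intro z
    obtain ⟨y, rfl⟩ := hJ z
    rw [hJh']
  let e : N ≃ₜ Y :=
    { toFun := h
      invFun := J
      left_inv := hhJ
      right_inv := hJh'
      continuous_toFun := h.continuous
      continuous_invFun := J.continuous }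
  refine isAffineHom_of_isInducing h e.isInducing ?_
  have : Set.range h = Set.univ := e.surjective.range_eq
  rw [this]
  exact isClosed_univ

end Gen

section InfNbhd

variable {X Y : Scheme.{u}} (i : Y ⟶ X) [IsClosedImmersion i] (n : ℕ)

instance isClosedImmersion_infNbhdι : IsClosedImmersion (PrinPart.infNbhdι i n) := by
  unfold PrinPart.infNbhdι; infer_instance

/-- a function on the `n`-th infinitesimal neighbourhood that vanishes on `Y` has `(n+1)`-st power
zero. -/
theorem pow_eq_zero_of_toInfNbhd_app_eq_zero (W : (PrinPart.infNbhd i n).Opens)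
    (b : Γ(PrinPart.infNbhd i n, W)) (hb : (PrinPart.toInfNbhd i n).app W b = 0) :
    b ^ (n + 1) = 0 :=
  pow_eq_zero_gen i n (PrinPart.toInfNbhd i n) (PrinPart.toInfNbhd_ι i n) W b hb

/-- **the infinitesimal neighbourhoods of a section of a morphism locally of finite type are
finite over the base.** -/
theorem isFinite_infNbhd_of_section {X Y : Scheme.{u}} (g : X ⟶ Y) [LocallyOfFiniteType g]
    (f : Y ⟶ X) [IsClosedImmersion f] (hf : f ≫ g = 𝟙 Y) (n : ℕ) :
    IsFinite (PrinPart.infNbhdι f n ≫ g) := by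
  have hJh : PrinPart.toInfNbhd f n ≫ (PrinPart.infNbhdι f n ≫ g) = 𝟙 Y := by
    rw [PrinPart.toInfNbhd_ι_assoc, hf]
  haveI : IsAffineHom (PrinPart.infNbhdι f n ≫ g) :=
    isAffineHom_of_section _ _ hJh (PrinPart.toInfNbhd_surjective f n)
  rw [IsFinite.iff_isIntegralHom_and_locallyOfFiniteType]
  refine ⟨(isIntegralHom_iff _).mpr ⟨inferInstance, fun V _ => ?_⟩, inferInstance⟩
  exact isIntegral_app_of_section _ _ hJh (n + 1)
    (pow_eq_zero_of_toInfNbhd_app_eq_zero f n) V

end InfNbhd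

end Groth.Agent.H3.PP
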