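import Mathlib
import Groth.Prelude.Def_OmegaPn

set_option autoImplicit false
universe u
open AlgebraicGeometry CategoryTheory TopologicalSpace Opposite CategoryTheory.Limits

namespace Groth.Agent.H3.PP

section Sym

variable {X P : Scheme.{u}} (Δ : X ⟶ P) [IsImmersion Δ] (s : P ⟶ P) [IsIso s]
  (hΔs : Δ ≫ s = Δ) (hss : s ≫ s = 𝟙 P)

include hΔs in
theorem preimage_range_eq : s ⁻¹' Set.range Δ = Set.range Δ := by
  have hinj : Function.Injective s := (Scheme.homeoOfIso (asIso s)).injective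
  have hs : ∀ y, s (Δ y) = Δ y := by
    intro y
    rw [← Scheme.Hom.comp_apply, hΔs]
  ext x
  constructor
  · rintro ⟨y, hy⟩
    exact ⟨y, hinj (by rw [hs, hy])⟩
  · rintro ⟨y, rfl⟩
    exact ⟨y, (hs y).symm⟩

include hΔs in
theorem preimage_coborderRange : s ⁻¹ᵁ Δ.coborderRange = Δ.coborderRange := by
  ext1
  change s ⁻¹' coborder (Set.range Δ) = coborder (Set.range Δ)
  rw [← s.isOpenEmbedding.coborder_preimage, preimage_range_eq Δ s hΔs]

include hΔs in
/-- the automorphism of the coborder open induced by an automorphism of `P` fixing `Δ`. -/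
noncomputable def coborderAut : (Δ.coborderRange : Scheme.{u}) ⟶ Δ.coborderRange :=
  IsOpenImmersion.lift Δ.coborderRange.ι (Δ.coborderRange.ι ≫ s) (by
    rintro _ ⟨x, rfl⟩
    rw [Scheme.Opens.range_ι]
    have hx : Δ.coborderRange.ι x ∈ Δ.coborderRange := by
      have := Set.mem_range_self (f := Δ.coborderRange.ι) x
      rwa [Scheme.Opens.range_ι] at this
    have hx' : Δ.coborderRange.ι x ∈ s ⁻¹ᵁ Δ.coborderRange := by
      rw [preimage_coborderRange Δ s hΔs]; exact hx
    exact hx')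

theorem coborderAut_ι :
    coborderAut Δ s hΔs ≫ Δ.coborderRange.ι = Δ.coborderRange.ι ≫ s :=
  IsOpenImmersion.lift_fac _ _ _

include hss in
theorem coborderAut_comp_self : coborderAut Δ s hΔs ≫ coborderAut Δ s hΔs = 𝟙 _ := by
  rw [← cancel_mono Δ.coborderRange.ι, Category.assoc, coborderAut_ι, ← Category.assoc,
    coborderAut_ι, Category.assoc, hss, Category.comp_id, Category.id_comp]

theorem liftCoborder_coborderAut : Δ.liftCoborder ≫ coborderAut Δ s hΔs = Δ.liftCoborder := by
  rw [← cancel_mono Δ.coborderRange.ι, Category.assoc, coborderAut_ι, ← Category.assoc,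
    Scheme.Hom.liftCoborder_ι, hΔs]

include hss in
theorem isIso_coborderAut : IsIso (coborderAut Δ s hΔs) :=
  ⟨⟨coborderAut Δ s hΔs, coborderAut_comp_self Δ s hΔs hss, coborderAut_comp_self Δ s hΔs hss⟩⟩

include hss in
theorem ker_pow_le_map (n : ℕ) :
    Δ.liftCoborder.ker ^ (n + 1) ≤ (Δ.liftCoborder.ker ^ (n + 1)).map (coborderAut Δ s hΔs) := by
  haveI := isIso_coborderAut Δ s hΔs hss
  have hK : Δ.liftCoborder.ker.map (coborderAut Δ s hΔs) = Δ.liftCoborder.ker := by
    rw [Scheme.IdealSheafData.map_ker, liftCoborder_coborderAut]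
  rw [Scheme.IdealSheafData.le_def]
  intro U
  rw [Scheme.IdealSheafData.ideal_map_of_isAffineHom, Scheme.IdealSheafData.ideal_pow]
  simp only [Pi.pow_apply]
  refine le_trans ?_ (Ideal.le_comap_pow _ _)
  have h1 := congr($(hK).ideal U)
  rw [Scheme.IdealSheafData.ideal_map_of_isAffineHom] at h1
  rw [h1]

include hss in
/-- the induced automorphism of the `n`-th infinitesimal neighbourhood. -/
noncomputable def nbhdAut (n : ℕ) :
    (Δ.liftCoborder.ker ^ (n + 1)).subscheme ⟶ (Δ.liftCoborder.ker ^ (n + 1)).subscheme :=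
  Scheme.IdealSheafData.subschemeMap _ _ (coborderAut Δ s hΔs) (ker_pow_le_map Δ s hΔs hss n)

theorem nbhdAut_ι (n : ℕ) :
    nbhdAut Δ s hΔs hss n ≫ (Δ.liftCoborder.ker ^ (n + 1)).subschemeι =
      (Δ.liftCoborder.ker ^ (n + 1)).subschemeι ≫ coborderAut Δ s hΔs :=
  Scheme.IdealSheafData.subschemeMap_subschemeι _ _ _ _

theorem nbhdAut_ι_ι (n : ℕ) :
    nbhdAut Δ s hΔs hss n ≫ (Δ.liftCoborder.ker ^ (n + 1)).subschemeι ≫ Δ.coborderRange.ι =
      ((Δ.liftCoborder.ker ^ (n + 1)).subschemeι ≫ Δ.coborderRange.ι) ≫ s := by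
  rw [← Category.assoc, nbhdAut_ι, Category.assoc, coborderAut_ι, Category.assoc]

end Sym

section Diag

variable {X S : Scheme.{u}} (f : X ⟶ S)

theorem diagonal_symmetry :
    pullback.diagonal f ≫ (pullbackSymmetry f f).hom = pullback.diagonal f := by
  apply pullback.hom_ext
  · rw [Category.assoc, pullbackSymmetry_hom_comp_fst, pullback.diagonal_snd, pullback.diagonal_fst]
  · rw [Category.assoc, pullbackSymmetry_hom_comp_snd, pullback.diagonal_fst, pullback.diagonal_snd]

theorem symmetry_symmetry :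
    (pullbackSymmetry f f).hom ≫ (pullbackSymmetry f f).hom = 𝟙 (pullback f f) := by
  apply pullback.hom_ext
  · rw [Category.assoc, pullbackSymmetry_hom_comp_fst, pullbackSymmetry_hom_comp_snd,
      Category.id_comp]
  · rw [Category.assoc, pullbackSymmetry_hom_comp_snd, pullbackSymmetry_hom_comp_fst,
      Category.id_comp]

/-- the symmetry of the `n`-th neighbourhood of the diagonal. -/
noncomputable def sigma (n : ℕ) : PrinPart.nbhd f n ⟶ PrinPart.nbhd f n :=
  nbhdAut (pullback.diagonal f) (pullbackSymmetry f f).hom (diagonal_symmetry f)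
    (symmetry_symmetry f) n

theorem sigma_nbhdι (n : ℕ) :
    sigma f n ≫ PrinPart.nbhdι f n = PrinPart.nbhdι f n ≫ (pullbackSymmetry f f).hom :=
  nbhdAut_ι_ι (pullback.diagonal f) (pullbackSymmetry f f).hom (diagonal_symmetry f)
    (symmetry_symmetry f) n

instance mono_nbhdι (n : ℕ) : Mono (PrinPart.nbhdι f n) := by
  unfold PrinPart.nbhdι PrinPart.infNbhdι
  infer_instance

theorem exists_symmetry (n : ℕ) :
    ∃ σ : PrinPart.nbhd f n ⟶ PrinPart.nbhd f n,
      σ ≫ PrinPart.nbhdι f n = PrinPart.nbhdι f n ≫ (pullbackSymmetry f f).hom ∧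
      σ ≫ σ = 𝟙 (PrinPart.nbhd f n) ∧
      σ ≫ PrinPart.pr1 f n = PrinPart.pr2 f n ∧ σ ≫ PrinPart.pr2 f n = PrinPart.pr1 f n ∧
      PrinPart.toNbhd f n ≫ σ = PrinPart.toNbhd f n := by
  refine ⟨sigma f n, sigma_nbhdι f n, ?_, ?_, ?_, ?_⟩
  · rw [← cancel_mono (PrinPart.nbhdι f n), Category.assoc, sigma_nbhdι, ← Category.assoc,
      sigma_nbhdι, Category.assoc, symmetry_symmetry, Category.comp_id, Category.id_comp]
  · unfold PrinPart.pr1 PrinPart.pr2
    rw [← Category.assoc, sigma_nbhdι, Category.assoc, pullbackSymmetry_hom_comp_fst]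
  · unfold PrinPart.pr1 PrinPart.pr2
    rw [← Category.assoc, sigma_nbhdι, Category.assoc, pullbackSymmetry_hom_comp_snd]
  · rw [← cancel_mono (PrinPart.nbhdι f n), Category.assoc, sigma_nbhdι, ← Category.assoc,
      PrinPart.toNbhd_ι, diagonal_symmetry]

end Diag

end Groth.Agent.H3.PP
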