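import Mathlib
import Groth.Prelude.Def_PP16
import Groth.Agent.S3806

set_option autoImplicit false
universe u
open scoped TensorProduct

namespace Groth.Agent.H3.PP

attribute [local instance] PP16.mapAlgebra PP16.isScalarTower_mapAlgebra

/-- ring-level base change criterion for principal parts. -/
theorem bijective_of_isBaseChange (n : ℕ) (A B A' B' : Type u) [CommRing A] [CommRing B] [Algebra A B]
    [CommRing A'] [CommRing B'] [Algebra A' B'] [Algebra A A'] [Algebra B B'] [Algebra A B']
    [IsScalarTower A A' B'] [IsScalarTower A B B'] [Algebra.IsPushout A B A' B']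
    (N : Type u) [AddCommGroup N] [Module B N] [Module B' N] [IsScalarTower B B' N]
    (τ : PP16.P n A B →ₗ[B] N) (hτ : IsBaseChange B' τ)
    (θ : N →ₗ[B'] PP16.P n A' B') (hθ : ∀ p, θ (τ p) = PP16.map n A B A' B' p) :
    Function.Bijective θ := by
  have h1 : Algebra.IsPushout B (PP16.P n A B) B' (PP16.P n A' B') :=
    Groth.Agent.S3806.result n A B A' B'
  have h2 : IsBaseChange B'
      (IsScalarTower.toAlgHom B (PP16.P n A B) (PP16.P n A' B')).toLinearMap := h1.symm.out
  have h3 : θ.comp hτ.equiv.toLinearMap = h2.equiv.toLinearMap := by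
    apply TensorProduct.AlgebraTensorModule.ext
    intro b' p
    change θ (hτ.equiv (b' ⊗ₜ p)) = h2.equiv (b' ⊗ₜ p)
    rw [IsBaseChange.equiv_tmul, IsBaseChange.equiv_tmul, map_smul, hθ]
    rfl
  have h4 : (θ : N → PP16.P n A' B') = h2.equiv ∘ hτ.equiv.symm := by
    funext x
    have := congr($h3 (hτ.equiv.symm x))
    simpa using this
  rw [h4]
  exact h2.equiv.bijective.comp hτ.equiv.symm.bijective

end Groth.Agent.H3.PP
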