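import Mathlib
import Groth.Prelude.Def_OmegaPn
import Groth.Prelude.Def_PP16
import Groth.Agent.Lib.Helper3.PP6
import Groth.Agent.Lib.Lead.QC.EpiLocal

set_option autoImplicit false
universe u
open AlgebraicGeometry CategoryTheory TopologicalSpace Opposite CategoryTheory.Limits TensorProduct

namespace Groth.Agent.H3.PP

variable {X S : Scheme.{u}} (f : X ⟶ S)

section Chart

variable {U : X.Opens} {V : S.Opens} (hU : IsAffineOpen U) (hV : IsAffineOpen V) (e : U ≤ f ⁻¹ᵁ V)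
  (n : ℕ)

/-- the chart isomorphism `P^n_{B/A} ≃ Γ(U, P^n_{X/S})` with `A = Γ(S, V)`, `B = Γ(X, U)`. -/
noncomputable def psi :
    letI := (f.appLE V U e).hom.toAlgebra
    PP16.P n Γ(S, V) Γ(X, U) ≃+ Γ(PrinPart.P f n, U) :=
  letI := (f.appLE V U e).hom.toAlgebra
  psiG (A := Γ(S, V)) (B := Γ(X, U)) f hU hV e n (Iso.refl _) (Iso.refl _) (by
    simp only [Iso.refl_hom, Category.id_comp, Category.comp_id]; rfl)

theorem psi_mk_tmul (b b' : Γ(X, U)) :
    letI := (f.appLE V U e).hom.toAlgebra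
    psi f hU hV e n (Ideal.Quotient.mk _ (b ⊗ₜ b')) = b • PrinPart.dn f n U b' := by
  letI := (f.appLE V U e).hom.toAlgebra
  unfold psi
  rw [psiG_mk_tmul]
  rfl

theorem psi_smul (b : Γ(X, U)) (x : letI := (f.appLE V U e).hom.toAlgebra; PP16.P n Γ(S, V) Γ(X, U)) :
    letI := (f.appLE V U e).hom.toAlgebra
    psi f hU hV e n (b • x) = b • psi f hU hV e n x := by
  letI := (f.appLE V U e).hom.toAlgebra
  unfold psi
  rw [psiG_smul]
  rfl

theorem psi_dn (b : Γ(X, U)) :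
    letI := (f.appLE V U e).hom.toAlgebra
    psi f hU hV e n (PP16.dn n Γ(S, V) Γ(X, U) b) = PrinPart.dn f n U b := by
  letI := (f.appLE V U e).hom.toAlgebra
  unfold psi
  rw [psiG_dn]
  rfl

include hU hV e in
/-- over a chart, `Γ(U, P^n_{X/S})` is generated as a `Γ(U, O_X)`-module by the image of `d^n`. -/
theorem span_range_dn :
    Submodule.span Γ(X, U) (Set.range (PrinPart.dn f n U)) = ⊤ := by
  letI := (f.appLE V U e).hom.toAlgebra
  rw [eq_top_iff]
  intro t ht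
  clear ht
  obtain ⟨z, rfl⟩ := (psi f hU hV e n).surjective t
  obtain ⟨x, rfl⟩ := Ideal.Quotient.mk_surjective z
  induction x using TensorProduct.induction_on with
  | zero => rw [map_zero, map_zero]; exact Submodule.zero_mem _
  | tmul b b' =>
    rw [psi_mk_tmul]
    exact Submodule.smul_mem _ _ (Submodule.subset_span ⟨b', rfl⟩)
  | add x y hx hy =>
    rw [map_add, map_add]
    exact Submodule.add_mem _ hx hy

end Chart

/-- **epimorphy criterion for the canonical maps of principal parts.** -/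
theorem epi_of_isPMap {X' S' : Scheme.{u}} (f' : X' ⟶ S') (u : X' ⟶ X) (n : ℕ)
    (φ : (Scheme.Modules.pullback u).obj (PrinPart.P f n) ⟶ PrinPart.P f' n)
    (hφ : PrinPart.IsPMap f f' u n φ)
    (h : ∀ (x' : X') (U' : X'.Opens), x' ∈ U' → ∃ (W : X.Opens) (V' : S'.Opens),
      IsAffineOpen (u ⁻¹ᵁ W) ∧ IsAffineOpen V' ∧ u ⁻¹ᵁ W ≤ f' ⁻¹ᵁ V' ∧ x' ∈ u ⁻¹ᵁ W ∧
        u ⁻¹ᵁ W ≤ U' ∧ Function.Surjective (u.app W)) : Epi φ := by
  apply Groth.Agent.LD.QC.epi_of_local_lift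
  intro U' t x' hx'
  obtain ⟨W, V', hW', hV', e', hxW, hWU, hsurj⟩ := h x' U' hx'
  refine ⟨u ⁻¹ᵁ W, hWU, hxW, ?_⟩
  have hspan := span_range_dn f' hW' hV' e' n
  have hmem : (PrinPart.P f' n).presheaf.map (homOfLE hWU).op t ∈
      Submodule.span Γ(X', u ⁻¹ᵁ W) (Set.range (PrinPart.dn f' n (u ⁻¹ᵁ W))) := by
    rw [hspan]; trivial
  generalize (PrinPart.P f' n).presheaf.map (homOfLE hWU).op t = t' at hmem
  induction hmem using Submodule.span_induction with
  | mem y hy =>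
    obtain ⟨c, rfl⟩ := hy
    obtain ⟨b, rfl⟩ := hsurj c
    exact ⟨OmegaSh.pullSect u (PrinPart.P f n) W (PrinPart.dn f n W b), hφ W b⟩
  | zero => exact ⟨0, map_zero _⟩
  | add y z _ _ hy hz =>
    obtain ⟨g1, h1⟩ := hy
    obtain ⟨g2, h2⟩ := hz
    exact ⟨g1 + g2, by rw [map_add, h1, h2]⟩
  | smul c y _ hy =>
    obtain ⟨g, hg⟩ := hy
    exact ⟨c • g, by rw [Scheme.Modules.Hom.app_smul, hg]⟩

end Groth.Agent.H3.PP
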