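import Mathlib
import Groth.Prelude.Def_OmegaPn
import Groth.Prelude.Def_PP16
import Groth.Agent.Lib.Helper3.PP7
import Groth.Agent.Lib.Helper3.PP14
import Groth.Agent.Lib.Helper3.OmIsoCover
import Groth.Agent.Lib.Lead.QC.SheafIso
import Groth.Agent.Lib.Lead.QC.Coh

set_option autoImplicit false
universe u
open AlgebraicGeometry CategoryTheory TopologicalSpace Opposite CategoryTheory.Limits TensorProduct

namespace Groth.Agent.H3.PP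

section PsiL

variable {X S : Scheme.{u}} (f : X ⟶ S) {U : X.Opens} {V : S.Opens} (hU : IsAffineOpen U)
  (hV : IsAffineOpen V) (e : U ≤ f ⁻¹ᵁ V) (n : ℕ)

/-- `psi` as a linear equivalence. -/
noncomputable def psiL :
    letI := (f.appLE V U e).hom.toAlgebra
    PP16.P n Γ(S, V) Γ(X, U) ≃ₗ[Γ(X, U)] Γ(PrinPart.P f n, U) :=
  letI := (f.appLE V U e).hom.toAlgebra
  { (psi f hU hV e n) with map_smul' := fun b x => psi_smul f hU hV e n b x }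

theorem psiL_apply (x : letI := (f.appLE V U e).hom.toAlgebra; PP16.P n Γ(S, V) Γ(X, U)) :
    letI := (f.appLE V U e).hom.toAlgebra
    psiL f hU hV e n x = psi f hU hV e n x := rfl

end PsiL

section BC

variable {X S X' S' : Scheme.{u}} (f : X ⟶ S) (g : S' ⟶ S) (u : X' ⟶ X) (f' : X' ⟶ S')
  (hsq : IsPullback u f' f g)
  {U : X.Opens} {V : S.Opens} {V' : S'.Opens}
  (hU : IsAffineOpen U) (hV : IsAffineOpen V) (hV' : IsAffineOpen V')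
  (e : U ≤ f ⁻¹ᵁ V) (eg : V' ≤ g ⁻¹ᵁ V)

include hsq hU hV hV' e eg in
theorem isAffineOpen_bcChart : IsAffineOpen (u ⁻¹ᵁ U ⊓ f' ⁻¹ᵁ V') := by
  haveI : IsAffine V.toScheme := hV
  haveI : IsAffine U.toScheme := hU
  haveI : IsAffine V'.toScheme := hV'
  exact .of_isIso (Scheme.Hom.isPullback_resLE hsq eg e rfl).isoPullback.hom

include hsq hU hV hV' e eg in
theorem isPushout_bcChart :
    IsPushout (f.appLE V U e) (g.appLE V V' eg)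
      (u.appLE U (u ⁻¹ᵁ U ⊓ f' ⁻¹ᵁ V') inf_le_left)
      (f'.appLE V' (u ⁻¹ᵁ U ⊓ f' ⁻¹ᵁ V') inf_le_right) :=
  (isIso_pushoutSection_iff hsq eg e rfl).1
    (isIso_pushoutSection_of_isAffineOpen hsq eg e rfl hV hV' hU)

include hsq hU hV hV' e eg in
/-- **the canonical map of principal parts under base change is bijective on charts.** -/
theorem bijective_app_of_isPMap (n : ℕ)
    (φ : (Scheme.Modules.pullback u).obj (PrinPart.P f n) ⟶ PrinPart.P f' n)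
    (hφ : PrinPart.IsPMap f f' u n φ) :
    Function.Bijective (φ.app (u ⁻¹ᵁ U ⊓ f' ⁻¹ᵁ V')) := by
  have hU' : IsAffineOpen (u ⁻¹ᵁ U ⊓ f' ⁻¹ᵁ V') := isAffineOpen_bcChart f g u f' hsq hU hV hV' e eg
  have eu : u ⁻¹ᵁ U ⊓ f' ⁻¹ᵁ V' ≤ u ⁻¹ᵁ U := inf_le_left
  have e' : u ⁻¹ᵁ U ⊓ f' ⁻¹ᵁ V' ≤ f' ⁻¹ᵁ V' := inf_le_right
  have hpo := isPushout_bcChart f g u f' hsq hU hV hV' e eg
  letI iAB : Algebra Γ(S, V) Γ(X, U) := (f.appLE V U e).hom.toAlgebra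
  letI iA'B' : Algebra Γ(S', V') Γ(X', u ⁻¹ᵁ U ⊓ f' ⁻¹ᵁ V') :=
    (f'.appLE V' (u ⁻¹ᵁ U ⊓ f' ⁻¹ᵁ V') e').hom.toAlgebra
  letI iAA' : Algebra Γ(S, V) Γ(S', V') := (g.appLE V V' eg).hom.toAlgebra
  letI iBB' : Algebra Γ(X, U) Γ(X', u ⁻¹ᵁ U ⊓ f' ⁻¹ᵁ V') :=
    (u.appLE U (u ⁻¹ᵁ U ⊓ f' ⁻¹ᵁ V') eu).hom.toAlgebra
  letI iAB' : Algebra Γ(S, V) Γ(X', u ⁻¹ᵁ U ⊓ f' ⁻¹ᵁ V') :=
    (f.appLE V U e ≫ u.appLE U (u ⁻¹ᵁ U ⊓ f' ⁻¹ᵁ V') eu).hom.toAlgebra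
  haveI t1 : IsScalarTower Γ(S, V) Γ(X, U) Γ(X', u ⁻¹ᵁ U ⊓ f' ⁻¹ᵁ V') :=
    IsScalarTower.of_algebraMap_eq' rfl
  haveI t2 : IsScalarTower Γ(S, V) Γ(S', V') Γ(X', u ⁻¹ᵁ U ⊓ f' ⁻¹ᵁ V') :=
    IsScalarTower.of_algebraMap_eq' (congrArg CommRingCat.Hom.hom hpo.w)
  haveI po : Algebra.IsPushout Γ(S, V) Γ(X, U) Γ(S', V') Γ(X', u ⁻¹ᵁ U ⊓ f' ⁻¹ᵁ V') :=
    CommRingCat.isPushout_iff_isPushout.mp hpo
  haveI : (PrinPart.P f n).IsQuasicoherent := qc_PMod f n _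
  letI iN := Groth.Agent.LD.QC.pbModule u (PrinPart.P f n) eu
  haveI tN := Groth.Agent.LD.QC.pbModule_isScalarTower u (PrinPart.P f n) eu
  have hbc : IsBaseChange Γ(X', u ⁻¹ᵁ U ⊓ f' ⁻¹ᵁ V')
      (Groth.Agent.LD.QC.pbSecₗ u (PrinPart.P f n) eu) :=
    Groth.Agent.LD.QC.isBaseChange_pbSec u hU' hU eu (PrinPart.P f n)
  have hτ := IsBaseChange.comp_equiv (psiL f hU hV e n) _ hbc
  let θ : Γ((Scheme.Modules.pullback u).obj (PrinPart.P f n), u ⁻¹ᵁ U ⊓ f' ⁻¹ᵁ V') →ₗ[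
      Γ(X', u ⁻¹ᵁ U ⊓ f' ⁻¹ᵁ V')] PP16.P n Γ(S', V') Γ(X', u ⁻¹ᵁ U ⊓ f' ⁻¹ᵁ V') :=
    (psiL f' hU' hV' e' n).symm.toLinearMap.comp
      (Groth.Agent.LD.QC.appLinear φ (u ⁻¹ᵁ U ⊓ f' ⁻¹ᵁ V'))
  have hθ : ∀ p, θ (((Groth.Agent.LD.QC.pbSecₗ u (PrinPart.P f n) eu).comp
      (psiL f hU hV e n).toLinearMap) p) =
      PP16.map n Γ(S, V) Γ(X, U) Γ(S', V') Γ(X', u ⁻¹ᵁ U ⊓ f' ⁻¹ᵁ V') p := by
    intro p
    change (psiL f' hU' hV' e' n).symm (φ.app _ (Groth.Agent.LD.QC.pbSec u (PrinPart.P f n) eu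
      (psi f hU hV e n p))) = _
    rw [LinearEquiv.symm_apply_eq, psiL_apply]
    obtain ⟨x, rfl⟩ := Ideal.Quotient.mk_surjective p
    induction x using TensorProduct.induction_on with
    | zero =>
      rw [map_zero, map_zero, map_zero, Groth.Agent.LD.QC.pbSec_zero, map_zero, map_zero]
    | tmul b b' =>
      rw [psi_mk_tmul, Groth.Agent.LD.QC.pbSec_smul, Scheme.Modules.Hom.app_smul, PP16.map_mk,
        PP16.tensorMap_tmul, psi_mk_tmul]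
      congr 1
      -- φ (pbSec (dn b')) = dn' (u♯ b')
      have h1 := hφ U b'
      have h2 := Groth.Agent.LD.QC.app_res φ eu
        (OmegaSh.pullSect u (PrinPart.P f n) U (PrinPart.dn f n U b'))
      have h3 : Groth.Agent.LD.QC.pbSec u (PrinPart.P f n) eu (PrinPart.dn f n U b') =
          ((Scheme.Modules.pullback u).obj (PrinPart.P f n)).presheaf.map (homOfLE eu).op
            (OmegaSh.pullSect u (PrinPart.P f n) U (PrinPart.dn f n U b')) := rfl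
      rw [h3, h2, h1]
      have h4 := PrinPart.dP_map f' n (Coh.structureModule X') eu
        (OmegaSh.strSect X' (u ⁻¹ᵁ U) (u.app U b'))
      exact h4.symm
    | add x y hx hy =>
      rw [map_add, map_add, Groth.Agent.LD.QC.pbSec_add, map_add, hx, hy, map_add, map_add]
  have hb := bijective_of_isBaseChange n Γ(S, V) Γ(X, U) Γ(S', V') Γ(X', u ⁻¹ᵁ U ⊓ f' ⁻¹ᵁ V')
    _ _ hτ θ hθ
  have hb2 : Function.Bijective ((psiL f' hU' hV' e' n) ∘ θ) :=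
    (psiL f' hU' hV' e' n).bijective.comp hb
  have hfe : ((psiL f' hU' hV' e' n) ∘ θ) = ⇑(φ.app (u ⁻¹ᵁ U ⊓ f' ⁻¹ᵁ V')).hom := by
    funext x
    exact (psiL f' hU' hV' e' n).apply_symm_apply _
  rw [hfe] at hb2
  exact hb2

end BC

/-- **the canonical map `u^* P^n_{X/S} ⟶ P^n_{X'/S'}` for a cartesian square is an isomorphism.** -/
theorem isIso_of_isPMap {X S X' S' : Scheme.{u}} (f : X ⟶ S) (g : S' ⟶ S)
    (u : X' ⟶ X) (f' : X' ⟶ S') (hsq : IsPullback u f' f g) (n : ℕ)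
    (φ : (Scheme.Modules.pullback u).obj (PrinPart.P f n) ⟶ PrinPart.P f' n)
    (hφ : PrinPart.IsPMap f f' u n φ) :
    IsIso φ := by
  haveI : (PrinPart.P f n).IsQuasicoherent := qc_PMod f n _
  haveI := Groth.Agent.LD.QC.qc_pullback u (PrinPart.P f n)
  haveI : (PrinPart.P f' n).IsQuasicoherent := qc_PMod f' n _
  apply Groth.Agent.H3.Om.isIso_of_bijective_affine_cover
  intro x'
  obtain ⟨V, hV, hxV, -⟩ := exists_isAffineOpen_mem_and_subset (x := f (u x')) (U := ⊤) trivial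
  have hxV' : f' x' ∈ g ⁻¹ᵁ V := by
    change g (f' x') ∈ V
    have : g (f' x') = f (u x') := by
      have := congrArg (fun h => h x') hsq.w
      exact this.symm
    rw [this]; exact hxV
  obtain ⟨V', hV', hxV'', eg⟩ := exists_isAffineOpen_mem_and_subset (x := f' x') (U := g ⁻¹ᵁ V) hxV'
  obtain ⟨U, hU, hxU, e⟩ := exists_isAffineOpen_mem_and_subset (x := u x') (U := f ⁻¹ᵁ V) hxV
  exact ⟨u ⁻¹ᵁ U ⊓ f' ⁻¹ᵁ V', isAffineOpen_bcChart f g u f' hsq hU hV hV' e eg, ⟨hxU, hxV''⟩,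
    bijective_app_of_isPMap f g u f' hsq hU hV hV' e eg n φ hφ⟩

end Groth.Agent.H3.PP
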