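import Mathlib
import Groth.Prelude.Def_OmegaPn
import Groth.Agent.Lib.Lead.QC.PullbackUnit
import Groth.Agent.Lib.Helper3.OmSq3
import Groth.Agent.Lib.Helper3.PP12

set_option autoImplicit false
universe u
open AlgebraicGeometry CategoryTheory TopologicalSpace Opposite CategoryTheory.Limits

namespace Groth.Agent.H3.PP

section Trans

variable {N N' X : Scheme.{u}} (j : N ⟶ N') (p1 p2 : N' ⟶ X)

/-- the canonical map `p1_* p2^* F ⟶ (j ≫ p1)_* (j ≫ p2)^* F`. -/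
noncomputable def transAux (F : X.Modules) :
    (Scheme.Modules.pushforward p1).obj ((Scheme.Modules.pullback p2).obj F) ⟶
    (Scheme.Modules.pushforward (j ≫ p1)).obj ((Scheme.Modules.pullback (j ≫ p2)).obj F) :=
  (Scheme.Modules.pushforward p1).map
    ((Scheme.Modules.pullbackPushforwardAdjunction j).unit.app _ ≫
      (Scheme.Modules.pushforward j).map ((Scheme.Modules.pullbackComp j p2).hom.app F)) ≫
  (Scheme.Modules.pushforwardComp j p1).hom.app _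

theorem transAux_app (F : X.Modules) (U : X.Opens) (e : p1 ⁻¹ᵁ U ≤ p2 ⁻¹ᵁ U)
    (e' : (j ≫ p1) ⁻¹ᵁ U ≤ (j ≫ p2) ⁻¹ᵁ U) (t : Γ(F, U)) :
    (transAux j p1 p2 F).app U (Groth.Agent.LD.QC.pbSec p2 F e t) =
      Groth.Agent.LD.QC.pbSec (j ≫ p2) F e' t := by
  have h1 : (transAux j p1 p2 F).app U (Groth.Agent.LD.QC.pbSec p2 F e t) =
      ((Scheme.Modules.pullbackComp j p2).hom.app F).app (j ⁻¹ᵁ (p1 ⁻¹ᵁ U))
        (OmegaSh.pullSect j ((Scheme.Modules.pullback p2).obj F) (p1 ⁻¹ᵁ U)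
          (Groth.Agent.LD.QC.pbSec p2 F e t)) := rfl
  rw [h1, ← Groth.Agent.H3.Om.pbSec_le_rfl]
  exact Groth.Agent.LD.QC.pbSec_comp' j p2 F (le_refl _) e e' t

theorem exists_trans {q1 q2 : N ⟶ X} (h1 : j ≫ p1 = q1) (h2 : j ≫ p2 = q2) (F : X.Modules) :
    ∃ τ : (Scheme.Modules.pushforward p1).obj ((Scheme.Modules.pullback p2).obj F) ⟶
        (Scheme.Modules.pushforward q1).obj ((Scheme.Modules.pullback q2).obj F),
      ∀ (U : X.Opens) (e : p1 ⁻¹ᵁ U ≤ p2 ⁻¹ᵁ U) (e' : q1 ⁻¹ᵁ U ≤ q2 ⁻¹ᵁ U) (t : Γ(F, U)),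
        τ.app U (Groth.Agent.LD.QC.pbSec p2 F e t) = Groth.Agent.LD.QC.pbSec q2 F e' t := by
  subst h1 h2
  exact ⟨transAux j p1 p2 F, transAux_app j p1 p2 F⟩

end Trans

section PTrans

variable {X S : Scheme.{u}} (f : X ⟶ S)

theorem dP_eq_pbSec (n : ℕ) (F : X.Modules) (U : X.Opens) (t : Γ(F, U)) :
    PrinPart.dP f n F U t =
      Groth.Agent.LD.QC.pbSec (PrinPart.pr2 f n) F (PrinPart.preimage_pr1 f n U).le t := rfl

theorem nbhdMap_nbhdι {n m : ℕ} (h : n ≤ m) :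
    PrinPart.infNbhdMap (PrinPart.diagCl f) h ≫ PrinPart.nbhdι f m = PrinPart.nbhdι f n := by
  rw [PrinPart.nbhdι, PrinPart.nbhdι, PrinPart.infNbhdMap_ι_assoc]

theorem nbhdMap_pr1 {n m : ℕ} (h : n ≤ m) :
    PrinPart.infNbhdMap (PrinPart.diagCl f) h ≫ PrinPart.pr1 f m = PrinPart.pr1 f n := by
  rw [PrinPart.pr1, PrinPart.pr1, ← Category.assoc, nbhdMap_nbhdι]

theorem nbhdMap_pr2 {n m : ℕ} (h : n ≤ m) :
    PrinPart.infNbhdMap (PrinPart.diagCl f) h ≫ PrinPart.pr2 f m = PrinPart.pr2 f n := by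
  rw [PrinPart.pr2, PrinPart.pr2, ← Category.assoc, nbhdMap_nbhdι]

/-- **the transition map `P^m(F) ⟶ P^n(F)` for `n ≤ m`, compatible with the `d`'s.** -/
theorem exists_PMod_trans {n m : ℕ} (h : n ≤ m) (F : X.Modules) :
    ∃ τ : PrinPart.PMod f m F ⟶ PrinPart.PMod f n F,
      ∀ (U : X.Opens) (t : Γ(F, U)), τ.app U (PrinPart.dP f m F U t) = PrinPart.dP f n F U t := by
  obtain ⟨τ, hτ⟩ := exists_trans (PrinPart.infNbhdMap (PrinPart.diagCl f) h) (PrinPart.pr1 f m)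
    (PrinPart.pr2 f m) (nbhdMap_pr1 f h) (nbhdMap_pr2 f h) F
  exact ⟨τ, fun U t => hτ U _ _ t⟩

/-- **order `≤ n` implies order `≤ m` for `n ≤ m`.** -/
theorem isDiffOpLE_of_le (F G : X.Modules) {n m : ℕ} (h : n ≤ m)
    (D : F.presheaf ⟶ G.presheaf) (hD : PrinPart.IsDiffOpLE f F G n D) :
    PrinPart.IsDiffOpLE f F G m D := by
  obtain ⟨u, hu⟩ := hD
  obtain ⟨τ, hτ⟩ := exists_PMod_trans f h F
  refine ⟨τ ≫ u, fun U t => ?_⟩
  rw [hu U t, ← hτ U t]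
  rfl

end PTrans

end Groth.Agent.H3.PP
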