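import Mathlib
import Groth.Prelude.Def_OmegaPn
import Groth.Prelude.Def_PP16
import Groth.Agent.Lib.Helper3.PP15
import Groth.Agent.Lib.Helper3.OmU3
import Groth.Agent.Lib.Helper3.OmSec
import Groth.Agent.Lib.Helper3.OmQC
import Groth.Agent.Lib.Helper3.OmIsoCover
import Groth.Agent.Lib.Lead.SC.Efface
import Groth.Agent.Lib.Lead.QC.BiprodSec

set_option autoImplicit false
universe u
open AlgebraicGeometry CategoryTheory TopologicalSpace Opposite CategoryTheory.Limits TensorProduct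

namespace Groth.Agent.H3.PP

section RingP1

variable (A B : Type u) [CommRing A] [CommRing B] [Algebra A B]

/-- the inclusion `Ω_{B/A} = I/I² ⟶ P^1_{B/A} = (B ⊗ B)/I²`. -/
noncomputable def jOm : Ω[B⁄A] →ₗ[B] PP16.P 1 A B :=
  ((KaehlerDifferential.ideal A B).cotangentToQuotientSquare).restrictScalars B

theorem jOm_D (b : B) :
    jOm A B (KaehlerDifferential.D A B b) =
      Ideal.Quotient.mk _ ((1 : B) ⊗ₜ[A] b - b ⊗ₜ[A] (1 : B)) := by
  rw [KaehlerDifferential.D_apply]
  exact (KaehlerDifferential.ideal A B).toCotangent_to_quotient_square _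

theorem jOm_injective : Function.Injective (jOm A B) :=
  (KaehlerDifferential.ideal A B).cotangentToQuotientSquare_injective

/-- the augmentation `P^1_{B/A} ⟶ B`. -/
noncomputable def augP1 : PP16.P 1 A B →ₐ[B] B :=
  Ideal.Quotient.liftₐ _ (Algebra.TensorProduct.lmul'' A (S := B)) (by
    intro x hx
    have : x ∈ KaehlerDifferential.ideal A B := Ideal.pow_le_self (by norm_num) hx
    exact this)

theorem augP1_mk (t : B ⊗[A] B) :
    augP1 A B (Ideal.Quotient.mk _ t) = Algebra.TensorProduct.lmul'' A (S := B) t := rfl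

theorem augP1_jOm (ω : Ω[B⁄A]) : augP1 A B (jOm A B ω) = 0 := by
  obtain ⟨x, rfl⟩ := (KaehlerDifferential.ideal A B).toCotangent_surjective ω
  have h : jOm A B ((KaehlerDifferential.ideal A B).toCotangent x) =
      Ideal.Quotient.mk _ (x : B ⊗[A] B) :=
    (KaehlerDifferential.ideal A B).toCotangent_to_quotient_square x
  rw [h, augP1_mk]
  exact x.2

theorem mk_mem_range_jOm (t : B ⊗[A] B) (ht : t ∈ KaehlerDifferential.ideal A B) :
    ∃ ω, jOm A B ω = Ideal.Quotient.mk _ t :=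
  ⟨(KaehlerDifferential.ideal A B).toCotangent ⟨t, ht⟩,
    (KaehlerDifferential.ideal A B).toCotangent_to_quotient_square ⟨t, ht⟩⟩

/-- **`P^1_{B/A} = B ⊕ Ω_{B/A}`.** -/
theorem bijective_prod_jOm :
    Function.Bijective (fun p : B × Ω[B⁄A] => p.1 • (1 : PP16.P 1 A B) + jOm A B p.2) := by
  constructor
  · rintro ⟨s, ω⟩ ⟨s', ω'⟩ h
    have h' : s • (1 : PP16.P 1 A B) + jOm A B ω = s' • (1 : PP16.P 1 A B) + jOm A B ω' := h
    have h1 := congrArg (augP1 A B) h'
    rw [map_add, map_add, augP1_jOm, augP1_jOm, add_zero, add_zero, map_smul, map_smul, map_one,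
      smul_eq_mul, smul_eq_mul, mul_one, mul_one] at h1
    subst h1
    have h2 := jOm_injective A B (add_left_cancel h')
    rw [h2]
  · intro y
    obtain ⟨t, rfl⟩ := Ideal.Quotient.mk_surjective y
    set s : B := Algebra.TensorProduct.lmul'' A (S := B) t with hs
    have hmem : t - s ⊗ₜ[A] (1 : B) ∈ KaehlerDifferential.ideal A B := by
      change Algebra.TensorProduct.lmul'' A (S := B) (t - s ⊗ₜ[A] (1 : B)) = 0
      rw [map_sub, ← hs]
      have : Algebra.TensorProduct.lmul'' A (S := B) (s ⊗ₜ[A] (1 : B)) = s * 1 := rfl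
      rw [this, mul_one, sub_self]
    obtain ⟨ω, hω⟩ := mk_mem_range_jOm A B _ hmem
    refine ⟨(s, ω), ?_⟩
    change s • (1 : PP16.P 1 A B) + jOm A B ω = _
    rw [hω, map_sub]
    have : s • (1 : PP16.P 1 A B) = Ideal.Quotient.mk _ (s ⊗ₜ[A] (1 : B)) := by
      rw [Algebra.smul_def, mul_one]
      rfl
    rw [this]
    abel

end RingP1

section SchemeP1

variable {X S : Scheme.{u}} (f : X ⟶ S) [QuasiSeparated f]
  (e : Coh.structureModule X ⟶ PrinPart.P f 1)
  (he : ∀ (U : X.Opens) (s : Γ(X, U)), e.app U (OmegaSh.strSect X U s) = s • PrinPart.dn f 1 U 1)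
  (ι : Omega.sheaf f ⟶ PrinPart.P f 1)
  (hι : ∀ (U : X.Opens) (s : Γ(X, U)),
    ι.app U ((OmegaSh.dOmega f).app U s) = PrinPart.dn f 1 U s - s • PrinPart.dn f 1 U 1)
  {U : X.Opens} {V : S.Opens} (hU : IsAffineOpen U) (hV : IsAffineOpen V) (eUV : U ≤ f ⁻¹ᵁ V)

include he hι hU hV eUV in
theorem bijective_app_desc : Function.Bijective ((biprod.desc e ι).app U) := by
  letI := (f.appLE V U eUV).hom.toAlgebra
  obtain ⟨ε, hε⟩ := Groth.Agent.H3.Om.exists_linearEquiv_sections
    (Groth.Agent.H3.Om.isUniversal_dOmega f) hU hV eUV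
  have key : (Groth.Agent.LD.QC.appLinear ι U).comp ε.toLinearMap =
      (psiL f hU hV eUV 1).toLinearMap.comp (jOm Γ(S, V) Γ(X, U)) := by
    apply LinearMap.ext_on_range (KaehlerDifferential.span_range_derivation _ _)
    intro b
    change ι.app U (ε (KaehlerDifferential.D Γ(S, V) Γ(X, U) b)) =
      psi f hU hV eUV 1 (jOm Γ(S, V) Γ(X, U) (KaehlerDifferential.D Γ(S, V) Γ(X, U) b))
    rw [hε, hι, jOm_D, map_sub, map_sub, psi_mk_tmul, psi_mk_tmul, one_smul]
  have key' : ∀ ω, ι.app U (ε ω) = psiL f hU hV eUV 1 (jOm Γ(S, V) Γ(X, U) ω) :=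
    fun ω => congrArg (fun l => l ω) key
  have he' : ∀ s : Γ(X, U), e.app U (OmegaSh.strSect X U s) =
      psiL f hU hV eUV 1 (s • (1 : PP16.P 1 Γ(S, V) Γ(X, U))) := by
    intro s
    rw [he, map_smul]
    congr 1
    have := psi_mk_tmul f hU hV eUV 1 (1 : Γ(X, U)) (1 : Γ(X, U))
    rw [one_smul] at this
    exact this.symm
  have hbij := bijective_prod_jOm Γ(S, V) Γ(X, U)
  have hdesc : ∀ t, (biprod.desc e ι).app U t =
      psiL f hU hV eUV 1
        ((OmegaSh.fnSect X U ((biprod.fst : Coh.structureModule X ⊞ Omega.sheaf f ⟶ _).app U t)) •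
            (1 : PP16.P 1 Γ(S, V) Γ(X, U)) +
          jOm Γ(S, V) Γ(X, U)
            (ε.symm ((biprod.snd : Coh.structureModule X ⊞ Omega.sheaf f ⟶ _).app U t))) := by
    intro t
    rw [map_add, ← he', ← key', LinearEquiv.apply_symm_apply]
    rw [biprod.desc_eq, Groth.Agent.LD.QC.add_app', Groth.Agent.LD.QC.comp_app',
      Groth.Agent.LD.QC.comp_app']
    rfl
  constructor
  · intro t t' htt
    rw [hdesc, hdesc] at htt
    have := @hbij.1
      (OmegaSh.fnSect X U ((biprod.fst : Coh.structureModule X ⊞ Omega.sheaf f ⟶ _).app U t),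
        ε.symm ((biprod.snd : Coh.structureModule X ⊞ Omega.sheaf f ⟶ _).app U t))
      (OmegaSh.fnSect X U ((biprod.fst : Coh.structureModule X ⊞ Omega.sheaf f ⟶ _).app U t'),
        ε.symm ((biprod.snd : Coh.structureModule X ⊞ Omega.sheaf f ⟶ _).app U t'))
      ((psiL f hU hV eUV 1).injective htt)
    have h1 : (biprod.fst : Coh.structureModule X ⊞ Omega.sheaf f ⟶ _).app U t =
        (biprod.fst : Coh.structureModule X ⊞ Omega.sheaf f ⟶ _).app U t' :=
      congrArg Prod.fst this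
    have h2 := ε.symm.injective (congrArg Prod.snd this)
    exact Groth.Agent.LD.QC.bext _ _ _ h1 h2
  · intro y
    obtain ⟨⟨s, ω⟩, hsω⟩ := hbij.2 ((psiL f hU hV eUV 1).symm y)
    refine ⟨Groth.Agent.LD.QC.bmk _ _ _ (OmegaSh.strSect X U s) (ε ω), ?_⟩
    rw [hdesc, Groth.Agent.LD.QC.bfst_bmk, Groth.Agent.LD.QC.bsnd_bmk,
      LinearEquiv.symm_apply_apply]
    have : OmegaSh.fnSect X U (OmegaSh.strSect X U s) = s := rfl
    rw [this]
    change psiL f hU hV eUV 1 ((fun p : Γ(X, U) × Ω[Γ(X, U)⁄Γ(S, V)] =>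
      p.1 • (1 : PP16.P 1 Γ(S, V) Γ(X, U)) + jOm Γ(S, V) Γ(X, U) p.2) (s, ω)) = y
    rw [hsω, LinearEquiv.apply_symm_apply]

include he hι in
/-- **`P^1_{X/S} = O_X ⊕ Ω_{X/S}`.** -/
theorem isIso_coprod_desc_P1 : IsIso (coprod.desc e ι) := by
  haveI q1 : (Coh.structureModule X).IsQuasicoherent := inferInstance
  haveI q2 : (Omega.sheaf f).IsQuasicoherent :=
    Groth.Agent.H3.Om.isQuasicoherent_of_isUniversal (Groth.Agent.H3.Om.isUniversal_dOmega f)
  haveI : (Coh.structureModule X ⊞ Omega.sheaf f).IsQuasicoherent :=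
    Groth.Agent.LD.SC.qc_biprod _ _ q1 q2
  haveI : (PrinPart.P f 1).IsQuasicoherent := qc_PMod f 1 _
  have hb : IsIso (biprod.desc e ι) := by
    apply Groth.Agent.H3.Om.isIso_of_bijective_affine_cover
    intro x
    obtain ⟨V, hV, hxV, -⟩ := exists_isAffineOpen_mem_and_subset (x := f x) (U := ⊤) trivial
    obtain ⟨U, hU, hxU, eUV⟩ := exists_isAffineOpen_mem_and_subset (x := x) (U := f ⁻¹ᵁ V) hxV
    exact ⟨U, hU, hxU, bijective_app_desc f e he ι hι hU hV eUV⟩
  have e' : coprod.desc e ι = (biprod.isoCoprod _ _).inv ≫ biprod.desc e ι := by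
    apply coprod.hom_ext
    · rw [coprod.inl_desc, biprod.isoCoprod_inv, ← Category.assoc, coprod.inl_desc, biprod.inl_desc]
    · rw [coprod.inr_desc, biprod.isoCoprod_inv, ← Category.assoc, coprod.inr_desc, biprod.inr_desc]
  rw [e']
  infer_instance

end SchemeP1

end Groth.Agent.H3.PP
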