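import Mathlib
import Groth.Prelude.Def_OmegaPn
import Groth.Agent.Lib.Helper3.OmCM5
import Groth.Agent.Lib.Helper3.OmCMRing
import Groth.Agent.Lib.Helper2.IdealComap

set_option autoImplicit false
universe u
open AlgebraicGeometry CategoryTheory TopologicalSpace Opposite CategoryTheory.Limits TensorProduct
open Groth.Agent.LD.QC Groth.Agent.H3.Om

namespace Groth.Agent.H3.PP

section General

variable {X : Scheme.{u}} (J : X.IdealSheafData)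

/-- sections of an ideal module over an arbitrary open: the functions killed on the subscheme. -/
theorem exists_idealSect_eq_iff_subschemeι (N : X.Opens) (a : Γ(X, N)) :
    (∃ s : Γ(ClSub.idealMod J, N), OmegaSh.idealSect J N s = a) ↔ J.subschemeι.app N a = 0 := by
  constructor
  · rintro ⟨t, rfl⟩
    have h := kernel.condition (ClSub.toSubscheme J)
    exact congr($(h).app N t)
  · intro hs
    let S : ShortComplex X.Modules :=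
      ShortComplex.mk (ClSub.idealModι J) (ClSub.toSubscheme J) (kernel.condition _)
    have hS : S.Exact := ShortComplex.exact_of_f_is_kernel S (kernelIsKernel _)
    haveI : Mono S.f := inferInstanceAs (Mono (ClSub.idealModι J))
    exact Groth.Agent.LD.QC.exact_sections' S hS N a hs

theorem subschemeι_app_eq_zero_iff_mem (N : X.Opens) (a : Γ(X, N)) :
    J.subschemeι.app N a = 0 ↔ ∀ (U : X.Opens) (hU : IsAffineOpen U) (hUN : U ≤ N),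
      X.presheaf.map (homOfLE hUN).op a ∈ J.ideal ⟨U, hU⟩ := by
  rw [app_eq_zero_iff_forall_affine]
  refine forall_congr' fun U => forall_congr' fun hU => forall_congr' fun hUN => ?_
  rw [← J.ker_subschemeι_app ⟨U, hU⟩]
  rfl

theorem idealSect_mem {U : X.Opens} (hU : IsAffineOpen U) (s : Γ(ClSub.idealMod J, U)) :
    OmegaSh.idealSect J U s ∈ J.ideal ⟨U, hU⟩ :=
  (Groth.Agent.LD.QC.exists_idealModι_app_eq_iff J ⟨U, hU⟩ _).1 ⟨s, rfl⟩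

theorem exists_idealSect_eq_of_mem {U : X.Opens} (hU : IsAffineOpen U) (x : Γ(X, U))
    (hx : x ∈ J.ideal ⟨U, hU⟩) : ∃ s : Γ(ClSub.idealMod J, U), OmegaSh.idealSect J U s = x :=
  (Groth.Agent.LD.QC.exists_idealModι_app_eq_iff J ⟨U, hU⟩ _).2 hx

/-- **chart description of the pullback of an ideal module.** -/
theorem idealPull_chart {Z : Scheme.{u}} (i : Z ⟶ X) {U : X.Opens} (hU : IsAffineOpen U)
    (hV : IsAffineOpen (i ⁻¹ᵁ U)) :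
    letI := (i.appLE U (i ⁻¹ᵁ U) le_rfl).hom.toAlgebra
    ∃ (Ξ : Γ(Z, i ⁻¹ᵁ U) ⊗[Γ(X, U)] (J.ideal ⟨U, hU⟩)
          ≃ₗ[Γ(Z, i ⁻¹ᵁ U)] Γ((Scheme.Modules.pullback i).obj (ClSub.idealMod J), i ⁻¹ᵁ U)),
      ∀ (b : Γ(Z, i ⁻¹ᵁ U)) (x : J.ideal ⟨U, hU⟩) (s : Γ(ClSub.idealMod J, U)),
        OmegaSh.idealSect J U s = x →
        Ξ (b ⊗ₜ x) = b • OmegaSh.pullSect i (ClSub.idealMod J) U s := by
  letI := (i.appLE U (i ⁻¹ᵁ U) le_rfl).hom.toAlgebra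
  let σ := Groth.Agent.LD.QC.idealModSectionsEquiv J ⟨U, hU⟩
  letI := Groth.Agent.LD.QC.pbModule i (ClSub.idealMod J) (le_refl (i ⁻¹ᵁ U))
  haveI := Groth.Agent.LD.QC.pbModule_isScalarTower i (ClSub.idealMod J) (le_refl (i ⁻¹ᵁ U))
  have hbc := Groth.Agent.LD.QC.isBaseChange_pbSec i hV hU (le_refl (i ⁻¹ᵁ U)) (ClSub.idealMod J)
  let Ξ : Γ(Z, i ⁻¹ᵁ U) ⊗[Γ(X, U)] (J.ideal ⟨U, hU⟩)
      ≃ₗ[Γ(Z, i ⁻¹ᵁ U)] Γ((Scheme.Modules.pullback i).obj (ClSub.idealMod J), i ⁻¹ᵁ U) :=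
    (TensorProduct.AlgebraTensorModule.congr
      (LinearEquiv.refl Γ(Z, i ⁻¹ᵁ U) Γ(Z, i ⁻¹ᵁ U)) σ.symm) ≪≫ₗ hbc.equiv
  refine ⟨Ξ, fun b x s hsx => ?_⟩
  have hσ : σ s = x := Subtype.ext hsx
  change hbc.equiv (b ⊗ₜ σ.symm x) = _
  rw [← hσ, LinearEquiv.symm_apply_apply, IsBaseChange.equiv_tmul]
  congr 1
  exact pbSec_le_rfl i (ClSub.idealMod J) U s

/-- chart description of the pullback of the pullback of an ideal module -/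
theorem pullback_idealPull_chart {Z' Z : Scheme.{u}} (i' : Z' ⟶ X) (gZ : Z ⟶ Z')
    {U' : X.Opens} (hU' : IsAffineOpen U') (hV' : IsAffineOpen (i' ⁻¹ᵁ U'))
    {V : Z.Opens} (hV : IsAffineOpen V)
    (eV : V ≤ gZ ⁻¹ᵁ (i' ⁻¹ᵁ U')) (ψ : Γ(X, U') →+* Γ(Z, V))
    (hψ : ψ = (i'.appLE U' (i' ⁻¹ᵁ U') le_rfl ≫ gZ.appLE (i' ⁻¹ᵁ U') V eV).hom) :
    letI := ψ.toAlgebra
    ∃ (Θ : Γ(Z, V) ⊗[Γ(X, U')] (J.ideal ⟨U', hU'⟩)
          ≃ₗ[Γ(Z, V)] Γ((Scheme.Modules.pullback gZ).obj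
            ((Scheme.Modules.pullback i').obj (ClSub.idealMod J)), V)),
      ∀ (b : Γ(Z, V)) (x' : J.ideal ⟨U', hU'⟩)
        (s' : Γ(ClSub.idealMod J, U')), OmegaSh.idealSect J U' s' = x' →
        Θ (b ⊗ₜ x') = b • pbSec gZ ((Scheme.Modules.pullback i').obj (ClSub.idealMod J)) eV
          (OmegaSh.pullSect i' (ClSub.idealMod J) U' s') := by
  letI := (i'.appLE U' (i' ⁻¹ᵁ U') le_rfl).hom.toAlgebra
  letI := ψ.toAlgebra
  letI := (gZ.appLE (i' ⁻¹ᵁ U') V eV).hom.toAlgebra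
  haveI : IsScalarTower Γ(X, U') Γ(Z', i' ⁻¹ᵁ U') Γ(Z, V) :=
    IsScalarTower.of_algebraMap_eq' hψ
  obtain ⟨Ξ', hΞ'⟩ := idealPull_chart J i' hU' hV'
  haveI : ((Scheme.Modules.pullback i').obj (ClSub.idealMod J)).IsQuasicoherent :=
    qc_pullback i' (ClSub.idealMod J)
  letI := pbModule gZ ((Scheme.Modules.pullback i').obj (ClSub.idealMod J)) eV
  haveI := pbModule_isScalarTower gZ ((Scheme.Modules.pullback i').obj (ClSub.idealMod J)) eV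
  have hbc := isBaseChange_pbSec gZ hV hV' eV ((Scheme.Modules.pullback i').obj (ClSub.idealMod J))
  let Θ : Γ(Z, V) ⊗[Γ(X, U')] (J.ideal ⟨U', hU'⟩)
      ≃ₗ[Γ(Z, V)] Γ((Scheme.Modules.pullback gZ).obj
            ((Scheme.Modules.pullback i').obj (ClSub.idealMod J)), V) :=
    (TensorProduct.AlgebraTensorModule.cancelBaseChange Γ(X, U') Γ(Z', i' ⁻¹ᵁ U') Γ(Z, V) Γ(Z, V)
      (J.ideal ⟨U', hU'⟩)).symm ≪≫ₗ
    (TensorProduct.AlgebraTensorModule.congr (LinearEquiv.refl Γ(Z, V) Γ(Z, V)) Ξ') ≪≫ₗ hbc.equiv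
  refine ⟨Θ, fun b x' s' hs' => ?_⟩
  change hbc.equiv (b ⊗ₜ Ξ' (1 ⊗ₜ x')) = _
  rw [IsBaseChange.equiv_tmul, hΞ' 1 x' s' hs', one_smul]
  rfl

end General

section GrMap

variable {Z X Z' X' : Scheme.{u}} {i : Z ⟶ X} {i' : Z' ⟶ X'} [QuasiCompact i] [QuasiCompact i']
  {g : X ⟶ X'} {gZ : Z ⟶ Z'}

/-- `g♯` maps the ideal of `i'` into the ideal of `i` (commutative square). -/
theorem appLE_mem_ker_ideal (hsq : gZ ≫ i' = i ≫ g) {U' : X'.Opens} (hU' : IsAffineOpen U')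
    {U : X.Opens} (hU : IsAffineOpen U) (eU : U ≤ g ⁻¹ᵁ U') (x' : Γ(X', U'))
    (hx' : x' ∈ i'.ker.ideal ⟨U', hU'⟩) :
    g.appLE U' U eU x' ∈ i.ker.ideal ⟨U, hU⟩ := by
  rw [Scheme.Hom.ker_apply] at hx' ⊢
  rw [RingHom.mem_ker] at hx' ⊢
  have eV : i ⁻¹ᵁ U ≤ gZ ⁻¹ᵁ (i' ⁻¹ᵁ U') := preimage_le_of_sq' hsq (i.preimage_mono eU)
  have h1 : g.appLE U' U eU ≫ i.appLE U (i ⁻¹ᵁ U) le_rfl =
      i'.appLE U' (i' ⁻¹ᵁ U') le_rfl ≫ gZ.appLE (i' ⁻¹ᵁ U') (i ⁻¹ᵁ U) eV := by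
    rw [Scheme.Hom.appLE_comp_appLE, Scheme.Hom.appLE_comp_appLE]
    exact (appLE_congr_of_eq hsq _ _ _ _).symm
  have h2 := congrArg (fun ψ => ψ.hom x') h1
  simp only [CommRingCat.hom_comp, RingHom.comp_apply] at h2
  rw [Scheme.Hom.appLE_eq_app, Scheme.Hom.appLE_eq_app] at h2
  change (i.app U).hom (g.appLE U' U eU x') = 0
  rw [h2]
  have : (i'.app U').hom x' = 0 := hx'
  rw [this, map_zero]

theorem appLE_mem_ker_pow_ideal (hsq : gZ ≫ i' = i ≫ g) (n : ℕ) {U' : X'.Opens}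
    (hU' : IsAffineOpen U')
    {U : X.Opens} (hU : IsAffineOpen U) (eU : U ≤ g ⁻¹ᵁ U') (x' : Γ(X', U'))
    (hx' : x' ∈ (i'.ker ^ n).ideal ⟨U', hU'⟩) :
    g.appLE U' U eU x' ∈ (i.ker ^ n).ideal ⟨U, hU⟩ := by
  rw [Scheme.IdealSheafData.ideal_pow, Pi.pow_apply] at hx' ⊢
  have h1 : Ideal.map (g.appLE U' U eU).hom (i'.ker.ideal ⟨U', hU'⟩) ≤ i.ker.ideal ⟨U, hU⟩ := by
    rw [Ideal.map_le_iff_le_comap]
    intro y hy
    exact appLE_mem_ker_ideal hsq hU' hU eU y hy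
  have h2 := Ideal.mem_map_of_mem (g.appLE U' U eU).hom hx'
  rw [Ideal.map_pow] at h2
  exact Ideal.pow_right_mono h1 n h2

/-- **pushing a section of `I'^n` to a section of `I^n`**, over the (non-affine) preimage of an
affine open. -/
theorem exists_grPush (hsq : gZ ≫ i' = i ≫ g) (n : ℕ) {U' : X'.Opens} (hU' : IsAffineOpen U')
    (s' : Γ(ClSub.idealMod (i'.ker ^ n), U')) :
    ∃ s : Γ(ClSub.idealMod (i.ker ^ n), g ⁻¹ᵁ U'),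
      OmegaSh.idealSect (i.ker ^ n) (g ⁻¹ᵁ U') s =
        g.app U' (OmegaSh.idealSect (i'.ker ^ n) U' s') := by
  rw [exists_idealSect_eq_iff_subschemeι, subschemeι_app_eq_zero_iff_mem]
  intro U hU hUN
  exact appLE_mem_ker_pow_ideal hsq n hU' hU hUN _ (idealSect_mem _ hU' s')

/-- **section formula for a map of graded pieces**, over affine `U'`. -/
theorem IsGrMap.app_pbSec {n : ℕ}
    {φ : (Scheme.Modules.pullback gZ).obj (PrinPart.grMod i' n) ⟶ PrinPart.grMod i n}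
    (hφ : PrinPart.IsGrMap i i' g gZ n φ) {U' : X'.Opens} (hU' : IsAffineOpen U')
    {N : X.Opens} (eN : N ≤ g ⁻¹ᵁ U')
    {V : Z.Opens} (eV : V ≤ gZ ⁻¹ᵁ (i' ⁻¹ᵁ U')) (eV' : V ≤ i ⁻¹ᵁ N)
    (s' : Γ(ClSub.idealMod (i'.ker ^ n), U')) (s₁ : Γ(ClSub.idealMod (i.ker ^ n), N))
    (hs : OmegaSh.idealSect (i.ker ^ n) N s₁ =
      g.appLE U' N eN (OmegaSh.idealSect (i'.ker ^ n) U' s')) :
    φ.app V (pbSec gZ (PrinPart.grMod i' n) eV (PrinPart.grSect i' n U' s')) =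
      (pbSec i (ClSub.idealMod (i.ker ^ n)) eV' s₁ : Γ(PrinPart.grMod i n, V)) := by
  obtain ⟨s, hs0⟩ := exists_grPush (i := i) (i' := i') hφ.1 n hU' s'
  have hs1 : s₁ = (ClSub.idealMod (i.ker ^ n)).presheaf.map (homOfLE eN).op s := by
    apply idealSect_injective
    rw [hs, idealSect_res, hs0, Scheme.Hom.appLE]
    rfl
  have h := hφ.2 U' s' s hs0 V eV (eV'.trans (i.preimage_mono eN))
  have e1 : φ.app V (pbSec gZ (PrinPart.grMod i' n) eV (PrinPart.grSect i' n U' s')) =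
      (PrinPart.grMod i n).presheaf.map (homOfLE eV).op
        (φ.app (gZ ⁻¹ᵁ (i' ⁻¹ᵁ U'))
          (OmegaSh.pullSect gZ (PrinPart.grMod i' n) (i' ⁻¹ᵁ U')
            (PrinPart.grSect i' n U' s'))) := app_res φ eV _
  rw [e1, h, hs1]
  have e2 := pbSec_res i (ClSub.idealMod (i.ker ^ n)) (le_refl (i ⁻¹ᵁ (g ⁻¹ᵁ U'))) eV'
    (eV'.trans (i.preimage_mono eN)) eN s
  rw [e2, pbSec_le_rfl]
  rfl

/-- **chart description of a map of graded pieces.** -/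
theorem grMap_chart [IsAffineHom i] [IsAffineHom i'] {n : ℕ}
    {φ : (Scheme.Modules.pullback gZ).obj (PrinPart.grMod i' n) ⟶ PrinPart.grMod i n}
    (hφ : PrinPart.IsGrMap i i' g gZ n φ) {U' : X'.Opens} {U : X.Opens}
    (hU' : IsAffineOpen U') (hU : IsAffineOpen U) (eU : U ≤ g ⁻¹ᵁ U') :
    letI algA'A := (g.appLE U' U eU).hom.toAlgebra
    letI algAB := (i.appLE U (i ⁻¹ᵁ U) le_rfl).hom.toAlgebra
    letI algA'B := ((g.appLE U' U eU ≫ i.appLE U (i ⁻¹ᵁ U) le_rfl).hom).toAlgebra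
    ∃ (Θ : Γ(Z, i ⁻¹ᵁ U) ⊗[Γ(X', U')] ((i'.ker ^ n).ideal ⟨U', hU'⟩)
          ≃ₗ[Γ(Z, i ⁻¹ᵁ U)] Γ((Scheme.Modules.pullback gZ).obj (PrinPart.grMod i' n), i ⁻¹ᵁ U))
      (Ξ : Γ(Z, i ⁻¹ᵁ U) ⊗[Γ(X, U)] ((i.ker ^ n).ideal ⟨U, hU⟩)
          ≃ₗ[Γ(Z, i ⁻¹ᵁ U)] Γ(PrinPart.grMod i n, i ⁻¹ᵁ U)),
      ∀ (b : Γ(Z, i ⁻¹ᵁ U)) (x' : (i'.ker ^ n).ideal ⟨U', hU'⟩) (x : (i.ker ^ n).ideal ⟨U, hU⟩),
        (x : Γ(X, U)) = algebraMap Γ(X', U') Γ(X, U) x' →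
        φ.app (i ⁻¹ᵁ U) (Θ (b ⊗ₜ x')) = Ξ (b ⊗ₜ x) := by
  letI algA'A := (g.appLE U' U eU).hom.toAlgebra
  letI algAB := (i.appLE U (i ⁻¹ᵁ U) le_rfl).hom.toAlgebra
  letI algA'B := ((g.appLE U' U eU ≫ i.appLE U (i ⁻¹ᵁ U) le_rfl).hom).toAlgebra
  have hV : IsAffineOpen (i ⁻¹ᵁ U) := hU.preimage i
  have hV' : IsAffineOpen (i' ⁻¹ᵁ U') := hU'.preimage i'
  have eV : i ⁻¹ᵁ U ≤ gZ ⁻¹ᵁ (i' ⁻¹ᵁ U') := preimage_le_of_sq' hφ.1 (i.preimage_mono eU)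
  have hcomm : g.appLE U' U eU ≫ i.appLE U (i ⁻¹ᵁ U) le_rfl =
      i'.appLE U' (i' ⁻¹ᵁ U') le_rfl ≫ gZ.appLE (i' ⁻¹ᵁ U') (i ⁻¹ᵁ U) eV := by
    rw [Scheme.Hom.appLE_comp_appLE, Scheme.Hom.appLE_comp_appLE]
    exact (appLE_congr_of_eq hφ.1 _ _ _ _).symm
  obtain ⟨Ξ, hΞ⟩ := idealPull_chart (i.ker ^ n) i hU hV
  obtain ⟨Θ, hΘ⟩ := pullback_idealPull_chart (i'.ker ^ n) i' gZ hU' hV' hV eV
    (g.appLE U' U eU ≫ i.appLE U (i ⁻¹ᵁ U) le_rfl).hom (congrArg CommRingCat.Hom.hom hcomm)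
  refine ⟨Θ, Ξ, fun b x' x hx => ?_⟩
  obtain ⟨s', hs'⟩ := exists_idealSect_eq_of_mem (i'.ker ^ n) hU' x'.1 x'.2
  obtain ⟨s, hs⟩ := exists_idealSect_eq_of_mem (i.ker ^ n) hU x.1 x.2
  have hs2 : OmegaSh.idealSect (i.ker ^ n) U s =
      g.appLE U' U eU (OmegaSh.idealSect (i'.ker ^ n) U' s') := by
    rw [hs, hs', hx]; rfl
  have h3 := IsGrMap.app_pbSec hφ hU' eU eV (le_refl _) s' s hs2
  have h4 : φ.app (i ⁻¹ᵁ U) (pbSec gZ ((Scheme.Modules.pullback i').obj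
      (ClSub.idealMod (i'.ker ^ n))) eV (OmegaSh.pullSect i' (ClSub.idealMod (i'.ker ^ n)) U' s')) =
      (pbSec i (ClSub.idealMod (i.ker ^ n)) (le_refl _) s : Γ(PrinPart.grMod i n, i ⁻¹ᵁ U)) := h3
  have h5 : (pbSec i (ClSub.idealMod (i.ker ^ n)) (le_refl _) s : Γ(PrinPart.grMod i n, i ⁻¹ᵁ U)) =
      OmegaSh.pullSect i (ClSub.idealMod (i.ker ^ n)) U s := pbSec_le_rfl _ _ _ _
  refine (congrArg (φ.app (i ⁻¹ᵁ U)) (hΘ b x' s' hs')).trans ?_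
  refine (Scheme.Modules.Hom.app_smul φ b _).trans ?_
  refine (congrArg (fun t => b • t) (h4.trans h5)).trans ?_
  exact (hΞ b x s hs).symm

end GrMap

end Groth.Agent.H3.PP
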