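import Mathlib
import Groth.Agent.Lib.Helper3.OmCMRing

set_option autoImplicit false
universe u
open TensorProduct

namespace Groth.Agent.H3.PP

section RingT

variable {A' A B : Type u} [CommRing A'] [CommRing A] [CommRing B]
    [Algebra A' A] [Algebra A B] [Algebra A' B] [IsScalarTower A' A B]
    (I' : Ideal A') (I : Ideal A) (hI : I = Ideal.map (algebraMap A' A) I')

include hI in
/-- the natural map `B ⊗[A'] I' → B ⊗[A] (I'A)`: it is surjective, and bijective as soon as
`A ⊗[A'] I' → A ⊗[A'] A'` is injective. -/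
theorem exists_tensorIdealMap :
    ∃ T : B ⊗[A'] I' →ₗ[B] B ⊗[A] I, Function.Surjective T ∧
      (Function.Injective (LinearMap.lTensor A (Submodule.subtype I')) → Function.Bijective T) ∧
      ∀ (b : B) (x' : I') (x : I), (x : A) = algebraMap A' A x' → T (b ⊗ₜ x') = b ⊗ₜ x := by
  have hmem : ∀ x' : I', algebraMap A' A x' ∈ I := fun x' => by
    rw [hI]; exact Ideal.mem_map_of_mem _ x'.2
  let κ : I' →ₗ[A'] I :=
    { toFun := fun x' => ⟨algebraMap A' A x', hmem x'⟩
      map_add' := fun x y => Subtype.ext (by simp)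
      map_smul' := fun a x => Subtype.ext (by
        simp only [SetLike.val_smul, smul_eq_mul, map_mul, RingHom.id_apply]
        exact (Algebra.smul_def _ _).symm) }
  let τ₀ : A ⊗[A'] I' →ₗ[A] I := LinearMap.liftBaseChange A κ
  have hτ₀ : ∀ (a : A) (x' : I'), τ₀ (a ⊗ₜ x') = a • κ x' := fun a x' =>
    LinearMap.liftBaseChange_tmul _ _ _ _
  have hcomp : ∀ t : A ⊗[A'] I', ((τ₀ t : I) : A) =
      TensorProduct.rid A' A (LinearMap.lTensor A (Submodule.subtype I') t) := by
    intro t
    induction t with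
    | zero => simp
    | add x y hx hy => simp only [map_add, Submodule.coe_add, hx, hy]
    | tmul a x' =>
      rw [hτ₀, LinearMap.lTensor_tmul, TensorProduct.rid_tmul]
      change a * algebraMap A' A x' = _
      rw [Algebra.smul_def, mul_comm]
      rfl
  have hsurj : Function.Surjective τ₀ := by
    rintro ⟨x, hx⟩
    have hx' : x ∈ Ideal.span (algebraMap A' A '' (I' : Set A')) := by
      rw [hI] at hx; exact hx
    suffices h : ∃ t, ((τ₀ t : I) : A) = x by
      obtain ⟨t, ht⟩ := h
      exact ⟨t, Subtype.ext ht⟩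
    induction hx' using Submodule.span_induction with
    | mem y hy =>
      obtain ⟨x', hx'I, rfl⟩ := hy
      refine ⟨(1 : A) ⊗ₜ ⟨x', hx'I⟩, ?_⟩
      rw [hτ₀, one_smul]
      rfl
    | zero => exact ⟨0, by simp⟩
    | add y z _ _ hy hz =>
      obtain ⟨t, ht⟩ := hy (by rw [hI]; assumption)
      obtain ⟨t', ht'⟩ := hz (by rw [hI]; assumption)
      exact ⟨t + t', by rw [map_add, Submodule.coe_add, ht, ht']⟩
    | smul a y _ hy =>
      obtain ⟨t, ht⟩ := hy (by rw [hI]; assumption)
      exact ⟨a • t, by rw [map_smul, Submodule.coe_smul, ht]⟩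
  let T : B ⊗[A'] I' →ₗ[B] B ⊗[A] I :=
    (TensorProduct.AlgebraTensorModule.lTensor B B τ₀) ∘ₗ
      (TensorProduct.AlgebraTensorModule.cancelBaseChange A' A B B I').symm.toLinearMap
  have hT : ∀ (b : B) (x' : I') (x : I), (x : A) = algebraMap A' A x' → T (b ⊗ₜ x') = b ⊗ₜ x := by
    intro b x' x hx
    change b ⊗ₜ[A] τ₀ ((1 : A) ⊗ₜ x') = _
    rw [hτ₀, one_smul]
    congr 1
    exact Subtype.ext hx.symm
  refine ⟨T, ?_, ?_, hT⟩
  · have h1 : Function.Surjective (TensorProduct.AlgebraTensorModule.lTensor B B τ₀) :=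
      LinearMap.lTensor_surjective B hsurj
    exact h1.comp (TensorProduct.AlgebraTensorModule.cancelBaseChange A' A B B I').symm.surjective
  · intro hinj0
    have hinj : Function.Injective τ₀ := by
      intro t t' htt
      apply hinj0
      apply (TensorProduct.rid A' A).injective
      rw [← hcomp, ← hcomp, htt]
    let τ : A ⊗[A'] I' ≃ₗ[A] I := LinearEquiv.ofBijective τ₀ ⟨hinj, hsurj⟩
    have h2 : Function.Bijective (TensorProduct.AlgebraTensorModule.lTensor B B τ₀) :=
      (TensorProduct.AlgebraTensorModule.congr (LinearEquiv.refl B B) τ).bijective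
    exact h2.comp (TensorProduct.AlgebraTensorModule.cancelBaseChange A' A B B I').symm.bijective

end RingT

end Groth.Agent.H3.PP
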