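import Mathlib
import Groth.Prelude.Def_OmegaPn
import Groth.Agent.Lib.Helper3.PP19
import Groth.Agent.Lib.Helper3.PP20
import Groth.Agent.Lib.Helper3.OmIsoCover

set_option autoImplicit false
universe u
open AlgebraicGeometry CategoryTheory TopologicalSpace Opposite CategoryTheory.Limits TensorProduct
open Groth.Agent.LD.QC Groth.Agent.H3.Om

namespace Groth.Agent.H3.PP

section Cart

variable {Z X Z' X' : Scheme.{u}} {i : Z ⟶ X} {i' : Z' ⟶ X'} [IsClosedImmersion i]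
  [IsClosedImmersion i'] {g : X ⟶ X'} {gZ : Z ⟶ Z'}

/-- in a cartesian square the ideal of `i` is generated by the ideal of `i'`. -/
theorem ker_ideal_eq_map_of_isPullback (hsq : IsPullback i gZ g i') {U' : X'.Opens} {U : X.Opens}
    (hU' : IsAffineOpen U') (hU : IsAffineOpen U) (eU : U ≤ g ⁻¹ᵁ U') :
    i.ker.ideal ⟨U, hU⟩ = Ideal.map (g.appLE U' U eU).hom (i'.ker.ideal ⟨U', hU'⟩) := by
  have hV' : IsAffineOpen (i' ⁻¹ᵁ U') := hU'.preimage i'
  have eV : i ⁻¹ᵁ U ≤ gZ ⁻¹ᵁ (i' ⁻¹ᵁ U') := preimage_le_of_sq' hsq.w.symm (i.preimage_mono eU)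
  have hpo := isPushout_prodChart hsq hU hU' hV' eU (le_refl (i' ⁻¹ᵁ U'))
  have hsurj' : Function.Surjective (i'.appLE U' (i' ⁻¹ᵁ U') (le_refl _)).hom := by
    rw [Scheme.Hom.appLE_eq_app]; exact Scheme.Hom.app_surjective i' U' hU'
  have h1 := ker_of_isPushout_of_surjective hpo hsurj'
  rw [Scheme.Hom.ker_apply, Scheme.Hom.ker_apply]
  have h0 : RingHom.ker (i'.app U').hom = RingHom.ker (i'.appLE U' (i' ⁻¹ᵁ U') (le_refl _)).hom := by
    rw [Scheme.Hom.appLE_eq_app]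
  rw [h0]
  refine Eq.trans ?_ h1
  have h2 : i.appLE U (i ⁻¹ᵁ U ⊓ gZ ⁻¹ᵁ (i' ⁻¹ᵁ U')) inf_le_left =
      i.app U ≫ Z.presheaf.map (homOfLE inf_le_left).op := rfl
  rw [h2]
  ext x
  rw [RingHom.mem_ker, RingHom.mem_ker]
  change _ ↔ (Z.presheaf.map (homOfLE inf_le_left).op) ((i.app U) x) = 0
  constructor
  · intro h; rw [show (i.app U) x = 0 from h, map_zero]
  · intro h
    exact res_injective_of_le inf_le_left (le_inf le_rfl eV) (h.trans (map_zero _).symm)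

theorem ker_pow_ideal_eq_map_of_isPullback (hsq : IsPullback i gZ g i') (n : ℕ) {U' : X'.Opens}
    {U : X.Opens} (hU' : IsAffineOpen U') (hU : IsAffineOpen U) (eU : U ≤ g ⁻¹ᵁ U') :
    (i.ker ^ n).ideal ⟨U, hU⟩ =
      Ideal.map (g.appLE U' U eU).hom ((i'.ker ^ n).ideal ⟨U', hU'⟩) := by
  rw [Scheme.IdealSheafData.ideal_pow, Scheme.IdealSheafData.ideal_pow, Pi.pow_apply, Pi.pow_apply,
    Ideal.map_pow, ker_ideal_eq_map_of_isPullback hsq hU' hU eU]

/-- **the map of graded pieces of a cartesian square, on charts.** -/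
theorem grMap_cartesian_chart (hsq : IsPullback i gZ g i') {n : ℕ}
    {φ : (Scheme.Modules.pullback gZ).obj (PrinPart.grMod i' n) ⟶ PrinPart.grMod i n}
    (hφ : PrinPart.IsGrMap i i' g gZ n φ) {U' : X'.Opens} {U : X.Opens}
    (hU' : IsAffineOpen U') (hU : IsAffineOpen U) (eU : U ≤ g ⁻¹ᵁ U') :
    letI algA'A := (g.appLE U' U eU).hom.toAlgebra
    Function.Surjective (φ.app (i ⁻¹ᵁ U)) ∧
      (Function.Injective (LinearMap.lTensor Γ(X, U)
          (Submodule.subtype ((i'.ker ^ n).ideal ⟨U', hU'⟩))) →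
        Function.Bijective (φ.app (i ⁻¹ᵁ U))) := by
  letI algA'A := (g.appLE U' U eU).hom.toAlgebra
  letI algAB := (i.appLE U (i ⁻¹ᵁ U) le_rfl).hom.toAlgebra
  letI algA'B := ((g.appLE U' U eU ≫ i.appLE U (i ⁻¹ᵁ U) le_rfl).hom).toAlgebra
  haveI : IsScalarTower Γ(X', U') Γ(X, U) Γ(Z, i ⁻¹ᵁ U) := IsScalarTower.of_algebraMap_eq' rfl
  obtain ⟨Θ, Ξ, hF⟩ := grMap_chart hφ hU' hU eU
  obtain ⟨T, hTs, hTb, hT⟩ := exists_tensorIdealMap (B := Γ(Z, i ⁻¹ᵁ U))
    ((i'.ker ^ n).ideal ⟨U', hU'⟩) ((i.ker ^ n).ideal ⟨U, hU⟩)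
    (ker_pow_ideal_eq_map_of_isPullback hsq n hU' hU eU)
  have hmem : ∀ x' : (i'.ker ^ n).ideal ⟨U', hU'⟩,
      algebraMap Γ(X', U') Γ(X, U) x' ∈ (i.ker ^ n).ideal ⟨U, hU⟩ := by
    intro x'
    rw [ker_pow_ideal_eq_map_of_isPullback hsq n hU' hU eU]
    exact Ideal.mem_map_of_mem _ x'.2
  have hall : ∀ y, φ.app (i ⁻¹ᵁ U) (Θ y) = Ξ (T y) := by
    intro y
    induction y with
    | zero => rw [map_zero, map_zero, map_zero, map_zero]
    | add y z hy hz => rw [map_add, map_add, hy, hz, map_add, map_add]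
    | tmul b x' =>
      rw [hF b x' ⟨_, hmem x'⟩ rfl, hT b x' ⟨_, hmem x'⟩ rfl]
  constructor
  · intro m
    obtain ⟨y, rfl⟩ := Ξ.surjective m
    obtain ⟨y', rfl⟩ := hTs y
    exact ⟨Θ y', hall y'⟩
  · intro hinj
    have hTbij := hTb hinj
    constructor
    · intro t t' htt
      obtain ⟨y, rfl⟩ := Θ.surjective t
      obtain ⟨y', rfl⟩ := Θ.surjective t'
      rw [hall, hall] at htt
      rw [hTbij.1 (Ξ.injective htt)]
    · intro m
      obtain ⟨y, rfl⟩ := Ξ.surjective m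
      obtain ⟨y', rfl⟩ := hTbij.2 y
      exact ⟨Θ y', hall y'⟩

instance qc_grMod {Z X : Scheme.{u}} (i : Z ⟶ X) (n : ℕ) : (PrinPart.grMod i n).IsQuasicoherent :=
  qc_pullback i (ClSub.idealMod (i.ker ^ n))

/-- **S5952**: the map of graded pieces of a cartesian square is an epimorphism. -/
theorem epi_grMap_of_isPullback (hsq : IsPullback i gZ g i') {n : ℕ}
    {φ : (Scheme.Modules.pullback gZ).obj (PrinPart.grMod i' n) ⟶ PrinPart.grMod i n}
    (hφ : PrinPart.IsGrMap i i' g gZ n φ) : Epi φ := by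
  apply epi_of_surjective_basis φ
    {V | ∃ (U : X.Opens) (U' : X'.Opens), IsAffineOpen U ∧ IsAffineOpen U' ∧ U ≤ g ⁻¹ᵁ U' ∧
      V = i ⁻¹ᵁ U}
  · rw [Opens.isBasis_iff_nbhd]
    intro N z hz
    obtain ⟨U, U', hU, -, hU', -, hUM, hzU, hUN⟩ :=
      exists_good_chart_pair i i' g gZ hφ.1 z N hz
    exact ⟨i ⁻¹ᵁ U, ⟨U, U', hU, hU', hUM, rfl⟩, hzU, hUN⟩
  · rintro V ⟨U, U', hU, hU', hUM, rfl⟩
    exact (grMap_cartesian_chart hsq hφ hU' hU hUM).1

/-- **S5953**: for flat `g` it is an isomorphism. -/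
theorem isIso_grMap_of_isPullback_of_flat (hsq : IsPullback i gZ g i') [Flat g] {n : ℕ}
    {φ : (Scheme.Modules.pullback gZ).obj (PrinPart.grMod i' n) ⟶ PrinPart.grMod i n}
    (hφ : PrinPart.IsGrMap i i' g gZ n φ) : IsIso φ := by
  haveI : ((Scheme.Modules.pullback gZ).obj (PrinPart.grMod i' n)).IsQuasicoherent :=
    qc_pullback gZ _
  apply isIso_of_bijective_affine_cover
  intro z
  obtain ⟨U, U', hU, -, hU', -, hUM, hzU, -⟩ :=
    exists_good_chart_pair i i' g gZ hφ.1 z ⊤ trivial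
  refine ⟨i ⁻¹ᵁ U, hU.preimage i, hzU, (grMap_cartesian_chart hsq hφ hU' hU hUM).2 ?_⟩
  letI algA'A := (g.appLE U' U hUM).hom.toAlgebra
  haveI : Module.Flat Γ(X', U') Γ(X, U) := by
    have := HasRingHomProperty.appLE (P := @Flat) g inferInstance ⟨U', hU'⟩ ⟨U, hU⟩ hUM
    exact this
  exact Module.Flat.lTensor_preserves_injective_linearMap _ (Submodule.injective_subtype _)

end Cart

end Groth.Agent.H3.PP
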