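import Mathlib
import Groth.Agent.Lib.Helper2.CAlgA

set_option autoImplicit false
universe u
open TensorProduct

namespace Groth.Agent.H3.PP

section RingSec

variable (R R' A' A : Type u) [CommRing R] [CommRing R'] [CommRing A'] [CommRing A]
  [Algebra R R'] [Algebra R A'] [Algebra A' A] [Algebra R' A] [Algebra R A]
  [IsScalarTower R A' A] [IsScalarTower R R' A]

/-- **R2**: if `A = R' ⊗[R] A'` and `A'/I'` is flat over `R`, then `A ⊗[A'] I' → A ⊗[A'] A'` is
injective. -/
theorem lTensor_injective_of_isPushout [Algebra.IsPushout R R' A' A] (I' : Ideal A')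
    [Module.Flat R (A' ⧸ I')] :
    Function.Injective (LinearMap.lTensor A (Submodule.subtype I')) := by
  let ιR : I' →ₗ[R] A' := (Submodule.subtype I').restrictScalars R
  let πR : A' →ₗ[R] A' ⧸ I' := (Submodule.mkQ I').restrictScalars R
  have h1 : Function.Injective (ιR.lTensor R') :=
    LinearMap.lTensor_injective_of_exact_of_flat πR (Submodule.mkQ_surjective I') ιR
      (Submodule.injective_subtype I')
      (by
        intro x
        change Submodule.mkQ I' x = 0 ↔ x ∈ Set.range (Submodule.subtype I')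
        rw [Submodule.mkQ_apply, Submodule.Quotient.mk_eq_zero]
        constructor
        · intro hx; exact ⟨⟨x, hx⟩, rfl⟩
        · rintro ⟨y, rfl⟩; exact y.2) R'
  let e1 := Algebra.IsPushout.cancelBaseChange R R' A' A I'
  let e2 := Algebra.IsPushout.cancelBaseChange R R' A' A A'
  have hnat : ∀ t : R' ⊗[R] I', LinearMap.lTensor A (Submodule.subtype I') (e1.symm t) =
      e2.symm (ιR.lTensor R' t) := by
    intro t
    induction t with
    | zero => simp
    | add x y hx hy => rw [map_add, map_add, hx, hy, map_add, map_add]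
    | tmul r m =>
      rw [Algebra.IsPushout.cancelBaseChange_symm_tmul, LinearMap.lTensor_tmul,
        LinearMap.lTensor_tmul, Algebra.IsPushout.cancelBaseChange_symm_tmul]
      rfl
  intro x y hxy
  obtain ⟨s, rfl⟩ := e1.symm.surjective x
  obtain ⟨t, rfl⟩ := e1.symm.surjective y
  rw [hnat, hnat] at hxy
  rw [h1 (e2.symm.injective hxy)]

end RingSec

section RingFlat

variable (R A' B' : Type u) [CommRing R] [CommRing A'] [CommRing B'] [Algebra R A']
  [Algebra A' B'] [Algebra R B'] [IsScalarTower R A' B']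

/-- `A'/I ≃ B'` as `R`-modules, for `A' → B'` surjective with kernel `I`. -/
theorem flat_quot_of_surjective (hsurj : Function.Surjective (algebraMap A' B')) (I : Ideal A')
    (hI : RingHom.ker (algebraMap A' B') = I) [Module.Flat R B'] : Module.Flat R (A' ⧸ I) := by
  subst hI
  let e : (A' ⧸ RingHom.ker (algebraMap A' B')) ≃ₗ[R] B' :=
    { (RingHom.quotientKerEquivOfSurjective hsurj).toAddEquiv with
      map_smul' := fun r x => by
        obtain ⟨a, rfl⟩ := Ideal.Quotient.mk_surjective x
        change RingHom.quotientKerEquivOfSurjective hsurj (r • Ideal.Quotient.mk _ a) =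
          r • RingHom.quotientKerEquivOfSurjective hsurj (Ideal.Quotient.mk _ a)
        have h1 : r • Ideal.Quotient.mk (RingHom.ker (algebraMap A' B')) a =
            Ideal.Quotient.mk _ (r • a) := rfl
        rw [h1, RingHom.quotientKerEquivOfSurjective_apply_mk,
          RingHom.quotientKerEquivOfSurjective_apply_mk, Algebra.smul_def, map_mul,
          ← IsScalarTower.algebraMap_apply, Algebra.smul_def] }
  exact Module.Flat.of_linearEquiv e

/-- **R3'**: `A'/J` flat and `B' ⊗[A'] J` flat (over `R`), `B' = A'/I`, imply `A'/(I * J)` flat. -/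
theorem flat_quot_mul (hsurj : Function.Surjective (algebraMap A' B')) (I J J' : Ideal A')
    (hI : RingHom.ker (algebraMap A' B') = I) (hJ' : J' = I * J)
    [Module.Flat R (A' ⧸ J)] [Module.Flat R (B' ⊗[A'] J)] : Module.Flat R (A' ⧸ J') := by
  subst hI hJ'
  set I := RingHom.ker (algebraMap A' B') with hIdef
  -- `B' ⊗ J ≃ J / I J`
  let e₁ : (A' ⧸ I) ≃ₗ[A'] B' :=
    { (RingHom.quotientKerEquivOfSurjective hsurj).toAddEquiv with
      map_smul' := fun r x => by
        obtain ⟨a, rfl⟩ := Ideal.Quotient.mk_surjective x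
        change RingHom.quotientKerEquivOfSurjective hsurj (r • Ideal.Quotient.mk _ a) =
          r • RingHom.quotientKerEquivOfSurjective hsurj (Ideal.Quotient.mk _ a)
        have h1 : r • Ideal.Quotient.mk (RingHom.ker (algebraMap A' B')) a =
            Ideal.Quotient.mk _ (r • a) := rfl
        rw [h1, RingHom.quotientKerEquivOfSurjective_apply_mk,
          RingHom.quotientKerEquivOfSurjective_apply_mk, smul_eq_mul, map_mul,
          Algebra.smul_def] }
  let e₂ : B' ⊗[A'] J ≃ₗ[A'] (A' ⧸ I) ⊗[A'] J :=
    TensorProduct.congr e₁.symm (LinearEquiv.refl A' J)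
  let e₃ : (A' ⧸ I) ⊗[A'] J ≃ₗ[A'] (↥J ⧸ (I • ⊤ : Submodule A' J)) :=
    TensorProduct.quotTensorEquivQuotSMul J I
  let e : B' ⊗[A'] J ≃ₗ[R] (↥J ⧸ (I • ⊤ : Submodule A' J)) := (e₂ ≪≫ₗ e₃).restrictScalars R
  haveI : Module.Flat R (↥J ⧸ (I • ⊤ : Submodule A' J)) := Module.Flat.of_linearEquiv e.symm
  -- the maps
  have hle : (I • ⊤ : Submodule A' J) ≤
      LinearMap.ker ((Submodule.mkQ (I * J)).comp (Submodule.subtype J)) := by
    rw [Submodule.smul_le]
    intro a ha x _
    rw [LinearMap.mem_ker, LinearMap.comp_apply, Submodule.mkQ_apply,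
      Submodule.Quotient.mk_eq_zero]
    exact Ideal.mul_mem_mul ha x.2
  let F : (↥J ⧸ (I • ⊤ : Submodule A' J)) →ₗ[A'] A' ⧸ (I * J) :=
    Submodule.liftQ _ ((Submodule.mkQ (I * J)).comp (Submodule.subtype J)) hle
  let G : A' ⧸ (I * J) →ₗ[A'] A' ⧸ J :=
    Submodule.mapQ (I * J) J LinearMap.id (fun x hx => (Ideal.mul_le_right : I * J ≤ J) hx)
  have hmap : (I • ⊤ : Submodule A' J).map (Submodule.subtype J) = I * J := by
    rw [Submodule.map_smul'', Submodule.map_top, Submodule.range_subtype]
    rfl
  have hF : Function.Injective F := by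
    rw [← LinearMap.ker_eq_bot, Submodule.ker_liftQ_eq_bot']
    refine le_antisymm hle ?_
    intro x hx
    rw [LinearMap.mem_ker, LinearMap.comp_apply, Submodule.mkQ_apply,
      Submodule.Quotient.mk_eq_zero] at hx
    have hx' : (x : A') ∈ (I • ⊤ : Submodule A' J).map (Submodule.subtype J) := by
      rw [hmap]; exact hx
    obtain ⟨y, hy, hyx⟩ := hx'
    have : y = x := Subtype.ext hyx
    rw [← this]; exact hy
  have hG : Function.Surjective G := by
    intro y
    obtain ⟨a, rfl⟩ := Submodule.Quotient.mk_surjective J y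
    exact ⟨Submodule.Quotient.mk a, rfl⟩
  have hex : Function.Exact F G := by
    intro y
    obtain ⟨a, rfl⟩ := Submodule.Quotient.mk_surjective (I * J) y
    have hGa : G (Submodule.Quotient.mk a) = Submodule.Quotient.mk a := rfl
    rw [hGa, Submodule.Quotient.mk_eq_zero]
    constructor
    · intro ha
      exact ⟨Submodule.Quotient.mk ⟨a, ha⟩, rfl⟩
    · rintro ⟨z, hz⟩
      obtain ⟨x, rfl⟩ := Submodule.Quotient.mk_surjective _ z
      have hFx : F (Submodule.Quotient.mk x) = Submodule.Quotient.mk (x : A') := rfl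
      rw [hFx, Submodule.Quotient.eq] at hz
      have := J.sub_mem x.2 ((Ideal.mul_le_right : I * J ≤ J) hz)
      simpa using this
  exact (Groth.Agent.H2.CAlgA.flat_of_ses (F.restrictScalars R) (G.restrictScalars R) hF hex hG).1
    inferInstance

end RingFlat

end Groth.Agent.H3.PP
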