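import Mathlib
import Groth.Prelude.Def_OmegaPn
import Groth.Agent.Lib.Helper3.PP21
import Groth.Agent.Lib.Helper3.PP22
import Groth.Agent.Lib.Helper3.PP15
import Groth.Agent.Lib.Lead.QC.LocFree2

set_option autoImplicit false
universe u
open AlgebraicGeometry CategoryTheory TopologicalSpace Opposite CategoryTheory.Limits TensorProduct
open Groth.Agent.LD.QC Groth.Agent.H3.Om

namespace Groth.Agent.H3.PP

section Sect

variable {X Y X' Y' : Scheme.{u}} (g : X ⟶ Y) (f : Y ⟶ X) (hf : f ≫ g = 𝟙 Y)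
  (u : Y' ⟶ Y) (v : X' ⟶ X) (g' : X' ⟶ Y') (hsq : IsPullback v g' g u) (f' : Y' ⟶ X')
  (hf' : f' ≫ g' = 𝟙 Y') (hf'v : f' ≫ v = u ≫ f)

include hf hsq hf' hf'v in
/-- the square of sections is cartesian. -/
theorem isPullback_section : IsPullback f' u v f := by
  refine IsPullback.of_right ?_ hf'v hsq.flip
  rw [hf', hf]
  exact IsPullback.of_horiz_isIso ⟨by simp⟩

include hf in
/-- `A'/I` is flat over the base ring (it is the ring of an open of the base). -/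
theorem flat_quot_ker_ideal [IsClosedImmersion f] {UY : Y.Opens} {U : X.Opens}
    (hUY : IsAffineOpen UY) (hU : IsAffineOpen U) (e : U ≤ g ⁻¹ᵁ UY) :
    letI := (g.appLE UY U e).hom.toAlgebra
    Module.Flat Γ(Y, UY) (Γ(X, U) ⧸ f.ker.ideal ⟨U, hU⟩) := by
  letI iRA := (g.appLE UY U e).hom.toAlgebra
  letI iAB := (f.appLE U (f ⁻¹ᵁ U) le_rfl).hom.toAlgebra
  letI iRB := (g.appLE UY U e ≫ f.appLE U (f ⁻¹ᵁ U) le_rfl).hom.toAlgebra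
  haveI : IsScalarTower Γ(Y, UY) Γ(X, U) Γ(Y, f ⁻¹ᵁ U) := IsScalarTower.of_algebraMap_eq' rfl
  have hV : IsAffineOpen (f ⁻¹ᵁ U) := hU.preimage f
  have e' : f ⁻¹ᵁ U ≤ (𝟙 Y) ⁻¹ᵁ UY := by
    intro y hy
    have h1 : (f ≫ g) y ∈ UY := e hy
    rw [hf] at h1
    exact h1
  have heq : g.appLE UY U e ≫ f.appLE U (f ⁻¹ᵁ U) le_rfl = Scheme.Hom.appLE (𝟙 Y) UY (f ⁻¹ᵁ U) e' := by
    rw [Scheme.Hom.appLE_comp_appLE]
    exact appLE_congr_of_eq hf _ _ _ _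
  haveI : Module.Flat Γ(Y, UY) Γ(Y, f ⁻¹ᵁ U) := by
    have h1 := HasRingHomProperty.appLE (P := @Flat) (𝟙 Y) inferInstance ⟨UY, hUY⟩ ⟨f ⁻¹ᵁ U, hV⟩ e'
    rw [← heq] at h1
    exact h1
  have hsurj : Function.Surjective (algebraMap Γ(X, U) Γ(Y, f ⁻¹ᵁ U)) := by
    change Function.Surjective (f.appLE U (f ⁻¹ᵁ U) le_rfl).hom
    rw [Scheme.Hom.appLE_eq_app]
    exact Scheme.Hom.app_surjective f U hU
  have hI : RingHom.ker (algebraMap Γ(X, U) Γ(Y, f ⁻¹ᵁ U)) = f.ker.ideal ⟨U, hU⟩ := by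
    change RingHom.ker (f.appLE U (f ⁻¹ᵁ U) le_rfl).hom = _
    rw [Scheme.Hom.appLE_eq_app, Scheme.Hom.ker_apply]
  exact flat_quot_of_surjective Γ(Y, UY) Γ(X, U) Γ(Y, f ⁻¹ᵁ U) hsurj _ hI

include hf hsq hf' hf'v in
/-- **the map of graded pieces for a base-changed section, on charts.** -/
theorem grMap_section_chart [IsClosedImmersion f] [IsClosedImmersion f'] {n : ℕ}
    {φ : (Scheme.Modules.pullback u).obj (PrinPart.grMod f n) ⟶ PrinPart.grMod f' n}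
    (hφ : PrinPart.IsGrMap f' f v u n φ)
    {UY : Y.Opens} {U : X.Opens} {UY' : Y'.Opens} (hUY : IsAffineOpen UY) (hU : IsAffineOpen U)
    (hUY' : IsAffineOpen UY') (e : U ≤ g ⁻¹ᵁ UY) (eg : UY' ≤ u ⁻¹ᵁ UY)
    (hfl : letI := (g.appLE UY U e).hom.toAlgebra
      Module.Flat Γ(Y, UY) (Γ(X, U) ⧸ (f.ker ^ n).ideal ⟨U, hU⟩)) :
    Function.Bijective (φ.app (f' ⁻¹ᵁ (v ⁻¹ᵁ U ⊓ g' ⁻¹ᵁ UY'))) := by
  have hW : IsAffineOpen (v ⁻¹ᵁ U ⊓ g' ⁻¹ᵁ UY') :=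
    isAffineOpen_bcChart g u v g' hsq hU hUY hUY' e eg
  have hpo := isPushout_bcChart g u v g' hsq hU hUY hUY' e eg
  have hcart := isPullback_section g f hf u v g' hsq f' hf' hf'v
  refine (grMap_cartesian_chart hcart hφ hU hW inf_le_left).2 ?_
  letI iRA' : Algebra Γ(Y, UY) Γ(X, U) := (g.appLE UY U e).hom.toAlgebra
  letI iRR' : Algebra Γ(Y, UY) Γ(Y', UY') := (u.appLE UY UY' eg).hom.toAlgebra
  letI iA'A : Algebra Γ(X, U) Γ(X', v ⁻¹ᵁ U ⊓ g' ⁻¹ᵁ UY') :=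
    (v.appLE U (v ⁻¹ᵁ U ⊓ g' ⁻¹ᵁ UY') inf_le_left).hom.toAlgebra
  letI iR'A : Algebra Γ(Y', UY') Γ(X', v ⁻¹ᵁ U ⊓ g' ⁻¹ᵁ UY') :=
    (g'.appLE UY' (v ⁻¹ᵁ U ⊓ g' ⁻¹ᵁ UY') inf_le_right).hom.toAlgebra
  letI iRA : Algebra Γ(Y, UY) Γ(X', v ⁻¹ᵁ U ⊓ g' ⁻¹ᵁ UY') :=
    (g.appLE UY U e ≫ v.appLE U (v ⁻¹ᵁ U ⊓ g' ⁻¹ᵁ UY') inf_le_left).hom.toAlgebra
  haveI t1 : IsScalarTower Γ(Y, UY) Γ(X, U) Γ(X', v ⁻¹ᵁ U ⊓ g' ⁻¹ᵁ UY') :=
    IsScalarTower.of_algebraMap_eq' rfl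
  haveI t2 : IsScalarTower Γ(Y, UY) Γ(Y', UY') Γ(X', v ⁻¹ᵁ U ⊓ g' ⁻¹ᵁ UY') :=
    IsScalarTower.of_algebraMap_eq' (congrArg CommRingCat.Hom.hom hpo.w)
  haveI po : Algebra.IsPushout Γ(Y, UY) Γ(X, U) Γ(Y', UY') Γ(X', v ⁻¹ᵁ U ⊓ g' ⁻¹ᵁ UY') :=
    CommRingCat.isPushout_iff_isPushout.mp hpo
  haveI po' : Algebra.IsPushout Γ(Y, UY) Γ(Y', UY') Γ(X, U) Γ(X', v ⁻¹ᵁ U ⊓ g' ⁻¹ᵁ UY') := po.symm
  haveI := hfl
  exact lTensor_injective_of_isPushout Γ(Y, UY) Γ(Y', UY') Γ(X, U) Γ(X', v ⁻¹ᵁ U ⊓ g' ⁻¹ᵁ UY') _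

include hf hsq hf' hf'v in
/-- **the map of graded pieces for a base-changed section is an isomorphism** as soon as the
quotients `A'/I^n` are flat over the base on charts. -/
theorem isIso_grMap_section [IsClosedImmersion f] {n : ℕ}
    {φ : (Scheme.Modules.pullback u).obj (PrinPart.grMod f n) ⟶ PrinPart.grMod f' n}
    (hφ : PrinPart.IsGrMap f' f v u n φ)
    (hfl : ∀ (UY : Y.Opens) (U : X.Opens) (_ : IsAffineOpen UY) (hU : IsAffineOpen U)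
      (e : U ≤ g ⁻¹ᵁ UY), letI := (g.appLE UY U e).hom.toAlgebra
      Module.Flat Γ(Y, UY) (Γ(X, U) ⧸ (f.ker ^ n).ideal ⟨U, hU⟩)) : IsIso φ := by
  have hcart := isPullback_section g f hf u v g' hsq f' hf' hf'v
  haveI : IsClosedImmersion f' :=
    MorphismProperty.of_isPullback (P := @IsClosedImmersion) hcart.flip inferInstance
  haveI : ((Scheme.Modules.pullback u).obj (PrinPart.grMod f n)).IsQuasicoherent :=
    qc_pullback u _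
  apply isIso_of_bijective_affine_cover
  intro y'
  obtain ⟨UY, hUY, hyUY, -⟩ := exists_isAffineOpen_mem_and_subset (x := u y') (U := ⊤) trivial
  have hx : f (u y') ∈ g ⁻¹ᵁ UY := by
    change (f ≫ g) (u y') ∈ UY
    rw [hf]; exact hyUY
  obtain ⟨U, hU, hxU, e⟩ := exists_isAffineOpen_mem_and_subset (x := f (u y')) (U := g ⁻¹ᵁ UY) hx
  obtain ⟨UY', hUY', hyUY', eg⟩ :=
    exists_isAffineOpen_mem_and_subset (x := y') (U := u ⁻¹ᵁ UY) hyUY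
  refine ⟨f' ⁻¹ᵁ (v ⁻¹ᵁ U ⊓ g' ⁻¹ᵁ UY'),
    (isAffineOpen_bcChart g u v g' hsq hU hUY hUY' e eg).preimage f', ⟨?_, ?_⟩,
    grMap_section_chart g f hf u v g' hsq f' hf' hf'v hφ hUY hU hUY' e eg (hfl UY U hUY hU e)⟩
  · change (f' ≫ v) y' ∈ U
    rw [hf'v]; exact hxU
  · change (f' ≫ g') y' ∈ UY'
    rw [hf']; exact hyUY'

include hf hsq hf' hf'v in
/-- **S5963**: the conormal sheaf of a section commutes with base change. -/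
theorem isIso_grMap_one_section [IsClosedImmersion f]
    {φ : (Scheme.Modules.pullback u).obj (PrinPart.grMod f 1) ⟶ PrinPart.grMod f' 1}
    (hφ : PrinPart.IsGrMap f' f v u 1 φ) : IsIso φ := by
  apply isIso_grMap_section g f hf u v g' hsq f' hf' hf'v hφ
  intro UY U hUY hU e
  have h := flat_quot_ker_ideal g f hf hUY hU e
  have h1 : (f.ker ^ 1).ideal ⟨U, hU⟩ = f.ker.ideal ⟨U, hU⟩ := by rw [pow_one]
  rw [h1]
  exact h

end Sect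

end Groth.Agent.H3.PP
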