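import Mathlib
import Groth.Prelude.Def_OmegaPn
import Groth.Agent.Lib.Helper3.PP23

set_option autoImplicit false
universe u
open AlgebraicGeometry CategoryTheory TopologicalSpace Opposite CategoryTheory.Limits TensorProduct
open Groth.Agent.LD.QC Groth.Agent.H3.Om

namespace Groth.Agent.H3.PP

section SectFlat

variable {X Y X' Y' : Scheme.{u}} (g : X ⟶ Y) (f : Y ⟶ X) (hf : f ≫ g = 𝟙 Y)

include hf in
/-- `A'/I^n` is flat over the base ring when the graded pieces are flat. -/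
theorem flat_quot_ker_pow_ideal [IsClosedImmersion f] (m : ℕ)
    (hflat : ∀ k ≤ m, FlatMod.IsFlat (PrinPart.grMod f k))
    {UY : Y.Opens} {U : X.Opens}
    (hUY : IsAffineOpen UY) (hU : IsAffineOpen U) (e : U ≤ g ⁻¹ᵁ UY) (n : ℕ) (h1 : 1 ≤ n)
    (hn : n ≤ m + 1) :
    letI := (g.appLE UY U e).hom.toAlgebra
    Module.Flat Γ(Y, UY) (Γ(X, U) ⧸ (f.ker ^ n).ideal ⟨U, hU⟩) := by
  letI iRA := (g.appLE UY U e).hom.toAlgebra
  induction n, h1 using Nat.le_induction with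
  | base =>
    have h := flat_quot_ker_ideal g f hf hUY hU e
    have h1 : (f.ker ^ 1).ideal ⟨U, hU⟩ = f.ker.ideal ⟨U, hU⟩ := by rw [pow_one]
    rw [h1]
    exact h
  | succ n h1 ih =>
    have hnm : n ≤ m := Nat.le_of_succ_le_succ hn
    haveI := ih (hnm.trans (Nat.le_succ m))
    letI iAB := (f.appLE U (f ⁻¹ᵁ U) le_rfl).hom.toAlgebra
    letI iRB := (g.appLE UY U e ≫ f.appLE U (f ⁻¹ᵁ U) le_rfl).hom.toAlgebra
    haveI : IsScalarTower Γ(Y, UY) Γ(X, U) Γ(Y, f ⁻¹ᵁ U) := IsScalarTower.of_algebraMap_eq' rfl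
    have hV : IsAffineOpen (f ⁻¹ᵁ U) := hU.preimage f
    have e' : f ⁻¹ᵁ U ≤ (𝟙 Y) ⁻¹ᵁ UY := by
      intro y hy
      have h1 : (f ≫ g) y ∈ UY := e hy
      rw [hf] at h1
      exact h1
    have heq : g.appLE UY U e ≫ f.appLE U (f ⁻¹ᵁ U) le_rfl =
        Scheme.Hom.appLE (𝟙 Y) UY (f ⁻¹ᵁ U) e' := by
      rw [Scheme.Hom.appLE_comp_appLE]
      exact appLE_congr_of_eq hf _ _ _ _
    haveI : Module.Flat Γ(Y, UY) Γ(Y, f ⁻¹ᵁ U) := by
      have h1 := HasRingHomProperty.appLE (P := @Flat) (𝟙 Y) inferInstance ⟨UY, hUY⟩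
        ⟨f ⁻¹ᵁ U, hV⟩ e'
      rw [← heq] at h1
      exact h1
    have hsurj : Function.Surjective (algebraMap Γ(X, U) Γ(Y, f ⁻¹ᵁ U)) := by
      change Function.Surjective (f.appLE U (f ⁻¹ᵁ U) le_rfl).hom
      rw [Scheme.Hom.appLE_eq_app]
      exact Scheme.Hom.app_surjective f U hU
    have hI : RingHom.ker (algebraMap Γ(X, U) Γ(Y, f ⁻¹ᵁ U)) = f.ker.ideal ⟨U, hU⟩ := by
      change RingHom.ker (f.appLE U (f ⁻¹ᵁ U) le_rfl).hom = _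
      rw [Scheme.Hom.appLE_eq_app, Scheme.Hom.ker_apply]
    have hJ' : (f.ker ^ (n + 1)).ideal ⟨U, hU⟩ =
        f.ker.ideal ⟨U, hU⟩ * (f.ker ^ n).ideal ⟨U, hU⟩ := by
      rw [Scheme.IdealSheafData.ideal_pow, Scheme.IdealSheafData.ideal_pow, Pi.pow_apply,
        Pi.pow_apply, pow_succ']
    obtain ⟨Ξ, -⟩ := idealPull_chart (f.ker ^ n) f hU hV
    haveI : Module.Flat Γ(Y, f ⁻¹ᵁ U) Γ((Scheme.Modules.pullback f).obj
        (ClSub.idealMod (f.ker ^ n)), f ⁻¹ᵁ U) :=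
      (isFlat_iff_flat_sections (PrinPart.grMod f n)).1 (hflat n hnm) (f ⁻¹ᵁ U) hV
    haveI : Module.Flat Γ(Y, f ⁻¹ᵁ U) (Γ(Y, f ⁻¹ᵁ U) ⊗[Γ(X, U)] (f.ker ^ n).ideal ⟨U, hU⟩) :=
      Module.Flat.of_linearEquiv Ξ
    haveI : Module.Flat Γ(Y, UY) (Γ(Y, f ⁻¹ᵁ U) ⊗[Γ(X, U)] (f.ker ^ n).ideal ⟨U, hU⟩) :=
      Module.Flat.trans Γ(Y, UY) Γ(Y, f ⁻¹ᵁ U) _
    exact flat_quot_mul Γ(Y, UY) Γ(X, U) Γ(Y, f ⁻¹ᵁ U) hsurj _ _ _ hI hJ'

variable (u : Y' ⟶ Y) (v : X' ⟶ X) (g' : X' ⟶ Y') (hsq : IsPullback v g' g u) (f' : Y' ⟶ X')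
  (hf' : f' ≫ g' = 𝟙 Y') (hf'v : f' ≫ v = u ≫ f)

include hf hsq hf' hf'v in
/-- **S5964**: graded pieces of a section commute with base change when they are flat. -/
theorem isIso_grMap_section_of_flat_gr [IsClosedImmersion f] (m : ℕ)
    (hflat : ∀ k ≤ m, FlatMod.IsFlat (PrinPart.grMod f k)) {n : ℕ} (hn : n ≤ m)
    {φ : (Scheme.Modules.pullback u).obj (PrinPart.grMod f n) ⟶ PrinPart.grMod f' n}
    (hφ : PrinPart.IsGrMap f' f v u n φ) : IsIso φ := by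
  apply isIso_grMap_section g f hf u v g' hsq f' hf' hf'v hφ
  intro UY U hUY hU e
  rcases Nat.eq_zero_or_pos n with h0 | h0
  · subst h0
    letI iRA := (g.appLE UY U e).hom.toAlgebra
    have h1 : (f.ker ^ 0).ideal ⟨U, hU⟩ = ⊤ := by
      rw [Scheme.IdealSheafData.ideal_pow, Pi.pow_apply, pow_zero, Ideal.one_eq_top]
    rw [h1]
    haveI : Subsingleton (Γ(X, U) ⧸ (⊤ : Ideal Γ(X, U))) := Ideal.Quotient.subsingleton_iff.2 rfl
    infer_instance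
  · exact flat_quot_ker_pow_ideal g f hf m hflat hUY hU e n h0 (hn.trans (Nat.le_succ m))

end SectFlat

end Groth.Agent.H3.PP
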