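import Mathlib
import Groth.Prelude.Def_OmegaPn
import Groth.Agent.Lib.Helper3.PP7
import Groth.Agent.Lib.Lead.QC.SubSh
import Groth.Agent.Lib.Lead.QC.BiprodSec

set_option autoImplicit false
universe u
open AlgebraicGeometry CategoryTheory TopologicalSpace Opposite CategoryTheory.Limits TensorProduct
open Groth.Agent.LD.QC

namespace Groth.Agent.H3.PP

section Gen

variable {N X : Scheme.{u}} (p : N ⟶ X) (F : X.Modules)

/-- **the pullback `p^*F` is generated by the pulled back sections**: a subsheaf of modules of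
`p^*F` containing all `pullSect`'s is everything. -/
theorem subSh_eq_top_of_pullSect (T : SubSh ((Scheme.Modules.pullback p).obj F))
    (h : ∀ (U : X.Opens) (t : Γ(F, U)), OmegaSh.pullSect p F U t ∈ T.N (p ⁻¹ᵁ U))
    (W : N.Opens) (s : Γ((Scheme.Modules.pullback p).obj F, W)) : s ∈ T.N W := by
  have hπ0 : cokernel.π T.ι = 0 := by
    apply ((Scheme.Modules.pullbackPushforwardAdjunction p).homEquiv F _).injective
    rw [Adjunction.homEquiv_unit, Adjunction.homEquiv_unit]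
    apply Scheme.Modules.hom_ext
    intro U
    ext t
    change (cokernel.π T.ι).app (p ⁻¹ᵁ U) (OmegaSh.pullSect p F U t) =
      (0 : (Scheme.Modules.pullback p).obj F ⟶ cokernel T.ι).app (p ⁻¹ᵁ U)
        (OmegaSh.pullSect p F U t)
    obtain ⟨t', ht'⟩ := (T.mem_iff _ _).1 (h U t)
    rw [← ht']
    exact congr($(cokernel.condition T.ι).app (p ⁻¹ᵁ U) t')
  haveI : Epi T.ι := Preadditive.epi_of_cokernel_zero hπ0
  haveI : IsIso T.ι := isIso_of_mono_of_epi _
  rw [T.mem_iff]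
  refine ⟨(inv T.ι).app W s, ?_⟩
  rw [← comp_app', IsIso.inv_hom_id, id_app']

end Gen

section Main

variable {X S : Scheme.{u}} (f : X ⟶ S) (n : ℕ) (F : X.Modules)

/-- a section of `p_2^*F` over `p_1⁻¹U`, viewed as a section of `P^n(F)` over `U`. -/
def toP (U : X.Opens)
    (s : Γ((Scheme.Modules.pullback (PrinPart.pr2 f n)).obj F, PrinPart.pr1 f n ⁻¹ᵁ U)) :
    Γ(PrinPart.PMod f n F, U) := s

/-- a section of `P^n(F)` over `U`, viewed as a section of `p_2^*F` over `p_1⁻¹U`. -/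
def ofP (U : X.Opens) (s : Γ(PrinPart.PMod f n F, U)) :
    Γ((Scheme.Modules.pullback (PrinPart.pr2 f n)).obj F, PrinPart.pr1 f n ⁻¹ᵁ U) := s

theorem toP_ofP (U : X.Opens) (s : Γ(PrinPart.PMod f n F, U)) :
    toP f n F U (ofP f n F U s) = s := rfl

theorem toP_smul (U : X.Opens) (c : Γ(X, U))
    (s : Γ((Scheme.Modules.pullback (PrinPart.pr2 f n)).obj F, PrinPart.pr1 f n ⁻¹ᵁ U)) :
    toP f n F U ((PrinPart.pr1 f n).app U c • s) = c • toP f n F U s := rfl

theorem toP_add (U : X.Opens)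
    (s s' : Γ((Scheme.Modules.pullback (PrinPart.pr2 f n)).obj F, PrinPart.pr1 f n ⁻¹ᵁ U)) :
    toP f n F U (s + s') = toP f n F U s + toP f n F U s' := rfl

theorem toP_zero (U : X.Opens) : toP f n F U 0 = 0 := rfl

theorem res_toP {U U' : X.Opens} (e : U' ≤ U)
    (s : Γ((Scheme.Modules.pullback (PrinPart.pr2 f n)).obj F, PrinPart.pr1 f n ⁻¹ᵁ U)) :
    (PrinPart.PMod f n F).presheaf.map (homOfLE e).op (toP f n F U s) =
      toP f n F U' (((Scheme.Modules.pullback (PrinPart.pr2 f n)).obj F).presheaf.map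
        (homOfLE ((PrinPart.pr1 f n).preimage_mono e)).op s) := rfl

/-- `d^n(b t) = p_2♯(b) · d^n t`. -/
theorem dP_smul (U : X.Opens) (b : Γ(X, U)) (t : Γ(F, U)) :
    PrinPart.dP f n F U (b • t) =
      toP f n F U ((PrinPart.pr2 f n).appLE U (PrinPart.pr1 f n ⁻¹ᵁ U)
        (PrinPart.preimage_pr1 f n U).le b •
        ofP f n F U (PrinPart.dP f n F U t)) := by
  rw [PrinPart.dP_apply, PrinPart.dP_apply, OmegaSh.pullSect_smul, Scheme.Modules.map_smul]
  rfl

variable {G : X.Modules} (a b : PrinPart.PMod f n F ⟶ G)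
  (h : ∀ (U : X.Opens) (t : Γ(F, U)),
    a.app U (PrinPart.dP f n F U t) = b.app U (PrinPart.dP f n F U t))

include h in
/-- chart form of the key lemma. -/
theorem agree_smul_dP_chart {U : X.Opens} {V : S.Opens} (hU : IsAffineOpen U)
    (hV : IsAffineOpen V) (e : U ≤ f ⁻¹ᵁ V) (t : Γ(F, U))
    (r : Γ(PrinPart.nbhd f n, PrinPart.pr1 f n ⁻¹ᵁ U)) :
    a.app U (toP f n F U (r • ofP f n F U (PrinPart.dP f n F U t))) =
    b.app U (toP f n F U (r • ofP f n F U (PrinPart.dP f n F U t))) := by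
  obtain ⟨s, rfl⟩ := (kappa_bijective f n U).2 r
  have hs : s ∈ Submodule.span Γ(X, U) (Set.range (PrinPart.dn f n U)) := by
    rw [span_range_dn f hU hV e n]; exact Submodule.mem_top
  induction hs using Submodule.span_induction with
  | mem x hx =>
    obtain ⟨b', rfl⟩ := hx
    rw [kappa_dn, ← dP_smul, h]
  | zero =>
    rw [map_zero, zero_smul, toP_zero, map_zero, map_zero]
  | add x y _ _ hx hy =>
    rw [map_add, add_smul, toP_add, map_add, map_add, hx, hy]
  | smul c x _ hx =>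
    rw [kappa_smul, mul_smul, toP_smul, Scheme.Modules.Hom.app_smul,
      Scheme.Modules.Hom.app_smul, hx]

include h in
/-- the key lemma over an arbitrary open. -/
theorem agree_smul_dP (U : X.Opens) (t : Γ(F, U))
    (r : Γ(PrinPart.nbhd f n, PrinPart.pr1 f n ⁻¹ᵁ U)) :
    a.app U (toP f n F U (r • ofP f n F U (PrinPart.dP f n F U t))) =
    b.app U (toP f n F U (r • ofP f n F U (PrinPart.dP f n F U t))) := by
  have hc : ∀ x : U, ∃ (U' : X.Opens) (V : S.Opens), IsAffineOpen U' ∧ IsAffineOpen V ∧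
      x.1 ∈ U' ∧ U' ≤ U ∧ U' ≤ f ⁻¹ᵁ V := by
    intro x
    obtain ⟨V, hV, hxV, -⟩ := exists_isAffineOpen_mem_and_subset (x := f x.1) (U := ⊤) trivial
    obtain ⟨U', hU', hxU', hle⟩ := exists_isAffineOpen_mem_and_subset (x := x.1)
      (U := U ⊓ f ⁻¹ᵁ V) ⟨x.2, hxV⟩
    exact ⟨U', V, hU', hV, hxU', hle.trans inf_le_left, hle.trans inf_le_right⟩
  choose U' V hU' hV hxU' hU'U hU'V using hc
  apply section_ext_of_cover G U' hU'U
    (fun x hx => Opens.mem_iSup.2 ⟨⟨x, hx⟩, hxU' ⟨x, hx⟩⟩)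
  intro x
  rw [← app_res, ← app_res, res_toP]
  have h1 : ((Scheme.Modules.pullback (PrinPart.pr2 f n)).obj F).presheaf.map
      (homOfLE ((PrinPart.pr1 f n).preimage_mono (hU'U x))).op
      (r • ofP f n F U (PrinPart.dP f n F U t)) =
      (PrinPart.nbhd f n).presheaf.map
        (homOfLE ((PrinPart.pr1 f n).preimage_mono (hU'U x))).op r •
        ofP f n F (U' x) (PrinPart.dP f n F (U' x) (F.presheaf.map (homOfLE (hU'U x)).op t)) := by
    rw [Scheme.Modules.map_smul, PrinPart.dP_map]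
    rfl
  rw [h1]
  exact agree_smul_dP_chart f n F a b h (hU' x) (hV x) (hU'V x) _ _

/-- `a` and `b` agree on all rescalings of all restrictions of `s`. -/
def Agree (W : (PrinPart.nbhd f n).Opens)
    (s : Γ((Scheme.Modules.pullback (PrinPart.pr2 f n)).obj F, W)) : Prop :=
  ∀ (U : X.Opens) (hW : PrinPart.pr1 f n ⁻¹ᵁ U ≤ W)
    (r : Γ(PrinPart.nbhd f n, PrinPart.pr1 f n ⁻¹ᵁ U)),
    a.app U (toP f n F U (r • ((Scheme.Modules.pullback (PrinPart.pr2 f n)).obj F).presheaf.map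
      (homOfLE hW).op s)) =
    b.app U (toP f n F U (r • ((Scheme.Modules.pullback (PrinPart.pr2 f n)).obj F).presheaf.map
      (homOfLE hW).op s))

theorem agree_zero (W : (PrinPart.nbhd f n).Opens) : Agree f n F a b W 0 := by
  intro U hW r
  rw [map_zero, smul_zero, toP_zero, map_zero, map_zero]

theorem agree_add (W : (PrinPart.nbhd f n).Opens)
    {s s' : Γ((Scheme.Modules.pullback (PrinPart.pr2 f n)).obj F, W)}
    (hs : Agree f n F a b W s) (hs' : Agree f n F a b W s') : Agree f n F a b W (s + s') := by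
  intro U hW r
  rw [map_add, smul_add, toP_add, map_add, map_add, hs U hW r, hs' U hW r]

theorem agree_smul (W : (PrinPart.nbhd f n).Opens) (c : Γ(PrinPart.nbhd f n, W))
    {s : Γ((Scheme.Modules.pullback (PrinPart.pr2 f n)).obj F, W)}
    (hs : Agree f n F a b W s) : Agree f n F a b W (c • s) := by
  intro U hW r
  rw [Scheme.Modules.map_smul, ← mul_smul]
  exact hs U hW _

theorem agree_res {W W' : (PrinPart.nbhd f n).Opens} (hWW : W' ≤ W)
    {s : Γ((Scheme.Modules.pullback (PrinPart.pr2 f n)).obj F, W)}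
    (hs : Agree f n F a b W s) :
    Agree f n F a b W' (((Scheme.Modules.pullback (PrinPart.pr2 f n)).obj F).presheaf.map
      (homOfLE hWW).op s) := by
  intro U hW r
  rw [OmegaSh.resM_resM]
  exact hs U (hW.trans hWW) r

theorem agree_loc (W : (PrinPart.nbhd f n).Opens)
    (s : Γ((Scheme.Modules.pullback (PrinPart.pr2 f n)).obj F, W))
    (hloc : ∀ y ∈ W, ∃ (W' : (PrinPart.nbhd f n).Opens) (hW' : W' ≤ W), y ∈ W' ∧
      Agree f n F a b W' (((Scheme.Modules.pullback (PrinPart.pr2 f n)).obj F).presheaf.map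
        (homOfLE hW').op s)) : Agree f n F a b W s := by
  intro U hW r
  have hc : ∀ x : U, ∃ (W' : (PrinPart.nbhd f n).Opens) (hW' : W' ≤ W),
      PrinPart.toNbhd f n x.1 ∈ W' ∧
      Agree f n F a b W' (((Scheme.Modules.pullback (PrinPart.pr2 f n)).obj F).presheaf.map
        (homOfLE hW').op s) := by
    intro x
    have hy : PrinPart.toNbhd f n x.1 ∈ PrinPart.pr1 f n ⁻¹ᵁ U := by
      change PrinPart.pr1 f n (PrinPart.toNbhd f n x.1) ∈ U
      rw [← Scheme.Hom.comp_apply, PrinPart.toNbhd_pr1]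
      exact x.2
    exact hloc _ (hW hy)
  choose W' hW' hyW' hs' using hc
  apply section_ext_of_cover G (fun x : U => U ⊓ PrinPart.toNbhd f n ⁻¹ᵁ W' x)
    (fun x => inf_le_left) (fun x hx => Opens.mem_iSup.2 ⟨⟨x, hx⟩, ⟨hx, hyW' ⟨x, hx⟩⟩⟩)
  intro x
  have hle : PrinPart.pr1 f n ⁻¹ᵁ (U ⊓ PrinPart.toNbhd f n ⁻¹ᵁ W' x) ≤ W' x := by
    intro z hz
    have h1 : PrinPart.toNbhd f n (PrinPart.pr1 f n z) ∈ W' x := hz.2
    have h2 : PrinPart.toNbhd f n (PrinPart.pr1 f n z) = z := (pr1Homeo f n).left_inv z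
    rwa [h2] at h1
  have h3 := hs' x (U ⊓ PrinPart.toNbhd f n ⁻¹ᵁ W' x) hle
    ((PrinPart.nbhd f n).presheaf.map (homOfLE ((PrinPart.pr1 f n).preimage_mono
      (inf_le_left : U ⊓ PrinPart.toNbhd f n ⁻¹ᵁ W' x ≤ U))).op r)
  rw [OmegaSh.resM_resM] at h3
  rw [← app_res, ← app_res, res_toP, Scheme.Modules.map_smul, OmegaSh.resM_resM]
  exact h3

/-- the subsheaf of `p_2^*F` where `a` and `b` agree. -/
noncomputable def agreeSub : SubSh ((Scheme.Modules.pullback (PrinPart.pr2 f n)).obj F) where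
  N W :=
    { carrier := {s | Agree f n F a b W s}
      add_mem' := fun hs hs' => agree_add f n F a b W hs hs'
      zero_mem' := agree_zero f n F a b W
      smul_mem' := fun c _ hs => agree_smul f n F a b W c hs }
  res := fun hWW _ hs => agree_res f n F a b hWW hs
  loc := fun W s hloc => agree_loc f n F a b W s hloc

include h in
theorem pullSect_mem_agreeSub (U₀ : X.Opens) (t : Γ(F, U₀)) :
    OmegaSh.pullSect (PrinPart.pr2 f n) F U₀ t ∈
      (agreeSub f n F a b).N (PrinPart.pr2 f n ⁻¹ᵁ U₀) := by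
  intro U hW r
  have hUU : U ≤ U₀ := by
    intro x hx
    have hy : PrinPart.toNbhd f n x ∈ PrinPart.pr1 f n ⁻¹ᵁ U := by
      change PrinPart.pr1 f n (PrinPart.toNbhd f n x) ∈ U
      rw [← Scheme.Hom.comp_apply, PrinPart.toNbhd_pr1]
      exact hx
    have h2 : PrinPart.pr2 f n (PrinPart.toNbhd f n x) ∈ U₀ := hW hy
    rw [← Scheme.Hom.comp_apply, PrinPart.toNbhd_pr2] at h2
    exact h2
  have h1 : ((Scheme.Modules.pullback (PrinPart.pr2 f n)).obj F).presheaf.map (homOfLE hW).op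
      (OmegaSh.pullSect (PrinPart.pr2 f n) F U₀ t) =
      ofP f n F U (PrinPart.dP f n F U (F.presheaf.map (homOfLE hUU).op t)) := by
    rw [PrinPart.dP_apply, OmegaSh.pullSect_map, OmegaSh.resM_resM]
    rfl
  rw [h1]
  exact agree_smul_dP f n F a b h U _ r

include h in
/-- **S5958**: `P^n(F)` is generated by the image of `d^n`. -/
theorem hom_ext_of_dP : a = b := by
  apply Scheme.Modules.hom_ext
  intro U
  ext s
  have hs := subSh_eq_top_of_pullSect (PrinPart.pr2 f n) F (agreeSub f n F a b)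
    (pullSect_mem_agreeSub f n F a b h) (PrinPart.pr1 f n ⁻¹ᵁ U) (ofP f n F U s)
  have h2 := hs U le_rfl 1
  rw [one_smul] at h2
  have h3 : ((Scheme.Modules.pullback (PrinPart.pr2 f n)).obj F).presheaf.map
      (homOfLE (le_refl (PrinPart.pr1 f n ⁻¹ᵁ U))).op (ofP f n F U s) = ofP f n F U s := by
    have : (homOfLE (le_refl (PrinPart.pr1 f n ⁻¹ᵁ U))).op = 𝟙 (op (PrinPart.pr1 f n ⁻¹ᵁ U)) := rfl
    rw [this, CategoryTheory.Functor.map_id]
    rfl
  rw [h3] at h2
  exact h2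

end Main

end Groth.Agent.H3.PP
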