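import Mathlib
import Groth.Agent.Lib.Lead.MS.PushLeftAdj
import Groth.Agent.Lib.Helper3.PP1

set_option autoImplicit false
universe u
open CategoryTheory CategoryTheory.Limits AlgebraicGeometry TopologicalSpace Opposite

namespace Groth.Agent.H3.PP

/-- the inverse image functor on opens along a homeomorphism is cocontinuous. -/
theorem isCocontinuous_map_of_isHomeomorph {X Y : TopCat.{u}} (g : X ⟶ Y) (hg : IsHomeomorph g) :
    (Opens.map g).IsCocontinuous (Opens.grothendieckTopology Y) (Opens.grothendieckTopology X) := by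
  constructor
  intro U S hS
  intro y hy
  obtain ⟨x, rfl⟩ := hg.surjective y
  obtain ⟨V, i, hi, hxV⟩ := hS x hy
  refine ⟨⟨g '' (V : Set X), hg.isOpenMap _ V.2⟩, homOfLE ?_, ?_, ⟨x, hxV, rfl⟩⟩
  · rintro _ ⟨z, hz, rfl⟩
    exact leOfHom i hz
  · change S.arrows _
    have hVeq : (Opens.map g).obj ⟨g '' (V : Set X), hg.isOpenMap _ V.2⟩ = V := by
      ext z
      constructor
      · rintro ⟨w, hw, hwz⟩
        rw [← hg.injective hwz]; exact hw
      · intro hz
        exact ⟨z, hz, rfl⟩
    have := S.downward_closed hi (eqToHom hVeq)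
    convert this using 1
    exact Subsingleton.elim _ _

theorem pushforward_preservesColimits_of_isHomeomorph {X Y : Scheme.{u}} (g : X ⟶ Y)
    (hg : IsHomeomorph g.base) :
    PreservesColimitsOfSize.{u, u} (Scheme.Modules.pushforward g) := by
  haveI := isCocontinuous_map_of_isHomeomorph g.base hg
  exact Groth.Agent.LD.MS.pushforward_preservesColimits _ _ (Opens.map g.base) g.toRingCatSheafHom

theorem preservesColimits_PMod {X S : Scheme.{u}} (f : X ⟶ S) (n : ℕ) :
    PreservesColimitsOfSize.{u, u}
      ((Scheme.Modules.pullback (PrinPart.pr2 f n)) ⋙ (Scheme.Modules.pushforward (PrinPart.pr1 f n))) := by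
  haveI : PreservesColimitsOfSize.{u, u} (Scheme.Modules.pullback (PrinPart.pr2 f n)) :=
    (Scheme.Modules.pullbackPushforwardAdjunction (PrinPart.pr2 f n)).leftAdjoint_preservesColimits
  haveI := pushforward_preservesColimits_of_isHomeomorph (PrinPart.pr1 f n)
    (pr1Homeo f n).isHomeomorph
  infer_instance

end Groth.Agent.H3.PP
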