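import Mathlib
import Groth.Prelude.Def_OmegaPn
import Groth.Agent.Lib.Helper3.PP1

set_option autoImplicit false
universe u
open AlgebraicGeometry CategoryTheory TopologicalSpace Opposite CategoryTheory.Limits

namespace Groth.Agent.H3.PP

section IsoUnit

variable {N X : Scheme.{u}} (p : N ⟶ X) [IsIso p]

/-- pushforward along an isomorphism is an equivalence. -/
noncomputable def pushforwardEquivalence : N.Modules ≌ X.Modules :=
  CategoryTheory.Equivalence.mk (Scheme.Modules.pushforward p) (Scheme.Modules.pushforward (inv p))
    ((Scheme.Modules.pushforwardId N).symm ≪≫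
      (Scheme.Modules.pushforwardCongr (IsIso.hom_inv_id p)).symm ≪≫
      (Scheme.Modules.pushforwardComp p (inv p)).symm)
    ((Scheme.Modules.pushforwardComp (inv p) p) ≪≫
      Scheme.Modules.pushforwardCongr (IsIso.inv_hom_id p) ≪≫ Scheme.Modules.pushforwardId X)

instance : (Scheme.Modules.pushforward p).IsEquivalence :=
  (pushforwardEquivalence p).isEquivalence_functor

instance : (Scheme.Modules.pullback p).IsEquivalence :=
  (Scheme.Modules.pullbackPushforwardAdjunction p).isEquivalence_left_of_isEquivalence_right

instance isIso_unit_of_isIso : IsIso (Scheme.Modules.pullbackPushforwardAdjunction p).unit :=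
  inferInstance

theorem pullSect_bijective_of_isIso (F : X.Modules) (U : X.Opens) :
    Function.Bijective (OmegaSh.pullSect p F U) := by
  have h1 : IsIso ((Scheme.Modules.pullbackPushforwardAdjunction p).unit.app F) := inferInstance
  have h2 : IsIso (((Scheme.Modules.pullbackPushforwardAdjunction p).unit.app F).app U) :=
    inferInstance
  exact ConcreteCategory.bijective_of_isIso
    (((Scheme.Modules.pullbackPushforwardAdjunction p).unit.app F).app U)

end IsoUnit

variable {X S : Scheme.{u}} (f : X ⟶ S)

instance isIso_toNbhd_zero : IsIso (PrinPart.toNbhd f 0) := by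
  have h : (PrinPart.diagCl f).ker ^ (0 + 1) = (PrinPart.diagCl f).ker := pow_one _
  have : IsIso (Scheme.IdealSheafData.inclusion (PrinPart.ker_pow_succ_le (PrinPart.diagCl f) 0)) := by
    have key : ∀ (I J : (((pullback.diagonal f).coborderRange : Scheme.{u})).IdealSheafData)
        (hIJ : I = J) (hle : I ≤ J), IsIso (Scheme.IdealSheafData.inclusion hle) := by
      rintro I _ rfl hle
      have : Scheme.IdealSheafData.inclusion hle = 𝟙 _ := by
        rw [← cancel_mono I.subschemeι, Scheme.IdealSheafData.inclusion_subschemeι, Category.id_comp]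
      rw [this]; infer_instance
    exact key _ _ h _
  unfold PrinPart.toNbhd PrinPart.toInfNbhd
  infer_instance

theorem pr1_zero_eq_pr2 : PrinPart.pr1 f 0 = PrinPart.pr2 f 0 := by
  rw [← cancel_epi (PrinPart.toNbhd f 0), PrinPart.toNbhd_pr1, PrinPart.toNbhd_pr2]

instance isIso_pr2_zero : IsIso (PrinPart.pr2 f 0) := by
  have h : PrinPart.pr2 f 0 = inv (PrinPart.toNbhd f 0) := by
    rw [← cancel_epi (PrinPart.toNbhd f 0), PrinPart.toNbhd_pr2, IsIso.hom_inv_id]
  rw [h]; infer_instance

/-- **`d^0` is bijective.** -/
theorem dP_zero_bijective (F : X.Modules) (U : X.Opens) :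
    Function.Bijective (PrinPart.dP f 0 F U) := by
  have h1 := pullSect_bijective_of_isIso (PrinPart.pr2 f 0) F U
  have h2 : Function.Bijective (((Scheme.Modules.pullback (PrinPart.pr2 f 0)).obj F).presheaf.map
      (homOfLE (PrinPart.preimage_pr1 f 0 U).le).op) := by
    have : IsIso (((Scheme.Modules.pullback (PrinPart.pr2 f 0)).obj F).presheaf.map
        (homOfLE (PrinPart.preimage_pr1 f 0 U).le).op) := by
      have hiso : IsIso (homOfLE (PrinPart.preimage_pr1 f 0 U).le) :=
        ⟨homOfLE (PrinPart.preimage_pr1 f 0 U).ge, rfl, rfl⟩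
      infer_instance
    exact ConcreteCategory.bijective_of_isIso _
  exact h2.comp h1

end Groth.Agent.H3.PP
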