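import Mathlib
import Groth.Prelude.Def_OmegaPn
import Groth.Agent.Lib.Helper3.PP8

set_option autoImplicit false
universe u
open AlgebraicGeometry CategoryTheory TopologicalSpace Opposite CategoryTheory.Limits

namespace Groth.Agent.H3.PP

variable {X S : Scheme.{u}} (f : X ⟶ S)

theorem app_eq_of_eq {N : Scheme.{u}} {p q : N ⟶ X} (hpq : p = q) (U : X.Opens) (a : Γ(X, U))
    (h : p ⁻¹ᵁ U ≤ q ⁻¹ᵁ U) :
    N.presheaf.map (homOfLE h).op (q.app U a) = p.app U a := by
  subst hpq
  exact congr($(N.presheaf.map_id _) (p.app U a))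

theorem dP_zero_smul (F : X.Modules) (U : X.Opens) (a : Γ(X, U)) (t : Γ(F, U)) :
    PrinPart.dP f 0 F U (a • t) = a • PrinPart.dP f 0 F U t := by
  rw [PrinPart.dP_apply, PrinPart.dP_apply, OmegaSh.pullSect_smul, Scheme.Modules.map_smul,
    app_eq_of_eq (pr1_zero_eq_pr2 f) U a]
  rfl

/-- `d^0` as an isomorphism of `O_X`-modules `F ≅ P^0_{X/S}(F)`. -/
noncomputable def dZeroHom (F : X.Modules) : F ⟶ PrinPart.PMod f 0 F :=
  (Scheme.Modules.pullbackPushforwardAdjunction (PrinPart.pr2 f 0)).unit.app F ≫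
    (Scheme.Modules.pushforwardCongr (pr1_zero_eq_pr2 f)).inv.app
      ((Scheme.Modules.pullback (PrinPart.pr2 f 0)).obj F)

theorem dZeroHom_app (F : X.Modules) (U : X.Opens) (t : Γ(F, U)) :
    (dZeroHom f F).app U t = PrinPart.dP f 0 F U t := rfl

instance (F : X.Modules) : IsIso (dZeroHom f F) := by
  have h0 : IsIso (Scheme.Modules.pullbackPushforwardAdjunction (PrinPart.pr2 f 0)).unit :=
    isIso_unit_of_isIso (PrinPart.pr2 f 0)
  have h1 : IsIso ((Scheme.Modules.pullbackPushforwardAdjunction (PrinPart.pr2 f 0)).unit.app F) :=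
    inferInstance
  have h2 : IsIso ((Scheme.Modules.pushforwardCongr (pr1_zero_eq_pr2 f)).inv.app
      ((Scheme.Modules.pullback (PrinPart.pr2 f 0)).obj F)) :=
    ⟨⟨(Scheme.Modules.pushforwardCongr (pr1_zero_eq_pr2 f)).hom.app _,
      Iso.inv_hom_id_app _ _, Iso.hom_inv_id_app _ _⟩⟩
  unfold dZeroHom
  exact @IsIso.comp_isIso _ _ _ _ _ _ _ h1 h2

/-- a morphism of presheaves of abelian groups that is `O_X`-linear is a morphism of modules. -/
noncomputable def homOfLinear {F G : X.Modules} (D : F.presheaf ⟶ G.presheaf)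
    (hD : ∀ (U : X.Opens) (a : Γ(X, U)) (t : Γ(F, U)),
      D.app (op U) (a • t) = a • D.app (op U) t) : F ⟶ G :=
  ⟨PresheafOfModules.homMk D (fun U a t => hD U.unop a t)⟩

theorem homOfLinear_app {F G : X.Modules} (D : F.presheaf ⟶ G.presheaf)
    (hD : ∀ (U : X.Opens) (a : Γ(X, U)) (t : Γ(F, U)),
      D.app (op U) (a • t) = a • D.app (op U) t) (U : X.Opens) (t : Γ(F, U)) :
    (homOfLinear D hD).app U t = D.app (op U) t := rfl

/-- **a differential operator of order `≤ 0` is the same as an `O_X`-linear map.** -/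
theorem isDiffOpLE_zero_iff (F G : X.Modules) (D : F.presheaf ⟶ G.presheaf) :
    PrinPart.IsDiffOpLE f F G 0 D ↔
      ∀ (U : X.Opens) (a : Γ(X, U)) (t : Γ(F, U)), D.app (op U) (a • t) = a • D.app (op U) t := by
  constructor
  · rintro ⟨u, hu⟩ U a t
    rw [hu, hu, dP_zero_smul, Scheme.Modules.Hom.app_smul]
  · intro hD
    refine ⟨inv (dZeroHom f F) ≫ homOfLinear D hD, fun U t => ?_⟩
    rw [← dZeroHom_app, ← homOfLinear_app D hD]
    change _ = (dZeroHom f F ≫ inv (dZeroHom f F) ≫ homOfLinear D hD).app U t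
    rw [IsIso.hom_inv_id_assoc]

end Groth.Agent.H3.PP
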