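import Mathlib
import Groth.Agent.Lib.Helper2.PdTor
import Groth.Agent.Lib.Helper2.TorOne
import Groth.Agent.Lib.Helper2.TorBalLin

/-! Projective dimension over a Noetherian local ring is detected by `Tor(k, -)`. -/

set_option autoImplicit false
universe u
open CategoryTheory

namespace Groth.Agent.H3.PdTorLoc

open Groth.Agent.H2.TorBal

variable (A : Type u) [CommRing A] [IsLocalRing A] [IsNoetherianRing A]

theorem hasPDLT_of_isZero_tor : ∀ (n : ℕ) (M : Type u) [AddCommGroup M] [Module A M]
    [Module.Finite A M],
    Limits.IsZero (((Tor (ModuleCat.{u} A) (n + 1)).obj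
          (ModuleCat.of A (IsLocalRing.ResidueField A))).obj (ModuleCat.of A M)) →
        HasProjectiveDimensionLT (ModuleCat.of A M) (n + 1) := by
  intro n
  induction n with
  | zero =>
    intro M _ _ _ h
    obtain ⟨r, π, hπ⟩ := Module.Finite.exists_fin' A M
    have hinj := Groth.Agent.H2.TorOne.lTensor_injective_of_isZero_tor_one
      (IsLocalRing.ResidueField A) M h (LinearMap.ker π).subtype π
      (Submodule.subtype_injective _) (LinearMap.exact_subtype_ker_map π) hπ
    have hfree : Module.Free A M :=
      Module.free_of_lTensor_residueField_injective (LinearMap.ker π).subtype π hπ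
        (LinearMap.exact_subtype_ker_map π) hinj
    rw [← projective_iff_hasProjectiveDimensionLT_one, ← IsProjective.iff_projective]
    infer_instance
  | succ n ih =>
    intro M _ _ _ h
    obtain ⟨r, π, hπ⟩ := Module.Finite.exists_fin' A M
    have hex := LinearMap.exact_subtype_ker_map π
    let T := scOfLinearMaps (LinearMap.ker π).subtype π hex
    have hT : T.ShortExact :=
      scOfLinearMaps_shortExact _ _ (Submodule.subtype_injective _) hex hπ
    have hP : Projective T.X₂ := by
      change Projective (ModuleCat.of A (Fin r → A))
      rw [← IsProjective.iff_projective]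
      infer_instance
    have hF : Module.Flat A T.X₂ := by
      change Module.Flat A (Fin r → A)
      infer_instance
    have h2 : Limits.IsZero (torObj (n + 1) (ModuleCat.of A (IsLocalRing.ResidueField A)) T.X₂) :=
      isZero_tor_succ_of_flat_right _ _ n
    have h1 := isZero_tor_X₁_right T hT (ModuleCat.of A (IsLocalRing.ResidueField A)) (n + 1) h h2
    have hK : HasProjectiveDimensionLT (ModuleCat.of A (LinearMap.ker π)) (n + 1) :=
      ih (LinearMap.ker π) h1
    exact (hT.hasProjectiveDimensionLT_X₃_iff n hP).2 hK

end Groth.Agent.H3.PdTorLoc
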