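import Mathlib

/-!
# Descent data for modules over `Φ(R)`, for a functor `Φ` on commutative rings: unwrapping
(Mathlib only)
-/

set_option autoImplicit false
set_option linter.unusedSectionVars false
open CategoryTheory Opposite TensorProduct
universe u

namespace Groth.Agent.H3.PhiDesc

section Eta

variable {A B C : CommRingCat.{u}}

/-- the element `1 ⊗ n` of the extension of scalars -/
noncomputable def etaC (N : ModuleCat.{u} A) (g : A ⟶ B) (n : N) :
    (ModuleCat.extendScalars g.hom).obj N :=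
  (ModuleCat.extendRestrictScalarsAdj g.hom).unit.app N n

theorem etaC_add (N : ModuleCat.{u} A) (g : A ⟶ B) (n n' : N) :
    etaC N g (n + n') = etaC N g n + etaC N g n' :=
  map_add ((ModuleCat.extendRestrictScalarsAdj g.hom).unit.app N).hom n n'

theorem etaC_zero (N : ModuleCat.{u} A) (g : A ⟶ B) : etaC N g 0 = 0 :=
  map_zero ((ModuleCat.extendRestrictScalarsAdj g.hom).unit.app N).hom

theorem etaC_smul (N : ModuleCat.{u} A) (g : A ⟶ B) (a : A) (n : N) :
    etaC N g (a • n) = (g.hom a : B) • etaC N g n :=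
  map_smul ((ModuleCat.extendRestrictScalarsAdj g.hom).unit.app N).hom a n

theorem hom_ext_etaC (N : ModuleCat.{u} A) (g : A ⟶ B) {X : ModuleCat.{u} B}
    {α β : (ModuleCat.extendScalars g.hom).obj N ⟶ X}
    (h : ∀ n : N, α (etaC N g n) = β (etaC N g n)) : α = β :=
  ModuleCat.ExtendScalars.hom_ext h

theorem map_etaC {M M' : ModuleCat.{u} A} (φ : M ⟶ M') (g : A ⟶ B) (m : M) :
    (ModuleCat.extendScalars g.hom).map φ (etaC M g m) = etaC M' g (φ m) :=
  ModuleCat.ExtendScalars.map_tmul g.hom φ (1 : B) m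

theorem extendScalarsComp_hom_etaC (N : ModuleCat.{u} A) (g : A ⟶ B) (k : B ⟶ C) (n : N) :
    (ModuleCat.extendScalarsComp g.hom k.hom).hom.app N (etaC N (g ≫ k) n) =
      etaC ((ModuleCat.extendScalars g.hom).obj N) k (etaC N g n) :=
  ModuleCat.extendScalarsComp_hom_app_one_tmul g.hom k.hom N n

theorem hom_ext_etaC2 (M : ModuleCat.{u} A) (f : A ⟶ B) (g : B ⟶ C) {Z : ModuleCat.{u} C}
    {α β : (ModuleCat.extendScalars g.hom).obj ((ModuleCat.extendScalars f.hom).obj M) ⟶ Z}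
    (h : ∀ m : M, α (etaC ((ModuleCat.extendScalars f.hom).obj M) g (etaC M f m)) =
      β (etaC ((ModuleCat.extendScalars f.hom).obj M) g (etaC M f m))) : α = β := by
  apply ((ModuleCat.extendRestrictScalarsAdj g.hom).homEquiv _ _).injective
  apply hom_ext_etaC
  intro m
  exact h m

/-- the component of the 2-morphism induced by an equality of ring maps -/
noncomputable def e2 (x y : LocallyDiscrete.mk A ⟶ LocallyDiscrete.mk B)
    (h : x = y) (M : ModuleCat.{u} A) :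
    (ModuleCat.extendScalars x.as.hom).obj M ⟶ (ModuleCat.extendScalars y.as.hom).obj M :=
  (CommRingCat.moduleCatExtendScalarsPseudofunctor.{u}.map₂ (eqToHom h)).toNatTrans.app M

theorem e2_eta (x y : LocallyDiscrete.mk A ⟶ LocallyDiscrete.mk B)
    (h : x = y) (M : ModuleCat.{u} A) (m : M) :
    e2 x y h M (etaC M x.as m) = etaC M y.as m := by
  subst h
  unfold e2
  rw [eqToHom_refl, PrelaxFunctor.map₂_id]
  rfl

end Eta

section PF

variable (Φ : CommRingCat.{u} ⥤ CommRingCat.{u})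

/-- the pseudofunctor `R ↦ (Φ(R)-modules)` on `(CommRingCatᵒᵖ)ᵒᵖ` -/
noncomputable def PF : Pseudofunctor (LocallyDiscrete (CommRingCat.{u}ᵒᵖ)ᵒᵖ) Cat.{u, u + 1} :=
  ((unopUnop CommRingCat.{u}) ⋙ Φ).toPseudofunctor.comp
    CommRingCat.moduleCatExtendScalarsPseudofunctor.{u}

variable {A B C : CommRingCat.{u}}

/-- the component of the composition isomorphism of `PF Φ` -/
noncomputable def mcHom (a : A ⟶ B) (b : B ⟶ C) (c : A ⟶ C)
    (h' : a.op.op.toLoc ≫ b.op.op.toLoc = c.op.op.toLoc) (M : ModuleCat.{u} (Φ.obj A)) :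
    (ModuleCat.extendScalars (Φ.map c).hom).obj M ⟶
      (ModuleCat.extendScalars (Φ.map b).hom).obj ((ModuleCat.extendScalars (Φ.map a).hom).obj M) :=
  ((PF Φ).mapComp' a.op.op.toLoc b.op.op.toLoc c.op.op.toLoc h').hom.toNatTrans.app M

/-- the component of the inverse of the composition isomorphism of `PF Φ` -/
noncomputable def mcInv (a : A ⟶ B) (b : B ⟶ C) (c : A ⟶ C)
    (h' : a.op.op.toLoc ≫ b.op.op.toLoc = c.op.op.toLoc) (M : ModuleCat.{u} (Φ.obj A)) :
    (ModuleCat.extendScalars (Φ.map b).hom).obj ((ModuleCat.extendScalars (Φ.map a).hom).obj M) ⟶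
      (ModuleCat.extendScalars (Φ.map c).hom).obj M :=
  ((PF Φ).mapComp' a.op.op.toLoc b.op.op.toLoc c.op.op.toLoc h').inv.toNatTrans.app M

theorem mcHom_mcInv (a : A ⟶ B) (b : B ⟶ C) (c : A ⟶ C)
    (h' : a.op.op.toLoc ≫ b.op.op.toLoc = c.op.op.toLoc) (M : ModuleCat.{u} (Φ.obj A)) :
    mcHom Φ a b c h' M ≫ mcInv Φ a b c h' M = 𝟙 _ :=
  Cat.Hom.hom_inv_id_toNatTrans_app
    ((PF Φ).mapComp' a.op.op.toLoc b.op.op.toLoc c.op.op.toLoc h') M

theorem mcInv_mcHom (a : A ⟶ B) (b : B ⟶ C) (c : A ⟶ C)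
    (h' : a.op.op.toLoc ≫ b.op.op.toLoc = c.op.op.toLoc) (M : ModuleCat.{u} (Φ.obj A)) :
    mcInv Φ a b c h' M ≫ mcHom Φ a b c h' M = 𝟙 _ :=
  Cat.Hom.inv_hom_id_toNatTrans_app
    ((PF Φ).mapComp' a.op.op.toLoc b.op.op.toLoc c.op.op.toLoc h') M

theorem mcHom_eta (a : A ⟶ B) (b : B ⟶ C) (c : A ⟶ C) (h : a ≫ b = c)
    (h' : a.op.op.toLoc ≫ b.op.op.toLoc = c.op.op.toLoc) (M : ModuleCat.{u} (Φ.obj A)) (m : M) :
    mcHom Φ a b c h' M (etaC M (Φ.map c) m) =
      etaC ((ModuleCat.extendScalars (Φ.map a).hom).obj M) (Φ.map b) (etaC M (Φ.map a) m) := by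
  subst h
  have e1 : (PF Φ).mapComp' a.op.op.toLoc b.op.op.toLoc (a ≫ b).op.op.toLoc h' =
      (PF Φ).mapComp a.op.op.toLoc b.op.op.toLoc :=
    Pseudofunctor.mapComp'_eq_mapComp _ _ _
  have HH : (Φ.map (a ≫ b)).toLoc = (Φ.map a).toLoc ≫ (Φ.map b).toLoc := by
    rw [Φ.map_comp]
    rfl
  have key : mcHom Φ a b (a ≫ b) h' M =
      e2 (Φ.map (a ≫ b)).toLoc ((Φ.map a).toLoc ≫ (Φ.map b).toLoc) HH M ≫
        (ModuleCat.extendScalarsComp (Φ.map a).hom (Φ.map b).hom).hom.app M := by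
    unfold mcHom
    rw [e1]
    rfl
  have h2 : e2 (Φ.map (a ≫ b)).toLoc ((Φ.map a).toLoc ≫ (Φ.map b).toLoc) HH M
      (etaC M (Φ.map (a ≫ b)) m) = etaC M (Φ.map a ≫ Φ.map b) m := e2_eta _ _ HH M m
  rw [key]
  exact (congrArg (fun z => (ModuleCat.extendScalarsComp (Φ.map a).hom (Φ.map b).hom).hom.app M z)
    h2).trans (extendScalarsComp_hom_etaC M (Φ.map a) (Φ.map b) m)

theorem mcInv_eta (a : A ⟶ B) (b : B ⟶ C) (c : A ⟶ C) (h : a ≫ b = c)
    (h' : a.op.op.toLoc ≫ b.op.op.toLoc = c.op.op.toLoc) (M : ModuleCat.{u} (Φ.obj A)) (m : M) :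
    mcInv Φ a b c h' M
      (etaC ((ModuleCat.extendScalars (Φ.map a).hom).obj M) (Φ.map b) (etaC M (Φ.map a) m)) =
        etaC M (Φ.map c) m := by
  rw [← mcHom_eta Φ a b c h h' M m]
  exact ConcreteCategory.congr_hom (mcHom_mcInv Φ a b c h' M) (etaC M (Φ.map c) m)

end PF

end Groth.Agent.H3.PhiDesc
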