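import Groth.Agent.Lib.Helper3.PhiDescA

/-!
# Flat modules and an equalizer of rings: the algebraic core (Mathlib only)
-/

set_option autoImplicit false
set_option linter.unusedSectionVars false
open CategoryTheory Opposite TensorProduct
universe u

namespace Groth.Agent.H3.PhiDesc

section Core

variable {A B C : CommRingCat.{u}} (ι : A ⟶ B) (d₁ d₂ : B ⟶ C) (w : A ⟶ C)
  (h₁ : ι ≫ d₁ = w) (h₂ : ι ≫ d₂ = w)

/-- `B` as an `A`-module -/
noncomputable abbrev Bm : ModuleCat.{u} A :=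
  (ModuleCat.restrictScalars ι.hom).obj (ModuleCat.of B B)

/-- `ι` as an `A`-linear map -/
noncomputable def fL : A →ₗ[A] Bm ι where
  toFun a := (ι.hom a : B)
  map_add' a a' := map_add ι.hom a a'
  map_smul' a a' := by
    change ι.hom (a * a') = ι.hom a * ι.hom a'
    exact map_mul ι.hom a a'

include h₁ h₂ in
theorem d_smul (a : A) (b : B) :
    d₁.hom (ι.hom a * b) - d₂.hom (ι.hom a * b) = w.hom a * (d₁.hom b - d₂.hom b) := by
  have e₁ : d₁.hom (ι.hom a) = w.hom a := congrArg (fun k => k.hom a) h₁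
  have e₂ : d₂.hom (ι.hom a) = w.hom a := congrArg (fun k => k.hom a) h₂
  rw [map_mul, map_mul, e₁, e₂, mul_sub]

theorem d_add (b b' : B) :
    d₁.hom (b + b') - d₂.hom (b + b') = (d₁.hom b - d₂.hom b) + (d₁.hom b' - d₂.hom b') := by
  rw [map_add, map_add]
  abel

/-- `d₁ - d₂` as an `A`-linear map -/
noncomputable def gL : Bm ι →ₗ[A] Bm w where
  toFun b := (d₁.hom b - d₂.hom b : C)
  map_add' b b' := d_add d₁ d₂ b b'
  map_smul' a b := d_smul ι d₁ d₂ w h₁ h₂ a b

theorem exact_fL_gL (hex : ∀ b : B, d₁.hom b = d₂.hom b → ∃ a : A, ι.hom a = b) :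
    Function.Exact (fL ι) (gL ι d₁ d₂ w h₁ h₂) := by
  intro b
  constructor
  · intro hb
    have hb' : d₁.hom b - d₂.hom b = 0 := hb
    obtain ⟨a, ha⟩ := hex b (sub_eq_zero.mp hb')
    exact ⟨a, ha⟩
  · rintro ⟨a, rfl⟩
    change d₁.hom (ι.hom a) - d₂.hom (ι.hom a) = 0
    have e₁ : d₁.hom (ι.hom a) = w.hom a := congrArg (fun k => k.hom a) h₁
    have e₂ : d₂.hom (ι.hom a) = w.hom a := congrArg (fun k => k.hom a) h₂
    rw [e₁, e₂, sub_self]

variable (N : ModuleCat.{u} A)

theorem etaC_eq_rTensor (n : N) :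
    etaC N ι n = (fL ι).rTensor N ((1 : A) ⊗ₜ[A] n) := by
  change (show Bm ι from (1 : B)) ⊗ₜ[A] n = (show Bm ι from (ι.hom 1 : B)) ⊗ₜ[A] n
  rw [map_one]

theorem etaC_injective [Module.Flat A N] (hinj : Function.Injective ι.hom) :
    Function.Injective (etaC N ι) := by
  have h1 : Function.Injective ((fL ι).rTensor N) :=
    Module.Flat.rTensor_preserves_injective_linearMap (fL ι) hinj
  intro n n' hnn
  rw [etaC_eq_rTensor, etaC_eq_rTensor] at hnn
  have h2 := h1 hnn
  have h3 := congrArg (TensorProduct.lid A N) h2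
  simpa using h3

/-- cast from the tensor product to the bundled extension of scalars -/
def toExt (y : Bm ι ⊗[A] N) : (ModuleCat.extendScalars ι.hom).obj N := y

/-- cast from the bundled extension of scalars to the tensor product -/
def ofExt (y : (ModuleCat.extendScalars ι.hom).obj N) : Bm ι ⊗[A] N := y

/-- an element of `B` as an element of the `A`-module `B` -/
def toBm (b : B) : Bm ι := b

theorem toExt_ofExt (y : (ModuleCat.extendScalars ι.hom).obj N) : toExt ι N (ofExt ι N y) = y := rfl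

theorem toExt_zero : toExt ι N 0 = 0 := rfl

theorem toExt_add (y y' : Bm ι ⊗[A] N) : toExt ι N (y + y') = toExt ι N y + toExt ι N y' := rfl

theorem toExt_sub (y y' : Bm ι ⊗[A] N) : toExt ι N (y - y') = toExt ι N y - toExt ι N y' := rfl

theorem ofExt_add (y y' : (ModuleCat.extendScalars ι.hom).obj N) :
    ofExt ι N (y + y') = ofExt ι N y + ofExt ι N y' := rfl

theorem tmul_eq_smul_etaC (b : B) (n : N) :
    toExt ι N (toBm ι b ⊗ₜ[A] n) = b • etaC N ι n := by
  have := ModuleCat.ExtendScalars.smul_tmul ι.hom (M := N) b 1 n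
  rw [mul_one] at this
  exact this.symm

include h₁ h₂ in
theorem exists_of_eq [Module.Flat A N]
    (hex : ∀ b : B, d₁.hom b = d₂.hom b → ∃ a : A, ι.hom a = b)
    (u₁ u₂ : (ModuleCat.extendScalars ι.hom).obj N →+ (ModuleCat.extendScalars w.hom).obj N)
    (hu₁ : ∀ (b : B) (n : N), u₁ (b • etaC N ι n) = (d₁.hom b : C) • etaC N w n)
    (hu₂ : ∀ (b : B) (n : N), u₂ (b • etaC N ι n) = (d₂.hom b : C) • etaC N w n)
    (x : (ModuleCat.extendScalars ι.hom).obj N) (hx : u₁ x = u₂ x) :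
    ∃ n : N, etaC N ι n = x := by
  have hg : ∀ y : Bm ι ⊗[A] N,
      toExt w N ((gL ι d₁ d₂ w h₁ h₂).rTensor N y) = u₁ (toExt ι N y) - u₂ (toExt ι N y) := by
    intro y
    induction y using TensorProduct.induction_on with
    | zero =>
      rw [map_zero, toExt_zero, toExt_zero, map_zero, map_zero, sub_zero]
    | tmul b n =>
      have e1 := tmul_eq_smul_etaC ι N b n
      have e2 : u₁ (toExt ι N (toBm ι b ⊗ₜ[A] n)) = (d₁.hom b : C) • etaC N w n := by
        rw [e1, hu₁]
      have e3 : u₂ (toExt ι N (toBm ι b ⊗ₜ[A] n)) = (d₂.hom b : C) • etaC N w n := by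
        rw [e1, hu₂]
      change toExt w N (toBm w (d₁.hom b - d₂.hom b : C) ⊗ₜ[A] n) =
        u₁ (toExt ι N (toBm ι b ⊗ₜ[A] n)) - u₂ (toExt ι N (toBm ι b ⊗ₜ[A] n))
      rw [e2, e3, ← tmul_eq_smul_etaC w N (d₁.hom b) n, ← tmul_eq_smul_etaC w N (d₂.hom b) n,
        ← toExt_sub]
      exact congrArg (toExt w N)
        (TensorProduct.sub_tmul (R := A) (M := Bm w) (N := N) (toBm w (d₁.hom b))
          (toBm w (d₂.hom b)) n)
    | add y y' hy hy' =>
      rw [map_add, toExt_add, toExt_add, map_add, map_add, hy, hy']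
      abel
  have hex' := Module.Flat.rTensor_exact N (exact_fL_gL ι d₁ d₂ w h₁ h₂ hex)
  have hx0 : (gL ι d₁ d₂ w h₁ h₂).rTensor N (ofExt ι N x) = 0 := by
    have := hg (ofExt ι N x)
    rw [toExt_ofExt, hx, sub_self] at this
    exact this
  obtain ⟨y, hy⟩ := (hex' (ofExt ι N x)).mp hx0
  refine ⟨TensorProduct.lid A N y, ?_⟩
  rw [etaC_eq_rTensor, ← TensorProduct.lid_symm_apply, LinearEquiv.symm_apply_apply]
  exact hy

end Core

end Groth.Agent.H3.PhiDesc
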