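import Mathlib.Algebra.Group.ForwardDiff
import Mathlib.RingTheory.Binomial
import Mathlib.Algebra.Polynomial.Roots
import Mathlib.Tactic.FieldSimp
import Mathlib.Tactic.Ring
import Groth.Prelude.Def_W4sga6xxiiiPolyMap

/-! integer-valued polynomials, polynomial maps in the binomial sense -/

open Polynomial

namespace Groth.Agent.H3.PolyMapAux
open Finset in
/-- integer-valued rational polynomial: `d! * lc` is an integer -/
lemma factorial_mul_leadingCoeff_int (P : ℚ[X]) (hP : ∀ n : ℕ, ∃ z : ℤ, P.eval (n : ℚ) = z) :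
    ∃ z : ℤ, (P.natDegree.factorial : ℚ) * P.leadingCoeff = z := by
  have h1 := congrFun (Polynomial.fwdDiff_iter_degree_eq_factorial P) 0
  rw [fwdDiff_iter_eq_sum_shift] at h1
  choose v hv using hP
  refine ⟨∑ k ∈ range (P.natDegree + 1), ((-1 : ℤ) ^ (P.natDegree - k) * P.natDegree.choose k) * v k, ?_⟩
  have h2 : (P.leadingCoeff • (P.natDegree.factorial : ℚ → ℚ)) 0 = (P.natDegree.factorial : ℚ) * P.leadingCoeff := by
    simp [mul_comm]
  rw [← h2, ← h1]
  push_cast
  refine Finset.sum_congr rfl (fun k _ => ?_)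
  have : (0 : ℚ) + k • (1 : ℚ) = (k : ℚ) := by simp
  rw [this, hv k]
  simp [zsmul_eq_mul]

/-- binomial polynomial -/
noncomputable def binomPoly (j : ℕ) : ℚ[X] := C ((j.factorial : ℚ)⁻¹) * descPochhammer ℚ j

lemma eval_binomPoly (j : ℕ) (n : ℤ) : (binomPoly j).eval (n : ℚ) = ((Ring.choose n j : ℤ) : ℚ) := by
  unfold binomPoly
  rw [eval_mul, eval_C]
  have h1 : (descPochhammer ℤ j).smeval n = j.factorial • Ring.choose n j :=
    Ring.descPochhammer_eq_factorial_smul_choose n j
  have h2 : (descPochhammer ℚ j).eval (n : ℚ) = (((descPochhammer ℤ j).eval n : ℤ) : ℚ) := by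
    rw [← descPochhammer_map (Int.castRingHom ℚ), eval_intCast_map]
    simp
  rw [h2, Polynomial.eval_eq_smeval, h1, nsmul_eq_mul]
  push_cast
  field_simp


lemma exists_poly {G : Type*} [AddCommGroup G] (f : G → ℚ) (hf : W4sga6xxiii.IsPolyMap f) (w : G) :
    ∃ Q : ℚ[X], ∀ n : ℤ, f (n • w) = Q.eval (n : ℚ) := by
  obtain ⟨m, y, -, hy⟩ := hf 1 (fun _ => w)
  refine ⟨∑ k : Fin 1 → Fin (m + 1), C (y k) * binomPoly (k 0 : ℕ), fun n => ?_⟩
  have := hy (fun _ => n)
  simp only [Finset.univ_unique, Fin.default_eq_zero, Fin.isValue, Finset.sum_singleton,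
    Finset.prod_singleton] at this
  rw [this, eval_finset_sum]
  refine Finset.sum_congr rfl (fun k _ => ?_)
  rw [eval_mul, eval_C, eval_binomPoly, zsmul_eq_mul, mul_comm]


end Groth.Agent.H3.PolyMapAux
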