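import Mathlib
import Groth.Prelude.Def_AlgSt
import Groth.Agent.Lib.Helper3.GerbAux

set_option autoImplicit false

universe v₆ u₆ v₅ u₅ v₄ u₄ v₃ u₃ v₂ u₂ v u

open CategoryTheory

namespace Groth.Agent.H3.PostComp

variable {C : Type u} [Category.{v} C]

section

variable (ℬ : BasedCategory.{v₄, u₄} C) {𝒳 : BasedCategory.{v₂, u₂} C} {𝒴 : BasedCategory.{v₃, u₃} C}
  {𝒵 : BasedCategory.{v₅, u₅} C}

/-- postcomposition with a based functor, universe-heterogeneous -/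
def postc (F : 𝒳 ⥤ᵇ 𝒴) : (ℬ ⥤ᵇ 𝒳) ⥤ (ℬ ⥤ᵇ 𝒴) where
  obj G := BasedFunctor.comp G F
  map α := BasedCategory.whiskerRight α F
  map_id G := by apply BasedNatTrans.homCategory.ext; ext x; exact F.toFunctor.map_id _
  map_comp α β := by apply BasedNatTrans.homCategory.ext; ext x; exact F.toFunctor.map_comp _ _

def postcIso {F F' : 𝒳 ⥤ᵇ 𝒴} (e : F ≅ F') : postc ℬ F ≅ postc ℬ F' :=
  NatIso.ofComponents
    (fun G =>
      { hom := BasedCategory.whiskerLeft G e.hom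
        inv := BasedCategory.whiskerLeft G e.inv
        hom_inv_id := by
          apply BasedNatTrans.homCategory.ext; ext x
          exact congrArg (fun t => t.toNatTrans.app (G.obj x)) e.hom_inv_id
        inv_hom_id := by
          apply BasedNatTrans.homCategory.ext; ext x
          exact congrArg (fun t => t.toNatTrans.app (G.obj x)) e.inv_hom_id })
    (by
      intro G G' α
      apply BasedNatTrans.homCategory.ext; ext x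
      exact (e.hom.toNatTrans.naturality (α.toNatTrans.app x)))

def postcComp (F : 𝒳 ⥤ᵇ 𝒴) (G : 𝒴 ⥤ᵇ 𝒵) :
    postc ℬ F ⋙ postc ℬ G ≅ postc ℬ (BasedFunctor.comp F G) :=
  NatIso.ofComponents (fun H => Iso.refl _) (by
    intro H H' α
    apply BasedNatTrans.homCategory.ext; ext x
    erw [Category.comp_id, Category.id_comp]
    rfl)

def postcId : postc ℬ (BasedFunctor.id 𝒳) ≅ 𝟭 _ :=
  NatIso.ofComponents (fun H => Iso.refl _) (by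
    intro H H' α
    apply BasedNatTrans.homCategory.ext; ext x
    erw [Category.comp_id, Category.id_comp]
    rfl)

lemma isEquivalence_postc (F : 𝒳 ⥤ᵇ 𝒴) (hF : FibCat.IsEquivOver F) : (postc ℬ F).IsEquivalence := by
  obtain ⟨G, ⟨e₁⟩, ⟨e₂⟩⟩ := hF
  let E : (ℬ ⥤ᵇ 𝒳) ≌ (ℬ ⥤ᵇ 𝒴) :=
    CategoryTheory.Equivalence.mk (postc ℬ F) (postc ℬ G)
      ((postcId ℬ).symm ≪≫ (postcIso ℬ e₁).symm ≪≫ (postcComp ℬ F G).symm)
      (postcComp ℬ G F ≪≫ postcIso ℬ e₂ ≪≫ postcId ℬ)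
  exact E.isEquivalence_functor

end

section

variable {𝒜 : BasedCategory.{v₄, u₄} C} {ℬ : BasedCategory.{v₅, u₅} C} (ι : 𝒜 ⥤ᵇ ℬ)
  {𝒳 : BasedCategory.{v₂, u₂} C} {𝒴 : BasedCategory.{v₃, u₃} C}

def sqIso (F : 𝒳 ⥤ᵇ 𝒴) :
    postc ℬ F ⋙ Stk.restr ι 𝒴 ≅ Stk.restr ι 𝒳 ⋙ postc 𝒜 F :=
  NatIso.ofComponents (fun H => Iso.refl _) (by
    intro H H' α
    apply BasedNatTrans.homCategory.ext; ext x
    erw [Category.comp_id, Category.id_comp]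
    rfl)

lemma full_faithful_restr_of_isEquivOver (F : 𝒳 ⥤ᵇ 𝒴) (hF : FibCat.IsEquivOver F)
    (h : (Stk.restr ι 𝒴).Full ∧ (Stk.restr ι 𝒴).Faithful) :
    (Stk.restr ι 𝒳).Full ∧ (Stk.restr ι 𝒳).Faithful := by
  obtain ⟨h1, h2⟩ := h
  haveI := isEquivalence_postc ℬ F hF
  haveI := isEquivalence_postc 𝒜 F hF
  haveI : (Stk.restr ι 𝒳 ⋙ postc 𝒜 F).Full := Functor.Full.of_iso (sqIso ι F)
  haveI : (Stk.restr ι 𝒳 ⋙ postc 𝒜 F).Faithful := Functor.Faithful.of_iso (sqIso ι F)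
  exact ⟨Functor.Full.of_comp_faithful (Stk.restr ι 𝒳) (postc 𝒜 F),
    Functor.Faithful.of_comp (Stk.restr ι 𝒳) (postc 𝒜 F)⟩

end

theorem isPrestack_of_isEquivOver (J : GrothendieckTopology C)
    {𝒳 : BasedCategory.{v₂, u₂} C} {𝒴 : BasedCategory.{v₃, u₃} C} (F : 𝒳 ⥤ᵇ 𝒴)
    (hF : FibCat.IsEquivOver F) (h : Stk.IsPrestack J 𝒴) : Stk.IsPrestack J 𝒳 := by
  obtain ⟨G, ⟨e₁⟩, ⟨e₂⟩⟩ := hF
  refine ⟨Groth.Agent.H3.GerbAux.isFibGrpd_of_isEquivOver G ⟨F, ⟨e₂⟩, ⟨e₁⟩⟩ h.1, fun U R hR => ?_⟩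
  exact full_faithful_restr_of_isEquivOver (Stk.sieveIncl R) F ⟨G, ⟨e₁⟩, ⟨e₂⟩⟩ (h.2 R hR)

theorem isPrestack_iff_of_isEquivOver (J : GrothendieckTopology C)
    {𝒳 : BasedCategory.{v₂, u₂} C} {𝒴 : BasedCategory.{v₃, u₃} C} (F : 𝒳 ⥤ᵇ 𝒴)
    (hF : FibCat.IsEquivOver F) : Stk.IsPrestack J 𝒳 ↔ Stk.IsPrestack J 𝒴 := by
  constructor
  · obtain ⟨G, ⟨e₁⟩, ⟨e₂⟩⟩ := hF
    exact isPrestack_of_isEquivOver J G ⟨F, ⟨e₂⟩, ⟨e₁⟩⟩
  · exact isPrestack_of_isEquivOver J F hF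

end Groth.Agent.H3.PostComp
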