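import Mathlib

set_option autoImplicit false

universe u

open CategoryTheory CategoryTheory.Limits Opposite

namespace Groth.Agent.H3.ProRep

variable {C : Type u} [SmallCategory C] [HasFiniteLimits C] (F : C ⥤ Type u) [PreservesFiniteLimits F]

/-- `F` of a mono is injective -/
lemma map_injective_of_mono {X Y : C} (m : X ⟶ Y) [Mono m] : Function.Injective (F.map m) := by
  haveI : Mono (F.map m) := inferInstance
  exact (mono_iff_injective (F.map m)).mp inferInstance

/-- elements of `F` of an equalizer -/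
lemma exists_of_equalizer {X Y : C} (u v : X ⟶ Y) (ξ : F.obj X) (h : F.map u ξ = F.map v ξ) :
    ∃ ζ : F.obj (equalizer u v), F.map (equalizer.ι u v) ζ = ξ := by
  have hl : IsLimit (Fork.ofι (f := F.map u) (g := F.map v) (F.map (equalizer.ι u v))
      (by rw [← F.map_comp, ← F.map_comp, equalizer.condition])) :=
    isLimitForkMapOfIsLimit F (equalizer.condition u v) (equalizerIsEqualizer u v)
  obtain ⟨ζ, hζ, -⟩ := Types.unique_of_type_equalizer _ _ hl ξ h
  exact ⟨ζ, hζ⟩

/-- elements of `F` of a product -/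
lemma exists_of_prod {X Y : C} (ξ : F.obj X) (η : F.obj Y) :
    ∃ ζ : F.obj (X ⨯ Y), F.map prod.fst ζ = ξ ∧ F.map prod.snd ζ = η := by
  have hl : IsLimit (F.mapCone (limit.cone (pair X Y))) :=
    isLimitOfPreserves F (limit.isLimit (pair X Y))
  let s : (pair X Y ⋙ F).sections :=
    ⟨fun j => match j with
      | ⟨WalkingPair.left⟩ => ξ
      | ⟨WalkingPair.right⟩ => η, by
      intro j j' f
      obtain rfl : j = j' := Discrete.ext (Discrete.eq_of_hom f)
      have hf : f = 𝟙 j := Subsingleton.elim _ _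
      rw [hf, CategoryTheory.Functor.map_id]
      rfl⟩
  refine ⟨(Types.isLimitEquivSections hl).symm s, ?_, ?_⟩
  · exact Types.isLimitEquivSections_symm_apply hl s ⟨WalkingPair.left⟩
  · exact Types.isLimitEquivSections_symm_apply hl s ⟨WalkingPair.right⟩

/-- `F` of the terminal object is nonempty -/
lemma nonempty_terminal : Nonempty (F.obj (⊤_ C)) := by
  have hl : IsLimit (F.mapCone (limit.cone (Functor.empty C))) :=
    isLimitOfPreserves F (limit.isLimit (Functor.empty C))
  let s : (Functor.empty C ⋙ F).sections := ⟨fun j => j.as.elim, fun {j} => j.as.elim⟩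
  exact ⟨(Types.isLimitEquivSections hl).symm s⟩


/-- minimal pairs -/
def IsMinimal (p : F.Elements) : Prop :=
  ∀ (X' : C) (m : X' ⟶ p.1) [Mono m], p.2 ∈ Set.range (F.map m) → IsIso m

variable {F}

lemma exists_minimal (hart : ∀ X : C, IsArtinianObject X) (p : F.Elements) :
    ∃ (q : F.Elements) (f : q ⟶ p), IsMinimal F q := by
  obtain ⟨Y, η⟩ := p
  let S : Set (Subobject Y) := {Z | η ∈ Set.range (F.map Z.arrow)}
  have hne : S.Nonempty := by
    refine ⟨⊤, ?_⟩
    haveI : IsIso (⊤ : Subobject Y).arrow := inferInstance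
    refine ⟨F.map (inv (⊤ : Subobject Y).arrow) η, ?_⟩
    change (F.map (inv (⊤ : Subobject Y).arrow) ≫ F.map (⊤ : Subobject Y).arrow) η = η
    rw [← F.map_comp, IsIso.inv_hom_id, F.map_id]
    rfl
  haveI := hart Y
  obtain ⟨Z₀, hZ₀, hmin⟩ := (wellFounded_lt (α := Subobject Y)).has_min S hne
  obtain ⟨η₀, hη₀⟩ := hZ₀
  refine ⟨⟨(Z₀ : C), η₀⟩, ⟨Z₀.arrow, hη₀⟩, ?_⟩
  intro X' m _ hm
  obtain ⟨ζ, hζ⟩ := hm
  have hmem : Subobject.mk (m ≫ Z₀.arrow) ∈ S := by
    refine ⟨F.map (Subobject.underlyingIso (m ≫ Z₀.arrow)).inv ζ, ?_⟩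
    change (F.map (Subobject.underlyingIso (m ≫ Z₀.arrow)).inv ≫
      F.map (Subobject.mk (m ≫ Z₀.arrow)).arrow) ζ = η
    rw [← F.map_comp, Subobject.underlyingIso_arrow, F.map_comp]
    change F.map Z₀.arrow (F.map m ζ) = η
    rw [hζ, hη₀]
  by_contra hiso
  have hlt : Subobject.mk (m ≫ Z₀.arrow) < Subobject.mk Z₀.arrow :=
    Subobject.mk_lt_mk_of_comm m rfl hiso
  rw [Subobject.mk_arrow] at hlt
  exact hmin _ hmem hlt


/-- parallel morphisms out of a minimal pair coincide -/
lemma hom_eq_of_isMinimal {p : F.Elements} (hp : IsMinimal F p) {Y : C} (u v : p.1 ⟶ Y)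
    (h : F.map u p.2 = F.map v p.2) : u = v := by
  obtain ⟨ζ, hζ⟩ := exists_of_equalizer F u v p.2 h
  haveI : IsIso (equalizer.ι u v) := hp _ (equalizer.ι u v) ⟨ζ, hζ⟩
  exact eq_of_epi_equalizer

/-- morphisms to a minimal pair are epimorphisms -/
lemma epi_of_isMinimal {p q : F.Elements} (hq : IsMinimal F q) (f : p ⟶ q) : Epi f.1 := by
  constructor
  intro Z v w hvw
  let l : p.1 ⟶ equalizer v w := equalizer.lift f.1 hvw
  have hl : l ≫ equalizer.ι v w = f.1 := equalizer.lift_ι _ _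
  haveI : IsIso (equalizer.ι v w) := by
    apply hq _ (equalizer.ι v w)
    refine ⟨F.map l p.2, ?_⟩
    change (F.map l ≫ F.map (equalizer.ι v w)) p.2 = q.2
    rw [← F.map_comp, hl]
    exact f.2
  exact eq_of_epi_equalizer

variable (F)

/-- the index category: minimal pairs -/
abbrev Idx : Type u := ObjectProperty.FullSubcategory (IsMinimal F)

/-- the diagram -/
abbrev diag : Idx F ⥤ C := ObjectProperty.ι (IsMinimal F) ⋙ CategoryOfElements.π F

variable {F}

lemma idx_hom_ext {j j' : Idx F} (a b : j ⟶ j') : a = b := by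
  apply ObjectProperty.hom_ext
  apply Subtype.ext
  apply hom_eq_of_isMinimal j.2
  exact a.hom.2.trans b.hom.2.symm

lemma epi_diag_map {j j' : Idx F} (a : j ⟶ j') : Epi ((diag F).map a) :=
  epi_of_isMinimal j'.2 a.hom

variable (hart : ∀ X : C, IsArtinianObject X)

include hart in
lemma exists_idx_over (p : F.Elements) : ∃ (j : Idx F), Nonempty (j.obj ⟶ p) := by
  obtain ⟨q, f, hq⟩ := exists_minimal hart p
  exact ⟨⟨q, hq⟩, ⟨f⟩⟩

include hart in
lemma isCofiltered_idx : IsCofiltered (Idx F) := by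
  haveI : Nonempty (Idx F) := by
    obtain ⟨x⟩ := nonempty_terminal F
    obtain ⟨j, -⟩ := exists_idx_over hart (⟨⊤_ C, x⟩ : F.Elements)
    exact ⟨j⟩
  haveI : IsCofilteredOrEmpty (Idx F) :=
    { cone_objs := by
        intro j j'
        obtain ⟨ζ, h1, h2⟩ := exists_of_prod F j.obj.2 j'.obj.2
        obtain ⟨k, ⟨f⟩⟩ := exists_idx_over hart (⟨j.obj.1 ⨯ j'.obj.1, ζ⟩ : F.Elements)
        refine ⟨k, ObjectProperty.homMk ⟨f.1 ≫ prod.fst, ?_⟩,
          ObjectProperty.homMk ⟨f.1 ≫ prod.snd, ?_⟩, trivial⟩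
        · rw [F.map_comp]
          change F.map prod.fst (F.map f.1 k.obj.2) = _
          rw [f.2]; exact h1
        · rw [F.map_comp]
          change F.map prod.snd (F.map f.1 k.obj.2) = _
          rw [f.2]; exact h2
      cone_maps := by
        intro j j' a b
        exact ⟨j, 𝟙 j, by rw [idx_hom_ext a b]⟩ }
  exact { }

/-- the canonical cocone with point `F` -/
def cocone : Cocone ((diag F).op ⋙ coyoneda) where
  pt := F
  ι :=
    { app := fun j => coyonedaEquiv.symm j.unop.obj.2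
      naturality := by
        intro j j' a
        apply NatTrans.ext
        funext Y
        ext (g : j.unop.obj.1 ⟶ Y)
        change F.map (a.unop.hom.1 ≫ g) j'.unop.obj.2 = F.map g j.unop.obj.2
        rw [F.map_comp]
        change F.map g (F.map a.unop.hom.1 j'.unop.obj.2) = _
        rw [a.unop.hom.2] }


lemma cocone_ι_app_app (j : (Idx F)ᵒᵖ) (Y : C) (g : j.unop.obj.1 ⟶ Y) :
    ((cocone (F := F)).ι.app j).app Y g = F.map g j.unop.obj.2 := rfl

include hart in
/-- the canonical cocone is a colimit -/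
noncomputable def isColimitCocone : IsColimit (cocone (F := F)) := by
  haveI := isCofiltered_idx (F := F) hart
  apply evaluationJointlyReflectsColimits
  intro Y
  apply Types.FilteredColimit.isColimitOf
  · intro (η : F.obj Y)
    obtain ⟨j, ⟨f⟩⟩ := exists_idx_over hart (⟨Y, η⟩ : F.Elements)
    exact ⟨op j, f.1, f.2.symm⟩
  · intro i j (xi : i.unop.obj.1 ⟶ Y) (xj : j.unop.obj.1 ⟶ Y) h
    replace h : F.map xi i.unop.obj.2 = F.map xj j.unop.obj.2 := h
    obtain ⟨ζ, h1, h2⟩ := exists_of_prod F i.unop.obj.2 j.unop.obj.2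
    have h3 : F.map (prod.fst ≫ xi) ζ = F.map (prod.snd ≫ xj) ζ := by
      rw [F.map_comp, F.map_comp]
      change F.map xi (F.map prod.fst ζ) = F.map xj (F.map prod.snd ζ)
      rw [h1, h2, h]
    obtain ⟨ζ', hζ'⟩ := exists_of_equalizer F (prod.fst ≫ xi) (prod.snd ≫ xj) ζ h3
    obtain ⟨k, ⟨f⟩⟩ := exists_idx_over hart
      (⟨equalizer (prod.fst ≫ xi) (prod.snd ≫ xj), ζ'⟩ : F.Elements)
    let e := equalizer.ι (prod.fst (X := i.unop.obj.1) (Y := j.unop.obj.1) ≫ xi) (prod.snd ≫ xj)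
    have he : F.map e ζ' = ζ := hζ'
    refine ⟨op k, (ObjectProperty.homMk ⟨f.1 ≫ e ≫ prod.fst, ?_⟩ : k ⟶ i.unop).op,
      (ObjectProperty.homMk ⟨f.1 ≫ e ≫ prod.snd, ?_⟩ : k ⟶ j.unop).op, ?_⟩
    · rw [F.map_comp, F.map_comp]
      change F.map prod.fst (F.map e (F.map f.1 k.obj.2)) = _
      rw [f.2]
      change F.map prod.fst (F.map e ζ') = _
      rw [he, h1]
    · rw [F.map_comp, F.map_comp]
      change F.map prod.snd (F.map e (F.map f.1 k.obj.2)) = _
      rw [f.2]
      change F.map prod.snd (F.map e ζ') = _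
      rw [he, h2]
    · change (f.1 ≫ e ≫ prod.fst) ≫ xi = (f.1 ≫ e ≫ prod.snd) ≫ xj
      simp only [Category.assoc]
      have hc : e ≫ prod.fst ≫ xi = e ≫ prod.snd ≫ xj := equalizer.condition _ _
      rw [hc]

include hart in
theorem main :
    ∃ (J : Type u) (_ : SmallCategory J) (_ : IsCofiltered J) (D : J ⥤ C),
      (∀ ⦃j j' : J⦄ (a : j ⟶ j'), Epi (D.map a)) ∧ Nonempty (F ≅ colimit (D.op ⋙ coyoneda)) := by
  refine ⟨Idx F, inferInstance, isCofiltered_idx hart, diag F, fun j j' a => epi_diag_map a, ?_⟩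
  exact ⟨(isColimitCocone hart).coconePointUniqueUpToIso (colimit.isColimit _)⟩

end Groth.Agent.H3.ProRep
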