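import Groth.Agent.Lib.Helper3.PhiDescB

/-!
# Canonical descent data for a pseudofunctor: generic part (Mathlib only)

All comparisons between the abstract (pseudofunctor) form and the module form of the statements
are arranged so that the kernel only has to compare instances of the same generic definitions.
-/

set_option autoImplicit false
set_option linter.unusedSectionVars false
open CategoryTheory Opposite TensorProduct
universe t v₁ u₁ u v' u'

namespace Groth.Agent.H3.PsDesc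
open Groth.Agent.H3.PhiDesc

section Generic

variable {C : Type u₁} [Category.{v₁} C] (F : Pseudofunctor (LocallyDiscrete Cᵒᵖ) Cat.{v', u'})

/-- generic: the component of the composition isomorphism of a pseudofunctor -/
def mcHomG {x y z : LocallyDiscrete Cᵒᵖ} (a : x ⟶ y) (b : y ⟶ z) (c : x ⟶ z)
    (h : a ≫ b = c) (M : F.obj x) :
    (F.map c).toFunctor.obj M ⟶ (F.map b).toFunctor.obj ((F.map a).toFunctor.obj M) :=
  (F.mapComp' a b c h).hom.toNatTrans.app M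

/-- generic: the component of the inverse of the composition isomorphism of a pseudofunctor -/
def mcInvG {x y z : LocallyDiscrete Cᵒᵖ} (a : x ⟶ y) (b : y ⟶ z) (c : x ⟶ z)
    (h : a ≫ b = c) (M : F.obj x) :
    (F.map b).toFunctor.obj ((F.map a).toFunctor.obj M) ⟶ (F.map c).toFunctor.obj M :=
  (F.mapComp' a b c h).inv.toNatTrans.app M

theorem mcHomG_mcInvG {x y z : LocallyDiscrete Cᵒᵖ} (a : x ⟶ y) (b : y ⟶ z) (c : x ⟶ z)
    (h : a ≫ b = c) (M : F.obj x) :
    mcHomG F a b c h M ≫ mcInvG F a b c h M = 𝟙 _ :=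
  Cat.Hom.hom_inv_id_toNatTrans_app (F.mapComp' a b c h) M

theorem mcHomG_eq {x y z : LocallyDiscrete Cᵒᵖ} (a : x ⟶ y) (b : y ⟶ z) (M : F.obj x) :
    mcHomG F a b (a ≫ b) rfl M = (F.mapComp a b).hom.toNatTrans.app M := by
  have e1 : F.mapComp' a b (a ≫ b) rfl = F.mapComp a b :=
    Pseudofunctor.mapComp'_eq_mapComp _ _ _
  unfold mcHomG
  rw [e1]

/-- generic: the component of a morphism of canonical descent data for a one-member family -/
def homG {S X : C} (f₀ : X ⟶ S) {M N : F.obj (.mk (op S))}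
    (ψ : (F.toDescentData (fun _ : PUnit.{t + 1} => f₀)).obj M ⟶
      (F.toDescentData (fun _ : PUnit.{t + 1} => f₀)).obj N) :
    (F.map f₀.op.toLoc).toFunctor.obj M ⟶ (F.map f₀.op.toLoc).toFunctor.obj N :=
  ψ.hom PUnit.unit

theorem homG_map {S X : C} (f₀ : X ⟶ S) {M N : F.obj (.mk (op S))} (φ : M ⟶ N) :
    homG F f₀ ((F.toDescentData (fun _ : PUnit.{t + 1} => f₀)).map φ) =
      (F.map f₀.op.toLoc).toFunctor.map φ := rfl

theorem hom_ext_homG {S X : C} (f₀ : X ⟶ S) {M N : F.obj (.mk (op S))}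
    (ψ ψ' : (F.toDescentData (fun _ : PUnit.{t + 1} => f₀)).obj M ⟶
      (F.toDescentData (fun _ : PUnit.{t + 1} => f₀)).obj N)
    (h : homG F f₀ ψ = homG F f₀ ψ') : ψ = ψ' := by
  apply Pseudofunctor.DescentData.hom_ext
  intro i
  exact h

theorem comm_generic1 {S X Y : C} (f₀ : X ⟶ S) {M N : F.obj (.mk (op S))}
    (ψ : (F.toDescentData (fun _ : PUnit.{t + 1} => f₀)).obj M ⟶
      (F.toDescentData (fun _ : PUnit.{t + 1} => f₀)).obj N)
    (q : Y ⟶ S) (f₁ f₂ : Y ⟶ X) (hf₁ : f₁ ≫ f₀ = q) (hf₂ : f₂ ≫ f₀ = q)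
    (h₁ : f₀.op.toLoc ≫ f₁.op.toLoc = q.op.toLoc)
    (h₂ : f₀.op.toLoc ≫ f₂.op.toLoc = q.op.toLoc) :
    (F.map f₁.op.toLoc).toFunctor.map (homG F f₀ ψ) ≫
        mcInvG F f₀.op.toLoc f₁.op.toLoc q.op.toLoc h₁ N =
      mcInvG F f₀.op.toLoc f₁.op.toLoc q.op.toLoc h₁ M ≫
        mcHomG F f₀.op.toLoc f₂.op.toLoc q.op.toLoc h₂ M ≫
          (F.map f₂.op.toLoc).toFunctor.map (homG F f₀ ψ) ≫
            mcInvG F f₀.op.toLoc f₂.op.toLoc q.op.toLoc h₂ N := by
  have hc : (F.map f₁.op.toLoc).toFunctor.map (homG F f₀ ψ) ≫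
      (mcInvG F f₀.op.toLoc f₁.op.toLoc q.op.toLoc h₁ N ≫
        mcHomG F f₀.op.toLoc f₂.op.toLoc q.op.toLoc h₂ N) =
      (mcInvG F f₀.op.toLoc f₁.op.toLoc q.op.toLoc h₁ M ≫
        mcHomG F f₀.op.toLoc f₂.op.toLoc q.op.toLoc h₂ M) ≫
      (F.map f₂.op.toLoc).toFunctor.map (homG F f₀ ψ) :=
    ψ.comm q (i₁ := PUnit.unit) (i₂ := PUnit.unit) f₁ f₂ hf₁ hf₂
  have h3 := mcHomG_mcInvG F f₀.op.toLoc f₂.op.toLoc q.op.toLoc h₂ N
  have h4 := congrArg (fun k => k ≫ mcInvG F f₀.op.toLoc f₂.op.toLoc q.op.toLoc h₂ N) hc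
  simp only [Category.assoc] at h4
  rw [h3, Category.comp_id] at h4
  exact h4

theorem bijective_generic {S X Y : C} (f₀ : X ⟶ S) (q : Y ⟶ S) (f₁ f₂ : Y ⟶ X)
    (hf₁ : f₁ ≫ f₀ = q) (hf₂ : f₂ ≫ f₀ = q)
    (h₁ : f₀.op.toLoc ≫ f₁.op.toLoc = q.op.toLoc)
    (h₂ : f₀.op.toLoc ≫ f₂.op.toLoc = q.op.toLoc)
    (M N : F.obj (.mk (op S)))
    (hinj : ∀ φ φ' : M ⟶ N, (F.map f₀.op.toLoc).toFunctor.map φ =
      (F.map f₀.op.toLoc).toFunctor.map φ' → φ = φ')
    (H : ∀ ψ₀ : (F.map f₀.op.toLoc).toFunctor.obj M ⟶ (F.map f₀.op.toLoc).toFunctor.obj N,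
      (F.map f₁.op.toLoc).toFunctor.map ψ₀ ≫
          mcInvG F f₀.op.toLoc f₁.op.toLoc q.op.toLoc h₁ N =
        mcInvG F f₀.op.toLoc f₁.op.toLoc q.op.toLoc h₁ M ≫
          mcHomG F f₀.op.toLoc f₂.op.toLoc q.op.toLoc h₂ M ≫
            (F.map f₂.op.toLoc).toFunctor.map ψ₀ ≫
              mcInvG F f₀.op.toLoc f₂.op.toLoc q.op.toLoc h₂ N →
      ∃ φ : M ⟶ N, (F.map f₀.op.toLoc).toFunctor.map φ = ψ₀) :
    Function.Bijective (fun φ : M ⟶ N =>
      (F.toDescentData (fun _ : PUnit.{t + 1} => f₀)).map φ) := by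
  constructor
  · intro φ φ' h
    apply hinj
    have h' := congrArg (fun k => homG F f₀ k) h
    exact h'
  · intro ψ
    obtain ⟨φ, hφ⟩ := H (homG F f₀ ψ) (comm_generic1 F f₀ ψ q f₁ f₂ hf₁ hf₂ h₁ h₂)
    refine ⟨φ, ?_⟩
    apply hom_ext_homG
    exact hφ

end Generic

section G

/-- the component of the image of a 2-morphism under the extension of scalars pseudofunctor -/
noncomputable def map2M {x y : LocallyDiscrete CommRingCat.{u}} {f g : x ⟶ y} (η : f ⟶ g)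
    (M : ModuleCat.{u} x.as) :
    (ModuleCat.extendScalars f.as.hom).obj M ⟶ (ModuleCat.extendScalars g.as.hom).obj M :=
  (CommRingCat.moduleCatExtendScalarsPseudofunctor.{u}.map₂ η).toNatTrans.app M

theorem map2M_eta {x y : LocallyDiscrete CommRingCat.{u}} {f g : x ⟶ y} (η : f ⟶ g)
    (M : ModuleCat.{u} x.as) (m : M) :
    map2M η M (etaC M f.as m) = etaC M g.as m := by
  obtain rfl : f = g := LocallyDiscrete.eq_of_hom η
  have hη : η = 𝟙 f := Subsingleton.elim _ _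
  subst hη
  unfold map2M
  rw [PrelaxFunctor.map₂_id]
  rfl

/-- the component of the composition isomorphism of the extension of scalars pseudofunctor -/
noncomputable def mapCompM {x y z : LocallyDiscrete CommRingCat.{u}} (f : x ⟶ y) (g : y ⟶ z)
    (M : ModuleCat.{u} x.as) :
    (ModuleCat.extendScalars (f ≫ g).as.hom).obj M ⟶
      (ModuleCat.extendScalars g.as.hom).obj ((ModuleCat.extendScalars f.as.hom).obj M) :=
  (CommRingCat.moduleCatExtendScalarsPseudofunctor.{u}.mapComp f g).hom.toNatTrans.app M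

theorem mapCompM_eta {x y z : LocallyDiscrete CommRingCat.{u}} (f : x ⟶ y) (g : y ⟶ z)
    (M : ModuleCat.{u} x.as) (m : M) :
    mapCompM f g M (etaC M (f ≫ g).as m) =
      etaC ((ModuleCat.extendScalars f.as.hom).obj M) g.as (etaC M f.as m) :=
  extendScalarsComp_hom_etaC M f.as g.as m

end G

end Groth.Agent.H3.PsDesc
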