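import Groth.Agent.Lib.Helper3.PsDescA

/-!
# Canonical descent data for a pseudofunctor of module categories: evaluation of the composition
isomorphisms on elements (Mathlib only)
-/

set_option autoImplicit false
set_option linter.unusedSectionVars false
open CategoryTheory Opposite TensorProduct
universe t v₁ u₁ u

namespace Groth.Agent.H3.PsDesc
open Groth.Agent.H3.PhiDesc

section Comp

variable {C : Type u₁} [Category.{v₁} C]
  (P : Pseudofunctor (LocallyDiscrete Cᵒᵖ) (LocallyDiscrete CommRingCat.{u}))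

/-- the pseudofunctor `Z ↦ (modules over the ring attached to Z)` -/
noncomputable abbrev FP : Pseudofunctor (LocallyDiscrete Cᵒᵖ) Cat.{u, u + 1} :=
  P.comp CommRingCat.moduleCatExtendScalarsPseudofunctor.{u}

set_option maxHeartbeats 50000 in
theorem mapComp_app_eq {x y z : LocallyDiscrete Cᵒᵖ} (f : x ⟶ y) (g : y ⟶ z)
    (M : ModuleCat.{u} (P.obj x).as) :
    ((FP P).mapComp f g).hom.toNatTrans.app M =
      map2M (P.mapComp f g).hom M ≫ mapCompM (P.map f) (P.map g) M := rfl

/-- the component of the composition isomorphism, in module form -/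
noncomputable def mcHomM {x y z : LocallyDiscrete Cᵒᵖ} (a : x ⟶ y) (b : y ⟶ z) (c : x ⟶ z)
    (h : a ≫ b = c) (M : ModuleCat.{u} (P.obj x).as) :
    (ModuleCat.extendScalars (P.map c).as.hom).obj M ⟶
      (ModuleCat.extendScalars (P.map b).as.hom).obj
        ((ModuleCat.extendScalars (P.map a).as.hom).obj M) :=
  mcHomG (FP P) a b c h M

/-- the component of the inverse of the composition isomorphism, in module form -/
noncomputable def mcInvM {x y z : LocallyDiscrete Cᵒᵖ} (a : x ⟶ y) (b : y ⟶ z) (c : x ⟶ z)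
    (h : a ≫ b = c) (M : ModuleCat.{u} (P.obj x).as) :
    (ModuleCat.extendScalars (P.map b).as.hom).obj
        ((ModuleCat.extendScalars (P.map a).as.hom).obj M) ⟶
      (ModuleCat.extendScalars (P.map c).as.hom).obj M :=
  mcInvG (FP P) a b c h M

set_option maxHeartbeats 50000 in
theorem mcHomM_mcInvM {x y z : LocallyDiscrete Cᵒᵖ} (a : x ⟶ y) (b : y ⟶ z) (c : x ⟶ z)
    (h : a ≫ b = c) (M : ModuleCat.{u} (P.obj x).as) :
    mcHomM P a b c h M ≫ mcInvM P a b c h M = 𝟙 _ :=
  mcHomG_mcInvG (FP P) a b c h M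

set_option maxHeartbeats 50000 in
theorem mcHomM_eq {x y z : LocallyDiscrete Cᵒᵖ} (a : x ⟶ y) (b : y ⟶ z)
    (M : ModuleCat.{u} (P.obj x).as) :
    mcHomM P a b (a ≫ b) rfl M =
      map2M (P.mapComp a b).hom M ≫ mapCompM (P.map a) (P.map b) M :=
  (mcHomG_eq (FP P) a b M).trans (mapComp_app_eq P a b M)

set_option maxHeartbeats 50000 in
theorem mcHomM_eta {x y z : LocallyDiscrete Cᵒᵖ} (a : x ⟶ y) (b : y ⟶ z) (c : x ⟶ z)
    (h : a ≫ b = c) (M : ModuleCat.{u} (P.obj x).as) (m : M) :
    mcHomM P a b c h M (etaC M (P.map c).as m) =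
      etaC ((ModuleCat.extendScalars (P.map a).as.hom).obj M) (P.map b).as
        (etaC M (P.map a).as m) := by
  subst h
  have h1 := ModuleCat.comp_apply (map2M (P.mapComp a b).hom M)
    (mapCompM (P.map a) (P.map b) M) (etaC M (P.map (a ≫ b)).as m)
  have h2 := map2M_eta (P.mapComp a b).hom M m
  have h3 := mapCompM_eta (P.map a) (P.map b) M m
  rw [mcHomM_eq]
  exact h1.trans ((congrArg (fun z => mapCompM (P.map a) (P.map b) M z) h2).trans h3)

set_option maxHeartbeats 50000 in
theorem mcInvM_eta {x y z : LocallyDiscrete Cᵒᵖ} (a : x ⟶ y) (b : y ⟶ z) (c : x ⟶ z)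
    (h : a ≫ b = c) (M : ModuleCat.{u} (P.obj x).as) (m : M) :
    mcInvM P a b c h M
      (etaC ((ModuleCat.extendScalars (P.map a).as.hom).obj M) (P.map b).as
        (etaC M (P.map a).as m)) = etaC M (P.map c).as m := by
  have h1 := ModuleCat.comp_apply (mcHomM P a b c h M) (mcInvM P a b c h M)
    (etaC M (P.map c).as m)
  have h2 := congrArg (fun k => k.hom (etaC M (P.map c).as m)) (mcHomM_mcInvM P a b c h M)
  rw [← mcHomM_eta P a b c h M m]
  exact h1.symm.trans h2

end Comp

end Groth.Agent.H3.PsDesc
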