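import Groth.Agent.Lib.Helper3.PsDescB

/-!
# Canonical descent data for a pseudofunctor of module categories: full faithfulness on flat
modules (Mathlib only)
-/

set_option autoImplicit false
set_option linter.unusedSectionVars false
open CategoryTheory Opposite TensorProduct
universe t v₁ u₁ u

namespace Groth.Agent.H3.PsDesc
open Groth.Agent.H3.PhiDesc

section EtaAdd

variable {A B : CommRingCat.{u}}

/-- `n ↦ 1 ⊗ n` as an additive map -/
noncomputable def etaAdd (N : ModuleCat.{u} A) (g : A ⟶ B) :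
    N →+ (ModuleCat.extendScalars g.hom).obj N where
  toFun n := etaC N g n
  map_zero' := etaC_zero N g
  map_add' n n' := etaC_add N g n n'

theorem etaAdd_apply (N : ModuleCat.{u} A) (g : A ⟶ B) (n : N) : etaAdd N g n = etaC N g n := rfl

end EtaAdd

section Main

variable {C : Type u₁} [Category.{v₁} C]
  (P : Pseudofunctor (LocallyDiscrete Cᵒᵖ) (LocallyDiscrete CommRingCat.{u}))

theorem map_comp_eq {x y z : LocallyDiscrete Cᵒᵖ} (a : x ⟶ y) (b : y ⟶ z) (c : x ⟶ z)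
    (h : a ≫ b = c) : (P.map a).as ≫ (P.map b).as = (P.map c).as := by
  subst h
  exact (congrArg (fun k => k.as) (LocallyDiscrete.eq_of_hom (P.mapComp a b).hom)).symm

/-- the additive map `y ↦ mcInv (1 ⊗ y)` -/
noncomputable def uMap {x y z : LocallyDiscrete Cᵒᵖ} (a : x ⟶ y) (b : y ⟶ z) (c : x ⟶ z)
    (h : a ≫ b = c) (N : ModuleCat.{u} (P.obj x).as) :
    (ModuleCat.extendScalars (P.map a).as.hom).obj N →+
      (ModuleCat.extendScalars (P.map c).as.hom).obj N :=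
  (ConcreteCategory.hom (mcInvM P a b c h N)).toAddMonoidHom.comp
    (etaAdd ((ModuleCat.extendScalars (P.map a).as.hom).obj N) (P.map b).as)

theorem uMap_apply {x y z : LocallyDiscrete Cᵒᵖ} (a : x ⟶ y) (b : y ⟶ z) (c : x ⟶ z)
    (h : a ≫ b = c) (N : ModuleCat.{u} (P.obj x).as)
    (e : (ModuleCat.extendScalars (P.map a).as.hom).obj N) :
    uMap P a b c h N e = mcInvM P a b c h N
      (etaC ((ModuleCat.extendScalars (P.map a).as.hom).obj N) (P.map b).as e) := by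
  unfold uMap
  rw [AddMonoidHom.comp_apply, LinearMap.toAddMonoidHom_coe, etaAdd_apply]

set_option maxHeartbeats 50000 in
theorem uMap_smul_eta {x y z : LocallyDiscrete Cᵒᵖ} (a : x ⟶ y) (b : y ⟶ z) (c : x ⟶ z)
    (h : a ≫ b = c) (N : ModuleCat.{u} (P.obj x).as) (s : (P.obj y).as) (n : N) :
    uMap P a b c h N (s • etaC N (P.map a).as n) =
      ((P.map b).as.hom s : (P.obj z).as) • etaC N (P.map c).as n := by
  rw [uMap_apply, etaC_smul, map_smul, mcInvM_eta]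


set_option maxHeartbeats 100000 in
theorem exists_eta_eq {x y z : LocallyDiscrete Cᵒᵖ} (a₀ : x ⟶ y) (a₁ a₂ : y ⟶ z) (aq : x ⟶ z)
    (h₁ : a₀ ≫ a₁ = aq) (h₂ : a₀ ≫ a₂ = aq)
    (M N : ModuleCat.{u} (P.obj x).as) [Module.Flat (P.obj x).as N]
    (hex : ∀ b : (P.obj y).as, (P.map a₁).as.hom b = (P.map a₂).as.hom b →
      ∃ a : (P.obj x).as, (P.map a₀).as.hom a = b)
    (ψ₀ : (ModuleCat.extendScalars (P.map a₀).as.hom).obj M ⟶
      (ModuleCat.extendScalars (P.map a₀).as.hom).obj N)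
    (hc : (ModuleCat.extendScalars (P.map a₁).as.hom).map ψ₀ ≫ mcInvM P a₀ a₁ aq h₁ N =
        mcInvM P a₀ a₁ aq h₁ M ≫ mcHomM P a₀ a₂ aq h₂ M ≫
          (ModuleCat.extendScalars (P.map a₂).as.hom).map ψ₀ ≫ mcInvM P a₀ a₂ aq h₂ N)
    (m : M) :
    ∃ n : N, etaC N (P.map a₀).as n = ψ₀ (etaC M (P.map a₀).as m) := by
  have hc2 := ConcreteCategory.congr_hom hc
    (etaC ((ModuleCat.extendScalars (P.map a₀).as.hom).obj M) (P.map a₁).as
      (etaC M (P.map a₀).as m))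
  rw [ModuleCat.comp_apply, ModuleCat.comp_apply, ModuleCat.comp_apply, ModuleCat.comp_apply,
    map_etaC, mcInvM_eta, mcHomM_eta, map_etaC, ← uMap_apply, ← uMap_apply] at hc2
  exact exists_of_eq (P.map a₀).as (P.map a₁).as (P.map a₂).as (P.map aq).as
    (map_comp_eq P a₀ a₁ aq h₁) (map_comp_eq P a₀ a₂ aq h₂) N hex
    (uMap P a₀ a₁ aq h₁ N) (uMap P a₀ a₂ aq h₂ N)
    (uMap_smul_eta P a₀ a₁ aq h₁ N) (uMap_smul_eta P a₀ a₂ aq h₂ N)
    (ψ₀ (etaC M (P.map a₀).as m)) hc2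


set_option maxHeartbeats 100000 in
theorem exists_hom_of_comm {x y z : LocallyDiscrete Cᵒᵖ} (a₀ : x ⟶ y) (a₁ a₂ : y ⟶ z)
    (aq : x ⟶ z) (h₁ : a₀ ≫ a₁ = aq) (h₂ : a₀ ≫ a₂ = aq)
    (M N : ModuleCat.{u} (P.obj x).as) [Module.Flat (P.obj x).as N]
    (hinj : Function.Injective (P.map a₀).as.hom)
    (hex : ∀ b : (P.obj y).as, (P.map a₁).as.hom b = (P.map a₂).as.hom b →
      ∃ a : (P.obj x).as, (P.map a₀).as.hom a = b)
    (ψ₀ : (ModuleCat.extendScalars (P.map a₀).as.hom).obj M ⟶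
      (ModuleCat.extendScalars (P.map a₀).as.hom).obj N)
    (hc : (ModuleCat.extendScalars (P.map a₁).as.hom).map ψ₀ ≫ mcInvM P a₀ a₁ aq h₁ N =
        mcInvM P a₀ a₁ aq h₁ M ≫ mcHomM P a₀ a₂ aq h₂ M ≫
          (ModuleCat.extendScalars (P.map a₂).as.hom).map ψ₀ ≫ mcInvM P a₀ a₂ aq h₂ N) :
    ∃ φ : M ⟶ N, (ModuleCat.extendScalars (P.map a₀).as.hom).map φ = ψ₀ := by
  choose f hf using exists_eta_eq P a₀ a₁ a₂ aq h₁ h₂ M N hex ψ₀ hc
  have hi : Function.Injective (etaC N (P.map a₀).as) := etaC_injective (P.map a₀).as N hinj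
  have hadd : ∀ m m', f (m + m') = f m + f m' := by
    intro m m'
    apply hi
    rw [hf, etaC_add, etaC_add, map_add, hf, hf]
  have hsmul : ∀ (r : (P.obj x).as) (m : M), f (r • m) = r • f m := by
    intro r m
    apply hi
    rw [hf, etaC_smul, etaC_smul, map_smul, hf]
  refine ⟨ModuleCat.ofHom { toFun := f, map_add' := hadd, map_smul' := hsmul }, ?_⟩
  apply hom_ext_etaC
  intro m
  rw [map_etaC]
  exact hf m

set_option maxHeartbeats 100000 in
theorem eq_of_map_eq {x y : LocallyDiscrete Cᵒᵖ} (a₀ : x ⟶ y)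
    (M N : ModuleCat.{u} (P.obj x).as) [Module.Flat (P.obj x).as N]
    (hinj : Function.Injective (P.map a₀).as.hom) (φ φ' : M ⟶ N)
    (h : (ModuleCat.extendScalars (P.map a₀).as.hom).map φ =
      (ModuleCat.extendScalars (P.map a₀).as.hom).map φ') : φ = φ' := by
  ext m
  apply etaC_injective (P.map a₀).as N hinj
  have h2 := ConcreteCategory.congr_hom h (etaC M (P.map a₀).as m)
  rw [map_etaC, map_etaC] at h2
  exact h2


set_option maxHeartbeats 100000 in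
theorem bijective_toDescentData {S X Y : C} (f₀ : X ⟶ S) (q : Y ⟶ S) (f₁ f₂ : Y ⟶ X)
    (hf₁ : f₁ ≫ f₀ = q) (hf₂ : f₂ ≫ f₀ = q)
    (M N : ModuleCat.{u} (P.obj (.mk (op S))).as) [Module.Flat (P.obj (.mk (op S))).as N]
    (hinj : Function.Injective (P.map f₀.op.toLoc).as.hom)
    (hex : ∀ b : (P.obj (.mk (op X))).as,
      (P.map f₁.op.toLoc).as.hom b = (P.map f₂.op.toLoc).as.hom b →
        ∃ a : (P.obj (.mk (op S))).as, (P.map f₀.op.toLoc).as.hom a = b) :
    Function.Bijective (fun φ : M ⟶ N =>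
      ((FP P).toDescentData (fun _ : PUnit.{t + 1} => f₀)).map φ) := by
  have h₁ : f₀.op.toLoc ≫ f₁.op.toLoc = q.op.toLoc := by
    rw [← hf₁]
    rfl
  have h₂ : f₀.op.toLoc ≫ f₂.op.toLoc = q.op.toLoc := by
    rw [← hf₂]
    rfl
  refine bijective_generic (FP P) f₀ q f₁ f₂ hf₁ hf₂ h₁ h₂ M N ?_ ?_
  · intro φ φ' h
    exact eq_of_map_eq P f₀.op.toLoc M N hinj φ φ' h
  · intro ψ₀ hc
    exact exists_hom_of_comm P f₀.op.toLoc f₁.op.toLoc f₂.op.toLoc q.op.toLoc h₁ h₂ M N hinj hex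
      ψ₀ hc

end Main

end Groth.Agent.H3.PsDesc
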