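import Mathlib

/-!
# Character-module duality: tensoring an exact sequence whose dual has a generalized inverse
(Mathlib only)
-/

set_option autoImplicit false
open TensorProduct CharacterModule
universe u

namespace Groth.Agent.H3.PureDesc

variable {R : Type u} [CommRing R] (S : Type u) [AddCommGroup S] [Module R S]
variable {X Y Z : Type u} [AddCommGroup X] [Module R X] [AddCommGroup Y] [Module R Y]
  [AddCommGroup Z] [Module R Z]

/-- functoriality of `X ↦ C(S ⊗ X)` in arbitrary linear maps between character modules -/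
noncomputable def extC (g : CharacterModule X →ₗ[R] CharacterModule Y) :
    CharacterModule (S ⊗[R] X) →ₗ[R] CharacterModule (S ⊗[R] Y) :=
  (homEquiv (R := R) (A := S) (B := Y)).toLinearMap ∘ₗ (LinearMap.compRight R g) ∘ₗ
    (homEquiv (R := R) (A := S) (B := X)).symm.toLinearMap

theorem extC_apply (g : CharacterModule X →ₗ[R] CharacterModule Y)
    (c : CharacterModule (S ⊗[R] X)) :
    extC S g c = homEquiv (g ∘ₗ homEquiv.symm c) := rfl

theorem extC_apply_tmul (g : CharacterModule X →ₗ[R] CharacterModule Y)
    (c : CharacterModule (S ⊗[R] X)) (s : S) (y : Y) :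
    extC S g c (s ⊗ₜ y) = g (homEquiv.symm c s) y := rfl

theorem extC_id : extC S (LinearMap.id : CharacterModule X →ₗ[R] CharacterModule X) =
    LinearMap.id := by
  ext c : 1
  rw [extC_apply, LinearMap.id_comp, LinearEquiv.apply_symm_apply]
  rfl

theorem extC_comp (g : CharacterModule X →ₗ[R] CharacterModule Y)
    (h : CharacterModule Y →ₗ[R] CharacterModule Z) :
    extC S (h ∘ₗ g) = extC S h ∘ₗ extC S g := by
  ext c : 1
  rw [LinearMap.comp_apply, extC_apply, extC_apply, extC_apply, LinearEquiv.symm_apply_apply,
    LinearMap.comp_assoc]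

theorem extC_dual (φ : Y →ₗ[R] X) : extC S (dual φ) = dual (LinearMap.lTensor S φ) := by
  ext c : 1
  apply CharacterModule.ext
  intro z
  induction z using TensorProduct.induction_on with
  | zero => rw [map_zero, map_zero]
  | tmul s y => rfl
  | add a b ha hb => rw [map_add, map_add, ha, hb]

section Exactness

variable {M N P : Type u} [AddCommGroup M] [Module R M] [AddCommGroup N] [Module R N]
  [AddCommGroup P] [Module R P]

/-- characters of `N` vanishing on `ker d` extend along `d` (left exactness of the dual) -/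
theorem exists_dual_eq_of_ker_le (d : N →ₗ[R] P) (χ : CharacterModule N)
    (h : ∀ n, d n = 0 → χ n = 0) : ∃ ψ : CharacterModule P, dual d ψ = χ := by
  have hs : Function.Surjective d.rangeRestrict := LinearMap.surjective_rangeRestrict d
  have hker : d.rangeRestrict.toAddMonoidHom.ker ≤ AddMonoidHom.ker (show N →+ AddCircle (1 : ℚ) from χ) := by
    intro n hn
    rw [AddMonoidHom.mem_ker] at hn ⊢
    apply h
    have := congrArg Subtype.val hn
    exact this
  let χ' : CharacterModule (LinearMap.range d) :=
    (d.rangeRestrict.toAddMonoidHom).liftOfRightInverse (Function.surjInv hs)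
      (Function.rightInverse_surjInv hs) ⟨(show N →+ AddCircle (1 : ℚ) from χ), hker⟩
  have hχ' : ∀ n, χ' (d.rangeRestrict n) = χ n := fun n =>
    AddMonoidHom.liftOfRightInverse_comp_apply _ _ _ _ n
  obtain ⟨ψ, hψ⟩ := dual_surjective_of_injective (LinearMap.range d).subtype
    (Submodule.injective_subtype _) χ'
  refine ⟨ψ, ?_⟩
  apply CharacterModule.ext
  intro n
  have := congrArg (fun c => c (d.rangeRestrict n)) hψ
  exact this.trans (hχ' n)

/-- If the dual `δ` of `d` admits a generalized inverse `t` (`δ t δ = δ`), then tensoring the left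
exact sequence `0 → M → N → P` with any module stays left exact. -/
theorem lTensor_exact_of_dual_genInverse (i : M →ₗ[R] N) (d : N →ₗ[R] P)
    (hi : Function.Injective i) (hex : Function.Exact i d)
    (t : CharacterModule N →ₗ[R] CharacterModule P)
    (ht : dual d ∘ₗ t ∘ₗ dual d = dual d) :
    Function.Injective (LinearMap.lTensor S i) ∧
      Function.Exact (LinearMap.lTensor S i) (LinearMap.lTensor S d) := by
  classical
  set π := dual i with hπdef
  set δ := dual d with hδdef
  have hπ : Function.Surjective π := dual_surjective_of_injective i hi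
  have hπδ : π ∘ₗ δ = 0 := by
    rw [hπdef, hδdef, ← dual_comp]
    have : d ∘ₗ i = 0 := by
      ext m
      exact hex.apply_apply_eq_zero m
    rw [this, dual_zero]
  have hker : ∀ χ, π χ = 0 → ∃ ψ, δ ψ = χ := by
    intro χ hχ
    apply exists_dual_eq_of_ker_le d χ
    intro n hn
    obtain ⟨m, rfl⟩ := (hex n).mp hn
    exact congrArg (fun c => c m) hχ
  set e : CharacterModule N →ₗ[R] CharacterModule N := LinearMap.id - δ ∘ₗ t with hedef
  have heδ : e ∘ₗ δ = 0 := by
    rw [hedef, LinearMap.sub_comp, LinearMap.id_comp, LinearMap.comp_assoc, ht, sub_self]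
  have hπe : π ∘ₗ e = π := by
    rw [hedef, LinearMap.comp_sub, LinearMap.comp_id, ← LinearMap.comp_assoc, hπδ,
      LinearMap.zero_comp, sub_zero]
  have hle : LinearMap.ker π ≤ LinearMap.ker e := by
    intro χ hχ
    obtain ⟨ψ, rfl⟩ := hker χ hχ
    exact LinearMap.congr_fun heδ ψ
  let sec : CharacterModule M →ₗ[R] CharacterModule N :=
    (LinearMap.ker π).liftQ e hle ∘ₗ (π.quotKerEquivOfSurjective hπ).symm.toLinearMap
  have hsec : π ∘ₗ sec = LinearMap.id := by
    ext c : 1
    obtain ⟨χ, rfl⟩ := hπ c
    simp only [sec, LinearMap.comp_apply, LinearEquiv.coe_coe,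
      LinearMap.quotKerEquivOfSurjective_symm_apply, Submodule.liftQ_apply, LinearMap.id_apply]
    exact LinearMap.congr_fun hπe χ
  -- injectivity
  have hinj : Function.Injective (LinearMap.lTensor S i) := by
    rw [← dual_surjective_iff_injective (R := R), ← extC_dual]
    intro c'
    refine ⟨extC S sec c', ?_⟩
    rw [← LinearMap.comp_apply, ← extC_comp, hsec, extC_id, LinearMap.id_apply]
  refine ⟨hinj, ?_⟩
  -- key: characters killed by the dual of `S ⊗ i` come from `S ⊗ P`
  have hkey : ∀ c : CharacterModule (S ⊗[R] N), dual (LinearMap.lTensor S i) c = 0 →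
      ∃ c'', dual (LinearMap.lTensor S d) c'' = c := by
    intro c hc
    rw [← extC_dual, extC_apply] at hc
    have hL : π ∘ₗ homEquiv.symm c = 0 := by
      have := congrArg (homEquiv (R := R) (A := S) (B := M)).symm hc
      rwa [LinearEquiv.symm_apply_apply, map_zero] at this
    have hL2 : (δ ∘ₗ t) ∘ₗ homEquiv.symm c = homEquiv.symm c := by
      ext s : 1
      obtain ⟨ψ, hψ⟩ := hker (homEquiv.symm c s) (LinearMap.congr_fun hL s)
      rw [LinearMap.comp_apply, ← hψ]
      exact LinearMap.congr_fun ht ψ
    refine ⟨extC S t c, ?_⟩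
    rw [← extC_dual, ← LinearMap.comp_apply, ← extC_comp, extC_apply, hL2,
      LinearEquiv.apply_symm_apply]
  intro y
  constructor
  · intro hy
    by_contra hcon
    set W := LinearMap.range (LinearMap.lTensor S i) with hW
    have hne : W.mkQ y ≠ 0 := by
      intro h0
      exact hcon ((Submodule.Quotient.mk_eq_zero W).mp h0)
    obtain ⟨c₀, hc₀⟩ := exists_character_apply_ne_zero_of_ne_zero hne
    set c := dual W.mkQ c₀ with hc
    have hc1 : dual (LinearMap.lTensor S i) c = 0 := by
      rw [hc, ← LinearMap.comp_apply, ← dual_comp]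
      have : W.mkQ ∘ₗ LinearMap.lTensor S i = 0 := by
        refine LinearMap.ext fun x => ?_
        exact (Submodule.Quotient.mk_eq_zero W).mpr ⟨x, rfl⟩
      rw [this, dual_zero, LinearMap.zero_apply]
    obtain ⟨c'', hc''⟩ := hkey c hc1
    apply hc₀
    have h1 : c y = c₀ (W.mkQ y) := rfl
    rw [← h1, ← hc'']
    change c'' (LinearMap.lTensor S d y) = 0
    rw [hy, map_zero]
  · rintro ⟨x, rfl⟩
    rw [← LinearMap.comp_apply, ← LinearMap.lTensor_comp]
    have : d ∘ₗ i = 0 := by
      ext m
      exact hex.apply_apply_eq_zero m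
    rw [this, LinearMap.lTensor_zero, LinearMap.zero_apply]

end Exactness

end Groth.Agent.H3.PureDesc
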