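import Groth.Agent.Lib.Helper3.PureDescA
import Groth.Agent.Lib.Helper3.PureDescB

/-!
# Universally injective ring maps: the character-module section and the comodule lemma
(Mathlib only)
-/

set_option autoImplicit false
open TensorProduct CharacterModule
universe u

namespace Groth.Agent.H3.PureDesc

section Section

variable {R S : Type u} [CommRing R] [CommRing S] [Algebra R S]

/-- For a universally injective ring map `R → S`, the restriction `C(S) → C(R)` of characters has an
`R`-linear section. -/
theorem exists_section_of_univInjective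
    (hp : ∀ (P : Type u) [AddCommGroup P] [Module R P],
      Function.Injective (LinearMap.lTensor P (Algebra.linearMap R S))) :
    ∃ σ : CharacterModule R →ₗ[R] CharacterModule S,
      dual (Algebra.linearMap R S) ∘ₗ σ = LinearMap.id := by
  have h1 : Function.Injective (LinearMap.rTensor (CharacterModule R) (Algebra.linearMap R S)) :=
    (LinearMap.lTensor_inj_iff_rTensor_inj _ _).mp (hp (CharacterModule R))
  have h2 := rTensor_injective_iff_lcomp_surjective.mp h1
  -- evaluation at `1`
  let ev1 : CharacterModule (CharacterModule R) :=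
    { toFun := fun χ => χ 1
      map_zero' := rfl
      map_add' := fun _ _ => rfl }
  obtain ⟨τ, hτ⟩ := h2 (LinearMap.toSpanSingleton R _ ev1)
  have hτ' : ∀ (r : R) (χ : CharacterModule R), τ (algebraMap R S r) χ = χ r := by
    intro r χ
    have := congrArg (fun L => L r χ) hτ
    simp only [LinearMap.lcomp_apply', LinearMap.toSpanSingleton_apply] at this
    refine this.trans ?_
    change (r • χ) 1 = χ r
    rw [CharacterModule.smul_apply, smul_eq_mul, mul_one]
  refine ⟨{ toFun := fun χ =>
              { toFun := fun s => τ s χ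
                map_zero' := by rw [map_zero]; rfl
                map_add' := fun s s' => by rw [map_add]; rfl }
            map_add' := fun χ χ' => by
              apply CharacterModule.ext
              intro s
              exact map_add (τ s) χ χ'
            map_smul' := fun r χ => by
              apply CharacterModule.ext
              intro s
              change τ s (r • χ) = τ (r • s) χ
              rw [LinearMap.map_smul]
              rfl }, ?_⟩
  ext χ : 1
  apply CharacterModule.ext
  intro r
  exact hτ' r χ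

end Section

section Natural

variable {R S : Type u} [CommRing R] [CommRing S] [Algebra R S]
variable (σ : CharacterModule R →ₗ[R] CharacterModule S)
variable {X Y : Type u} [AddCommGroup X] [Module R X] [AddCommGroup Y] [Module R Y]

/-- the character `r ↦ χ (r • x)` of `R` -/
noncomputable def chi (χ : CharacterModule X) : X →ₗ[R] CharacterModule R :=
  curry (dual (TensorProduct.rid R X).toLinearMap χ)

theorem chi_apply (χ : CharacterModule X) (x : X) (r : R) : chi χ x r = χ (r • x) := by
  change χ ((TensorProduct.rid R X) (x ⊗ₜ r)) = _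
  rw [TensorProduct.rid_tmul]

/-- the natural transformation `C(X) → C(S ⊗ X)` induced by `σ : C(R) → C(S)` -/
noncomputable def sigmaX (X : Type u) [AddCommGroup X] [Module R X] :
    CharacterModule X →ₗ[R] CharacterModule (S ⊗[R] X) :=
  dual (TensorProduct.comm R S X).toLinearMap ∘ₗ uncurry ∘ₗ LinearMap.compRight R σ ∘ₗ curry ∘ₗ
    dual (TensorProduct.rid R X).toLinearMap

theorem sigmaX_apply_tmul (χ : CharacterModule X) (s : S) (x : X) :
    sigmaX σ X χ (s ⊗ₜ x) = σ (chi χ x) s := rfl

theorem sigmaX_natural (φ : X →ₗ[R] Y) :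
    sigmaX σ X ∘ₗ dual φ = dual (LinearMap.lTensor S φ) ∘ₗ sigmaX σ Y := by
  ext χ : 1
  apply CharacterModule.ext
  intro z
  induction z using TensorProduct.induction_on with
  | zero => rw [map_zero, map_zero]
  | tmul s x =>
    change sigmaX σ X (dual φ χ) (s ⊗ₜ x) = sigmaX σ Y χ (s ⊗ₜ φ x)
    rw [sigmaX_apply_tmul, sigmaX_apply_tmul]
    congr 2
    apply CharacterModule.ext
    intro r
    rw [chi_apply, chi_apply]
    change χ (φ (r • x)) = _
    rw [map_smul]
  | add a b ha hb => rw [map_add, map_add, ha, hb]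

theorem sigmaX_retract (hσ : dual (Algebra.linearMap R S) ∘ₗ σ = LinearMap.id) :
    dual (TensorProduct.mk R S X 1) ∘ₗ sigmaX σ X = LinearMap.id := by
  ext χ : 1
  apply CharacterModule.ext
  intro x
  change sigmaX σ X χ ((1 : S) ⊗ₜ x) = χ x
  rw [sigmaX_apply_tmul]
  have := congrArg (fun c => c (1 : R)) (LinearMap.congr_fun hσ (chi χ x))
  simp only [LinearMap.comp_apply, LinearMap.id_apply, dual_apply] at this
  have h1 : (Algebra.linearMap R S) (1 : R) = 1 := map_one (algebraMap R S)
  rw [chi_apply, one_smul] at this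
  rw [← this]
  change σ (chi χ x) 1 = σ (chi χ x) ((Algebra.linearMap R S) 1)
  rw [h1]

end Natural

section Comodule

variable {R S N P Q : Type u} [CommRing R] [CommRing S] [Algebra R S]
  [AddCommGroup N] [Module R N] [Module S N] [IsScalarTower R S N]
  [AddCommGroup P] [Module R P] [Module S P] [IsScalarTower R S P]
  [AddCommGroup Q] [Module R Q] [Module S Q] [IsScalarTower R S Q]

/-- Effectivity of descent for modules along a universally injective ring map: the abstract
comodule lemma. -/
theorem isBaseChange_eqLocus_pure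
    (hp : ∀ (P : Type u) [AddCommGroup P] [Module R P],
      Function.Injective (LinearMap.lTensor P (Algebra.linearMap R S)))
    (j : N →ₗ[R] P) (hj : IsBaseChange S j) (ρ : N →ₗ[S] P)
    (j' : P →ₗ[R] Q) (hj' : IsBaseChange S j')
    (hcounit : ∀ n, hj.lift LinearMap.id (ρ n) = n)
    (hcoassoc : ∀ n, hj.lift (j' ∘ₗ ρ.restrictScalars R) (ρ n) = hj.lift (j' ∘ₗ j) (ρ n)) :
    IsBaseChange S (LinearMap.eqLocus (ρ.restrictScalars R) j).subtype := by
  classical
  obtain ⟨σ, hσ⟩ := exists_section_of_univInjective hp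
  set ρR : N →ₗ[R] P := ρ.restrictScalars R with hρR
  set M := LinearMap.eqLocus ρR j with hM
  set d : N →ₗ[R] P := ρR - j with hd
  have hex : Function.Exact M.subtype d := by
    intro n
    constructor
    · intro hn
      have h2 : ρ n - j n = 0 := hn
      exact ⟨⟨n, (LinearMap.mem_eqLocus).mpr (sub_eq_zero.mp h2)⟩, rfl⟩
    · rintro ⟨m, rfl⟩
      have h2 : ρR m.1 = j m.1 := (LinearMap.mem_eqLocus).mp m.2
      change ρ m.1 - j m.1 = 0
      exact sub_eq_zero.mpr h2
  set ρ' : P →ₗ[S] Q := hj.lift (j' ∘ₗ ρR) with hρ'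
  set ι' : P →ₗ[S] Q := hj.lift (j' ∘ₗ j) with hι'
  have hρ'j : ∀ n, ρ' (j n) = j' (ρ n) := fun n => by
    rw [hρ', hj.lift_eq]; rfl
  have hι'j : ∀ n, ι' (j n) = j' (j n) := fun n => by
    rw [hι', hj.lift_eq]; rfl
  let e₁ : S ⊗[R] N ≃ₗ[S] P := hj.equiv
  let e₂ : S ⊗[R] P ≃ₗ[S] Q := hj'.equiv
  have hc1 : ∀ y : S ⊗[R] N, e₂ (LinearMap.lTensor S ρR y) = ρ' (e₁ y) := by
    intro y
    induction y using TensorProduct.induction_on with
    | zero => simp
    | tmul s n =>
      simp only [LinearMap.lTensor_tmul, e₁, e₂, IsBaseChange.equiv_tmul, map_smul, hρ'j]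
      rfl
    | add x y hx hy => simp only [map_add, hx, hy]
  have hc2 : ∀ y : S ⊗[R] N, e₂ (LinearMap.lTensor S j y) = ι' (e₁ y) := by
    intro y
    induction y using TensorProduct.induction_on with
    | zero => simp
    | tmul s n =>
      simp only [LinearMap.lTensor_tmul, e₁, e₂, IsBaseChange.equiv_tmul, map_smul, hι'j]
    | add x y hx hy => simp only [map_add, hx, hy]
  let u₁ : P →ₗ[R] S ⊗[R] N := (e₁.symm.toLinearMap).restrictScalars R
  have hu₁j : u₁ ∘ₗ j = TensorProduct.mk R S N 1 := by
    ext n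
    exact hj.equiv_symm_apply n
  have hkey : LinearMap.lTensor S ρR ∘ₗ u₁ ∘ₗ ρR = LinearMap.lTensor S j ∘ₗ u₁ ∘ₗ ρR := by
    ext n
    apply e₂.injective
    change e₂ (LinearMap.lTensor S ρR (e₁.symm (ρ n))) = e₂ (LinearMap.lTensor S j (e₁.symm (ρ n)))
    rw [hc1, hc2, LinearEquiv.apply_symm_apply]
    exact hcoassoc n
  set σP : CharacterModule N →ₗ[R] CharacterModule P := dual u₁ ∘ₗ sigmaX σ N with hσP
  have h_a : dual j ∘ₗ σP = LinearMap.id := by
    rw [hσP, ← LinearMap.comp_assoc, ← dual_comp, hu₁j, sigmaX_retract σ hσ]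
  set e : CharacterModule N →ₗ[R] CharacterModule N := dual ρR ∘ₗ σP with he
  have h_nat : ∀ φ : N →ₗ[R] P, e ∘ₗ dual φ =
      dual (LinearMap.lTensor S φ ∘ₗ u₁ ∘ₗ ρR) ∘ₗ sigmaX σ P := by
    intro φ
    have h1 : dual (LinearMap.lTensor S φ ∘ₗ u₁ ∘ₗ ρR) =
        dual ρR ∘ₗ dual u₁ ∘ₗ dual (LinearMap.lTensor S φ) := by
      rw [dual_comp, dual_comp, LinearMap.comp_assoc]
    rw [h1, he, hσP, LinearMap.comp_assoc, LinearMap.comp_assoc, LinearMap.comp_assoc,
      LinearMap.comp_assoc, sigmaX_natural σ φ]
  have h_b : e ∘ₗ dual ρR = e ∘ₗ dual j := by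
    rw [h_nat ρR, h_nat j, hkey]
  have hδ : dual d = dual ρR - dual j := by
    ext χ : 1
    apply CharacterModule.ext
    intro n
    change χ (ρR n - j n) = χ (ρR n) - χ (j n)
    rw [map_sub]
  have ht : dual d ∘ₗ (-σP) ∘ₗ dual d = dual d := by
    have h1 : dual d ∘ₗ σP = e - LinearMap.id := by
      rw [hδ, LinearMap.sub_comp, h_a]
    rw [LinearMap.neg_comp, LinearMap.comp_neg, ← LinearMap.comp_assoc, h1, LinearMap.sub_comp,
      LinearMap.id_comp, neg_sub, hδ, LinearMap.comp_sub, h_b, sub_self, sub_zero]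
  obtain ⟨hinj', hexact'⟩ := lTensor_exact_of_dual_genInverse S M.subtype d
    (Submodule.injective_subtype _) hex (-σP) ht
  exact isBaseChange_eqLocus_of_exact j hj ρ j' hj' hcounit hcoassoc hexact' hinj'

end Comodule

end Groth.Agent.H3.PureDesc
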