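import Groth.Agent.Lib.Helper3.PureDescD
import Groth.Agent.Lib.Helper1.UnivInj1

/-!
# Full faithfulness of `M ↦ S ⊗ M` into descent data for a universally injective ring map
-/

set_option autoImplicit false
set_option linter.unusedSectionVars false
open CategoryTheory Opposite TensorProduct
universe u

namespace Groth.Agent.H3.PureDesc

open Groth.Agent.H3.FFDesc

section Bridge

variable (R S : Type u) [CommRing R] [CommRing S] [Algebra R S]

/-- `S` with its algebra module structure versus `S` with the restricted module structure -/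
noncomputable def eS :
    S ≃ₗ[R] ((ModuleCat.restrictScalars (phi0 R S).hom).obj (ModuleCat.of S S)) :=
  { AddEquiv.refl S with
    map_smul' := fun r s => by
      change r • s = (algebraMap R S r) • s
      rw [Algebra.smul_def]
      rfl }

/-- the unbundled tensor product versus the bundled extension of scalars, additively -/
noncomputable def bridge (P : ModuleCat.{u} R) :
    S ⊗[R] P ≃+ ((ModuleCat.extendScalars (phi0 R S).hom).obj P) :=
  (TensorProduct.congr (eS R S) (LinearEquiv.refl R P)).toAddEquiv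

theorem bridge_one_tmul (P : ModuleCat.{u} R) (p : P) :
    bridge R S P ((1 : S) ⊗ₜ[R] p) = eta P (phi0 R S) p := rfl

variable {R S}

theorem eta_injective_of_pure (hp : Pi1.UnivInjective R S) (P : ModuleCat.{u} R) :
    Function.Injective (eta P (phi0 R S)) := by
  intro p q hpq
  apply Groth.Agent.Lib.Helper1.UnivInj.mk_one_injective hp P
  apply (bridge R S P).injective
  change bridge R S P ((1 : S) ⊗ₜ[R] p) = bridge R S P ((1 : S) ⊗ₜ[R] q)
  rw [bridge_one_tmul, bridge_one_tmul]
  exact hpq

theorem pure_of_eta_injective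
    (h : ∀ P : ModuleCat.{u} R, Function.Injective (eta P (phi0 R S))) :
    Pi1.UnivInjective R S := by
  intro P _ _ z w hzw
  apply (TensorProduct.rid R P).injective
  have key : ∀ z : P ⊗[R] R, LinearMap.lTensor P (Algebra.linearMap R S) z =
      (TensorProduct.comm R S P) ((1 : S) ⊗ₜ[R] (TensorProduct.rid R P z)) := by
    intro z
    induction z using TensorProduct.induction_on with
    | zero => simp
    | tmul p r =>
      rw [LinearMap.lTensor_tmul, TensorProduct.rid_tmul, TensorProduct.comm_tmul,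
        Algebra.linearMap_apply, Algebra.algebraMap_eq_smul_one, ← TensorProduct.smul_tmul,
        ← TensorProduct.smul_tmul']
    | add a b ha hb => simp only [map_add, ha, hb, TensorProduct.tmul_add]
  rw [key z, key w] at hzw
  have h2 := (TensorProduct.comm R S P).injective hzw
  apply h (ModuleCat.of R P)
  rw [← bridge_one_tmul, ← bridge_one_tmul]
  exact congrArg (bridge R S (ModuleCat.of R P)) h2

end Bridge

section Full

attribute [local instance] SndMap.algebra modCp modR towerN towerCpN towerX towerCpX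
attribute [local instance 10] modSX

variable {R S T2 : Type u} [CommRing R] [CommRing S] [CommRing T2] [Algebra R S] [Algebra R T2]
  [Algebra S T2] [SndMap S T2] [IsScalarTower R S T2] [IsScalarTower R (Cp S) T2]
  [Algebra.IsPushout R S (Cp S) T2]

variable (R S) in
/-- the canonical descent datum functor -/
noncomputable abbrev FD : ModuleCat.{u} R ⥤ Desc.ringModPF.{u}.DescentData
    (fun _ : PUnit.{u + 1} => (CommRingCat.ofHom (algebraMap R S)).op) :=
  Desc.ringModPF.{u}.toDescentData
    (fun _ : PUnit.{u + 1} => (CommRingCat.ofHom (algebraMap R S)).op)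

/-- the component of a morphism of canonical descent data -/
noncomputable def phiH {M M' : ModuleCat.{u} R} (φ : (FD R S).obj M ⟶ (FD R S).obj M') :
    (ModuleCat.extendScalars (phi0 R S).hom).obj M ⟶ DN ((FD R S).obj M') :=
  φ.hom PUnit.unit

theorem comm_phiH {M M' : ModuleCat.{u} R} (φ : (FD R S).obj M ⟶ (FD R S).obj M')
    {T : Type u} [CommRing T]
    (g₁ g₂ : CommRingCat.of S ⟶ CommRingCat.of T) (w : CommRingCat.of R ⟶ CommRingCat.of T)
    (h₁ : phi0 R S ≫ g₁ = w) (h₂ : phi0 R S ≫ g₂ = w)
    (h₁' : (phi0 R S).op.op.toLoc ≫ g₁.op.op.toLoc = w.op.op.toLoc)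
    (h₂' : (phi0 R S).op.op.toLoc ≫ g₂.op.op.toLoc = w.op.op.toLoc) :
    (ModuleCat.extendScalars g₁.hom).map (phiH φ) ≫
        Psi ((FD R S).obj M') g₁ g₂ (h₁.trans h₂.symm) =
      mcInv (phi0 R S) g₁ w h₁' M ≫ mcHom (phi0 R S) g₂ w h₂' M ≫
        (ModuleCat.extendScalars g₂.hom).map (phiH φ) := by
  subst h₁
  have hc := φ.comm (g₁.op ≫ (phi0 R S).op) (i₁ := PUnit.unit) (i₂ := PUnit.unit) g₁.op g₂.op rfl
    (by rw [← op_comp, ← op_comp, h₂])
  rw [← Category.assoc]
  exact hc

theorem mem_Msub_of_hom {M M' : ModuleCat.{u} R} (φ : (FD R S).obj M ⟶ (FD R S).obj M') (m : M) :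
    phiH φ (eta M (phi0 R S) m) ∈ Msub T2 ((FD R S).obj M') := by
  have h₂' : (phi0 R S).op.op.toLoc ≫ (snd S T2).op.op.toLoc =
      (phi0 R S ≫ fst S T2).op.op.toLoc := by
    rw [phi0_fst_snd]
    rfl
  have hc := comm_phiH φ (fst S T2) (snd S T2) (phi0 R S ≫ fst S T2) rfl
    phi0_fst_snd.symm rfl h₂'
  have hc2 := ConcreteCategory.congr_hom hc
    (eta (A := S) ((ModuleCat.extendScalars (phi0 R S).hom).obj M) (fst S T2)
      (eta M (phi0 R S) m))
  change Psi ((FD R S).obj M') (fst S T2) (snd S T2) phi0_fst_snd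
      ((ModuleCat.extendScalars (fst S T2).hom).map (phiH φ)
        (eta (A := S) ((ModuleCat.extendScalars (phi0 R S).hom).obj M) (fst S T2)
          (eta M (phi0 R S) m))) =
    (ModuleCat.extendScalars (snd S T2).hom).map (phiH φ)
      (mcHom (phi0 R S) (snd S T2) (phi0 R S ≫ fst S T2) h₂' M
        (mcInv (phi0 R S) (fst S T2) (phi0 R S ≫ fst S T2) rfl M
          (eta (A := S) ((ModuleCat.extendScalars (phi0 R S).hom).obj M) (fst S T2)
            (eta M (phi0 R S) m)))) at hc2
  rw [map_eta, mcInv_eta _ _ _ rfl, mcHom_eta _ _ _ phi0_fst_snd.symm, map_eta] at hc2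
  exact hc2

/-- the identity, from `S ⊗ M'` to the underlying module of the canonical descent datum -/
noncomputable def castN (M' : ModuleCat.{u} R) :
    (ModuleCat.extendScalars (phi0 R S).hom).obj M' ⟶ DN ((FD R S).obj M') := 𝟙 _

theorem castN_apply (M' : ModuleCat.{u} R) (a : (ModuleCat.extendScalars (phi0 R S).hom).obj M') :
    castN M' a = a := rfl

theorem hom_eq_of_phiH {M M' : ModuleCat.{u} R} (φ ψ : (FD R S).obj M ⟶ (FD R S).obj M')
    (h : phiH φ = phiH ψ) : φ = ψ := by
  apply Pseudofunctor.DescentData.hom_ext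
  intro i
  exact h

theorem phiH_map {M M' : ModuleCat.{u} R} (f : M ⟶ M') :
    phiH ((FD R S).map f) = (ModuleCat.extendScalars (phi0 R S).hom).map f ≫ castN M' :=
  (Category.comp_id _).symm

theorem eta_mem_Msub (M' : ModuleCat.{u} R) (m' : M') :
    castN M' (eta M' (phi0 R S) m') ∈ Msub T2 ((FD R S).obj M') :=
  mem_Msub_of_hom (T2 := T2) (𝟙 ((FD R S).obj M')) m'

variable (S T2) in
/-- the map from `M'` to the descended module of its canonical descent datum -/
noncomputable def iotaM (M' : ModuleCat.{u} R) :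
    M' ⟶ Mc (DN ((FD R S).obj M')) (Msub T2 ((FD R S).obj M')) :=
  ModuleCat.ofHom
    { toFun := fun m' => ⟨castN M' (eta M' (phi0 R S) m'), eta_mem_Msub M' m'⟩
      map_add' := fun a b => Subtype.ext (by
        change castN M' (eta M' (phi0 R S) (a + b)) =
          castN M' (eta M' (phi0 R S) a) + castN M' (eta M' (phi0 R S) b)
        rw [eta_add, map_add])
      map_smul' := fun r a => Subtype.ext (by
        change castN M' (eta M' (phi0 R S) (r • a)) =
          ((phi0 R S).hom r : S) • castN M' (eta M' (phi0 R S) a)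
        rw [eta_smul, map_smul]) }

theorem iotaM_val (M' : ModuleCat.{u} R) (m' : M') :
    (iotaM S T2 M' m').1 = castN M' (eta M' (phi0 R S) m') := rfl

theorem map_iotaM_eHom (M' : ModuleCat.{u} R) :
    (ModuleCat.extendScalars (phi0 R S).hom).map (iotaM S T2 M') ≫
      eHom (DN ((FD R S).obj M')) (Msub T2 ((FD R S).obj M')) = castN M' := by
  apply hom_ext_eta
  intro m'
  rw [ModuleCat.comp_apply, map_eta, eHom_eta]
  rfl

theorem iotaM_injective (hp : Pi1.UnivInjective R S) (M' : ModuleCat.{u} R) :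
    Function.Injective (iotaM S T2 M') := by
  intro a b hab
  apply eta_injective_of_pure hp M'
  exact congrArg Subtype.val hab

theorem iotaM_surjective (hp : Pi1.UnivInjective R S) (M' : ModuleCat.{u} R)
    (hM : IsBaseChange S (Msub T2 ((FD R S).obj M')).subtype) :
    Function.Surjective (iotaM S T2 M') := by
  intro x
  -- the cokernel
  let Q : Submodule R (Msub T2 ((FD R S).obj M')) := LinearMap.range (iotaM S T2 M').hom
  let C : ModuleCat.{u} R := ModuleCat.of R (Msub T2 ((FD R S).obj M') ⧸ Q)
  let π : Mc (DN ((FD R S).obj M')) (Msub T2 ((FD R S).obj M')) ⟶ C := ModuleCat.ofHom Q.mkQ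
  have hπ : iotaM S T2 M' ≫ π = 0 := by
    ext m'
    change Q.mkQ (iotaM S T2 M' m') = 0
    rw [Submodule.mkQ_apply, Submodule.Quotient.mk_eq_zero]
    exact ⟨m', rfl⟩
  have hinv : (ModuleCat.extendScalars (phi0 R S).hom).map (iotaM S T2 M') =
      castN M' ≫ (eIso (DN ((FD R S).obj M')) (Msub T2 ((FD R S).obj M')) hM).inv :=
    (Iso.eq_comp_inv _).mpr (map_iotaM_eHom M')
  have h1 : castN M' ≫ (eIso (DN ((FD R S).obj M')) (Msub T2 ((FD R S).obj M')) hM).inv ≫
      (ModuleCat.extendScalars (phi0 R S).hom).map π = 0 := by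
    rw [← Category.assoc, ← hinv, ← Functor.map_comp, hπ, Functor.map_zero]
  have hz : ∀ z : XM (DN ((FD R S).obj M')) (Msub T2 ((FD R S).obj M')),
      (ModuleCat.extendScalars (phi0 R S).hom).map π z = 0 := by
    intro z
    have e1 : (eIso (DN ((FD R S).obj M')) (Msub T2 ((FD R S).obj M')) hM).inv
        ((eIso (DN ((FD R S).obj M')) (Msub T2 ((FD R S).obj M')) hM).hom z) = z :=
      ConcreteCategory.congr_hom
        (eIso (DN ((FD R S).obj M')) (Msub T2 ((FD R S).obj M')) hM).hom_inv_id z
    have e2 := ConcreteCategory.congr_hom h1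
      (show ((ModuleCat.extendScalars (phi0 R S).hom).obj M' : Type u) from
        (eIso (DN ((FD R S).obj M')) (Msub T2 ((FD R S).obj M')) hM).hom z)
    rw [← e1]
    exact e2
  have hx : eta C (phi0 R S) (π x) = eta C (phi0 R S) 0 := by
    rw [← map_eta, hz]
    have h0 : eta C (phi0 R S) 0 = 0 :=
      map_zero ((ModuleCat.extendRestrictScalarsAdj (phi0 R S).hom).unit.app C).hom
    rw [h0]
  have hx2 : π x = 0 := eta_injective_of_pure hp C hx
  have hx3 : x ∈ Q := by
    have : Q.mkQ x = 0 := hx2
    rwa [Submodule.mkQ_apply, Submodule.Quotient.mk_eq_zero] at this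
  obtain ⟨m', hm'⟩ := hx3
  exact ⟨m', hm'⟩

theorem exists_eta_eq (hp : Pi1.UnivInjective R S) {M M' : ModuleCat.{u} R}
    (hM : IsBaseChange S (Msub T2 ((FD R S).obj M')).subtype)
    (φ : (FD R S).obj M ⟶ (FD R S).obj M') (m : M) :
    ∃ m' : M', castN M' (eta M' (phi0 R S) m') = phiH φ (eta M (phi0 R S) m) := by
  obtain ⟨m', hm'⟩ := iotaM_surjective hp M' hM
    ⟨phiH φ (eta M (phi0 R S) m), mem_Msub_of_hom (T2 := T2) φ m⟩
  exact ⟨m', congrArg Subtype.val hm'⟩

include T2 in
theorem full_of_pure (hp : Pi1.UnivInjective R S) {M M' : ModuleCat.{u} R}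
    (hM : IsBaseChange S (Msub T2 ((FD R S).obj M')).subtype)
    (φ : (FD R S).obj M ⟶ (FD R S).obj M') : ∃ f : M ⟶ M', (FD R S).map f = φ := by
  choose f hf using exists_eta_eq (T2 := T2) hp hM φ
  have hinj : Function.Injective (fun m' : M' => castN M' (eta M' (phi0 R S) m')) :=
    eta_injective_of_pure hp M'
  have hadd : ∀ a b, f (a + b) = f a + f b := by
    intro a b
    apply hinj
    change castN M' (eta M' (phi0 R S) (f (a + b))) = castN M' (eta M' (phi0 R S) (f a + f b))
    rw [eta_add, map_add, hf, hf, hf, eta_add, map_add]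
  have hsmul : ∀ (r : R) (a : M), f (r • a) = r • f a := by
    intro r a
    apply hinj
    change castN M' (eta M' (phi0 R S) (f (r • a))) = castN M' (eta M' (phi0 R S) (r • f a))
    rw [eta_smul, map_smul, hf, hf, eta_smul, map_smul]
  refine ⟨ModuleCat.ofHom { toFun := f, map_add' := hadd, map_smul' := hsmul }, ?_⟩
  apply hom_eq_of_phiH
  rw [phiH_map]
  apply hom_ext_eta
  intro m
  rw [ModuleCat.comp_apply, map_eta]
  exact hf m

theorem faithful_of_pure (hp : Pi1.UnivInjective R S) {M M' : ModuleCat.{u} R}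
    (f g : M ⟶ M') (h : (FD R S).map f = (FD R S).map g) : f = g := by
  ext m
  apply eta_injective_of_pure hp M'
  have h1 := congrArg phiH h
  rw [phiH_map, phiH_map] at h1
  have h2 := ConcreteCategory.congr_hom h1 (eta M (phi0 R S) m)
  rw [ModuleCat.comp_apply, ModuleCat.comp_apply, map_eta, map_eta] at h2
  exact h2

theorem eta_injective_of_faithful [(FD R S).Faithful] (P : ModuleCat.{u} R) :
    Function.Injective (eta P (phi0 R S)) := by
  let etaL : P →ₗ[R] (ModuleCat.extendScalars (phi0 R S).hom).obj P :=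
    { toFun := fun p => eta P (phi0 R S) p
      map_add' := fun a b => eta_add P (phi0 R S) a b
      map_smul' := fun r a => eta_smul P (phi0 R S) r a }
  let K : Submodule R P := LinearMap.ker etaL
  let k : ModuleCat.of R K ⟶ P := ModuleCat.ofHom K.subtype
  have hk : (FD R S).map k = (FD R S).map 0 := by
    apply hom_eq_of_phiH
    rw [phiH_map, phiH_map]
    apply hom_ext_eta
    intro x
    rw [ModuleCat.comp_apply, ModuleCat.comp_apply, map_eta, map_eta]
    have hx : etaL x.1 = 0 := x.2
    have h0 : eta P (phi0 R S) 0 = 0 := map_zero etaL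
    change castN P (eta P (phi0 R S) x.1) = castN P (eta P (phi0 R S) 0)
    rw [h0]
    exact congrArg (castN P) hx
  have hk0 : k = 0 := (FD R S).map_injective hk
  intro a b hab
  have hmem : a - b ∈ K := by
    change etaL (a - b) = 0
    rw [map_sub]
    exact sub_eq_zero.mpr hab
  have := congrArg (fun ψ : ModuleCat.of R K ⟶ P => ψ ⟨a - b, hmem⟩) hk0
  exact sub_eq_zero.mp this

end Full

end Groth.Agent.H3.PureDesc
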