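import Groth.Agent.Lib.Helper3.PureDescE

/-!
# Descent of modules along a ring map is an equivalence iff the map is universally injective
-/

set_option autoImplicit false
set_option linter.unusedSectionVars false
open CategoryTheory Opposite TensorProduct
universe u

namespace Groth.Agent.H3.PureDesc

open Groth.Agent.H3.FFDesc

section Concrete

variable (R S : Type u) [CommRing R] [CommRing S] [Algebra R S]

attribute [local instance] SndMap.algebra modCp modR towerN towerCpN towerX towerCpX
attribute [local instance 10] modSX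
attribute [local instance] sndMap2 sndMap3 tower2 tower3 pushout2 pushout3

theorem isBaseChange_Msub_concrete (hp : Pi1.UnivInjective R S)
    (D : Desc.ringModPF.{u}.DescentData
      (fun _ : PUnit.{u + 1} => (CommRingCat.ofHom (algebraMap R S)).op)) :
    IsBaseChange S (Msub (T2 R S) D).subtype := by
  refine isBaseChange_Msub_pure (T2 := T2 R S) (T3 := T3 R S) hp D (mu R S).toRingHom
    (q12 R S).toRingHom (q13 R S).toRingHom ?_ ?_ ?_ ?_ ?_ ?_
  · ext s
    exact AlgHom.congr_fun (mu_a1 R S) s
  · ext s
    exact AlgHom.congr_fun (mu_a2 R S) s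
  · ext s
    exact AlgHom.congr_fun (q12_a1 R S) s
  · ext s
    exact AlgHom.congr_fun (q12_a2 R S) s
  · ext s
    exact AlgHom.congr_fun (q13_a1 R S) s
  · ext s
    exact AlgHom.congr_fun (q13_a2 R S) s

theorem isEquivalence_of_pure (hp : Pi1.UnivInjective R S) : (FD R S).IsEquivalence := by
  have : (FD R S).Faithful := ⟨fun {M M'} f g h => faithful_of_pure hp f g h⟩
  have : (FD R S).Full :=
    ⟨fun {M M'} φ => full_of_pure (T2 := T2 R S) hp (isBaseChange_Msub_concrete R S hp _) φ⟩
  have : (FD R S).EssSurj := ⟨fun D => by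
    obtain ⟨M, ⟨e⟩⟩ := effective_pure R S hp D
    exact ⟨M, ⟨e⟩⟩⟩
  exact { }

theorem pure_of_faithful [(FD R S).Faithful] : Pi1.UnivInjective R S :=
  pure_of_eta_injective (fun P => eta_injective_of_faithful P)

theorem main :
    (Pi1.UnivInjective R S ↔ (FD R S).IsEquivalence) ∧
      (Nonempty (FD R S).FullyFaithful → Pi1.UnivInjective R S) := by
  refine ⟨⟨isEquivalence_of_pure R S, fun h => ?_⟩, fun h => ?_⟩
  · have := h
    exact pure_of_faithful R S
  · obtain ⟨ff⟩ := h
    have := ff.faithful
    exact pure_of_faithful R S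

end Concrete

end Groth.Agent.H3.PureDesc
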