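import Mathlib
import Groth.Prelude.Def_AlgSt4
import Groth.Agent.Lib.Helper3.AlgStAux

set_option autoImplicit false
universe v₆ u₆ v₅ u₅ v₄ u₄ v₃ u₃ v₂ u₂ w v u
open CategoryTheory CategoryTheory.Functor CategoryTheory.Limits Opposite AlgebraicGeometry

namespace Groth.Agent.H3.QCompactSt
open Groth.Agent.H3.FibCatAux Groth.Agent.H3.GerbAux Groth.Agent.H3.FpCalc Groth.Agent.H3.AlgStAux

variable {S : Scheme.{u}}

theorem isQuasiCompact_of_isEquivOver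
    {𝒳 : BasedCategory.{v₂, u₂} (Over S)} {𝒴 : BasedCategory.{v₃, u₃} (Over S)} (e : 𝒳 ⥤ᵇ 𝒴)
    (he : FibCat.IsEquivOver e) (h : AlgSt.IsQuasiCompact 𝒳) : AlgSt.IsQuasiCompact 𝒴 := by
  obtain ⟨U, x, hU, h1, h2⟩ := h
  refine ⟨U, BasedFunctor.comp x e, hU, ?_, ?_⟩
  · exact repByAlgSpWith_of_square' _ (BasedFunctor.comp x e) x (BasedFunctor.id _) e isEquivOver_id he
      (Iso.refl _) h1
  · exact repByAlgSpWith_of_square' _ (BasedFunctor.comp x e) x (BasedFunctor.id _) e isEquivOver_id he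
      (Iso.refl _) h2

theorem isQuasiCompactMor_fpFst (K : Precoverage Scheme.{u})
    {𝒳 : BasedCategory.{v₂, u₂} (Over S)} {𝒴 : BasedCategory.{v₃, u₃} (Over S)}
    {𝒴' : BasedCategory.{v₄, u₄} (Over S)} (f : 𝒳 ⥤ᵇ 𝒴) (g : 𝒴' ⥤ᵇ 𝒴)
    (hf : AlgSt.IsQuasiCompactMor K f) : AlgSt.IsQuasiCompactMor K (FibCat.fpFst g f) := by
  intro 𝒵 h𝒵 hqc h
  have h1 := hf 𝒵 h𝒵 hqc (BasedFunctor.comp h g)
  obtain ⟨M', hM', _, _⟩ := isEquivOver_symm (isEquivOver_pasteL h g f)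
  exact isQuasiCompact_of_isEquivOver M' hM' h1

end Groth.Agent.H3.QCompactSt
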