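import Mathlib
import Groth.Prelude.Def_FDesc
import Groth.Prelude.Def_ProCons
import Groth.Agent.Lib.Helper3.QFlatGen
import Groth.Agent.Lib.Helper2.ProConsLib
import Groth.Agent.S2495

set_option autoImplicit false

universe u

open AlgebraicGeometry CategoryTheory CategoryTheory.Limits TopologicalSpace

namespace Groth.Agent.H3.QFlatLC

open Groth.Agent.H2.ProConsLib

theorem main {X Y : Scheme.{u}} (f : X ⟶ Y)
    (hf : FDesc.IsQuasiFlat f) [Surjective f] [QuasiCompact f] (Z : Set ↥Y) :
    (IsLocallyClosed Z ∧ ProCons.IsProConstructible Z) ↔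
      (IsLocallyClosed (⇑f ⁻¹' Z) ∧ ProCons.IsProConstructible (⇑f ⁻¹' Z)) := by
  have hsurj : Function.Surjective f := f.surjective
  constructor
  · rintro ⟨h1, h2⟩
    exact ⟨h1.preimage f.continuous, isProConstructible_preimage f h2⟩
  · rintro ⟨h1, h2⟩
    have hZ : ProCons.IsProConstructible Z := by
      have := isProConstructible_image f h2
      rwa [Set.image_preimage_eq Z hsurj] at this
    refine ⟨?_, hZ⟩
    have hq : Topology.IsQuotientMap f := Groth.Agent.S2495.result f hf
    have hgen := QFlatGen.generalizingMap_of_isQuasiFlat f hf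
    have hcl : ⇑f ⁻¹' closure Z = closure (⇑f ⁻¹' Z) := by
      apply Set.Subset.antisymm
      · intro x hx
        obtain ⟨z, hzZ, hz⟩ := exists_specializes_of_mem_closure hZ hx
        obtain ⟨x', hx', hfx'⟩ := hgen hz
        exact hx'.mem_closed isClosed_closure (subset_closure (by show f x' ∈ Z; rw [hfx']; exact hzZ))
      · exact closure_minimal (Set.preimage_mono subset_closure) (isClosed_closure.preimage f.continuous)
    rw [isLocallyClosed_iff_isOpen_coborder] at h1 ⊢
    rw [← hq.isOpen_preimage]
    have : ⇑f ⁻¹' coborder Z = coborder (⇑f ⁻¹' Z) := by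
      rw [coborder_eq_union_closure_compl, coborder_eq_union_closure_compl, Set.preimage_union,
        Set.preimage_compl, hcl]
    rw [this]
    exact h1

end Groth.Agent.H3.QFlatLC
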