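import Mathlib
import Groth.Prelude.Def_RegImm
import Groth.Agent.Lib.Helper2.QuasiReg3
import Groth.Agent.Lib.Helper8.RegBC.QR
import Groth.Agent.Lib.Helper1.RegSpread
import Groth.Agent.Lib.Helper1.RegImm
import Groth.Agent.Lib.Lead.QC.Stalk
import Groth.Agent.Lib.Helper3.LciSmSch

/-! On locally Noetherian schemes quasi-regular ideals / immersions are regular. -/

set_option autoImplicit false
set_option linter.style.haveILetI false
universe u
open CategoryTheory AlgebraicGeometry

namespace Groth.Agent.H3.QRegNoeth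

/-- a quasi-regular sequence in a Noetherian ring contained in a prime `p` becomes regular
on a principal localization at some `g ∉ p`. -/
theorem exists_away_isRegular_of_isQuasiRegular {R : Type u} [CommRing R] [IsNoetherianRing R]
    (p : Ideal R) [p.IsPrime] (rs : List R) (hq : CAlgX.IsQuasiRegular rs.get)
    (hp : Ideal.ofList rs ≤ p) :
    ∃ g, g ∉ p ∧ RingTheory.Sequence.IsRegular (Localization.Away g)
      (rs.map (algebraMap R (Localization.Away g))) := by
  haveI : Module.Flat R (Localization.AtPrime p) := IsLocalization.flat _ p.primeCompl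
  have hq' : CAlgX.IsQuasiRegular (fun i => algebraMap R (Localization.AtPrime p) (rs.get i)) :=
    Groth.Agent.H8.RegBC.isQuasiRegular_map_of_flat rs.get hq
  have hmem : ∀ i, algebraMap R (Localization.AtPrime p) (rs.get i) ∈
      Ideal.jacobson (⊥ : Ideal (Localization.AtPrime p)) := by
    intro i
    rw [IsLocalRing.jacobson_eq_maximalIdeal ⊥ bot_ne_top]
    rw [IsLocalization.AtPrime.to_map_mem_maximal_iff (Localization.AtPrime p) p]
    exact hp (Ideal.subset_span (List.get_mem rs i))
  have hw := Groth.Agent.H2.QuasiReg.isWeaklyRegular_of_qReg rs.length (Localization.AtPrime p) _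
    hmem ((Groth.Agent.H2.QuasiReg.qReg_iff _).mp hq')
  have hlist : List.ofFn (fun i => algebraMap R (Localization.AtPrime p) (rs.get i)) =
      rs.map (algebraMap R (Localization.AtPrime p)) :=
    List.ofFn_getElem_eq_map rs _
  rw [hlist] at hw
  obtain ⟨g, hg, hreg, -⟩ := Groth.Agent.H1.Spread.exists_away_isRegular p
    (Localization.AtPrime p) (Ideal.ofList rs) hp rs (fun a ha => Ideal.subset_span ha) hw
    (by rw [Ideal.map_ofList])
  exact ⟨g, hg, hreg⟩

/-- transport of a regular sequence from `Localization.Away g` to the sections over `D(g)`. -/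
theorem isRegular_basicOpen {X : Scheme.{u}} {U : X.Opens} (hU : IsAffineOpen U) (g : Γ(X, U))
    (rs : List Γ(X, U))
    (h : RingTheory.Sequence.IsRegular (Localization.Away g)
      (rs.map (algebraMap Γ(X, U) (Localization.Away g)))) :
    RingTheory.Sequence.IsRegular Γ(X, X.basicOpen g)
      (rs.map (X.presheaf.map (homOfLE (X.basicOpen_le g)).op).hom) := by
  letI alg : Algebra Γ(X, U) Γ(X, X.basicOpen g) :=
    (X.presheaf.map (homOfLE (X.basicOpen_le g)).op).hom.toAlgebra
  haveI : IsLocalization.Away g Γ(X, X.basicOpen g) := hU.isLocalization_basicOpen g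
  let e : Localization.Away g ≃ₐ[Γ(X, U)] Γ(X, X.basicOpen g) :=
    IsLocalization.algEquiv (Submonoid.powers g) _ _
  have h2 := (Groth.Agent.H1.RegImm.isRegular_map_ringEquiv e.toRingEquiv _).mp h
  rw [List.map_map] at h2
  have h3 : (⇑e.toRingEquiv ∘ ⇑(algebraMap Γ(X, U) (Localization.Away g))) =
      ⇑(X.presheaf.map (homOfLE (X.basicOpen_le g)).op).hom := by
    funext a
    exact e.commutes a
  rw [h3] at h2
  exact h2

/-- **quasi-regular ideal sheaves on locally Noetherian schemes are regular.** -/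
theorem isRegularIdeal_regular_of_quasi {X : Scheme.{u}} [IsLocallyNoetherian X]
    (I : X.IdealSheafData) (h : RegImm.IsRegularIdeal RegImm.Kind.quasi I) :
    RegImm.IsRegularIdeal RegImm.Kind.regular I := by
  intro x hx
  obtain ⟨U, hxU, rs, hrs, hI⟩ := h x hx
  replace hrs : CAlgX.IsQuasiRegular rs.get := hrs
  haveI : IsNoetherianRing Γ(X, U.1) := IsLocallyNoetherian.component_noetherian U
  have hp : Ideal.ofList rs ≤ (U.2.primeIdealOf ⟨x, hxU⟩).asIdeal := by
    rw [← hI]
    rw [Scheme.IdealSheafData.mem_support_iff_of_mem (U := U) hxU, Scheme.mem_zeroLocus_iff] at hx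
    intro s hs
    by_contra hnot
    exact hx s hs ((X.mem_basicOpen s x hxU).mpr
      (Groth.Agent.LD.QC.isUnit_germ_of_notMem U.2 x hxU s hnot))
  obtain ⟨g, hg, hreg⟩ := exists_away_isRegular_of_isQuasiRegular _ rs hrs hp
  refine ⟨X.affineBasicOpen g, ?_, rs.map (X.presheaf.map (homOfLE (X.basicOpen_le g)).op).hom,
    ?_, ?_⟩
  · exact (X.mem_basicOpen g x hxU).mpr (Groth.Agent.LD.QC.isUnit_germ_of_notMem U.2 x hxU g hg)
  · exact isRegular_basicOpen U.2 g rs hreg
  · rw [← I.map_ideal_basicOpen U g, hI, Ideal.map_ofList]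
    rfl

/-- **quasi-regular immersions into locally Noetherian schemes are regular.** -/
theorem isRegularImmersion_regular_of_quasi {X Y : Scheme.{u}} [IsLocallyNoetherian X]
    (j : Y ⟶ X) (h : RegImm.IsRegularImmersion RegImm.Kind.quasi j) :
    RegImm.IsRegularImmersion RegImm.Kind.regular j := by
  obtain ⟨himm, hq⟩ := h
  refine ⟨himm, fun z => ?_⟩
  obtain ⟨U, hzU, hcl, rs, hrs, hker⟩ := hq z
  replace hrs : CAlgX.IsQuasiRegular rs.get := hrs
  haveI : IsNoetherianRing Γ(X, U.1) := IsLocallyNoetherian.component_noetherian U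
  have hp : Ideal.ofList rs ≤ (U.2.primeIdealOf ⟨j z, hzU⟩).asIdeal := by
    rw [← hker]
    intro s hs
    by_contra hnot
    have h1 : j z ∈ X.basicOpen s := (X.mem_basicOpen s (j z) hzU).mpr
      (Groth.Agent.LD.QC.isUnit_germ_of_notMem U.2 (j z) hzU s hnot)
    have h2 : z ∈ j ⁻¹ᵁ X.basicOpen s := h1
    rw [Scheme.preimage_basicOpen, RingHom.mem_ker.mp hs, Scheme.basicOpen_zero] at h2
    exact h2
  obtain ⟨g, hg, hreg⟩ := exists_away_isRegular_of_isQuasiRegular _ rs hrs hp
  refine ⟨X.affineBasicOpen g, ?_, ?_, rs.map (X.presheaf.map (homOfLE (X.basicOpen_le g)).op).hom,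
    ?_, ?_⟩
  · exact (X.mem_basicOpen g (j z) hzU).mpr
      (Groth.Agent.LD.QC.isUnit_germ_of_notMem U.2 (j z) hzU g hg)
  · exact Groth.Agent.H3.LciSm.isClosedImmersion_restrict_of_le j U.1 (X.basicOpen g)
      (X.basicOpen_le g) hcl
  · exact isRegular_basicOpen U.2 g rs hreg
  · have := Groth.Agent.H3.LciSm.ker_app_basicOpen j U.1 U.2 hcl g (X.basicOpen g) rfl
      (X.basicOpen_le g)
    change RingHom.ker (j.app (X.basicOpen g)).hom = _
    rw [this, hker, Ideal.map_ofList]
    rfl

end Groth.Agent.H3.QRegNoeth
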