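import Mathlib
import Groth.Agent.Lib.Helper3.SubQuot

/-!
# Points of a quotient by a universally effective equivalence relation
-/

set_option autoImplicit false

open CategoryTheory Limits MonoidalCategory CartesianMonoidalCategory

universe v₁ u₁

namespace Groth.Agent.H3.QuotPts

variable {𝒮 : Type u₁} [Category.{v₁} 𝒮] [CartesianMonoidalCategory 𝒮] [HasPullbacks 𝒮]

variable {R X B : 𝒮} {p₁ p₂ : R ⟶ X} (π : X ⟶ B) (hkp : IsKernelPair π p₁ p₂) (huee : UEE 𝒮 π)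
  (Y : 𝒮)

include hkp in
/-- part (a): a stable subobject of `X × Y` with `R`-related fibres covering `Y` is the graph of a
unique morphism to the quotient -/
theorem existsUnique_of_stable {Z : 𝒮} (ι : Z ⟶ X ⊗ Y) [Mono ι]
    (hst : ∀ (W : 𝒮) (r : W ⟶ R) (y : W ⟶ Y),
      (∃ z : W ⟶ Z, z ≫ ι = lift (r ≫ p₁) y) ↔ (∃ z : W ⟶ Z, z ≫ ι = lift (r ≫ p₂) y))
    (hg : UEE 𝒮 (ι ≫ snd X Y))
    (hrel : ∀ (W : 𝒮) (z₁ z₂ : W ⟶ Z), z₁ ≫ ι ≫ snd X Y = z₂ ≫ ι ≫ snd X Y →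
      ∃ r : W ⟶ R, r ≫ p₁ = z₁ ≫ ι ≫ fst X Y ∧ r ≫ p₂ = z₂ ≫ ι ≫ fst X Y) :
    ∃! f : Y ⟶ B, IsPullback (ι ≫ fst X Y) (ι ≫ snd X Y) π f := by
  haveI hE : EffectiveEpi (ι ≫ snd X Y) := hg.effectiveEpi
  have hcompat : ∀ {W : 𝒮} (z₁ z₂ : W ⟶ Z), z₁ ≫ ι ≫ snd X Y = z₂ ≫ ι ≫ snd X Y →
      z₁ ≫ (ι ≫ fst X Y) ≫ π = z₂ ≫ (ι ≫ fst X Y) ≫ π := by
    intro W z₁ z₂ h
    obtain ⟨r, hr1, hr2⟩ := hrel W z₁ z₂ h
    have e1 : z₁ ≫ (ι ≫ fst X Y) ≫ π = (r ≫ p₁) ≫ π := by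
      rw [hr1]; simp only [Category.assoc]
    have e2 : z₂ ≫ (ι ≫ fst X Y) ≫ π = (r ≫ p₂) ≫ π := by
      rw [hr2]; simp only [Category.assoc]
    rw [e1, e2, Category.assoc, Category.assoc, hkp.w]
  let f : Y ⟶ B := EffectiveEpi.desc (ι ≫ snd X Y) ((ι ≫ fst X Y) ≫ π)
    (fun z₁ z₂ h => hcompat z₁ z₂ (by simpa using h))
  have hf : (ι ≫ snd X Y) ≫ f = (ι ≫ fst X Y) ≫ π := EffectiveEpi.fac _ _ _
  refine ⟨f, ?_, ?_⟩
  · refine IsPullback.mk' hf.symm ?_ ?_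
    · intro T φ φ' h1 h2
      rw [← cancel_mono ι]
      apply CartesianMonoidalCategory.hom_ext
      · simpa using h1
      · simpa using h2
    · intro T x y hxy
      obtain ⟨T', e, z', he, hz'⟩ := SubQuot.UEE.exists_lift' hg y
      have hf' : ι ≫ snd X Y ≫ f = ι ≫ fst X Y ≫ π := by
        simpa only [Category.assoc] using hf
      have h1 : (z' ≫ ι ≫ fst X Y) ≫ π = (e ≫ x) ≫ π := by
        have : (e ≫ y) ≫ f = (e ≫ x) ≫ π := by rw [Category.assoc, Category.assoc, hxy]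
        rw [← this, hz']
        simp only [Category.assoc]
        rw [hf']
      set r := hkp.lift _ _ h1 with hr
      have hr1 : r ≫ p₁ = z' ≫ ι ≫ fst X Y := hkp.lift_fst _ _ _
      have hr2 : r ≫ p₂ = e ≫ x := hkp.lift_snd _ _ _
      have h2 : ∃ z : T' ⟶ Z, z ≫ ι = lift (r ≫ p₁) (e ≫ y) := by
        refine ⟨z', ?_⟩
        apply CartesianMonoidalCategory.hom_ext
        · rw [lift_fst, hr1, Category.assoc]
        · rw [lift_snd, hz', Category.assoc]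
      obtain ⟨z'', hz''⟩ := (hst T' r (e ≫ y)).1 h2
      have h3 : e ≫ lift x y = z'' ≫ ι := by
        rw [hz'', hr2, comp_lift]
      obtain ⟨l, hl⟩ := SubQuot.exists_factor_of_effectiveEpi e ι (lift x y) z'' h3
      refine ⟨l, ?_, ?_⟩
      · rw [← Category.assoc, hl, lift_fst]
      · rw [← Category.assoc, hl, lift_snd]
  · intro f' hf'
    haveI : Epi (ι ≫ snd X Y) := hg.epi
    rw [← cancel_epi (ι ≫ snd X Y), hf, ← hf'.w]

include hkp huee in
/-- part (b): every morphism to the quotient arises in this way -/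
theorem exists_of_hom (f : Y ⟶ B) :
    ∃ (Z : 𝒮) (ι : Z ⟶ X ⊗ Y), Mono ι ∧
      (∀ (W : 𝒮) (r : W ⟶ R) (y : W ⟶ Y),
        (∃ z : W ⟶ Z, z ≫ ι = lift (r ≫ p₁) y) ↔ (∃ z : W ⟶ Z, z ≫ ι = lift (r ≫ p₂) y)) ∧
      UEE 𝒮 (ι ≫ snd X Y) ∧
      (∀ (W : 𝒮) (z₁ z₂ : W ⟶ Z), z₁ ≫ ι ≫ snd X Y = z₂ ≫ ι ≫ snd X Y →
        ∃ r : W ⟶ R, r ≫ p₁ = z₁ ≫ ι ≫ fst X Y ∧ r ≫ p₂ = z₂ ≫ ι ≫ fst X Y) ∧
      IsPullback (ι ≫ fst X Y) (ι ≫ snd X Y) π f := by
  have hι1 : lift (pullback.fst π f) (pullback.snd π f) ≫ fst X Y = pullback.fst π f := lift_fst _ _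
  have hι2 : lift (pullback.fst π f) (pullback.snd π f) ≫ snd X Y = pullback.snd π f := lift_snd _ _
  have key : ∀ {W : 𝒮} (x : W ⟶ X) (y : W ⟶ Y),
      (∃ z : W ⟶ pullback π f, z ≫ lift (pullback.fst π f) (pullback.snd π f) = lift x y) ↔
        x ≫ π = y ≫ f := by
    intro W x y
    constructor
    · rintro ⟨z, hz⟩
      have h1 : z ≫ pullback.fst π f = x := by
        have := congrArg (fun t => t ≫ fst X Y) hz
        simpa using this
      have h2 : z ≫ pullback.snd π f = y := by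
        have := congrArg (fun t => t ≫ snd X Y) hz
        simpa using this
      rw [← h1, ← h2, Category.assoc, Category.assoc, pullback.condition]
    · intro h
      refine ⟨pullback.lift x y h, ?_⟩
      apply CartesianMonoidalCategory.hom_ext
      · rw [Category.assoc, lift_fst, lift_fst, pullback.lift_fst]
      · rw [Category.assoc, lift_snd, lift_snd, pullback.lift_snd]
  refine ⟨pullback π f, lift (pullback.fst π f) (pullback.snd π f), ?_, ?_, ?_, ?_, ?_⟩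
  · constructor
    intro T a b hab
    apply pullback.hom_ext
    · have := congrArg (fun t => t ≫ fst X Y) hab
      simpa using this
    · have := congrArg (fun t => t ≫ snd X Y) hab
      simpa using this
  · intro W r y
    rw [key, key, Category.assoc, Category.assoc, hkp.w]
  · rw [hι2]
    exact huee.of_isPullback (IsPullback.of_hasPullback π f).flip
  · intro W z₁ z₂ h
    rw [hι1, hι2] at *
    have h1 : (z₁ ≫ pullback.fst π f) ≫ π = (z₂ ≫ pullback.fst π f) ≫ π := by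
      rw [Category.assoc, Category.assoc, pullback.condition, ← Category.assoc, h, Category.assoc]
    exact ⟨hkp.lift _ _ h1, hkp.lift_fst _ _ _, hkp.lift_snd _ _ _⟩
  · rw [hι1, hι2]
    exact IsPullback.of_hasPullback π f

end Groth.Agent.H3.QuotPts
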