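import Mathlib
import Groth.Prelude.Def_QuotSh
import Groth.Prelude.Def_NonAbH2
import Groth.Agent.Lib.Helper3.QuotShEff

/-!
# Sections of a quotient sheaf given by locally-covering subschemes
-/

set_option autoImplicit false

open CategoryTheory Limits AlgebraicGeometry Opposite MonoidalCategory CartesianMonoidalCategory

universe u

namespace Groth.Agent.H3.QuotShEff

open Groth.Agent.S7490 (F F_map)

variable (K : Precoverage Scheme.{u}) {S : Scheme.{u}}

/-- A morphism `p : Z ⟶ T` with local lifts, and a map `φ : h_Z ⟶ G` of sheaves equalising the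
two projections of `Z ×_T Z`, descends uniquely to `h_T ⟶ G`. -/
theorem existsUnique_desc_of_hasLocalLifts {Z T : Over S} (p : Z ⟶ T) (hl : HasLocalLifts K p)
    {G : QuotSh.Sh K S} (φ : QuotSh.rep K Z ⟶ G)
    (hφ : QuotSh.repMap K (pullback.fst p p) ≫ φ = QuotSh.repMap K (pullback.snd p p) ≫ φ) :
    ∃! σ : QuotSh.rep K T ⟶ G, φ = QuotSh.repMap K p ≫ σ := by
  haveI : Epi (QuotSh.repMap K p) := (epi_repMap_iff K p).2 hl
  have hF : IsPullback ((F K S).map (pullback.fst p p)) ((F K S).map (pullback.snd p p))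
      ((F K S).map p) ((F K S).map p) := (IsPullback.of_hasPullback p p).map (F K S)
  haveI : Epi ((F K S).map p) := (epi_repMap_iff K p).2 hl
  haveI : EffectiveEpi ((F K S).map p) :=
    (isRegularEpi_iff_effectiveEpi _).1 (IsRegularEpiCategory.regularEpiOfEpi _)
  have hc : IsColimit (Cofork.ofπ ((F K S).map p) hF.w) :=
    isColimitCoforkOfEffectiveEpi ((F K S).map p) hF.cone hF.isLimit
  refine ⟨Cofork.IsColimit.desc hc φ hφ, (Cofork.IsColimit.π_desc' hc φ hφ).symm, ?_⟩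
  intro σ' hσ'
  rw [← cancel_epi (QuotSh.repMap K p), ← hσ']
  exact (Cofork.IsColimit.π_desc' hc φ hφ).symm

theorem s6041 {R U : Over S} (s t : R ⟶ U)
    (T Z : Over S) (i : Z ⟶ U ⊗ T)
    [Flat (i ≫ snd U T).left] [Surjective (i ≫ snd U T).left]
    [LocallyOfFinitePresentation (i ≫ snd U T).left]
    (hZZ : ∀ (T' : Over S) (z₁ z₂ : T' ⟶ Z), z₁ ≫ i ≫ snd U T = z₂ ≫ i ≫ snd U T →
      ∃ r : T' ⟶ R, r ≫ s = z₁ ≫ i ≫ fst U T ∧ r ≫ t = z₂ ≫ i ≫ fst U T) :
    ∃! σ : QuotSh.rep Scheme.fppfPrecoverage T ⟶ QuotSh.quot Scheme.fppfPrecoverage s t,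
      QuotSh.repMap Scheme.fppfPrecoverage (i ≫ fst U T) ≫ QuotSh.quotπ Scheme.fppfPrecoverage s t =
        QuotSh.repMap Scheme.fppfPrecoverage (i ≫ snd U T) ≫ σ := by
  obtain ⟨p, hp⟩ : ∃ p, p = i ≫ snd U T := ⟨_, rfl⟩
  have hl : HasLocalLifts Scheme.fppfPrecoverage (i ≫ snd U T) :=
    hasLocalLifts_of_isLocallyTrivialFor _ _
      ⟨_, (i ≫ snd U T).left.singleton_mem_fppfPrecoverage, by
        rintro Z g ⟨⟩
        exact ⟨𝟙 _, Category.id_comp _⟩⟩
  apply existsUnique_desc_of_hasLocalLifts Scheme.fppfPrecoverage (i ≫ snd U T) hl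
  obtain ⟨r, hr1, hr2⟩ := hZZ _ (pullback.fst (i ≫ snd U T) (i ≫ snd U T))
    (pullback.snd (i ≫ snd U T) (i ≫ snd U T)) pullback.condition
  have e1 : QuotSh.repMap Scheme.fppfPrecoverage (pullback.fst (i ≫ snd U T) (i ≫ snd U T)) ≫
      QuotSh.repMap Scheme.fppfPrecoverage (i ≫ fst U T) =
      QuotSh.repMap Scheme.fppfPrecoverage r ≫ QuotSh.repMap Scheme.fppfPrecoverage s :=
    ((F Scheme.fppfPrecoverage S).map_comp _ _).symm.trans
      ((congrArg ((F Scheme.fppfPrecoverage S).map) hr1.symm).trans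
        ((F Scheme.fppfPrecoverage S).map_comp _ _))
  have e2 : QuotSh.repMap Scheme.fppfPrecoverage (pullback.snd (i ≫ snd U T) (i ≫ snd U T)) ≫
      QuotSh.repMap Scheme.fppfPrecoverage (i ≫ fst U T) =
      QuotSh.repMap Scheme.fppfPrecoverage r ≫ QuotSh.repMap Scheme.fppfPrecoverage t :=
    ((F Scheme.fppfPrecoverage S).map_comp _ _).symm.trans
      ((congrArg ((F Scheme.fppfPrecoverage S).map) hr2.symm).trans
        ((F Scheme.fppfPrecoverage S).map_comp _ _))
  rw [← Category.assoc, e1, ← Category.assoc, e2, Category.assoc, Category.assoc,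
    QuotSh.quot_condition]

end Groth.Agent.H3.QuotShEff
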