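import Groth.Agent.Lib.Helper1.GeomConnSch3

set_option autoImplicit false
universe u
open CategoryTheory CategoryTheory.Limits AlgebraicGeometry

namespace Groth.Agent.H3.RatConn

theorem connectedSpace_pullback_of_rational_point (k : Type u) [Field k] (X Y : Scheme.{u})
    (f : X ⟶ Spec (CommRingCat.of k)) (g : Y ⟶ Spec (CommRingCat.of k)) [ConnectedSpace X] [ConnectedSpace Y]
    (x : Spec (CommRingCat.of k) ⟶ X) (hx : x ≫ f = 𝟙 _) : ConnectedSpace ↥(pullback f g) := by
  set x₀ : X := x (IsLocalRing.closedPoint k) with hx₀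
  let ρ : X.residueField x₀ ⟶ CommRingCat.of k := Scheme.descResidueField (Scheme.stalkClosedPointTo x)
  have hρ : Spec.map ρ ≫ X.fromSpecResidueField x₀ = x :=
    Scheme.descResidueField_stalkClosedPointTo_fromSpecResidueField k X x
  let φ : CommRingCat.of k ⟶ X.residueField x₀ := Spec.preimage (X.fromSpecResidueField x₀ ≫ f)
  have hφ : Spec.map φ = X.fromSpecResidueField x₀ ≫ f := Spec.map_preimage _
  have hcomp : φ ≫ ρ = 𝟙 _ := by
    apply Spec.map_injective
    rw [Spec.map_comp, hφ, ← Category.assoc, hρ, hx, Spec.map_id]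
  have hρφ : ∀ a : k, ρ.hom (φ.hom a) = a := fun a => by
    have := congrArg (fun h => h.hom a) hcomp
    simpa using this
  have hρinj : Function.Injective ρ.hom := ρ.hom.injective
  have hφρ : ∀ b : X.residueField x₀, φ.hom (ρ.hom b) = b := fun b => hρinj (hρφ _)
  haveI : GeometricallyConnected f := by
    refine Groth.Agent.H1.GeomConnSch.s4619 f x₀ ⟨φ.hom, hφ, ?_⟩
    letI := φ.hom.toAlgebra
    change separableClosure k (X.residueField x₀) = ⊥
    rw [eq_bot_iff]
    intro b _
    exact IntermediateField.mem_bot.mpr ⟨ρ.hom b, hφρ b⟩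
  infer_instance

end Groth.Agent.H3.RatConn
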