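import Mathlib
import Groth.Prelude.Def_CInt
import Groth.Agent.Lib.Helper3.RatDesc
import Groth.Agent.Lib.Helper3.SchDenseLfp

/-!
# A pseudo-morphism is defined at `x` if it is defined at a point over `x` after a flat lfp
base change
-/

set_option autoImplicit false

open CategoryTheory Limits AlgebraicGeometry

universe u

namespace Groth.Agent.H3.RatDesc

open Groth.Agent.H3.FpqcCov

theorem main_S3835 {X X' Y S : Scheme.{u}} (pX : X ⟶ S) (pY : Y ⟶ S)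
    [IsSeparated pY] (U : X.Opens) (hU : CInt.IsSchematicallyDense U) (h : (U : Scheme.{u}) ⟶ Y)
    (f : X' ⟶ X) [Flat f] [LocallyOfFinitePresentation f] (x' : ↥X')
    (V' : X'.Opens) (hx' : x' ∈ V') (v' : (V' : Scheme.{u}) ⟶ Y) (hv'S : v' ≫ pY = V'.ι ≫ f ≫ pX)
    (hv' : X'.homOfLE (inf_le_right : f ⁻¹ᵁ U ⊓ V' ≤ V') ≫ v' =
      X'.homOfLE (inf_le_left : f ⁻¹ᵁ U ⊓ V' ≤ f ⁻¹ᵁ U) ≫ (f ∣_ U) ≫ h) :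
    ∃ (V : X.Opens) (v : (V : Scheme.{u}) ⟶ Y), f x' ∈ V ∧ v ≫ pY = V.ι ≫ pX ∧
      X.homOfLE (inf_le_right : U ⊓ V ≤ V) ≫ v = X.homOfLE (inf_le_left : U ⊓ V ≤ U) ≫ h := by
  let V : X.Opens := ⟨f '' (V' : Set X'), f.isOpenMap _ V'.isOpen⟩
  have hle : V' ≤ f ⁻¹ᵁ V := fun a ha => ⟨a, ha, rfl⟩
  let ψ : (V' : Scheme.{u}) ⟶ (V : Scheme.{u}) := f.resLE V V' hle
  have hψι : ψ ≫ V.ι = V'.ι ≫ f := Scheme.Hom.resLE_comp_ι _ _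
  have hmemV' : ∀ a : ↥(V' : Scheme.{u}), V'.ι a ∈ V' := fun a => by
    have hx : V'.ι a ∈ Set.range V'.ι := ⟨a, rfl⟩
    rwa [Scheme.Opens.range_ι] at hx
  have hsurj : Surjective ψ := by
    refine ⟨fun v => ?_⟩
    have hv : V.ι v ∈ V := by
      have hx : V.ι v ∈ Set.range V.ι := ⟨v, rfl⟩
      rwa [Scheme.Opens.range_ι] at hx
    obtain ⟨a, ha, hav⟩ := hv
    have ha' : a ∈ Set.range V'.ι := by rw [Scheme.Opens.range_ι]; exact ha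
    obtain ⟨a', rfl⟩ := ha'
    refine ⟨a', ?_⟩
    apply V.ι.isOpenEmbedding.injective
    rw [← Scheme.Hom.comp_apply, hψι, Scheme.Hom.comp_apply, hav]
  have hcov : Cov ψ := cov_of_isOpenMap ψ ψ.isOpenMap
  -- the schematic density
  have hker : ((pullback.fst ψ ψ) ⁻¹ᵁ (ψ ⁻¹ᵁ (V.ι ⁻¹ᵁ U))).ι.ker = ⊥ := by
    apply Groth.Agent.H5.AlgSp.ker_eq_bot_of_isSchematicallyDense
    have := Groth.Agent.H3.SchDenseLfp.main (pullback.fst ψ ψ ≫ ψ ≫ V.ι) U hU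
    exact this
  -- the compatibility on the overlap
  have hg' : (ψ ⁻¹ᵁ (V.ι ⁻¹ᵁ U)).ι ≫ v' = (ψ ∣_ (V.ι ⁻¹ᵁ U)) ≫ (V.ι ∣_ U) ≫ h := by
    have hr : Set.range ((ψ ⁻¹ᵁ (V.ι ⁻¹ᵁ U)).ι ≫ V'.ι) ⊆ Set.range (f ⁻¹ᵁ U ⊓ V').ι := by
      rw [Scheme.Opens.range_ι]
      rintro _ ⟨z, rfl⟩
      rw [Scheme.Hom.comp_apply]
      refine ⟨?_, hmemV' _⟩
      have hz : (ψ ⁻¹ᵁ (V.ι ⁻¹ᵁ U)).ι z ∈ ψ ⁻¹ᵁ (V.ι ⁻¹ᵁ U) := by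
        have hx : (ψ ⁻¹ᵁ (V.ι ⁻¹ᵁ U)).ι z ∈ Set.range (ψ ⁻¹ᵁ (V.ι ⁻¹ᵁ U)).ι := ⟨z, rfl⟩
        rwa [Scheme.Opens.range_ι] at hx
      have hz' : V.ι (ψ ((ψ ⁻¹ᵁ (V.ι ⁻¹ᵁ U)).ι z)) ∈ U := hz
      rw [← Scheme.Hom.comp_apply, hψι, Scheme.Hom.comp_apply] at hz'
      exact hz'
    have e₀ := IsOpenImmersion.lift_fac (f ⁻¹ᵁ U ⊓ V').ι _ hr
    have e₁ : (ψ ⁻¹ᵁ (V.ι ⁻¹ᵁ U)).ι =
        IsOpenImmersion.lift (f ⁻¹ᵁ U ⊓ V').ι _ hr ≫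
          X'.homOfLE (inf_le_right : f ⁻¹ᵁ U ⊓ V' ≤ V') := by
      rw [← cancel_mono V'.ι, Category.assoc, Scheme.homOfLE_ι, e₀]
    have e₂ : IsOpenImmersion.lift (f ⁻¹ᵁ U ⊓ V').ι _ hr ≫
        X'.homOfLE (inf_le_left : f ⁻¹ᵁ U ⊓ V' ≤ f ⁻¹ᵁ U) ≫ (f ∣_ U) =
        (ψ ∣_ (V.ι ⁻¹ᵁ U)) ≫ (V.ι ∣_ U) := by
      rw [← cancel_mono U.ι]
      simp only [Category.assoc]
      rw [morphismRestrict_ι, morphismRestrict_ι, Scheme.homOfLE_ι_assoc, reassoc_of% e₀,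
        morphismRestrict_ι_assoc, hψι]
    rw [e₁, Category.assoc, hv', reassoc_of% e₂]
  obtain ⟨hV, h1, h2, -⟩ := exists_extension (V.ι ≫ pX) pY ψ hcov (V.ι ⁻¹ᵁ U) hker
    ((V.ι ∣_ U) ≫ h) v' (by rw [hv'S, reassoc_of% hψι]) hg'
  refine ⟨V, hV, ⟨x', hx', rfl⟩, h2, ?_⟩
  have hr : Set.range (X.homOfLE (inf_le_right : U ⊓ V ≤ V)) ⊆ Set.range (V.ι ⁻¹ᵁ U).ι := by
    rw [Scheme.Opens.range_ι]
    rintro _ ⟨z, rfl⟩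
    change V.ι (X.homOfLE (inf_le_right : U ⊓ V ≤ V) z) ∈ U
    rw [← Scheme.Hom.comp_apply, Scheme.homOfLE_ι]
    have hx : (U ⊓ V).ι z ∈ Set.range (U ⊓ V).ι := ⟨z, rfl⟩
    rw [Scheme.Opens.range_ι] at hx
    exact hx.1
  have e₀ := IsOpenImmersion.lift_fac (V.ι ⁻¹ᵁ U).ι _ hr
  have e₁ : IsOpenImmersion.lift (V.ι ⁻¹ᵁ U).ι _ hr ≫ (V.ι ∣_ U) =
      X.homOfLE (inf_le_left : U ⊓ V ≤ U) := by
    rw [← cancel_mono U.ι, Category.assoc, morphismRestrict_ι, reassoc_of% e₀,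
      Scheme.homOfLE_ι, Scheme.homOfLE_ι]
  rw [← e₀, Category.assoc, h1, reassoc_of% e₁]

end Groth.Agent.H3.RatDesc
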