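import Mathlib
import Groth.Agent.Lib.Helper3.SepCrit
import Groth.Agent.Lib.Helper3.ClosedDefA
import Groth.Agent.Lib.Helper3.SchDomField
import Groth.Agent.S4873

/-!
# Reduced closure of the images of geometrically reduced schemes commutes with base field
extension (helper3, S4905; EGA IV 11.10.7)
-/

set_option autoImplicit false
universe u
open CategoryTheory CategoryTheory.Limits AlgebraicGeometry TopologicalSpace

namespace Groth.Agent.H3.VanBC

open Scheme.IdealSheafData

/-- kernel of a morphism from a reduced scheme -/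
theorem ker_eq_vanishingIdeal_of_isReduced {S X : Scheme.{u}} [IsReduced S] (f : S ⟶ X) :
    f.ker = vanishingIdeal (Closeds.closure (Set.range f)) := by
  rw [← Scheme.IdealSheafData.map_bot]
  have h1 : (⊥ : S.IdealSheafData) = vanishingIdeal ⊤ := by
    rw [Scheme.IdealSheafData.vanishingIdeal_top, Scheme.nilradical_eq_bot]
  rw [h1, Scheme.IdealSheafData.map_vanishingIdeal]
  congr 1
  apply Closeds.ext
  simp only [Closeds.coe_closure, Closeds.coe_top, Set.image_univ]

theorem main {k : Type u} [Field k] {X S' : Scheme.{u}}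
    (p : X ⟶ Spec (CommRingCat.of k)) (q : S' ⟶ Spec (CommRingCat.of k))
    {ι : Type u} (Z : ι → Scheme.{u}) (f : ∀ i, Z i ⟶ X)
    (hZ : ∀ i, IsReduced (Z i)) (hZ' : ∀ i, IsReduced (pullback (f i ≫ p) q)) :
    vanishingIdeal (Closeds.closure (⋃ i, Set.range
        (pullback.map (f i ≫ p) q p q (f i) (𝟙 S') (𝟙 _) (Category.comp_id _)
          ((Category.comp_id _).trans (Category.id_comp _).symm)))) =
      (vanishingIdeal (Closeds.closure (⋃ i, Set.range (f i)))).comap (pullback.fst p q) := by
  classical
  set C : Closeds X := Closeds.closure (⋃ i, Set.range (f i)) with hC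
  set J := vanishingIdeal C with hJ
  have : IsReduced J.subscheme := Groth.Agent.H3.ClosedDef.isReduced_subscheme_vanishingIdeal C
  have hrange : Set.range J.subschemeι = (C : Set X) := by
    rw [range_subschemeι, Groth.Agent.H3.ClosedDef.support_vanishingIdeal' C]
  have hg : ∀ i, ∃ g : Z i ⟶ J.subscheme, g ≫ J.subschemeι = f i := fun i => by
    have := hZ i
    refine Groth.Agent.H3.SepCrit.exists_lift_of_isReduced J.subschemeι (f i) ?_
    rw [hrange]
    exact (Set.subset_iUnion (fun i => Set.range (f i)) i).trans subset_closure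
  choose g hgf using hg
  -- density in Y
  have hdense : Dense (⋃ i, Set.range (g i)) := by
    intro y
    have hy : J.subschemeι y ∈ (C : Set X) := by rw [← hrange]; exact ⟨y, rfl⟩
    have hcl : (C : Set X) = closure (J.subschemeι '' (⋃ i, Set.range (g i))) := by
      rw [hC, Closeds.coe_closure]
      congr 1
      rw [Set.image_iUnion]
      refine Set.iUnion_congr fun i => ?_
      rw [← Set.range_comp, ← hgf i]
      rfl
    rw [hcl, J.subschemeι.isClosedEmbedding.closure_image_eq] at hy
    obtain ⟨y', hy', hyy'⟩ := hy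
    rwa [← J.subschemeι.isClosedEmbedding.injective hyy']
  have hsd := (Groth.Agent.S4873.result Z g).2 inferInstance hdense
  have hsd' := Groth.Agent.H3.SepField.main_schDom (J.subschemeι ≫ p) q Z g hsd
  -- notation
  set Y' := pullback (J.subschemeι ≫ p) q with hY'
  set ι' : Y' ⟶ pullback p q := pullback.map (J.subschemeι ≫ p) q p q J.subschemeι (𝟙 S') (𝟙 _)
    (Category.comp_id _) ((Category.comp_id _).trans (Category.id_comp _).symm) with hι'
  set g' : ∀ i, pullback (g i ≫ J.subschemeι ≫ p) q ⟶ Y' := fun i =>
    pullback.map (g i ≫ J.subschemeι ≫ p) q (J.subschemeι ≫ p) q (g i) (𝟙 S') (𝟙 _)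
      (Category.comp_id _) ((Category.comp_id _).trans (Category.id_comp _).symm) with hg'
  have heq : ∀ i, f i ≫ p = g i ≫ J.subschemeι ≫ p := fun i => by
    rw [← Category.assoc, hgf i]
  let e : ∀ i, pullback (f i ≫ p) q ≅ pullback (g i ≫ J.subschemeι ≫ p) q := fun i =>
    pullback.congrHom (heq i) rfl
  have hfac : ∀ i, pullback.map (f i ≫ p) q p q (f i) (𝟙 S') (𝟙 _) (Category.comp_id _)
      ((Category.comp_id _).trans (Category.id_comp _).symm) = (e i).hom ≫ g' i ≫ ι' := by
    intro i
    apply pullback.hom_ext
    · simp only [pullback.map, e, hg', hι', pullback.congrHom_hom, Category.assoc,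
        pullback.lift_fst, pullback.lift_fst_assoc, Category.comp_id, hgf i]
    · simp only [pullback.map, e, hg', hι', pullback.congrHom_hom, Category.assoc,
        pullback.lift_snd, Category.comp_id]
  -- Y' reduced
  have hY'red : IsReduced Y' := by
    refine ⟨fun V => ⟨fun t ht => ?_⟩⟩
    apply hsd' V t
    intro i
    have h1 : IsReduced (pullback (g i ≫ J.subschemeι ≫ p) q) := by
      have := hZ' i
      exact isReduced_of_isOpenImmersion (e i).inv
    have h2 : IsNilpotent ((g' i).app V t) := ht.map _
    exact h2.eq_zero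
  -- the pullback square
  have hpb : IsPullback ι' (pullback.fst (J.subschemeι ≫ p) q) (pullback.fst p q) J.subschemeι := by
    have hbig : IsPullback (ι' ≫ pullback.snd p q) (pullback.fst (J.subschemeι ≫ p) q) q
        (J.subschemeι ≫ p) := by
      have h0 : ι' ≫ pullback.snd p q = pullback.snd (J.subschemeι ≫ p) q := by
        simp only [pullback.map, hι', pullback.lift_snd, Category.comp_id]
      rw [h0]
      exact (IsPullback.of_hasPullback (J.subschemeι ≫ p) q).flip
    refine IsPullback.of_right hbig ?_ (IsPullback.of_hasPullback p q).flip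
    simp only [pullback.map, hι', pullback.lift_fst]
  let φ := hpb.isoPullback
  have hφ : φ.hom ≫ pullback.fst (pullback.fst p q) J.subschemeι = ι' := hpb.isoPullback_hom_fst
  have hker : ι'.ker = J.comap (pullback.fst p q) := by
    rw [← hφ, Scheme.Hom.ker_comp_of_isIso]
    rfl
  rw [← hker, ker_eq_vanishingIdeal_of_isReduced ι']
  congr 1
  apply Closeds.ext
  simp only [Closeds.coe_closure]
  -- density of the g'
  have hdense' : Dense (⋃ i, Set.range (g' i)) :=
    (Groth.Agent.S4873.result (fun i => pullback (g i ≫ J.subschemeι ≫ p) q) g').1 hsd'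
  apply subset_antisymm
  · apply closure_minimal _ isClosed_closure
    refine Set.iUnion_subset fun i => ?_
    rintro _ ⟨z, rfl⟩
    rw [hfac i]
    exact subset_closure ⟨g' i ((e i).hom z), rfl⟩
  · apply closure_minimal _ isClosed_closure
    rintro _ ⟨y, rfl⟩
    have hy : y ∈ closure (⋃ i, Set.range (g' i)) := hdense' y
    have h3 := image_closure_subset_closure_image ι'.continuous ⟨y, hy, rfl⟩
    refine closure_mono ?_ h3
    rintro _ ⟨_, ⟨_, ⟨i, rfl⟩, ⟨z, rfl⟩⟩, rfl⟩
    refine Set.mem_iUnion.mpr ⟨i, (e i).inv z, ?_⟩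
    rw [hfac i]
    simp

end Groth.Agent.H3.VanBC
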