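import Mathlib
import Groth.Agent.Lib.Helper3.LargestOpenSt
import Groth.Agent.Lib.Helper3.ImmCover
import Groth.Agent.Lib.Helper3.ClosedDefA
import Groth.Agent.Lib.Helper3.VanBC
import Groth.Agent.Lib.Helper3.GerbSec.Crit
import Groth.Agent.Lib.Helper3.AlgSt.Points.FpChart
import Groth.Agent.Lib.Helper3.AlgSpCov.RedNoeth
import Groth.Agent.Lib.Helper5.AlgSp.ClosedDescent
import Groth.Agent.Lib.Helper5.Descent.ImmersionDescent
import Groth.Agent.H4.SmRed2

/-!
# The reduced closed substack on a closed subset of the points: tools (helper3, S12867)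

* `lemmaG`: if `s, t : R ⟶ U₀` with `s` smooth and `t` maps `s ⁻¹' C` into `C`, then a morphism
  `r : T ⟶ R` with `r ≫ s` factoring through the reduced closed subscheme on `C` has `r ≫ t`
  factoring through it as well (smooth over reduced is reduced).
* `exists_chart_lift`: for two scheme charts `y, z` of an algebraic stack, a scheme `G'` with an
  etale surjection onto `U ×_𝒳 V`; every object of the fibre product lifts to `G'` locally.
-/

set_option autoImplicit false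
universe u
open CategoryTheory CategoryTheory.Functor CategoryTheory.Limits Opposite AlgebraicGeometry

noncomputable section

namespace Groth.Agent.H3.RedClosed

open Groth.Agent.H3.FibCatAux Groth.Agent.H3.GerbAux Groth.Agent.H3.FpCalc Groth.Agent.H3.TwoCart
  Groth.Agent.H3.StackPsh Groth.Agent.H3.PshBridge Groth.Agent.H3.AlgStAux Groth.Agent.H3.RepBridge
  Groth.Agent.H3.SetoidPsh Groth.Agent.H3.BaseChangeSp Groth.Agent.H3.AlgStComp
  Groth.Agent.H3.AlgStProps Groth.Agent.H3.AlgStBridge2 Groth.Agent.H3.AlgStCharts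
  Groth.Agent.H3.AlgStDescent Groth.Agent.H3.Whisker Groth.Agent.H3.AlgStLES
  Groth.Agent.H3.FPtRel Groth.Agent.H3.AlgStStackRep Groth.Agent.H3.TwoYoneda
  Groth.Agent.H3.AlgStPoints Groth.Agent.H3.AlgStLocQ Groth.Agent.H3.AlgStDiag
  Groth.Agent.H3.OpenSub

variable {S : Scheme.{u}}

/-! ### Schemes -/

open Scheme.IdealSheafData in
/-- smooth over reduced is reduced, applied to the saturation of the reduced closed subscheme -/
theorem lemmaG {U₀ R T : Scheme.{u}} (C : TopologicalSpace.Closeds ↥U₀) (s t : R ⟶ U₀) [Smooth s]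
    (hst : ∀ p : ↥R, s p ∈ C → t p ∈ C) (r : T ⟶ R)
    (l : T ⟶ (vanishingIdeal C).subscheme)
    (hl : l ≫ (vanishingIdeal C).subschemeι = r ≫ s) :
    ∃ l' : T ⟶ (vanishingIdeal C).subscheme, l' ≫ (vanishingIdeal C).subschemeι = r ≫ t := by
  haveI hZ : IsReduced (vanishingIdeal C).subscheme :=
    Groth.Agent.H3.ClosedDef.isReduced_subscheme_vanishingIdeal C
  haveI hP : IsReduced (pullback s (vanishingIdeal C).subschemeι) :=
    Groth.Agent.H4.SmRed.isReduced_of_smooth_scheme (pullback.snd s (vanishingIdeal C).subschemeι)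
  have hrange : Set.range (pullback.fst s (vanishingIdeal C).subschemeι ≫ t) ⊆ (C : Set ↥U₀) := by
    rintro _ ⟨p, rfl⟩
    rw [Scheme.Hom.comp_apply]
    apply hst
    have h1 : s (pullback.fst s (vanishingIdeal C).subschemeι p) =
        (vanishingIdeal C).subschemeι (pullback.snd s (vanishingIdeal C).subschemeι p) := by
      rw [← Scheme.Hom.comp_apply, ← Scheme.Hom.comp_apply, pullback.condition]
    rw [h1]
    have h2 : (vanishingIdeal C).subschemeι (pullback.snd s (vanishingIdeal C).subschemeι p) ∈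
        Set.range (vanishingIdeal C).subschemeι := ⟨_, rfl⟩
    rw [Scheme.IdealSheafData.range_subschemeι, coe_support_vanishingIdeal] at h2
    exact h2
  have hker : (vanishingIdeal C).subschemeι.ker ≤
      (pullback.fst s (vanishingIdeal C).subschemeι ≫ t).ker := by
    rw [Scheme.IdealSheafData.ker_subschemeι,
      Groth.Agent.H3.VanBC.ker_eq_vanishingIdeal_of_isReduced]
    apply vanishingIdeal_antimono
    exact TopologicalSpace.Closeds.gc.l_le hrange
  refine ⟨pullback.lift r l hl.symm ≫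
    IsClosedImmersion.lift (vanishingIdeal C).subschemeι _ hker, ?_⟩
  rw [Category.assoc, IsClosedImmersion.lift_fac, pullback.lift_fst_assoc]

/-- the reduced closed subscheme on a closed subset, over `S` -/
def Zof (U₀ : Over S) (C₀ : TopologicalSpace.Closeds ↥U₀.left) : Over S :=
  Over.mk ((Scheme.IdealSheafData.vanishingIdeal C₀).subschemeι ≫ U₀.hom)

/-- its inclusion -/
def ιof (U₀ : Over S) (C₀ : TopologicalSpace.Closeds ↥U₀.left) : Zof U₀ C₀ ⟶ U₀ :=
  Over.homMk (Scheme.IdealSheafData.vanishingIdeal C₀).subschemeι rfl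

instance isClosedImmersion_ιof (U₀ : Over S) (C₀ : TopologicalSpace.Closeds ↥U₀.left) :
    IsClosedImmersion (ιof U₀ C₀).left :=
  inferInstanceAs (IsClosedImmersion (Scheme.IdealSheafData.vanishingIdeal C₀).subschemeι)

instance mono_ιof (U₀ : Over S) (C₀ : TopologicalSpace.Closeds ↥U₀.left) : Mono (ιof U₀ C₀) := by
  have : Mono (ιof U₀ C₀).left := inferInstance
  exact (Over.forget S).mono_of_mono_map this

instance isReduced_Zof (U₀ : Over S) (C₀ : TopologicalSpace.Closeds ↥U₀.left) :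
    IsReduced (Zof U₀ C₀).left :=
  Groth.Agent.H3.ClosedDef.isReduced_subscheme_vanishingIdeal C₀

lemma range_ιof (U₀ : Over S) (C₀ : TopologicalSpace.Closeds ↥U₀.left) :
    Set.range (ιof U₀ C₀).left = (C₀ : Set ↥U₀.left) := by
  change Set.range (Scheme.IdealSheafData.vanishingIdeal C₀).subschemeι = _
  rw [Scheme.IdealSheafData.range_subschemeι, Scheme.IdealSheafData.coe_support_vanishingIdeal]

/-- `lemmaG` over `S` -/
theorem lemmaG' {U₀ R T : Over S} (C₀ : TopologicalSpace.Closeds ↥U₀.left) (s t : R ⟶ U₀)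
    [Smooth s.left] (hst : ∀ p : ↥R.left, s.left p ∈ C₀ → t.left p ∈ C₀) (r : T ⟶ R)
    (l : T ⟶ Zof U₀ C₀) (hl : l ≫ ιof U₀ C₀ = r ≫ s) :
    ∃ l' : T ⟶ Zof U₀ C₀, l' ≫ ιof U₀ C₀ = r ≫ t := by
  have hl' : l.left ≫ (Scheme.IdealSheafData.vanishingIdeal C₀).subschemeι = r.left ≫ s.left :=
    congrArg (fun m => m.left) hl
  obtain ⟨l₀, hl₀⟩ := lemmaG C₀ s.left t.left hst r.left l.left hl'
  have hw : l₀ ≫ (Zof U₀ C₀).hom = T.hom := by
    change l₀ ≫ (Scheme.IdealSheafData.vanishingIdeal C₀).subschemeι ≫ U₀.hom = T.hom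
    rw [← Category.assoc, hl₀, Category.assoc, Over.w t, Over.w r]
  refine ⟨Over.homMk l₀ hw, ?_⟩
  apply Over.OverMorphism.ext
  exact hl₀

/-- factoring through a monomorphism of schemes over `S` is local for the fppf topology -/
lemma exists_lift_of_local {Z V T : Over S} (ι : Z ⟶ V) [Mono ι] (u : T ⟶ V) (R : Sieve T)
    (hR : R ∈ AlgSp.J S T)
    (h : ∀ ⦃W : Over S⦄ (k : W ⟶ T), R k → ∃ l : W ⟶ Z, l ≫ ι = k ≫ u) :
    ∃ l : T ⟶ Z, l ≫ ι = u := by
  have hmem : Groth.Agent.H5.AlgSp.liftSieve ((AlgSp.yon S).map ι) ((AlgSp.yon S).map u) ∈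
      AlgSp.J S T := by
    refine (AlgSp.J S).superset_covering ?_ hR
    intro W k hk
    obtain ⟨l, hl⟩ := h k hk
    exact ⟨(AlgSp.yon S).map l, by rw [← Functor.map_comp, hl, Functor.map_comp]⟩
  obtain ⟨τ, hτ⟩ :=
    Groth.Agent.H5.AlgSp.exists_lift_of_mono_of_liftSieve_mem ((AlgSp.yon S).map ι) _ hmem
  obtain ⟨w, rfl⟩ := (AlgSp.yon S).map_surjective τ
  exact ⟨w, (AlgSp.yon S).map_injective (by rw [Functor.map_comp, hτ])⟩

/-! ### Morphisms of `(Sch/U)` over morphisms of `(Sch/S)` -/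

lemma over_hom_eq {U : Over S} {A B : Over U} (m : A ⟶ B) {W T' : Over S} (k : W ⟶ T')
    [h : (FibCat.overCat U).p.IsHomLift k m] (hd : A.left = W) (hc : B.left = T') :
    A.hom = eqToHom hd ≫ k ≫ eqToHom hc.symm ≫ B.hom := by
  subst_hom_lift (FibCat.overCat U).p k m
  show A.hom = 𝟙 _ ≫ m.left ≫ 𝟙 _ ≫ B.hom
  rw [Category.id_comp, Category.id_comp]
  exact (Over.w m).symm

lemma over_hom_eq₀ {U : Over S} {A B : Over U} (m : A ⟶ B) (k : A.left ⟶ B.left)
    (h : (FibCat.overCat U).p.IsHomLift k m) : A.hom = k ≫ B.hom := by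
  have e := over_hom_eq m k (h := h) rfl rfl
  have e' : A.hom = 𝟙 _ ≫ k ≫ 𝟙 _ ≫ B.hom := e
  rwa [Category.id_comp, Category.id_comp] at e'

lemma fp_snd_isHomLift {𝒜 ℬ 𝒮 : AlgSt.Cat S} {F : 𝒜 ⥤ᵇ 𝒮} {G : ℬ ⥤ᵇ 𝒮}
    {X Y : (FibCat.fp F G).obj} (φ : X ⟶ Y) {R T : Over S} (f : R ⟶ T)
    (h : (FibCat.fp F G).p.IsHomLift f φ) : ℬ.p.IsHomLift f φ.hom.snd := by
  subst_hom_lift (FibCat.fp F G).p f φ
  exact inferInstance

variable {𝒳 : AlgSt.Cat S}

/-- two objects isomorphic over the identity to values of a chart at equal morphisms -/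
lemma iso_of_eq {U T : Over S} (y : FibCat.overCat U ⥤ᵇ 𝒳) {m m' : T ⟶ U} (h : m = m')
    {A B : 𝒳.obj} (α : A ≅ y.obj (Over.mk m)) (β : B ≅ y.obj (Over.mk m'))
    (hα : 𝒳.p.IsHomLift (𝟙 T) α.hom) (hβ : 𝒳.p.IsHomLift (𝟙 T) β.hom) :
    ∃ γ : A ≅ B, 𝒳.p.IsHomLift (𝟙 T) γ.hom := by
  subst h
  haveI := hα
  haveI := hβ
  refine ⟨α ≪≫ β.symm, ?_⟩
  change 𝒳.p.IsHomLift (𝟙 T) (α.hom ≫ β.inv)
  infer_instance

/-- a morphism to a value of a chart is, up to an isomorphism over the identity, the value of the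
chart at a morphism -/
theorem exists_iso_chart (g𝒳 : FibCat.IsFibGrpd 𝒳.p) {U : Over S}
    (y : FibCat.overCat U ⥤ᵇ 𝒳) (b : (FibCat.overCat U).obj) {A : 𝒳.obj} (α : A ⟶ y.obj b)
    {T T' : Over S} (g : T ⟶ T') (hα : 𝒳.p.IsHomLift g α) :
    ∃ (g' : T ⟶ b.left) (β : A ≅ y.obj (Over.mk (g' ≫ b.hom))),
      𝒳.p.IsHomLift (𝟙 T) β.hom := by
  haveI := hα
  have hT' : b.left = T' := (y.w_obj b).symm.trans (IsHomLift.codomain_eq 𝒳.p g α)
  subst hT'
  let β₀ : Over.mk (g ≫ b.hom) ⟶ b := Over.homMk g rfl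
  have hβ₀ : (FibCat.overCat U).p.IsHomLift g β₀ := IsHomLift.map (FibCat.overCat U).p β₀
  have hβ : 𝒳.p.IsHomLift g (y.map β₀) := (BasedFunctor.isHomLift_iff y g β₀).mpr hβ₀
  have hcart : 𝒳.p.IsStronglyCartesian g (y.map β₀) :=
    isStronglyCartesian_of_isHomLift 𝒳.p g𝒳 _ _
  have hα' : 𝒳.p.IsHomLift (𝟙 T ≫ g) α := by rw [Category.id_comp]; exact hα
  let χ : A ⟶ y.obj (Over.mk (g ≫ b.hom)) :=
    IsStronglyCartesian.map 𝒳.p g (y.map β₀) (f' := 𝟙 T ≫ g) rfl α
  have hχ : 𝒳.p.IsHomLift (𝟙 T) χ :=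
    IsStronglyCartesian.map_isHomLift 𝒳.p g (y.map β₀) rfl α
  haveI : IsIso χ := isIso_of_isHomLift_id 𝒳.p g𝒳 (U := T) χ
  exact ⟨g, asIso χ, hχ⟩

/-! ### Lifting objects of the fibre product of two charts to a scheme chart -/

/-- **Scheme charts of `U ×_𝒳 V`.**  For two scheme charts `y`, `z` of an algebraic stack there
are a scheme `G'` and `c : G' ⟶ U`, `t : G' ⟶ V` with `z ∘ t ≅ y ∘ c`, such that `c` (resp. `t`)
inherits smoothness and surjectivity from `z` (resp. `y`), and every object of `U ×_𝒳 V` lifts to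
`G'` locally for the fppf topology. -/
theorem exists_chart_lift (h𝒳 : AlgSt.IsAlgStack Scheme.fppfPrecoverage 𝒳) {U V : Over S}
    (y : FibCat.overCat U ⥤ᵇ 𝒳) (z : FibCat.overCat V ⥤ᵇ 𝒳) :
    ∃ (G' : Over S) (c : G' ⟶ U) (t : G' ⟶ V),
      Nonempty (BasedFunctor.comp (AlgSt.overMap t) z ≅ BasedFunctor.comp (AlgSt.overMap c) y) ∧
      (AlgSt.RepByAlgSpWith (AlgSp.LocP @Smooth) z → Smooth c.left) ∧
      (AlgSt.RepByAlgSpWith AlgSp.IsSurjectiveMor z → Function.Surjective c.left) ∧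
      (AlgSt.RepByAlgSpWith (AlgSp.LocP @Smooth) y → Smooth t.left) ∧
      (AlgSt.RepByAlgSpWith AlgSp.IsSurjectiveMor y → Function.Surjective t.left) ∧
      ∀ (T : Over S) (a : T ⟶ U) (b : T ⟶ V) (α : y.obj (Over.mk a) ≅ z.obj (Over.mk b)),
        𝒳.p.IsHomLift (𝟙 T) α.hom →
        ∃ R ∈ AlgSp.J S T, ∀ ⦃W : Over S⦄ (k : W ⟶ T), R k →
          ∃ v : W ⟶ G', v ≫ c = k ≫ a ∧ v ≫ t = k ≫ b := by
  have g𝒳 := h𝒳.isStack.1
  obtain ⟨G, e, he⟩ := repByAlgSp1_chart_of_diag g𝒳 h𝒳.diag V z U y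
  obtain ⟨G', q, c, t, hqe, hqs, hc, ht, ⟨i0⟩, -⟩ :=
    exists_scheme_chart_fp_scheme g𝒳 V z U y G e he
  refine ⟨G', c, t, ⟨i0⟩, ?_, ?_, ?_, ?_, ?_⟩
  · intro hz
    exact prop_of_chart q _ c hc hqe
      (fst_prop _ good_smooth.bc good_smooth.toC.charts z hz U y G e he)
  · intro hz
    exact surjective_of_chart q _ c hc hqs
      (fst_prop _ good_isSurjectiveMor.bc good_isSurjectiveMor.toC.charts z hz U y G e he)
  · intro hy
    exact prop_of_chart q _ t ht hqe
      (snd_prop _ good_smooth.bc good_smooth.toC.charts z U y hy G e he)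
  · intro hy
    exact surjective_of_chart q _ t ht hqs
      (snd_prop _ good_isSurjectiveMor.bc good_isSurjectiveMor.toC.charts z U y hy G e he)
  · intro T a b α hα
    let Ψ : FibCat.overCat G' ⥤ᵇ FibCat.fp y z :=
      BasedFunctor.comp (ofOver G') (BasedFunctor.comp (AlgSt.ofSpMap q) e)
    obtain ⟨i2'⟩ := chart_proj_iso q (BasedFunctor.comp e (FibCat.fpFst y z)) c hc
    obtain ⟨i3'⟩ := chart_proj_iso q (BasedFunctor.comp e (FibCat.fpSnd y z)) t ht
    let i2 : BasedFunctor.comp Ψ (FibCat.fpFst y z) ≅ AlgSt.overMap c := i2'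
    let i3 : BasedFunctor.comp Ψ (FibCat.fpSnd y z) ≅ AlgSt.overMap t := i3'
    have gfp : FibCat.IsFibGrpd (FibCat.fp y z).p :=
      X6401 y z (isFibGrpd_overCat U) (isFibGrpd_overCat V) g𝒳
    have hqe' : AlgSp.LocP @Etale q := Groth.Agent.H5.AlgSp.locP_of_repWith le_rfl hqe
    have hsm : AlgSt.RepByAlgSpWith (AlgSp.LocP @Smooth) (spChart q) :=
      rep_spChart _ good_smooth.bc good_smooth.toC.charts G.property q
        (Groth.Agent.H5.AlgSp.locP_mono
          (fun _ _ f hf => by have : Etale f := hf; exact (inferInstance : Smooth f)) hqe')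
    have hsj : AlgSt.RepByAlgSpWith AlgSp.IsSurjectiveMor (spChart q) :=
      rep_spChart _ good_isSurjectiveMor.bc good_isSurjectiveMor.toC.charts G.property q
        (Groth.Agent.H5.AlgSp.points_map_surjective_of_repWith hqs)
    have hΨsm : AlgSt.RepByAlgSpWith (AlgSp.LocP @Smooth) Ψ :=
      repByAlgSpWith_of_square' _ Ψ (spChart q) (BasedFunctor.id _) e isEquivOver_id he
        (Iso.refl _) hsm
    have hΨsj : AlgSt.RepByAlgSpWith AlgSp.IsSurjectiveMor Ψ :=
      repByAlgSpWith_of_square' _ Ψ (spChart q) (BasedFunctor.id _) e isEquivOver_id he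
        (Iso.refl _) hsj
    have hLS := Groth.Agent.H3.GerbSec.locSurjObj_of_les gfp Ψ
      (Groth.Agent.H3.AlgStDiagLft.les_of_smooth_surjective Ψ hΨsm hΨsj)
    obtain ⟨R, hR, hRk⟩ := hLS (fpMk y z (Over.mk a) (Over.mk b) α hα)
    refine ⟨R, hR, ?_⟩
    intro W k hk
    obtain ⟨x, g, hg⟩ := hRk k hk
    haveI := hg
    have hd : x.left = W :=
      (Ψ.w_obj x).symm.trans (@IsHomLift.domain_eq _ _ _ _ (FibCat.fp y z).p _ _ _ _ k g hg)
    subst hd
    have hg1 : (FibCat.overCat U).p.IsHomLift k g.hom.fst := (fp_isHomLift_iff y z k g).1 hg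
    have hg2 : (FibCat.overCat V).p.IsHomLift k g.hom.snd := fp_snd_isHomLift g k hg
    have h2i : (FibCat.overCat U).p.IsHomLift (𝟙 x.left) (appIso i2 x).inv :=
      appIso_inv_isHomLift i2 x rfl
    have h3i : (FibCat.overCat V).p.IsHomLift (𝟙 x.left) (appIso i3 x).inv :=
      appIso_inv_isHomLift i3 x rfl
    have hm1 := @IsHomLift.comp_lift_id_left _ _ _ _ _ _ _ _ _ _ k g.hom.fst hg1
      (appIso i2 x).inv h2i
    have hm2 := @IsHomLift.comp_lift_id_left _ _ _ _ _ _ _ _ _ _ k g.hom.snd hg2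
      (appIso i3 x).inv h3i
    refine ⟨x.hom, ?_, ?_⟩
    · exact over_hom_eq₀ (A := (AlgSt.overMap c).obj x) (B := Over.mk a) _ k hm1
    · exact over_hom_eq₀ (A := (AlgSt.overMap t).obj x) (B := Over.mk b) _ k hm2

end Groth.Agent.H3.RedClosed
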