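import Mathlib
import Groth.Agent.Lib.Helper3.RedClosedA

/-!
# The reduced closed substack on a closed subset of the points (helper3, S12867)

For an algebraic stack `𝒳` with smooth surjective atlas `x₀ : U₀ ⟶ 𝒳` and a closed subset `T₀` of
`|𝒳|`, let `Z₀ ⊂ U₀` be the reduced closed subscheme on the preimage of `T₀`.  The substack is cut
out by the predicate `QZ`: every lift of (a pullback of) the object to `U₀` factors through `Z₀`.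
-/

set_option autoImplicit false
universe u
open CategoryTheory CategoryTheory.Functor CategoryTheory.Limits Opposite AlgebraicGeometry

noncomputable section

namespace Groth.Agent.H3.RedClosed

open Groth.Agent.H3.FibCatAux Groth.Agent.H3.GerbAux Groth.Agent.H3.FpCalc Groth.Agent.H3.TwoCart
  Groth.Agent.H3.StackPsh Groth.Agent.H3.PshBridge Groth.Agent.H3.AlgStAux Groth.Agent.H3.RepBridge
  Groth.Agent.H3.SetoidPsh Groth.Agent.H3.BaseChangeSp Groth.Agent.H3.AlgStComp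
  Groth.Agent.H3.AlgStProps Groth.Agent.H3.AlgStBridge2 Groth.Agent.H3.AlgStCharts
  Groth.Agent.H3.AlgStDescent Groth.Agent.H3.Whisker Groth.Agent.H3.AlgStLES
  Groth.Agent.H3.FPtRel Groth.Agent.H3.AlgStStackRep Groth.Agent.H3.TwoYoneda
  Groth.Agent.H3.AlgStPoints Groth.Agent.H3.AlgStLocQ Groth.Agent.H3.AlgStDiag
  Groth.Agent.H3.OpenSub

variable {S : Scheme.{u}} {𝒳 : AlgSt.Cat S}

/-- the predicate cutting out the substack: every lift to the atlas of a pullback of the object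
factors through `Z₀` -/
def QZ {U₀ Z₀ : Over S} (x₀ : FibCat.overCat U₀ ⥤ᵇ 𝒳) (ι₀ : Z₀ ⟶ U₀) : 𝒳.obj → Prop :=
  fun a => ∀ (T T' : Over S) (u : T ⟶ U₀) (g : T ⟶ T') (α : x₀.obj (Over.mk u) ⟶ a),
    𝒳.p.IsHomLift g α → ∃ l : T ⟶ Z₀, l ≫ ι₀ = u

lemma qz_of_hom {U₀ Z₀ : Over S} (x₀ : FibCat.overCat U₀ ⥤ᵇ 𝒳) (ι₀ : Z₀ ⟶ U₀) {a b : 𝒳.obj}
    (m : a ⟶ b) (hb : QZ x₀ ι₀ b) : QZ x₀ ι₀ a := by
  intro T T' u g α hα
  haveI := hα
  obtain rfl : 𝒳.p.obj a = T' := IsHomLift.codomain_eq 𝒳.p g α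
  exact hb T (𝒳.p.obj b) u (g ≫ 𝒳.p.map m) (α ≫ m) inferInstance

lemma factor_of_qz {U₀ Z₀ : Over S} (x₀ : FibCat.overCat U₀ ⥤ᵇ 𝒳) (ι₀ : Z₀ ⟶ U₀)
    (x : (FibCat.overCat U₀).obj) (hx : QZ x₀ ι₀ (x₀.obj x)) :
    ∃ l : x.left ⟶ Z₀, l ≫ ι₀ = x.hom := by
  let β₀ : Over.mk (𝟙 x.left ≫ x.hom) ⟶ x := Over.homMk (𝟙 x.left) rfl
  have hβ₀ : (FibCat.overCat U₀).p.IsHomLift (𝟙 x.left) β₀ :=
    IsHomLift.map (FibCat.overCat U₀).p β₀
  have hβ : 𝒳.p.IsHomLift (𝟙 x.left) (x₀.map β₀) :=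
    (BasedFunctor.isHomLift_iff x₀ _ β₀).mpr hβ₀
  obtain ⟨l, hl⟩ := hx x.left x.left (𝟙 x.left ≫ x.hom) (𝟙 x.left) (x₀.map β₀) hβ
  exact ⟨l, by rw [hl, Category.id_comp]⟩

section Main

variable (h𝒳 : AlgSt.IsAlgStack Scheme.fppfPrecoverage 𝒳) {U₀ : Over S}
  (x₀ : FibCat.overCat U₀ ⥤ᵇ 𝒳) (hsm : AlgSt.RepByAlgSpWith (AlgSp.LocP @Smooth) x₀)
  (hsj : AlgSt.RepByAlgSpWith AlgSp.IsSurjectiveMor x₀)
  (C₀ : TopologicalSpace.Closeds ↥U₀.left) (T₀ : Set (AlgSt.Points 𝒳))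
  (hC₀ : ∀ p : ↥U₀.left, p ∈ C₀ ↔ AlgSt.Points.ofChart x₀ p ∈ T₀)

include h𝒳 hsm hC₀ in
/-- saturation of `Z₀` under `U₀ ×_𝒳 U₀` -/
theorem sat (T : Over S) (u u' : T ⟶ U₀) (α : x₀.obj (Over.mk u) ≅ x₀.obj (Over.mk u'))
    (hα : 𝒳.p.IsHomLift (𝟙 T) α.hom) (hu' : ∃ l : T ⟶ Zof U₀ C₀, l ≫ ιof U₀ C₀ = u') :
    ∃ l : T ⟶ Zof U₀ C₀, l ≫ ιof U₀ C₀ = u := by
  obtain ⟨R₀, s, t, ⟨i0⟩, hs, -, -, -, hlift⟩ := exists_chart_lift h𝒳 x₀ x₀
  haveI : Smooth s.left := hs hsm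
  have hst : ∀ p : ↥R₀.left, s.left p ∈ C₀ → t.left p ∈ C₀ := by
    intro p hp
    rw [hC₀] at hp ⊢
    have e1 : AlgSt.Points.ofChart x₀ (t.left p) = AlgSt.Points.ofChart x₀ (s.left p) := by
      rw [← ofChart_overMap t x₀ p, ← ofChart_overMap s x₀ p]
      exact ofChart_congr i0 p
    rw [e1]
    exact hp
  obtain ⟨l, hl⟩ := hu'
  haveI := hα
  have hα' : 𝒳.p.IsHomLift (𝟙 T) α.symm.hom := by
    change 𝒳.p.IsHomLift (𝟙 T) α.inv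
    infer_instance
  obtain ⟨R, hR, hRk⟩ := hlift T u' u α.symm hα'
  refine exists_lift_of_local (ιof U₀ C₀) u R hR ?_
  intro W k hk
  obtain ⟨v, hv1, hv2⟩ := hRk k hk
  obtain ⟨l', hl'⟩ := lemmaG' C₀ s t hst v (k ≫ l) (by rw [Category.assoc, hl, hv1])
  exact ⟨l', by rw [hl', hv2]⟩

include h𝒳 hsm hC₀ in
/-- the value of the atlas at a morphism factoring through `Z₀` satisfies `QZ` -/
theorem qz_of_factor (A : (FibCat.overCat U₀).obj) (l : A.left ⟶ Zof U₀ C₀)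
    (hl : l ≫ ιof U₀ C₀ = A.hom) : QZ x₀ (ιof U₀ C₀) (x₀.obj A) := by
  intro T T' u g α hα
  obtain ⟨g', β, hβ⟩ := exists_iso_chart h𝒳.isStack.1 x₀ A α g hα
  exact sat h𝒳 x₀ hsm C₀ T₀ hC₀ T u (g' ≫ A.hom) β hβ ⟨g' ≫ l, by rw [Category.assoc, hl]⟩

include h𝒳 hsm hsj hC₀ in
/-- the pullback of the substack to any chart is a closed subscheme -/
theorem chart_closed (U : Over S) (y : FibCat.overCat U ⥤ᵇ 𝒳) :
    ∃ (U' : Over S) (ι : U' ⟶ U), Mono ι ∧ IsClosedImmersion ι.left ∧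
      (∀ c, QZ x₀ (ιof U₀ C₀) ((BasedFunctor.comp (AlgSt.overMap ι) y).obj c)) ∧
      ∀ x : (FibCat.overCat U).obj, QZ x₀ (ιof U₀ C₀) (y.obj x) →
        ∃ l : x.left ⟶ U', l ≫ ι = x.hom := by
  have g𝒳 := h𝒳.isStack.1
  obtain ⟨G', c, t₂, ⟨i0⟩, hc_sm, hc_sj, -, -, hlift⟩ := exists_chart_lift h𝒳 y x₀
  haveI hcsm : Smooth c.left := hc_sm hsm
  have hcs : Function.Surjective c.left := hc_sj hsj
  -- the closed subscheme of `G'`
  obtain ⟨ZG, hZG⟩ : ∃ ZG : Over S,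
      ZG = Over.mk (pullback.fst t₂.left (ιof U₀ C₀).left ≫ G'.hom) := ⟨_, rfl⟩
  subst hZG
  obtain ⟨ιG, hιG⟩ : ∃ ιG : Over.mk (pullback.fst t₂.left (ιof U₀ C₀).left ≫ G'.hom) ⟶ G',
      ιG = Over.homMk (pullback.fst t₂.left (ιof U₀ C₀).left) rfl := ⟨_, rfl⟩
  have hιGl : ιG.left = pullback.fst t₂.left (ιof U₀ C₀).left := by rw [hιG]; rfl
  have hw : pullback.snd t₂.left (ιof U₀ C₀).left ≫ (Zof U₀ C₀).hom =
      (Over.mk (pullback.fst t₂.left (ιof U₀ C₀).left ≫ G'.hom)).hom := by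
    change pullback.snd _ _ ≫ (ιof U₀ C₀).left ≫ U₀.hom = pullback.fst _ _ ≫ G'.hom
    rw [← pullback.condition_assoc, Over.w t₂]
  obtain ⟨sndG, hsndG⟩ : ∃ sndG : Over.mk (pullback.fst t₂.left (ιof U₀ C₀).left ≫ G'.hom) ⟶
      Zof U₀ C₀, sndG = Over.homMk (pullback.snd t₂.left (ιof U₀ C₀).left) hw := ⟨_, rfl⟩
  have hcond : ιG ≫ t₂ = sndG ≫ ιof U₀ C₀ := by
    apply Over.OverMorphism.ext
    rw [hιG, hsndG]
    exact pullback.condition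
  have hZGlift : ∀ {W : Over S} (v : W ⟶ G') (l : W ⟶ Zof U₀ C₀), l ≫ ιof U₀ C₀ = v ≫ t₂ →
      ∃ w : W ⟶ Over.mk (pullback.fst t₂.left (ιof U₀ C₀).left ≫ G'.hom), w ≫ ιG = v := by
    intro W v l h
    have h' : v.left ≫ t₂.left = l.left ≫ (ιof U₀ C₀).left :=
      (congrArg (fun m => m.left) h).symm
    refine ⟨Over.homMk (pullback.lift v.left l.left h') ?_, ?_⟩
    · change pullback.lift v.left l.left h' ≫ pullback.fst _ _ ≫ G'.hom = W.hom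
      rw [pullback.lift_fst_assoc, Over.w v]
    · apply Over.OverMorphism.ext
      rw [hιG]
      exact pullback.lift_fst _ _ _
  haveI hιGcl : IsClosedImmersion ιG.left := by rw [hιGl]; infer_instance
  haveI hιGm : Mono ιG := by
    have : Mono ιG.left := inferInstance
    exact (Over.forget S).mono_of_mono_map this
  -- saturation
  have hsat : ∀ (T : Over S) (v v' : T ⟶ G'),
      (AlgSp.yon S).map v ≫ (AlgSp.yon S).map c = (AlgSp.yon S).map v' ≫ (AlgSp.yon S).map c →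
      (∃ w : T ⟶ Over.mk (pullback.fst t₂.left (ιof U₀ C₀).left ≫ G'.hom), w ≫ ιG = v') →
      ∃ w : T ⟶ Over.mk (pullback.fst t₂.left (ιof U₀ C₀).left ≫ G'.hom), w ≫ ιG = v := by
    rintro T v v' hvv ⟨w', hw'⟩
    have hvc : v ≫ c = v' ≫ c :=
      (AlgSp.yon S).map_injective (by rw [Functor.map_comp, Functor.map_comp]; exact hvv)
    have h1 : 𝒳.p.IsHomLift (𝟙 T) (appIso i0 (Over.mk v)).hom :=
      appIso_hom_isHomLift i0 _ rfl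
    have h2 : 𝒳.p.IsHomLift (𝟙 T) (appIso i0 (Over.mk v')).hom :=
      appIso_hom_isHomLift i0 _ rfl
    obtain ⟨γ, hγ⟩ := iso_of_eq y hvc (appIso i0 (Over.mk v)) (appIso i0 (Over.mk v')) h1 h2
    obtain ⟨l, hl⟩ := sat h𝒳 x₀ hsm C₀ T₀ hC₀ T (v ≫ t₂) (v' ≫ t₂) γ hγ
      ⟨w' ≫ sndG, by rw [Category.assoc, ← hcond, ← Category.assoc, hw']⟩
    exact hZGlift v l hl
  obtain ⟨ld, hld⟩ :=
    Groth.Agent.H5.AlgSp.exists_descLift (p := (AlgSp.yon S).map c) (ι := ιG) hsat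
  have sq := Groth.Agent.H5.AlgSp.isPullback_desc ld hld
  have hflat : AlgSp.RepWith @Flat ((AlgSp.yon S).map c) :=
    (AlgSp.repWith_yon_map_iff _ c).2 (inferInstance : Flat c.left)
  have hlfp : AlgSp.RepWith @LocallyOfFinitePresentation ((AlgSp.yon S).map c) :=
    (AlgSp.repWith_yon_map_iff _ c).2 (inferInstance : LocallyOfFinitePresentation c.left)
  have hsurj : AlgSp.RepWith @Surjective ((AlgSp.yon S).map c) :=
    (AlgSp.repWith_yon_map_iff _ c).2 ⟨hcs⟩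
  have hιGrep : AlgSp.RepWith @IsClosedImmersion ((AlgSp.yon S).map ιG) :=
    (AlgSp.repWith_yon_map_iff _ ιG).2 hιGcl
  have hcl : AlgSp.RepWith @IsClosedImmersion
      (Groth.Agent.H5.AlgSp.descι ((AlgSp.yon S).map c) ιG) :=
    Groth.Agent.H5.Descent.repWith_isClosedImmersion_of_baseChange hflat hlfp hsurj sq hιGrep
  obtain ⟨U', ι, fstU, sqU⟩ := hcl.rep (𝟙 ((AlgSp.yon S).obj U))
  have hιcl : IsClosedImmersion ι.left := hcl.property (𝟙 _) fstU ι sqU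
  haveI hιm : Mono ι := by
    have : Mono ι.left := inferInstance
    exact (Over.forget S).mono_of_mono_map this
  have hfstU : fstU ≫ Groth.Agent.H5.AlgSp.descι ((AlgSp.yon S).map c) ιG =
      (AlgSp.yon S).map ι := by rw [sqU.w, Category.comp_id]
  refine ⟨U', ι, hιm, hιcl, ?_, ?_⟩
  · -- objects over `U'` satisfy `QZ`
    intro c' T T' u g α hα
    obtain ⟨g', β, hβ⟩ := exists_iso_chart g𝒳 y ((AlgSt.overMap ι).obj c') α g hα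
    haveI := hβ
    have hβ' : 𝒳.p.IsHomLift (𝟙 T) β.symm.hom := by
      change 𝒳.p.IsHomLift (𝟙 T) β.inv
      infer_instance
    obtain ⟨R, hR, hRk⟩ := hlift T (g' ≫ ((AlgSt.overMap ι).obj c').hom) u β.symm hβ'
    refine exists_lift_of_local (ιof U₀ C₀) u R hR ?_
    intro W k hk
    obtain ⟨v, hv1, hv2⟩ := hRk k hk
    have hfac := (Groth.Agent.H5.AlgSp.exists_lift_desc_iff (p := (AlgSp.yon S).map c)
      (ι := ιG) ((AlgSp.yon S).map ι)).1 ⟨fstU, hfstU⟩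
    have e : v ≫ c = (k ≫ g' ≫ c'.hom) ≫ ι := by
      rw [hv1, Category.assoc, Category.assoc]
      rfl
    obtain ⟨w, hw⟩ := hfac W ((AlgSp.yon S).map (k ≫ g' ≫ c'.hom)) v (by
      rw [← Functor.map_comp, ← Functor.map_comp, e])
    exact ⟨w ≫ sndG, by rw [Category.assoc, ← hcond, ← Category.assoc, hw, hv2]⟩
  · -- objects satisfying `QZ` factor through `U'`
    intro x hx
    have h1 : ∃ gd : (AlgSp.yon S).obj x.left ⟶
        Groth.Agent.H5.AlgSp.desc ((AlgSp.yon S).map c) ιG,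
        gd ≫ Groth.Agent.H5.AlgSp.descι ((AlgSp.yon S).map c) ιG = (AlgSp.yon S).map x.hom := by
      apply (Groth.Agent.H5.AlgSp.exists_lift_desc_iff (p := (AlgSp.yon S).map c)
        (ι := ιG) ((AlgSp.yon S).map x.hom)).2
      intro T ξ v hv
      obtain ⟨ξ₀, rfl⟩ := (AlgSp.yon S).map_surjective ξ
      have hvc : v ≫ c = ξ₀ ≫ x.hom :=
        (AlgSp.yon S).map_injective (by rw [Functor.map_comp, Functor.map_comp]; exact hv)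
      let β₀ : Over.mk (v ≫ c) ⟶ x := Over.homMk ξ₀ hvc.symm
      have hβ₀ : (FibCat.overCat U).p.IsHomLift ξ₀ β₀ := IsHomLift.map (FibCat.overCat U).p β₀
      have hβ : 𝒳.p.IsHomLift ξ₀ (y.map β₀) := (BasedFunctor.isHomLift_iff y ξ₀ β₀).mpr hβ₀
      have h1 : 𝒳.p.IsHomLift (𝟙 T) (appIso i0 (Over.mk v)).hom :=
        appIso_hom_isHomLift i0 _ rfl
      have hα := @IsHomLift.comp_lift_id_left _ _ _ _ _ _ _ _ _ _ ξ₀ (y.map β₀) hβ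
        (appIso i0 (Over.mk v)).hom h1
      obtain ⟨l, hl⟩ := hx T x.left (v ≫ t₂) ξ₀ _ hα
      exact hZGlift v l hl
    obtain ⟨gd, hgd⟩ := h1
    obtain ⟨l', hl'⟩ := (AlgSp.yon S).map_surjective
      (sqU.lift gd ((AlgSp.yon S).map x.hom) (by rw [hgd, Category.comp_id]))
    refine ⟨l', (AlgSp.yon S).map_injective ?_⟩
    rw [Functor.map_comp, hl', sqU.lift_snd]

end Main

/-- **S12867** -/
theorem main (h𝒳 : AlgSt.IsAlgStack Scheme.fppfPrecoverage 𝒳) (T₀ : Set (AlgSt.Points 𝒳))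
    (hT₀ : IsClosed T₀) :
    ∃ Q : 𝒳.obj → Prop, AlgSt.IsClosedSubstack 𝒳 Q Scheme.fppfPrecoverage ∧
      Set.range (AlgSt.Points.map (AlgSt.subIncl 𝒳 Q)) = T₀ ∧
      AlgSt.SmoothLocally (fun X => IsReduced X) (AlgSt.fullSub 𝒳 Q) := by
  have g𝒳 := h𝒳.isStack.1
  obtain ⟨U₀, x₀, hsm, hsj⟩ := h𝒳.atlas
  obtain ⟨C₀, hC₀⟩ : ∃ C₀ : TopologicalSpace.Closeds ↥U₀.left,
      ∀ p : ↥U₀.left, p ∈ C₀ ↔ AlgSt.Points.ofChart x₀ p ∈ T₀ :=
    ⟨⟨AlgSt.Points.ofChart x₀ ⁻¹' T₀, hT₀.preimage (continuous_ofChart h𝒳 U₀ x₀)⟩,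
      fun p => Iff.rfl⟩
  have hQhom : ∀ ⦃a b : 𝒳.obj⦄ (_ : a ⟶ b), QZ x₀ (ιof U₀ C₀) b → QZ x₀ (ιof U₀ C₀) a :=
    fun a b m hb => qz_of_hom x₀ _ m hb
  have hQi : ObjectProperty.IsClosedUnderIsomorphisms (QZ x₀ (ιof U₀ C₀)) :=
    ⟨fun e hx => hQhom e.inv hx⟩
  have hrep : AlgSt.IsClosedImm (AlgSt.subIncl 𝒳 (QZ x₀ (ιof U₀ C₀))) :=
    rep_subIncl_of_charts @IsClosedImmersion _ hQi
      (fun U y => chart_closed h𝒳 x₀ hsm hsj C₀ T₀ hC₀ U y)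
  have halg := isAlgStack_fullSub h𝒳 _ hQhom hrep
  have hQ₀ : ∀ c', QZ x₀ (ιof U₀ C₀)
      ((BasedFunctor.comp (AlgSt.overMap (ιof U₀ C₀)) x₀).obj c') := fun c' =>
    qz_of_factor h𝒳 x₀ hsm C₀ T₀ hC₀ ((AlgSt.overMap (ιof U₀ C₀)).obj c') c'.hom rfl
  have hfac : ∀ x : (FibCat.overCat U₀).obj, QZ x₀ (ιof U₀ C₀) (x₀.obj x) →
      ∃ l : x.left ⟶ Zof U₀ C₀, l ≫ ιof U₀ C₀ = x.hom :=
    fun x hx => factor_of_qz x₀ _ x hx
  have hcart := isTwoCartOver_sub _ hQi x₀ (ιof U₀ C₀) hQ₀ hfac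
  obtain ⟨z₀, hz₀⟩ : ∃ z₀ : FibCat.overCat (Zof U₀ C₀) ⥤ᵇ
      AlgSt.fullSub 𝒳 (QZ x₀ (ιof U₀ C₀)),
      z₀ = liftSub _ (BasedFunctor.comp (AlgSt.overMap (ιof U₀ C₀)) x₀) hQ₀ := ⟨_, rfl⟩
  have hz₀c : BasedFunctor.comp z₀ (AlgSt.subIncl 𝒳 _) =
      BasedFunctor.comp (AlgSt.overMap (ιof U₀ C₀)) x₀ := by
    rw [hz₀]
    exact liftSub_comp _ _ _
  have hz₀P : ∀ P : MorphismProperty (AlgSp.Sp S), AlgSt.RepByAlgSpWith P x₀ →
      AlgSt.RepByAlgSpWith P z₀ := by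
    intro P hP
    have h1 := repByAlgSpWith_fpSnd P x₀ (AlgSt.subIncl 𝒳 (QZ x₀ (ιof U₀ C₀))) hP
    rw [hz₀]
    exact repByAlgSpWith_of_square P (FibCat.fpSnd x₀ (AlgSt.subIncl 𝒳 _)) _
      (FibCat.fpLift _ _ (subSqIso _ x₀ (ιof U₀ C₀) hQ₀)) (BasedFunctor.id _) hcart
      isEquivOver_id (Iso.refl _) h1
  have gSub : FibCat.IsFibGrpd (AlgSt.fullSub 𝒳 (QZ x₀ (ιof U₀ C₀))).p := halg.isStack.1
  have hz₀sj := hz₀P _ hsj
  have hz₀sm := hz₀P _ hsm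
  refine ⟨QZ x₀ (ιof U₀ C₀), ⟨hQi, halg, hrep⟩, ?_, ?_⟩
  · -- the points
    have hpt : ∀ ζ : ↥(Zof U₀ C₀).left,
        AlgSt.Points.map (AlgSt.subIncl 𝒳 (QZ x₀ (ιof U₀ C₀))) (AlgSt.Points.ofChart z₀ ζ) =
          AlgSt.Points.ofChart x₀ ((ιof U₀ C₀).left ζ) := by
      intro ζ
      rw [← ofChart_comp, hz₀c, ofChart_overMap]
    apply Set.eq_of_subset_of_subset
    · rintro _ ⟨w, rfl⟩
      obtain ⟨ζ, rfl⟩ := ofChart_surjective gSub z₀ hz₀sj w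
      rw [hpt]
      apply (hC₀ _).1
      have : (ιof U₀ C₀).left ζ ∈ Set.range (ιof U₀ C₀).left := ⟨ζ, rfl⟩
      rw [range_ιof] at this
      exact this
    · intro t ht
      obtain ⟨u₀, rfl⟩ := ofChart_surjective g𝒳 x₀ hsj t
      have hu₀ : u₀ ∈ (C₀ : Set ↥U₀.left) := (hC₀ u₀).2 ht
      rw [← range_ιof] at hu₀
      obtain ⟨ζ, rfl⟩ := hu₀
      exact ⟨AlgSt.Points.ofChart z₀ ζ, hpt ζ⟩
  · -- reducedness
    intro U x hx
    show IsReduced U.left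
    obtain ⟨G', c, t, -, hc_sm, hc_sj, ht_sm, -, -⟩ := exists_chart_lift halg x z₀
    haveI : Smooth c.left := hc_sm hz₀sm
    have hcs : Function.Surjective c.left := hc_sj hz₀sj
    haveI : Smooth t.left := ht_sm hx
    haveI : IsReduced G'.left := Groth.Agent.H4.SmRed.isReduced_of_smooth_scheme t.left
    exact Groth.Agent.H3.AlgSpCov.isReduced_of_flat_surjective c.left hcs

end Groth.Agent.H3.RedClosed
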