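import Mathlib
import Groth.Prelude.Def_FDesc
import Groth.Agent.Lib.Lead.QC.Support
import Groth.Agent.Lib.Helper3.FlatAssB
import Groth.Agent.Lib.Helper3.AssSupp

/-!
# Reduced modules and restriction to a dense open (helper3, S4657)
-/

set_option autoImplicit false
universe u
open CategoryTheory CategoryTheory.Limits AlgebraicGeometry IsLocalRing TensorProduct

namespace Groth.Agent.H3.RedRestr

open Groth.Agent.H3.FlatAss

attribute [-instance] Groth.Agent.LD.QC.stalkModule

section Topology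

variable {α : Type*} [TopologicalSpace α]

/-- In a Noetherian quasi-sober space, a maximal point `x` of a closed set `Z` has an open
neighbourhood `W` with `W ∩ Z ⊆ closure {x}`. -/
theorem exists_open_of_maximal [TopologicalSpace.NoetherianSpace α] [QuasiSober α] (Z : Set α)
    (hZ : IsClosed Z) (x : α) (hx : x ∈ Z) (hmax : ∀ y ∈ Z, y ⤳ x → y = x) :
    ∃ W : Set α, IsOpen W ∧ x ∈ W ∧ W ∩ Z ⊆ closure {x} := by
  obtain ⟨S, hSf, hSc, hSi, hS⟩ :=
    TopologicalSpace.NoetherianSpace.exists_finite_set_isClosed_irreducible hZ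
  refine ⟨(⋃₀ {t ∈ S | x ∉ t})ᶜ, ?_, ?_, ?_⟩
  · rw [isOpen_compl_iff]
    rw [Set.sUnion_eq_biUnion]
    exact (hSf.subset (Set.sep_subset _ _)).isClosed_biUnion fun t ht => hSc t ht.1
  · rintro ⟨t, ht, hxt⟩
    exact ht.2 hxt
  · rintro y ⟨hyW, hyZ⟩
    rw [hS] at hyZ
    obtain ⟨t, htS, hyt⟩ := hyZ
    have hxt : x ∈ t := by
      by_contra hxt
      exact hyW ⟨t, ⟨htS, hxt⟩, hyt⟩
    obtain ⟨η, hη⟩ := QuasiSober.sober (hSi t htS) (hSc t htS)
    have hηt : η ∈ t := hη.mem
    have hηx : η ⤳ x := by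
      rw [specializes_iff_mem_closure, hη.def]
      exact hxt
    have hηZ : η ∈ Z := by
      rw [hS]
      exact ⟨t, htS, hηt⟩
    have h1 : η = x := hmax η hηZ hηx
    rw [← h1, hη.def]
    exact hyt

/-- local version: it suffices that `x` has a Noetherian open neighbourhood. -/
theorem exists_open_of_maximal' [QuasiSober α] (Z : Set α) (hZ : IsClosed Z) (x : α) (hx : x ∈ Z)
    (hmax : ∀ y ∈ Z, y ⤳ x → y = x) (V : Set α) (hV : IsOpen V) (hxV : x ∈ V)
    [TopologicalSpace.NoetherianSpace V] :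
    ∃ W : Set α, IsOpen W ∧ x ∈ W ∧ W ∩ Z ⊆ closure {x} := by
  haveI : QuasiSober V := hV.isOpenEmbedding_subtypeVal.quasiSober
  obtain ⟨W', hW'o, hxW', hW'⟩ := exists_open_of_maximal (α := V) (Subtype.val ⁻¹' Z)
    (hZ.preimage continuous_subtype_val) ⟨x, hxV⟩ hx (by
      intro y hy hyx
      have h1 : (y : α) ⤳ x := hyx.map continuous_subtype_val
      exact Subtype.ext (hmax y hy h1))
  refine ⟨Subtype.val '' W', hV.isOpenMap_subtype_val W' hW'o, ⟨⟨x, hxV⟩, hxW', rfl⟩, ?_⟩
  rintro y ⟨⟨y', hy'W, rfl⟩, hyZ⟩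
  have h1 : y' ∈ closure {(⟨x, hxV⟩ : V)} := hW' ⟨hy'W, hyZ⟩
  rw [← specializes_iff_mem_closure] at h1 ⊢
  exact h1.map continuous_subtype_val

/-- a maximal point of a closed set `Z` lies in every open `U` such that `U ∩ Z` is dense in `Z`. -/
theorem mem_open_of_maximal_of_dense [QuasiSober α] (Z : Set α) (hZ : IsClosed Z) (x : α)
    (hx : x ∈ Z) (hmax : ∀ y ∈ Z, y ⤳ x → y = x) (V : Set α) (hV : IsOpen V) (hxV : x ∈ V)
    [TopologicalSpace.NoetherianSpace V] (U : Set α) (hU : IsOpen U)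
    (hdense : Z ⊆ closure (U ∩ Z)) : x ∈ U := by
  obtain ⟨W, hWo, hxW, hW⟩ := exists_open_of_maximal' Z hZ x hx hmax V hV hxV
  obtain ⟨y, hyW, hyU, hyZ⟩ := mem_closure_iff.mp (hdense hx) W hWo hxW
  have h1 : x ⤳ y := specializes_iff_mem_closure.mpr (hW ⟨hyW, hyZ⟩)
  exact h1.mem_open hU hyU

end Topology

section Scheme

variable {X : Scheme.{u}}

/-- on a locally Noetherian scheme, a maximal point of a closed set `Z` lies in every open `U`
such that `U ∩ Z` is dense in `Z`. -/
theorem mem_opens_of_maximal_of_dense [IsLocallyNoetherian X] (Z : Set X) (hZ : IsClosed Z) (x : X)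
    (hx : x ∈ Z) (hmax : ∀ y ∈ Z, y ⤳ x → y = x) (U : X.Opens)
    (hdense : Z ⊆ closure ((U : Set X) ∩ Z)) : x ∈ U := by
  obtain ⟨_, ⟨V, hV, rfl⟩, hxV, -⟩ :=
    X.isBasis_affineOpens.exists_subset_of_mem_open (Set.mem_univ x) isOpen_univ
  haveI : IsNoetherianRing Γ(X, V) := IsLocallyNoetherian.component_noetherian ⟨V, hV⟩
  haveI : TopologicalSpace.NoetherianSpace (V : Set X) := noetherianSpace_of_isAffineOpen V hV
  exact mem_open_of_maximal_of_dense Z hZ x hx hmax (V : Set X) V.isOpen hxV (U : Set X)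
    U.isOpen hdense

end Scheme

section OpenImm

variable {X' X : Scheme.{u}} (π : X' ⟶ X)

theorem fibreIdeal_eq_of_isOpenImmersion [IsOpenImmersion π] (z : X') :
    fibreIdeal π z = maximalIdeal (X'.presheaf.stalk z) := by
  have : IsIso (π.stalkMap z) := inferInstance
  exact map_maximalIdeal_of_surjective _ (ConcreteCategory.bijective_of_isIso (π.stalkMap z)).2

theorem hasSocle_fibreRing_of_eq (z : X')
    (h : fibreIdeal π z = maximalIdeal (X'.presheaf.stalk z)) :
    HasSocle (X'.presheaf.stalk z) (fibreRing π z) := by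
  refine ⟨Ideal.Quotient.mk _ 1, ?_, fun r hr => ?_⟩
  · intro h1
    rw [Ideal.Quotient.eq_zero_iff_mem, h] at h1
    exact (Ideal.ne_top_iff_one _).mp (maximalIdeal.isMaximal _).ne_top h1
  · rw [← h] at hr
    rw [map_one, Algebra.smul_def, mul_one]
    exact Ideal.Quotient.eq_zero_iff_mem.mpr hr

theorem length_fibreRing_of_eq (z : X')
    (h : fibreIdeal π z = maximalIdeal (X'.presheaf.stalk z)) :
    Module.length (X'.presheaf.stalk z) (fibreRing π z) = 1 := by
  have h1 : (fibreIdeal π z).IsMaximal := h ▸ maximalIdeal.isMaximal _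
  haveI : IsSimpleModule (X'.presheaf.stalk z) (fibreRing π z) := by
    rw [isSimpleModule_iff_isCoatom]
    exact Ideal.isMaximal_def.mp h1
  exact Module.length_eq_one _ _

variable [IsOpenImmersion π] [IsLocallyNoetherian X] (F : X.Modules) [F.IsQuasicoherent]

theorem mem_ass_pullback_iff_of_isOpenImmersion (z : X') :
    z ∈ AssSch.Ass ((Scheme.Modules.pullback π).obj F) ↔ π z ∈ AssSch.Ass F := by
  haveI : IsLocallyNoetherian X' := isLocallyNoetherian_of_isOpenImmersion π
  rw [mem_ass_pullback_iff π F z]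
  exact and_iff_left (hasSocle_fibreRing_of_eq π z (fibreIdeal_eq_of_isOpenImmersion π z))

theorem length_stalk_pullback_of_isOpenImmersion (z : X') :
    Module.length (X'.presheaf.stalk z) (((Scheme.Modules.pullback π).obj F).presheaf.stalk z) =
      Module.length (X.presheaf.stalk (π z)) (F.presheaf.stalk (π z)) := by
  haveI : IsLocallyNoetherian X' := isLocallyNoetherian_of_isOpenImmersion π
  rw [length_stalk_pullback π F z,
    length_fibreRing_of_eq π z (fibreIdeal_eq_of_isOpenImmersion π z), mul_one]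

end OpenImm

section Main

variable {X : Scheme.{u}} [IsLocallyNoetherian X] (U : X.Opens) (F : X.Modules)

/-- S4657 -/
theorem isReducedMod_iff_restrict (hF : Coh.IsCoh F)
    (hdense : CohB1.support F ⊆ closure ((U : Set ↥X) ∩ CohB1.support F)) :
    AssSch.IsReducedMod F ↔
      AssSch.IsReducedMod ((Scheme.Modules.pullback U.ι).obj F) ∧ AssSch.NoEmbedded F := by
  haveI : F.IsQuasicoherent := hF.1
  constructor
  · rintro ⟨hne, hlen⟩
    refine ⟨⟨fun z hz w hw hwz => ?_, fun z hz => ?_⟩, hne⟩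
    · rw [mem_ass_pullback_iff_of_isOpenImmersion] at hz hw
      have h1 : U.ι w ⤳ U.ι z := hwz.map U.ι.continuous
      have h2 := hne _ hz _ hw h1
      exact U.ι.isOpenEmbedding.injective h2
    · rw [length_stalk_pullback_of_isOpenImmersion]
      rw [mem_ass_pullback_iff_of_isOpenImmersion] at hz
      exact hlen _ hz
  · rintro ⟨⟨-, hlen⟩, hne⟩
    refine ⟨hne, fun x hx => ?_⟩
    have h1 : x ∈ AssSch.Ass F ∧ ∀ y ∈ AssSch.Ass F, y ⤳ x → y = x :=
      ⟨hx, fun y hy hyx => (hne x hx y hy hyx).symm⟩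
    rw [Groth.Agent.H3.AssSupp.ass_max_iff] at h1
    have hZ : IsClosed (CohB1.support F) :=
      Groth.Agent.LD.QC.isClosed_support_of_isFiniteType F hF.2
    have hxZ : x ∈ CohB1.support F := not_subsingleton_iff_nontrivial.mpr h1.1
    have hxU : x ∈ U := mem_opens_of_maximal_of_dense (CohB1.support F) hZ x hxZ
      (fun y hy hyx => h1.2 y (not_subsingleton_iff_nontrivial.mp hy) hyx) U hdense
    let z : ↥(U.toScheme) := ⟨x, hxU⟩
    have h2 : z ∈ AssSch.Ass ((Scheme.Modules.pullback U.ι).obj F) := by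
      rw [mem_ass_pullback_iff_of_isOpenImmersion]
      exact hx
    have h3 := hlen z h2
    rw [length_stalk_pullback_of_isOpenImmersion] at h3
    exact h3

end Main

end Groth.Agent.H3.RedRestr
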