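import Mathlib
import Groth.Prelude.Def_ActBC
import Groth.Prelude.Def_ChGrp
import Groth.Agent.Lib.Helper3.TorsorLoc

/-!
# Fibres of a quotient map `F ⟶ Q = F/G` are `G`-torsors (reduction of the structure group)
-/

set_option autoImplicit false

open CategoryTheory Limits MonoidalCategory CartesianMonoidalCategory MonObj AlgebraicGeometry

universe u

namespace Groth.Agent.H3.RedStr

open AlgGrp.Action

variable {S : Scheme.{u}} {G F Q : Over S} [GrpObj G] (b : AlgGrp.Action G F) (π : F ⟶ Q)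
  (hsq : IsPullback b.act (snd G F) π π)
  {E : Over S} (φ : E ⟶ F) (σ : 𝟙_ (Over S) ⟶ Q) (hpb : IsPullback φ (toUnit E) π σ)

include hsq hpb in
lemma act_aux : ((G ◁ φ) ≫ b.act) ≫ π = toUnit (G ⊗ E) ≫ σ := by
  rw [Category.assoc, hsq.w, ← Category.assoc, whiskerLeft_snd, Category.assoc, hpb.w,
    ← Category.assoc, toUnit_unique (snd G E ≫ toUnit E) (toUnit _)]

/-- the action morphism on the fibre -/
noncomputable def fibAct : G ⊗ E ⟶ E :=
  hpb.lift ((G ◁ φ) ≫ b.act) (toUnit (G ⊗ E)) (act_aux b π hsq φ σ hpb)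

lemma fibAct_comp : fibAct b π hsq φ σ hpb ≫ φ = (G ◁ φ) ≫ b.act :=
  hpb.lift_fst _ _ _

lemma lift_fibAct_comp {T : Over S} (g : T ⟶ G) (e : T ⟶ E) :
    lift g e ≫ fibAct b π hsq φ σ hpb ≫ φ = lift g (e ≫ φ) ≫ b.act := by
  rw [fibAct_comp, lift_whiskerLeft_assoc]

include hpb in
lemma hom_ext_fib {T : Over S} (x y : T ⟶ E) (h : x ≫ φ = y ≫ φ) : x = y :=
  hpb.hom_ext h (toUnit_unique _ _)

/-- the action of `G` on the fibre of `π` over `σ` -/
noncomputable def fibAction : AlgGrp.Action G E where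
  act := fibAct b π hsq φ σ hpb
  one_act := by
    apply hom_ext_fib π φ σ hpb
    apply hom_ext_lift₂
    intro T a e
    simp only [Category.assoc]
    rw [lift_whiskerRight_assoc, lift_fibAct_comp, leftUnitor_hom, lift_snd_assoc]
    have : a ≫ η[G] = 1 := by
      rw [CategoryTheory.Hom.one_def, toUnit_unique a (toUnit T)]
    rw [this, lift_one_act]
  mul_act := by
    apply hom_ext_fib π φ σ hpb
    apply hom_ext_lift₃
    intro T g g' e
    simp only [Category.assoc]
    rw [lift_whiskerRight_assoc, lift_fibAct_comp, ← CategoryTheory.Hom.mul_def, lift_mul_act,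
      lift_lift_associator_hom_assoc, lift_whiskerLeft_assoc, lift_fibAct_comp, Category.assoc,
      lift_fibAct_comp]

@[simp] lemma fibAction_act : (fibAction b π hsq φ σ hpb).act = fibAct b π hsq φ σ hpb := rfl

lemma fib_equivariant : IsEquivariant (fibAction b π hsq φ σ hpb) b φ :=
  fibAct_comp b π hsq φ σ hpb

/-- the fibre is a pseudo-torsor -/
lemma fib_pseudoTorsor : NonAbH1.IsPseudoTorsorSch (fibAction b π hsq φ σ hpb) := by
  have hw : (fst E E ≫ φ) ≫ π = (snd E E ≫ φ) ≫ π := by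
    rw [Category.assoc, Category.assoc, hpb.w, ← Category.assoc, ← Category.assoc,
      toUnit_unique (fst E E ≫ toUnit E) (snd E E ≫ toUnit E)]
  obtain ⟨Θ, hΘ⟩ : ∃ Θ : E ⊗ E ⟶ G ⊗ E,
      Θ = lift (hsq.lift (fst E E ≫ φ) (snd E E ≫ φ) hw ≫ fst G F) (snd E E) := ⟨_, rfl⟩
  have h1 : hsq.lift (fst E E ≫ φ) (snd E E ≫ φ) hw ≫ b.act = fst E E ≫ φ := hsq.lift_fst _ _ _
  have h2 : hsq.lift (fst E E ≫ φ) (snd E E ≫ φ) hw ≫ snd G F = snd E E ≫ φ := hsq.lift_snd _ _ _
  have h3 : lift (hsq.lift (fst E E ≫ φ) (snd E E ≫ φ) hw ≫ fst G F) (snd E E ≫ φ) =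
      hsq.lift (fst E E ≫ φ) (snd E E ≫ φ) hw := by
    apply CartesianMonoidalCategory.hom_ext
    · rw [lift_fst]
    · rw [lift_snd, h2]
  refine ⟨Θ, ?_, ?_⟩
  · -- `lift act snd ≫ Θ = 𝟙`
    apply CartesianMonoidalCategory.hom_ext
    · rw [Category.assoc, hΘ, lift_fst, Category.id_comp, ← Category.assoc]
      have : lift (fibAction b π hsq φ σ hpb).act (snd G E) ≫
          hsq.lift (fst E E ≫ φ) (snd E E ≫ φ) hw = G ◁ φ := by
        apply hsq.hom_ext
        · rw [Category.assoc, h1, lift_fst_assoc, fibAction_act, fibAct_comp]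
        · rw [Category.assoc, h2, lift_snd_assoc, whiskerLeft_snd]
      rw [this, whiskerLeft_fst]
    · rw [Category.assoc, hΘ, lift_snd, lift_snd, Category.id_comp]
  · apply CartesianMonoidalCategory.hom_ext
    · rw [Category.assoc, lift_fst, Category.id_comp]
      apply hom_ext_fib π φ σ hpb
      rw [Category.assoc, fibAction_act, fibAct_comp, hΘ, ← Category.assoc, lift_whiskerLeft, h3,
        h1]
    · rw [Category.assoc, lift_snd, hΘ, lift_snd, Category.id_comp]

include hpb in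
/-- local triviality of the fibre -/
lemma fib_locallyTrivial (K : Precoverage Scheme.{u}) [K.IsStableUnderBaseChange]
    (hloc : NonAbH1.IsLocallyTrivialFor K (Over.mk π.left : Over Q.left)) :
    NonAbH1.IsLocallyTrivialFor K E := by
  obtain ⟨R, hR, hsec⟩ := hloc
  refine ⟨R.pullbackArrows σ.left, Precoverage.pullbackArrows_mem σ.left hR, ?_⟩
  rintro T g ⟨Z, r, hr⟩
  obtain ⟨s, hs⟩ := hsec r hr
  have hs' : s ≫ π.left = r := hs
  have hσ : σ.left ≫ Q.hom = 𝟙 S := Over.w σ
  have hT : (pullback.fst r σ.left ≫ s) ≫ F.hom = pullback.snd r σ.left := by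
    rw [Category.assoc, ← Over.w π, ← Category.assoc s, hs', ← Category.assoc, pullback.condition,
      Category.assoc, hσ]
    exact Category.comp_id _
  obtain ⟨T₀, hT₀⟩ : ∃ T₀ : Over S, T₀ = Over.mk (pullback.snd r σ.left) := ⟨_, rfl⟩
  let x : Over.mk (pullback.snd r σ.left) ⟶ F := Over.homMk (pullback.fst r σ.left ≫ s) hT
  have hx : x ≫ π = toUnit _ ≫ σ := by
    ext
    simp only [Over.comp_left, Over.homMk_left, x, Category.assoc, hs']
    exact pullback.condition
  refine ⟨(hpb.lift x (toUnit _) hx).left, ?_⟩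
  exact Over.w (hpb.lift x (toUnit _) hx)


include hsq in
/-- a section of the quotient `Q = F/G` defines a `G`-torsor with an equivariant map to `F` -/
theorem exists_reduction (K : Precoverage Scheme.{u}) [K.IsStableUnderBaseChange]
    (hloc : NonAbH1.IsLocallyTrivialFor K (Over.mk π.left : Over Q.left)) :
    ∃ (E : Over S) (aE : AlgGrp.Action G E) (φ : E ⟶ F),
      NonAbH1.IsTorsorFor K aE ∧ IsEquivariant aE b φ ∧ IsPullback φ (toUnit E) π σ := by
  have hpb : IsPullback (pullback.fst π σ) (toUnit (pullback π σ)) π σ := by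
    have := IsPullback.of_hasPullback π σ
    rwa [toUnit_unique (pullback.snd π σ) (toUnit _)] at this
  exact ⟨pullback π σ, fibAction b π hsq _ σ hpb, pullback.fst π σ,
    ⟨fib_pseudoTorsor b π hsq _ σ hpb, fib_locallyTrivial π _ σ hpb K hloc⟩,
    fib_equivariant b π hsq _ σ hpb, hpb⟩


include hsq in
/-- a reduction of the structure group determines a unique section of the quotient, and is
recovered as the fibre over this section -/
theorem section_of_reduction {E' : Over S} (aE : AlgGrp.Action G E')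
    (hE1 : NonAbH1.IsPseudoTorsorSch aE)
    (hE2 : NonAbH1.IsLocallyTrivialFor Scheme.fpqcPrecoverage E')
    (ψ : E' ⟶ F) (hψ : IsEquivariant aE b ψ) :
    (∃! τ : 𝟙_ (Over S) ⟶ Q, toUnit E' ≫ τ = ψ ≫ π) ∧
      ∀ τ : 𝟙_ (Over S) ⟶ Q, toUnit E' ≫ τ = ψ ≫ π → IsPullback ψ (toUnit E') π τ := by
  haveI hΨ : IsIso (lift aE.act (snd G E')) := hE1
  have huee : UEE (Over S) (toUnit E') :=
    LocSec.uee_of_isLocallyTrivialFor_fpqc (toUnit E')
      (TorsorLoc.isLocallyTrivialFor_of_forall_lift Scheme.fpqcPrecoverage (toUnit E') hE2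
        (fun T p y => ⟨p, toUnit_unique _ _⟩))
  haveI : EffectiveEpi (toUnit E') := huee.effectiveEpi
  haveI : Epi (toUnit E') := huee.epi
  have hcompat : ∀ {Z : Over S} (g₁ g₂ : Z ⟶ E'), g₁ ≫ toUnit E' = g₂ ≫ toUnit E' →
      g₁ ≫ ψ ≫ π = g₂ ≫ ψ ≫ π := by
    intro Z g₁ g₂ _
    obtain ⟨w, hw⟩ : ∃ w : Z ⟶ G ⊗ E', w = lift g₁ g₂ ≫ inv (lift aE.act (snd G E')) := ⟨_, rfl⟩
    have hw' : w ≫ lift aE.act (snd G E') = lift g₁ g₂ := by
      rw [hw, Category.assoc, IsIso.inv_hom_id, Category.comp_id]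
    have h1 : w ≫ aE.act = g₁ := by
      have := congrArg (fun t => t ≫ fst E' E') hw'
      simpa using this
    have h2 : w ≫ snd G E' = g₂ := by
      have := congrArg (fun t => t ≫ snd E' E') hw'
      simpa using this
    have hψ' : aE.act ≫ ψ = (G ◁ ψ) ≫ b.act := hψ
    rw [← h1, Category.assoc, ← Category.assoc aE.act, hψ', Category.assoc, hsq.w,
      ← Category.assoc (G ◁ ψ), whiskerLeft_snd, Category.assoc, ← Category.assoc w, h2]
  refine ⟨⟨EffectiveEpi.desc (toUnit E') (ψ ≫ π) hcompat, EffectiveEpi.fac _ _ _, ?_⟩, ?_⟩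
  · intro τ hτ
    rw [← cancel_epi (toUnit E'), hτ, EffectiveEpi.fac]
  · intro τ hτ
    have hpb : IsPullback (pullback.fst π τ) (toUnit (pullback π τ)) π τ := by
      have := IsPullback.of_hasPullback π τ
      rwa [toUnit_unique (pullback.snd π τ) (toUnit _)] at this
    obtain ⟨k, hk⟩ : ∃ k : E' ⟶ pullback π τ, k = hpb.lift ψ (toUnit E') hτ.symm := ⟨_, rfl⟩
    have hk1 : k ≫ pullback.fst π τ = ψ := by rw [hk]; exact hpb.lift_fst _ _ _
    have hψ' : aE.act ≫ ψ = (G ◁ ψ) ≫ b.act := hψ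
    have hkeq : (G ◁ k) ≫ (fibAction b π hsq _ τ hpb).act = aE.act ≫ k := by
      apply hom_ext_fib π _ τ hpb
      rw [Category.assoc, fibAction_act, fibAct_comp, ← Category.assoc,
        ← MonoidalCategory.whiskerLeft_comp, hk1, Category.assoc, hk1, hψ']
    haveI : IsIso k := TorsorLoc.isIso_of_equivariant_of_isLocallyTrivialFor aE
      (fibAction b π hsq _ τ hpb) hΨ (fib_pseudoTorsor b π hsq _ τ hpb) hE2 k hkeq
    refine hpb.of_iso (asIso k).symm (Iso.refl _) (Iso.refl _) (Iso.refl _) ?_ ?_ ?_ ?_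
    · simp only [Iso.refl_hom, Category.comp_id, Iso.symm_hom, asIso_inv]
      rw [← hk1, IsIso.inv_hom_id_assoc]
    · exact toUnit_unique _ _
    · simp
    · simp

end Groth.Agent.H3.RedStr
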