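import Mathlib
import Groth.Agent.Lib.Helper3.RefA
import Groth.Agent.Lib.Helper3.TFB

/-!
# Lattices over a normal Noetherian domain: the bidual lies in every height-one localization
-/

namespace Groth.Agent.H3.Refl

section clear

variable {A : Type*} [CommRing A] {K : Type*} [Field K] [Algebra A K]
  {M : Type*} [AddCommGroup M] [Module A M]

/-- Clearing denominators uniformly over a finitely generated module. -/
theorem exists_common_denominator (S : Submonoid A) (hM : (⊤ : Submodule A M).FG)
    (μ : M →ₗ[A] K)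
    (h : ∀ m, ∃ s ∈ S, ∃ a : A, algebraMap A K s * μ m = algebraMap A K a) :
    ∃ s ∈ S, ∀ m, ∃ a : A, algebraMap A K s * μ m = algebraMap A K a := by
  classical
  obtain ⟨G, hG⟩ := hM
  choose s hs a ha using h
  refine ⟨∏ g ∈ G, s g, S.prod_mem (fun g _ => hs g), fun m => ?_⟩
  have hm : m ∈ Submodule.span A (G : Set M) := by rw [hG]; trivial
  induction hm using Submodule.span_induction with
  | mem g hg =>
    refine ⟨(∏ g' ∈ G.erase g, s g') * a g, ?_⟩
    rw [← Finset.prod_erase_mul G s hg, map_mul, map_mul, mul_assoc, ha]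
  | zero => exact ⟨0, by simp⟩
  | add x y _ _ hx hy =>
    obtain ⟨ax, hax⟩ := hx
    obtain ⟨ay, hay⟩ := hy
    exact ⟨ax + ay, by rw [map_add, mul_add, hax, hay, map_add]⟩
  | smul c x _ hx =>
    obtain ⟨ax, hax⟩ := hx
    refine ⟨c * ax, ?_⟩
    rw [map_smul, Algebra.smul_def, mul_left_comm, hax, map_mul]

end clear

section heightOne

variable {A : Type*} [CommRing A] [IsDomain A] [IsNoetherianRing A] [IsIntegrallyClosed A]
  {K : Type*} [Field K] [Algebra A K] [IsFractionRing A K]
  {L : Type*} [AddCommGroup L] [Module K L] [Module A L] [IsScalarTower A K L]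

theorem exists_smul_mem_of_height_one (p : Ideal A) [p.IsPrime] (hp : p.height = 1)
    (B : Submodule A L) (hB : B.FG) (hspan : Submodule.span K (B : Set L) = ⊤) (x : L)
    (hx : ∀ (l : L →ₗ[K] K) (s : A),
      (∀ b ∈ B, ∃ a : A, algebraMap A K s * l b = algebraMap A K a) →
        ∃ a : A, algebraMap A K s * l x = algebraMap A K a) :
    ∃ t : A, t ∉ p ∧ t • x ∈ B := by
  classical
  have hle := p.primeCompl_le_nonZeroDivisors
  let Ap := Localization.subalgebra.ofField K p.primeCompl hle
  haveI hPID : IsPrincipalIdealRing ↥Ap := isPrincipalIdealRing_ofField K p hp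
  have hmemAp : ∀ z : K, z ∈ Ap ↔
      ∃ (a s : A) (_ : s ∈ p.primeCompl), z = algebraMap A K a * (algebraMap A K s)⁻¹ :=
    fun z => Iff.rfl
  haveI : Module.IsTorsionFree ↥Ap L := by
    apply Module.IsTorsionFree.of_smul_eq_zero
    intro r m hrm
    have : (r : K) • m = 0 := hrm
    rcases smul_eq_zero.mp this with h | h
    · left; exact Subtype.ext h
    · right; exact h
  let N : Submodule ↥Ap L := Submodule.span ↥Ap (B : Set L)
  have hNfg : N.FG := by
    obtain ⟨G, hG⟩ := hB
    refine ⟨G, ?_⟩
    apply le_antisymm (Submodule.span_mono (by rw [← hG]; exact Submodule.subset_span))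
    apply Submodule.span_le.mpr
    intro b hb
    rw [SetLike.mem_coe, ← hG] at hb
    exact Submodule.span_le_restrictScalars A ↥Ap _ hb
  haveI hNfin : Module.Finite ↥Ap N := Module.Finite.iff_fg.mpr hNfg
  obtain ⟨n, w⟩ := Module.basisOfFiniteTypeTorsionFree' (R := ↥Ap) (M := N)
  have hspanN : Submodule.span K (N : Set L) = ⊤ := by
    rw [eq_top_iff, ← hspan]
    exact Submodule.span_mono Submodule.subset_span
  obtain ⟨bK, h1, h2⟩ := Groth.Agent.H3.TF.exists_basis_of_lattice N w hspanN
  -- elements of N have a multiple in B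
  have hNB : ∀ y ∈ N, ∃ t : A, t ∉ p ∧ t • y ∈ B := by
    intro y hy
    induction hy using Submodule.span_induction with
    | mem b hb => exact ⟨1, fun h => (Ideal.IsPrime.ne_top ‹_›) ((Ideal.eq_top_iff_one p).mpr h),
        by rw [one_smul]; exact hb⟩
    | zero => exact ⟨1, fun h => (Ideal.IsPrime.ne_top ‹_›) ((Ideal.eq_top_iff_one p).mpr h),
        by rw [smul_zero]; exact B.zero_mem⟩
    | add y z _ _ hy hz =>
      obtain ⟨t, ht, hty⟩ := hy
      obtain ⟨u, hu, huz⟩ := hz
      refine ⟨t * u, fun h => ?_, ?_⟩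
      · rcases Ideal.IsPrime.mem_or_mem ‹_› h with h | h
        · exact ht h
        · exact hu h
      · rw [smul_add]
        refine B.add_mem ?_ ?_
        · rw [mul_comm, mul_smul]
          exact B.smul_mem _ hty
        · rw [mul_smul]
          exact B.smul_mem _ huz
    | smul c y _ hy =>
      obtain ⟨t, ht, hty⟩ := hy
      obtain ⟨a, s, hs, hc⟩ := (hmemAp c.1).mp c.2
      refine ⟨s * t, fun h => ?_, ?_⟩
      · rcases Ideal.IsPrime.mem_or_mem ‹_› h with h | h
        · exact hs h
        · exact ht h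
      · have hsK : algebraMap A K s ≠ 0 :=
          IsFractionRing.to_map_eq_zero_iff.not.mpr (nonZeroDivisors.ne_zero (hle hs))
        have e : (s * t) • (c • y) = a • (t • y) := by
          have : c • y = (c : K) • y := rfl
          rw [this, hc, ← algebraMap_smul K (s * t), ← algebraMap_smul K a,
            ← algebraMap_smul K t, smul_smul, smul_smul, map_mul]
          congr 1
          field_simp
        rw [e]
        exact B.smul_mem _ hty
  -- coordinates
  have hcoord : ∀ i, ∃ s ∈ p.primeCompl,
      ∀ b : B, ∃ a : A, algebraMap A K s * (bK.coord i) (b : L) = algebraMap A K a := by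
    intro i
    haveI : Module.Finite A B := Module.Finite.iff_fg.mpr hB
    refine exists_common_denominator p.primeCompl Module.Finite.fg_top
      (((bK.coord i).restrictScalars A) ∘ₗ B.subtype) ?_
    intro b
    have hbN : (b : L) ∈ N := Submodule.subset_span b.2
    have := h2 ⟨(b : L), hbN⟩ i
    obtain ⟨a, s, hs, hc⟩ := (hmemAp _).mp (w.repr ⟨(b : L), hbN⟩ i).2
    refine ⟨s, hs, a, ?_⟩
    have hsK : algebraMap A K s ≠ 0 :=
      IsFractionRing.to_map_eq_zero_iff.not.mpr (nonZeroDivisors.ne_zero (hle hs))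
    change algebraMap A K s * (bK.repr (b : L) i) = _
    rw [this]
    change algebraMap A K s * ((w.repr ⟨(b : L), hbN⟩ i : ↥Ap) : K) = _
    rw [hc]
    field_simp
  choose s hs hsb using hcoord
  let S : A := ∏ i, s i
  have hS : S ∉ p := fun h => by
    obtain ⟨i, _, hi⟩ := (Ideal.IsPrime.prod_mem_iff (p := p)).mp h
    exact hs i hi
  -- S • x lies in N
  have hSx : S • x ∈ N := by
    have hcoef : ∀ i, ∃ a : A, algebraMap A K S * (bK.coord i) x = algebraMap A K a := by
      intro i
      apply hx (bK.coord i) S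
      intro b hb
      obtain ⟨a, ha⟩ := hsb i ⟨b, hb⟩
      refine ⟨(∏ j ∈ Finset.univ.erase i, s j) * a, ?_⟩
      change algebraMap A K (∏ j, s j) * _ = _
      rw [← Finset.prod_erase_mul Finset.univ s (Finset.mem_univ i), map_mul, map_mul, mul_assoc]
      congr 1
    choose a ha using hcoef
    have : S • x = ∑ i, a i • (w i : L) := by
      rw [← algebraMap_smul K S x]
      conv_lhs => rw [← bK.sum_repr x]
      rw [Finset.smul_sum]
      refine Finset.sum_congr rfl fun i _ => ?_
      rw [smul_smul, h1 i, ← algebraMap_smul K (a i), ← ha i]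
      rfl
    rw [this]
    refine N.sum_mem fun i _ => ?_
    have : a i • (w i : L) = (algebraMap A ↥Ap (a i)) • (w i : L) := by
      rw [algebraMap_smul]
    rw [this]
    exact N.smul_mem _ (w i).2
  obtain ⟨t, ht, htx⟩ := hNB _ hSx
  refine ⟨t * S, fun h => ?_, by rw [mul_smul]; exact htx⟩
  rcases Ideal.IsPrime.mem_or_mem ‹_› h with h | h
  · exact ht h
  · exact hS h

end heightOne

end Groth.Agent.H3.Refl
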