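import Mathlib
import Groth.Agent.Lib.Helper3.RefB

/-!
# The integral closure of a normal Noetherian domain in a finite extension is reflexive
(when it is a finite module)
-/

namespace Groth.Agent.H3.Refl

section main

variable (A K L : Type*) [CommRing A] [IsDomain A] [IsNoetherianRing A] [IsIntegrallyClosed A]
  [Field K] [Algebra A K] [IsFractionRing A K] [Field L] [Algebra K L] [FiniteDimensional K L]
  [Algebra A L] [IsScalarTower A K L]

omit [IsNoetherianRing A] [IsIntegrallyClosed A] [FiniteDimensional K L] in
theorem exists_dual (l : L →ₗ[K] K) (s : A)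
    (H : ∀ b : ↥(integralClosure A L), ∃ a : A, algebraMap A K s * l (b : L) = algebraMap A K a) :
    ∃ f : ↥(integralClosure A L) →ₗ[A] A,
      ∀ b, algebraMap A K (f b) = algebraMap A K s * l (b : L) := by
  have hinj : Function.Injective (algebraMap A K) := IsFractionRing.injective A K
  choose g hg using H
  refine ⟨{ toFun := g, map_add' := ?_, map_smul' := ?_ }, fun b => (hg b).symm⟩
  · intro b c
    apply hinj
    rw [map_add, ← hg, ← hg, ← hg, Subalgebra.coe_add, map_add, mul_add]
  · intro c b
    apply hinj
    rw [RingHom.id_apply, smul_eq_mul, map_mul, ← hg, ← hg, Subalgebra.coe_smul,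
      ← algebraMap_smul K c (b : L), map_smul, smul_eq_mul]
    ring

end main

theorem main (A K L : Type*) [CommRing A] [IsDomain A] [IsNoetherianRing A]
    [IsIntegrallyClosed A] [Field K] [Algebra A K] [IsFractionRing A K] [Field L] [Algebra K L]
    [FiniteDimensional K L] [Algebra A L] [IsScalarTower A K L]
    [Module.Finite A ↥(integralClosure A L)] :
    Module.IsReflexive A ↥(integralClosure A L) := by
  classical
  have hinj : Function.Injective (algebraMap A K) := IsFractionRing.injective A K
  obtain ⟨ιs, e, he⟩ := FiniteDimensional.exists_is_basis_integral A K L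
  let eb : ιs → ↥(integralClosure A L) := fun i => ⟨e i, he i⟩
  -- common denominator of the coordinate functionals on the integral closure
  have hden : ∀ i : ιs, ∃ d ∈ nonZeroDivisors A, ∀ b : ↥(integralClosure A L),
      ∃ a : A, algebraMap A K d * e.coord i (b : L) = algebraMap A K a := by
    intro i
    refine exists_common_denominator (nonZeroDivisors A) Module.Finite.fg_top
      (((e.coord i).restrictScalars A) ∘ₗ (integralClosure A L).val.toLinearMap) ?_
    intro b
    obtain ⟨a, d, hd, h⟩ := IsFractionRing.div_surjective (A := A)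
      ((((e.coord i).restrictScalars A) ∘ₗ (integralClosure A L).val.toLinearMap) b)
    refine ⟨d, hd, a, ?_⟩
    have hdK : algebraMap A K d ≠ 0 :=
      IsFractionRing.to_map_eq_zero_iff.not.mpr (nonZeroDivisors.ne_zero hd)
    rw [← h]
    field_simp
  choose dd hdd hda using hden
  let d : A := ∏ i, dd i
  have hd0 : d ≠ 0 := Finset.prod_ne_zero_iff.mpr fun i _ => nonZeroDivisors.ne_zero (hdd i)
  have hdK : algebraMap A K d ≠ 0 := IsFractionRing.to_map_eq_zero_iff.not.mpr hd0
  have hd : ∀ (i : ιs) (b : ↥(integralClosure A L)),
      ∃ a : A, algebraMap A K d * e.coord i (b : L) = algebraMap A K a := by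
    intro i b
    obtain ⟨a, ha⟩ := hda i b
    refine ⟨(∏ j ∈ Finset.univ.erase i, dd j) * a, ?_⟩
    change algebraMap A K (∏ j, dd j) * _ = _
    rw [← Finset.prod_erase_mul Finset.univ dd (Finset.mem_univ i), map_mul, map_mul, mul_assoc,
      ha]
  choose fi hfi using fun i => exists_dual A K L (e.coord i) d (hd i)
  -- expansion of functionals
  have claimE : ∀ (f : ↥(integralClosure A L) →ₗ[A] A) (b : ↥(integralClosure A L)),
      algebraMap A K (f b) = ∑ i, e.coord i (b : L) * algebraMap A K (f (eb i)) := by
    intro f b
    choose a ha using fun i => hd i b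
    have hb : d • b = ∑ i, a i • eb i := by
      apply Subtype.ext
      rw [Subalgebra.coe_smul, AddSubmonoidClass.coe_finsetSum]
      conv_lhs => rw [← e.sum_repr (b : L)]
      rw [Finset.smul_sum]
      refine Finset.sum_congr rfl fun i _ => ?_
      rw [Subalgebra.coe_smul, ← algebraMap_smul K d, smul_smul, ← algebraMap_smul K (a i), ← ha i]
      rfl
    have h1 := congrArg (fun z => algebraMap A K (f z)) hb
    simp only [map_smul, map_sum, smul_eq_mul, map_mul] at h1
    apply mul_left_cancel₀ hdK
    rw [h1, Finset.mul_sum]
    refine Finset.sum_congr rfl fun i _ => ?_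
    rw [← ha i]
    ring
  have relR : ∀ f : ↥(integralClosure A L) →ₗ[A] A, d • f = ∑ i, f (eb i) • fi i := by
    intro f
    ext b
    apply hinj
    rw [LinearMap.smul_apply, smul_eq_mul, map_mul, claimE f b, LinearMap.sum_apply, map_sum,
      Finset.mul_sum]
    refine Finset.sum_congr rfl fun i _ => ?_
    rw [LinearMap.smul_apply, smul_eq_mul, map_mul, hfi]
    ring
  refine ⟨⟨?_, ?_⟩⟩
  · -- injectivity
    rw [injective_iff_map_eq_zero]
    intro b hb
    have h0 : ∀ i, e.coord i (b : L) = 0 := by
      intro i
      have : fi i b = 0 := by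
        have := congrArg (fun Ψ => Ψ (fi i)) hb
        simpa using this
      have h2 := hfi i b
      rw [this, map_zero] at h2
      rcases mul_eq_zero.mp h2.symm with h | h
      · exact absurd h hdK
      · exact h
    apply Subtype.ext
    rw [← e.sum_repr (b : L)]
    simp only [ZeroMemClass.coe_zero]
    refine Finset.sum_eq_zero fun i _ => ?_
    have := h0 i
    rw [Module.Basis.coord_apply] at this
    rw [this, zero_smul]
  · -- surjectivity
    intro Φ
    let x : L := ∑ i, (algebraMap A K (Φ (fi i)) / algebraMap A K d) • e i
    have hcx : ∀ i, e.coord i x = algebraMap A K (Φ (fi i)) / algebraMap A K d := by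
      intro i
      rw [Module.Basis.coord_apply, Module.Basis.repr_sum_self]
    -- (a)
    have ha : ∀ (l : L →ₗ[K] K) (s : A),
        (∀ b ∈ Subalgebra.toSubmodule (integralClosure A L),
          ∃ a : A, algebraMap A K s * l b = algebraMap A K a) →
        ∃ a : A, algebraMap A K s * l x = algebraMap A K a := by
      intro l s H
      obtain ⟨f, hf⟩ := exists_dual A K L l s (fun b => H b b.2)
      refine ⟨Φ f, ?_⟩
      have h1 : algebraMap A K d * algebraMap A K (Φ f) =
          ∑ i, algebraMap A K (f (eb i)) * algebraMap A K (Φ (fi i)) := by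
        rw [← map_mul, ← smul_eq_mul, ← map_smul, relR f, map_sum, map_sum]
        refine Finset.sum_congr rfl fun i _ => ?_
        rw [map_smul, smul_eq_mul, map_mul]
      apply mul_left_cancel₀ hdK
      rw [h1]
      change _ * (algebraMap A K s * l (∑ i, _ • e i)) = _
      rw [map_sum, Finset.mul_sum, Finset.mul_sum]
      refine Finset.sum_congr rfl fun i _ => ?_
      have h3 : algebraMap A K (f (eb i)) = algebraMap A K s * l (e i) := hf (eb i)
      rw [map_smul, smul_eq_mul, h3]
      field_simp
    -- (b)
    have hBfg : (Subalgebra.toSubmodule (integralClosure A L)).FG := by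
      have : Module.Finite A ↥(Subalgebra.toSubmodule (integralClosure A L)) :=
        ‹Module.Finite A ↥(integralClosure A L)›
      exact Module.Finite.iff_fg.mp this
    have hspan : Submodule.span K
        ((Subalgebra.toSubmodule (integralClosure A L) : Submodule A L) : Set L) = ⊤ := by
      rw [eq_top_iff, ← e.span_eq]
      apply Submodule.span_mono
      rintro _ ⟨i, rfl⟩
      exact he i
    have hb : ∀ (p : Ideal A) [p.IsPrime], p.height = 1 →
        ∃ t : A, t ∉ p ∧ t • x ∈ integralClosure A L := by
      intro p _ hp
      exact exists_smul_mem_of_height_one p hp _ hBfg hspan x ha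
    -- (c)
    let N : Submodule A L :=
      { carrier := {y | ∀ (p : Ideal A) [p.IsPrime], p.height = 1 →
          ∃ t : A, t ∉ p ∧ t • y ∈ integralClosure A L}
        zero_mem' := fun p _ _ => ⟨1, fun h => (Ideal.IsPrime.ne_top ‹_›)
          ((Ideal.eq_top_iff_one p).mpr h), by rw [smul_zero]; exact Subalgebra.zero_mem _⟩
        add_mem' := by
          intro y z hy hz p _ hp
          obtain ⟨t, ht, hty⟩ := hy p hp
          obtain ⟨u, hu, huz⟩ := hz p hp
          refine ⟨t * u, fun h => ?_, ?_⟩
          · rcases Ideal.IsPrime.mem_or_mem ‹_› h with h | h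
            · exact ht h
            · exact hu h
          · rw [smul_add]
            refine Subalgebra.add_mem _ ?_ ?_
            · rw [mul_comm, mul_smul]
              exact Subalgebra.smul_mem _ hty _
            · rw [mul_smul]
              exact Subalgebra.smul_mem _ huz _
        smul_mem' := by
          intro c y hy p _ hp
          obtain ⟨t, ht, hty⟩ := hy p hp
          refine ⟨t, ht, ?_⟩
          rw [smul_comm]
          exact Subalgebra.smul_mem _ hty _ }
    have hBN : ∀ y ∈ integralClosure A L, y ∈ N := by
      intro y hy p _ _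
      exact ⟨1, fun h => (Ideal.IsPrime.ne_top ‹_›) ((Ideal.eq_top_iff_one p).mpr h),
        by rw [one_smul]; exact hy⟩
    have hNmul : ∀ y ∈ N, ∀ z ∈ N, y * z ∈ N := by
      intro y hy z hz p _ hp
      obtain ⟨t, ht, hty⟩ := hy p hp
      obtain ⟨u, hu, huz⟩ := hz p hp
      refine ⟨t * u, fun h => ?_, ?_⟩
      · rcases Ideal.IsPrime.mem_or_mem ‹_› h with h | h
        · exact ht h
        · exact hu h
      · rw [← smul_mul_smul_comm]
        exact Subalgebra.mul_mem _ hty huz
    have hNF : N ≤ Submodule.span A (Set.range fun i => (algebraMap A K d)⁻¹ • e i) := by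
      intro y hy
      have hcoef : ∀ i, ∃ a : A, algebraMap A K d * e.coord i y = algebraMap A K a := by
        intro i
        have := mem_range_of_forall_height_one (A := A) (K := K)
          (algebraMap A K d * e.coord i y) ?_
        · obtain ⟨a, ha⟩ := this
          exact ⟨a, ha.symm⟩
        · intro p _ hp
          obtain ⟨t, ht, hty⟩ := hy p hp
          obtain ⟨a, ha⟩ := hd i ⟨t • y, hty⟩
          refine ⟨t, ht, a, ?_⟩
          rw [← ha]
          change _ = _ * e.coord i (t • y)
          rw [← algebraMap_smul K t y, map_smul, smul_eq_mul]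
          ring
      choose a ha using hcoef
      have : y = ∑ i, a i • ((algebraMap A K d)⁻¹ • e i) := by
        conv_lhs => rw [← e.sum_repr y]
        refine Finset.sum_congr rfl fun i _ => ?_
        rw [← algebraMap_smul K (a i), smul_smul, ← ha i]
        congr 1
        rw [Module.Basis.coord_apply]
        field_simp
      rw [this]
      exact Submodule.sum_mem _ fun i _ => Submodule.smul_mem _ _ (Submodule.subset_span ⟨i, rfl⟩)
    have hNfg : N.FG := by
      haveI : IsNoetherian A
          ↥(Submodule.span A (Set.range fun i => (algebraMap A K d)⁻¹ • e i)) :=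
        isNoetherian_span_of_finite A (Set.finite_range _)
      haveI : IsNoetherian A ↥N := isNoetherian_of_le hNF
      exact Module.Finite.iff_fg.mp inferInstance
    have hN0 : N ≠ ⊥ := by
      intro h
      have : (1 : L) ∈ N := hBN 1 (Subalgebra.one_mem _)
      rw [h, Submodule.mem_bot] at this
      exact one_ne_zero this
    have hxN : x ∈ N := fun p _ hp => hb p hp
    have hxint : IsIntegral A x :=
      isIntegral_of_smul_mem_submodule N hN0 hNfg x (fun n hn => hNmul x hxN n hn)
    -- (d)
    refine ⟨⟨x, hxint⟩, ?_⟩
    ext f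
    rw [Module.Dual.eval_apply]
    have hfib : ∀ i, fi i ⟨x, hxint⟩ = Φ (fi i) := by
      intro i
      apply hinj
      rw [hfi, hcx]
      field_simp
    have h1 : d * f ⟨x, hxint⟩ = d * Φ f := by
      have e1 : d * f ⟨x, hxint⟩ = (d • f) ⟨x, hxint⟩ := rfl
      have e2 : d * Φ f = Φ (d • f) := by rw [map_smul, smul_eq_mul]
      rw [e1, e2, relR f, LinearMap.sum_apply, map_sum]
      refine Finset.sum_congr rfl fun i _ => ?_
      rw [LinearMap.smul_apply, map_smul, hfib]
    exact mul_left_cancel₀ hd0 h1

end Groth.Agent.H3.Refl
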