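import Mathlib
import Groth.Agent.Lib.Helper1.FlatNilpotent

set_option autoImplicit false
universe u
open TensorProduct Function

namespace Groth.Agent.H3.RegFlat

variable {A : Type u} [CommRing A] {M : Type u} [AddCommGroup M] [Module A M]

/-- an element of `M ⊗ Q` dying under an injective map `M ⊗ j` is killed by an element of `S`
if `S⁻¹M` is flat. -/
theorem exists_smul_eq_zero_of_lTensor_eq_zero {Q R : Type u} [AddCommGroup Q] [AddCommGroup R]
    [Module A Q] [Module A R] (j : Q →ₗ[A] R) (hj : Injective j)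
    (S : Submonoid A) [Module.Flat A (LocalizedModule S M)]
    (y : M ⊗[A] Q) (hy : (j.lTensor M) y = 0) : ∃ s : A, s ∈ S ∧ s • y = 0 := by
  let lam := LocalizedModule.mkLinearMap S M
  have h1 : (lam.rTensor Q) y = 0 := by
    apply Module.Flat.lTensor_preserves_injective_linearMap
      (M := LocalizedModule S M) j hj
    rw [map_zero, ← LinearMap.comp_apply, LinearMap.lTensor_comp_rTensor,
      ← LinearMap.rTensor_comp_lTensor, LinearMap.comp_apply, hy, map_zero]
  have h2 : (AlgebraTensorModule.rTensor A Q lam) y = 0 := h1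
  obtain ⟨s, hs⟩ := (IsLocalizedModule.eq_zero_iff S
    (AlgebraTensorModule.rTensor A Q lam)).mp h2
  exact ⟨s.1, s.2, hs⟩

section pres
variable {F R : Type u} [AddCommGroup F] [Module A F] [Module.Flat A F] [AddCommGroup R]
  [Module A R] (ι : R →ₗ[A] F) (π : F →ₗ[A] M)

theorem T_quot (hι : Injective ι) (hex : Exact ι π) (hπ : Surjective π)
    (ϖ : A) (hM : IsSMulRegular M ϖ) : Injective (ι.lTensor (A ⧸ Ideal.span {ϖ})) := by
  refine Groth.Agent.H1.LocalCrit.T_of_rTensor_injective ι π hι hex hπ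
    (N₁ := A) (N₂ := A) (N₃ := A ⧸ Ideal.span {ϖ})
    (LinearMap.lsmul A A ϖ) (Ideal.span {ϖ}).mkQ ?_ (Submodule.mkQ_surjective _) ?_
  · intro x
    rw [Submodule.mkQ_apply, Submodule.Quotient.mk_eq_zero, Ideal.mem_span_singleton']
    constructor
    · rintro ⟨a, rfl⟩; exact ⟨a, by simp [mul_comm]⟩
    · rintro ⟨a, rfl⟩; exact ⟨a, by simp [mul_comm]⟩
  · have h : (LinearMap.lsmul A A ϖ).rTensor M = LinearMap.lsmul A (A ⊗[A] M) ϖ := by
      ext m
      simp [smul_tmul']
    rw [h]
    intro x y hxy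
    apply (TensorProduct.lid A M).injective
    apply hM
    simpa using congrArg (TensorProduct.lid A M) hxy

theorem smul_injective_tensor (hι : Injective ι) (hex : Exact ι π) (hπ : Surjective π)
    (ϖ : A) (hA : IsSMulRegular A ϖ) (hM : IsSMulRegular M ϖ)
    [Module.Flat (A ⧸ Ideal.span {ϖ}) ((A ⧸ Ideal.span {ϖ}) ⊗[A] M)] (I : Ideal A) :
    Injective ((LinearMap.lsmul A I ϖ).lTensor M) := by
  have hT0 := T_quot ι π hι hex hπ ϖ hM
  refine Groth.Agent.H1.LocalCrit.lTensor_injective_of_T ι π hex hπ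
    (N₃ := I ⧸ (Ideal.span {ϖ} • ⊤ : Submodule A I))
    (LinearMap.lsmul A I ϖ) (Ideal.span {ϖ} • ⊤ : Submodule A I).mkQ ?_ ?_
    (Submodule.mkQ_surjective _)
    (Groth.Agent.H1.LocalCrit.T_of_module_quotient ι π hex hπ (A ⧸ Ideal.span {ϖ}) hT0 _)
  · intro x y hxy
    apply Subtype.ext
    apply hA
    simpa using congrArg Subtype.val hxy
  · intro x
    rw [Submodule.mkQ_apply, Submodule.Quotient.mk_eq_zero, Submodule.ideal_span_singleton_smul,
      Submodule.mem_smul_pointwise_iff_exists]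
    constructor
    · rintro ⟨a, -, rfl⟩; exact ⟨a, rfl⟩
    · rintro ⟨a, rfl⟩; exact ⟨a, trivial, rfl⟩

theorem smul_injective_tensor' (hπ : Surjective π)
    (ϖ : A) (hA : IsSMulRegular A ϖ) (hM : IsSMulRegular M ϖ)
    [Module.Flat (A ⧸ Ideal.span {ϖ}) ((A ⧸ Ideal.span {ϖ}) ⊗[A] M)] (I : Ideal A) :
    Injective ((LinearMap.lsmul A I ϖ).lTensor M) :=
  smul_injective_tensor (LinearMap.ker π).subtype π Subtype.val_injective
    (LinearMap.exact_subtype_ker_map _) hπ ϖ hA hM I

end pres

/-- Flatness criterion along a regular element: if `ϖ` is regular on `A` and on `M`,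
`M/ϖM` is flat over `A/ϖ` and `M[1/ϖ]` is flat over `A`, then `M` is flat over `A`. -/
theorem flat_of_regular (ϖ : A) (hA : IsSMulRegular A ϖ) (hM : IsSMulRegular M ϖ)
    [Module.Flat (A ⧸ Ideal.span {ϖ}) ((A ⧸ Ideal.span {ϖ}) ⊗[A] M)]
    [Module.Flat A (LocalizedModule (Submonoid.powers ϖ) M)] : Module.Flat A M := by
  rw [Module.Flat.iff_lTensor_injective']
  intro I
  -- `ϖ` is injective on `M ⊗ I`
  have h4 : Injective ((LinearMap.lsmul A I ϖ).lTensor M) :=
    smul_injective_tensor' (Finsupp.linearCombination A (id : M → M))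
      (Finsupp.linearCombination_id_surjective A M) ϖ hA hM I
  have h4' : ∀ (n : ℕ) (x : M ⊗[A] I), ϖ ^ n • x = 0 → x = 0 := by
    intro n
    induction n with
    | zero => intro x hx; simpa using hx
    | succ n ih =>
      intro x hx
      apply ih
      apply h4
      rw [map_zero]
      have : (LinearMap.lsmul A I ϖ).lTensor M = LinearMap.lsmul A (M ⊗[A] I) ϖ := by
        ext m i
        simp
      rw [this, LinearMap.lsmul_apply, smul_smul, ← pow_succ']
      exact hx
  rw [injective_iff_map_eq_zero]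
  intro x hx
  obtain ⟨s, ⟨n, rfl⟩, hs⟩ := exists_smul_eq_zero_of_lTensor_eq_zero I.subtype
    Subtype.val_injective (Submonoid.powers ϖ) x hx
  exact h4' n x hs

end Groth.Agent.H3.RegFlat
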