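import Mathlib
import Groth.Prelude
import Groth.Agent.Lib.Helper8.KDesc.Imm
import Groth.Agent.Lib.Helper8.KosImm.Comp
import Groth.Agent.Lib.Helper8.RegBC.Imm
import Groth.Agent.Lib.Helper5.AlgSp.LocPCalc
import Groth.Agent.S2104
import Groth.Agent.S2105

/-!
# Composition of regular immersions (`H_1`-regular, quasi-regular) of schemes and algebraic spaces
(helper3)
-/

set_option autoImplicit false
set_option linter.style.haveILetI false
set_option linter.unusedSectionVars false

universe u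

open CategoryTheory CategoryTheory.Limits AlgebraicGeometry

attribute [local instance] HasDerivedCategory.standard

namespace Groth.Agent.H3.RegImmComp

open Groth.Agent.H8.KDesc Groth.Agent.H8.RegBC Groth.Agent.H8.KosConcat

section ring

variable {P C : Type u} [CommRing P] [CommRing C] [Algebra P C]

lemma range_get_eq (l : List P) : Set.range l.get = {x | x ∈ l} := by
  ext x
  simp [List.mem_iff_get]

lemma isH1Regular_append_get (l ts : List P) (h : CAlgX.IsH1Regular (Fin.append l.get ts.get)) :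
    CAlgX.IsH1Regular (l ++ ts).get := by
  have e : l ++ ts = List.ofFn (Fin.append l.get ts.get) := by
    rw [List.ofFn_fin_append, List.ofFn_get, List.ofFn_get]
  rw [e]
  exact isH1Regular_of_cast (List.length_ofFn) _ _ (fun i => List.get_ofFn _ i) h

lemma isQuasiRegular_append_get (l ts : List P)
    (h : CAlgX.IsQuasiRegular (Fin.append l.get ts.get)) :
    CAlgX.IsQuasiRegular (l ++ ts).get := by
  have e : l ++ ts = List.ofFn (Fin.append l.get ts.get) := by
    rw [List.ofFn_fin_append, List.ofFn_get, List.ofFn_get]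
  rw [e]
  exact isQuasiRegular_of_cast (List.length_ofFn) _ _ (fun i => List.get_ofFn _ i) h

/-- Appending to a sequence `l` of kind `H_1` or quasi a sequence `ts` which is `H_1`-regular modulo
`(l)` gives a sequence of the same kind. -/
theorem kindSeq_append {k : RegImm.Kind} (hk : IsLow k) (l ts : List P) (hl : k.Seq P l)
    (hs : Function.Surjective (algebraMap P C))
    (hker : RingHom.ker (algebraMap P C) = Ideal.ofList l)
    (hts : RegImm.Kind.Seq .h1 C (ts.map (algebraMap P C))) : k.Seq P (l ++ ts) := by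
  have hkerI : RingHom.ker (algebraMap P C) = Ideal.span (Set.range l.get) := by
    rw [hker, range_get_eq]
  let e : (P ⧸ Ideal.span (Set.range l.get)) ≃+* C :=
    (Ideal.quotEquivOfEq hkerI.symm).trans (RingHom.quotientKerEquivOfSurjective hs)
  have he : ∀ p : P, e (Ideal.Quotient.mk _ p) = algebraMap P C p := by
    intro p
    simp [e]
  letI : Algebra C (P ⧸ Ideal.span (Set.range l.get)) :=
    (e.symm : C →+* P ⧸ Ideal.span (Set.range l.get)).toAlgebra
  haveI : Module.Flat C (P ⧸ Ideal.span (Set.range l.get)) :=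
    RingHom.Flat.of_bijective (f := (e.symm : C →+* P ⧸ Ideal.span (Set.range l.get)))
      e.symm.bijective
  have h1 := seq_map_flat (R := C) (R' := P ⧸ Ideal.span (Set.range l.get)) (Or.inl rfl)
    (ts.map (algebraMap P C)) hts
  have hmap : (ts.map (algebraMap P C)).map (algebraMap C (P ⧸ Ideal.span (Set.range l.get))) =
      ts.map (Ideal.Quotient.mk (Ideal.span (Set.range l.get))) := by
    rw [List.map_map]
    apply List.map_congr_left
    intro p _
    change e.symm (algebraMap P C p) = _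
    rw [← he p, RingEquiv.symm_apply_apply]
  rw [hmap] at h1
  have h1' : CAlgX.IsH1Regular
      (ts.map (Ideal.Quotient.mk (Ideal.span (Set.range l.get)))).get := h1
  have hg : CAlgX.IsH1Regular
      (fun j => Ideal.Quotient.mk (Ideal.span (Set.range l.get)) (ts.get j)) :=
    isH1Regular_of_cast (List.length_map _).symm _ _ (fun i => by simp) h1'
  rcases hk with rfl | rfl
  · have hl' : CAlgX.IsH1Regular l.get := hl
    exact isH1Regular_append_get l ts (Groth.Agent.S2105.result l.get ts.get hl' hg)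
  · have hl' : CAlgX.IsQuasiRegular l.get := hl
    exact isQuasiRegular_append_get l ts (Groth.Agent.S2104.result l.get ts.get hl' hg)

end ring

section schemes

/-- composition of two charts over the same affine open: outer of kind `k` (`H_1` or quasi), inner
`H_1`-regular. -/
theorem chart_comp {k : RegImm.Kind} (hk : IsLow k) {X Y Z : Scheme.{u}} (i : Y ⟶ X) (j : Z ⟶ Y)
    (W : X.Opens)
    (hW : IsAffineOpen W) (hci : IsClosedImmersion (i ∣_ W))
    (hcj : IsClosedImmersion (j ∣_ i ⁻¹ᵁ W))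
    (rs : List Γ(X, W)) (hrs : k.Seq Γ(X, W) rs)
    (hkeri : RingHom.ker (i.app W).hom = Ideal.ofList rs)
    (ts : List Γ(Y, i ⁻¹ᵁ W)) (hts : RegImm.Kind.Seq .h1 Γ(Y, i ⁻¹ᵁ W) ts)
    (hkerj : RingHom.ker (j.app (i ⁻¹ᵁ W)).hom = Ideal.ofList ts) :
    IsClosedImmersion ((j ≫ i) ∣_ W) ∧ ∃ us : List Γ(X, W), k.Seq Γ(X, W) us ∧
        RingHom.ker ((j ≫ i).app W).hom = Ideal.ofList us := by
  haveI := hci
  haveI := hcj
  obtain ⟨hV, hsurj⟩ :=
    Groth.Agent.H1.RegImmersion.affine_and_surjective_of_isClosedImmersion_restrict i W hW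
  refine ⟨?_, ?_⟩
  · rw [morphismRestrict_comp]
    exact @IsClosedImmersion.comp _ _ _ (j ∣_ i ⁻¹ᵁ W) (i ∣_ W) inferInstance inferInstance
  · choose σ hσ using hsurj
    obtain ⟨ts', htsmap⟩ : ∃ ts' : List Γ(X, W), ts'.map (i.app W).hom = ts := by
      refine ⟨ts.map σ, ?_⟩
      rw [List.map_map]
      conv_rhs => rw [← List.map_id ts]
      apply List.map_congr_left
      intro r _
      exact hσ r
    letI alg : Algebra Γ(X, W) Γ(Y, i ⁻¹ᵁ W) := (i.app W).hom.toAlgebra
    refine ⟨rs ++ ts', ?_, ?_⟩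
    · refine kindSeq_append (P := Γ(X, W)) (C := Γ(Y, i ⁻¹ᵁ W)) hk rs ts' hrs
        (fun b => ⟨σ b, hσ b⟩) hkeri ?_
      rw [show (algebraMap Γ(X, W) Γ(Y, i ⁻¹ᵁ W)) = (i.app W).hom from rfl, htsmap]
      exact hts
    · have hcomap : Ideal.comap (i.app W).hom (Ideal.span {x | x ∈ ts}) =
          Ideal.span {x | x ∈ rs ++ ts'} := by
        rw [← htsmap, ← map_span_mem, Ideal.comap_map_of_surjective (i.app W).hom
          (fun b => ⟨σ b, hσ b⟩), ← RingHom.ker_eq_comap_bot, hkeri, span_mem_append]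
        exact sup_comm _ _
      ext a
      have h1 : ((j ≫ i).app W).hom a = (j.app (i ⁻¹ᵁ W)).hom ((i.app W).hom a) :=
        congrArg (fun φ => φ.hom a) (Scheme.Hom.comp_app j i W)
      have h2 : (j.app (i ⁻¹ᵁ W)).hom ((i.app W).hom a) = 0 ↔
          (i.app W).hom a ∈ Ideal.span {x | x ∈ ts} := by
        rw [← RingHom.mem_ker, hkerj]
      rw [RingHom.mem_ker, h1]
      change _ ↔ a ∈ Ideal.span {x | x ∈ rs ++ ts'}
      rw [← hcomap, Ideal.mem_comap]
      exact h2

/-- local charts of two composable regular immersions compose. -/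
theorem exists_chart_comp {k : RegImm.Kind} (hk : IsLow k) {X Y Z : Scheme.{u}} (i : Y ⟶ X)
    (j : Z ⟶ Y) (z : Z)
    (U : X.Opens) (hU : IsAffineOpen U) (hzU : i (j z) ∈ U) (hci : IsClosedImmersion (i ∣_ U))
    (rs : List Γ(X, U)) (hrs : k.Seq Γ(X, U) rs)
    (hkeri : RingHom.ker (i.app U).hom = Ideal.ofList rs)
    (V : Y.Opens) (hV : IsAffineOpen V) (hzV : j z ∈ V) (hcj : IsClosedImmersion (j ∣_ V))
    (ts : List Γ(Y, V)) (hts : RegImm.Kind.Seq .h1 Γ(Y, V) ts)
    (hkerj : RingHom.ker (j.app V).hom = Ideal.ofList ts) :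
    ∃ W : X.Opens, IsAffineOpen W ∧ (j ≫ i) z ∈ W ∧ IsClosedImmersion ((j ≫ i) ∣_ W) ∧
      ∃ us : List Γ(X, W), k.Seq Γ(X, W) us ∧
          RingHom.ker ((j ≫ i).app W).hom = Ideal.ofList us := by
  haveI := hci
  obtain ⟨hiU, hsurj⟩ :=
    Groth.Agent.H1.RegImmersion.affine_and_surjective_of_isClosedImmersion_restrict i U hU
  obtain ⟨b, t, hbt, hzb⟩ := exists_basicOpen_le_affine_inter hiU hV (j z) ⟨hzU, hzV⟩
  obtain ⟨g, hg⟩ := hsurj b
  have hpre : i ⁻¹ᵁ X.basicOpen g = Y.basicOpen t := by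
    rw [Scheme.preimage_basicOpen i g, ← hbt]
    exact congrArg _ hg
  obtain ⟨hWaff, hciW, rs', -, hrs', hkeri'⟩ :=
    Groth.Agent.H8.KDesc.chart_basicOpen hk i U hU hci rs hrs hkeri g (X.basicOpen g) rfl
  obtain ⟨-, hcjW, ts', -, hts', hkerj'⟩ :=
    Groth.Agent.H8.KDesc.chart_basicOpen (Or.inl rfl) j V hV hcj ts hts hkerj t
      (i ⁻¹ᵁ X.basicOpen g) hpre
  obtain ⟨hcl, us, hkr, hk'⟩ :=
    chart_comp hk i j (X.basicOpen g) hWaff hciW hcjW rs' hrs' hkeri' ts' hts' hkerj'
  refine ⟨X.basicOpen g, hWaff, ?_, hcl, us, hkr, hk'⟩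
  have h1 : j z ∈ i ⁻¹ᵁ X.basicOpen g := by
    rw [hpre, ← hbt]
    exact hzb
  exact h1

/-- **Composition**: an `H_1`-regular immersion followed by an immersion of kind `k` (`H_1`-regular
or quasi-regular) is of kind `k`. -/
theorem regularImmersion_comp_low {k : RegImm.Kind} (hk : IsLow k) {X Y Z : Scheme.{u}}
    (i : Y ⟶ X) (j : Z ⟶ Y)
    (hi : RegImm.IsRegularImmersion k i) (hj : RegImm.IsRegularImmersion .h1 j) :
    RegImm.IsRegularImmersion k (j ≫ i) := by
  obtain ⟨himm, hi⟩ := hi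
  obtain ⟨hjmm, hj⟩ := hj
  haveI := himm
  haveI := hjmm
  refine ⟨inferInstance, fun z => ?_⟩
  obtain ⟨U, hzU, hci, rs, hrs, hkeri⟩ := hi (j z)
  obtain ⟨V, hzV, hcj, ts, hts, hkerj⟩ := hj z
  obtain ⟨W, hW, hzW, hcl, us, hkr, hk'⟩ :=
    exists_chart_comp hk i j z U.1 U.2 hzU hci rs hrs hkeri V.1 V.2 hzV hcj ts hts hkerj
  exact ⟨⟨W, hW⟩, hzW, hcl, us, hkr, hk'⟩

end schemes

section spaces

open _root_.AlgSp Groth.Agent.H5.AlgSp

variable {S : Scheme.{u}}

/-- Composition of regular immersions of algebraic spaces, given the composition rule for schemes. -/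
theorem regImmMor_comp {k_i k_j k : RegImm.Kind}
    (hcomp : ∀ {A B C : Scheme.{u}} (f : B ⟶ A) (h : C ⟶ B), RegImm.IsRegularImmersion k_j f →
      RegImm.IsRegularImmersion k_i h → RegImm.IsRegularImmersion k (h ≫ f))
    {Z Y X : Sp S} (i : Z ⟶ Y) (j : Y ⟶ X) (hi : IsRegImmMor k_i i) (hj : IsRegImmMor k_j j) :
    IsRegImmMor k (i ≫ j) := by
  refine ⟨(Representable (S := S)).comp_mem i j hi.1 hj.1, fun V W₀ b fst₀ snd₀ hbe sq₀ => ?_⟩
  obtain ⟨W_Y, fY, sY, sqY⟩ : ∃ (W_Y : Over S) (fY : (yon S).obj W_Y ⟶ Y) (sY : W_Y ⟶ V),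
      IsPullback fY ((yon S).map sY) j b := ⟨_, _, _, hj.1.isPullback b⟩
  have hfY : RepWith @Etale fY := MorphismProperty.of_isPullback sqY.flip hbe
  have hw : (fst₀ ≫ i) ≫ j = (yon S).map snd₀ ≫ b := by
    rw [Category.assoc]
    exact sq₀.w
  obtain ⟨m, hm⟩ := (yon S).map_surjective (sqY.lift (fst₀ ≫ i) ((yon S).map snd₀) hw)
  have hm1 : (yon S).map m ≫ fY = fst₀ ≫ i := by rw [hm, sqY.lift_fst]
  have hm2 : m ≫ sY = snd₀ :=
    (yon S).map_injective (by rw [Functor.map_comp, hm, sqY.lift_snd])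
  have sq1 : IsPullback fst₀ ((yon S).map m) i fY := by
    refine IsPullback.of_bot ?_ hm1.symm sqY
    rw [← Functor.map_comp, hm2]
    exact sq₀
  have h1 : RegImm.IsRegularImmersion k_i m.left := hi.2 fY fst₀ m hfY sq1
  have h2 : RegImm.IsRegularImmersion k_j sY.left := hj.2 b fY sY hbe sqY
  have h3 := hcomp sY.left m.left h2 h1
  rw [← hm2]
  exact h3

end spaces

end Groth.Agent.H3.RegImmComp
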