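import Mathlib
import Groth.Prelude
import Groth.Agent.Lib.Helper8.KDesc.Imm
import Groth.Agent.Lib.Helper8.KosBCImm.Desc
import Groth.Agent.Lib.Helper8.RegBC.Imm
import Groth.Agent.Lib.Helper5.Descent.ImmersionDescent
import Groth.Agent.Lib.Helper5.AlgSp.LocPCalc

/-!
# Flat base change of regular immersions of algebraic spaces (helper3)

* `exists_compact_open_cover`: for an open surjective morphism `g : X' ⟶ X` and an affine open `U ⊆ X` there
  is a quasi-compact open `W ⊆ g⁻¹ U` mapping onto `U`.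
* `regularImmersion_of_baseChange_open_koszul`, `regularImmersion_of_baseChange_open_low`: helper8's fpqc
  descent of Koszul-, `H_1`- and quasi-regular immersions, with "quasi-compact" replaced by "open map".
* `regImmMor_baseChange_flat`: flat base change for `AlgSp.IsRegImmMor k`.
-/

set_option autoImplicit false
set_option linter.style.haveILetI false
set_option linter.unusedSectionVars false

universe u

open CategoryTheory CategoryTheory.Limits AlgebraicGeometry

attribute [local instance] HasDerivedCategory.standard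

namespace Groth.Agent.H3.RegImmEtDesc

open Groth.Agent.H8.KosBCImm Groth.Agent.H8.KDesc

section cover

theorem exists_compact_open_cover {X X' : Scheme.{u}} (g : X' ⟶ X) (hopen : IsOpenMap g)
    (hsurj : Function.Surjective g) (U : X.Opens) (hU : IsAffineOpen U) :
    ∃ W : X'.Opens, W ≤ g ⁻¹ᵁ U ∧ IsCompact (W : Set X') ∧ ∀ x ∈ U, ∃ w ∈ W, g w = x := by
  classical
  have h1 : ∀ x : U, ∃ W : X'.Opens, IsAffineOpen W ∧ W ≤ g ⁻¹ᵁ U ∧ ∃ w ∈ W, g w = x.1 := by
    intro x
    obtain ⟨w, hw⟩ := hsurj x.1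
    have hwU : w ∈ (g ⁻¹ᵁ U : X'.Opens) := by
      change g w ∈ U
      rw [hw]
      exact x.2
    obtain ⟨W, hW, hwW, hWU⟩ :=
      (TopologicalSpace.Opens.isBasis_iff_nbhd.mp X'.isBasis_affineOpens) hwU
    exact ⟨W, hW, hWU, w, hwW, hw⟩
  choose W hWaff hWle w hwW hw using h1
  have hcov : (U : Set X) ⊆ ⋃ x : U, g '' (W x : Set X') := by
    intro x hx
    exact Set.mem_iUnion.2 ⟨⟨x, hx⟩, w ⟨x, hx⟩, hwW _, hw _⟩
  obtain ⟨t, ht⟩ := hU.isCompact.elim_finite_subcover (fun x : U => g '' (W x : Set X'))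
    (fun x => hopen _ (W x).isOpen) hcov
  refine ⟨⨆ x ∈ t, W x, ?_, ?_, ?_⟩
  · exact iSup₂_le (fun x _ => hWle x)
  · have : ((⨆ x ∈ t, W x : X'.Opens) : Set X') = ⋃ x ∈ t, (W x : Set X') := by
      simp only [TopologicalSpace.Opens.coe_iSup]
    rw [this]
    exact t.isCompact_biUnion (fun x _ => (hWaff x).isCompact)
  · intro x hx
    have := ht hx
    simp only [Set.mem_iUnion, Set.mem_image, exists_prop] at this
    obtain ⟨y, hyt, w', hw'W, hw'⟩ := this
    refine ⟨w', ?_, hw'⟩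
    exact TopologicalSpace.Opens.mem_iSup.2 ⟨y, TopologicalSpace.Opens.mem_iSup.2 ⟨hyt, hw'W⟩⟩

end cover

section main

variable {X Y X' Y' : Scheme.{u}}

/-- Descent of Koszul-regular immersions along a flat, surjective, open morphism. -/
theorem regularImmersion_of_baseChange_open_koszul (i : Y ⟶ X) [IsImmersion i]
    (g : X' ⟶ X) [Flat g] (hopen : IsOpenMap g) (hsurj : Function.Surjective g)
    (i' : Y' ⟶ X') (g' : Y' ⟶ Y) (hsq : IsPullback g' i' i g)
    (hi' : RegImm.IsRegularImmersion .koszul i') : RegImm.IsRegularImmersion .koszul i := by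
  refine ⟨inferInstance, fun z => ?_⟩
  have hzc : i z ∈ i.coborderRange := subset_coborder ⟨z, rfl⟩
  obtain ⟨U, hU, hzU, hUc⟩ :=
    (TopologicalSpace.Opens.isBasis_iff_nbhd.mp X.isBasis_affineOpens) hzc
  have hcl : IsClosedImmersion (i ∣_ U) :=
    Groth.Agent.H1.RegImmersion.isClosedImmersion_morphismRestrict i U hUc
  obtain ⟨W, hWle, hWc, hWs⟩ := exists_compact_open_cover g hopen hsurj U hU
  haveI : CompactSpace ((W : X'.Opens) : Scheme.{u}) := isCompact_iff_compactSpace.mp hWc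
  obtain ⟨T, p, hpsurj, hpflat, hTaff⟩ :=
    Scheme.exists_hom_isAffine_of_isZariskiLocalAtSource @Flat ((W : X'.Opens) : Scheme.{u})
  haveI := hpflat
  haveI := hTaff
  let q : T ⟶ X' := p ≫ W.ι
  have hj : RegImm.IsRegularImmersion .koszul (pullback.snd i' q) :=
    koszulRegularImmersion_baseChange_flat i' q (pullback.snd i' q) (pullback.fst i' q)
      (IsPullback.of_hasPullback i' q) hi'
  have hbig : IsPullback (pullback.fst i' q ≫ g') (pullback.snd i' q) i (q ≫ g) :=
    (IsPullback.of_hasPullback i' q).paste_horiz hsq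
  have hle : (⊤ : T.Opens) ≤ (q ≫ g) ⁻¹ᵁ U := by
    intro t _
    change g (W.ι (p t)) ∈ U
    exact hWle (p t).2
  obtain ⟨hclT, hkerT⟩ := Groth.Agent.H8.KosBCImm.chart_baseChange i (q ≫ g) (pullback.snd i' q)
    (pullback.fst i' q ≫ g') hbig U hU hcl ⊤ (isAffineOpen_top T) hle
  have hKRT := isKoszulRegularIdeal_ker (pullback.snd i' q) hj ⊤ (isAffineOpen_top T) hclT
  rw [hkerT] at hKRT
  have hff : ((q ≫ g).appLE U ⊤ hle).hom.FaithfullyFlat := by
    apply faithfullyFlat_appLE_top (q ≫ g) U hU hle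
    intro x hx
    obtain ⟨w, hwW, hw⟩ := hWs x hx
    obtain ⟨t, ht⟩ := hpsurj.surj ⟨w, hwW⟩
    refine ⟨t, ?_⟩
    change g (W.ι (p t)) = x
    rw [ht]
    exact hw
  letI : Algebra Γ(X, U) Γ(T, ⊤) := ((q ≫ g).appLE U ⊤ hle).hom.toAlgebra
  haveI : Module.FaithfullyFlat Γ(X, U) Γ(T, ⊤) := hff
  have hKR : LCI.IsKoszulRegularIdeal (RingHom.ker (i.app U).hom) :=
    Groth.Agent.H8.KosDesc.isKoszulRegularIdeal_of_faithfullyFlat (B := Γ(T, ⊤)) _ hKRT
  exact isRegularImmersionAt_of_isKoszulRegularIdeal i U hU hcl hKR z hzU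

/-- Descent of `H_1`-regular and quasi-regular immersions along a flat, surjective, open morphism. -/
theorem regularImmersion_of_baseChange_open_low {k : RegImm.Kind} (hk : IsLow k) (i : Y ⟶ X)
    [IsImmersion i]
    (g : X' ⟶ X) [Flat g] (hopen : IsOpenMap g) (hsurj : Function.Surjective g)
    (i' : Y' ⟶ X') (g' : Y' ⟶ Y) (hsq : IsPullback g' i' i g)
    (hi' : RegImm.IsRegularImmersion k i') : RegImm.IsRegularImmersion k i := by
  refine ⟨inferInstance, fun z => ?_⟩
  have hzc : i z ∈ i.coborderRange := subset_coborder ⟨z, rfl⟩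
  obtain ⟨U, hU, hzU, hUc⟩ :=
    (TopologicalSpace.Opens.isBasis_iff_nbhd.mp X.isBasis_affineOpens) hzc
  have hcl : IsClosedImmersion (i ∣_ U) :=
    Groth.Agent.H1.RegImmersion.isClosedImmersion_morphismRestrict i U hUc
  obtain ⟨W, hWle, hWc, hWs⟩ := exists_compact_open_cover g hopen hsurj U hU
  haveI : CompactSpace ((W : X'.Opens) : Scheme.{u}) := isCompact_iff_compactSpace.mp hWc
  obtain ⟨T, p, hpsurj, hpflat, hTaff⟩ :=
    Scheme.exists_hom_isAffine_of_isZariskiLocalAtSource @Flat ((W : X'.Opens) : Scheme.{u})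
  haveI := hpflat
  haveI := hTaff
  let q : T ⟶ X' := p ≫ W.ι
  have hj : RegImm.IsRegularImmersion k (pullback.snd i' q) :=
    Groth.Agent.H8.RegBC.regularImmersion_baseChange_flat k i' q (pullback.snd i' q)
      (pullback.fst i' q) (IsPullback.of_hasPullback i' q) hi'
  have hbig : IsPullback (pullback.fst i' q ≫ g') (pullback.snd i' q) i (q ≫ g) :=
    (IsPullback.of_hasPullback i' q).paste_horiz hsq
  have hle : (⊤ : T.Opens) ≤ (q ≫ g) ⁻¹ᵁ U := by
    intro t _
    change g (W.ι (p t)) ∈ U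
    exact hWle (p t).2
  obtain ⟨hclT, hkerT⟩ := Groth.Agent.H8.KosBCImm.chart_baseChange i (q ≫ g) (pullback.snd i' q)
    (pullback.fst i' q ≫ g') hbig U hU hcl ⊤ (isAffineOpen_top T) hle
  have hKRT := isKindIdeal_ker hk (pullback.snd i' q) hj ⊤ (isAffineOpen_top T) hclT
  rw [hkerT] at hKRT
  have hff : ((q ≫ g).appLE U ⊤ hle).hom.FaithfullyFlat := by
    apply faithfullyFlat_appLE_top (q ≫ g) U hU hle
    intro x hx
    obtain ⟨w, hwW, hw⟩ := hWs x hx
    obtain ⟨t, ht⟩ := hpsurj.surj ⟨w, hwW⟩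
    refine ⟨t, ?_⟩
    change g (W.ι (p t)) = x
    rw [ht]
    exact hw
  letI : Algebra Γ(X, U) Γ(T, ⊤) := ((q ≫ g).appLE U ⊤ hle).hom.toAlgebra
  haveI : Module.FaithfullyFlat Γ(X, U) Γ(T, ⊤) := hff
  have hKR : IsKindIdeal k (RingHom.ker (i.app U).hom) :=
    isKindIdeal_of_faithfullyFlat (B := Γ(T, ⊤)) hk _ hKRT
  exact isRegularImmersionAt_of_isKindIdeal hk i U hU hcl hKR z hzU

end main

section spaces

open _root_.AlgSp Groth.Agent.H5.AlgSp

variable {S : Scheme.{u}}

/-- **Flat base change of Koszul-, `H_1`- and quasi-regular immersions of algebraic spaces.** -/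
theorem regImmMor_baseChange_flat (k : RegImm.Kind)
    (hk : k = RegImm.Kind.koszul ∨ k = RegImm.Kind.h1 ∨ k = RegImm.Kind.quasi)
    {Z X X' P : Sp S} (hX : IsAlgSpace X) (i : Z ⟶ X) (g : X' ⟶ X) (hi : IsRegImmMor k i)
    (hg : LocP @Flat g) (fst : P ⟶ Z) (i' : P ⟶ X') (sq : IsPullback fst i' i g) :
    IsRegImmMor k i' := by
  refine ⟨MorphismProperty.of_isPullback sq hi.1, fun V' W' b' fst' snd' hb' sq' => ?_⟩
  obtain ⟨V, b, hbe, hbs⟩ := hX.atlas
  obtain ⟨c, hc⟩ : ∃ c : (yon S).obj V' ⟶ X, c = b' ≫ g := ⟨_, rfl⟩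
  have big : IsPullback (fst' ≫ fst) ((yon S).map snd') i c := by
    rw [hc]
    exact sq'.paste_horiz sq
  obtain ⟨V'', r, q, sqV, hqe, hqs⟩ : ∃ (V'' : Over S) (r : V'' ⟶ V) (q : V'' ⟶ V'),
      IsPullback ((yon S).map r) ((yon S).map q) b c ∧ Etale q.left ∧ Surjective q.left :=
    ⟨_, _, _, hbe.rep.isPullback' c, hbe.property_snd c, hbs.property_snd c⟩
  have hr : Flat r.left := by
    have ha : RepWith @Etale ((yon S).map q ≫ b') :=
      (RepWith @Etale).comp_mem _ _ ((repWith_yon_map_iff @Etale q).2 hqe) hb'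
    exact hg ((yon S).map q ≫ b') b r ha hbe (by rw [Category.assoc, ← hc]; exact sqV.w.symm)
  obtain ⟨W, fW, j, sqW⟩ : ∃ (W : Over S) (fW : (yon S).obj W ⟶ Z) (j : W ⟶ V),
      IsPullback fW ((yon S).map j) i b := ⟨_, _, _, hi.1.isPullback b⟩
  have hj : RegImm.IsRegularImmersion k j.left := hi.2 b fW j hbe sqW
  obtain ⟨W'', a1, a2, sqW''⟩ : ∃ (W'' : Over S) (a1 : W'' ⟶ W) (a2 : W'' ⟶ V''),
      IsPullback a1 a2 j r := ⟨_, _, _, IsPullback.of_hasPullback j r⟩
  have sqW''s : IsPullback a1.left a2.left j.left r.left := sqW''.map (Over.forget S)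
  have ha2 : RegImm.IsRegularImmersion k a2.left :=
    Groth.Agent.H8.RegBC.regularImmersion_baseChange_flat k j.left r.left a2.left a1.left sqW''s hj
  have ysqW'' : IsPullback ((yon S).map a1) ((yon S).map a2) ((yon S).map j) ((yon S).map r) :=
    sqW''.map (yon S)
  have big2 : IsPullback ((yon S).map a1 ≫ fW) ((yon S).map a2) i ((yon S).map r ≫ b) :=
    ysqW''.paste_horiz sqW
  have hw : ((yon S).map a1 ≫ fW) ≫ i = ((yon S).map a2 ≫ (yon S).map q) ≫ c := by
    rw [big2.w, Category.assoc, sqV.w]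
  obtain ⟨γ, hγ1, hγ2⟩ : ∃ γ : (yon S).obj W'' ⟶ (yon S).obj W',
      γ ≫ (fst' ≫ fst) = (yon S).map a1 ≫ fW ∧
        γ ≫ (yon S).map snd' = (yon S).map a2 ≫ (yon S).map q :=
    ⟨big.lift _ _ hw, big.lift_fst _ _ _, big.lift_snd _ _ _⟩
  have left : IsPullback γ ((yon S).map a2) ((yon S).map snd') ((yon S).map q) := by
    refine IsPullback.of_right ?_ hγ2 big
    rw [hγ1, ← sqV.w]
    exact big2
  obtain ⟨γ₀, rfl⟩ := (yon S).map_surjective γ
  have hcomm : γ₀ ≫ snd' = a2 ≫ q :=
    (yon S).map_injective (by rw [Functor.map_comp, Functor.map_comp]; exact hγ2)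
  have leftO : IsPullback γ₀ a2 snd' q := IsPullback.of_map (yon S) hcomm left
  have leftS : IsPullback γ₀.left a2.left snd'.left q.left := leftO.map (Over.forget S)
  haveI := hqe
  have himm2 : IsImmersion a2.left := ha2.1
  have himm : IsImmersion snd'.left := by
    have h1 : RepWith @IsImmersion ((yon S).map a2) := (repWith_yon_map_iff @IsImmersion a2).2 himm2
    have h2 := Groth.Agent.H5.Descent.repWith_isImmersion_of_baseChange
      (f := (yon S).map snd') (b := (yon S).map q)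
      ((repWith_yon_map_iff @Flat q).2 inferInstance)
      ((repWith_yon_map_iff @LocallyOfFinitePresentation q).2 inferInstance)
      ((repWith_yon_map_iff @Surjective q).2 hqs) left h1
    exact (repWith_yon_map_iff @IsImmersion snd').1 h2
  haveI := himm
  have hopen : IsOpenMap q.left := q.left.isOpenMap
  rcases hk with rfl | rfl | rfl
  · exact regularImmersion_of_baseChange_open_koszul snd'.left q.left hopen hqs.surj a2.left
      γ₀.left leftS ha2
  · exact regularImmersion_of_baseChange_open_low (Or.inl rfl) snd'.left q.left hopen hqs.surj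
      a2.left γ₀.left leftS ha2
  · exact regularImmersion_of_baseChange_open_low (Or.inr rfl) snd'.left q.left hopen hqs.surj
      a2.left γ₀.left leftS ha2

end spaces

end Groth.Agent.H3.RegImmEtDesc
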