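import Mathlib
import Groth.Agent.Lib.Helper3.CotSmOm
import Groth.Agent.Lib.Helper3.OmST
import Groth.Agent.Lib.Helper1.SmoothReg
import Groth.Agent.Lib.Helper1.SmoothDepth
import Groth.Agent.Lib.Helper7.Reg1

/-! Helper3: for an irreducible scheme of finite type over an algebraically closed field,
`Ω_{X/k}` is locally free of rank `dim X` iff all local rings are regular (Hartshorne II.8.15). -/

set_option autoImplicit false
universe u
open AlgebraicGeometry CategoryTheory CategoryTheory.Limits IsLocalRing TensorProduct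

namespace Groth.Agent.H3.RegOmega

open Groth.Agent.H3.Om Groth.Agent.H3.CotSm Groth.Agent.LD.QC

theorem isField_stalk_spec (k : Type u) [Field k] (y : Spec (CommRingCat.of k)) :
    IsField ((Spec (CommRingCat.of k)).presheaf.stalk y) := by
  let e : k ≃ₐ[k] (Spec.structureSheaf k).presheaf.stalk y :=
    IsLocalization.atUnits _ y.asIdeal.primeCompl
      (fun a ha ↦ by aesop (add simp IsUnit.mem_submonoid_iff))
  exact e.toRingEquiv.symm.isField (Field.toIsField k)

theorem isFinLocFreeOfRank_of_iso {X : Scheme.{u}} {M N : X.Modules} (e : M ≅ N) (n : ℕ)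
    (h : FlatMod.IsFinLocFreeOfRank n M) : FlatMod.IsFinLocFreeOfRank n N := by
  intro y
  obtain ⟨U, hy, ⟨e'⟩⟩ := h y
  exact ⟨U, hy, ⟨(Scheme.Modules.restrictFunctor U.ι).mapIso e.symm ≪≫ e'⟩⟩

variable (k : Type u) [Field k] [IsAlgClosed k] {X : Scheme.{u}}
  (q : X ⟶ Spec (CommRingCat.of k)) [LocallyOfFiniteType q]

/-- closed points are regular when `Ω` is locally free of rank `dim X`. -/
theorem isRegularLocalRing_of_free_omega [IrreducibleSpace X] [QuasiSeparated q] (n : ℕ)
    (hn : topologicalKrullDim X = (n : WithBot ℕ∞))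
    (h : FlatMod.IsFinLocFreeOfRank n (Omega.sheaf q))
    (x : X) (hx : IsClosed ({x} : Set X)) : IsRegularLocalRing (X.presheaf.stalk x) := by
  obtain ⟨hfree, hrank⟩ := free_kaehler_stalk q n h x
  have hfld := isField_stalk_spec k (q x)
  letI : Field ((Spec (CommRingCat.of k)).presheaf.stalk (q x)) := hfld.toField
  letI algAB : Algebra ((Spec (CommRingCat.of k)).presheaf.stalk (q x)) (X.presheaf.stalk x) :=
    (q.stalkMap x).hom.toAlgebra
  haveI : Algebra.EssFiniteType ((Spec (CommRingCat.of k)).presheaf.stalk (q x))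
      (X.presheaf.stalk x) := LocallyOfFiniteType.stalkMap q x
  have hdim : ringKrullDim (X.presheaf.stalk x) = (n : WithBot ℕ∞) := by
    rw [← Groth.Agent.H1.DimFormula.localDim_eq_stalk_of_isClosed q x hx,
      Groth.Agent.H1.EquiDim.localDim_eq_dim q x, hn]
  have hres : Function.Bijective (algebraMap ((Spec (CommRingCat.of k)).presheaf.stalk (q x))
      (ResidueField (X.presheaf.stalk x))) := by
    constructor
    · exact RingHom.injective _
    · intro c
      obtain ⟨b, rfl⟩ := IsLocalRing.residue_surjective c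
      obtain ⟨a, ha⟩ := residue_surj k q (𝟙 _) q (Category.comp_id q) x hx b
      refine ⟨a, ?_⟩
      rw [IsScalarTower.algebraMap_apply _ (X.presheaf.stalk x) (ResidueField (X.presheaf.stalk x))]
      symm
      rw [← sub_eq_zero]
      change residue _ b - residue _ ((q.stalkMap x).hom a) = 0
      rw [← map_sub, residue_eq_zero_iff]
      exact ha
  exact (Groth.Agent.H3.KReg.main ((Spec (CommRingCat.of k)).presheaf.stalk (q x))
    (X.presheaf.stalk x) hres n hdim).1 ⟨hfree, hrank⟩


omit [IsAlgClosed k] in
theorem topologicalKrullDim_spec_field :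
    topologicalKrullDim (Spec (CommRingCat.of k)) = ((0 : ℕ) : WithBot ℕ∞) := by
  have h1 : topologicalKrullDim (PrimeSpectrum k) = ringKrullDim k :=
    PrimeSpectrum.topologicalKrullDim_eq_ringKrullDim k
  rw [ringKrullDim_eq_zero_of_field] at h1
  exact h1

/-- **Hartshorne II.8.15** for an arbitrary sheaf of differentials. -/
theorem main [IrreducibleSpace X] [IsSeparated q] (n : ℕ)
    (hn : topologicalKrullDim X = (n : WithBot ℕ∞))
    (Ω : X.Modules) (d : OmegaSh.Der q Ω) (hd : OmegaSh.IsUniversal d) :
    FlatMod.IsFinLocFreeOfRank n Ω ↔ ∀ x : X, IsRegularLocalRing (X.presheaf.stalk x) := by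
  haveI : LocallyOfFinitePresentation q := inferInstance
  constructor
  · intro h
    obtain ⟨e, -⟩ := exists_iso_of_isUniversal hd (isUniversal_dOmega q)
    have h' := isFinLocFreeOfRank_of_iso e n h
    haveI : JacobsonSpace X := LocallyOfFiniteType.jacobsonSpace q
    have hsm : q.smoothLocus = ⊤ := by
      by_contra hne
      have hne' : ((q.smoothLocus : Set X)ᶜ).Nonempty := by
        rw [Set.nonempty_compl]
        intro h2
        exact hne (TopologicalSpace.Opens.ext h2)
      obtain ⟨x, hx1, hx2⟩ := nonempty_inter_closedPoints hne'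
        (q.smoothLocus.isOpen.isClosed_compl.isLocallyClosed)
      exact hx1 (Groth.Agent.H1.SmoothReg.mem_smoothLocus_of_isRegularLocalRing k q x
        (isRegularLocalRing_of_free_omega k q n hn h' x hx2))
    haveI : Smooth q := Scheme.Hom.smoothLocus_eq_top_iff.mp hsm
    exact fun x => Groth.Agent.H1.SmoothDepth.isRegularLocalRing_stalk_of_smooth k q x
  · intro hreg
    have hsm : q.smoothLocus = ⊤ := by
      apply TopologicalSpace.Opens.ext
      ext x
      simp only [TopologicalSpace.Opens.coe_top, Set.mem_univ, iff_true]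
      exact Groth.Agent.H1.SmoothReg.mem_smoothLocus_of_isRegularLocalRing k q x (hreg x)
    haveI : Smooth q := Scheme.Hom.smoothLocus_eq_top_iff.mp hsm
    haveI : ∀ x : X, _root_.IsReduced (X.presheaf.stalk x) := fun x => by
      haveI := hreg x
      haveI := Groth.Agent.H7.Reg.isDomain (X.presheaf.stalk x)
      infer_instance
    haveI : IsReduced X := isReduced_of_isReduced_stalk X
    haveI : IsIntegral X := isIntegral_of_irreducibleSpace_of_isReduced X
    intro x
    obtain ⟨U, m, hxU, hiso, hdim⟩ := exists_free_of_smooth hd x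
    have h2 := fibreDimAt_eq_of_dim k q (𝟙 _) q (Category.comp_id q) n 0
      (topologicalKrullDim_spec_field k) (by rw [zero_add]; exact hn) x
    rw [h2] at hdim
    have hmn : n = m := by exact_mod_cast hdim
    subst hmn
    exact ⟨U, hxU, hiso⟩

end Groth.Agent.H3.RegOmega
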