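import Mathlib
import Groth.Prelude.Def_LCI2
import Groth.Prelude.Def_CAlgX
import Groth.Agent.H4.KosBC
import Groth.Agent.H4.KosLow
import Groth.Agent.Lib.Helper2.Kos4
import Groth.Agent.Lib.Helper1.TorKos2

/-! If `B = C/(r)` with `r` an `H₁`-regular sequence and `B` is formally smooth over `R`, then the
(essentially finitely presented, local) `R`-algebra `C` is formally smooth over `R`. -/

set_option autoImplicit false
set_option linter.style.haveILetI false
universe u
open TensorProduct KaehlerDifferential CategoryTheory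

namespace Groth.Agent.H3.RegSm

/-- a regular sequence is Koszul-regular (light copy of helper4's `PMor6` lemma). -/
theorem isKoszulRegularSeq_of_isWeaklyRegular {R : Type u} [CommRing R] (fs : List R)
    (hreg : RingTheory.Sequence.IsWeaklyRegular R fs) : LCI.IsKoszulRegularSeq R fs := by
  intro i hi
  have key : ∀ K K' : CochainComplex (ModuleCat.{u} R) ℤ, K = K' →
      Limits.IsZero (K'.homology i) → Limits.IsZero (K.homology i) := by
    rintro K K' rfl h
    exact h
  exact key _ _ (Groth.Agent.Lib.Helper1.TorKos.koszul_eq fs)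
    (Groth.Agent.H2.Kos.isZero_koszulH_of_isWeaklyRegular fs R hreg i hi)

section Rel

variable {P C : Type u} [CommRing P] [CommRing C] [Algebra P C]

/-- relations among an `H₁`-regular sequence in `C = P/K` lift to `(r)·K`. -/
theorem sum_mul_mem_of_isH1Regular
    (hPC : Function.Surjective (algebraMap P C)) {c : ℕ} (r : Fin c → P)
    (hr : CAlgX.IsH1Regular (fun i => algebraMap P C (r i)))
    (a : Fin c → P) (ha : ∑ i, a i * r i ∈ RingHom.ker (algebraMap P C)) :
    ∑ i, a i * r i ∈ Ideal.span (Set.range r) * RingHom.ker (algebraMap P C) := by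
  classical
  set K := RingHom.ker (algebraMap P C) with hKdef
  set J := Ideal.span (Set.range r) with hJdef
  have hrJ : ∀ i, r i ∈ J := fun i => Ideal.subset_span ⟨i, rfl⟩
  have hrel : ∑ i, (fun i => algebraMap P C (a i)) i * (fun i => algebraMap P C (r i)) i = 0 := by
    have := (RingHom.mem_ker).1 ha
    simpa [map_sum, map_mul] using this
  have hspan := hr _ hrel
  -- the inductive claim
  have key : ∀ v ∈ Submodule.span C {v : Fin c → C | ∃ i j : Fin c,
      v = Pi.single i (algebraMap P C (r j)) - Pi.single j (algebraMap P C (r i))},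
      ∃ a₀ : Fin c → P, (∀ i, algebraMap P C (a₀ i) = v i) ∧ ∑ i, a₀ i * r i ∈ J * K := by
    intro v hv
    refine Submodule.span_induction (p := fun v _ => ∃ a₀ : Fin c → P,
      (∀ i, algebraMap P C (a₀ i) = v i) ∧ ∑ i, a₀ i * r i ∈ J * K) ?_ ?_ ?_ ?_ hv
    · rintro _ ⟨i, j, rfl⟩
      refine ⟨Pi.single i (r j) - Pi.single j (r i), fun t => ?_, ?_⟩
      · simp only [Pi.sub_apply, map_sub]
        congr 1
        · by_cases h : t = i
          · subst h; simp
          · simp [Pi.single_eq_of_ne h]
        · by_cases h : t = j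
          · subst h; simp
          · simp [Pi.single_eq_of_ne h]
      · have : ∑ t, (Pi.single i (r j) - Pi.single j (r i) : Fin c → P) t * r t = 0 := by
          simp only [Pi.sub_apply, sub_mul, Finset.sum_sub_distrib]
          rw [Finset.sum_eq_single i, Finset.sum_eq_single j]
          · simp [mul_comm]
          · intro b _ hb; simp [Pi.single_eq_of_ne hb]
          · intro h; exact absurd (Finset.mem_univ _) h
          · intro b _ hb; simp [Pi.single_eq_of_ne hb]
          · intro h; exact absurd (Finset.mem_univ _) h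
        rw [this]
        exact Ideal.zero_mem _
    · exact ⟨0, fun i => by simp, by simp⟩
    · rintro x y - - ⟨a₁, h₁, h₁'⟩ ⟨a₂, h₂, h₂'⟩
      refine ⟨a₁ + a₂, fun i => by simp [h₁ i, h₂ i], ?_⟩
      have : ∑ i, (a₁ + a₂) i * r i = ∑ i, a₁ i * r i + ∑ i, a₂ i * r i := by
        simp [add_mul, Finset.sum_add_distrib]
      rw [this]
      exact Ideal.add_mem _ h₁' h₂'
    · rintro s x - ⟨a₁, h₁, h₁'⟩
      obtain ⟨s', rfl⟩ := hPC s
      refine ⟨s' • a₁, fun i => by simp [h₁ i], ?_⟩
      have : ∑ i, (s' • a₁) i * r i = s' * ∑ i, a₁ i * r i := by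
        simp [Finset.mul_sum, mul_assoc]
      rw [this]
      exact Ideal.mul_mem_left _ _ h₁'
  obtain ⟨a₀, h₀, h₀'⟩ := key _ hspan
  have hsplit : ∑ i, a i * r i = ∑ i, a₀ i * r i + ∑ i, r i * (a i - a₀ i) := by
    rw [← Finset.sum_add_distrib]
    refine Finset.sum_congr rfl fun i _ => ?_
    ring
  rw [hsplit]
  refine Ideal.add_mem _ h₀' (Ideal.sum_mem _ fun i _ => ?_)
  refine Ideal.mul_mem_mul (hrJ i) ?_
  rw [hKdef, RingHom.mem_ker, map_sub, h₀ i, sub_self]

end Rel

section Tensor

variable {P κ : Type u} [CommRing P] [CommRing κ] [Algebra P κ]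

/-- every element of `κ ⊗[P] M` is a pure tensor `1 ⊗ m` when `P → κ` is surjective. -/
theorem exists_one_tmul (hκ : Function.Surjective (algebraMap P κ))
    {M : Type u} [AddCommGroup M] [Module P M] (z : κ ⊗[P] M) : ∃ m : M, z = 1 ⊗ₜ m := by
  induction z using TensorProduct.induction_on with
  | zero => exact ⟨0, by simp⟩
  | tmul a m =>
    obtain ⟨p, rfl⟩ := hκ a
    refine ⟨p • m, ?_⟩
    rw [Algebra.algebraMap_eq_smul_one, TensorProduct.smul_tmul]
  | add x y hx hy =>
    obtain ⟨m₁, rfl⟩ := hx
    obtain ⟨m₂, rfl⟩ := hy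
    exact ⟨m₁ + m₂, by rw [TensorProduct.tmul_add]⟩

/-- `1 ⊗ k = 0` in `κ ⊗[P] I` iff `k ∈ 𝔪 I`, `𝔪 = ker (P → κ)`, `P → κ` surjective. -/
theorem one_tmul_eq_zero_iff (hκ : Function.Surjective (algebraMap P κ)) (I : Ideal P) (k : I) :
    (1 : κ) ⊗ₜ[P] k = 0 ↔ (k : P) ∈ RingHom.ker (algebraMap P κ) * I := by
  set 𝔪 := RingHom.ker (algebraMap P κ) with h𝔪
  constructor
  · intro h
    let e : (P ⧸ 𝔪) ≃ₗ[P] κ :=
      LinearMap.quotKerEquivOfSurjective (Algebra.linearMap P κ) hκ
    let E : κ ⊗[P] I ≃ₗ[P] (I ⧸ (𝔪 • ⊤ : Submodule P I)) :=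
      (TensorProduct.congr e.symm (LinearEquiv.refl P I)) ≪≫ₗ
        TensorProduct.quotTensorEquivQuotSMul I 𝔪
    have he : e.symm 1 = Ideal.Quotient.mk 𝔪 1 := by
      rw [LinearEquiv.symm_apply_eq]
      change (1 : κ) = algebraMap P κ 1
      rw [map_one]
    have h1 : E ((1 : κ) ⊗ₜ[P] k) = Submodule.Quotient.mk k := by
      change TensorProduct.quotTensorEquivQuotSMul I 𝔪
        (TensorProduct.congr e.symm (LinearEquiv.refl P I) ((1 : κ) ⊗ₜ[P] k)) = _
      rw [TensorProduct.congr_tmul, he, LinearEquiv.refl_apply, map_one,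
        TensorProduct.quotTensorEquivQuotSMul_mk_one_tmul]
    rw [h, map_zero] at h1
    have h2 : k ∈ (𝔪 • ⊤ : Submodule P I) := (Submodule.Quotient.mk_eq_zero _).1 h1.symm
    rw [Submodule.mem_smul_top_iff] at h2
    exact h2
  · intro h
    have h2 : k ∈ (𝔪 • ⊤ : Submodule P I) := (Submodule.mem_smul_top_iff 𝔪 I k).2 h
    refine Submodule.smul_induction_on (p := fun x : I => (1 : κ) ⊗ₜ[P] x = 0) h2 ?_ ?_
    · intro m hm x _
      rw [← TensorProduct.smul_tmul, Algebra.smul_def, mul_one,
        (RingHom.mem_ker).1 hm, TensorProduct.zero_tmul]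
    · intro x y hx hy
      rw [TensorProduct.tmul_add, hx, hy, add_zero]

end Tensor

section Local

variable {R P C B : Type u} [CommRing R] [CommRing P] [CommRing C] [CommRing B]
  [Algebra R P] [Algebra R C] [Algebra R B] [Algebra P C] [Algebra C B] [Algebra P B]
  [IsScalarTower R P C] [IsScalarTower R P B] [IsScalarTower P C B]

/-- **core**: `C = P/K` local, `B = C/(r)` with `r` an `H₁`-regular sequence; if `B` is formally
smooth over `R` then so is `C`. -/
theorem formallySmooth_of_isH1Regular [IsLocalRing C] [IsLocalRing B]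
    [Algebra.FormallySmooth R P] [Module.Free P Ω[P⁄R]] [Module.Finite P Ω[P⁄R]]
    (hPC : Function.Surjective (algebraMap P C)) (hK : (RingHom.ker (algebraMap P C)).FG)
    (hCB : Function.Surjective (algebraMap C B))
    {c : ℕ} (r : Fin c → C) (hr : CAlgX.IsH1Regular r)
    (hker : RingHom.ker (algebraMap C B) = Ideal.span (Set.range r))
    [Algebra.FormallySmooth R B] : Algebra.FormallySmooth R C := by
  classical
  let κ := IsLocalRing.ResidueField B
  haveI : IsScalarTower P B κ := inferInstance
  haveI : IsScalarTower C B κ := inferInstance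
  haveI : IsScalarTower P C κ := by
    refine IsScalarTower.of_algebraMap_eq fun p => ?_
    rw [IsScalarTower.algebraMap_apply P B κ, IsScalarTower.algebraMap_apply C B κ,
      ← IsScalarTower.algebraMap_apply P C B]
  have hPB : Function.Surjective (algebraMap P B) := by
    rw [IsScalarTower.algebraMap_eq P C B]
    exact hCB.comp hPC
  have hPκ : Function.Surjective (algebraMap P κ) :=
    (IsLocalRing.residue_surjective (R := B)).comp hPB
  choose r' hr' using fun i => hPC (r i)
  have hrange : Set.range r = (algebraMap P C) '' (Set.range r') := by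
    rw [← Set.range_comp]
    congr 1
    funext i
    exact (hr' i).symm
  have hKB : RingHom.ker (algebraMap P B) =
      Ideal.span (Set.range r') ⊔ RingHom.ker (algebraMap P C) := by
    have h1 : RingHom.ker (algebraMap P B) =
        (RingHom.ker (algebraMap C B)).comap (algebraMap P C) := by
      rw [RingHom.comap_ker, IsScalarTower.algebraMap_eq P C B]
    rw [h1, hker, hrange, ← Ideal.map_span, Ideal.comap_map_of_surjective _ hPC]
    rfl
  have hKBfg : (RingHom.ker (algebraMap P B)).FG := by
    rw [hKB]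
    exact Submodule.FG.sup (Submodule.fg_span (Set.finite_range r')) hK
  have h3B : IsLocalRing.maximalIdeal B ≤ RingHom.ker (algebraMap B κ) := by
    intro x hx
    rw [RingHom.mem_ker]
    exact (IsLocalRing.residue_eq_zero_iff x).2 hx
  haveI : IsLocalHom (algebraMap C B) := IsLocalHom.of_surjective _ hCB
  have h3C : IsLocalRing.maximalIdeal C ≤ RingHom.ker (algebraMap C κ) := by
    intro x hx
    rw [RingHom.mem_ker, IsScalarTower.algebraMap_apply C B κ]
    refine (IsLocalRing.residue_eq_zero_iff _).2 ?_
    rw [IsLocalRing.mem_maximalIdeal, mem_nonunits_iff] at hx ⊢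
    exact fun h => hx (IsLocalHom.map_nonunit x h)
  have injB := (Algebra.FormallySmooth.iff_injective_cotangentComplexBaseChange (R := R) (S := B)
    P κ hPB hKBfg h3B).mp inferInstance
  rw [Algebra.FormallySmooth.iff_injective_cotangentComplexBaseChange (R := R) (S := C)
    P κ hPC hK h3C, injective_iff_map_eq_zero]
  intro z hz
  obtain ⟨k, rfl⟩ := exists_one_tmul hPκ z
  have hle : RingHom.ker (algebraMap P C) ≤ RingHom.ker (algebraMap P B) := by
    rw [hKB]
    exact le_sup_right
  have h1 : KaehlerDifferential.cotangentComplexBaseChange R B P κ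
      ((1 : κ) ⊗ₜ[P] (⟨k.1, hle k.2⟩ : RingHom.ker (algebraMap P B))) =
      KaehlerDifferential.cotangentComplexBaseChange R C P κ ((1 : κ) ⊗ₜ[P] k) := by
    rw [KaehlerDifferential.cotangentComplexBaseChange_tmul,
      KaehlerDifferential.cotangentComplexBaseChange_tmul]
  have h2 : (1 : κ) ⊗ₜ[P] (⟨k.1, hle k.2⟩ : RingHom.ker (algebraMap P B)) = 0 :=
    injB (by rw [h1, hz, map_zero])
  rw [one_tmul_eq_zero_iff hPκ] at h2 ⊢
  change k.1 ∈ RingHom.ker (algebraMap P κ) * RingHom.ker (algebraMap P B) at h2
  rw [hKB, Ideal.mul_sup] at h2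
  obtain ⟨x₂, hx₂, x₁, hx₁, hsum⟩ := Submodule.mem_sup.1 h2
  have hx₂K : x₂ ∈ RingHom.ker (algebraMap P C) := by
    have : x₂ = k.1 - x₁ := by rw [← hsum]; ring
    rw [this]
    exact Ideal.sub_mem _ k.2 (Ideal.mul_le_right hx₁)
  have hx₂J : x₂ ∈ Ideal.span (Set.range r') := Ideal.mul_le_right hx₂
  obtain ⟨a, rfl⟩ := (Ideal.mem_span_range_iff_exists_fun).1 hx₂J
  have hr'' : CAlgX.IsH1Regular (fun i => algebraMap P C (r' i)) := by
    have : (fun i => algebraMap P C (r' i)) = r := funext hr'
    rw [this]
    exact hr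
  have hmem := sum_mul_mem_of_isH1Regular hPC r' hr'' a hx₂K
  have hJ𝔪 : Ideal.span (Set.range r') ≤ RingHom.ker (algebraMap P κ) := by
    rw [Ideal.span_le]
    rintro _ ⟨i, rfl⟩
    change algebraMap P κ (r' i) = 0
    rw [IsScalarTower.algebraMap_apply P C κ, hr' i, IsScalarTower.algebraMap_apply C B κ]
    have : r i ∈ RingHom.ker (algebraMap C B) := by
      rw [hker]
      exact Ideal.subset_span ⟨i, rfl⟩
    rw [(RingHom.mem_ker).1 this, map_zero]
  change k.1 ∈ _
  rw [← hsum]
  exact Ideal.add_mem _ (Ideal.mul_mono_left hJ𝔪 hmem) hx₁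

end Local

section EssFP

variable {R P₀ C B : Type u} [CommRing R] [CommRing P₀] [CommRing C] [CommRing B]
  [Algebra R P₀] [Algebra R C] [Algebra P₀ C] [IsScalarTower R P₀ C]
  [Algebra R B] [Algebra C B] [IsScalarTower R C B]

/-- the same for `C` a local localization of a finitely presented `R`-algebra. -/
theorem formallySmooth_of_isH1Regular_of_isLocalization (M : Submonoid P₀) [IsLocalization M C]
    [Algebra.FinitePresentation R P₀] [IsLocalRing C] [IsLocalRing B]
    (hCB : Function.Surjective (algebraMap C B))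
    {c : ℕ} (r : Fin c → C) (hr : CAlgX.IsH1Regular r)
    (hker : RingHom.ker (algebraMap C B) = Ideal.span (Set.range r))
    [Algebra.FormallySmooth R B] : Algebra.FormallySmooth R C := by
  obtain ⟨n, f₀, hf₀⟩ := Algebra.FiniteType.iff_quotient_mvPolynomial''.mp
    (inferInstance : Algebra.FiniteType R P₀)
  let M' := M.comap f₀
  let P' := Localization M'
  let fP : P' →ₐ[R] C := IsLocalization.liftAlgHom (M := M')
      (f := (IsScalarTower.toAlgHom R P₀ C).comp f₀) fun x ↦ by
    simpa using IsLocalization.map_units (M := M) _ ⟨f₀ x.1, x.2⟩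
  have hf₁ : Function.Surjective fP := by
    intro x
    obtain ⟨x, ⟨s, hs⟩, rfl⟩ := IsLocalization.exists_mk'_eq M x
    obtain ⟨x, rfl⟩ := hf₀ x
    obtain ⟨s, rfl⟩ := hf₀ s
    refine ⟨IsLocalization.mk' (M := M') _ x ⟨s, hs⟩, ?_⟩
    simp [fP, IsLocalization.lift_mk', Units.mul_inv_eq_iff_eq_mul, IsUnit.liftRight]
  have hfP : (RingHom.ker fP).FG := by
    have := Algebra.FinitePresentation.ker_fG_of_surjective _ hf₀
    convert! this.map (algebraMap _ P')
    refine le_antisymm ?_ (Ideal.map_le_iff_le_comap.mpr fun x hx ↦ by simp_all [fP])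
    intro x hx
    obtain ⟨x, s, rfl⟩ := IsLocalization.exists_mk'_eq M' x
    obtain ⟨a, ha, e⟩ : ∃ a ∈ M, a * f₀ x = 0 := by
      simpa [fP, IsLocalization.lift_mk', IsLocalization.map_eq_zero_iff M] using hx
    obtain ⟨a, rfl⟩ := hf₀ a
    rw [IsLocalization.mk'_mem_map_algebraMap_iff]
    exact ⟨a, ha, by simpa⟩
  algebraize [fP.toRingHom]
  haveI : Algebra.FormallyEtale (MvPolynomial (Fin n) R) P' := .of_isLocalization M'
  haveI : Algebra.FormallySmooth R P' := .comp _ (MvPolynomial (Fin n) R) _
  haveI : Module.Free P' Ω[P'⁄R] :=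
    .of_equiv (KaehlerDifferential.tensorKaehlerEquivOfFormallyEtale R (MvPolynomial (Fin n) R) P')
  haveI : Module.Finite P' Ω[P'⁄R] :=
    .equiv (KaehlerDifferential.tensorKaehlerEquivOfFormallyEtale R (MvPolynomial (Fin n) R) P')
  letI algP'B : Algebra P' B := ((algebraMap C B).comp (algebraMap P' C)).toAlgebra
  haveI : IsScalarTower P' C B := IsScalarTower.of_algebraMap_eq' rfl
  have htw : algebraMap R B = (algebraMap P' B).comp (algebraMap R P') := by
    refine RingHom.ext fun a => ?_
    change algebraMap R B a = algebraMap C B (algebraMap P' C (algebraMap R P' a))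
    rw [← IsScalarTower.algebraMap_apply R P' C, ← IsScalarTower.algebraMap_apply R C B]
  haveI : IsScalarTower R P' B := IsScalarTower.of_algebraMap_eq' htw
  exact formallySmooth_of_isH1Regular (R := R) (P := P') (C := C) (B := B) hf₁ hfP hCB r hr hker

end EssFP

section Chart

/-- **chart form**: `C` finitely presented over `A`, `B = C/(rs)` with `rs` Koszul-regular; if `B`
is smooth over `A` at a prime `q` then `C` is smooth over `A` at the preimage of `q`. -/
theorem isSmoothAt_comap_of_isKoszulRegularSeq
    {A C B : Type u} [CommRing A] [CommRing C] [CommRing B] [Algebra A C] [Algebra C B]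
    [Algebra A B] [IsScalarTower A C B] [Algebra.FinitePresentation A C]
    (hsurj : Function.Surjective (algebraMap C B))
    (rs : List C) (hrs : LCI.IsKoszulRegularSeq C rs)
    (hker : RingHom.ker (algebraMap C B) = Ideal.ofList rs)
    (q : Ideal B) [q.IsPrime] (hq : Algebra.IsSmoothAt A q) :
    haveI : (q.comap (algebraMap C B)).IsPrime := Ideal.comap_isPrime _ _
    Algebra.IsSmoothAt A (q.comap (algebraMap C B)) := by
  let q' : Ideal C := q.comap (algebraMap C B)
  haveI : q'.IsPrime := Ideal.comap_isPrime _ _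
  let lr : Localization.AtPrime q' →+* Localization.AtPrime q :=
    Localization.localRingHom q' q (algebraMap C B) rfl
  letI algCB : Algebra (Localization.AtPrime q') (Localization.AtPrime q) := lr.toAlgebra
  haveI tw : IsScalarTower A (Localization.AtPrime q') (Localization.AtPrime q) := by
    refine IsScalarTower.of_algebraMap_eq fun a => ?_
    rw [IsScalarTower.algebraMap_apply A C (Localization.AtPrime q'),
      IsScalarTower.algebraMap_apply A B (Localization.AtPrime q),
      IsScalarTower.algebraMap_apply A C B]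
    exact (Localization.localRingHom_to_map q' q (algebraMap C B) rfl _).symm
  have hsurj' : Function.Surjective
      (algebraMap (Localization.AtPrime q') (Localization.AtPrime q)) :=
    (RingHom.surjectiveOnStalks_of_surjective hsurj).localRingHom_surjective q' q rfl
  have hT : Submonoid.map (algebraMap C B) q'.primeCompl = q.primeCompl := by
    ext b
    constructor
    · rintro ⟨c, hc, rfl⟩
      exact hc
    · intro hb
      obtain ⟨c, rfl⟩ := hsurj b
      exact ⟨c, hb, rfl⟩
  set l := rs.map (algebraMap C (Localization.AtPrime q')) with hl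
  have hker' : RingHom.ker (algebraMap (Localization.AtPrime q') (Localization.AtPrime q)) =
      Ideal.span (Set.range l.get) := by
    have := IsLocalization.ker_map (S := Localization.AtPrime q') (M := q'.primeCompl)
      (T := q.primeCompl) (Localization.AtPrime q) (algebraMap C B) hT
    rw [Set.range_list_get]
    change _ = Ideal.ofList l
    rw [hl, ← Ideal.map_ofList, ← hker]
    exact this
  have hrs' : LCI.IsKoszulRegularSeq (Localization.AtPrime q') l :=
    Groth.Agent.H4.KosBC.isKoszulRegularSeq_map rs hrs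
  have hH1 := Groth.Agent.H4.KosLow.isH1Regular_of_isKoszulRegularSeq l hrs'
  haveI : Algebra.FormallySmooth A (Localization.AtPrime q) := hq
  exact formallySmooth_of_isH1Regular_of_isLocalization (R := A) (P₀ := C)
    (C := Localization.AtPrime q') (B := Localization.AtPrime q) q'.primeCompl hsurj'
    l.get hH1 hker'

end Chart

end Groth.Agent.H3.RegSm
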