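import Mathlib
import Groth.Agent.Lib.Helper3.RegSmAlg
import Groth.Agent.Lib.Helper3.LciSmSch
import Groth.Agent.Lib.Helper3.JacLocus
import Groth.Agent.Lib.Helper1.RegImmersion

/-! A scheme containing a smooth closed subscheme cut out by a regular sequence is smooth near it. -/

set_option autoImplicit false
set_option linter.style.haveILetI false
universe u
open CategoryTheory AlgebraicGeometry TensorProduct

namespace Groth.Agent.H3.RegSm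

/-- **EGA IV 17.12.1 c) ⇒ a), closed immersion case.** -/
theorem smooth_nhd_of_koszulRegular {X Y S : Scheme.{u}} (f : X ⟶ S) (h : Y ⟶ S)
    [LocallyOfFinitePresentation f] [LocallyOfFinitePresentation h] (j : Y ⟶ X)
    [IsClosedImmersion j] (hj : j ≫ f = h) (y : Y)
    (hy : ∃ V : Y.Opens, y ∈ V ∧ Smooth (V.ι ≫ h))
    (U : X.Opens) (hU : IsAffineOpen U) (hxU : j y ∈ U) (rs : List Γ(X, U))
    (hrs : LCI.IsKoszulRegularSeq Γ(X, U) rs)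
    (hker : RingHom.ker (j.app U).hom = Ideal.ofList rs) :
    ∃ U : X.Opens, j y ∈ U ∧ Smooth (U.ι ≫ f) := by
  obtain ⟨V₁, hV₁, hmem, -⟩ :=
    exists_isAffineOpen_mem_and_subset (x := f (j y)) (U := ⊤) trivial
  obtain ⟨g, hgle, hxg⟩ := hU.exists_basicOpen_le (V := f ⁻¹ᵁ V₁) ⟨j y, hmem⟩ hxU
  have hcl : IsClosedImmersion (j ∣_ U) := inferInstance
  obtain ⟨hW, hclW, rs', -, hrs', hker'⟩ :=
    Groth.Agent.H3.LciSm.chart_basicOpen j U hU hcl rs hrs hker g (X.basicOpen g) rfl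
  generalize hWdef : X.basicOpen g = W at hW hclW rs' hrs' hker' hgle hxg
  haveI := hclW
  obtain ⟨hYW, hsurj⟩ :=
    Groth.Agent.H1.RegImmersion.affine_and_surjective_of_isClosedImmersion_restrict j W hW
  have e : W ≤ f ⁻¹ᵁ V₁ := hgle
  have e' : j ⁻¹ᵁ W ≤ h ⁻¹ᵁ V₁ := by
    intro z hz
    show h z ∈ V₁
    rw [← hj, Scheme.Hom.comp_apply]
    exact e hz
  have hyW : y ∈ j ⁻¹ᵁ W := hxg
  have hcompat : f.appLE V₁ W e ≫ j.app W = h.appLE V₁ (j ⁻¹ᵁ W) e' := by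
    have h1 : f.appLE V₁ W e ≫ j.app W = (j ≫ f).appLE V₁ (j ⁻¹ᵁ W) (fun z hz => e hz) := by
      rw [Scheme.Hom.app_eq_appLE, Scheme.Hom.appLE_comp_appLE]
    rw [h1]
    exact Groth.Agent.H3.JacLocus.appLE_eq_of_eq hj V₁ _ _ _
  letI algAC : Algebra Γ(S, V₁) Γ(X, W) := (f.appLE V₁ W e).hom.toAlgebra
  letI algAB : Algebra Γ(S, V₁) Γ(Y, j ⁻¹ᵁ W) := (h.appLE V₁ (j ⁻¹ᵁ W) e').hom.toAlgebra
  letI algCB : Algebra Γ(X, W) Γ(Y, j ⁻¹ᵁ W) := (j.app W).hom.toAlgebra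
  haveI tw : IsScalarTower Γ(S, V₁) Γ(X, W) Γ(Y, j ⁻¹ᵁ W) := by
    refine IsScalarTower.of_algebraMap_eq' ?_
    ext t
    exact (congr($(hcompat).hom t)).symm
  haveI : Algebra.FinitePresentation Γ(S, V₁) Γ(X, W) :=
    HasRingHomProperty.appLE @LocallyOfFinitePresentation f inferInstance ⟨V₁, hV₁⟩ ⟨W, hW⟩ e
  have hsmY : (h.stalkMap y).hom.FormallySmooth :=
    (Groth.Agent.H3.LciSm.exists_smooth_nhd_iff_lfp h y).1 hy
  rw [formallySmooth_stalkMap_iff V₁ hV₁ (j ⁻¹ᵁ W) hYW e' hyW] at hsmY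
  have hsurj' : Function.Surjective (algebraMap Γ(X, W) Γ(Y, j ⁻¹ᵁ W)) := hsurj
  have hkerW : RingHom.ker (algebraMap Γ(X, W) Γ(Y, j ⁻¹ᵁ W)) = Ideal.ofList rs' := hker'
  have key := isSmoothAt_comap_of_isKoszulRegularSeq (A := Γ(S, V₁)) (C := Γ(X, W))
    (B := Γ(Y, j ⁻¹ᵁ W)) hsurj' rs' hrs' hkerW (hYW.primeIdealOf ⟨y, hyW⟩).asIdeal hsmY
  have hcomap : (hYW.primeIdealOf ⟨y, hyW⟩).asIdeal.comap (algebraMap Γ(X, W) Γ(Y, j ⁻¹ᵁ W)) =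
      (hW.primeIdealOf ⟨j y, hxg⟩).asIdeal := by
    have h1 := IsAffineOpen.comap_primeIdealOf_appLE (f := j) W hW (j ⁻¹ᵁ W) hYW le_rfl hyW
    have h2 : j.appLE W (j ⁻¹ᵁ W) le_rfl = j.app W := (Scheme.Hom.app_eq_appLE j).symm
    rw [h2] at h1
    exact congrArg PrimeSpectrum.asIdeal h1
  rw [Groth.Agent.H3.LciSm.exists_smooth_nhd_iff_lfp f (j y),
    formallySmooth_stalkMap_iff V₁ hV₁ W hW e hxg]
  change Algebra.IsSmoothAt Γ(S, V₁) (hW.primeIdealOf ⟨j y, hxg⟩).asIdeal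
  have hgen : ∀ (p₁ p₂ : Ideal Γ(X, W)) [p₁.IsPrime] [p₂.IsPrime], p₁ = p₂ →
      Algebra.IsSmoothAt Γ(S, V₁) p₁ → Algebra.IsSmoothAt Γ(S, V₁) p₂ := by
    intro p₁ p₂ _ _ hp hsm
    subst hp
    exact hsm
  haveI : ((hYW.primeIdealOf ⟨y, hyW⟩).asIdeal.comap
      (algebraMap Γ(X, W) Γ(Y, j ⁻¹ᵁ W))).IsPrime := Ideal.comap_isPrime _ _
  exact hgen _ _ hcomap key

end Groth.Agent.H3.RegSm
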