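import Mathlib
import Groth.Prelude.Def_CInt
import Groth.Agent.Lib.Helper3.RegSmAlg
import Groth.Agent.Lib.Helper3.LciSmSch
import Groth.Agent.Lib.Helper8.KosQuot.Imm
import Groth.Agent.Lib.Helper8.KosBCImm.Ideal
import Groth.Agent.Lib.Helper2.H1Reg1
import Groth.Agent.Lib.Helper2.QuasiReg3
import Groth.Agent.Lib.Helper1.RegImmersion

/-! SGA 1 II 4.10 / EGA IV 17.12.1: for a closed subscheme `Y ⊆ X` smooth over `S` at `x`,
`X` is smooth at `x` iff the ideal of `Y` in `O_{X,x}` is generated by a regular sequence. -/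

set_option autoImplicit false
set_option linter.style.haveILetI false
universe u
open CategoryTheory AlgebraicGeometry TensorProduct

namespace Groth.Agent.H3.RegSm

/-- **regular ⇒ smooth.** -/
theorem mem_smoothLocus_of_isRegularIdeal {X Y S : Scheme.{u}} (f : X ⟶ S)
    [LocallyOfFinitePresentation f] (j : Y ⟶ X) [IsClosedImmersion j]
    [LocallyOfFinitePresentation (j ≫ f)] (x : Y)
    (hY : x ∈ (j ≫ f).smoothLocus)
    (hreg : CInt.IsRegularIdeal (RingHom.ker (j.stalkMap x).hom)) :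
    j x ∈ f.smoothLocus := by
  obtain ⟨rs, hrs, hgen⟩ := hreg
  rw [Scheme.Hom.mem_smoothLocus] at hY ⊢
  obtain ⟨V, hV, hmem, -⟩ :=
    exists_isAffineOpen_mem_and_subset (x := f (j x)) (U := ⊤) trivial
  obtain ⟨U, hU, hxU, e⟩ :=
    exists_isAffineOpen_mem_and_subset (x := j x) (U := f ⁻¹ᵁ V) hmem
  have hW : IsAffineOpen (j ⁻¹ᵁ U) := hU.preimage j
  have hxW : x ∈ j ⁻¹ᵁ U := hxU
  have e' : j ⁻¹ᵁ U ≤ (j ≫ f) ⁻¹ᵁ V := fun z hz => e hz
  have hcompat : f.appLE V U e ≫ j.app U =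
      (j ≫ f).appLE V (j ⁻¹ᵁ U) e' := by
    rw [Scheme.Hom.app_eq_appLE, Scheme.Hom.appLE_comp_appLE]
  letI algRP : Algebra Γ(S, V) Γ(X, U) := (f.appLE V U e).hom.toAlgebra
  letI algPC : Algebra Γ(X, U) (X.presheaf.stalk (j x)) :=
    X.presheaf.algebra_section_stalk ⟨j x, hxU⟩
  haveI locC : IsLocalization.AtPrime (X.presheaf.stalk (j x))
      (hU.primeIdealOf ⟨j x, hxU⟩).asIdeal :=
    hU.isLocalization_stalk ⟨j x, hxU⟩
  letI algRC : Algebra Γ(S, V) (X.presheaf.stalk (j x)) :=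
    ((algebraMap Γ(X, U) (X.presheaf.stalk (j x))).comp
      (algebraMap Γ(S, V) Γ(X, U))).toAlgebra
  haveI tw1 : IsScalarTower Γ(S, V) Γ(X, U) (X.presheaf.stalk (j x)) :=
    IsScalarTower.of_algebraMap_eq' rfl
  letI algCB : Algebra (X.presheaf.stalk (j x)) (Y.presheaf.stalk x) :=
    (j.stalkMap x).hom.toAlgebra
  letI algRB : Algebra Γ(S, V) (Y.presheaf.stalk x) :=
    ((algebraMap (X.presheaf.stalk (j x)) (Y.presheaf.stalk x)).comp
      (algebraMap Γ(S, V) (X.presheaf.stalk (j x)))).toAlgebra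
  haveI tw2 : IsScalarTower Γ(S, V) (X.presheaf.stalk (j x))
      (Y.presheaf.stalk x) := IsScalarTower.of_algebraMap_eq' rfl
  haveI : Algebra.FinitePresentation Γ(S, V) Γ(X, U) :=
    HasRingHomProperty.appLE @LocallyOfFinitePresentation f inferInstance ⟨V, hV⟩ ⟨U, hU⟩ e
  -- the algebra structures on the `Y`-side
  letI algRQ : Algebra Γ(S, V) Γ(Y, j ⁻¹ᵁ U) :=
    ((j ≫ f).appLE V (j ⁻¹ᵁ U) e').hom.toAlgebra
  letI algQB : Algebra Γ(Y, j ⁻¹ᵁ U) (Y.presheaf.stalk x) :=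
    Y.presheaf.algebra_section_stalk ⟨x, hxW⟩
  haveI locB : IsLocalization.AtPrime (Y.presheaf.stalk x)
      (hW.primeIdealOf ⟨x, hxW⟩).asIdeal := hW.isLocalization_stalk ⟨x, hxW⟩
  haveI tw3 : IsScalarTower Γ(S, V) Γ(Y, j ⁻¹ᵁ U)
      (Y.presheaf.stalk x) := by
    refine IsScalarTower.of_algebraMap_eq' (RingHom.ext fun a => ?_)
    change (j.stalkMap x).hom ((X.presheaf.germ U (j x) hxU).hom
        ((f.appLE V U e).hom a)) =
      (Y.presheaf.germ (j ⁻¹ᵁ U) x hxW).hom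
        (((j ≫ f).appLE V (j ⁻¹ᵁ U) e').hom a)
    rw [← hcompat]
    have h1 := Scheme.Hom.germ_stalkMap j U x hxU
    exact congr($(h1).hom ((f.appLE V U e).hom a))
  -- formal smoothness of the `Y`-stalk over `Γ(S, V)`
  have hsmY := (formallySmooth_stalkMap_iff V hV (j ⁻¹ᵁ U) hW e' hxW).mp hY
  haveI : Algebra.FormallySmooth Γ(S, V)
      (Localization.AtPrime (hW.primeIdealOf ⟨x, hxW⟩).asIdeal) := hsmY
  haveI fsB : Algebra.FormallySmooth Γ(S, V) (Y.presheaf.stalk x) :=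
    Algebra.FormallySmooth.of_equiv
      ((IsLocalization.algEquiv (hW.primeIdealOf ⟨x, hxW⟩).asIdeal.primeCompl
        (Localization.AtPrime (hW.primeIdealOf ⟨x, hxW⟩).asIdeal)
        (Y.presheaf.stalk x)).restrictScalars Γ(S, V))
  have hCB : Function.Surjective
      (algebraMap (X.presheaf.stalk (j x)) (Y.presheaf.stalk x)) :=
    j.stalkMap_surjective x
  have hK : LCI.IsKoszulRegularSeq (X.presheaf.stalk (j x)) rs :=
    isKoszulRegularSeq_of_isWeaklyRegular rs hrs.toIsWeaklyRegular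
  have hH1 := Groth.Agent.H4.KosLow.isH1Regular_of_isKoszulRegularSeq rs hK
  have hker : RingHom.ker
      (algebraMap (X.presheaf.stalk (j x)) (Y.presheaf.stalk x)) =
      Ideal.span (Set.range rs.get) := by
    rw [Set.range_list_get]
    exact hgen.symm
  have key := formallySmooth_of_isH1Regular_of_isLocalization (R := Γ(S, V)) (P₀ := Γ(X, U))
    (C := X.presheaf.stalk (j x)) (B := Y.presheaf.stalk x)
    (hU.primeIdealOf ⟨j x, hxU⟩).asIdeal.primeCompl hCB rs.get hH1 hker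
  rw [formallySmooth_stalkMap_iff V hV U hU e hxU]
  change Algebra.FormallySmooth Γ(S, V)
    (Localization.AtPrime (hU.primeIdealOf ⟨j x, hxU⟩).asIdeal)
  exact Algebra.FormallySmooth.of_equiv
    ((IsLocalization.algEquiv (hU.primeIdealOf ⟨j x, hxU⟩).asIdeal.primeCompl
      (X.presheaf.stalk (j x))
      (Localization.AtPrime (hU.primeIdealOf ⟨j x, hxU⟩).asIdeal)).restrictScalars
        Γ(S, V))

/-- **smooth ⇒ regular** (locally Noetherian ambient scheme). -/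
theorem isRegularIdeal_of_mem_smoothLocus {X Y S : Scheme.{u}} [IsLocallyNoetherian X]
    (f : X ⟶ S) [LocallyOfFinitePresentation f] (j : Y ⟶ X) [IsClosedImmersion j]
    [LocallyOfFinitePresentation (j ≫ f)] (y : Y)
    (hY : y ∈ (j ≫ f).smoothLocus) (hX : j y ∈ f.smoothLocus) :
    CInt.IsRegularIdeal (RingHom.ker (j.stalkMap y).hom) := by
  rw [Scheme.Hom.mem_smoothLocus] at hY hX
  obtain ⟨V, hV, U₁, hU₁, e₁, hxU₁, hsm₁⟩ := exists_smooth_of_formallySmooth_stalk f (j y) hX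
  have hW₁ : IsAffineOpen (j ⁻¹ᵁ U₁) := hU₁.preimage j
  have hyW₁ : y ∈ j ⁻¹ᵁ U₁ := hxU₁
  have e₁' : j ⁻¹ᵁ U₁ ≤ (j ≫ f) ⁻¹ᵁ V := fun z hz => e₁ hz
  -- a smaller chart on which `Y` is smooth as well
  obtain ⟨r', hr'q, hsmB⟩ : ∃ r' : Γ(X, U₁), j y ∈ X.basicOpen r' ∧
      ∀ (e₂' : j ⁻¹ᵁ X.basicOpen r' ≤ (j ≫ f) ⁻¹ᵁ V),
        ((j ≫ f).appLE V (j ⁻¹ᵁ X.basicOpen r') e₂').hom.Smooth := by
    letI algAB₁ : Algebra Γ(S, V) Γ(Y, j ⁻¹ᵁ U₁) :=
      ((j ≫ f).appLE V (j ⁻¹ᵁ U₁) e₁').hom.toAlgebra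
    haveI : Algebra.FinitePresentation Γ(S, V) Γ(Y, j ⁻¹ᵁ U₁) :=
      HasRingHomProperty.appLE @LocallyOfFinitePresentation (j ≫ f) inferInstance ⟨V, hV⟩
        ⟨_, hW₁⟩ e₁'
    have hq := (formallySmooth_stalkMap_iff V hV (j ⁻¹ᵁ U₁) hW₁ e₁' hyW₁).mp hY
    haveI : Algebra.IsSmoothAt Γ(S, V) (hW₁.primeIdealOf ⟨y, hyW₁⟩).asIdeal := hq
    obtain ⟨r, hrq, hr⟩ := Algebra.IsSmoothAt.exists_notMem_smooth Γ(S, V)
      (hW₁.primeIdealOf ⟨y, hyW₁⟩).asIdeal
    obtain ⟨r', rfl⟩ := j.app_surjective U₁ hU₁ r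
    refine ⟨r', ?_, fun e₂' => ?_⟩
    · have h1 : y ∈ Y.basicOpen ((j.app U₁).hom r') :=
        (Y.mem_basicOpen _ y hyW₁).mpr
          (Groth.Agent.LD.QC.isUnit_germ_of_notMem hW₁ y hyW₁ _ hrq)
      rw [← Scheme.preimage_basicOpen] at h1
      exact h1
    · have hpre : j ⁻¹ᵁ X.basicOpen r' = Y.basicOpen ((j.app U₁).hom r') :=
        Scheme.preimage_basicOpen j r'
      have hle : j ⁻¹ᵁ X.basicOpen r' ≤ j ⁻¹ᵁ U₁ := fun z hz => X.basicOpen_le r' hz
      letI alg2 : Algebra Γ(Y, j ⁻¹ᵁ U₁) Γ(Y, j ⁻¹ᵁ X.basicOpen r') :=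
        (Y.presheaf.map (homOfLE hle).op).hom.toAlgebra
      haveI : IsLocalization.Away ((j.app U₁).hom r') Γ(Y, j ⁻¹ᵁ X.basicOpen r') :=
        hW₁.isLocalization_of_eq_basicOpen _ (homOfLE hle) hpre
      have h2 : (j ≫ f).appLE V (j ⁻¹ᵁ X.basicOpen r') e₂' =
          (j ≫ f).appLE V (j ⁻¹ᵁ U₁) e₁' ≫ Y.presheaf.map (homOfLE hle).op :=
        (Scheme.Hom.appLE_map (j ≫ f) e₁' (homOfLE hle).op).symm
      rw [h2, CommRingCat.hom_comp]
      letI algAB₂ : Algebra Γ(S, V) Γ(Y, j ⁻¹ᵁ X.basicOpen r') :=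
        ((Y.presheaf.map (homOfLE hle).op).hom.comp
          ((j ≫ f).appLE V (j ⁻¹ᵁ U₁) e₁').hom).toAlgebra
      haveI : IsScalarTower Γ(S, V) Γ(Y, j ⁻¹ᵁ U₁) Γ(Y, j ⁻¹ᵁ X.basicOpen r') :=
        IsScalarTower.of_algebraMap_eq' rfl
      let ε : Localization.Away ((j.app U₁).hom r') ≃ₐ[Γ(Y, j ⁻¹ᵁ U₁)]
          Γ(Y, j ⁻¹ᵁ X.basicOpen r') :=
        IsLocalization.algEquiv (Submonoid.powers ((j.app U₁).hom r')) _ _
      have h3 : Algebra.Smooth Γ(S, V) Γ(Y, j ⁻¹ᵁ X.basicOpen r') :=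
        Algebra.Smooth.of_equiv (ε.restrictScalars Γ(S, V))
      exact h3
  have hU₂ : IsAffineOpen (X.basicOpen r') := hU₁.basicOpen r'
  have e₂ : X.basicOpen r' ≤ f ⁻¹ᵁ V := (X.basicOpen_le r').trans e₁
  have hsm₂ : (f.appLE V (X.basicOpen r') e₂).hom.Smooth := by
    have h1 : f.appLE V (X.basicOpen r') e₂ =
        f.appLE V U₁ e₁ ≫ X.presheaf.map (homOfLE (X.basicOpen_le r')).op :=
      (Scheme.Hom.appLE_map f e₁ (homOfLE (X.basicOpen_le r')).op).symm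
    rw [h1, CommRingCat.hom_comp]
    letI := (X.presheaf.map (homOfLE (X.basicOpen_le r')).op).hom.toAlgebra
    haveI : IsLocalization.Away r' Γ(X, X.basicOpen r') := hU₁.isLocalization_basicOpen r'
    exact RingHom.Smooth.propertyIsLocal.StableUnderCompositionWithLocalizationAwayTarget
      Γ(X, X.basicOpen r') r' _ hsm₁
  generalize X.basicOpen r' = U₂ at hr'q hsmB hU₂ e₂ hsm₂
  have hW₂ : IsAffineOpen (j ⁻¹ᵁ U₂) := hU₂.preimage j
  have e₂' : j ⁻¹ᵁ U₂ ≤ (j ≫ f) ⁻¹ᵁ V := fun z hz => e₂ hz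
  have hcompat : f.appLE V U₂ e₂ ≫ j.app U₂ = (j ≫ f).appLE V (j ⁻¹ᵁ U₂) e₂' := by
    rw [Scheme.Hom.app_eq_appLE, Scheme.Hom.appLE_comp_appLE]
  have hψsurj : Function.Surjective (j.app U₂).hom := j.app_surjective U₂ hU₂
  have hLCI : Groth.Agent.H8.LCIHom.IsLCIHom ((j.app U₂).hom.comp (f.appLE V U₂ e₂).hom) := by
    have h1 : (j.app U₂).hom.comp (f.appLE V U₂ e₂).hom =
        ((j ≫ f).appLE V (j ⁻¹ᵁ U₂) e₂').hom := by
      rw [← hcompat]
      rfl
    rw [h1]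
    exact Groth.Agent.H8.LCIHom.isLCIHom_of_smooth _ (hsmB e₂')
  have hK := Groth.Agent.H8.KosQuot.isKoszulRegularIdeal_ker_of_smooth_of_isLCIHom
    (f.appLE V U₂ e₂).hom (j.app U₂).hom hsm₂ hψsurj hLCI
  have hle := Groth.Agent.H8.KosBCImm.ker_le_primeIdealOf j U₂ hU₂ inferInstance y hr'q
  obtain ⟨g, hg, l, hl, hgen⟩ := hK (hU₂.primeIdealOf ⟨j y, hr'q⟩) hle
  -- pass to the stalk
  letI algPC : Algebra Γ(X, U₂) (X.presheaf.stalk (j y)) :=
    X.presheaf.algebra_section_stalk ⟨j y, hr'q⟩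
  haveI locC : IsLocalization.AtPrime (X.presheaf.stalk (j y))
      (hU₂.primeIdealOf ⟨j y, hr'q⟩).asIdeal := hU₂.isLocalization_stalk ⟨j y, hr'q⟩
  have hgu : IsUnit (algebraMap Γ(X, U₂) (X.presheaf.stalk (j y)) g) :=
    IsLocalization.map_units (X.presheaf.stalk (j y))
      (⟨g, hg⟩ : (hU₂.primeIdealOf ⟨j y, hr'q⟩).asIdeal.primeCompl)
  letI algLC : Algebra (Localization.Away g) (X.presheaf.stalk (j y)) :=
    (IsLocalization.Away.lift g hgu).toAlgebra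
  haveI twL : IsScalarTower Γ(X, U₂) (Localization.Away g) (X.presheaf.stalk (j y)) :=
    IsScalarTower.of_algebraMap_eq' (IsLocalization.Away.lift_comp g hgu).symm
  have hpow : Submonoid.powers g ≤ (hU₂.primeIdealOf ⟨j y, hr'q⟩).asIdeal.primeCompl := by
    rw [Submonoid.powers_le]
    exact hg
  haveI locL : IsLocalization (Submonoid.map (algebraMap Γ(X, U₂) (Localization.Away g))
      (hU₂.primeIdealOf ⟨j y, hr'q⟩).asIdeal.primeCompl) (X.presheaf.stalk (j y)) :=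
    IsLocalization.isLocalization_of_submonoid_le (Localization.Away g)
      (X.presheaf.stalk (j y)) (Submonoid.powers g) _ hpow
  haveI flatL : Module.Flat (Localization.Away g) (X.presheaf.stalk (j y)) :=
    IsLocalization.flat (X.presheaf.stalk (j y)) (Submonoid.map
      (algebraMap Γ(X, U₂) (Localization.Away g))
      (hU₂.primeIdealOf ⟨j y, hr'q⟩).asIdeal.primeCompl)
  have hl' : LCI.IsKoszulRegularSeq (X.presheaf.stalk (j y))
      (l.map (algebraMap (Localization.Away g) (X.presheaf.stalk (j y)))) :=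
    Groth.Agent.H4.KosBC.isKoszulRegularSeq_map l hl
  have hkerC : RingHom.ker (j.stalkMap y).hom =
      Ideal.ofList (l.map (algebraMap (Localization.Away g) (X.presheaf.stalk (j y)))) := by
    rw [Groth.Agent.H1.RegImmersion.ker_stalkMap_of_app_surjective j U₂ hU₂ hW₂ hψsurj y hr'q]
    change (RingHom.ker (j.app U₂).hom).map (algebraMap Γ(X, U₂) (X.presheaf.stalk (j y))) = _
    rw [IsScalarTower.algebraMap_eq Γ(X, U₂) (Localization.Away g) (X.presheaf.stalk (j y)),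
      ← Ideal.map_map, hgen]
    change Ideal.map _ (Ideal.ofList l) = _
    rw [Ideal.map_ofList]
  generalize l.map (algebraMap (Localization.Away g) (X.presheaf.stalk (j y))) = l' at hl' hkerC
  have hproper : RingHom.ker (j.stalkMap y).hom ≠ ⊤ := RingHom.ker_ne_top _
  have hmem : ∀ i, l'.get i ∈ Ideal.jacobson (⊥ : Ideal (X.presheaf.stalk (j y))) := by
    intro i
    rw [IsLocalRing.jacobson_eq_maximalIdeal ⊥ bot_ne_top]
    refine IsLocalRing.le_maximalIdeal hproper ?_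
    rw [hkerC]
    exact Ideal.subset_span (List.get_mem l' i)
  have hH1 := Groth.Agent.H4.KosLow.isH1Regular_of_isKoszulRegularSeq l' hl'
  have hq := ((Groth.Agent.H2.H1Reg.h1_iff l'.get).mp hH1).qReg
  have hw := Groth.Agent.H2.QuasiReg.isWeaklyRegular_of_qReg l'.length
    (X.presheaf.stalk (j y)) l'.get hmem hq
  rw [List.ofFn_get] at hw
  refine ⟨l', ⟨hw, ?_⟩, hkerC.symm⟩
  rw [smul_eq_mul, Ideal.mul_top, ← hkerC]
  exact hproper.symm

end Groth.Agent.H3.RegSm
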