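import Mathlib
import Groth.Prelude.Def_W4sga3iivvp2RelPsh

/-!
# Sheaf condition for the relative presheaf on `Over S`
-/

set_option autoImplicit false

open CategoryTheory Opposite

universe v₁ u₁

namespace Groth.Agent.H3.RelPshSheaf

open ShfCat

variable {C : Type u₁} [Category.{v₁} C] (J : GrothendieckTopology C) {S : C}
  {F : Cᵒᵖ ⥤ Type v₁} (φ : F ⟶ yoneda.obj S)

lemma phi_map {T T' : C} (g : T' ⟶ T) (x : F.obj (op T)) :
    φ.app (op T') (F.map g.op x) = g ≫ φ.app (op T) x := by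
  rw [NatTrans.naturality_apply φ g.op x]
  rfl

lemma relPsh_ext {Y : Over S} (τ₁ τ₂ : (relPsh φ).obj (op Y)) (h : τ₁.1 = τ₂.1) : τ₁ = τ₂ :=
  Subtype.ext h

/-- `F` separated implies `relPsh φ` separated. -/
theorem isSeparated_relPsh (hF : Presieve.IsSeparated J F) :
    Presieve.IsSeparated (J.over S) (relPsh φ) := by
  intro Y R' hR' x' τ₁ τ₂ h₁ h₂
  apply relPsh_ext
  rw [GrothendieckTopology.mem_over_iff] at hR'
  apply (hF _ hR').ext
  intro Z f hf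
  rw [Sieve.overEquiv_iff] at hf
  have e₁ := congrArg Subtype.val (h₁ _ hf)
  have e₂ := congrArg Subtype.val (h₂ _ hf)
  exact e₁.trans e₂.symm


variable {J φ} in
/-- two sections of `F` agreeing on a covering sieve have the same image in `h_S` -/
lemma phi_eq_of_agree (hS : Presieve.IsSheaf J (yoneda.obj S)) {T : C} (R : Sieve T) (hR : R ∈ J T)
    (s₁ s₂ : T ⟶ S) (h : ∀ ⦃Z : C⦄ (g : Z ⟶ T), R g → g ≫ s₁ = g ≫ s₂) : s₁ = s₂ :=
  (hS.isSeparated R hR).ext (t₁ := s₁) (t₂ := s₂) (fun _ g hg => h g hg)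

/-- `relPsh φ` separated implies `F` separated. -/
theorem isSeparated_of_relPsh (hS : Presieve.IsSheaf J (yoneda.obj S))
    (h : Presieve.IsSeparated (J.over S) (relPsh φ)) : Presieve.IsSeparated J F := by
  intro T R hR x t₁ t₂ h₁ h₂
  have hs : φ.app (op T) t₂ = φ.app (op T) t₁ := by
    apply phi_eq_of_agree hS R hR
    intro Z g hg
    rw [← phi_map, ← phi_map, h₁ g hg, h₂ g hg]
  let Y : Over S := Over.mk (φ.app (op T) t₁)
  let τ₁ : (relPsh φ).obj (op Y) := ⟨t₁, rfl⟩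
  let τ₂ : (relPsh φ).obj (op Y) := ⟨t₂, hs⟩
  have hR' : (Sieve.overEquiv Y).symm R ∈ J.over S Y := by
    rw [GrothendieckTopology.mem_over_iff, OrderIso.apply_symm_apply]
    exact hR
  have key : τ₁ = τ₂ := by
    apply (h _ hR').ext
    intro Z g hg
    rw [Sieve.overEquiv_symm_iff] at hg
    apply relPsh_ext
    change F.map g.left.op t₁ = F.map g.left.op t₂
    rw [h₁ _ hg, h₂ _ hg]
  exact congrArg Subtype.val key


/-- `F` a sheaf implies `relPsh φ` a sheaf. -/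
theorem isSheaf_relPsh (hS : Presieve.IsSheaf J (yoneda.obj S)) (hF : Presieve.IsSheaf J F) :
    Presieve.IsSheaf (J.over S) (relPsh φ) := by
  apply (isSeparated_relPsh J φ hF.isSeparated).isSheaf
  intro Y R' hR' x' hx'
  have hR : Sieve.overEquiv Y R' ∈ J Y.left := (GrothendieckTopology.mem_over_iff _ _).1 hR'
  let x : Presieve.FamilyOfElements F (Sieve.overEquiv Y R').arrows := fun Z f hf =>
    (x' (Over.homMk f : Over.mk (f ≫ Y.hom) ⟶ Y) ((Sieve.overEquiv_iff _ _).1 hf)).1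
  have hx : x.Compatible := by
    intro Z₁ Z₂ W g₁ g₂ f₁ f₂ hf₁ hf₂ hcomm
    let W' : Over S := Over.mk (g₁ ≫ f₁ ≫ Y.hom)
    let g₁' : W' ⟶ Over.mk (f₁ ≫ Y.hom) := Over.homMk g₁ rfl
    let g₂' : W' ⟶ Over.mk (f₂ ≫ Y.hom) := Over.homMk g₂ (by
      change g₂ ≫ f₂ ≫ Y.hom = g₁ ≫ f₁ ≫ Y.hom
      rw [← Category.assoc, ← hcomm, Category.assoc])
    have h1 := hx' g₁' g₂' ((Sieve.overEquiv_iff _ _).1 hf₁) ((Sieve.overEquiv_iff _ _).1 hf₂) (by
      apply Over.OverMorphism.ext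
      exact hcomm)
    exact congrArg Subtype.val h1
  have ht : ∀ ⦃Z : C⦄ (f : Z ⟶ Y.left) (hf : Sieve.overEquiv Y R' f),
      F.map f.op ((hF _ hR).amalgamate x hx) = x f hf :=
    fun Z f hf => (hF _ hR).valid_glue hx f hf
  obtain ⟨t, htdef⟩ : ∃ t, t = (hF _ hR).amalgamate x hx := ⟨_, rfl⟩
  rw [← htdef] at ht
  have hφt : φ.app (op Y.left) t = Y.hom := by
    apply phi_eq_of_agree hS _ hR
    intro Z f hf
    rw [← phi_map, ht f hf]
    exact (x' (Over.homMk f : Over.mk (f ≫ Y.hom) ⟶ Y) ((Sieve.overEquiv_iff _ _).1 hf)).2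
  refine ⟨⟨t, hφt⟩, ?_⟩
  intro Z g hg
  apply relPsh_ext
  change F.map g.left.op t = (x' g hg).1
  let e : Over.mk (g.left ≫ Y.hom) ⟶ Z := Over.homMk (𝟙 _) (by
    change 𝟙 _ ≫ Z.hom = g.left ≫ Y.hom
    rw [Category.id_comp, Over.w g])
  have heg : e ≫ g = (Over.homMk g.left : Over.mk (g.left ≫ Y.hom) ⟶ Y) := by
    apply Over.OverMorphism.ext
    change 𝟙 _ ≫ g.left = g.left
    rw [Category.id_comp]
  have hg' : R' (Over.homMk g.left : Over.mk (g.left ≫ Y.hom) ⟶ Y) := by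
    rw [← heg]; exact R'.downward_closed hg e
  have h2 : x' (Over.homMk g.left : Over.mk (g.left ≫ Y.hom) ⟶ Y) hg' =
      (relPsh φ).map e.op (x' g hg) := by
    have h3 := Presieve.FamilyOfElements.comp_of_compatible R' hx' hg e
    have h4 : ∀ (k₁ k₂ : Over.mk (g.left ≫ Y.hom) ⟶ Y) (hk : k₁ = k₂) (h₁ : R' k₁) (h₂ : R' k₂),
        x' k₁ h₁ = x' k₂ h₂ := by
      intro k₁ k₂ hk h₁ h₂
      subst hk
      rfl
    rw [← h3]
    exact h4 _ _ heg.symm _ _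
  rw [ht g.left ((Sieve.overEquiv_iff _ _).2 hg')]
  change (x' (Over.homMk g.left : Over.mk (g.left ≫ Y.hom) ⟶ Y) _).1 = _
  rw [h2]
  change F.map (𝟙 Z.left).op (x' g hg).1 = (x' g hg).1
  simp


/-- `relPsh φ` a sheaf implies `F` a sheaf. -/
theorem isSheaf_of_relPsh (hS : Presieve.IsSheaf J (yoneda.obj S))
    (h : Presieve.IsSheaf (J.over S) (relPsh φ)) : Presieve.IsSheaf J F := by
  apply (isSeparated_of_relPsh J φ hS h.isSeparated).isSheaf
  intro T R hR x hx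
  let y : Presieve.FamilyOfElements (yoneda.obj S) R.arrows :=
    fun Z g hg => φ.app (op Z) (x g hg)
  have hy : y.Compatible := by
    intro Z₁ Z₂ W g₁ g₂ f₁ f₂ hf₁ hf₂ hcomm
    change g₁ ≫ φ.app _ (x f₁ hf₁) = g₂ ≫ φ.app _ (x f₂ hf₂)
    rw [← phi_map, ← phi_map, hx g₁ g₂ hf₁ hf₂ hcomm]
  obtain ⟨s, hs⟩ : ∃ s : T ⟶ S, ∀ ⦃Z : C⦄ (g : Z ⟶ T) (hg : R g),
      g ≫ s = φ.app (op Z) (x g hg) :=
    ⟨(hS R hR).amalgamate y hy, fun Z g hg => (hS R hR).valid_glue hy g hg⟩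
  let Y : Over S := Over.mk s
  have hR' : (Sieve.overEquiv Y).symm R ∈ J.over S Y := by
    rw [GrothendieckTopology.mem_over_iff, OrderIso.apply_symm_apply]
    exact hR
  let x' : Presieve.FamilyOfElements (relPsh φ) ((Sieve.overEquiv Y).symm R).arrows :=
    fun Z g hg => ⟨x g.left ((Sieve.overEquiv_symm_iff _ _).1 hg), by
      rw [← hs]; exact Over.w g⟩
  have hx' : x'.Compatible := by
    intro Z₁ Z₂ W g₁ g₂ f₁ f₂ hf₁ hf₂ hcomm
    apply relPsh_ext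
    change F.map g₁.left.op (x f₁.left _) = F.map g₂.left.op (x f₂.left _)
    exact hx g₁.left g₂.left _ _ (congrArg (fun k => k.left) hcomm)
  refine ⟨((h _ hR').amalgamate x' hx').1, ?_⟩
  intro Z f hf
  have hf' : ((Sieve.overEquiv Y).symm R) (Over.homMk f : Over.mk (f ≫ s) ⟶ Y) :=
    (Sieve.overEquiv_symm_iff _ _).2 hf
  exact congrArg Subtype.val ((h _ hR').valid_glue hx' _ hf')

theorem main (hS : Presieve.IsSheaf J (yoneda.obj S)) :
    (Presieve.IsSeparated (J.over S) (ShfCat.relPsh φ) ↔ Presieve.IsSeparated J F) ∧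
    (Presieve.IsSheaf (J.over S) (ShfCat.relPsh φ) ↔ Presieve.IsSheaf J F) :=
  ⟨⟨isSeparated_of_relPsh J φ hS, isSeparated_relPsh J φ⟩,
    ⟨isSheaf_of_relPsh J φ hS, isSheaf_relPsh J φ hS⟩⟩

end Groth.Agent.H3.RelPshSheaf
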