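import Mathlib
import Groth.Agent.Lib.Helper3.RepDesc.Main
import Groth.Agent.Lib.Helper3.QuotShEff
import Groth.Agent.Lib.Helper3.DescSh.Affine
import Groth.Agent.Lib.Helper3.TorsAff

/-!
# A sheaf which is fppf locally representable by a relatively affine scheme is representable (helper3)
-/

set_option autoImplicit false

universe u

open CategoryTheory CategoryTheory.Limits AlgebraicGeometry Opposite

namespace Groth.Agent.H3.RepAff

open _root_.AlgSp Groth.Agent.H5.AlgSp Groth.Agent.H3.IQA Groth.Agent.H3.DescSh Desc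
  Groth.Agent.H3.RepDesc Groth.Agent.H3.QuotShEff

/-- Descent data of affine morphisms relative to an fppf cover are effective. -/
theorem effective_of_isAffineHom_fppf {X S : Scheme.{u}} (p : X ⟶ S) [Surjective p] [Flat p]
    [LocallyOfFinitePresentation p] (D : SchDD p) [IsAffineHom D.obj.hom] :
    ∃ U : Over S, Nonempty ((toDD p).obj U ≅ D) := by
  have hmem : Presieve.ofArrows (fun _ : PUnit.{u + 1} => X) (fun _ => p) ∈
      Scheme.fpqcPrecoverage S := by
    rw [Presieve.ofArrows_pUnit]
    exact Scheme.fppfPrecoverage_le_fpqcPrecoverage _ p.singleton_mem_fppfPrecoverage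
  have heff := isEffective_of_fpqc_of_affine @IsAffineHom
    (prop_sigmaMap_fin_of_isZariskiLocalAtTarget @IsAffineHom)
    (fun X' S' p' hX' hS' hfl hsurj D' hD' => by
      have : IsAffine X' := hX'
      have : IsAffine S' := hS'
      have : Flat p' := hfl
      have : Surjective p' := hsurj
      exact effective_of_isAffineHom p' D' hD')
    (fun _ : PUnit.{u + 1} => p) hmem ((SchDDFam.ofSchDD.{u} p).obj D)
    (fun _ => inferInstanceAs (IsAffineHom D.obj.hom))
  obtain ⟨Y, ⟨E⟩⟩ := heff
  exact ⟨Y, ⟨(SchDDFam.toSchDD.{u} p).mapIso E⟩⟩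

/-- **S5232.** -/
theorem representable_of_fppf_locally_affine {S S' : Scheme.{u}} (f : S' ⟶ S)
    [Flat f] [Surjective f] [LocallyOfFinitePresentation f]
    (Z : QuotSh.Sh Scheme.fppfPrecoverage S)
    (T' : Over S) (a : T' ⟶ Over.mk f) [IsAffineHom a.left]
    (φ : QuotSh.rep Scheme.fppfPrecoverage T' ≅ Z ⨯ QuotSh.rep Scheme.fppfPrecoverage (Over.mk f))
    (hφ : φ.hom ≫ prod.snd = QuotSh.repMap Scheme.fppfPrecoverage a) :
    ∃ T : Over S, IsAffineHom T.hom ∧ Nonempty (QuotSh.rep Scheme.fppfPrecoverage T ≅ Z) := by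
  let e : ∀ V : Over S, (yon S).obj V ≅ QuotSh.rep Scheme.fppfPrecoverage V :=
    fun V => (FIso Scheme.fppfPrecoverage S).app V
  let c : Over.mk f ⟶ Over.mk (𝟙 S) := toBase (Over.mk f)
  have hcl : c.left = f := rfl
  have : Flat c.left := inferInstanceAs (Flat f)
  have : Surjective c.left := inferInstanceAs (Surjective f)
  have : LocallyOfFinitePresentation c.left := inferInstanceAs (LocallyOfFinitePresentation f)
  let π : Z ⟶ pt S := (ptIsTerminal S).from Z
  let u : (yon S).obj T' ⟶ Z := (e T').hom ≫ φ.hom ≫ prod.fst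
  have hnat : (yon S).map a ≫ (e (Over.mk f)).hom =
      (e T').hom ≫ QuotSh.repMap Scheme.fppfPrecoverage a :=
    (FIso Scheme.fppfPrecoverage S).hom.naturality a
  have sq : IsPullback u ((yon S).map a) π ((yon S).map c) := by
    have h0 : IsPullback (prod.fst : Z ⨯ QuotSh.rep Scheme.fppfPrecoverage (Over.mk f) ⟶ Z)
        prod.snd ((ptIsTerminal S).from _) ((ptIsTerminal S).from _) :=
      IsPullback.of_is_product (limit.isLimit _) (ptIsTerminal S)
    refine IsPullback.of_iso h0 (e T' ≪≫ φ).symm (Iso.refl _) (e (Over.mk f)).symm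
      (Iso.refl _) ?_ ?_ ((ptIsTerminal S).hom_ext _ _) ((ptIsTerminal S).hom_ext _ _)
    · simp [u]
    · have h1 : (e T').inv ≫ (yon S).map a =
          QuotSh.repMap Scheme.fppfPrecoverage a ≫ (e (Over.mk f)).inv := by
        rw [Iso.inv_comp_eq, ← Category.assoc, Iso.eq_comp_inv]
        exact hnat
      simp only [Iso.symm_hom, Iso.trans_inv, Category.assoc]
      rw [h1, ← hφ]
      simp
  have heff : (toDD c.left).essImage (ddOfSq sq) := by
    have : IsAffineHom (ddOfSq sq).obj.hom := inferInstanceAs (IsAffineHom a.left)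
    obtain ⟨U, ⟨E⟩⟩ := effective_of_isAffineHom_fppf c.left (ddOfSq sq)
    exact ⟨U, ⟨E⟩⟩
  obtain ⟨W, w, ψ, hiso, hψπ⟩ := exists_iso_of_effective sq heff
  have : IsIso ψ := hiso
  refine ⟨W, ?_, ⟨(e W).symm ≪≫ asIso ψ⟩⟩
  obtain ⟨b, hb⟩ := (yon S).map_surjective (u ≫ inv ψ)
  have sq2 : IsPullback ((yon S).map b) ((yon S).map a) ((yon S).map w) ((yon S).map c) := by
    refine IsPullback.of_iso sq (Iso.refl _) (asIso ψ).symm (Iso.refl _) (Iso.refl _) ?_ ?_ ?_ ?_
    · simp [hb]
    · simp
    · simp [← hψπ]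
    · simp
  have sq3 : IsPullback b a w c :=
    IsPullback.of_map (yon S) (Over.mkIdTerminal.hom_ext _ _) sq2
  have sq4 := sq3.map (Over.forget S)
  have hw : w.left = W.hom := by simpa using Over.w w
  have sq5 : IsPullback b.left a.left W.hom f := by
    rw [← hw]
    exact sq4
  have hmem : Presieve.singleton f ∈ Scheme.fpqcPrecoverage S :=
    Scheme.fppfPrecoverage_le_fpqcPrecoverage _ f.singleton_mem_fppfPrecoverage
  refine MorphismProperty.IsLocalAtTarget.of_forall_pullbackSnd (P := @IsAffineHom) hmem ?_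
  intro U g _ hg
  obtain ⟨⟩ := hg
  rw [← MorphismProperty.cancel_left_of_respectsIso @IsAffineHom sq5.isoPullback.hom,
    sq5.isoPullback_hom_snd]
  infer_instance

end Groth.Agent.H3.RepAff
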