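import Mathlib
import Groth.Agent.Lib.Helper3.RepSlice
import Groth.Agent.Lib.Helper3.TwoCartGraph
import Groth.Agent.Lib.Helper3.TwoCartSwap

/-!
# Base change and cancellation for representable 1-morphisms over a general base (helper3)
-/

set_option autoImplicit false
universe v₆ u₆ v₅ u₅ v₄ u₄ v₃ u₃ v₂ u₂ w v u
open CategoryTheory CategoryTheory.Functor CategoryTheory.Limits

namespace Groth.Agent.H3.RepSlice

open Groth.Agent.H3.FibCatAux Groth.Agent.H3.FpCalc Groth.Agent.H3.TwoCart Groth.Agent.H3.Whisker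

variable {C : Type u} [Category.{v} C]

section BC

variable {𝒳 : BasedCategory.{v₂, u₂} C} {𝒴 : BasedCategory.{v₃, u₃} C}
  {𝒮 : BasedCategory.{v₄, u₄} C} {𝒲 : BasedCategory.{v₅, u₅} C}

/-- base change of a representable 1-morphism along a 2-cartesian square -/
theorem isRepresentable1_of_isTwoCartOver (F : 𝒳 ⥤ᵇ 𝒮) (G : 𝒴 ⥤ᵇ 𝒮) (a : 𝒲 ⥤ᵇ 𝒳) (b : 𝒲 ⥤ᵇ 𝒴)
    (e : BasedFunctor.comp a F ≅ BasedFunctor.comp b G) (h : FibCat.IsTwoCartOver a b e)
    (hG : FibCat.IsRepresentable1 G) : FibCat.IsRepresentable1 a := by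
  have h1 : FibCat.IsRepresentable1 (FibCat.fpFst F G) := isRepresentable1_fpFst G F hG
  let e' : BasedFunctor.comp a (BasedFunctor.id 𝒳) ≅
      BasedFunctor.comp (FibCat.fpLift a b e) (FibCat.fpFst F G) := Iso.refl _
  exact isRepresentable1_of_square (FibCat.fpFst F G) a (FibCat.fpLift a b e) (BasedFunctor.id 𝒳)
    h isEquivOver_id e' h1

/-- the second projection of a 2-fibre product is representable if the first functor is -/
theorem isRepresentable1_fpSnd (f : 𝒳 ⥤ᵇ 𝒮) (g : 𝒴 ⥤ᵇ 𝒮) (hf : FibCat.IsRepresentable1 f) :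
    FibCat.IsRepresentable1 (FibCat.fpSnd f g) := by
  have h1 : FibCat.IsRepresentable1 (FibCat.fpFst g f) := isRepresentable1_fpFst f g hf
  exact isRepresentable1_of_square (FibCat.fpFst g f) (FibCat.fpSnd f g)
    (FibCat.fpLift (FibCat.fpSnd f g) (FibCat.fpFst f g) (FibCat.fpIso f g).symm)
    (BasedFunctor.id _) (swap_isTwoCartOver f g) isEquivOver_id (Iso.refl _) h1

end BC

section Cancel

variable {𝒜 ℬ 𝒞 : BasedCategory.{v, max u v} C}

/-- **Cancellation**: if `b ∘ a` and the diagonal of `b` are representable, then so is `a`. -/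
theorem isRepresentable1_cancel (a : 𝒜 ⥤ᵇ ℬ) (b : ℬ ⥤ᵇ 𝒞)
    (hab : FibCat.IsRepresentable1 (BasedFunctor.comp a b))
    (hΔ : FibCat.IsRepresentable1 (FibCat.diag b)) : FibCat.IsRepresentable1 a := by
  let e : BasedFunctor.comp (BasedFunctor.id 𝒜) (BasedFunctor.comp a b) ≅ BasedFunctor.comp a b :=
    Iso.refl _
  have hΓ : FibCat.IsRepresentable1 (graphΓ (BasedFunctor.comp a b) b a e) :=
    isRepresentable1_of_isTwoCartOver (graphR (BasedFunctor.comp a b) b a e) (FibCat.diag b)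
      (graphΓ (BasedFunctor.comp a b) b a e) a (graphE (BasedFunctor.comp a b) b a e)
      (graph_isTwoCartOver (BasedFunctor.comp a b) b a e) hΔ
  have hpr : FibCat.IsRepresentable1 (FibCat.fpSnd (BasedFunctor.comp a b) b) :=
    isRepresentable1_fpSnd (BasedFunctor.comp a b) b hab
  exact isRepresentable1_comp (graphΓ (BasedFunctor.comp a b) b a e)
    (FibCat.fpSnd (BasedFunctor.comp a b) b) hΓ hpr

end Cancel

end Groth.Agent.H3.RepSlice
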