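import Mathlib
import Groth.Agent.Lib.Helper3.StackMore

/-!
# Essential image of a fully faithful functor of stacks is local (helper3)

If `F : 𝒳 ⥤ᵇ 𝒴` is fully faithful, `𝒳` a stack and `𝒴` a prestack, then an object `y` of `𝒴` which
locally (on a covering sieve) receives a morphism from the image of `F` is isomorphic to an object
in the image of `F`.
-/

set_option autoImplicit false

universe w v₄ u₄ v₃ u₃ v₂ u₂ v u

open CategoryTheory CategoryTheory.Functor CategoryTheory.Limits Opposite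

namespace Groth.Agent.H3.StackLocal

open Groth.Agent.H3.FibCatAux Groth.Agent.H3.FibCatYoneda Groth.Agent.H3.StackDescent
  Groth.Agent.H3.StackMore

variable {C : Type u} [Category.{v} C]

variable (J : GrothendieckTopology C) {𝒳 : BasedCategory.{v₂, u₂} C} {𝒴 : BasedCategory.{v₃, u₃} C}

theorem hasPre_of_local' (h𝒳 : Stk.IsStack J 𝒳) (h𝒴 : Stk.IsPrestack J 𝒴) (F : 𝒳 ⥤ᵇ 𝒴)
    [F.toFunctor.Full] [F.toFunctor.Faithful] (y : 𝒴.obj)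
    (hF : ∃ R ∈ J (𝒴.p.obj y), ∀ ⦃V : C⦄ (f : V ⟶ 𝒴.p.obj y), R f →
      ∃ (x : 𝒳.obj) (φ : F.obj x ⟶ y), 𝒴.p.IsHomLift f φ) :
    ∃ (x : 𝒳.obj) (e : F.obj x ≅ y), 𝒴.p.IsHomLift (𝟙 (𝒴.p.obj y)) e.hom := by
  obtain ⟨R, hR, hR'⟩ := hF
  choose x φ hφ using hR'
  let D := preDatum h𝒴.1 F y (fun a => x a.obj.hom a.property) (fun a => φ a.obj.hom a.property)
    (fun a => hφ a.obj.hom a.property)
  obtain ⟨s⟩ := ((isStackFor_iff h𝒳.1).mp (h𝒳.2 R hR)).1 D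
  obtain ⟨χ, ⟨hχ, -⟩, -⟩ := (isPrestackFor_iff h𝒴.1).mp (h𝒴.2 R hR) _ (mapCocone F s)
    (targetCocone h𝒴.1 F y (fun a => x a.obj.hom a.property) (fun a => φ a.obj.hom a.property)
    (fun a => hφ a.obj.hom a.property) rfl)
  obtain ⟨χ', hχ'⟩ : ∃ χ' : F.obj s.pt ⟶ y, χ' = χ := ⟨χ, rfl⟩
  have hχ'' : 𝒴.p.IsHomLift (𝟙 (𝒴.p.obj y)) χ' := by rw [hχ']; exact hχ
  have : IsIso χ' := isIso_of_isHomLift_id 𝒴.p h𝒴.1 (U := 𝒴.p.obj y) χ'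
  exact ⟨s.pt, asIso χ', hχ''⟩

/-- the essential image of a fully faithful functor from a stack to a prestack is local -/
theorem hasPre_of_local (h𝒳 : Stk.IsStack J 𝒳) (h𝒴 : Stk.IsPrestack J 𝒴) (F : 𝒳 ⥤ᵇ 𝒴)
    [F.toFunctor.Full] [F.toFunctor.Faithful] (y : 𝒴.obj) {U : C} (hy : 𝒴.p.obj y = U)
    (hF : ∃ R ∈ J U, ∀ ⦃V : C⦄ (f : V ⟶ U), R f →
      ∃ (x : 𝒳.obj) (φ : F.obj x ⟶ y), 𝒴.p.IsHomLift f φ) :
    ∃ (x : 𝒳.obj) (e : F.obj x ≅ y), 𝒴.p.IsHomLift (𝟙 U) e.hom := by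
  subst hy
  exact hasPre_of_local' J h𝒳 h𝒴 F y hF

end Groth.Agent.H3.StackLocal
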