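import Mathlib
import Groth.Prelude.Def_StGerb
import Groth.Agent.Lib.Helper3.FieldCover2
import Groth.Agent.Lib.Helper3.AlgSpCov.LocPBaseInst
import Groth.Agent.Lib.Helper3.StackLocal
import Groth.Agent.Lib.Helper3.AlgSt.OpenSub5
import Groth.Agent.Lib.Helper3.AlgSt.DiagProp

/-!
# Field points in the class of `x` factor through the residual gerbe (helper3)

Let `𝒵 ⊆ 𝒳` be the residual gerbe at `x` (a strictly full subcategory which is a reduced locally
Noetherian algebraic stack with exactly one point, mapping to `x`), and `p : Spec K ⟶ 𝒳` a field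
point in the class of `x`.  Choose an fppf cover `z : Spec k ⟶ 𝒵`.  A scheme chart `T` of
`Spec K ×_𝒳 Spec k` is nonempty, `c : T ⟶ Spec K` is flat and surjective, and after base change
along `c` the morphism `p` factors through `𝒵`; hence the base change of `Spec K ×_𝒳 Spec k ⟶ Spec K`
along `c` is locally of finite presentation (as `z` is), so by fpqc descent it is itself locally
of finite presentation, so `c` is an fppf covering, and `p` factors through `𝒵` as `𝒵` is a stack.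
No representability of the inclusion `𝒵 ⟶ 𝒳` is used.
-/

set_option autoImplicit false
universe u
open CategoryTheory CategoryTheory.Functor CategoryTheory.Limits Opposite AlgebraicGeometry

noncomputable section

namespace Groth.Agent.H3.ResGerbFactor

open Groth.Agent.H3.FibCatAux Groth.Agent.H3.GerbAux Groth.Agent.H3.FpCalc Groth.Agent.H3.TwoCart
  Groth.Agent.H3.StackPsh Groth.Agent.H3.PshBridge Groth.Agent.H3.AlgStAux Groth.Agent.H3.RepBridge
  Groth.Agent.H3.Whisker Groth.Agent.H3.FPtRel Groth.Agent.H3.AlgStPoints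
  Groth.Agent.H3.AlgStBridge2 Groth.Agent.H3.AlgStCharts Groth.Agent.H3.BaseChangeSp
  Groth.Agent.H3.AlgStComp Groth.Agent.H3.AlgStProps Groth.Agent.H3.AlgStDescent
  Groth.Agent.H3.AlgStLES Groth.Agent.H3.AlgStLocQ Groth.Agent.H3.AlgStDiag
  Groth.Agent.H3.OpenSub Groth.Agent.H3.SetoidPsh Groth.Agent.H3.StackMore
open AlgSp

variable {S : Scheme.{u}}

section PieceB

/-- a flat morphism of schemes over `S` to an affine scheme, surjective already on an affine open
of the source, is an fpqc covering -/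
theorem isFpqcCover_single {U V : Over S} [IsAffine U.left] (h : V ⟶ U) (hfl : Flat h.left)
    (W : V.left.Opens) (hW : IsAffineOpen W)
    (hsurj : Function.Surjective (W.ι ≫ h.left)) :
    IsFpqcCover (fun _ : PUnit.{u+1} => (yon S).obj V) (fun _ => (yon S).map h) := by
  refine ⟨fun _ => (Groth.Agent.H5.AlgSp.locP_yon_map_iff
    Groth.Agent.H5.AlgSp.etale_le_flat h).2 hfl, ?_⟩
  intro Z hZ g
  obtain ⟨g', rfl⟩ := (yon S).map_surjective g
  haveI : IsAffine Z.left := hZ
  haveI : IsAffine (W : Scheme.{u}) := hW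
  haveI : Flat h.left := hfl
  haveI : Flat (W.ι ≫ h.left) := inferInstance
  haveI : Surjective (W.ι ≫ h.left) := ⟨hsurj⟩
  have hh : h.left ≫ U.hom = V.hom := Over.w h
  have hg : g'.left ≫ U.hom = Z.hom := Over.w g'
  have e1 : (pullback.snd g'.left (W.ι ≫ h.left) ≫ W.ι) ≫ V.hom =
      pullback.fst g'.left (W.ι ≫ h.left) ≫ Z.hom := by
    calc (pullback.snd g'.left (W.ι ≫ h.left) ≫ W.ι) ≫ V.hom
        = (pullback.snd g'.left (W.ι ≫ h.left) ≫ (W.ι ≫ h.left)) ≫ U.hom := by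
          rw [← hh]; simp only [Category.assoc]
      _ = (pullback.fst g'.left (W.ι ≫ h.left) ≫ g'.left) ≫ U.hom := by rw [pullback.condition]
      _ = pullback.fst g'.left (W.ι ≫ h.left) ≫ Z.hom := by rw [Category.assoc, hg]
  refine ⟨1, fun _ => Over.mk (pullback.fst g'.left (W.ι ≫ h.left) ≫ Z.hom),
    fun _ => Over.homMk (pullback.fst g'.left (W.ι ≫ h.left)) (by rfl), ?_, ?_, ?_, ?_⟩
  · intro _
    show IsAffine (pullback g'.left (W.ι ≫ h.left))
    infer_instance
  · intro _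
    show Flat (pullback.fst g'.left (W.ι ≫ h.left))
    infer_instance
  · intro z
    obtain ⟨w, hw⟩ :=
      (inferInstance : Surjective (pullback.fst g'.left (W.ι ≫ h.left))).surj z
    exact ⟨0, w, hw⟩
  · intro _
    refine ⟨PUnit.unit,
      (yon S).map (Over.homMk (pullback.snd g'.left (W.ι ≫ h.left) ≫ W.ι) e1), ?_⟩
    show (yon S).map _ ≫ (yon S).map h = (yon S).map _ ≫ (yon S).map g'
    rw [← Functor.map_comp, ← Functor.map_comp]
    congr 1
    apply Over.OverMorphism.ext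
    show (pullback.snd g'.left (W.ι ≫ h.left) ≫ W.ι) ≫ h.left =
      pullback.fst g'.left (W.ι ≫ h.left) ≫ g'.left
    rw [Category.assoc, pullback.condition]

end PieceB

section PieceC

variable {𝒲 : AlgSt.Cat S} {U : Over S}

/-- **fpqc descent on a scheme base along a single morphism** -/
theorem spMapOfOver_of_fpqc (P : MorphismProperty (Sp S)) (hPb : BaseChangeSp P)
    (hPc : OfCharts P) (hP : IsLocalOnBase (IsFpqcCover (S := S)) P)
    (π : 𝒲 ⥤ᵇ FibCat.overCat U) (F : Space S)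
    (e : AlgSt.ofSp F.obj ⥤ᵇ 𝒲) (he : FibCat.IsEquivOver e) {V : Over S} (h : V ⟶ U)
    (hcov : IsFpqcCover (fun _ : PUnit.{u+1} => (yon S).obj V) (fun _ => (yon S).map h))
    (hloc : AlgSt.RepByAlgSpWith P (FibCat.fpFst (AlgSt.overMap h) π)) :
    P (AlgSt.spMapOfOver (BasedFunctor.comp e π)) := by
  set Φ := BasedFunctor.comp e π with hΦ
  set a := AlgSt.spMapOfOver Φ with ha
  obtain ⟨ι⟩ := projIso Φ
  have hXi : IsAlgSpace (pullback a ((yon S).map h)) :=
    Groth.Agent.H5.AlgSp.isAlgSpace_pullback (IsAlgSpace.yon_obj U).diag F.property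
      (IsAlgSpace.yon_obj V) (IsPullback.of_hasPullback a ((yon S).map h))
  refine (hP (fun _ : PUnit.{u+1} => (yon S).obj V) (fun _ => (yon S).map h)
    (IsAlgSpace.yon_obj U)
    (fun _ => IsAlgSpace.yon_obj V) hcov a F.property
    (fun _ => pullback a ((yon S).map h)) (fun _ => pullback.snd a ((yon S).map h))
    (fun _ => pullback.fst a ((yon S).map h)) (fun _ => hXi)
    (fun _ => IsPullback.of_hasPullback a ((yon S).map h))).2 ?_
  intro _
  show P (pullback.snd a ((yon S).map h))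
  rw [← repByAlgSpWith_ofPshMap_iff P hPb hPc hXi (IsAlgSpace.yon_obj V)]
  have sqP : IsPullback (pullback.fst a ((yon S).map h)).hom
      (pullback.snd a ((yon S).map h)).hom a.hom ((pyon S).map h) :=
    (IsPullback.of_hasPullback a ((yon S).map h)).map (sheafToPresheaf (J S) (Type (u + 1)))
  have hL := isTwoCartOver_of_isPullback sqP
  -- step 1: to the 2-fibre product of the functors of presheaves
  let ε₁ : BasedFunctor.comp (Stk.ofPshMap (pullback.snd a ((yon S).map h)).hom)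
      (BasedFunctor.id _) ≅ BasedFunctor.comp
        (FibCat.fpLift (Stk.ofPshMap (pullback.snd a ((yon S).map h)).hom)
          (Stk.ofPshMap (pullback.fst a ((yon S).map h)).hom) (sqE sqP.w))
        (FibCat.fpFst (Stk.ofPshMap ((pyon S).map h)) (Stk.ofPshMap a.hom)) := Iso.refl _
  refine repByAlgSpWith_of_square P
    (FibCat.fpFst (Stk.ofPshMap ((pyon S).map h)) (Stk.ofPshMap a.hom)) _ _ (BasedFunctor.id _)
    hL isEquivOver_id ε₁ ?_
  -- step 2: to the 2-fibre product over `(Sch/U)`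
  obtain ⟨α⟩ := overMapIso h
  let β : BasedFunctor.comp (Stk.ofPshMap a.hom) (toOver U) ≅ BasedFunctor.comp e π := ι.symm
  obtain ⟨⟨hU1, hU2⟩, -⟩ := (X5139 (toOver U)).1 (isEquivOver_toOver U)
  let N := fpMap (F' := Stk.ofPshMap ((pyon S).map h)) (G' := Stk.ofPshMap a.hom)
    (F := AlgSt.overMap h) (G := π) (toOver V) e (toOver U) α β
  have hN : FibCat.IsEquivOver N := isEquivOver_fpMap _ _ _ _ _ (isEquivOver_toOver V) he
  let ε₂ : BasedFunctor.comp
      (FibCat.fpFst (Stk.ofPshMap ((pyon S).map h)) (Stk.ofPshMap a.hom)) (toOver V) ≅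
      BasedFunctor.comp N (FibCat.fpFst (AlgSt.overMap h) π) := Iso.refl _
  exact repByAlgSpWith_of_square P (FibCat.fpFst (AlgSt.overMap h) π) _ N (toOver V) hN
    (isEquivOver_toOver V) ε₂ hloc

end PieceC

section PieceA

variable {𝒳 𝒵 𝒯 𝒲' : AlgSt.Cat S}

/-- for `j` fully faithful, the base change of `j ∘ z` along `j ∘ y` is the base change of `z`
along `y` -/
theorem rep_fpFst_comp_of_full (P : MorphismProperty (Sp S)) (j : 𝒵 ⥤ᵇ 𝒳)
    [j.toFunctor.Full] [j.toFunctor.Faithful] (z : 𝒯 ⥤ᵇ 𝒵) (y : 𝒲' ⥤ᵇ 𝒵)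
    (hz : AlgSt.RepByAlgSpWith P z) :
    AlgSt.RepByAlgSpWith P
      (FibCat.fpFst (BasedFunctor.comp y j) (BasedFunctor.comp z j)) := by
  let α : BasedFunctor.comp y j ≅
      BasedFunctor.comp (BasedFunctor.id 𝒲') (BasedFunctor.comp y j) := Iso.refl _
  let β : BasedFunctor.comp z j ≅
      BasedFunctor.comp (BasedFunctor.id 𝒯) (BasedFunctor.comp z j) := Iso.refl _
  let N := fpMap (F' := y) (G' := z) (F := BasedFunctor.comp y j) (G := BasedFunctor.comp z j)
    (BasedFunctor.id 𝒲') (BasedFunctor.id 𝒯) j α β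
  have hN : FibCat.IsEquivOver N := isEquivOver_fpMap _ _ _ _ _ isEquivOver_id isEquivOver_id
  let ε : BasedFunctor.comp (FibCat.fpFst y z) (BasedFunctor.id 𝒲') ≅
      BasedFunctor.comp N (FibCat.fpFst (BasedFunctor.comp y j) (BasedFunctor.comp z j)) :=
    Iso.refl _
  exact repByAlgSpWith_of_square' P _ _ N (BasedFunctor.id 𝒲') hN isEquivOver_id ε
    (repByAlgSpWith_fpFst P z y hz)

end PieceA

section Main

variable {𝒳 : AlgSt.Cat S}

/-- **S16813 (core)**: every object in the image of a field point in the class of `x` lies in the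
residual gerbe at `x`. -/
theorem main (h𝒳 : AlgSt.IsAlgStack Scheme.fppfPrecoverage 𝒳) (x : AlgSt.Points 𝒳)
    (Q : 𝒳.obj → Prop) (hQ : Gerb.IsResGerbe Scheme.fppfPrecoverage 𝒳 x Q)
    (K : Type u) [Field K] (a : Spec (CommRingCat.of K) ⟶ S)
    (p : FibCat.overCat (Over.mk a) ⥤ᵇ 𝒳)
    (hp : ∀ t : ↥(Over.mk a).left, AlgSt.Points.ofChart p t = x) :
    ∀ cc : (FibCat.overCat (Over.mk a)).obj, Q (p.obj cc) := by
  obtain ⟨hQi, hQalg, hred, hnoeth, hne, hsub, hmap⟩ := hQ
  have g𝒳 := h𝒳.isStack.1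
  have g𝒵 := hQalg.isStack.1
  obtain ⟨k, hk, a', z, hzp, hzs, hzf⟩ :=
    (Groth.Agent.H3.FieldCover.main2 hQalg).1 ⟨hred, hnoeth, hne, hsub⟩
  haveI : (AlgSt.subIncl 𝒳 Q).toFunctor.Full := inferInstanceAs (ObjectProperty.ι Q).Full
  haveI : (AlgSt.subIncl 𝒳 Q).toFunctor.Faithful :=
    inferInstanceAs (ObjectProperty.ι Q).Faithful
  obtain ⟨j, hj⟩ : ∃ j : AlgSt.fullSub 𝒳 Q ⥤ᵇ 𝒳, j = AlgSt.subIncl 𝒳 Q := ⟨_, rfl⟩
  haveI : j.toFunctor.Full := by rw [hj]; infer_instance
  haveI : j.toFunctor.Faithful := by rw [hj]; infer_instance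
  obtain ⟨z', hz'⟩ : ∃ z' : FibCat.overCat (Over.mk a') ⥤ᵇ 𝒳, z' = BasedFunctor.comp z j :=
    ⟨_, rfl⟩
  haveI : Subsingleton ↥(Over.mk a).left := inferInstanceAs (Subsingleton (PrimeSpectrum K))
  haveI : IsIntegral (Over.mk a).left := inferInstanceAs (IsIntegral (Spec (CommRingCat.of K)))
  haveI : IsAffine (Over.mk a).left := inferInstanceAs (IsAffine (Spec (CommRingCat.of K)))
  have hne1 : Nonempty ↥(Over.mk a).left := inferInstanceAs (Nonempty (PrimeSpectrum K))
  have hne2 : Nonempty ↥(Over.mk a').left := inferInstanceAs (Nonempty (PrimeSpectrum k))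
  obtain ⟨u₀⟩ := hne1
  obtain ⟨v₀⟩ := hne2
  obtain ⟨F, e, he⟩ := repByAlgSp_fp_of_diag g𝒳 h𝒳.diag p z'
    (AlgStDiagLft.repByAlgSp_overCat _) (AlgStDiagLft.repByAlgSp_overCat _)
  obtain ⟨T, q, c, t, hqe, hqs, hc, ht, ⟨ι⟩, hpts⟩ :=
    exists_scheme_chart_fp_scheme g𝒳 (Over.mk a') z' (Over.mk a) p F e he
  have hx₀ : AlgSt.Points.ofChart p u₀ = AlgSt.Points.ofChart z' v₀ := by
    rw [hp u₀, hz', hj, ofChart_comp]
    exact (hmap (AlgSt.Points.ofChart z v₀)).symm
  obtain ⟨τ₀, hτ₁, hτ₂⟩ := hpts u₀ v₀ hx₀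
  obtain ⟨W, hWaff, hτW, -⟩ :=
    exists_isAffineOpen_mem_and_subset (x := τ₀) (U := (⊤ : T.left.Opens)) trivial
  have hcfl : Flat c.left := inferInstance
  have hcs : Function.Surjective c.left := fun u' => ⟨τ₀, Subsingleton.elim _ _⟩
  have hWs : Function.Surjective (W.ι ≫ c.left) :=
    fun u' => ⟨⟨τ₀, hτW⟩, Subsingleton.elim _ _⟩
  have hcov := isFpqcCover_single c hcfl W hWaff hWs
  -- the base change of `z'` along `p ∘ c` is locally of finite presentation
  have s0 : AlgSt.RepByAlgSpWith (LocP @LocallyOfFinitePresentation)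
      (FibCat.fpFst (BasedFunctor.comp (BasedFunctor.comp (AlgSt.overMap t) z) j)
        (BasedFunctor.comp z j)) :=
    rep_fpFst_comp_of_full _ j z (BasedFunctor.comp (AlgSt.overMap t) z) hzp
  have s0' : AlgSt.RepByAlgSpWith (LocP @LocallyOfFinitePresentation)
      (FibCat.fpFst (BasedFunctor.comp (AlgSt.overMap t) z') z') := by
    rw [hz']; exact s0
  have s1 : AlgSt.RepByAlgSpWith (LocP @LocallyOfFinitePresentation)
      (FibCat.fpFst (BasedFunctor.comp (AlgSt.overMap c) p) z') :=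
    repByAlgSpWith_fpFst_of_iso _ z' ι s0'
  have s2 : AlgSt.RepByAlgSpWith (LocP @LocallyOfFinitePresentation)
      (FibCat.fpFst (AlgSt.overMap c) (FibCat.fpFst p z')) := by
    let ε : BasedFunctor.comp (FibCat.fpFst (AlgSt.overMap c) (FibCat.fpFst p z'))
        (BasedFunctor.id _) ≅ BasedFunctor.comp (pasteL (AlgSt.overMap c) p z')
          (FibCat.fpFst (BasedFunctor.comp (AlgSt.overMap c) p) z') := Iso.refl _
    exact repByAlgSpWith_of_square _ _ _ (pasteL (AlgSt.overMap c) p z') (BasedFunctor.id _)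
      (isEquivOver_pasteL (AlgSt.overMap c) p z') isEquivOver_id ε s1
  have hb : LocP @LocallyOfFinitePresentation
      (AlgSt.spMapOfOver (BasedFunctor.comp e (FibCat.fpFst p z'))) :=
    spMapOfOver_of_fpqc _ good_lfp.bc good_lfp.toC.charts
      Groth.Agent.H3.AlgSpCov.isLocalOnBase_fpqc_lfp (FibCat.fpFst p z') F e he c hcov s2
  have hclfp : LocallyOfFinitePresentation c.left := prop_of_chart q _ c hc hqe hb
  have hR : Sieve.generate (Presieve.singleton c) ∈ J S (Over.mk a) :=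
    Groth.Agent.H5.AlgSp.mem_J_of_fppf c hcfl hclfp ⟨hcs⟩ _
      ⟨T, 𝟙 T, c, Presieve.singleton.mk, Category.id_comp c⟩
  -- the universal object
  let c₀ : (FibCat.overCat (Over.mk a)).obj := Over.mk (𝟙 (Over.mk a))
  have hloc : ∀ ⦃V : Over S⦄ (f : V ⟶ Over.mk a),
      (Sieve.generate (Presieve.singleton c)).arrows f →
      ∃ (x' : (AlgSt.fullSub 𝒳 Q).obj) (φ : j.obj x' ⟶ p.obj c₀), 𝒳.p.IsHomLift f φ := by
    rintro V f ⟨T', kk, c', ⟨⟩, rfl⟩
    let A : (FibCat.overCat T).obj := Over.mk kk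
    let m : (AlgSt.overMap c).obj A ⟶ c₀ :=
      Over.homMk (U := (AlgSt.overMap c).obj A) (V := c₀) (kk ≫ c) (Category.comp_id _)
    have h1 : 𝒳.p.IsHomLift (𝟙 V) (appIso ι A).hom := appIso_hom_isHomLift ι A rfl
    have h2 : (FibCat.overCat (Over.mk a)).p.IsHomLift (kk ≫ c) m := by
      apply IsHomLift.of_fac' (FibCat.overCat (Over.mk a)).p (kk ≫ c) m rfl rfl
      change (FibCat.overCat (Over.mk a)).p.map m = 𝟙 _ ≫ (kk ≫ c) ≫ 𝟙 _
      rw [Category.id_comp, Category.comp_id]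
      rfl
    have h3 : 𝒳.p.IsHomLift (kk ≫ c) (p.map m) :=
      (BasedFunctor.isHomLift_iff p (kk ≫ c) m).mpr h2
    have h4 : 𝒳.p.IsHomLift (kk ≫ c) ((appIso ι A).hom ≫ p.map m) :=
      @IsHomLift.comp_lift_id_left' _ _ _ _ 𝒳.p _ _ _ V (appIso ι A).hom h1 _ _ (kk ≫ c)
        (p.map m) h3
    subst hz' hj
    exact ⟨z.obj ((AlgSt.overMap t).obj A), (appIso ι A).hom ≫ p.map m, h4⟩
  obtain ⟨x', e', -⟩ := Groth.Agent.H3.StackLocal.hasPre_of_local (J S) hQalg.isStack
    (isPrestack_of_isStack _ h𝒳.isStack) j (p.obj c₀) (p.w_obj c₀) ⟨_, hR, hloc⟩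
  have hQ₀ : Q (p.obj c₀) := by
    subst hj
    exact hQi.of_iso e' x'.property
  intro cc
  exact of_hom_of_isFibGrpd g𝒳 Q hQi g𝒵
    (p.map (Over.homMk (U := cc) (V := c₀) cc.hom (Category.comp_id _))) hQ₀

end Main

end Groth.Agent.H3.ResGerbFactor
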