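import Mathlib
import Groth.Agent.Lib.Helper3.ResGerbFactor
import Groth.Agent.Lib.Helper3.TwoYoneda
import Groth.Agent.Lib.Helper3.UnivInj

/-!
# Functoriality of residual gerbes (helper3)

A morphism `f : 𝒳 ⟶ 𝒴` of algebraic stacks maps the residual gerbe at `x` into the residual gerbe
at `f(x)`: choose an fppf cover `z : Spec k ⟶ 𝒵_x`; the field point `f ∘ z` is in the class of
`f(x)` and so factors through `𝒵_{f(x)}`; every object of `𝒵_x` is fppf locally in the image of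
`z`, and `𝒵_{f(x)}` is a stack.
-/

set_option autoImplicit false
universe u
open CategoryTheory CategoryTheory.Functor CategoryTheory.Limits Opposite AlgebraicGeometry

noncomputable section

namespace Groth.Agent.H3.ResGerbFunct

open Groth.Agent.H3.FibCatAux Groth.Agent.H3.GerbAux Groth.Agent.H3.FpCalc Groth.Agent.H3.TwoCart
  Groth.Agent.H3.StackPsh Groth.Agent.H3.PshBridge Groth.Agent.H3.AlgStAux Groth.Agent.H3.RepBridge
  Groth.Agent.H3.Whisker Groth.Agent.H3.FPtRel Groth.Agent.H3.AlgStPoints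
  Groth.Agent.H3.AlgStBridge2 Groth.Agent.H3.AlgStCharts Groth.Agent.H3.BaseChangeSp
  Groth.Agent.H3.AlgStComp Groth.Agent.H3.AlgStProps Groth.Agent.H3.AlgStDescent
  Groth.Agent.H3.AlgStLES Groth.Agent.H3.AlgStLocQ Groth.Agent.H3.AlgStDiag
  Groth.Agent.H3.OpenSub Groth.Agent.H3.SetoidPsh Groth.Agent.H3.StackMore
  Groth.Agent.H3.TwoYoneda
open AlgSp

variable {S : Scheme.{u}} {𝒳 𝒴 : AlgSt.Cat S}

/-- **S16814 (core)**: `f` maps the residual gerbe at `x` into the residual gerbe at `f(x)`. -/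
theorem main (h𝒴 : AlgSt.IsAlgStack Scheme.fppfPrecoverage 𝒴) (f : 𝒳 ⥤ᵇ 𝒴) (x : AlgSt.Points 𝒳)
    (Q : 𝒳.obj → Prop) (hQ : Gerb.IsResGerbe Scheme.fppfPrecoverage 𝒳 x Q)
    (Q' : 𝒴.obj → Prop)
    (hQ' : Gerb.IsResGerbe Scheme.fppfPrecoverage 𝒴 (AlgSt.Points.map f x) Q') :
    ∀ ξ : (AlgSt.fullSub 𝒳 Q).obj, Q' ((BasedFunctor.comp (AlgSt.subIncl 𝒳 Q) f).obj ξ) := by
  have hQ'' := hQ'
  obtain ⟨hQi, hQalg, hred, hnoeth, hne, hsub, hmap⟩ := hQ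
  obtain ⟨hQi', hQalg', -, -, -, -, -⟩ := hQ''
  have g𝒵 := hQalg.isStack.1
  obtain ⟨k, hk, a', z, hzp, hzs, hzf⟩ :=
    (Groth.Agent.H3.FieldCover.main2 hQalg).1 ⟨hred, hnoeth, hne, hsub⟩
  haveI : (AlgSt.subIncl 𝒴 Q').toFunctor.Full := inferInstanceAs (ObjectProperty.ι Q').Full
  haveI : (AlgSt.subIncl 𝒴 Q').toFunctor.Faithful :=
    inferInstanceAs (ObjectProperty.ι Q').Faithful
  obtain ⟨F, hF⟩ : ∃ F : AlgSt.fullSub 𝒳 Q ⥤ᵇ 𝒴,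
    F = BasedFunctor.comp (AlgSt.subIncl 𝒳 Q) f := ⟨_, rfl⟩
  have hcls : ∀ v : ↥(Over.mk a').left,
      AlgSt.Points.ofChart (BasedFunctor.comp z F) v = AlgSt.Points.map f x := by
    intro v
    rw [ofChart_comp, hF, points_map_comp, hmap]
  have hall : ∀ cc, Q' ((BasedFunctor.comp z F).obj cc) :=
    Groth.Agent.H3.ResGerbFactor.main h𝒴 (AlgSt.Points.map f x) Q' hQ' k a'
      (BasedFunctor.comp z F) hcls
  rw [← hF]
  intro ξ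
  obtain ⟨T, c, t, hc1, hc2, hc3, ⟨ι⟩⟩ := exists_fppf_chart z hzf hzp hzs _ (yBased g𝒵 ξ)
  have hR : Sieve.generate (Presieve.singleton c) ∈ J S ((AlgSt.fullSub 𝒳 Q).p.obj ξ) :=
    Groth.Agent.H5.AlgSp.mem_J_of_fppf c hc1 hc2 ⟨hc3⟩ _
      ⟨T, 𝟙 T, c, Presieve.singleton.mk, Category.id_comp c⟩
  have hloc : ∀ ⦃V : Over S⦄ (g : V ⟶ (AlgSt.fullSub 𝒳 Q).p.obj ξ),
      (Sieve.generate (Presieve.singleton c)).arrows g →
      ∃ (x' : (AlgSt.fullSub 𝒴 Q').obj) (φ : (AlgSt.subIncl 𝒴 Q').obj x' ⟶ F.obj ξ),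
        𝒴.p.IsHomLift g φ := by
    rintro V g ⟨T', kk, c', ⟨⟩, rfl⟩
    let A : (FibCat.overCat T).obj := Over.mk kk
    have h1 : (AlgSt.fullSub 𝒳 Q).p.IsHomLift (𝟙 V) (appIso ι A).hom :=
      appIso_hom_isHomLift ι A rfl
    have h2 : (AlgSt.fullSub 𝒳 Q).p.IsHomLift (kk ≫ c)
        (pbMap g𝒵 ξ ((AlgSt.overMap c).obj A)) := pbMap_isHomLift g𝒵 ξ ((AlgSt.overMap c).obj A)
    have h3 : (AlgSt.fullSub 𝒳 Q).p.IsHomLift (kk ≫ c)
        ((appIso ι A).hom ≫ pbMap g𝒵 ξ ((AlgSt.overMap c).obj A)) :=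
      @IsHomLift.comp_lift_id_left' _ _ _ _ (AlgSt.fullSub 𝒳 Q).p _ _ _ V (appIso ι A).hom h1
        _ _ (kk ≫ c) (pbMap g𝒵 ξ ((AlgSt.overMap c).obj A)) h2
    have h4 : 𝒴.p.IsHomLift (kk ≫ c)
        (F.map ((appIso ι A).hom ≫ pbMap g𝒵 ξ ((AlgSt.overMap c).obj A))) :=
      (BasedFunctor.isHomLift_iff F _ _).mpr h3
    exact ⟨⟨(BasedFunctor.comp z F).obj (t.obj A), hall _⟩,
      F.map ((appIso ι A).hom ≫ pbMap g𝒵 ξ ((AlgSt.overMap c).obj A)), h4⟩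
  obtain ⟨x', e', -⟩ := Groth.Agent.H3.StackLocal.hasPre_of_local (J S) hQalg'.isStack
    (isPrestack_of_isStack _ h𝒴.isStack) (AlgSt.subIncl 𝒴 Q') (F.obj ξ) (F.w_obj ξ)
    ⟨_, hR, hloc⟩
  exact hQi'.of_iso e' x'.property

end Groth.Agent.H3.ResGerbFunct
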