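import Mathlib
import Groth.Agent.Lib.Helper3.ResGerbFunct
import Groth.Agent.Lib.Helper3.AlgSt.LocQ2
import Groth.Agent.Lib.Helper3.AlgSt.DiagLft
import Groth.Agent.Lib.Helper3.AlgSt.DiagProp
import Groth.Agent.Lib.Helper3.MonoField
import Groth.Agent.Lib.Helper3.AlgSpCov.Covers
import Groth.Agent.Lib.Helper3.AlgSpCov.IsoBase
import Groth.Agent.Lib.Helper3.UnivInjComp

/-!
# Tools for the comparison of residual gerbes (helper3)

fpqc descent of "representable by algebraic spaces with `P`" one chart at a time, restriction of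
2-isomorphisms along morphisms of schemes, factorisation of a chart of `𝒵 ×_𝒴 𝒵` through
`𝒜 ×_𝒴 ℬ`, and the transfer of the hypothesis of S16815 to the residual gerbe.
-/

set_option autoImplicit false
universe u
open CategoryTheory CategoryTheory.Functor CategoryTheory.Limits Opposite AlgebraicGeometry

noncomputable section

namespace Groth.Agent.H3.ResGerbIso

open Groth.Agent.H3.FibCatAux Groth.Agent.H3.GerbAux Groth.Agent.H3.FpCalc Groth.Agent.H3.TwoCart
  Groth.Agent.H3.StackPsh Groth.Agent.H3.PshBridge Groth.Agent.H3.AlgStAux Groth.Agent.H3.RepBridge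
  Groth.Agent.H3.Whisker Groth.Agent.H3.FPtRel Groth.Agent.H3.AlgStPoints
  Groth.Agent.H3.AlgStBridge2 Groth.Agent.H3.AlgStCharts Groth.Agent.H3.BaseChangeSp
  Groth.Agent.H3.AlgStComp Groth.Agent.H3.AlgStProps Groth.Agent.H3.AlgStDescent
  Groth.Agent.H3.AlgStLES Groth.Agent.H3.AlgStLocQ Groth.Agent.H3.AlgStDiag
  Groth.Agent.H3.OpenSub Groth.Agent.H3.SetoidPsh Groth.Agent.H3.StackMore
  Groth.Agent.H3.AlgStDiagProp
open AlgSp

variable {S : Scheme.{u}}

section OverMap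

lemma overMap_comp_eq {V T U : Over S} (k : V ⟶ T) (c : T ⟶ U) :
    AlgSt.overMap (k ≫ c) = BasedFunctor.comp (AlgSt.overMap k) (AlgSt.overMap c) := by
  apply basedFunctor_ext
  exact Over.mapComp_eq k c

variable {𝒵 : AlgSt.Cat S}

/-- restriction of a lift of a chart along a morphism of schemes -/
def resIso {K V V' : Over S} (z : FibCat.overCat K ⥤ᵇ 𝒵) (s : V ⟶ K)
    (Y₁ : FibCat.overCat V ⥤ᵇ 𝒵) (ι : BasedFunctor.comp (AlgSt.overMap s) z ≅ Y₁) (m : V' ⟶ V) :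
    BasedFunctor.comp (AlgSt.overMap (m ≫ s)) z ≅ BasedFunctor.comp (AlgSt.overMap m) Y₁ :=
  eqToIso (by rw [overMap_comp_eq]; rfl) ≪≫ whiskerL (AlgSt.overMap m) ι

/-- switching a lift through `z` to a lift through `p₀`, over a scheme mapping to `W` -/
def switchIso {K₁ K₀ W V V' : Over S} (z : FibCat.overCat K₁ ⥤ᵇ 𝒵) (p₀ : FibCat.overCat K₀ ⥤ᵇ 𝒵)
    (tW : W ⟶ K₁) (cW : W ⟶ K₀)
    (ιW : BasedFunctor.comp (AlgSt.overMap tW) z ≅ BasedFunctor.comp (AlgSt.overMap cW) p₀)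
    (s : V ⟶ K₁) (Y₁ : FibCat.overCat V ⥤ᵇ 𝒵)
    (ι : BasedFunctor.comp (AlgSt.overMap s) z ≅ Y₁) (m : V' ⟶ V) (π : V' ⟶ W)
    (hm : m ≫ s = π ≫ tW) :
    BasedFunctor.comp (AlgSt.overMap (π ≫ cW)) p₀ ≅ BasedFunctor.comp (AlgSt.overMap m) Y₁ :=
  resIso p₀ cW (BasedFunctor.comp (AlgSt.overMap tW) z) ιW.symm π ≪≫
    eqToIso (by rw [hm, overMap_comp_eq]; rfl) ≪≫ resIso z s Y₁ ι m

end OverMap

section Covers

/-- a single fppf morphism of schemes is an fpqc covering -/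
theorem isFpqcCover_of_fppf {U V : Over S} (m : V ⟶ U) (h1 : Flat m.left)
    (h2 : LocallyOfFinitePresentation m.left) (h3 : Function.Surjective m.left) :
    IsFpqcCover (fun _ : PUnit.{u+1} => (yon S).obj V) (fun _ => (yon S).map m) :=
  Groth.Agent.H3.AlgSpCov.isFpqcCover_of_isFppfCover (IsAlgSpace.yon_obj U) _
    (fun _ => IsAlgSpace.yon_obj V) _
    (isFppfCover_yon (fun _ : PUnit.{u+1} => V) (fun _ => m) (fun _ => h1) (fun _ => h2)
      (fun t => ⟨PUnit.unit, h3 t⟩))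

/-- an affine flat surjective morphism of schemes is an fpqc covering -/
theorem isFpqcCover_of_affineHom {U V : Over S} (m : V ⟶ U) [IsAffineHom m.left] [Flat m.left]
    [Surjective m.left] :
    IsFpqcCover (fun _ : PUnit.{u+1} => (yon S).obj V) (fun _ => (yon S).map m) := by
  refine ⟨fun _ => (Groth.Agent.H5.AlgSp.locP_yon_map_iff
    Groth.Agent.H5.AlgSp.etale_le_flat m).2 inferInstance, ?_⟩
  intro Z hZ g
  obtain ⟨g', rfl⟩ := (yon S).map_surjective g
  haveI : IsAffine Z.left := hZ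
  have hh : m.left ≫ U.hom = V.hom := Over.w m
  have hg : g'.left ≫ U.hom = Z.hom := Over.w g'
  have e1 : pullback.snd g'.left m.left ≫ V.hom = pullback.fst g'.left m.left ≫ Z.hom := by
    calc pullback.snd g'.left m.left ≫ V.hom
        = (pullback.snd g'.left m.left ≫ m.left) ≫ U.hom := by rw [Category.assoc, hh]
      _ = (pullback.fst g'.left m.left ≫ g'.left) ≫ U.hom := by rw [pullback.condition]
      _ = pullback.fst g'.left m.left ≫ Z.hom := by rw [Category.assoc, hg]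
  haveI : IsAffineHom (pullback.fst g'.left m.left) :=
    MorphismProperty.pullback_fst (P := @IsAffineHom) _ _ inferInstance
  refine ⟨1, fun _ => Over.mk (pullback.fst g'.left m.left ≫ Z.hom),
    fun _ => Over.homMk (pullback.fst g'.left m.left) (by rfl), ?_, ?_, ?_, ?_⟩
  · intro _
    show IsAffine (pullback g'.left m.left)
    exact isAffine_of_isAffineHom (pullback.fst g'.left m.left)
  · intro _
    show Flat (pullback.fst g'.left m.left)
    infer_instance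
  · intro z
    obtain ⟨w, hw⟩ := (inferInstance : Surjective (pullback.fst g'.left m.left)).surj z
    exact ⟨0, w, hw⟩
  · intro _
    refine ⟨PUnit.unit, (yon S).map (Over.homMk (pullback.snd g'.left m.left) e1), ?_⟩
    show (yon S).map _ ≫ (yon S).map m = (yon S).map _ ≫ (yon S).map g'
    rw [← Functor.map_comp, ← Functor.map_comp]
    congr 1
    apply Over.OverMorphism.ext
    show pullback.snd g'.left m.left ≫ m.left = pullback.fst g'.left m.left ≫ g'.left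
    exact pullback.condition.symm

/-- base change of an affine flat surjective morphism `W ⟶ K` along any `V ⟶ K` -/
theorem exists_affine_cover {K W V : Over S} (tW : W ⟶ K) [IsAffineHom tW.left] [Flat tW.left]
    [Surjective tW.left] (s : V ⟶ K) :
    ∃ (V' : Over S) (m : V' ⟶ V) (π : V' ⟶ W),
      IsFpqcCover (fun _ : PUnit.{u+1} => (yon S).obj V') (fun _ => (yon S).map m) ∧
        m ≫ s = π ≫ tW := by
  have e1 : pullback.snd s.left tW.left ≫ W.hom = pullback.fst s.left tW.left ≫ V.hom := by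
    calc pullback.snd s.left tW.left ≫ W.hom
        = (pullback.snd s.left tW.left ≫ tW.left) ≫ K.hom := by rw [Category.assoc, Over.w tW]
      _ = (pullback.fst s.left tW.left ≫ s.left) ≫ K.hom := by rw [pullback.condition]
      _ = pullback.fst s.left tW.left ≫ V.hom := by rw [Category.assoc, Over.w s]
  obtain ⟨V', hV'⟩ : ∃ V' : Over S, V' = Over.mk (pullback.fst s.left tW.left ≫ V.hom) :=
    ⟨_, rfl⟩
  subst hV'
  let m : Over.mk (pullback.fst s.left tW.left ≫ V.hom) ⟶ V :=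
    Over.homMk (pullback.fst s.left tW.left) (by rfl)
  let π : Over.mk (pullback.fst s.left tW.left ≫ V.hom) ⟶ W :=
    Over.homMk (pullback.snd s.left tW.left) e1
  haveI : IsAffineHom m.left :=
    (MorphismProperty.pullback_fst (P := @IsAffineHom) _ _ inferInstance :
      IsAffineHom (pullback.fst s.left tW.left))
  haveI : Flat m.left := (inferInstance : Flat (pullback.fst s.left tW.left))
  haveI : Surjective m.left := (inferInstance : Surjective (pullback.fst s.left tW.left))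
  refine ⟨_, m, π, isFpqcCover_of_affineHom m, ?_⟩
  apply Over.OverMorphism.ext
  exact pullback.condition

end Covers

section Good

variable {𝒳 𝒲 : AlgSt.Cat S}

/-- fpqc descent, one chart at a time -/
theorem good_of_cover (P : MorphismProperty (Sp S)) (hPb : BaseChangeSp P) (hPc : OfCharts P)
    (hP : IsLocalOnBase (IsFpqcCover (S := S)) P) (f : 𝒳 ⥤ᵇ 𝒲) (hf : AlgSt.RepByAlgSp1 f)
    {U V : Over S} (Y : FibCat.overCat U ⥤ᵇ 𝒲) (m : V ⟶ U)
    (hcov : IsFpqcCover (fun _ : PUnit.{u+1} => (yon S).obj V) (fun _ => (yon S).map m))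
    (hgood : AlgSt.RepByAlgSpWith P
      (FibCat.fpFst (BasedFunctor.comp (AlgSt.overMap m) Y) f)) :
    AlgSt.RepByAlgSpWith P (FibCat.fpFst Y f) := by
  obtain ⟨F, e, he⟩ := hf U Y
  have hloc : AlgSt.RepByAlgSpWith P (FibCat.fpFst (AlgSt.overMap m) (FibCat.fpFst Y f)) := by
    let ε : BasedFunctor.comp (FibCat.fpFst (AlgSt.overMap m) (FibCat.fpFst Y f))
        (BasedFunctor.id _) ≅ BasedFunctor.comp (pasteL (AlgSt.overMap m) Y f)
          (FibCat.fpFst (BasedFunctor.comp (AlgSt.overMap m) Y) f) := Iso.refl _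
    exact repByAlgSpWith_of_square _ _ _ (pasteL (AlgSt.overMap m) Y f) (BasedFunctor.id _)
      (isEquivOver_pasteL (AlgSt.overMap m) Y f) isEquivOver_id ε hgood
  have hb := Groth.Agent.H3.ResGerbFactor.spMapOfOver_of_fpqc P hPb hPc hP (FibCat.fpFst Y f) F e
    he m hcov hloc
  rw [← repByAlgSpWith_comp_equiv_iff _ e he, repByAlgSpWith_iff_spMapOfOver _ hPb hPc F]
  exact hb

/-- a 1-morphism has `P` as soon as all its base changes to schemes do -/
theorem rep_of_forall_good (P : MorphismProperty (Sp S)) (hPb : BaseChangeSp P) (hPc : OfCharts P)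
    (f : 𝒳 ⥤ᵇ 𝒲) (hf : AlgSt.RepByAlgSp1 f)
    (h : ∀ (U : Over S) (Y : FibCat.overCat U ⥤ᵇ 𝒲), AlgSt.RepByAlgSpWith P (FibCat.fpFst Y f)) :
    AlgSt.RepByAlgSpWith P f := by
  intro U Y
  obtain ⟨F, e, he⟩ := hf U Y
  refine ⟨F, e, he, ?_⟩
  exact (repByAlgSpWith_iff_spMapOfOver P hPb hPc F _).1
    ((repByAlgSpWith_comp_equiv_iff P e he _).2 (h U Y))

end Good

section Lift

variable {𝒵 : AlgSt.Cat S}

/-- a chart of a stack with an fppf cover `z` from a scheme lifts through `z` after an fppf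
covering by one scheme -/
theorem exists_fppf_lift (h𝒵 : AlgSt.IsAlgStack Scheme.fppfPrecoverage 𝒵) {K : Over S}
    (z : FibCat.overCat K ⥤ᵇ 𝒵)
    (hzp : AlgSt.RepByAlgSpWith (AlgSp.LocP @LocallyOfFinitePresentation) z)
    (hzs : AlgSt.RepByAlgSpWith AlgSp.IsSurjectiveMor z)
    (hzf : AlgSt.RepByAlgSpWith (AlgSp.LocP @Flat) z) {U : Over S}
    (Y₁ : FibCat.overCat U ⥤ᵇ 𝒵) :
    ∃ (T : Over S) (c : T ⟶ U) (t : T ⟶ K),
      IsFpqcCover (fun _ : PUnit.{u+1} => (yon S).obj T) (fun _ => (yon S).map c) ∧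
      Nonempty (BasedFunctor.comp (AlgSt.overMap t) z ≅
        BasedFunctor.comp (AlgSt.overMap c) Y₁) := by
  have g𝒵 := h𝒵.isStack.1
  obtain ⟨G, e, he⟩ := repByAlgSp_fp_of_diag g𝒵 h𝒵.diag Y₁ z
    (AlgStDiagLft.repByAlgSp_overCat U) (AlgStDiagLft.repByAlgSp_overCat _)
  obtain ⟨T, q, c, t, hqe, hqs, hc, ht, hι, -⟩ :=
    exists_scheme_chart_fp_scheme g𝒵 K z U Y₁ G e he
  have hb1 := fst_prop _ good_flat.bc good_flat.toC.charts z hzf U Y₁ G e he
  have hb2 := fst_prop _ good_isSurjectiveMor.bc good_isSurjectiveMor.toC.charts z hzs U Y₁ G e he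
  have hb4 := fst_prop _ good_lfp.bc good_lfp.toC.charts z hzp U Y₁ G e he
  have hc1 : Flat c.left := prop_of_chart q _ c hc hqe hb1
  have hc2 : Function.Surjective c.left := surjective_of_chart q _ c hc hqs hb2
  have hc4 : LocallyOfFinitePresentation c.left := prop_of_chart q _ c hc hqe hb4
  exact ⟨T, c, t, isFpqcCover_of_fppf c hc1 hc4 hc2, hι⟩

end Lift

section Factor

lemma cancel_aux {D : Type*} [Category D] {X Y Z W : D} (A : X ⟶ Y) (B : Y ⟶ Z) (C : Z ⟶ W)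
    (C' : W ⟶ Z) (h : C ≫ C' = 𝟙 _) : A ≫ B = (A ≫ B ≫ C) ≫ C' := by
  rw [Category.assoc, Category.assoc, h, Category.comp_id]

variable {𝒜 ℬ 𝒵 𝒴 𝒯 : AlgSt.Cat S}

/-- a chart of `𝒵 ×_𝒴 𝒵` whose components lift to `𝒜` and `ℬ` factors through `𝒜 ×_𝒴 ℬ` -/
theorem exists_factor_magicR (a : 𝒜 ⥤ᵇ 𝒵) (b : ℬ ⥤ᵇ 𝒵) (t : 𝒵 ⥤ᵇ 𝒴)
    (Y : 𝒯 ⥤ᵇ FibCat.fp t t) (uu : 𝒯 ⥤ᵇ 𝒜) (vv : 𝒯 ⥤ᵇ ℬ)
    (ι₁ : BasedFunctor.comp uu a ≅ BasedFunctor.comp Y (FibCat.fpFst t t))
    (ι₂ : BasedFunctor.comp vv b ≅ BasedFunctor.comp Y (FibCat.fpSnd t t)) :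
    ∃ yy : 𝒯 ⥤ᵇ FibCat.fp (BasedFunctor.comp a t) (BasedFunctor.comp b t),
      Nonempty (BasedFunctor.comp yy (magicR a b t) ≅ Y) := by
  let β : BasedFunctor.comp uu (BasedFunctor.comp a t) ≅
      BasedFunctor.comp vv (BasedFunctor.comp b t) :=
    whiskerR ι₁ t ≪≫ whiskerL Y (FibCat.fpIso t t) ≪≫ (whiskerR ι₂ t).symm
  refine ⟨FibCat.fpLift uu vv β, ⟨fpFunctorIso _ _ ι₁ ι₂ ?_⟩⟩
  intro w
  show t.map (appIso ι₁ w).hom ≫ (Y.obj w).obj.iso.hom =
    (t.map (appIso ι₁ w).hom ≫ (Y.obj w).obj.iso.hom ≫ t.map (appIso ι₂ w).inv) ≫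
      t.map (appIso ι₂ w).hom
  exact cancel_aux _ _ _ _ (t.toFunctor.mapIso (appIso ι₂ w)).inv_hom_id

end Factor

section Magic

variable {𝒦 𝒵 𝒴 : AlgSt.Cat S}

/-- if the comparison `𝒦 ×_𝒵 𝒦 ⟶ 𝒦 ×_𝒴 𝒦` is an equivalence, then the base change of the
diagonal of `h` to `𝒦 ×_𝒴 𝒦` is an isomorphism -/
theorem hmag (p₀ : 𝒦 ⥤ᵇ 𝒵) (h : 𝒵 ⥤ᵇ 𝒴)
    (hI : FibCat.IsEquivOver (magicI p₀ p₀ h (magicIso p₀ p₀ h))) :
    AlgSt.RepByAlgSpWith (MorphismProperty.isomorphisms (Sp S))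
      (FibCat.fpFst (magicR p₀ p₀ h) (FibCat.diag h)) := by
  have hI' : AlgSt.RepByAlgSpWith (MorphismProperty.isomorphisms (Sp S))
      (magicI p₀ p₀ h (magicIso p₀ p₀ h)) :=
    repByAlgSpWith_of_isEquivOver _ (fun X => (inferInstance : IsIso (𝟙 X))) _ hI
  let ε : BasedFunctor.comp (magicI p₀ p₀ h (magicIso p₀ p₀ h)) (BasedFunctor.id _) ≅
      BasedFunctor.comp
        (FibCat.fpLift (magicI p₀ p₀ h (magicIso p₀ p₀ h)) (magicL p₀ p₀)
          (magicE p₀ p₀ h (magicIso p₀ p₀ h) (fun W => magicIso_app p₀ p₀ h W)))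
        (FibCat.fpFst (magicR p₀ p₀ h) (FibCat.diag h)) := Iso.refl _
  exact repByAlgSpWith_of_square' _ _ _ _ (BasedFunctor.id _)
    (magic_isTwoCartOver p₀ p₀ h (magicIso p₀ p₀ h) (fun W => magicIso_app p₀ p₀ h W))
    isEquivOver_id ε hI'

end Magic

section Transfer

variable {𝒦 𝒵 𝒳 𝒴 : AlgSt.Cat S}

/-- transfer of the hypothesis of S16815 along a fully faithful `j : 𝒵 ⟶ 𝒳` -/
theorem isEquivOver_magicI_of (j : 𝒵 ⥤ᵇ 𝒳) [j.toFunctor.Full] [j.toFunctor.Faithful]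
    (f : 𝒳 ⥤ᵇ 𝒴) (p₀ : 𝒦 ⥤ᵇ 𝒵)
    (e : BasedFunctor.comp (FibCat.fpFst (BasedFunctor.comp p₀ j) (BasedFunctor.comp p₀ j))
        (BasedFunctor.comp (BasedFunctor.comp p₀ j) f) ≅
      BasedFunctor.comp (FibCat.fpSnd (BasedFunctor.comp p₀ j) (BasedFunctor.comp p₀ j))
        (BasedFunctor.comp (BasedFunctor.comp p₀ j) f))
    (he : ∀ c, e.hom.toNatTrans.app c = f.map c.obj.iso.hom)
    (hiso : FibCat.IsEquivOver (FibCat.fpLift
      (FibCat.fpFst (BasedFunctor.comp p₀ j) (BasedFunctor.comp p₀ j))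
      (FibCat.fpSnd (BasedFunctor.comp p₀ j) (BasedFunctor.comp p₀ j)) e)) :
    FibCat.IsEquivOver (magicI p₀ p₀ (BasedFunctor.comp j f)
      (magicIso p₀ p₀ (BasedFunctor.comp j f))) := by
  let α : BasedFunctor.comp p₀ j ≅
      BasedFunctor.comp (BasedFunctor.id 𝒦) (BasedFunctor.comp p₀ j) := Iso.refl _
  let N := fpMap (F' := p₀) (G' := p₀) (F := BasedFunctor.comp p₀ j)
    (G := BasedFunctor.comp p₀ j) (BasedFunctor.id 𝒦) (BasedFunctor.id 𝒦) j α α
  have hN : FibCat.IsEquivOver N := isEquivOver_fpMap _ _ _ _ _ isEquivOver_id isEquivOver_id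
  have h1 : FibCat.IsEquivOver (BasedFunctor.comp N (FibCat.fpLift
      (FibCat.fpFst (BasedFunctor.comp p₀ j) (BasedFunctor.comp p₀ j))
      (FibCat.fpSnd (BasedFunctor.comp p₀ j) (BasedFunctor.comp p₀ j)) e)) :=
    isEquivOver_comp _ _ hN hiso
  have hobj : ∀ w : (FibCat.fp p₀ p₀).obj,
      e.hom.toNatTrans.app (N.obj w) = f.map (j.map w.obj.iso.hom) := by
    intro w
    rw [he, fpMap_obj_iso_hom]
    show f.map (𝟙 _ ≫ j.map w.obj.iso.hom ≫ 𝟙 _) = _
    rw [Category.id_comp, Category.comp_id]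
  refine isEquivOver_of_iso (F := BasedFunctor.comp N (FibCat.fpLift
      (FibCat.fpFst (BasedFunctor.comp p₀ j) (BasedFunctor.comp p₀ j))
      (FibCat.fpSnd (BasedFunctor.comp p₀ j) (BasedFunctor.comp p₀ j)) e)) ?_ h1
  refine fpFunctorIso _ _ (Iso.refl _) (Iso.refl _) ?_
  intro w
  show (BasedFunctor.comp (BasedFunctor.comp p₀ j) f).map (𝟙 _) ≫
      (BasedFunctor.comp j f).map w.obj.iso.hom =
    e.hom.toNatTrans.app (N.obj w) ≫ (BasedFunctor.comp (BasedFunctor.comp p₀ j) f).map (𝟙 _)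
  rw [hobj]
  have m1 : ∀ x : 𝒦.obj, (BasedFunctor.comp (BasedFunctor.comp p₀ j) f).map (𝟙 x) = 𝟙 _ :=
    fun x => (BasedFunctor.comp (BasedFunctor.comp p₀ j) f).toFunctor.map_id x
  rw [m1, m1]
  exact (Category.id_comp _).trans (Category.comp_id _).symm

end Transfer

end Groth.Agent.H3.ResGerbIso
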