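import Mathlib
import Groth.Prelude.Def_StGerb
import Groth.Agent.Lib.Helper3.AlgSt.ImmSub
import Groth.Agent.Lib.Helper3.AlgSt.Points.Homeo

/-!
# A one-point reduced locally Noetherian stack mapping by a monomorphism is the residual gerbe
(helper3)
-/

set_option autoImplicit false
universe u
open CategoryTheory CategoryTheory.Functor CategoryTheory.Limits Opposite AlgebraicGeometry

noncomputable section

namespace Groth.Agent.H3.ResGerbSingle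

open Groth.Agent.H3.FibCatAux Groth.Agent.H3.GerbAux Groth.Agent.H3.FpCalc Groth.Agent.H3.TwoCart
  Groth.Agent.H3.StackPsh Groth.Agent.H3.PshBridge Groth.Agent.H3.AlgStAux Groth.Agent.H3.RepBridge
  Groth.Agent.H3.Whisker Groth.Agent.H3.FPtRel Groth.Agent.H3.AlgStPoints
  Groth.Agent.H3.AlgStBridge2 Groth.Agent.H3.AlgStCharts Groth.Agent.H3.OpenSub

variable {S : Scheme.{u}}

/-- smooth-local properties of stacks are invariant under equivalence -/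
theorem smoothLocally_of_isEquivOver (P : Scheme.{u} → Prop) {𝒳 𝒴 : AlgSt.Cat S} (e : 𝒳 ⥤ᵇ 𝒴)
    (he : FibCat.IsEquivOver e) (h : AlgSt.SmoothLocally P 𝒳) : AlgSt.SmoothLocally P 𝒴 := by
  intro U x hx
  obtain ⟨e', he', ⟨α⟩, ⟨β⟩⟩ := isEquivOver_symm he
  refine h U (BasedFunctor.comp x e') ?_
  exact repByAlgSpWith_of_square _ x (BasedFunctor.comp x e') (BasedFunctor.id _) e
    isEquivOver_id he (whiskerL x β) hx

/-- **Main theorem** (S16812) -/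
theorem main {𝒳 : AlgSt.Cat S} (h𝒳 : AlgSt.IsAlgStack Scheme.fppfPrecoverage 𝒳)
    (x : AlgSt.Points 𝒳)
    (𝒵 : AlgSt.Cat S) (h𝒵 : AlgSt.IsAlgStack Scheme.fppfPrecoverage 𝒵)
    (hred : AlgSt.SmoothLocally (fun T => IsReduced T) 𝒵)
    (hnoeth : AlgSt.SmoothLocally (fun T => IsLocallyNoetherian T) 𝒵)
    (hne : Nonempty (AlgSt.Points 𝒵)) (hsub : Subsingleton (AlgSt.Points 𝒵))
    (f : 𝒵 ⥤ᵇ 𝒳) (hf : AlgSt.IsMono f) (hfx : ∀ p : AlgSt.Points 𝒵, AlgSt.Points.map f p = x) :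
    ∃ Q : 𝒳.obj → Prop, Gerb.IsResGerbe Scheme.fppfPrecoverage 𝒳 x Q ∧
      ∃ e : 𝒵 ⥤ᵇ AlgSt.fullSub 𝒳 Q, FibCat.IsEquivOver e ∧
        Nonempty (BasedFunctor.comp e (AlgSt.subIncl 𝒳 Q) ≅ f) := by
  have he := isEquivOver_liftSub_essIm h𝒵.isStack.1 h𝒳.isStack.1 f hf
  obtain ⟨ee, hee⟩ : ∃ ee : 𝒵 ⥤ᵇ AlgSt.fullSub 𝒳 (essIm f),
      ee = liftSub (essIm f) f (fun z => ⟨z, ⟨Iso.refl _⟩⟩) := ⟨_, rfl⟩
  rw [← hee] at he
  have hcomp : BasedFunctor.comp ee (AlgSt.subIncl 𝒳 (essIm f)) = f := by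
    rw [hee]; exact liftSub_comp _ _ _
  have hQ : AlgSt.IsAlgStack Scheme.fppfPrecoverage (AlgSt.fullSub 𝒳 (essIm f)) :=
    isAlgStack_of_isEquivOver _ he h𝒵
  have hbij := (isHomeomorph_of_isEquivOver h𝒵 hQ ee he).bijective
  refine ⟨essIm f, ⟨essIm_closedUnderIso f, hQ, smoothLocally_of_isEquivOver _ ee he hred,
    smoothLocally_of_isEquivOver _ ee he hnoeth, ?_, ?_, ?_⟩, ee, he, ⟨eqToIso hcomp⟩⟩
  · obtain ⟨p⟩ := hne
    exact ⟨AlgSt.Points.map ee p⟩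
  · constructor
    intro a b
    obtain ⟨a', rfl⟩ := hbij.2 a
    obtain ⟨b', rfl⟩ := hbij.2 b
    rw [Subsingleton.elim a' b']
  · intro z
    obtain ⟨z', rfl⟩ := hbij.2 z
    rw [← points_map_comp, hcomp]
    exact hfx z'

end Groth.Agent.H3.ResGerbSingle
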