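import Mathlib
import Groth.Agent.Lib.Helper3.ResGerbIsoA
import Groth.Agent.Lib.Helper3.ResGerbSingle
import Groth.Agent.Lib.Helper3.AlgSt.ImmSub

/-!
# The comparison of residual gerbes is an equivalence (helper3)

Let `f : 𝒳 ⟶ 𝒴`, `𝒵_x ⊆ 𝒳` and `𝒵_y ⊆ 𝒴` the residual gerbes at `x` and `y = f(x)`, and
`p₀ : Spec k ⟶ 𝒵_x` a field point such that `Spec k ×_𝒳 Spec k ⟶ Spec k ×_𝒴 Spec k` is an
equivalence.  Then `h : 𝒵_x ⟶ 𝒴` is fully faithful: the base change of the diagonal of `h` along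
`Spec k ×_𝒴 Spec k ⟶ 𝒵_x ×_𝒴 𝒵_x` is an isomorphism (magic square), every chart of `𝒵_x ×_𝒴 𝒵_x`
factors through it after two fppf and two affine flat surjective coverings, and isomorphisms
descend along fpqc coverings.  The essential image of `h` is then a residual gerbe at `y`, hence
is `𝒵_y`.
-/

set_option autoImplicit false
universe u
open CategoryTheory CategoryTheory.Functor CategoryTheory.Limits Opposite AlgebraicGeometry

noncomputable section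

namespace Groth.Agent.H3.ResGerbIso

open Groth.Agent.H3.FibCatAux Groth.Agent.H3.GerbAux Groth.Agent.H3.FpCalc Groth.Agent.H3.TwoCart
  Groth.Agent.H3.StackPsh Groth.Agent.H3.PshBridge Groth.Agent.H3.AlgStAux Groth.Agent.H3.RepBridge
  Groth.Agent.H3.Whisker Groth.Agent.H3.FPtRel Groth.Agent.H3.AlgStPoints
  Groth.Agent.H3.AlgStBridge2 Groth.Agent.H3.AlgStCharts Groth.Agent.H3.BaseChangeSp
  Groth.Agent.H3.AlgStComp Groth.Agent.H3.AlgStProps Groth.Agent.H3.AlgStDescent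
  Groth.Agent.H3.AlgStLES Groth.Agent.H3.AlgStLocQ Groth.Agent.H3.AlgStDiag
  Groth.Agent.H3.OpenSub Groth.Agent.H3.SetoidPsh Groth.Agent.H3.StackMore
  Groth.Agent.H3.AlgStDiagProp
open AlgSp

variable {S : Scheme.{u}}

section Descent

variable {𝒵 𝒴 : AlgSt.Cat S}

/-- the diagonal of `h` is (representably) an isomorphism as soon as its base change to
`𝒦₀ ×_𝒴 𝒦₀` is, for a field-like point `p₀` which is fpqc locally a restriction of the fppf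
cover `z` -/
theorem rep_iso_diag (h𝒵 : AlgSt.IsAlgStack Scheme.fppfPrecoverage 𝒵)
    (h𝒴 : AlgSt.IsAlgStack Scheme.fppfPrecoverage 𝒴) (h : 𝒵 ⥤ᵇ 𝒴)
    {K₁ K₀ W : Over S} (z : FibCat.overCat K₁ ⥤ᵇ 𝒵)
    (hzp : AlgSt.RepByAlgSpWith (AlgSp.LocP @LocallyOfFinitePresentation) z)
    (hzs : AlgSt.RepByAlgSpWith AlgSp.IsSurjectiveMor z)
    (hzf : AlgSt.RepByAlgSpWith (AlgSp.LocP @Flat) z)
    (p₀ : FibCat.overCat K₀ ⥤ᵇ 𝒵) (tW : W ⟶ K₁) (cW : W ⟶ K₀) [IsAffineHom tW.left]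
    [Flat tW.left] [Surjective tW.left]
    (ιW : BasedFunctor.comp (AlgSt.overMap tW) z ≅ BasedFunctor.comp (AlgSt.overMap cW) p₀)
    (Hmag : AlgSt.RepByAlgSpWith (MorphismProperty.isomorphisms (Sp S))
      (FibCat.fpFst (magicR p₀ p₀ h) (FibCat.diag h))) :
    AlgSt.RepByAlgSpWith (MorphismProperty.isomorphisms (Sp S)) (FibCat.diag h) := by
  have hΔ : AlgSt.RepByAlgSp1 (FibCat.diag h) :=
    AlgStDiagLft.repByAlgSp1_diag_of_algStack h𝒵 h𝒴 h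
  have gb := (Groth.Agent.H3.MonoField.good_isomorphisms (S := S)).bc
  have gc := (Groth.Agent.H3.MonoField.good_isomorphisms (S := S)).toC.charts
  have gl := Groth.Agent.H3.AlgSpCov.isLocalOnBase_fpqc_isomorphisms (S := S)
  refine rep_of_forall_good _ gb gc (FibCat.diag h) hΔ ?_
  intro U Y
  obtain ⟨T₁, c₁, t₁, hcov₁, ⟨ι₁⟩⟩ := exists_fppf_lift h𝒵 z hzp hzs hzf
    (BasedFunctor.comp Y (FibCat.fpFst h h))
  refine good_of_cover _ gb gc gl (FibCat.diag h) hΔ Y c₁ hcov₁ ?_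
  obtain ⟨T₂, c₂, t₂, hcov₂, ⟨ι₂⟩⟩ := exists_fppf_lift h𝒵 z hzp hzs hzf
    (BasedFunctor.comp (BasedFunctor.comp (AlgSt.overMap c₁) Y) (FibCat.fpSnd h h))
  refine good_of_cover _ gb gc gl (FibCat.diag h) hΔ
    (BasedFunctor.comp (AlgSt.overMap c₁) Y) c₂ hcov₂ ?_
  let κ₁ := resIso z t₁ _ ι₁ c₂
  obtain ⟨V₁, m₁, π₁, hcov₃, hm₁⟩ := exists_affine_cover tW (c₂ ≫ t₁)
  refine good_of_cover _ gb gc gl (FibCat.diag h) hΔ
    (BasedFunctor.comp (AlgSt.overMap c₂) (BasedFunctor.comp (AlgSt.overMap c₁) Y)) m₁ hcov₃ ?_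
  let l₁ := switchIso z p₀ tW cW ιW (c₂ ≫ t₁) _ κ₁ m₁ π₁ hm₁
  let μ₂ := resIso z t₂ _ ι₂ m₁
  obtain ⟨V₂, m₂, π₂, hcov₄, hm₂⟩ := exists_affine_cover tW (m₁ ≫ t₂)
  refine good_of_cover _ gb gc gl (FibCat.diag h) hΔ
    (BasedFunctor.comp (AlgSt.overMap m₁)
      (BasedFunctor.comp (AlgSt.overMap c₂) (BasedFunctor.comp (AlgSt.overMap c₁) Y))) m₂ hcov₄ ?_
  let l₁' := resIso p₀ (π₁ ≫ cW) _ l₁ m₂
  let l₂ := switchIso z p₀ tW cW ιW (m₁ ≫ t₂) _ μ₂ m₂ π₂ hm₂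
  obtain ⟨yy, ⟨ιy⟩⟩ := exists_factor_magicR p₀ p₀ h
    (BasedFunctor.comp (AlgSt.overMap m₂) (BasedFunctor.comp (AlgSt.overMap m₁)
      (BasedFunctor.comp (AlgSt.overMap c₂) (BasedFunctor.comp (AlgSt.overMap c₁) Y))))
    (AlgSt.overMap (m₂ ≫ π₁ ≫ cW)) (AlgSt.overMap (π₂ ≫ cW)) l₁' l₂
  exact repByAlgSpWith_fpFst_of_factor _ (FibCat.diag h) (magicR p₀ p₀ h) _ yy ιy Hmag

end Descent

section EssIm

variable {𝒵 𝒳 : AlgSt.Cat S}

/-- a fully faithful 1-morphism is an equivalence onto its essential image -/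
theorem isEquivOver_liftSub_essIm' (h𝒵 : FibCat.IsFibGrpd 𝒵.p) (i : 𝒵 ⥤ᵇ 𝒳)
    [i.toFunctor.Full] [i.toFunctor.Faithful] :
    FibCat.IsEquivOver (liftSub (essIm i) i (fun z => ⟨z, ⟨Iso.refl _⟩⟩)) := by
  have h1 : (liftSub (essIm i) i (fun z => ⟨z, ⟨Iso.refl _⟩⟩)).toFunctor.Full :=
    inferInstanceAs (ObjectProperty.lift (essIm i) i.toFunctor _).Full
  have h2 : (liftSub (essIm i) i (fun z => ⟨z, ⟨Iso.refl _⟩⟩)).toFunctor.Faithful :=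
    inferInstanceAs (ObjectProperty.lift (essIm i) i.toFunctor _).Faithful
  have h3 : (liftSub (essIm i) i (fun z => ⟨z, ⟨Iso.refl _⟩⟩)).toFunctor.EssSurj := by
    refine ⟨fun x => ?_⟩
    obtain ⟨z, ⟨ε⟩⟩ := x.property
    exact ⟨z, ⟨(ObjectProperty.ι (essIm i)).preimageIso ε⟩⟩
  have : (liftSub (essIm i) i (fun z => ⟨z, ⟨Iso.refl _⟩⟩)).toFunctor.IsEquivalence := {}
  exact isEquivOver_of_isEquivalence _ (liftsIsos_of_isFibGrpd h𝒵)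

end EssIm

section Final

variable {𝒳 𝒴 : AlgSt.Cat S} (f : 𝒳 ⥤ᵇ 𝒴) (Q : 𝒳.obj → Prop)

local notation "𝔥" => BasedFunctor.comp (AlgSt.subIncl 𝒳 Q) f

/-- **S16815 (core)** -/
theorem main (h𝒴 : AlgSt.IsAlgStack Scheme.fppfPrecoverage 𝒴) (x : AlgSt.Points 𝒳)
    (hQ : Gerb.IsResGerbe Scheme.fppfPrecoverage 𝒳 x Q)
    (Q' : 𝒴.obj → Prop)
    (hQ' : Gerb.IsResGerbe Scheme.fppfPrecoverage 𝒴 (AlgSt.Points.map f x) Q')
    (k : Type u) [Field k] (a : Spec (CommRingCat.of k) ⟶ S)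
    (p₀ : FibCat.overCat (Over.mk a) ⥤ᵇ AlgSt.fullSub 𝒳 Q)
    (e : BasedFunctor.comp
        (FibCat.fpFst (BasedFunctor.comp p₀ (AlgSt.subIncl 𝒳 Q))
          (BasedFunctor.comp p₀ (AlgSt.subIncl 𝒳 Q)))
        (BasedFunctor.comp (BasedFunctor.comp p₀ (AlgSt.subIncl 𝒳 Q)) f) ≅
      BasedFunctor.comp
        (FibCat.fpSnd (BasedFunctor.comp p₀ (AlgSt.subIncl 𝒳 Q))
          (BasedFunctor.comp p₀ (AlgSt.subIncl 𝒳 Q)))
        (BasedFunctor.comp (BasedFunctor.comp p₀ (AlgSt.subIncl 𝒳 Q)) f))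
    (he : ∀ c, e.hom.toNatTrans.app c = f.map c.obj.iso.hom)
    (hiso : FibCat.IsEquivOver (FibCat.fpLift
      (FibCat.fpFst (BasedFunctor.comp p₀ (AlgSt.subIncl 𝒳 Q))
        (BasedFunctor.comp p₀ (AlgSt.subIncl 𝒳 Q)))
      (FibCat.fpSnd (BasedFunctor.comp p₀ (AlgSt.subIncl 𝒳 Q))
        (BasedFunctor.comp p₀ (AlgSt.subIncl 𝒳 Q))) e))
    (hall : ∀ ξ : (AlgSt.fullSub 𝒳 Q).obj, Q' ((𝔥).obj ξ)) :
    FibCat.IsEquivOver (liftSub Q' 𝔥 hall) := by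
  have hQ'' := hQ'
  have hQ0 := hQ
  obtain ⟨hQi, hQalg, hred, hnoeth, hne, hsub, hmap⟩ := hQ0
  obtain ⟨hQi', hQalg', -, -, -, -, -⟩ := hQ''
  have g𝒵 := hQalg.isStack.1
  have g𝒴 := h𝒴.isStack.1
  obtain ⟨k₁, hk₁, a₁, z, hzp, hzs, hzf⟩ :=
    (Groth.Agent.H3.FieldCover.main2 hQalg).1 ⟨hred, hnoeth, hne, hsub⟩
  haveI : (AlgSt.subIncl 𝒳 Q).toFunctor.Full := inferInstanceAs (ObjectProperty.ι Q).Full
  haveI : (AlgSt.subIncl 𝒳 Q).toFunctor.Faithful :=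
    inferInstanceAs (ObjectProperty.ι Q).Faithful
  -- the chart comparing `p₀` and `z`
  haveI : Subsingleton ↥(Over.mk a₁).left := inferInstanceAs (Subsingleton (PrimeSpectrum k₁))
  haveI : IsIntegral (Over.mk a₁).left :=
    inferInstanceAs (IsIntegral (Spec (CommRingCat.of k₁)))
  haveI : IsAffine (Over.mk a₁).left := inferInstanceAs (IsAffine (Spec (CommRingCat.of k₁)))
  have hne1 : Nonempty ↥(Over.mk a).left := inferInstanceAs (Nonempty (PrimeSpectrum k))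
  have hne2 : Nonempty ↥(Over.mk a₁).left := inferInstanceAs (Nonempty (PrimeSpectrum k₁))
  obtain ⟨u₀⟩ := hne1
  obtain ⟨v₀⟩ := hne2
  obtain ⟨F, e', he'⟩ := repByAlgSp_fp_of_diag g𝒵 hQalg.diag p₀ z
    (AlgStDiagLft.repByAlgSp_overCat _) (AlgStDiagLft.repByAlgSp_overCat _)
  obtain ⟨T, q, c, t, hqe, hqs, hc, ht, ⟨ι⟩, hpts⟩ :=
    exists_scheme_chart_fp_scheme g𝒵 (Over.mk a₁) z (Over.mk a) p₀ F e' he'
  obtain ⟨τ₀, -, -⟩ := hpts u₀ v₀ (Subsingleton.elim _ _)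
  obtain ⟨W, hWaff, hτW, -⟩ :=
    exists_isAffineOpen_mem_and_subset (x := τ₀) (U := (⊤ : T.left.Opens)) trivial
  obtain ⟨iW, hiW⟩ : ∃ iW : Over.mk (W.ι ≫ T.hom) ⟶ T, iW.left = W.ι :=
    ⟨Over.homMk W.ι (by rfl), rfl⟩
  haveI : IsAffine (Over.mk (W.ι ≫ T.hom)).left := hWaff
  haveI : IsAffineHom (iW ≫ t).left := inferInstance
  haveI : Flat (iW ≫ t).left := inferInstance
  haveI : Surjective (iW ≫ t).left := ⟨fun v => ⟨⟨τ₀, hτW⟩, Subsingleton.elim _ _⟩⟩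
  let ιW : BasedFunctor.comp (AlgSt.overMap (iW ≫ t)) z ≅
      BasedFunctor.comp (AlgSt.overMap (iW ≫ c)) p₀ :=
    resIso z t _ ι iW ≪≫ eqToIso (by rw [overMap_comp_eq]; rfl)
  -- the diagonal of `𝔥` is an equivalence
  have hI := isEquivOver_magicI_of (AlgSt.subIncl 𝒳 Q) f p₀ e he hiso
  have Hmag := hmag p₀ 𝔥 hI
  have hrep := rep_iso_diag hQalg h𝒴 𝔥 z hzp hzs hzf p₀ (iW ≫ t) (iW ≫ c) ιW Hmag
  have hmono : AlgSt.IsMono (FibCat.diag 𝔥) :=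
    AlgStDiagLft.repByAlgSpWith_mono (fun _ _ m hm => by
      have : IsIso m := hm
      exact (inferInstance : Mono m)) hrep
  have hD : FibCat.IsEquivOver (FibCat.diag 𝔥) :=
    Groth.Agent.H3.MonoField.isEquivOver_of_rep_iso g𝒵 (X6401 𝔥 𝔥 g𝒵 g𝒵 g𝒴) (FibCat.diag 𝔥)
      hmono hrep
  obtain ⟨hfull, hfaith⟩ := (X6399 𝔥 g𝒵 g𝒴).2 hD
  haveI := hfull
  haveI := hfaith
  -- the essential image of `𝔥` is a residual gerbe at `f(x)`
  have hee := isEquivOver_liftSub_essIm' g𝒵 𝔥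
  obtain ⟨ee, hee_def⟩ : ∃ ee : AlgSt.fullSub 𝒳 Q ⥤ᵇ AlgSt.fullSub 𝒴 (essIm 𝔥),
      ee = liftSub (essIm 𝔥) 𝔥 (fun z => ⟨z, ⟨Iso.refl _⟩⟩) := ⟨_, rfl⟩
  rw [← hee_def] at hee
  have hcomp : BasedFunctor.comp ee (AlgSt.subIncl 𝒴 (essIm 𝔥)) = 𝔥 := by
    rw [hee_def]; exact liftSub_comp _ _ _
  have hQE : AlgSt.IsAlgStack Scheme.fppfPrecoverage (AlgSt.fullSub 𝒴 (essIm 𝔥)) :=
    isAlgStack_of_isEquivOver _ hee hQalg
  have hbij := (isHomeomorph_of_isEquivOver hQalg hQE ee hee).bijective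
  have hRG : Gerb.IsResGerbe Scheme.fppfPrecoverage 𝒴
      (AlgSt.Points.map (BasedFunctor.id 𝒴) (AlgSt.Points.map f x)) (essIm 𝔥) := by
    rw [points_map_id]
    refine ⟨essIm_closedUnderIso 𝔥, hQE,
      Groth.Agent.H3.ResGerbSingle.smoothLocally_of_isEquivOver _ ee hee hred,
      Groth.Agent.H3.ResGerbSingle.smoothLocally_of_isEquivOver _ ee hee hnoeth, ?_, ?_, ?_⟩
    · obtain ⟨p⟩ := hne
      exact ⟨AlgSt.Points.map ee p⟩
    · constructor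
      intro a' b'
      obtain ⟨a'', rfl⟩ := hbij.2 a'
      obtain ⟨b'', rfl⟩ := hbij.2 b'
      rw [Subsingleton.elim a'' b'']
    · intro z'
      obtain ⟨z'', rfl⟩ := hbij.2 z'
      rw [← points_map_comp, hcomp, points_map_comp, hmap]
  have hsurj := Groth.Agent.H3.ResGerbFunct.main h𝒴 (BasedFunctor.id 𝒴) (AlgSt.Points.map f x) Q'
    hQ' (essIm 𝔥) hRG
  -- conclusion
  have h1 : (liftSub Q' 𝔥 hall).toFunctor.Full :=
    inferInstanceAs (ObjectProperty.lift Q' (𝔥).toFunctor _).Full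
  have h2 : (liftSub Q' 𝔥 hall).toFunctor.Faithful :=
    inferInstanceAs (ObjectProperty.lift Q' (𝔥).toFunctor _).Faithful
  have h3 : (liftSub Q' 𝔥 hall).toFunctor.EssSurj := by
    refine ⟨fun η => ?_⟩
    obtain ⟨ξ, ⟨ε⟩⟩ := hsurj η
    exact ⟨ξ, ⟨(ObjectProperty.ι Q').preimageIso ε⟩⟩
  have : (liftSub Q' 𝔥 hall).toFunctor.IsEquivalence := {}
  exact isEquivOver_of_isEquivalence _ (liftsIsos_of_isFibGrpd g𝒵)

end Final

end Groth.Agent.H3.ResGerbIso
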