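import Mathlib
import Groth.Agent.Lib.Helper3.RedClosedB
import Groth.Agent.Lib.Helper3.FieldCover
import Groth.Agent.Lib.Helper3.AlgSt.ImmSub
import Groth.Agent.Lib.Helper3.AlgSt.OpenSub4
import Groth.Agent.Lib.Helper3.UnivInj

/-!
# Existence of residual gerbes: equivalent conditions (helper3, S16809)
-/

set_option autoImplicit false
universe u
open CategoryTheory CategoryTheory.Functor CategoryTheory.Limits Opposite AlgebraicGeometry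

noncomputable section

namespace Groth.Agent.H3.ResGerbTfae

open Groth.Agent.H3.FibCatAux Groth.Agent.H3.GerbAux Groth.Agent.H3.FpCalc Groth.Agent.H3.TwoCart
  Groth.Agent.H3.AlgStAux Groth.Agent.H3.RepBridge Groth.Agent.H3.BaseChangeSp
  Groth.Agent.H3.AlgStProps Groth.Agent.H3.AlgStCharts Groth.Agent.H3.AlgStPoints
  Groth.Agent.H3.OpenSub Groth.Agent.H3.FPtRel

variable {S : Scheme.{u}} {𝒳 : AlgSt.Cat S}

/-- **S16809** -/
theorem main (h𝒳 : AlgSt.IsAlgStack Scheme.fppfPrecoverage 𝒳) (x : AlgSt.Points 𝒳) :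
    [Gerb.ResGerbeExists Scheme.fppfPrecoverage 𝒳 x,
      ∃ (𝒵 : AlgSt.Cat S) (f : 𝒵 ⥤ᵇ 𝒳), AlgSt.IsAlgStack Scheme.fppfPrecoverage 𝒵 ∧
        AlgSt.SmoothLocally (fun T => IsReduced T) 𝒵 ∧ AlgSt.IsMono f ∧
        Nonempty (AlgSt.Points 𝒵) ∧ Subsingleton (AlgSt.Points 𝒵) ∧ ∀ p, AlgSt.Points.map f p = x,
      ∃ (𝒵 : AlgSt.Cat S) (f : 𝒵 ⥤ᵇ 𝒳) (k : Type u) (_ : Field k) (a : Spec (CommRingCat.of k) ⟶ S)
        (z : FibCat.overCat (Over.mk a) ⥤ᵇ 𝒵), AlgSt.IsAlgStack Scheme.fppfPrecoverage 𝒵 ∧ AlgSt.IsMono f ∧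
        AlgSt.RepByAlgSpWith AlgSp.IsSurjectiveMor z ∧ AlgSt.RepByAlgSpWith (AlgSp.LocP @Flat) z ∧
        ∀ t : ↥(Over.mk a).left, AlgSt.Points.map f (AlgSt.Points.ofChart z t) = x].TFAE := by
  tfae_have 1 → 2 := by
    rintro ⟨𝒵, i, h𝒵, hi, hne, hsub, hix⟩
    have g𝒵 := h𝒵.isStack.1
    obtain ⟨Q, hQ, hrange, hred⟩ := Groth.Agent.H3.RedClosed.main h𝒵 Set.univ isClosed_univ
    have hQh : ∀ ⦃a b : 𝒵.obj⦄ (_ : a ⟶ b), Q b → Q a :=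
      fun _ _ m hy => of_hom_of_isFibGrpd g𝒵 Q hQ.1 hQ.2.1.isStack.1 m hy
    have hmono : AlgSt.IsMono (AlgSt.subIncl 𝒵 Q) :=
      AlgStDiagLft.repByAlgSpWith_mono (fun _ _ _ ha =>
        Groth.Agent.H5.AlgSp.mono_of_repWith (fun _ _ f hf => by
          have : IsClosedImmersion f := hf
          exact (inferInstance : Mono f)) ha) hQ.2.2
    refine ⟨AlgSt.fullSub 𝒵 Q, BasedFunctor.comp (AlgSt.subIncl 𝒵 Q) i, hQ.2.1, hred, ?_, ?_, ?_, ?_⟩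
    · exact good_monomorphisms.toC.repComp hQ.2.1.isStack.1 g𝒵 _ _ hmono hi
    · obtain ⟨p⟩ := hne
      have hp : p ∈ Set.range (AlgSt.Points.map (AlgSt.subIncl 𝒵 Q)) := by
        rw [hrange]; exact Set.mem_univ p
      obtain ⟨w, -⟩ := hp
      exact ⟨w⟩
    · exact (points_map_subIncl_injective g𝒵 Q hQh).subsingleton
    · intro p
      rw [points_map_comp]
      exact hix _
  tfae_have 2 → 1 := by
    rintro ⟨𝒵, f, h𝒵, -, hf, hne, hsub, hfx⟩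
    exact ⟨𝒵, f, h𝒵, hf, hne, hsub, hfx⟩
  tfae_have 2 → 3 := by
    rintro ⟨𝒵, f, h𝒵, hred, hf, hne, hsub, hfx⟩
    have h01 : (AlgSt.SmoothLocally (fun T => IsReduced T) 𝒵 ∧ Nonempty (AlgSt.Points 𝒵) ∧
        Subsingleton (AlgSt.Points 𝒵)) ↔
        ∃ (k : Type u) (_ : Field k) (a : Spec (CommRingCat.of k) ⟶ S)
          (z : FibCat.overCat (Over.mk a) ⥤ᵇ 𝒵), AlgSt.RepByAlgSpWith AlgSp.IsSurjectiveMor z ∧
            AlgSt.RepByAlgSpWith (AlgSp.LocP @Flat) z :=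
      (Groth.Agent.H3.FieldCover.main h𝒵).out 0 1
    obtain ⟨k, hk, a, z, hzs, hzf⟩ := h01.1 ⟨hred, hne, hsub⟩
    exact ⟨𝒵, f, k, hk, a, z, h𝒵, hf, hzs, hzf, fun t => hfx _⟩
  tfae_have 3 → 1 := by
    rintro ⟨𝒵, f, k, hk, a, z, h𝒵, hf, hzs, hzf, hx⟩
    have g𝒵 := h𝒵.isStack.1
    have hne : Nonempty ↥(Over.mk a).left := inferInstanceAs (Nonempty (PrimeSpectrum k))
    obtain ⟨t⟩ := hne
    refine ⟨𝒵, f, h𝒵, hf, ⟨AlgSt.Points.ofChart z t⟩,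
      Groth.Agent.H3.FieldCover.subsingleton_points g𝒵 k a z hzs, ?_⟩
    intro p
    obtain ⟨t', rfl⟩ := ofChart_surjective g𝒵 z hzs p
    exact hx t'
  tfae_finish

end Groth.Agent.H3.ResGerbTfae
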