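import Groth.Agent.Lib.Helper3.Residual.Exists
import Groth.Agent.Lib.Helper3.Decent.ReducedFactor
import Groth.Agent.Lib.Helper3.AlgSpMor.EtaleDim
import Groth.Agent.Lib.Helper5.AlgSp.SchImageQC
import Groth.Agent.Lib.Helper5.AlgSp.PointsTop
import Groth.Agent.Lib.Helper5.AlgSp.DiagPres
import Groth.Agent.Lib.Helper5.AlgSp.MonoDesc
import Groth.Agent.Lib.Helper5.AlgSp.LocPCalc

/-!
# Reduced spaces mapping to a point of a locally Noetherian space factor through the residual space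
(helper3)
-/

set_option autoImplicit false
set_option linter.unusedSectionVars false
universe u

open CategoryTheory CategoryTheory.Limits AlgebraicGeometry Order
open AlgSp

namespace Groth.Agent.H3.ResFactor

open Groth.Agent.H5.AlgSp Groth.Agent.H3.FinQuot Groth.Agent.H3.Decent Groth.Agent.H3.Residual
  Groth.Agent.H3.EtaleDim

variable {S : Scheme.{u}}

/-- Ring level: if all primes of `A` contract into an antichain `F` of primes of the Noetherian ring
`B`, then the contraction map is locally constant. -/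
theorem exists_open_nhd_const {A B : Type u} [CommRing A] [CommRing B] [IsNoetherianRing B]
    (ψ : B →+* A) (F : Set (PrimeSpectrum B))
    (hF : ∀ 𝔭 : PrimeSpectrum A, PrimeSpectrum.comap ψ 𝔭 ∈ F)
    (hanti : ∀ 𝔮 ∈ F, ∀ 𝔮' ∈ F, 𝔮 ≤ 𝔮' → 𝔮 = 𝔮') (𝔞 : PrimeSpectrum A) :
    ∃ N : Set (PrimeSpectrum A), IsOpen N ∧ 𝔞 ∈ N ∧
      ∀ 𝔭 ∈ N, PrimeSpectrum.comap ψ 𝔭 = PrimeSpectrum.comap ψ 𝔞 := by
  have hfin : (RingHom.ker ψ).minimalPrimes.Finite :=
    Ideal.finite_minimalPrimes_of_isNoetherianRing B (RingHom.ker ψ)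
  have hM : ∀ 𝔮 : PrimeSpectrum B, 𝔮.asIdeal ∈ (RingHom.ker ψ).minimalPrimes → 𝔮 ∈ F := by
    intro 𝔮 h𝔮
    have h' : 𝔮.asIdeal ∈ ((⊥ : Ideal A).comap ψ).minimalPrimes := h𝔮
    obtain ⟨p', hp', -, hcomap⟩ := Ideal.exists_comap_eq_of_mem_minimalPrimes ψ 𝔮.asIdeal h'
    have h1 := hF ⟨p', hp'⟩
    have h2 : PrimeSpectrum.comap ψ ⟨p', hp'⟩ = 𝔮 := PrimeSpectrum.ext hcomap
    rwa [h2] at h1
  have himg : ∀ 𝔭 : PrimeSpectrum A,
      (PrimeSpectrum.comap ψ 𝔭).asIdeal ∈ (RingHom.ker ψ).minimalPrimes := by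
    intro 𝔭
    have hle : RingHom.ker ψ ≤ (PrimeSpectrum.comap ψ 𝔭).asIdeal := by
      intro b hb
      change ψ b ∈ 𝔭.asIdeal
      rw [RingHom.mem_ker.1 hb]
      exact zero_mem _
    obtain ⟨q, hq, hqle⟩ := Ideal.exists_minimalPrimes_le hle
    have hqp : q.IsPrime := hq.1.1
    have h1 := hanti ⟨q, hqp⟩ (hM ⟨q, hqp⟩ hq) _ (hF 𝔭) hqle
    rw [← h1]
    exact hq
  let C : Set (PrimeSpectrum B) := ⋃ q ∈ (RingHom.ker ψ).minimalPrimes \
    {(PrimeSpectrum.comap ψ 𝔞).asIdeal}, PrimeSpectrum.zeroLocus (q : Set B)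
  have hC : IsClosed C := (hfin.subset Set.sdiff_subset).isClosed_biUnion
    (fun q _ => PrimeSpectrum.isClosed_zeroLocus _)
  refine ⟨(PrimeSpectrum.comap ψ) ⁻¹' Cᶜ,
    hC.isOpen_compl.preimage (PrimeSpectrum.continuous_comap ψ), ?_, ?_⟩
  · intro hmem
    simp only [C, Set.mem_iUnion] at hmem
    obtain ⟨q, ⟨hq, hne⟩, hz⟩ := hmem
    have hqp : q.IsPrime := hq.1.1
    have hle : q ≤ (PrimeSpectrum.comap ψ 𝔞).asIdeal := (PrimeSpectrum.mem_zeroLocus _ _).1 hz
    have h1 := hanti ⟨q, hqp⟩ (hM ⟨q, hqp⟩ hq) _ (hF 𝔞) hle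
    apply hne
    rw [Set.mem_singleton_iff, ← h1]
  · intro 𝔭 h𝔭
    by_contra hne
    apply h𝔭
    simp only [C, Set.mem_iUnion]
    refine ⟨(PrimeSpectrum.comap ψ 𝔭).asIdeal, ⟨himg 𝔭, fun h => hne (PrimeSpectrum.ext h)⟩, ?_⟩
    exact (PrimeSpectrum.mem_zeroLocus _ _).2 le_rfl

/-- Scheme level: a morphism to a locally Noetherian scheme whose image lies in a set of points
without nontrivial specializations is locally constant on points. -/
theorem exists_open_nhd_const_scheme {T V : Scheme.{u}} [IsLocallyNoetherian V] (h : T ⟶ V)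
    (F : Set ↥V) (hF : ∀ t : ↥T, h t ∈ F)
    (hanti : ∀ a ∈ F, ∀ b ∈ F, a ⤳ b → a = b) (v : ↥T) :
    ∃ N : T.Opens, v ∈ N ∧ ∀ y ∈ N, h y = h v := by
  obtain ⟨_, ⟨(O : V.Opens), hO, rfl⟩, hvO, -⟩ := V.isBasis_affineOpens.exists_subset_of_mem_open
    (Set.mem_univ (h v)) isOpen_univ
  obtain ⟨_, ⟨(W : T.Opens), hW, rfl⟩, hvW, hWO⟩ := T.isBasis_affineOpens.exists_subset_of_mem_open
    (show v ∈ ((h ⁻¹ᵁ O : T.Opens) : Set ↥T) from hvO) (h ⁻¹ᵁ O).isOpen
  have hWO' : W ≤ h ⁻¹ᵁ O := hWO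
  haveI : IsNoetherianRing Γ(V, O) := IsLocallyNoetherian.component_noetherian ⟨O, hO⟩
  let eO := Scheme.homeoOfIso hO.isoSpec
  let eW := Scheme.homeoOfIso hW.isoSpec
  have heO : ∀ z : O, eO z = hO.primeIdealOf z := fun _ => rfl
  have heW : ∀ z : W, eW z = hW.primeIdealOf z := fun _ => rfl
  let F' : Set (PrimeSpectrum Γ(V, O)) := {𝔮 | O.ι (eO.symm 𝔮) ∈ F}
  have hcomap : ∀ z : W, PrimeSpectrum.comap (h.appLE O W hWO').hom (eW z) =
      eO ⟨h z.1, hWO' z.2⟩ := by
    intro z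
    rw [heW, heO]
    exact IsAffineOpen.comap_primeIdealOf_appLE O hO W hW hWO' z.2
  have hF' : ∀ 𝔭 : PrimeSpectrum Γ(T, W), PrimeSpectrum.comap (h.appLE O W hWO').hom 𝔭 ∈ F' := by
    intro 𝔭
    obtain ⟨z, rfl⟩ := eW.surjective 𝔭
    rw [hcomap z]
    change O.ι (eO.symm (eO ⟨h z.1, hWO' z.2⟩)) ∈ F
    rw [Homeomorph.symm_apply_apply]
    exact hF z.1
  have hanti' : ∀ 𝔮 ∈ F', ∀ 𝔮' ∈ F', 𝔮 ≤ 𝔮' → 𝔮 = 𝔮' := by
    intro 𝔮 h𝔮 𝔮' h𝔮' hle
    have h1 : 𝔮 ⤳ 𝔮' := (PrimeSpectrum.le_iff_specializes 𝔮 𝔮').1 hle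
    have h2 : eO.symm 𝔮 ⤳ eO.symm 𝔮' := h1.map eO.symm.continuous
    have h3 : O.ι (eO.symm 𝔮) ⤳ O.ι (eO.symm 𝔮') := h2.map O.ι.continuous
    have h4 := hanti _ h𝔮 _ h𝔮' h3
    exact eO.symm.injective (O.ι.isOpenEmbedding.injective h4)
  obtain ⟨N', hN'o, hN'v, hN'c⟩ := exists_open_nhd_const (h.appLE O W hWO').hom F' hF' hanti'
    (eW ⟨v, hvW⟩)
  refine ⟨W.ι ''ᵁ ⟨eW ⁻¹' N', hN'o.preimage eW.continuous⟩, ⟨⟨v, hvW⟩, hN'v, rfl⟩, ?_⟩
  rintro _ ⟨z, hz, rfl⟩
  have h1 := hN'c _ hz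
  rw [hcomap z, hcomap ⟨v, hvW⟩] at h1
  have h2 := eO.injective h1
  exact congrArg Subtype.val h2

/-- In an étale chart from a locally Noetherian scheme there are no nontrivial specializations
among points with the same image. -/
theorem eq_of_specializes_of_ofPt_eq {X : Sp S} (hX : IsAlgSpace X) {V : Over S}
    [IsLocallyNoetherian V.left] (b : (yon S).obj V ⟶ X) (hbe : RepWith @Etale b)
    (w w' : ↥V.left) (hww : Points.ofPt b w = Points.ofPt b w') (hsp : w ⤳ w') : w = w' := by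
  have hrep := hX.representable_from_yon b
  have sq := hrep.isPullback' b
  have hs : Etale (hrep.snd b).left := hbe.property b _ (hrep.snd b) sq
  have ht : Etale (hrep.fst' b).left := hbe.property b _ (hrep.fst' b) sq.flip
  obtain ⟨r, hr1, hr2⟩ := (ofPt_eq_ofPt_iff sq w w').1 hww
  have h1 : coheight w = coheight r := by
    rw [← hr1]
    exact coheight_eq_of_etale _ r
  have h2 : coheight w' = coheight r := by
    rw [← hr2]
    exact coheight_eq_of_etale _ r
  by_contra hne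
  have hlt : w' < w := (lt_iff_specializes w' w).2 ⟨hsp, fun h => hne (hsp.antisymm h).eq⟩
  have hle := coheight_add_one_le hlt
  rw [h1, h2] at hle
  have hfin : ((coheight w' : ℕ∞) : WithBot ℕ∞) < ⊤ := by
    rw [← ringKrullDim_stalk_eq_coheight]
    exact ringKrullDim_lt_top
  have hfin' : coheight r ≠ ⊤ := by
    intro h
    rw [h2, h] at hfin
    exact lt_irrefl _ hfin
  exact lt_irrefl _ ((ENat.add_one_le_iff hfin').1 hle)

/-- The residual space constructed from a given étale chart and a point of it. -/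
theorem exists_residual_space_chart {X : Sp S} (hX : IsAlgSpace X) {U : Over S}
    (a : (yon S).obj U ⟶ X) (hae : RepWith @Etale a) (u : ↥U.left) :
    ∃ (Z : Sp S) (i : Z ⟶ X) (π : (yon S).obj (resPt U u) ⟶ Z), IsAlgSpace Z ∧ Mono i ∧
      Set.range (Points.map i) = {Points.ofPt a u} ∧ RepWith @Etale π ∧ RepWith @Surjective π ∧
      π ≫ i = (yon S).map (resι U u) ≫ a := by
  set φ := (yon S).map (resι U u) ≫ a with hφ
  have hrep : Representable φ := hX.representable_from_yon φ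
  have sq : IsPullback ((yon S).map (hrep.fst' φ)) ((yon S).map (hrep.snd φ)) φ φ :=
    hrep.isPullback' φ
  have hs : Etale (hrep.snd φ).left := etale_kernelPair_resPt hae u (hrep.snd φ) (hrep.fst' φ) sq
  have ht : Etale (hrep.fst' φ).left :=
    etale_kernelPair_resPt hae u (hrep.fst' φ) (hrep.snd φ) sq.flip
  have hE : IsEtaleEqvRel (hrep.snd φ) (hrep.fst' φ) :=
    ⟨isEqvRel_of_isPullback φ (hrep.snd φ) (hrep.fst' φ) sq, hs, ht⟩
  have hZ : IsAlgSpace (quotSp ((yon S).map (hrep.snd φ)) ((yon S).map (hrep.fst' φ))) :=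
    isAlgSpace_quotSp _ _ hE
  have hP := isPresentation_quotSpπ (hrep.snd φ) (hrep.fst' φ) hE
  obtain ⟨i, hi, hπi⟩ := exists_mono_factor_of_same_kernelPair
    (quotSpπ ((yon S).map (hrep.snd φ)) ((yon S).map (hrep.fst' φ))) φ hP.isPullback sq
  have hπs : Function.Surjective
      (Points.ofPt (quotSpπ ((yon S).map (hrep.snd φ)) ((yon S).map (hrep.fst' φ)))) :=
    ofPt_surjective_of_repWith hP.surjective
  have hpt : ∀ w : ↥(resPt U u).left, Points.map i
      (Points.ofPt (quotSpπ ((yon S).map (hrep.snd φ)) ((yon S).map (hrep.fst' φ))) w) =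
        Points.ofPt a u := by
    intro w
    rw [Points.map_ofPt, hπi, hφ, ofPt_yon_map_comp]
    congr 1
    exact Scheme.fromSpecResidueField_apply _ _
  refine ⟨_, i, quotSpπ _ _, hZ, hi, ?_, hP.etale, hP.surjective, hπi⟩
  ext y
  constructor
  · rintro ⟨z, rfl⟩
    obtain ⟨w, rfl⟩ := hπs z
    exact hpt w
  · rintro rfl
    exact ⟨Points.ofPt _ (IsLocalRing.closedPoint ↑(U.left.residueField u)), hpt _⟩

/-- The residue field point of an étale chart over `x` lifts to any residual space at `x`. -/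
theorem exists_lift_resPt {X Z : Sp S} (hX : IsAlgSpace X) (hZ : IsAlgSpace Z) (i : Z ⟶ X)
    [Mono i] (x : Points X) (hi : Set.range (Points.map i) = {x})
    {k : Type u} [Field k] (str : Spec (CommRingCat.of k) ⟶ S)
    (p : (yon S).obj (Over.mk str) ⟶ Z)
    (hpp : LocP @LocallyOfFinitePresentation p) (hpf : LocP @Flat p) (hps : IsSurjectiveMor p)
    {V : Over S} (b : (yon S).obj V ⟶ X) (hbe : RepWith @Etale b) (u : ↥V.left)
    (hu : Points.ofPt b u = x) :
    ∃ g : (yon S).obj (resPt V u) ⟶ Z, g ≫ i = (yon S).map (resι V u) ≫ b := by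
  obtain ⟨Z', i', π, hZ', hi'm, hi'r, hπe, hπs, hπi⟩ := exists_residual_space_chart hX b hbe u
  haveI := hi'm
  rw [hu] at hi'r
  obtain ⟨e, he⟩ := exists_iso_of_mono_same_image hX hZ hZ' i i' x hi hi'r str p hpp hpf hps
    (k' := ↥(V.left.residueField u)) (V.left.fromSpecResidueField u ≫ V.hom) π
    (locP_of_repWith etale_le_lfp (repWith_mono etale_le_lfp hπe))
    (locP_of_repWith etale_le_flat (repWith_mono etale_le_flat hπe))
    (fun z => by
      obtain ⟨w, rfl⟩ := ofPt_surjective_of_repWith hπs z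
      exact ⟨Points.ofScheme _ w, (Points.ofPt_eq_map_ofScheme π w).symm⟩)
  exact ⟨π ≫ e.hom, by rw [Category.assoc, he, hπi]⟩

/-- **A reduced space mapping to a point `x` of a locally Noetherian space factors through the
residual space at `x`.** -/
theorem exists_factor_residual_of_reduced {Y X Z : Sp S} (hY : IsAlgSpace Y) (hX : IsAlgSpace X)
    (hZ : IsAlgSpace Z) (f : Y ⟶ X) (x : Points X) (hf : ∀ y : Points Y, Points.map f y = x)
    (hYr : IsReducedSp Y) (hXn : IsLocNoethSp X) (i : Z ⟶ X) [Mono i]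
    (hi : Set.range (Points.map i) = {x})
    {k : Type u} [Field k] (str : Spec (CommRingCat.of k) ⟶ S)
    (p : (yon S).obj (Over.mk str) ⟶ Z)
    (hpp : LocP @LocallyOfFinitePresentation p) (hpf : LocP @Flat p) (hps : IsSurjectiveMor p) :
    ∃ g : Y ⟶ Z, g ≫ i = f := by
  obtain ⟨V, b, hbe, hbs, hVn⟩ := hXn
  haveI : IsLocallyNoetherian V.left := hVn
  obtain ⟨U', a', h, hae', has', comm⟩ := exists_chart_diagram_surj hY f hbe hbs
  haveI hU'r : IsReduced U'.left :=
    Groth.Agent.H3.AlgSpCov.isReduced_of_etale_of_isReducedSp hYr a' hae'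
  have hh : ∀ t : ↥U'.left, Points.ofPt b (h.left t) = x := by
    intro t
    rw [← ofPt_yon_map_comp, ← comm, ← Points.map_ofPt, hf]
  have sqZ := IsPullback.of_hasPullback f i
  have hmono : Mono (pullback.fst f i) := sqZ.mono_fst_of_mono
  have key : liftSieve (pullback.fst f i) a' ∈ J S U' := by
    have hN : ∀ v : ↥U'.left, ∃ N : U'.left.Opens, v ∈ N ∧ ∀ y ∈ N, h.left y = h.left v :=
      fun v => exists_open_nhd_const_scheme h.left {w | Points.ofPt b w = x} hh
        (fun w hw w' hw' hsp =>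
          eq_of_specializes_of_ofPt_eq hX b hbe w w' (hw.trans hw'.symm) hsp) v
    choose N hvN hNc using hN
    refine mem_J_of_openCover N (fun t => ⟨t, hvN t⟩) _ (fun v => ?_)
    obtain ⟨gu, hgu⟩ := exists_lift_resPt hX hZ i x hi str p hpp hpf hps b hbe (h.left v) (hh v)
    haveI : IsReduced (N v).toScheme := inferInstance
    obtain ⟨n₀, hn₀⟩ := exists_factor_mono_field_of_isReduced
      (L := ↥(V.left.residueField (h.left v)))
      (V.left.fromSpecResidueField (h.left v)) ((N v).ι ≫ h.left) (fun t => by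
        rw [Scheme.Hom.comp_apply, Scheme.fromSpecResidueField_apply]
        exact hNc v _ t.2)
    have hw0 : n₀ ≫ (resPt V (h.left v)).hom = (overOpen U' (N v)).hom := by
      change n₀ ≫ V.left.fromSpecResidueField (h.left v) ≫ V.hom = (N v).ι ≫ U'.hom
      rw [← Category.assoc, hn₀, Category.assoc, Over.w h]
    obtain ⟨n, hn⟩ : ∃ n : overOpen U' (N v) ⟶ resPt V (h.left v),
        n ≫ resι V (h.left v) = overOpenι U' (N v) ≫ h :=
      ⟨Over.homMk n₀ hw0, by ext; exact hn₀⟩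
    have w : ((yon S).map (overOpenι U' (N v)) ≫ a') ≫ f = ((yon S).map n ≫ gu) ≫ i := by
      rw [Category.assoc, comm, ← Category.assoc, ← Functor.map_comp, ← hn, Functor.map_comp,
        Category.assoc, Category.assoc, hgu]
    exact ⟨pullback.lift _ _ w, pullback.lift_fst _ _ _⟩
  have hls : Sheaf.IsLocallySurjective (pullback.fst f i) := by
    apply isLocallySurjective_of_liftSieve
    intro T σ
    have ha'ls : Sheaf.IsLocallySurjective a' :=
      isLocallySurjective_of_etale_surjective a' hae' has'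
    refine (J S).transitive (liftSieve_mem a' σ) _ ?_
    rintro T' g ⟨τ, hτ⟩
    obtain ⟨τ₀, rfl⟩ := (yon S).map_surjective τ
    refine (J S).superset_covering ?_ ((J S).pullback_stable τ₀ key)
    rintro T'' g' ⟨ρ, hρ⟩
    refine ⟨ρ, ?_⟩
    rw [hρ, Functor.map_comp, Category.assoc, hτ, ← Category.assoc, ← Functor.map_comp]
  have hiso : IsIso (pullback.fst f i) := isIso_of_mono_of_isLocallySurjective _
  refine ⟨inv (pullback.fst f i) ≫ pullback.snd f i, ?_⟩
  rw [Category.assoc, ← pullback.condition, IsIso.inv_hom_id_assoc]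

end Groth.Agent.H3.ResFactor
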