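import Mathlib
import Groth.Prelude.Def_SGA1
import Groth.Agent.Lib.Helper2.QuotB
import Groth.Agent.H4.QuotPts
import Groth.Agent.Lib.Helper3.SGA1Quot.ActRel
import Groth.Agent.Lib.Helper3.GalAlg

/-!
# Free actions of finite groups: the quotient map is flat, unramified and a pseudo-torsor (helper3)
-/

set_option autoImplicit false
set_option linter.style.haveILetI false

open CategoryTheory Limits AlgebraicGeometry

universe u

namespace Groth.Agent.H3.SGA1Free

open Groth.Agent.H2.Quot Groth.Agent.H3.SGA1Quot Groth.Agent.H3.GalAlg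

variable {X Y : Scheme.{u}} {G : Type u} [Group G] {ρ : G →* Aut X} {p : X ⟶ Y}

/-- freeness on geometric points -/
def GeomFree (ρ : G →* Aut X) : Prop :=
  ∀ (K : Type u) [Field K] [IsAlgClosed K] (ξ : Spec (CommRingCat.of K) ⟶ X) (g : G),
    ξ ≫ (ρ g).hom = ξ → g = 1

theorem span_eq_top (hp : SGA1.IsQuot ρ p) (hfree : GeomFree ρ) {U : Y.Opens}
    (hU : IsAffineOpen U) (g : G) (hg : g ≠ 1) :
    letI := action ρ p hp.inv U
    Ideal.span (Set.range fun a : Γ(X, p ⁻¹ᵁ U) => a - g • a) = ⊤ := by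
  letI := action ρ p hp.inv U
  haveI := hp.affine
  by_contra hne
  obtain ⟨m, hm, hle⟩ := Ideal.exists_le_maximal _ hne
  haveI := hm
  letI := Ideal.Quotient.field m
  let K := AlgebraicClosure (Γ(X, p ⁻¹ᵁ U) ⧸ m)
  let φ : Γ(X, p ⁻¹ᵁ U) →+* K :=
    (algebraMap (Γ(X, p ⁻¹ᵁ U) ⧸ m) K).comp (Ideal.Quotient.mk m)
  have hV : IsAffineOpen (p ⁻¹ᵁ U) := hU.preimage p
  let ξ : Spec (CommRingCat.of K) ⟶ X := Spec.map (CommRingCat.ofHom φ) ≫ hV.fromSpec
  have hφ : ∀ a : Γ(X, p ⁻¹ᵁ U), φ (g • a) = φ a := by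
    intro a
    have h1 : a - g • a ∈ m := hle (Ideal.subset_span ⟨a, rfl⟩)
    have h2 : φ (a - g • a) = 0 := by
      show algebraMap _ K (Ideal.Quotient.mk m (a - g • a)) = 0
      rw [Ideal.Quotient.eq_zero_iff_mem.mpr h1, map_zero]
    rw [map_sub, sub_eq_zero] at h2
    exact h2.symm
  have hfix : ξ ≫ (ρ g⁻¹).hom = ξ := by
    have h := IsAffineOpen.SpecMap_appLE_fromSpec (ρ g⁻¹).hom hV hV
      (SGA1.preimage_le_of_inv ρ p hp.inv g⁻¹ U)
    show (Spec.map (CommRingCat.ofHom φ) ≫ hV.fromSpec) ≫ (ρ g⁻¹).hom =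
      Spec.map (CommRingCat.ofHom φ) ≫ hV.fromSpec
    rw [Category.assoc, ← h, ← Category.assoc, ← Spec.map_comp]
    congr 2
    apply CommRingCat.hom_ext
    apply RingHom.ext
    intro a
    exact hφ a
  exact hg (inv_eq_one.mp (hfree K ξ g⁻¹ hfix))

variable [Finite G]

theorem flat_unram_app (hp : SGA1.IsQuot ρ p) (hfree : GeomFree ρ) {U : Y.Opens}
    (hU : IsAffineOpen U) : (p.app U).hom.Flat ∧ (p.app U).hom.FormallyUnramified := by
  letI := action ρ p hp.inv U
  letI := algebra p U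
  haveI := smulCommClass ρ p hp.inv U
  haveI := isInvariant hp U
  cases nonempty_fintype G
  obtain ⟨ι, _, x, y, hxy⟩ := exists_galois_elements (G := G) Γ(Y, U)
    (span_eq_top hp hfree hU)
  have hinj : Function.Injective (algebraMap Γ(Y, U) Γ(X, p ⁻¹ᵁ U)) := hp.injective U
  obtain ⟨hproj, -⟩ := projective_finite (G := G) hinj x y hxy
  have hun := formallyUnramified (G := G) hinj x y hxy
  exact ⟨(inferInstance : Module.Flat Γ(Y, U) Γ(X, p ⁻¹ᵁ U)), hun⟩

theorem flat_of_free (hp : SGA1.IsQuot ρ p) (hfree : GeomFree ρ) : Flat p := by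
  haveI := hp.affine
  rw [HasRingHomProperty.iff_exists_appLE (P := @Flat)
    (RingHom.Flat.stableUnderComposition.stableUnderCompositionWithLocalizationAway
      RingHom.Flat.holdsForLocalizationAway).left]
  intro x
  obtain ⟨U, hU, hxU, -⟩ := exists_isAffineOpen_mem_and_subset (x := p x) (U := ⊤) trivial
  refine ⟨⟨U, hU⟩, ⟨p ⁻¹ᵁ U, hU.preimage p⟩, hxU, le_rfl, ?_⟩
  rw [← Scheme.Hom.app_eq_appLE]
  exact (flat_unram_app hp hfree hU).1

theorem unram_of_free (hp : SGA1.IsQuot ρ p) (hfree : GeomFree ρ) : FormallyUnramified p := by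
  haveI := hp.affine
  rw [HasRingHomProperty.iff_exists_appLE (P := @FormallyUnramified)
    (RingHom.FormallyUnramified.stableUnderComposition.stableUnderCompositionWithLocalizationAway
      RingHom.FormallyUnramified.holdsForLocalizationAway).left]
  intro x
  obtain ⟨U, hU, hxU, -⟩ := exists_isAffineOpen_mem_and_subset (x := p x) (U := ⊤) trivial
  refine ⟨⟨U, hU⟩, ⟨p ⁻¹ᵁ U, hU.preimage p⟩, hxU, le_rfl, ?_⟩
  rw [← Scheme.Hom.app_eq_appLE]
  exact (flat_unram_app hp hfree hU).2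

theorem isIso_sigmaDesc (hp : SGA1.IsQuot ρ p) (hfree : GeomFree ρ) [LocallyOfFiniteType p] :
    IsIso (Sigma.desc (fun g : G => gr p ρ hp.inv g)) := by
  haveI : FormallyUnramified p := unram_of_free hp hfree
  haveI : IsOpenImmersion (pullback.diagonal p) := inferInstance
  haveI : IsOpenImmersion (Sigma.desc fun g : G => gr p ρ hp.inv g) := by
    refine isOpenImmersion_sigmaDesc _ _ (fun g h hgh => ?_)
    rw [Function.onFun, Set.disjoint_iff_forall_ne]
    rintro _ ⟨x, rfl⟩ _ ⟨x', rfl⟩ heq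
    obtain ⟨e, -, -⟩ := Scheme.Pullback.exists_preimage_pullback
      (f := gr p ρ hp.inv g) (g := gr p ρ hp.inv h) x x' heq
    let E := pullback (gr p ρ hp.inv g) (gr p ρ hp.inv h)
    let K := AlgebraicClosure (E.residueField e)
    obtain ⟨ζ, -⟩ : ∃ _ : Spec (CommRingCat.of K) ⟶ E, True :=
      ⟨Spec.map (CommRingCat.ofHom (algebraMap (E.residueField e) K)) ≫
        E.fromSpecResidueField e, trivial⟩
    have hc : (ζ ≫ pullback.fst _ _) ≫ gr p ρ hp.inv g = (ζ ≫ pullback.snd _ _) ≫ gr p ρ hp.inv h := by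
      rw [Category.assoc, Category.assoc, pullback.condition]
    have h1 : ζ ≫ pullback.fst _ _ = ζ ≫ pullback.snd _ _ := by
      have := congrArg (· ≫ pullback.fst p p) hc
      simpa only [Category.assoc, gr_fst, Category.comp_id] using this
    have h2 : (ζ ≫ pullback.fst _ _) ≫ (ρ g).hom = (ζ ≫ pullback.fst _ _) ≫ (ρ h).hom := by
      have := congrArg (· ≫ pullback.snd p p) hc
      simp only [Category.assoc, gr_snd] at this
      rw [Category.assoc, Category.assoc, this, ← Category.assoc, ← Category.assoc, h1]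
    have h3 : (ζ ≫ pullback.fst _ _) ≫ (ρ (h⁻¹ * g)).hom = ζ ≫ pullback.fst _ _ := by
      rw [θ_mul, ← Category.assoc, h2, Category.assoc, θ_inv_comp, Category.comp_id]
    have h4 := hfree K _ (h⁻¹ * g) h3
    exact hgh (inv_mul_eq_one.mp h4).symm
  apply isIso_of_isOpenImmersion_of_opensRange_eq_top
  rw [eq_top_iff]
  intro z _
  let Z := pullback p p
  let ζ := Z.fromSpecResidueField z
  obtain ⟨g, hg⟩ := Groth.Agent.H4.QuotPts.exists_act_of_comp_eq hp (K := Z.residueField z)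
    (ζ ≫ pullback.fst p p) (ζ ≫ pullback.snd p p)
    (by rw [Category.assoc, Category.assoc, pullback.condition])
  have h5 : ζ = (ζ ≫ pullback.fst p p) ≫ gr p ρ hp.inv g :=
    eq_comp_gr p ρ hp.inv ζ g (by rw [hg, Category.assoc])
  obtain ⟨pt⟩ : Nonempty (Spec (Z.residueField z)) := inferInstance
  refine ⟨(Sigma.ι (fun _ : G => X) g) ((ζ ≫ pullback.fst p p) pt), ?_⟩
  rw [← Scheme.Hom.comp_apply, Sigma.ι_desc, ← Scheme.Hom.comp_apply, ← h5]
  exact Z.fromSpecResidueField_apply z pt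

/-- **S2920** -/
theorem main_S2920 (hp : SGA1.IsQuot ρ p) (hfree : GeomFree ρ) [LocallyOfFiniteType p] :
    IsIso (Sigma.desc (fun g : G => gr p ρ hp.inv g)) ∧ Flat p ∧ Surjective p :=
  ⟨isIso_sigmaDesc hp hfree, flat_of_free hp hfree, ⟨Groth.Agent.H2.Quot.surjective hp⟩⟩

end Groth.Agent.H3.SGA1Free
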