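import Mathlib
import Groth.Prelude.Def_SGA4a
/-! helper3: small lemmas on sites used by the SGA4 cluster. -/
open CategoryTheory CategoryTheory.Limits Opposite CategoryTheory.Functor
universe w v₁ v₂ u₁ u₂ u v

namespace Groth.Agent.H3.SGA4Aux

theorem isSheafFor_bot_iff {C : Type u₁} [Category.{v₁} C] (P : Cᵒᵖ ⥤ Type w) (X : C) :
    Presieve.IsSheafFor P (⊥ : Sieve X).arrows ↔ Nonempty (Unique (P.obj (op X))) := by
  constructor
  · intro h
    obtain ⟨t, -, ht⟩ := h (fun W g hg => False.elim hg) (fun _ _ _ _ _ _ _ h₁ => False.elim h₁)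
    exact ⟨⟨⟨t⟩, fun t' => ht t' (fun W g hg => False.elim hg)⟩⟩
  · rintro ⟨hu⟩ x _
    exact ⟨default, fun W g hg => False.elim hg, fun t _ => hu.uniq t⟩

theorem subobject_ext_of_detecting {E : Type u} [Category.{v} E] [HasPullbacks E] {κ : Type v} (G : κ → E)
    (hG : (ObjectProperty.ofObj G).IsDetecting) (X : E) :
    Function.Injective (fun (A : Subobject X) (k : κ) => {g : G k ⟶ X | A.Factors g}) := by
  have key : ∀ A B : Subobject X, (∀ k (g : G k ⟶ X), A.Factors g → B.Factors g) → A ≤ B := by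
    intro A B hAB
    have hiso : IsIso ((A ⊓ B).ofLE A inf_le_left) := by
      rw [hG.isIso_iff_of_mono]
      rintro _ ⟨k⟩ (g : G k ⟶ (A : E))
      have h1 : A.Factors (g ≫ A.arrow) := Subobject.factors_comp_arrow g
      have h2 : B.Factors (g ≫ A.arrow) := hAB k _ h1
      have h3 : (A ⊓ B).Factors (g ≫ A.arrow) := (Subobject.inf_factors _).mpr ⟨h1, h2⟩
      refine ⟨(A ⊓ B).factorThru _ h3, ?_⟩
      change (A ⊓ B).factorThru _ h3 ≫ (A ⊓ B).ofLE A inf_le_left = g
      rw [← cancel_mono A.arrow, Category.assoc, Subobject.ofLE_arrow, Subobject.factorThru_arrow]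
    have : A ≤ A ⊓ B := Subobject.le_of_comm (inv ((A ⊓ B).ofLE A inf_le_left)) (by
      rw [IsIso.inv_comp_eq, Subobject.ofLE_arrow])
    exact this.trans inf_le_right
  intro A B hAB
  have hAB' : ∀ k (g : G k ⟶ X), A.Factors g ↔ B.Factors g := by
    intro k g
    have := congrFun hAB k
    exact Set.ext_iff.mp this g
  exact le_antisymm (key A B fun k g h => (hAB' k g).mp h) (key B A fun k g h => (hAB' k g).mpr h)

theorem overForget_preservesProducts_of_mono {E : Type u₁} [Category.{v₁} E] [HasTerminal E]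
    (U : E) [Mono (terminal.from U)] (I : Type w) [Nonempty I] [HasProductsOfShape I E] :
    PreservesLimitsOfShape (Discrete I) (Over.forget U) := by
  have hsub : ∀ {T : E} (a b : T ⟶ U), a = b := fun a b =>
    (cancel_mono (terminal.from U)).mp (Subsingleton.elim _ _)
  refine ⟨fun {K} => ?_⟩
  let A : I → E := fun i => (K.obj ⟨i⟩).left
  let i0 : I := Classical.arbitrary I
  let p : ∏ᶜ A ⟶ U := Pi.π A i0 ≫ (K.obj ⟨i0⟩).hom
  let c : Cone K :=
    { pt := Over.mk p
      π := Discrete.natTrans (fun ⟨i⟩ => Over.homMk (Pi.π A i) (hsub _ _)) }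
  have hc : IsLimit c :=
    { lift := fun s => Over.homMk (Pi.lift (fun i => (s.π.app ⟨i⟩).left)) (hsub _ _)
      fac := fun s ⟨i⟩ => by
        apply Over.OverMorphism.ext
        simp [c]
      uniq := fun s m hm => by
        apply Over.OverMorphism.ext
        apply Pi.hom_ext
        intro i
        have := congrArg CommaMorphism.left (hm ⟨i⟩)
        simpa [c] using this }
  have hc' : IsLimit ((Over.forget U).mapCone c) :=
    { lift := fun s => Pi.lift (fun i => s.π.app ⟨i⟩)
      fac := fun s ⟨i⟩ => by simp [c]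
      uniq := fun s m hm => by
        apply Pi.hom_ext
        intro i
        have := hm ⟨i⟩
        simpa [c] using this }
  exact preservesLimit_of_preserves_limit_cone hc hc'

section ClosedCompl
set_option backward.isDefEq.respectTransparency false
set_option linter.unusedSectionVars false
variable {E : Type u} [Category.{v} E] [HasBinaryProducts E] [HasTerminal E] [HasPushouts E]

theorem closedCompl_pushout (U : E) [Mono (terminal.from U)]
    [PreservesColimitsOfShape WalkingSpan (prod.functor.obj U)] (Y : E) :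
    SGA4.closedCompl U (pushout (prod.fst : U ⨯ Y ⟶ U) (prod.snd : U ⨯ Y ⟶ Y)) := by
  have hsub : ∀ {T : E} (a b : T ⟶ U), a = b := fun a b =>
    (cancel_mono (terminal.from U)).mp (Subsingleton.elim _ _)
  have hpo := (IsPushout.of_hasPushout (prod.fst : U ⨯ Y ⟶ U) (prod.snd : U ⨯ Y ⟶ Y)).map
    (prod.functor.obj U)
  have h1 : IsIso (prod.map (𝟙 U) (prod.snd : U ⨯ Y ⟶ Y)) := by
    refine ⟨⟨prod.lift prod.fst (𝟙 _), ?_, ?_⟩⟩
    · apply Limits.prod.hom_ext
      · simp
      · simp only [Category.assoc, prod.lift_snd, Category.comp_id, Category.id_comp]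
        apply Limits.prod.hom_ext
        · exact hsub _ _
        · simp
    · apply Limits.prod.hom_ext <;> simp
  have h2 : IsIso ((prod.functor.obj U).map (pushout.inl (prod.fst : U ⨯ Y ⟶ U) (prod.snd : U ⨯ Y ⟶ Y))) :=
    hpo.isIso_inl_of_isIso h1
  have h3 : IsIso (prod.fst : U ⨯ U ⟶ U) := by
    refine ⟨⟨prod.lift (𝟙 _) (𝟙 _), ?_, by simp⟩⟩
    apply Limits.prod.hom_ext
    · simp
    · exact hsub _ _
  have h4 : (prod.functor.obj U).map (pushout.inl (prod.fst : U ⨯ Y ⟶ U) (prod.snd : U ⨯ Y ⟶ Y)) ≫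
      (prod.fst : U ⨯ pushout (prod.fst : U ⨯ Y ⟶ U) (prod.snd : U ⨯ Y ⟶ Y) ⟶ U) = prod.fst := by
    simp
  have h5 : IsIso ((prod.functor.obj U).map (pushout.inl (prod.fst : U ⨯ Y ⟶ U) (prod.snd : U ⨯ Y ⟶ Y)) ≫
      (prod.fst : U ⨯ pushout (prod.fst : U ⨯ Y ⟶ U) (prod.snd : U ⨯ Y ⟶ Y) ⟶ U)) := by
    rw [h4]; exact h3
  exact IsIso.of_isIso_comp_left ((prod.functor.obj U).map (pushout.inl _ _)) _

theorem closedCompl_of_iso (U : E) {X X' : E} (e : X ≅ X') (h : SGA4.closedCompl U X') :
    SGA4.closedCompl U X := by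
  have h' : IsIso (prod.fst : U ⨯ X' ⟶ U) := h
  have : (prod.fst : U ⨯ X ⟶ U) = prod.map (𝟙 U) e.hom ≫ prod.fst := by simp
  show IsIso (prod.fst : U ⨯ X ⟶ U)
  rw [this]
  infer_instance

end ClosedCompl

set_option backward.isDefEq.respectTransparency false in
theorem X6177 {C : Type u} [SmallCategory C] (J : GrothendieckTopology C)
    (U : Sheaf J (Type u)) (hU : SGA4.IsOpen U) (X : Sheaf J (Type u)) :
    (SGA4.closedCompl U X ↔ IsIso (pushout.inr (prod.fst : U ⨯ X ⟶ U) (prod.snd : U ⨯ X ⟶ X))) ∧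
    ((∃ Y : Sheaf J (Type u), Nonempty (X ≅ pushout (prod.fst : U ⨯ Y ⟶ U) (prod.snd : U ⨯ Y ⟶ Y))) →
      SGA4.closedCompl U X) := by
  have : Mono (terminal.from U) := hU
  have : PreservesColimitsOfShape WalkingSpan (prod.functor.obj U) :=
    preservesColimitsOfShape_of_natIso (CartesianMonoidalCategory.tensorLeftIsoProd U)
  refine ⟨⟨fun h => ?_, fun h => ?_⟩, ?_⟩
  · have : IsIso (prod.fst : U ⨯ X ⟶ U) := h
    infer_instance
  · exact closedCompl_of_iso U (asIso (pushout.inr (prod.fst : U ⨯ X ⟶ U) (prod.snd : U ⨯ X ⟶ X)))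
      (closedCompl_pushout U X)
  · rintro ⟨Y, ⟨e⟩⟩
    exact closedCompl_of_iso U e (closedCompl_pushout U Y)

open MonoidalCategory in
set_option backward.isDefEq.respectTransparency false in
theorem star_rightAdjoint_iso_ihom {E : Type u} [Category.{v} E] [CartesianMonoidalCategory E]
    [HasBinaryProducts E] [MonoidalClosed E] (Z Y : E) [(Over.star Z).IsLeftAdjoint] :
    Nonempty (((Over.star Z).rightAdjoint).obj ((Over.star Z).obj Y) ≅ (ihom Z).obj Y) := by
  have adj1 : Over.star Z ⋙ Over.forget Z ⊣ Over.star Z ⋙ (Over.star Z).rightAdjoint :=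
    (Adjunction.ofIsLeftAdjoint (Over.star Z)).comp (Over.forgetAdjStar Z)
  have e1 : Over.star Z ⋙ Over.forget Z ≅ prod.functor.obj Z :=
    NatIso.ofComponents (fun Y => Iso.refl _) (by intro A B f; simp)
  have adj2 : tensorLeft Z ⊣ Over.star Z ⋙ (Over.star Z).rightAdjoint :=
    adj1.ofNatIsoLeft (e1 ≪≫ (CartesianMonoidalCategory.tensorLeftIsoProd Z).symm)
  exact ⟨(adj2.rightAdjointUniq (ihom.adjunction Z)).app Y⟩

open MonoidalCategory in
set_option backward.isDefEq.respectTransparency false in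
/-- Version of S6172 generic in the chosen closed structure on presheaves (instance choice depends on import order). -/
theorem X6172 {C : Type u} [SmallCategory C] (J : GrothendieckTopology C)
    [MonoidalClosed (Cᵒᵖ ⥤ Type u)]
    (Z Y : Sheaf J (Type u)) [(Over.star Z).IsLeftAdjoint] :
    Nonempty (((Over.star Z).rightAdjoint).obj ((Over.star Z).obj Y) ≅ (ihom Z).obj Y) :=
  star_rightAdjoint_iso_ihom Z Y

open MonoidalCategory in
set_option backward.isDefEq.respectTransparency false in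
theorem push_ihom_pull_iso_general {E : Type u₁} [Category.{v₁} E] [CartesianMonoidalCategory E]
    {E' : Type u₂} [Category.{v₂} E'] [CartesianMonoidalCategory E']
    {L : E' ⥤ E} {R : E ⥤ E'} (adj : L ⊣ R) (Y : E') [∀ B, PreservesLimit (pair Y B) L]
    [Closed Y] [Closed (L.obj Y)] (X : E) :
    Nonempty (R.obj ((ihom (L.obj Y)).obj X) ≅ (ihom Y).obj (R.obj X)) := by
  have adjA : L ⋙ tensorLeft (L.obj Y) ⊣ ihom (L.obj Y) ⋙ R :=
    adj.comp (ihom.adjunction (L.obj Y))
  have adjB : tensorLeft Y ⋙ L ⊣ R ⋙ ihom Y :=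
    (ihom.adjunction Y).comp adj
  have e : tensorLeft Y ⋙ L ≅ L ⋙ tensorLeft (L.obj Y) :=
    CartesianMonoidalCategory.prodComparisonNatIso L Y
  exact ⟨((adjA.ofNatIsoLeft e.symm).rightAdjointUniq adjB).app X⟩

open MonoidalCategory in
set_option backward.isDefEq.respectTransparency false in
theorem X6171 {C D : Type u} [SmallCategory C] [SmallCategory D] (J : GrothendieckTopology C)
    (K : GrothendieckTopology D) [MonoidalClosed (Cᵒᵖ ⥤ Type u)] [MonoidalClosed (Dᵒᵖ ⥤ Type u)]
    (u : D ⥤ C) [u.IsContinuous K J] [PreservesFiniteLimits (u.sheafPullback (Type u) K J)]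
    (X : Sheaf J (Type u)) (Y : Sheaf K (Type u)) :
    Nonempty ((u.sheafPushforwardContinuous (Type u) K J).obj ((ihom ((u.sheafPullback (Type u) K J).obj Y)).obj X) ≅
      (ihom Y).obj ((u.sheafPushforwardContinuous (Type u) K J).obj X)) :=
  push_ihom_pull_iso_general (u.sheafAdjunctionContinuous (Type u) K J) Y X

end Groth.Agent.H3.SGA4Aux
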