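import Mathlib
import Groth.Prelude.Def_GSzCSA
import Groth.Prelude.Def_GSzH1
import Groth.Prelude.Def_Curves
import Groth.Agent.Lib.Helper7.RN3
import Groth.Agent.Lib.Helper7.Desc3
import Groth.Agent.H4.H90

/-!
# `H¹` of the norm-one group of a central simple algebra (finite level)
-/

set_option autoImplicit false

namespace Groth.Agent.H3.SL1

universe u v w
open scoped TensorProduct
open Groth.Agent.H7

attribute [local instance] CSAGal.tensorAction GpH1.unitsAction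

section
variable (k : Type u) [Field k] (K : Type v) [Field K] [Algebra k K]
  (A : Type w) [Ring A] [Algebra k A] [Algebra.IsCentral k A] [IsSimpleRing A]
  [FiniteDimensional k A]

/-- The reduced norm of `K ⊗ A` over `K` is the determinant through any splitting. -/
theorem redNormK_eq_det (n : ℕ) (hn : n ≠ 0) (ψ : K ⊗[k] A ≃ₐ[K] Matrix (Fin n) (Fin n) K)
    (NK : (K ⊗[k] A) →* K) (hNK : CSAGal.IsRedNorm K (K ⊗[k] A) NK) (x : K ⊗[k] A) :
    NK x = (ψ x).det := by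
  obtain ⟨K₁, _, _, _, n₁, φ₁, h₁⟩ := hNK
  have : IsSimpleRing (K ⊗[k] A) := CSA.isSimpleRing_tensor k K A
  have : Algebra.IsCentral K (K ⊗[k] A) := CSA.isCentral_baseChange k A K
  have hdim1 := CSA.finrank_eq_of_split K (K ⊗[k] A) K₁ n₁ φ₁
  have hdim2 : Module.finrank K (K ⊗[k] A) = n * n := by
    rw [ψ.toLinearEquiv.finrank_eq, Module.finrank_matrix]; simp
  have hnn : n₁ = n := Nat.mul_self_inj.mp (hdim1.symm.trans hdim2)
  subst hnn
  have : NeZero n₁ := ⟨hn⟩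
  let ρ : K ⊗[k] A →ₐ[K] Matrix (Fin n₁) (Fin n₁) K₁ :=
    (φ₁.toAlgHom.restrictScalars K).comp Algebra.TensorProduct.includeRight
  let ρ' : K ⊗[k] A →ₐ[K] Matrix (Fin n₁) (Fin n₁) K₁ :=
    ((Algebra.ofId K K₁).mapMatrix).comp ψ.toAlgHom
  have h := RN.det_eq_of_algHom K (K ⊗[k] A) K₁ n₁ ρ ρ' x
  apply (algebraMap K K₁).injective
  rw [h₁ x]
  change (ρ x).det = _
  rw [h]
  change ((Algebra.ofId K K₁).mapMatrix (ψ x)).det = _
  rw [← AlgHom.map_det]
  rfl

/-- The reduced norm of `A` over `k` is the determinant through any splitting field. -/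
theorem redNorm_eq_det (n : ℕ) (hn : n ≠ 0) (ψ : K ⊗[k] A ≃ₐ[K] Matrix (Fin n) (Fin n) K)
    (N : A →* k) (hN : CSAGal.IsRedNorm k A N) (a : A) :
    algebraMap k K (N a) = (ψ (1 ⊗ₜ[k] a)).det := by
  obtain ⟨K₂, _, _, _, n₂, φ₂, h₂⟩ := hN
  have hdim1 := CSA.finrank_eq_of_split k A K₂ n₂ φ₂
  have hdim2 := CSA.finrank_eq_of_split k A K n ψ
  have hnn : n₂ = n := Nat.mul_self_inj.mp (hdim1.symm.trans hdim2)
  subst hnn
  have : NeZero n₂ := ⟨hn⟩
  let j : K₂ →ₐ[k] AlgebraicClosure K := IsAlgClosed.lift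
  let ρ : A →ₐ[k] Matrix (Fin n₂) (Fin n₂) (AlgebraicClosure K) :=
    (j.mapMatrix).comp ((φ₂.toAlgHom.restrictScalars k).comp Algebra.TensorProduct.includeRight)
  let ρ' : A →ₐ[k] Matrix (Fin n₂) (Fin n₂) (AlgebraicClosure K) :=
    (((Algebra.ofId K (AlgebraicClosure K)).restrictScalars k).mapMatrix).comp
      ((ψ.toAlgHom.restrictScalars k).comp Algebra.TensorProduct.includeRight)
  have h := RN.det_eq_of_algHom k A (AlgebraicClosure K) n₂ ρ ρ' a
  apply (algebraMap K (AlgebraicClosure K)).injective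
  rw [← IsScalarTower.algebraMap_apply]
  have h3 : (ρ a).det = algebraMap k (AlgebraicClosure K) (N a) := by
    change (j.mapMatrix (φ₂ (1 ⊗ₜ[k] a))).det = _
    rw [← AlgHom.map_det, ← h₂, AlgHom.commutes]
  have h4 : (ρ' a).det = algebraMap K (AlgebraicClosure K) (ψ (1 ⊗ₜ[k] a)).det := by
    change (((Algebra.ofId K (AlgebraicClosure K)).restrictScalars k).mapMatrix
      (ψ (1 ⊗ₜ[k] a))).det = _
    rw [← AlgHom.map_det]
    rfl
  rw [← h3, h, h4]

/-- Galois equivariance of the determinant through a splitting. -/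
theorem det_smul (n : ℕ) (hn : n ≠ 0) (ψ : K ⊗[k] A ≃ₐ[K] Matrix (Fin n) (Fin n) K)
    (σ : K ≃ₐ[k] K) (x : K ⊗[k] A) : (ψ (σ • x)).det = σ ((ψ x).det) := by
  have : IsSimpleRing (K ⊗[k] A) := CSA.isSimpleRing_tensor k K A
  have : Algebra.IsCentral K (K ⊗[k] A) := CSA.isCentral_baseChange k A K
  have : NeZero n := ⟨hn⟩
  let r : K ⊗[k] A →+* Matrix (Fin n) (Fin n) K :=
    ((σ : K →+* K).mapMatrix).comp
      ((ψ : K ⊗[k] A →+* Matrix (Fin n) (Fin n) K).comp
        (MulSemiringAction.toRingHom (K ≃ₐ[k] K) (K ⊗[k] A) σ⁻¹))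
  have hr : ∀ y, r y = (ψ (σ⁻¹ • y)).map σ := fun y => rfl
  let ρ' : K ⊗[k] A →ₐ[K] Matrix (Fin n) (Fin n) K :=
    { toRingHom := r
      commutes' := by
        intro c
        show r (algebraMap K (K ⊗[k] A) c) = _
        rw [hr, Algebra.TensorProduct.algebraMap_apply, Algebra.algebraMap_self_apply,
          Desc.smul_tmul_eq]
        have h1 : ((σ⁻¹ : K ≃ₐ[k] K) c) ⊗ₜ[k] (1 : A) =
            algebraMap K (K ⊗[k] A) ((σ⁻¹ : K ≃ₐ[k] K) c) := by
          rw [Algebra.TensorProduct.algebraMap_apply, Algebra.algebraMap_self_apply]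
        rw [h1, AlgEquiv.commutes]
        ext i j
        rw [Matrix.map_apply, Matrix.algebraMap_matrix_apply, Matrix.algebraMap_matrix_apply]
        split_ifs
        · rw [Algebra.algebraMap_self_apply, Algebra.algebraMap_self_apply]
          show σ (σ⁻¹ c) = c
          rw [← AlgEquiv.mul_apply, mul_inv_cancel, AlgEquiv.one_apply]
        · exact map_zero σ }
  have h := RN.det_eq_of_algHom K (K ⊗[k] A) K n ψ.toAlgHom ρ' (σ • x)
  have h2 : ρ' (σ • x) = (ψ x).map σ := by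
    show r (σ • x) = _
    rw [hr, inv_smul_smul]
  rw [h2] at h
  have h3 : ((ψ x).map σ).det = σ ((ψ x).det) := by
    have := RingHom.map_det (σ : K →+* K) (ψ x)
    exact this.symm
  rw [h3] at h
  exact h

end

/-- **Main theorem**: the first cohomology set of the norm-one group, finite level. -/
theorem main (k : Type u) [Field k] (K : Type v) [Field K] [Algebra k K] [FiniteDimensional k K]
    [IsGalois k K]
    (A : Type w) [Ring A] [Algebra k A] [Algebra.IsCentral k A] [IsSimpleRing A]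
    [FiniteDimensional k A]
    (hA : Curves.Splits k A K)
    (N : A →* k) (hN : CSAGal.IsRedNorm k A N)
    (NK : (K ⊗[k] A) →* K) (hNK : CSAGal.IsRedNorm K (K ⊗[k] A) NK) :
    (∀ a : GpH1.OneCocycle (K ≃ₐ[k] K) (K ⊗[k] A)ˣ, (∀ σ, NK (a σ : K ⊗[k] A) = 1) →
        ∃ (c : kˣ) (b : (K ⊗[k] A)ˣ), NK (b : K ⊗[k] A) = algebraMap k K (c : k) ∧
          ∀ σ : K ≃ₐ[k] K, a σ = b⁻¹ * σ • b) ∧
    (∀ (c c' : kˣ) (b b' : (K ⊗[k] A)ˣ),
        NK (b : K ⊗[k] A) = algebraMap k K (c : k) →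
        NK (b' : K ⊗[k] A) = algebraMap k K (c' : k) →
        ((∃ s : (K ⊗[k] A)ˣ, NK (s : K ⊗[k] A) = 1 ∧
            ∀ σ : K ≃ₐ[k] K, b'⁻¹ * σ • b' = s⁻¹ * (b⁻¹ * σ • b) * σ • s) ↔
          ∃ x : Aˣ, (c' : k) = N (x : A) * (c : k))) := by
  obtain ⟨n, hn, ⟨ψ⟩⟩ := hA
  have hNKdet : ∀ x, NK x = (ψ x).det := redNormK_eq_det k K A n hn ψ NK hNK
  have hNKsmul : ∀ (σ : K ≃ₐ[k] K) (x : K ⊗[k] A), NK (σ • x) = σ (NK x) := by
    intro σ x
    rw [hNKdet, hNKdet, det_smul k K A n hn ψ]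
  have hNKincl : ∀ a : A, NK ((1 : K) ⊗ₜ[k] a) = algebraMap k K (N a) := by
    intro a
    rw [hNKdet, redNorm_eq_det k K A n hn ψ N hN]
  have hfix : ∀ (σ : K ≃ₐ[k] K) (a : A), σ • ((1 : K) ⊗ₜ[k] a) = (1 : K) ⊗ₜ[k] a := by
    intro σ a
    rw [Desc.smul_tmul_eq, map_one]
  constructor
  · intro a ha
    have htriv := H4.H90.main k K A a.cl
    unfold GpH1.H1.pt at htriv
    rw [GpH1.OneCocycle.cl_eq_cl_iff] at htriv
    obtain ⟨b, hb⟩ := htriv
    have hb' : ∀ σ : K ≃ₐ[k] K, a σ = b⁻¹ * σ • b := by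
      intro σ
      have := hb σ
      change a σ = b⁻¹ * 1 * σ • b at this
      rw [this, mul_one]
    have hfixed : ∀ σ : K ≃ₐ[k] K, σ (NK (b : K ⊗[k] A)) = NK (b : K ⊗[k] A) := by
      intro σ
      rw [← hNKsmul]
      have h1 : σ • b = b * a σ := by rw [hb' σ]; group
      have h2 : σ • (b : K ⊗[k] A) = (b : K ⊗[k] A) * (a σ : K ⊗[k] A) := by
        have := congrArg (fun u : (K ⊗[k] A)ˣ => (u : K ⊗[k] A)) h1
        exact this
      rw [h2, map_mul, ha σ, mul_one]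
    have hmem : NK (b : K ⊗[k] A) ∈ Set.range (algebraMap k K) := by
      rw [IsGalois.mem_range_algebraMap_iff_fixed]
      exact hfixed
    obtain ⟨c₀, hc₀⟩ := hmem
    have hunit : IsUnit (NK (b : K ⊗[k] A)) := b.isUnit.map NK
    have hc₀ne : c₀ ≠ 0 := by
      rintro rfl
      rw [map_zero] at hc₀
      exact hunit.ne_zero hc₀.symm
    exact ⟨Units.mk0 c₀ hc₀ne, b, hc₀.symm, hb'⟩
  · intro c c' b b' hb hb'
    have hcne : algebraMap k K (c : k) ≠ 0 := by
      rw [Ne, map_eq_zero]; exact c.ne_zero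
    have hc'ne : algebraMap k K (c' : k) ≠ 0 := by
      rw [Ne, map_eq_zero]; exact c'.ne_zero
    constructor
    · rintro ⟨s, hs1, hs⟩
      set u : (K ⊗[k] A)ˣ := b * s * b'⁻¹ with hu
      have hufix : ∀ σ : K ≃ₐ[k] K, σ • u = u := by
        intro σ
        have h' : σ • b' = b' * (s⁻¹ * (b⁻¹ * σ • b) * σ • s) := by
          rw [← hs σ]; group
        rw [hu, smul_mul', smul_mul', smul_inv', h']
        group
      have hufix1 : ∀ σ : K ≃ₐ[k] K, σ • (u : K ⊗[k] A) = (u : K ⊗[k] A) := by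
        intro σ
        exact congrArg (fun w : (K ⊗[k] A)ˣ => (w : K ⊗[k] A)) (hufix σ)
      have hufix2 : ∀ σ : K ≃ₐ[k] K,
          σ • ((u⁻¹ : (K ⊗[k] A)ˣ) : K ⊗[k] A) = ((u⁻¹ : (K ⊗[k] A)ˣ) : K ⊗[k] A) := by
        intro σ
        have : σ • u⁻¹ = u⁻¹ := by rw [smul_inv', hufix σ]
        exact congrArg (fun w : (K ⊗[k] A)ˣ => (w : K ⊗[k] A)) this
      obtain ⟨x', hx'⟩ := Desc.fixed_tensor (u : K ⊗[k] A) hufix1
      obtain ⟨x'', hx''⟩ := Desc.fixed_tensor ((u⁻¹ : (K ⊗[k] A)ˣ) : K ⊗[k] A) hufix2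
      have h12 : x' * x'' = 1 := by
        apply Desc.one_tmul_injective (K := K) (k := k)
        show (1 : K) ⊗ₜ[k] (x' * x'') = (1 : K) ⊗ₜ[k] (1 : A)
        have : ((1 : K) ⊗ₜ[k] x') * ((1 : K) ⊗ₜ[k] x'') = (1 : K ⊗[k] A) := by
          rw [← hx', ← hx'', Units.mul_inv]
        rw [Algebra.TensorProduct.tmul_mul_tmul, one_mul] at this
        rw [this]; rfl
      have h21 : x'' * x' = 1 := by
        apply Desc.one_tmul_injective (K := K) (k := k)
        show (1 : K) ⊗ₜ[k] (x'' * x') = (1 : K) ⊗ₜ[k] (1 : A)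
        have : ((1 : K) ⊗ₜ[k] x'') * ((1 : K) ⊗ₜ[k] x') = (1 : K ⊗[k] A) := by
          rw [← hx', ← hx'', Units.inv_mul]
        rw [Algebra.TensorProduct.tmul_mul_tmul, one_mul] at this
        rw [this]; rfl
      refine ⟨⟨x'', x', h21, h12⟩, ?_⟩
      show (c' : k) = N x'' * (c : k)
      -- NK u = c * c'⁻¹
      have hNu : NK (u : K ⊗[k] A) = algebraMap k K (c : k) * (algebraMap k K (c' : k))⁻¹ := by
        rw [hu, Units.val_mul, Units.val_mul, map_mul, map_mul, hb, hs1, mul_one,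
          map_units_inv, hb']
      have hNx' : algebraMap k K (N x') = algebraMap k K (c : k) * (algebraMap k K (c' : k))⁻¹ := by
        rw [← hNKincl, ← hx', hNu]
      have h3 : N x' * (c' : k) = (c : k) := by
        apply (algebraMap k K).injective
        rw [map_mul, hNx', inv_mul_cancel_right₀ hc'ne]
      have h4 : N x'' * N x' = 1 := by rw [← map_mul, h21, map_one]
      calc (c' : k) = (N x'' * N x') * (c' : k) := by rw [h4, one_mul]
        _ = N x'' * (N x' * (c' : k)) := by ring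
        _ = N x'' * (c : k) := by rw [h3]
    · rintro ⟨x, hx⟩
      let ux : (K ⊗[k] A)ˣ :=
        Units.map ((Algebra.TensorProduct.includeRight : A →ₐ[k] K ⊗[k] A) : A →* K ⊗[k] A) x
      have hux : (ux : K ⊗[k] A) = (1 : K) ⊗ₜ[k] (x : A) := rfl
      have huxfix : ∀ σ : K ≃ₐ[k] K, σ • ux = ux := by
        intro σ
        apply Units.ext
        show σ • (ux : K ⊗[k] A) = (ux : K ⊗[k] A)
        rw [hux, hfix]
      refine ⟨b⁻¹ * ux⁻¹ * b', ?_, ?_⟩
      · rw [Units.val_mul, Units.val_mul, map_mul, map_mul, map_units_inv, map_units_inv, hb, hb',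
          hux, hNKincl, hx, map_mul]
        have hNx : algebraMap k K (N (x : A)) ≠ 0 := by
          rw [Ne, map_eq_zero]
          intro h0
          have : (c' : k) = 0 := by rw [hx, h0, zero_mul]
          exact c'.ne_zero this
        field_simp
      · intro σ
        rw [smul_mul', smul_mul', smul_inv', smul_inv', huxfix σ]
        group

end Groth.Agent.H3.SL1
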