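import Mathlib
import Groth.Prelude.Def_CInt
import Groth.Agent.Lib.Helper2.SchDense
import Groth.Agent.Lib.Helper3.DepthAux

set_option autoImplicit false
universe u
open AlgebraicGeometry CategoryTheory TopologicalSpace Opposite IsLocalRing

namespace Groth.Agent.H3.SchDenseDepth

variable {X : Scheme.{u}}

/-- `1 ≤ depth` iff the maximal ideal is not an associated prime. -/
theorem one_le_depth_iff (A : Type u) [CommRing A] [IsLocalRing A] [IsNoetherianRing A] :
    (1 : ℕ∞) ≤ LocCoh.depth A A ↔ ¬ IsAssociatedPrime (maximalIdeal A) A := by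
  rw [Order.one_le_iff_ne_zero, ne_eq, DepthAux.depth_eq_zero_iff_mem_associatedPrimes A A]
  rfl

/-- For an affine open `V` with Noetherian sections and `x ∈ V`: the maximal ideal of the stalk is an
associated prime of the stalk iff the prime of `x` is an associated prime of `Γ(X, V)`. -/
theorem isAssociatedPrime_stalk_iff {V : X.Opens} (hV : IsAffineOpen V) [IsNoetherianRing Γ(X, V)]
    (x : X) (hx : x ∈ V) :
    IsAssociatedPrime (maximalIdeal (X.presheaf.stalk x)) (X.presheaf.stalk x) ↔
      IsAssociatedPrime (hV.primeIdealOf ⟨x, hx⟩).asIdeal Γ(X, V) := by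
  letI := X.presheaf.algebra_section_stalk ⟨x, hx⟩
  haveI := hV.isLocalization_stalk ⟨x, hx⟩
  have hcomap : (maximalIdeal (X.presheaf.stalk x)).comap (algebraMap Γ(X, V) (X.presheaf.stalk x)) =
      (hV.primeIdealOf ⟨x, hx⟩).asIdeal :=
    IsLocalization.AtPrime.under_maximalIdeal (X.presheaf.stalk x) (hV.primeIdealOf ⟨x, hx⟩).asIdeal
  have key := Module.associatedPrimes.preimage_comap_associatedPrimes_eq_associatedPrimes_of_isLocalizedModule
    (hV.primeIdealOf ⟨x, hx⟩).asIdeal.primeCompl (R' := X.presheaf.stalk x)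
    (Algebra.linearMap Γ(X, V) (X.presheaf.stalk x))
  have h2 : maximalIdeal (X.presheaf.stalk x) ∈
      (Ideal.comap (algebraMap Γ(X, V) (X.presheaf.stalk x))) ⁻¹' (associatedPrimes Γ(X, V) Γ(X, V)) ↔
      maximalIdeal (X.presheaf.stalk x) ∈ associatedPrimes (X.presheaf.stalk x) (X.presheaf.stalk x) := by
    rw [key]
  rw [Set.mem_preimage, hcomap] at h2
  exact h2.symm

theorem main (X : Scheme.{u}) [IsLocallyNoetherian X] (U : X.Opens) :
    CInt.IsSchematicallyDense U ↔
      ∀ x : ↥X, x ∉ U → (1 : ℕ∞) ≤ LocCoh.depth ↑(X.presheaf.stalk x) ↑(X.presheaf.stalk x) := by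
  constructor
  · intro hU x hxU
    rw [one_le_depth_iff]
    intro hass
    obtain ⟨_, ⟨V, hV, rfl⟩, hxV, -⟩ :=
      X.isBasis_affineOpens.exists_subset_of_mem_open (Set.mem_univ x) isOpen_univ
    haveI : IsNoetherianRing Γ(X, V) := IsLocallyNoetherian.component_noetherian ⟨V, hV⟩
    rw [isAssociatedPrime_stalk_iff hV x hxV, isAssociatedPrime_iff] at hass
    obtain ⟨hP, a, ha⟩ := hass
    -- `a` restricts to zero on `V ⊓ U`
    have hres : X.presheaf.map (homOfLE (inf_le_left : V ⊓ U ≤ V)).op a = 0 := by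
      refine TopCat.Presheaf.section_ext X.sheaf (V ⊓ U) _ _ fun z hz => ?_
      change X.presheaf.germ (V ⊓ U) z hz (X.presheaf.map (homOfLE inf_le_left).op a) =
        X.presheaf.germ (V ⊓ U) z hz 0
      rw [map_zero, TopCat.Presheaf.germ_res_apply]
      -- find `g ∈ P \ P_z`
      have hnle : ¬ (hV.primeIdealOf ⟨x, hxV⟩).asIdeal ≤ (hV.primeIdealOf ⟨z, hz.1⟩).asIdeal := by
        intro hle
        have hsp : hV.primeIdealOf ⟨x, hxV⟩ ⤳ hV.primeIdealOf ⟨z, hz.1⟩ :=
          (PrimeSpectrum.le_iff_specializes _ _).1 hle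
        have hsp2 := hsp.map hV.fromSpec.continuous
        rw [hV.fromSpec_primeIdealOf ⟨x, hxV⟩, hV.fromSpec_primeIdealOf ⟨z, hz.1⟩] at hsp2
        exact hxU (hsp2.mem_open U.2 hz.2)
      obtain ⟨g, hgP, hgz⟩ := SetLike.not_le_iff_exists.1 hnle
      have hga : g * a = 0 := by
        rw [ha] at hgP
        rw [Submodule.mem_colon_singleton] at hgP
        simpa using hgP
      letI := X.presheaf.algebra_section_stalk ⟨z, hz.1⟩
      haveI := hV.isLocalization_stalk ⟨z, hz.1⟩
      have hunit : IsUnit (X.presheaf.germ V z hz.1 g) :=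
        IsLocalization.map_units (X.presheaf.stalk z)
          (⟨g, hgz⟩ : (hV.primeIdealOf ⟨z, hz.1⟩).asIdeal.primeCompl)
      have h3 := congrArg (X.presheaf.germ V z hz.1) hga
      rw [map_mul, map_zero] at h3
      exact hunit.mul_left_cancel (by rw [h3, mul_zero])
    have ha0 : a = 0 := Groth.Agent.H2.SchDense.apply_eq_zero hU a hres
    apply hP.ne_top
    rw [ha, ha0, eq_top_iff]
    intro r _
    rw [Submodule.mem_colon_singleton]
    simp
  · intro h
    apply Groth.Agent.H2.SchDense.of_forall_affine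
    intro V hV a ha
    haveI : IsNoetherianRing Γ(X, V) := IsLocallyNoetherian.component_noetherian ⟨V, hV⟩
    by_contra ha0
    -- associated prime of the cyclic submodule generated by `a`
    let M : Submodule Γ(X, V) Γ(X, V) := Submodule.span Γ(X, V) {a}
    have hane : (⟨a, Submodule.mem_span_singleton_self a⟩ : M) ≠ 0 := by
      intro h0
      exact ha0 (congrArg Subtype.val h0)
    obtain ⟨P, hP, -⟩ := exists_le_isAssociatedPrime_of_isNoetherianRing Γ(X, V)
      (⟨a, Submodule.mem_span_singleton_self a⟩ : M) hane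
    rw [isAssociatedPrime_iff] at hP
    obtain ⟨hPprime, ⟨y, hyM⟩, hPy⟩ := hP
    obtain ⟨b, rfl⟩ := Submodule.mem_span_singleton.1 hyM
    have hPann : ∀ r : Γ(X, V), r ∈ P ↔ r * (b * a) = 0 := by
      intro r
      rw [hPy, Submodule.mem_colon_singleton, Submodule.mem_bot]
      constructor
      · intro h1
        have := congrArg Subtype.val h1
        simpa using this
      · intro h1
        apply Subtype.ext
        simpa using h1
    -- the point of `P`
    let x : X := hV.fromSpec ⟨P, hPprime⟩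
    have hxV : x ∈ V := hV.range_fromSpec.le ⟨_, rfl⟩
    have hPx : hV.primeIdealOf ⟨x, hxV⟩ = ⟨P, hPprime⟩ := by
      apply hV.fromSpec.isOpenEmbedding.injective
      exact hV.fromSpec_primeIdealOf ⟨x, hxV⟩
    have hass : IsAssociatedPrime (maximalIdeal (X.presheaf.stalk x)) (X.presheaf.stalk x) := by
      rw [isAssociatedPrime_stalk_iff hV x hxV, hPx, isAssociatedPrime_iff]
      refine ⟨hPprime, b * a, ?_⟩
      ext r
      rw [hPann, Submodule.mem_colon_singleton, Submodule.mem_bot, smul_eq_mul]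
    have hxU : x ∈ U := by
      by_contra hxU
      exact (one_le_depth_iff _).1 (h x hxU) hass
    have hgerm : X.presheaf.germ V x hxV a = 0 := by
      have := congrArg (X.presheaf.germ (V ⊓ U) x ⟨hxV, hxU⟩) ha
      rwa [TopCat.Presheaf.germ_res_apply, map_zero] at this
    letI := X.presheaf.algebra_section_stalk ⟨x, hxV⟩
    haveI := hV.isLocalization_stalk ⟨x, hxV⟩
    obtain ⟨⟨s, hs⟩, hsa⟩ := (IsLocalization.map_eq_zero_iff
      (hV.primeIdealOf ⟨x, hxV⟩).asIdeal.primeCompl (X.presheaf.stalk x) a).1 hgerm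
    apply hs
    rw [hPx]
    exact (hPann s).2 (by rw [mul_left_comm, hsa, mul_zero])

end Groth.Agent.H3.SchDenseDepth
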