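import Mathlib

set_option autoImplicit false

universe u

open AlgebraicGeometry CategoryTheory CategoryTheory.Limits

namespace Groth.Agent.H3.SchDom

variable {X S : Scheme.{u}} (p : X ⟶ S) {ι : Type u} (Z : ι → Scheme.{u}) (f : ∀ i, Z i ⟶ X)

/-- condition b) -/
def CondB : Prop := ∀ (V : (X).Opens) (t : Γ(X, V)), (∀ i, (f i).app V t = 0) → t = 0

include f in
lemma b_to_c (hb : CondB Z f) (U : X.Opens) (Y : Scheme.{u}) (j : Y ⟶ (U : Scheme.{u}))
    (hj : IsClosedImmersion j)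
    (hg : ∀ i, ∃ g : ((f i) ⁻¹ᵁ U : Scheme.{u}) ⟶ Y, g ≫ j = (f i) ∣_ U) : IsIso j := by
  rw [IsClosedImmersion.isIso_iff_ker_eq_bot]
  ext V : 2
  rw [Scheme.Hom.ker_apply, Scheme.IdealSheafData.ideal_bot, Pi.bot_apply,
    ← RingHom.injective_iff_ker_eq_bot, injective_iff_map_eq_zero]
  intro t ht
  -- t is a section of X over the image of V
  refine hb (U.ι ''ᵁ V.1) t fun i => ?_
  obtain ⟨g, hgi⟩ := hg i
  have h0 : ∀ (φ : ((f i) ⁻¹ᵁ U : Scheme.{u}) ⟶ (U : Scheme.{u})), g ≫ j = φ → φ.app V.1 t = 0 := by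
    rintro _ rfl
    change (g.app (j ⁻¹ᵁ V.1)) ((j.app V.1) t) = 0
    rw [show (j.app V.1) t = 0 from ht, map_zero]
  have h1 : ((f i) ∣_ U).app V.1 t = 0 := h0 _ hgi
  have h2 := morphismRestrict_app (f i) U V.1
  have h3 : ((Z i).presheaf.map (eqToHom (image_morphismRestrict_preimage (f i) U V.1)).op)
      ((f i).app (U.ι ''ᵁ V.1) t) = 0 := (congr($h2 t)).symm.trans h1
  have hinj : Function.Injective
      ((Z i).presheaf.map (eqToHom (image_morphismRestrict_preimage (f i) U V.1)).op) :=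
    (ConcreteCategory.bijective_of_isIso _).1
  exact hinj (by rw [h3, map_zero])


include f in
lemma c_to_d
    (hc : ∀ (U : X.Opens) (Y : Scheme.{u}) (j : Y ⟶ (U : Scheme.{u})), IsClosedImmersion j →
        (∀ i, ∃ g : ((f i) ⁻¹ᵁ U : Scheme.{u}) ⟶ Y, g ≫ j = (f i) ∣_ U) → IsIso j)
    (X' : Scheme.{u}) (q : X' ⟶ S) (hq : IsSeparated q) (U : X.Opens)
    (u v : (U : Scheme.{u}) ⟶ X') (hu : u ≫ q = U.ι ≫ p) (hv : v ≫ q = U.ι ≫ p)
    (huv : ∀ i, ((f i) ∣_ U) ≫ u = ((f i) ∣_ U) ≫ v) : u = v := by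
  haveI := hq
  let d := pullback.diagonal q
  let w : (U : Scheme.{u}) ⟶ pullback q q := pullback.lift u v (hu.trans hv.symm)
  have hw1 : w ≫ pullback.fst q q = u := pullback.lift_fst _ _ _
  have hw2 : w ≫ pullback.snd q q = v := pullback.lift_snd _ _ _
  let j : pullback w d ⟶ (U : Scheme.{u}) := pullback.fst w d
  haveI : IsClosedImmersion j := inferInstanceAs (IsClosedImmersion (pullback.fst w d))
  haveI : IsIso j := by
    refine hc U _ j inferInstance fun i => ?_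
    refine ⟨pullback.lift ((f i) ∣_ U) (((f i) ∣_ U) ≫ u) ?_, pullback.lift_fst _ _ _⟩
    apply pullback.hom_ext
    · rw [Category.assoc, hw1, Category.assoc, pullback.diagonal_fst, Category.comp_id]
    · rw [Category.assoc, hw2, Category.assoc, pullback.diagonal_snd, Category.comp_id, huv i]
  rw [← cancel_epi j]
  have h1 : j ≫ u = pullback.snd w d := by
    rw [← hw1, ← Category.assoc, pullback.condition, Category.assoc, pullback.diagonal_fst,
      Category.comp_id]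
  have h2 : j ≫ v = pullback.snd w d := by
    rw [← hw2, ← Category.assoc, pullback.condition, Category.assoc, pullback.diagonal_snd,
      Category.comp_id]
  rw [h1, h2]

open AffineSpace in
include f in
lemma d_to_b
    (hd : ∀ (X' : Scheme.{u}) (q : X' ⟶ S), IsSeparated q → ∀ (U : X.Opens) (u v : (U : Scheme.{u}) ⟶ X'),
        u ≫ q = U.ι ≫ p → v ≫ q = U.ι ≫ p → (∀ i, ((f i) ∣_ U) ≫ u = ((f i) ∣_ U) ≫ v) → u = v) :
    CondB Z f := by
  intro V t ht
  -- transport t to a global section of the open subscheme V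
  let t' : Γ((V : Scheme.{u}), ⊤) := V.topIso.inv t
  let u : (V : Scheme.{u}) ⟶ 𝔸(PUnit.{u+1}; S) := homOfVector (V.ι ≫ p) (fun _ => t')
  let v : (V : Scheme.{u}) ⟶ 𝔸(PUnit.{u+1}; S) := homOfVector (V.ι ≫ p) (fun _ => 0)
  have huv : u = v := by
    refine hd _ (𝔸(PUnit.{u+1}; S) ↘ S) inferInstance V u v (homOfVector_over _ _)
      (homOfVector_over _ _) fun i => ?_
    rw [comp_homOfVector, comp_homOfVector]
    congr 1
    funext _
    simp only [Function.comp_apply, map_zero]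
    have e1 := morphismRestrict_appTop (f i) V
    have e2 := (f i).naturality (eqToHom V.ι_image_top).op
    have e3 : (f i).app (V.ι ''ᵁ ⊤) t' = _ := congr($e2 t)
    have e4 : ((f i ∣_ V).appTop) t' = _ := congr($e1 t')
    rw [e4]
    change ((Z i).presheaf.map _) ((f i).app (V.ι ''ᵁ ⊤) t') = 0
    rw [e3]
    change ((Z i).presheaf.map _) (((Z i).presheaf.map _) ((f i).app V t)) = 0
    rw [ht i, map_zero, map_zero]
  have h1 : u.appTop (coord S PUnit.unit) = t' := homOfVector_appTop_coord _ _ _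
  have h2 : v.appTop (coord S PUnit.unit) = 0 := homOfVector_appTop_coord _ _ _
  have h3 : t' = 0 := by rw [← h1, huv, h2]
  have : t = V.topIso.hom t' := (Iso.inv_hom_id_apply V.topIso t).symm
  rw [this, h3, map_zero]


theorem main :
    [(∀ (V : (X).Opens) (t : Γ(X, V)), (∀ i, (f i).app V t = 0) → t = 0),
      ∀ (U : X.Opens) (Y : Scheme.{u}) (j : Y ⟶ (U : Scheme.{u})), IsClosedImmersion j →
        (∀ i, ∃ g : ((f i) ⁻¹ᵁ U : Scheme.{u}) ⟶ Y, g ≫ j = (f i) ∣_ U) → IsIso j,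
      ∀ (X' : Scheme.{u}) (q : X' ⟶ S), IsSeparated q → ∀ (U : X.Opens) (u v : (U : Scheme.{u}) ⟶ X'),
        u ≫ q = U.ι ≫ p → v ≫ q = U.ι ≫ p → (∀ i, ((f i) ∣_ U) ≫ u = ((f i) ∣_ U) ≫ v) → u = v].TFAE := by
  tfae_have 1 → 2 := fun hb U Y j hj hg => b_to_c Z f hb U Y j hj hg
  tfae_have 2 → 3 := fun hc X' q hq U u v hu hv huv => c_to_d p Z f hc X' q hq U u v hu hv huv
  tfae_have 3 → 1 := fun hd => d_to_b p Z f hd
  tfae_finish

end Groth.Agent.H3.SchDom
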