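import Mathlib
import Groth.Agent.Lib.Helper6.SemiLocalDim

/-! Partial systems of parameters inside an ideal of a semi-local Noetherian ring. -/

set_option autoImplicit false
universe u

namespace Groth.Agent.H3.SemiSop

open Ideal

variable {A : Type u} [CommRing A] [IsNoetherianRing A]

/-- one step of the inductive choice -/
theorem step (r b I : Ideal A) (k : ℕ)
    (hI : ∀ p ∈ I.minimalPrimes, ¬ r ≤ p → (k : ℕ∞) ≤ p.height)
    (hb : ∀ p ∈ I.minimalPrimes, ¬ r ≤ p → p.height ≤ (k : ℕ∞) → ¬ b ≤ p) :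
    ∃ z : A, z ∈ b ∧ z ∈ r ∧ ∀ p ∈ (I ⊔ Ideal.span {z}).minimalPrimes, ¬ r ≤ p →
      ((k + 1 : ℕ) : ℕ∞) ≤ p.height := by
  classical
  have hfin : {p ∈ I.minimalPrimes | ¬ r ≤ p ∧ p.height ≤ (k : ℕ∞)}.Finite :=
    (I.finite_minimalPrimes_of_isNoetherianRing A).subset (fun p hp => hp.1)
  have hav : ∃ z ∈ b ⊓ r, ∀ p ∈ hfin.toFinset, z ∉ p := by
    by_contra hcon
    push Not at hcon
    have hsub : ((b ⊓ r : Ideal A) : Set A) ⊆
        ⋃ p ∈ (hfin.toFinset : Set (Ideal A)), (id p : Ideal A) := by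
      intro x hx
      obtain ⟨p, hp, hxp⟩ := hcon x hx
      exact Set.mem_biUnion (by simpa using hfin.mem_toFinset.mp hp) hxp
    rw [Ideal.subset_union_prime (R := A) (s := hfin.toFinset) (f := id) ⊤ ⊤ (by
      intro p hp _ _
      exact (hfin.mem_toFinset.mp hp).1.1.1)] at hsub
    obtain ⟨p, hp, hle⟩ := hsub
    have hp' := hfin.mem_toFinset.mp hp
    haveI : p.IsPrime := hp'.1.1.1
    rcases (Ideal.IsPrime.inf_le (hp := this)).mp hle with h1 | h1
    · exact hb p hp'.1 hp'.2.1 hp'.2.2 h1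
    · exact hp'.2.1 h1
  obtain ⟨z, hz, hzp⟩ := hav
  refine ⟨z, hz.1, hz.2, ?_⟩
  intro q hq hrq
  haveI : q.IsPrime := hq.1.1
  have hIq : I ≤ q := le_sup_left.trans hq.1.2
  have hzq : z ∈ q := hq.1.2 (Ideal.mem_sup_right (Ideal.mem_span_singleton_self z))
  obtain ⟨p, hp, hpq⟩ := Ideal.exists_minimalPrimes_le hIq
  haveI : p.IsPrime := hp.1.1
  have hrp : ¬ r ≤ p := fun h => hrq (h.trans hpq)
  have hkp := hI p hp hrp
  by_cases hpk : p.height ≤ (k : ℕ∞)
  · have hzp' : z ∉ p := hzp p (hfin.mem_toFinset.mpr ⟨hp, hrp, hpk⟩)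
    have hlt : p < q := lt_of_le_of_ne hpq (fun h => hzp' (h ▸ hzq))
    have h1 : p.height < q.height := Ideal.height_strict_mono_of_isPrime hlt
    have h2 : p.height = k := le_antisymm hpk hkp
    rw [h2] at h1
    rw [Nat.cast_add, Nat.cast_one]
    exact Order.add_one_le_of_lt h1
  · push Not at hpk
    have h1 : ((k + 1 : ℕ) : ℕ∞) ≤ p.height := by
      rw [Nat.cast_add, Nat.cast_one]
      exact Order.add_one_le_of_lt hpk
    exact h1.trans (Ideal.height_mono hpq)

/-- iterating the step -/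
theorem extend (r b : Ideal A) : ∀ (n k : ℕ) (I : Ideal A),
    (∀ p ∈ I.minimalPrimes, ¬ r ≤ p → (k : ℕ∞) ≤ p.height) →
    (∀ p : Ideal A, p.IsPrime → ¬ r ≤ p → p.height < ((k + n : ℕ) : ℕ∞) → ¬ b ≤ p) →
    ∃ zs : List A, zs.length = n ∧ (∀ z ∈ zs, z ∈ b ∧ z ∈ r) ∧
      ∀ p ∈ (I ⊔ Ideal.ofList zs).minimalPrimes, ¬ r ≤ p → ((k + n : ℕ) : ℕ∞) ≤ p.height := by
  intro n
  induction n with
  | zero =>
    intro k I hI _
    refine ⟨[], rfl, by simp, ?_⟩
    intro p hp hrp
    rw [Ideal.ofList_nil, sup_bot_eq] at hp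
    simpa using hI p hp hrp
  | succ n ih =>
    intro k I hI hb
    obtain ⟨z, hzb, hzr, hz⟩ := step r b I k hI (by
      intro p hp hrp hpk
      refine hb p hp.1.1 hrp (lt_of_le_of_lt hpk ?_)
      exact_mod_cast (by omega : k < k + (n + 1)))
    obtain ⟨zs, hlen, hmem, hzs⟩ := ih (k + 1) (I ⊔ Ideal.span {z}) hz (by
      intro p hp hrp hpk
      refine hb p hp hrp ?_
      have : k + 1 + n = k + (n + 1) := by omega
      rwa [this] at hpk)
    refine ⟨z :: zs, by simp [hlen], ?_, ?_⟩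
    · intro w hw
      rcases List.mem_cons.mp hw with rfl | hw
      · exact ⟨hzb, hzr⟩
      · exact hmem w hw
    · intro p hp hrp
      rw [Ideal.ofList_cons, ← sup_assoc] at hp
      have := hzs p hp hrp
      have e : k + 1 + n = k + (n + 1) := by omega
      rwa [e] at this


section Main

variable [Finite (MaximalSpectrum A)]

theorem exists_ringKrullDim_eq [Nontrivial A] : ∃ d : ℕ, ringKrullDim A = ((d : ℕ∞) : WithBot ℕ∞) := by
  classical
  have hfin := Groth.Agent.H6.SLD.finite_setOf_isMaximal (A := A)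
  obtain ⟨m0, hm0⟩ := Ideal.exists_maximal A
  have hne : hfin.toFinset.Nonempty := ⟨m0, hfin.mem_toFinset.mpr hm0⟩
  obtain ⟨m1, hm1, hmax⟩ := hfin.toFinset.exists_max_image (fun m => m.height) hne
  have hle : (⨆ (I : Ideal A) (_ : I.IsMaximal), I.height) ≤ m1.height :=
    iSup₂_le fun m hm => hmax m (hfin.mem_toFinset.mpr hm)
  have hlt : m1.height < ⊤ := Ideal.height_lt_top (hfin.mem_toFinset.mp hm1).ne_top
  obtain ⟨d, hd⟩ := ENat.ne_top_iff_exists.mp (lt_of_le_of_lt hle hlt).ne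
  refine ⟨d, ?_⟩
  rw [← Ideal.sup_isMaximal_height_eq_ringKrullDim, ← hd]

/-- a prime of maximal height is a maximal ideal -/
theorem isMaximal_of_le_height {d : ℕ} (hd : ringKrullDim A = ((d : ℕ∞) : WithBot ℕ∞))
    (Q : Ideal A) [hQ : Q.IsPrime] (h : (d : ℕ∞) ≤ Q.height) : Q.IsMaximal := by
  obtain ⟨m, hm, hQm⟩ := Ideal.exists_le_maximal Q hQ.ne_top
  by_contra hcon
  have hlt : Q < m := lt_of_le_of_ne hQm (fun e => hcon (e ▸ hm))
  have h1 : Q.height < m.height := Ideal.height_strict_mono_of_isPrime hlt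
  have h2 : (m.height : WithBot ℕ∞) ≤ ringKrullDim A := Ideal.height_le_ringKrullDim_of_ne_top hm.ne_top
  rw [hd] at h2
  have h3 : m.height ≤ (d : ℕ∞) := by exact_mod_cast h2
  exact absurd (lt_of_le_of_lt h h1) (not_lt.mpr h3)

theorem main (a : Ideal A) (ha : a ≠ ⊤) (h : ℕ) (hh : a.height = h) :
    ∃ x : Fin h → A, (∀ i, x i ∈ a) ∧ (∀ i, x i ∈ Ring.jacobson A) ∧
      (∃ ys : List A, (∀ y ∈ ys, y ∈ Ring.jacobson A) ∧
        (((h + ys.length : ℕ) : ℕ∞) : WithBot ℕ∞) = ringKrullDim A ∧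
        IsFiniteLength A (A ⧸ (Ideal.span (Set.range x) ⊔ Ideal.ofList ys))) ∧
      (a.map (Ideal.Quotient.mk (Ideal.span (Set.range x)))).height = 0 := by
  haveI : Nontrivial A := by
    by_contra hA
    rw [not_nontrivial_iff_subsingleton] at hA
    exact ha (Subsingleton.elim _ _)
  obtain ⟨d, hd⟩ := exists_ringKrullDim_eq (A := A)
  have hhd : h ≤ d := by
    have h1 : (a.height : WithBot ℕ∞) ≤ ringKrullDim A := Ideal.height_le_ringKrullDim_of_ne_top ha
    rw [hh, hd] at h1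
    exact_mod_cast h1
  -- phase 1
  obtain ⟨xs, hxlen, hxmem, hxs⟩ := extend (Ring.jacobson A) a h 0 ⊥
    (by intro p _ _; simp) (by
      intro p hp hrp hpk hap
      have h1 := Ideal.height_mono hap
      rw [hh] at h1
      rw [zero_add] at hpk
      exact absurd (lt_of_le_of_lt h1 hpk) (lt_irrefl _))
  rw [bot_sup_eq, zero_add] at hxs
  -- phase 2
  obtain ⟨ys, hylen, hymem, hys⟩ := extend (Ring.jacobson A) ⊤ (d - h) h (Ideal.ofList xs) hxs (by
    intro p hp _ _ htop
    exact hp.ne_top (top_le_iff.mp htop))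
  have hdh : h + (d - h) = d := by omega
  rw [hdh] at hys
  subst hxlen
  have hspan : Ideal.span (Set.range (fun i => xs.get i)) = Ideal.ofList xs := by
    unfold Ideal.ofList
    congr 1
    ext z
    simp only [Set.mem_range, Set.mem_setOf_eq]
    constructor
    · rintro ⟨i, rfl⟩
      exact List.get_mem _ _
    · intro hz
      obtain ⟨i, hi⟩ := List.get_of_mem hz
      exact ⟨i, hi⟩
  refine ⟨fun i => xs.get i, fun i => (hxmem _ (List.get_mem _ _)).1,
    fun i => (hxmem _ (List.get_mem _ _)).2, ⟨ys, fun y hy => (hymem y hy).2, ?_, ?_⟩, ?_⟩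
  · rw [hylen, hdh, hd]
  · rw [hspan, Groth.Agent.H6.SLD.isFiniteLength_iff_supportDim_le_zero,
      Module.supportDim_quotient_eq_ringKrullDim]
    have : Ring.KrullDimLE 0 (A ⧸ (Ideal.ofList xs ⊔ Ideal.ofList ys)) := by
      rw [Ring.krullDimLE_zero_iff]
      intro Q' hQ'
      have hsurj : Function.Surjective (Ideal.Quotient.mk (Ideal.ofList xs ⊔ Ideal.ofList ys)) :=
        Ideal.Quotient.mk_surjective
      haveI hQ : (Q'.comap (Ideal.Quotient.mk (Ideal.ofList xs ⊔ Ideal.ofList ys))).IsPrime :=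
        Ideal.comap_isPrime _ _
      have hJQ : Ideal.ofList xs ⊔ Ideal.ofList ys ≤
          Q'.comap (Ideal.Quotient.mk (Ideal.ofList xs ⊔ Ideal.ofList ys)) := by
        intro z hz
        rw [Ideal.mem_comap, Ideal.Quotient.eq_zero_iff_mem.mpr hz]
        exact Ideal.zero_mem _
      have hQmax : (Q'.comap (Ideal.Quotient.mk (Ideal.ofList xs ⊔ Ideal.ofList ys))).IsMaximal := by
        obtain ⟨p, hp, hpQ⟩ := Ideal.exists_minimalPrimes_le hJQ
        haveI : p.IsPrime := hp.1.1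
        by_cases hrp : Ring.jacobson A ≤ p
        · have hpm := Groth.Agent.H6.SLD.isMaximal_of_jacobson_le p hrp
          rw [← hpm.eq_of_le hQ.ne_top hpQ]
          exact hpm
        · exact isMaximal_of_le_height hd _ ((hys p hp hrp).trans (Ideal.height_mono hpQ))
      have hker : RingHom.ker (Ideal.Quotient.mk (Ideal.ofList xs ⊔ Ideal.ofList ys)) ≤
          Q'.comap (Ideal.Quotient.mk (Ideal.ofList xs ⊔ Ideal.ofList ys)) := by
        rw [Ideal.mk_ker]
        exact hJQ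
      have := Ideal.IsMaximal.map_of_surjective_of_ker_le hsurj hker
      rwa [Ideal.map_comap_of_surjective _ hsurj] at this
    rw [Ring.krullDimLE_iff] at this
    exact_mod_cast this
  · rw [hspan]
    obtain ⟨Q, hQ, haQ, hQh⟩ := Ideal.exists_isPrime_height_eq hh
    have hxa : Ideal.ofList xs ≤ a := by
      unfold Ideal.ofList
      rw [Ideal.span_le]
      intro z hz
      exact (hxmem z hz).1
    obtain ⟨P, hP, hPQ⟩ := Ideal.exists_minimalPrimes_le (hxa.trans haQ)
    haveI : P.IsPrime := hP.1.1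
    have hPeq : P = Q := by
      by_cases hrP : Ring.jacobson A ≤ P
      · exact (Groth.Agent.H6.SLD.isMaximal_of_jacobson_le P hrP).eq_of_le hQ.ne_top hPQ
      · by_contra hne
        have hlt : P < Q := lt_of_le_of_ne hPQ hne
        have h1 : P.height < Q.height := Ideal.height_strict_mono_of_isPrime hlt
        rw [hQh] at h1
        exact absurd (lt_of_le_of_lt (hxs P hP hrP) h1) (lt_irrefl _)
    rw [hPeq, Ideal.minimalPrimes_eq_comap] at hP
    obtain ⟨Q'', hQ'', hQ''eq⟩ := hP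
    haveI : Q''.IsPrime := hQ''.1.1
    have hle : a.map (Ideal.Quotient.mk (Ideal.ofList xs)) ≤ Q'' := by
      rw [Ideal.map_le_iff_le_comap, hQ''eq]
      exact haQ
    have h0 : Q''.height = 0 := Ideal.height_eq_zero_iff.mpr hQ''
    exact le_antisymm (h0 ▸ Ideal.height_mono hle) zero_le

end Main

end Groth.Agent.H3.SemiSop
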