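import Mathlib

set_option autoImplicit false

universe u

open TensorProduct

namespace Groth.Agent.H3.SepArt

/-- a jointly injective family of linear maps stays jointly injective after a free base change -/
theorem eq_zero_of_free {A B : Type u} [CommRing A] [CommRing B] [Algebra A B] [Module.Free A B]
    {M : Type u} [AddCommGroup M] [Module A M] {ι : Type u} (N : ι → Type u)
    [∀ i, AddCommGroup (N i)] [∀ i, Module A (N i)] (v : ∀ i, M →ₗ[A] N i)
    (h : ∀ m : M, (∀ i, v i m = 0) → m = 0) (z : B ⊗[A] M)
    (hz : ∀ i, (v i).baseChange B z = 0) : z = 0 := by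
  classical
  let b := Module.Free.chooseBasis A B
  have key : ∀ (i : ι) (w : B ⊗[A] M) (j : Module.Free.ChooseBasisIndex A B),
      TensorProduct.equivFinsuppOfBasisLeft b ((v i).baseChange B w) j =
        v i (TensorProduct.equivFinsuppOfBasisLeft b w j) := by
    intro i w j
    induction w using TensorProduct.induction_on with
    | zero => simp
    | tmul x m =>
      rw [LinearMap.baseChange_tmul, TensorProduct.equivFinsuppOfBasisLeft_apply_tmul_apply,
        TensorProduct.equivFinsuppOfBasisLeft_apply_tmul_apply, map_smul]
    | add x y hx hy =>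
      rw [map_add, map_add, Finsupp.add_apply, hx, hy, map_add, Finsupp.add_apply, map_add]
  apply (TensorProduct.equivFinsuppOfBasisLeft b).injective
  rw [map_zero]
  ext j
  rw [Finsupp.zero_apply]
  apply h
  intro i
  rw [← key, hz i, map_zero, Finsupp.zero_apply]

end Groth.Agent.H3.SepArt
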