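import Mathlib
import Groth.Agent.Lib.Helper1.FlatNilpotentApps
import Groth.Agent.Lib.Helper3.SepArtA
import Groth.Agent.Lib.Helper3.SepArtB

set_option autoImplicit false

universe u

open AlgebraicGeometry CategoryTheory CategoryTheory.Limits Opposite TensorProduct

namespace Groth.Agent.H3.SepArt

open Groth.Agent.LD.QC Groth.Agent.H5.Lim

variable {X X' : Scheme.{u}}

/-- a scheme with at most one point is affine -/
theorem isAffine_of_subsingleton' (T : Scheme.{u}) [Subsingleton T] : IsAffine T := by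
  cases isEmpty_or_nonempty T
  · infer_instance
  · obtain ⟨x⟩ := ‹Nonempty T›
    obtain ⟨W, hW, hxW, -⟩ :=
      exists_isAffineOpen_mem_and_subset (x := x) (U := ⊤) (TopologicalSpace.Opens.mem_top x)
    have hWtop : W = ⊤ := by
      ext y
      simp only [TopologicalSpace.Opens.coe_top, Set.mem_univ, iff_true, SetLike.mem_coe]
      rwa [Subsingleton.elim y x]
    subst hWtop
    haveI : IsAffine (⊤ : T.Opens).toScheme := hW
    exact .of_isIso (Scheme.topIso T).inv

theorem main_artinian [IsNoetherian X] (hX : topologicalKrullDim X ≤ 0)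
    (F : X.Modules) [F.IsQuasicoherent] {ι : Type u}
    (G : ι → X.Modules) [∀ i, (G i).IsQuasicoherent] (u : ∀ i, F ⟶ G i) (g : X' ⟶ X) [Flat g]
    (h : ∀ (V : X.Opens) (t : Γ(F, V)), (∀ i, (u i).app V t = 0) → t = 0)
    (V : X'.Opens) (t : Γ((Scheme.Modules.pullback g).obj F, V))
    (ht : ∀ i, ((Scheme.Modules.pullback g).map (u i)).app V t = 0) : t = 0 := by
  haveI : IsLocallyArtinian X := .of_topologicalKrullDim_le_zero hX
  haveI : DiscreteTopology X := inferInstance
  refine sep_of_local g F G u ?_ V t ht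
  intro x' V' hx'
  let U : X.Opens := ⟨{g x'}, isOpen_discrete _⟩
  have hU : IsAffineOpen U := by
    haveI : Subsingleton U := inferInstanceAs (Subsingleton ({g x'} : Set X))
    exact isAffine_of_subsingleton' U
  have hx'U : x' ∈ V' ⊓ g ⁻¹ᵁ U := ⟨hx', rfl⟩
  obtain ⟨U', hU', hx'U', hU'le⟩ := exists_isAffineOpen_mem_and_subset hx'U
  have e : U' ≤ g ⁻¹ᵁ U := fun y hy => (hU'le hy).2
  refine ⟨U', U, hU', hU, e, hx'U', fun y hy => (hU'le hy).1, ?_⟩
  letI : Algebra Γ(X, U) Γ(X', U') := (g.appLE U U' e).hom.toAlgebra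
  haveI : Module.Flat Γ(X, U) Γ(X', U') := flat_appLE g hU' hU e
  haveI : IsArtinianRing Γ(X, U) := IsLocallyArtinian.isArtinianRing_presheaf_obj ⟨U, hU⟩
  haveI : Subsingleton (PrimeSpectrum Γ(X, U)) := by
    haveI : Subsingleton U := inferInstanceAs (Subsingleton ({g x'} : Set X))
    exact hU.isoSpec.hom.homeomorph.symm.injective.subsingleton
  haveI : Nonempty (PrimeSpectrum Γ(X, U)) :=
    ⟨hU.isoSpec.hom.homeomorph ⟨g x', rfl⟩⟩
  haveI : Nontrivial Γ(X, U) := (PrimeSpectrum.nonempty_iff_nontrivial).1 inferInstance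
  haveI : Subsingleton (MaximalSpectrum Γ(X, U)) :=
    (MaximalSpectrum.toPrimeSpectrum_injective).subsingleton
  haveI : IsLocalRing Γ(X, U) := .of_singleton_maximalSpectrum
  have hnil : IsNilpotent (IsLocalRing.maximalIdeal Γ(X, U)) :=
    (isArtinianRing_iff_isNilpotent_maximalIdeal Γ(X, U)).1 inferInstance
  haveI : Module.Free Γ(X, U) Γ(X', U') := H1.free_of_flat_of_isNilpotent_maximalIdeal hnil
  intro z hz
  exact eq_zero_of_free (fun i => Γ(G i, U)) (fun i => appLinear (u i) U)
    (fun m hm => h U m hm) z hz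

end Groth.Agent.H3.SepArt
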