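import Mathlib
import Groth.Agent.Lib.Helper3.SepArtB

set_option autoImplicit false

universe u

open AlgebraicGeometry CategoryTheory CategoryTheory.Limits Opposite TensorProduct TopologicalSpace

namespace Groth.Agent.H3.SepFF

open Groth.Agent.LD.QC Groth.Agent.H5.Lim

/-- flatness: if `1 ⊗ m = 0` in `B ⊗[A] M` then `1 ∈ Ann(m) B`, in equational form -/
theorem exists_of_one_tmul_eq_zero {A B M : Type u} [CommRing A] [CommRing B] [Algebra A B]
    [Module.Flat A B] [AddCommGroup M] [Module A M] (m : M)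
    (h : (1 : B) ⊗ₜ[A] m = 0) :
    ∃ (k : ℕ) (a : Fin k → A) (y : Fin k → B), (1 : B) = ∑ j, a j • y j ∧ ∀ j, a j • m = 0 := by
  have h' : ∑ i : Fin 1, (fun _ => m) i ⊗ₜ[A] (fun _ => (1 : B)) i = (0 : M ⊗[A] B) := by
    simp only [Finset.univ_unique, Finset.sum_singleton]
    have := congrArg (TensorProduct.comm A B M) h
    rw [TensorProduct.comm_tmul, map_zero] at this
    exact this
  have hinj : Function.Injective
      (LinearMap.rTensor B (Submodule.span A (Set.range (fun _ : Fin 1 => m))).subtype) :=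
    Module.Flat.rTensor_preserves_injective_linearMap _ (Submodule.injective_subtype _)
  obtain ⟨k, a, y, h1, h2⟩ :=
    TensorProduct.vanishesTrivially_of_sum_tmul_eq_zero_of_rTensor_injective A hinj h'
  refine ⟨k, a 0, y, h1 0, fun j => ?_⟩
  have := h2 j
  simpa using this

theorem exists_mem_basicOpen_of_sum {X : Scheme.{u}} {U : X.Opens} {κ : Type*} (s : Finset κ)
    (b : κ → Γ(X, U)) (x : X) (hx : x ∈ X.basicOpen (∑ j ∈ s, b j)) :
    ∃ j ∈ s, x ∈ X.basicOpen (b j) := by
  classical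
  induction s using Finset.induction_on with
  | empty =>
    rw [Finset.sum_empty, Scheme.basicOpen_zero] at hx
    exact absurd hx (by simp)
  | insert a s ha ih =>
    rw [Finset.sum_insert ha] at hx
    rcases (X.basicOpen_add_le _ _ hx) with h | h
    · exact ⟨a, Finset.mem_insert_self _ _, h⟩
    · obtain ⟨j, hj, hxj⟩ := ih h
      exact ⟨j, Finset.mem_insert_of_mem hj, hxj⟩

variable {X X' : Scheme.{u}}

theorem main (F : X.Modules) [F.IsQuasicoherent] {ι : Type u}
    (G : ι → X.Modules) [∀ i, (G i).IsQuasicoherent] (u : ∀ i, F ⟶ G i) (g : X' ⟶ X) [Flat g]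
    [Surjective g]
    (h : ∀ (V : X'.Opens) (t : Γ((Scheme.Modules.pullback g).obj F, V)),
      (∀ i, ((Scheme.Modules.pullback g).map (u i)).app V t = 0) → t = 0)
    (V : X.Opens) (t : Γ(F, V)) (ht : ∀ i, (u i).app V t = 0) : t = 0 := by
  have hpt : ∀ x : V, ∃ W : X.Opens, ∃ hle : W ≤ V, x.1 ∈ W ∧
      F.presheaf.map (homOfLE hle).op t = 0 := by
    intro x
    obtain ⟨U, hU, hxU, hUV⟩ := exists_isAffineOpen_mem_and_subset (x := x.1) (U := V) x.2
    obtain ⟨x', hx'⟩ := g.surjective x.1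
    have hx'U : x' ∈ g ⁻¹ᵁ U := by
      change g x' ∈ U
      rw [hx']; exact hxU
    obtain ⟨U', hU', hx'U', e⟩ := exists_isAffineOpen_mem_and_subset hx'U
    have hUV' : U ≤ V := hUV
    set m : Γ(F, U) := F.presheaf.map (homOfLE hUV').op t with hm
    have hum : ∀ i, (u i).app U m = 0 := by
      intro i
      rw [hm, app_res, ht i, map_zero]
    letI : Algebra Γ(X, U) Γ(X', U') := (g.appLE U U' e).hom.toAlgebra
    haveI : Module.Flat Γ(X, U) Γ(X', U') := flat_appLE g hU' hU e
    obtain ⟨e₀, -, h₀, -, -⟩ := pullback_map_app_equiv g hU' hU e (𝟙 F)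
    have hz0 : (1 : Γ(X', U')) ⊗ₜ[Γ(X, U)] m = 0 := by
      apply e₀.injective
      rw [map_zero]
      apply h U'
      intro i
      obtain ⟨e₁, e₂, h₁, -, hα⟩ := pullback_map_app_equiv g hU' hU e (u i)
      have he : e₀ ((1 : Γ(X', U')) ⊗ₜ[Γ(X, U)] m) = e₁ ((1 : Γ(X', U')) ⊗ₜ[Γ(X, U)] m) := by
        rw [h₁, h₀]
      rw [he, hα, LinearMap.baseChange_tmul]
      have : (appLinear (u i) U) m = 0 := hum i
      rw [this, tmul_zero, map_zero]
    obtain ⟨k, a, y, h1, h2⟩ := exists_of_one_tmul_eq_zero m hz0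
    have hx'1 : x' ∈ X'.basicOpen (∑ j ∈ Finset.univ, a j • y j) := by
      rw [← h1, Scheme.basicOpen_one]
      exact hx'U'
    obtain ⟨j, -, hj⟩ := exists_mem_basicOpen_of_sum _ _ x' hx'1
    have hj' : x' ∈ X'.basicOpen (g.appLE U U' e (a j)) := by
      have : a j • y j = g.appLE U U' e (a j) * y j := Algebra.smul_def _ _
      rw [this, Scheme.basicOpen_mul] at hj
      exact hj.1
    rw [Scheme.basicOpen_appLE] at hj'
    have hxa : x.1 ∈ X.basicOpen (a j) := by
      have := hj'.2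
      change g x' ∈ X.basicOpen (a j) at this
      rwa [hx'] at this
    refine ⟨X.basicOpen (a j), (X.basicOpen_le (a j)).trans hUV', hxa, ?_⟩
    have h3 : F.presheaf.map (homOfLE (X.basicOpen_le (a j))).op (a j • m) = 0 := by
      rw [h2 j, map_zero]
    rw [Scheme.Modules.map_smul] at h3
    have hu : IsUnit (X.presheaf.map (homOfLE (X.basicOpen_le (a j))).op (a j)) :=
      RingedSpace.isUnit_res_basicOpen _ (a j)
    obtain ⟨w, hw⟩ := hu
    have h4 := congrArg (fun z => (↑w⁻¹ : Γ(X, X.basicOpen (a j))) • z) h3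
    simp only [smul_zero] at h4
    rw [← hw, smul_smul, Units.inv_mul, one_smul] at h4
    have h5 : F.presheaf.map (homOfLE ((X.basicOpen_le (a j)).trans hUV')).op t =
        F.presheaf.map (homOfLE (X.basicOpen_le (a j))).op m := by
      rw [hm, ← ConcreteCategory.comp_apply, ← Functor.map_comp]
      rfl
    rw [h5, h4]
  choose W hle hxW hres using hpt
  apply section_ext_of_cover F W hle ?_ t 0
  · intro x
    rw [hres x, map_zero]
  · intro x hx
    exact TopologicalSpace.Opens.mem_iSup.2 ⟨⟨x, hx⟩, hxW ⟨x, hx⟩⟩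

end Groth.Agent.H3.SepFF
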