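import Mathlib
import Groth.Prelude.Def_Coh
import Groth.Agent.Lib.Lead.QC.Closure
import Groth.Agent.Lib.Lead.QC.Gen
import Groth.Agent.Lib.Helper5.Lim.ModuleBridge

set_option autoImplicit false

universe u

open AlgebraicGeometry CategoryTheory CategoryTheory.Limits Opposite

namespace Groth.Agent.H3.SepFlat

open Groth.Agent.LD.QC Groth.Agent.H5.Lim

variable {X X' : Scheme.{u}}

lemma sum_app_apply {M N : X.Modules} {ι : Type*} (s : Finset ι) (φ : ι → (M ⟶ N)) (U : X.Opens)
    (x : Γ(M, U)) : (∑ i ∈ s, φ i).app U x = ∑ i ∈ s, (φ i).app U x := by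
  classical
  induction s using Finset.induction_on with
  | empty =>
    rw [Finset.sum_empty, Finset.sum_empty]
    rfl
  | insert a s ha ih =>
    rw [Finset.sum_insert ha, Finset.sum_insert ha, ← ih]
    rfl

/-- finite-index version over `Fin n`. -/
theorem main_fin (F : X.Modules) [hF : F.IsQuasicoherent] {n : ℕ}
    (G : Fin n → X.Modules) (hG : ∀ i, (G i).IsQuasicoherent) (u : ∀ i, F ⟶ G i) (g : X' ⟶ X)
    [Flat g]
    (h : ∀ (V : X.Opens) (t : Γ(F, V)), (∀ i, (u i).app V t = 0) → t = 0)
    (V : X'.Opens) (t : Γ((Scheme.Modules.pullback g).obj F, V))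
    (ht : ∀ i, ((Scheme.Modules.pullback g).map (u i)).app V t = 0) : t = 0 := by
  haveI : HasFiniteBiproducts X.Modules := Abelian.hasFiniteBiproducts
  let α : F ⟶ ⨁ G := biproduct.lift u
  haveI : Mono α := by
    apply mono_of_injective_app
    intro W
    rw [injective_iff_map_eq_zero]
    intro s hs
    apply h W s
    intro i
    have h1 : u i = α ≫ biproduct.π G i := (biproduct.lift_π _ _).symm
    rw [h1, Scheme.Modules.Hom.comp_app]
    change (biproduct.π G i).app W (α.app W s) = 0
    rw [hs, map_zero]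
  haveI : (⨁ G).IsQuasicoherent :=
    qc_of_iso (biproduct.isoCoproduct G).symm (qc_finColimit (Discrete.functor G) (fun j => hG j.as))
  haveI : Mono ((Scheme.Modules.pullback g).map α) := mono_pullback_map_of_flat g α
  apply mono_app ((Scheme.Modules.pullback g).map α) V
  rw [map_zero]
  have hid : 𝟙 ((Scheme.Modules.pullback g).obj (⨁ G)) =
      ∑ i, (Scheme.Modules.pullback g).map (biproduct.π G i) ≫
        (Scheme.Modules.pullback g).map (biproduct.ι G i) := by
    rw [← (Scheme.Modules.pullback g).map_id, ← biproduct.total, Functor.map_sum]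
    simp only [Functor.map_comp]
  have h2 : ∀ i, ((Scheme.Modules.pullback g).map (biproduct.π G i)).app V
      (((Scheme.Modules.pullback g).map α).app V t) = 0 := by
    intro i
    have h1 : u i = α ≫ biproduct.π G i := (biproduct.lift_π _ _).symm
    have := ht i
    rw [h1, Functor.map_comp, Scheme.Modules.Hom.comp_app] at this
    exact this
  have h3 : ((Scheme.Modules.pullback g).map α).app V t =
      (𝟙 ((Scheme.Modules.pullback g).obj (⨁ G)) : _ ⟶ _).app V
        (((Scheme.Modules.pullback g).map α).app V t) := rfl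
  rw [h3, hid, sum_app_apply]
  apply Finset.sum_eq_zero
  intro i _
  rw [Scheme.Modules.Hom.comp_app]
  change ((Scheme.Modules.pullback g).map (biproduct.ι G i)).app V
    (((Scheme.Modules.pullback g).map (biproduct.π G i)).app V
      (((Scheme.Modules.pullback g).map α).app V t)) = 0
  rw [h2 i, map_zero]

theorem main (F : X.Modules) [hF : F.IsQuasicoherent] {ι : Type u} [Finite ι]
    (G : ι → X.Modules) (hG : ∀ i, (G i).IsQuasicoherent) (u : ∀ i, F ⟶ G i) (g : X' ⟶ X)
    [Flat g]
    (h : ∀ (V : X.Opens) (t : Γ(F, V)), (∀ i, (u i).app V t = 0) → t = 0)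
    (V : X'.Opens) (t : Γ((Scheme.Modules.pullback g).obj F, V))
    (ht : ∀ i, ((Scheme.Modules.pullback g).map (u i)).app V t = 0) : t = 0 := by
  obtain ⟨n, ⟨e⟩⟩ := Finite.exists_equiv_fin ι
  refine main_fin F (fun j => G (e.symm j)) (fun j => hG _) (fun j => u (e.symm j)) g ?_ V t
    (fun j => ht _)
  intro W s hs
  apply h W s
  intro i
  have key : ∀ (i j : ι), j = i → (u j).app W s = 0 → (u i).app W s = 0 := by
    intro i j hij hj
    subst hij
    exact hj
  exact key i _ (e.symm_apply_apply i) (hs (e i))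

end Groth.Agent.H3.SepFlat
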