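import Mathlib

/-!
# A finitely generated separably generated field extension is the function field of a hypersurface
-/

set_option autoImplicit false
universe u

namespace Groth.Agent.H3.SepHyp

open Polynomial IntermediateField

section Alg

variable {k K : Type u} [Field k] [Field K] [Algebra k K] {d : ℕ} (s : Fin d → K)

theorem exists_hypersurface (hs : IsTranscendenceBasis k s)
    (hsep : Algebra.IsSeparable ↥(IntermediateField.adjoin k (Set.range s)) K)
    (hfg : ∃ t : Finset K, IntermediateField.adjoin k (↑t : Set K) = ⊤) :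
    ∃ (g : Polynomial (MvPolynomial (Fin d) k)), g.Monic ∧
      Irreducible (g.map (algebraMap (MvPolynomial (Fin d) k)
        (FractionRing (MvPolynomial (Fin d) k)))) ∧
      (g.map (algebraMap (MvPolynomial (Fin d) k)
        (FractionRing (MvPolynomial (Fin d) k)))).Separable ∧
      ∃ ψ : AdjoinRoot g →ₐ[k] K, Function.Injective ψ ∧
        ∀ z : K, ∃ x y : AdjoinRoot g, z = ψ x / ψ y := by
  classical
  have hφ : Function.Injective (MvPolynomial.aeval s : MvPolynomial (Fin d) k →ₐ[k] K) :=
    algebraicIndependent_iff_injective_aeval.mp hs.1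
  letI algPK : Algebra (MvPolynomial (Fin d) k) K :=
    (MvPolynomial.aeval s : MvPolynomial (Fin d) k →ₐ[k] K).toRingHom.toAlgebra
  letI algLK : Algebra (FractionRing (MvPolynomial (Fin d) k)) K :=
    (IsFractionRing.liftAlgHom (K := FractionRing (MvPolynomial (Fin d) k)) hφ).toRingHom.toAlgebra
  haveI : IsScalarTower (MvPolynomial (Fin d) k) (FractionRing (MvPolynomial (Fin d) k)) K :=
    IsScalarTower.of_algebraMap_eq (fun p => by
      change (MvPolynomial.aeval s) p = IsFractionRing.liftAlgHom hφ (algebraMap _ _ p)
      rw [IsFractionRing.liftAlgHom_apply, IsFractionRing.lift_algebraMap]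
      rfl)
  haveI : IsScalarTower k (MvPolynomial (Fin d) k) K :=
    IsScalarTower.of_algebraMap_eq (fun c => by
      change algebraMap k K c = (MvPolynomial.aeval s) (algebraMap k _ c)
      rw [AlgHom.commutes])
  haveI : IsScalarTower k (FractionRing (MvPolynomial (Fin d) k)) K :=
    IsScalarTower.of_algebraMap_eq (fun c => by
      change algebraMap k K c = IsFractionRing.liftAlgHom hφ (algebraMap k _ c)
      rw [AlgHom.commutes])
  haveI hsepL : Algebra.IsSeparable (FractionRing (MvPolynomial (Fin d) k)) K := by
    let e₁ : ↥(IntermediateField.adjoin k (Set.range s)) ≃+*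
        FractionRing (MvPolynomial (Fin d) k) := hs.1.aevalEquivField.symm.toRingEquiv
    refine Algebra.IsSeparable.of_equiv_equiv e₁ (RingEquiv.refl K) ?_
    ext p
    have := hs.1.lift_reprField p
    exact this
  have hinjPK : Function.Injective (algebraMap (MvPolynomial (Fin d) k) K) := hφ
  haveI : Module.IsTorsionFree (MvPolynomial (Fin d) k) K := by
    apply Module.IsTorsionFree.of_smul_eq_zero
    intro r m h
    rw [Algebra.smul_def, mul_eq_zero] at h
    rcases h with h | h
    · left
      exact hinjPK (by rw [h, map_zero])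
    · right
      exact h
  haveI hfin : FiniteDimensional (FractionRing (MvPolynomial (Fin d) k)) K := by
    obtain ⟨t, ht⟩ := hfg
    have h1 : IntermediateField.adjoin (FractionRing (MvPolynomial (Fin d) k)) (↑t : Set K) = ⊤ := by
      rw [eq_top_iff]
      rintro x -
      have hx : x ∈ IntermediateField.adjoin k (↑t : Set K) := by
        rw [ht]
        trivial
      induction hx using IntermediateField.adjoin_induction with
      | mem x hx => exact IntermediateField.subset_adjoin _ _ hx
      | algebraMap c =>
        rw [IsScalarTower.algebraMap_apply k (FractionRing (MvPolynomial (Fin d) k)) K]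
        exact IntermediateField.algebraMap_mem _ _
      | add x y _ _ hx hy => exact add_mem hx hy
      | inv x _ hx => exact inv_mem hx
      | mul x y _ _ hx hy => exact mul_mem hx hy
    haveI : FiniteDimensional (FractionRing (MvPolynomial (Fin d) k))
        (IntermediateField.adjoin (FractionRing (MvPolynomial (Fin d) k)) (↑t : Set K)) :=
      IntermediateField.finiteDimensional_adjoin (fun x _ => Algebra.IsIntegral.isIntegral x)
    rw [h1] at this
    exact IntermediateField.topEquiv.toLinearEquiv.finiteDimensional
  obtain ⟨α, hα⟩ := Field.exists_primitive_element (FractionRing (MvPolynomial (Fin d) k)) K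
  have hαalg : IsAlgebraic (MvPolynomial (Fin d) k) α :=
    (IsFractionRing.isAlgebraic_iff (MvPolynomial (Fin d) k)
      (FractionRing (MvPolynomial (Fin d) k)) K).mpr (Algebra.IsAlgebraic.isAlgebraic α)
  obtain ⟨y, hy0, hyint⟩ := hαalg.exists_integral_multiple
  set θ := y • α with hθ
  have hyK : algebraMap (MvPolynomial (Fin d) k) K y ≠ 0 := fun h =>
    hy0 (hinjPK (by rw [h, map_zero]))
  have hθtop : (FractionRing (MvPolynomial (Fin d) k))⟮θ⟯ = ⊤ := by
    rw [eq_top_iff, ← hα, IntermediateField.adjoin_simple_le_iff]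
    have : α = (algebraMap (FractionRing (MvPolynomial (Fin d) k)) K
        (algebraMap (MvPolynomial (Fin d) k) _ y))⁻¹ * θ := by
      rw [hθ, Algebra.smul_def, ← IsScalarTower.algebraMap_apply, inv_mul_cancel_left₀ hyK]
    rw [this]
    exact mul_mem (inv_mem (IntermediateField.algebraMap_mem _ _))
      (IntermediateField.mem_adjoin_simple_self _ θ)
  have hmap : (minpoly (MvPolynomial (Fin d) k) θ).map
      (algebraMap (MvPolynomial (Fin d) k) (FractionRing (MvPolynomial (Fin d) k))) =
      minpoly (FractionRing (MvPolynomial (Fin d) k)) θ :=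
    (minpoly.isIntegrallyClosed_eq_field_fractions' _ hyint).symm
  have hθint : IsIntegral (FractionRing (MvPolynomial (Fin d) k)) θ :=
    Algebra.IsIntegral.isIntegral θ
  refine ⟨minpoly (MvPolynomial (Fin d) k) θ, minpoly.monic hyint, ?_, ?_, ?_⟩
  · rw [hmap]
    exact minpoly.irreducible hθint
  · rw [hmap]
    exact Algebra.IsSeparable.isSeparable _ θ
  · have hroot : (minpoly (MvPolynomial (Fin d) k) θ).eval₂
        ((MvPolynomial.aeval s : MvPolynomial (Fin d) k →ₐ[k] K) : MvPolynomial (Fin d) k →+* K) θ = 0 :=
      minpoly.aeval (MvPolynomial (Fin d) k) θ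
    let ψ₀ : AdjoinRoot (minpoly (MvPolynomial (Fin d) k) θ) →ₐ[k] K :=
      AdjoinRoot.liftAlgHom _ (MvPolynomial.aeval s : MvPolynomial (Fin d) k →ₐ[k] K) θ hroot
    have hψ₀mk : ∀ p : (MvPolynomial (Fin d) k)[X], ψ₀ (AdjoinRoot.mk _ p) = aeval θ p := by
      intro p
      rfl
    have hψ₀of : ∀ b : MvPolynomial (Fin d) k, ψ₀ (AdjoinRoot.of _ b) =
        algebraMap (MvPolynomial (Fin d) k) K b := by
      intro b
      exact AdjoinRoot.liftAlgHom_of _ _ _ _ _
    refine ⟨ψ₀, ?_, ?_⟩
    · rw [injective_iff_map_eq_zero]
      intro x hx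
      obtain ⟨p, rfl⟩ := AdjoinRoot.mk_surjective x
      rw [hψ₀mk] at hx
      have hker := minpoly.ker_eval hyint
      have hp : p ∈ RingHom.ker ((Polynomial.aeval θ).toRingHom :
          (MvPolynomial (Fin d) k)[X] →+* K) := hx
      rw [hker, Ideal.mem_span_singleton] at hp
      exact AdjoinRoot.mk_eq_zero.mpr hp
    · intro z
      have hz : z ∈ ((FractionRing (MvPolynomial (Fin d) k))⟮θ⟯).toSubalgebra := by
        rw [hθtop]
        trivial
      rw [IntermediateField.adjoin_simple_toSubalgebra_of_isAlgebraic hθint.isAlgebraic,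
        Algebra.adjoin_singleton_eq_range_aeval] at hz
      obtain ⟨p, hp⟩ := hz
      change aeval θ p = z at hp
      obtain ⟨b, hbM, hb⟩ := IsLocalization.integerNormalization_spec
        (nonZeroDivisors (MvPolynomial (Fin d) k)) p
      have hbK : algebraMap (MvPolynomial (Fin d) k) K b ≠ 0 := fun h =>
        (nonZeroDivisors.ne_zero hbM) (hinjPK (by rw [h, map_zero]))
      refine ⟨AdjoinRoot.mk _ (IsLocalization.integerNormalization
        (nonZeroDivisors (MvPolynomial (Fin d) k)) p), AdjoinRoot.of _ b, ?_⟩
      rw [hψ₀mk, hψ₀of, eq_div_iff hbK,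
        ← aeval_map_algebraMap (FractionRing (MvPolynomial (Fin d) k)), hb,
        ← IsScalarTower.algebraMap_smul (FractionRing (MvPolynomial (Fin d) k)) b p, map_smul,
        Algebra.smul_def, ← IsScalarTower.algebraMap_apply, hp, mul_comm]

end Alg

end Groth.Agent.H3.SepHyp
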