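import Mathlib
import Groth.Prelude.Def_CurvBase
import Groth.Agent.Lib.Helper1.FunFieldIso
import Groth.Agent.Lib.Helper3.SepHypA

/-!
# A variety with separably generated function field is birational to a hypersurface
-/

set_option autoImplicit false
universe u
open CategoryTheory AlgebraicGeometry
attribute [local instance] Curv2.stalkAlgebra

namespace Groth.Agent.H3.SepHyp

section FG

variable (k : Type u) [Field k] (X : Scheme.{u}) [X.Over (Spec (CommRingCat.of k))] [IsIntegral X]

theorem algebraMap_stalk_eq (U : X.Opens) (hη : genericPoint X ∈ U)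
    (e : U ≤ (X ↘ Spec (CommRingCat.of k)) ⁻¹ᵁ ⊤)
    (r : Γ(Spec (CommRingCat.of k), ⊤)) :
    X.presheaf.germ U (genericPoint X) hη
      (((X ↘ Spec (CommRingCat.of k)).appLE ⊤ U e).hom r) =
    algebraMap k (X.presheaf.stalk (genericPoint X))
      ((Scheme.ΓSpecIso (CommRingCat.of k)).hom.hom r) := by
  change _ = (X.presheaf.germ ⊤ (genericPoint X) trivial).hom
    (((X ↘ Spec (CommRingCat.of k)).appTop).hom
      ((Scheme.ΓSpecIso (CommRingCat.of k)).inv.hom ((Scheme.ΓSpecIso (CommRingCat.of k)).hom.hom r)))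
  have h1 : (Scheme.ΓSpecIso (CommRingCat.of k)).inv.hom
      ((Scheme.ΓSpecIso (CommRingCat.of k)).hom.hom r) = r := by
    rw [← CommRingCat.comp_apply, Iso.hom_inv_id]
    rfl
  rw [h1]
  rw [Scheme.Hom.appLE, CommRingCat.comp_apply]
  exact TopCat.Presheaf.germ_res_apply _ _ _ _ _

variable [LocallyOfFiniteType (X ↘ Spec (CommRingCat.of k))]

theorem functionField_fg :
    ∃ t : Finset (X.presheaf.stalk (genericPoint X)),
      IntermediateField.adjoin k (↑t : Set (X.presheaf.stalk (genericPoint X))) = ⊤ := by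
  classical
  obtain ⟨_, ⟨U, hU, rfl⟩, hηU, -⟩ := X.isBasis_affineOpens.exists_subset_of_mem_open
    (Set.mem_univ (genericPoint X)) isOpen_univ
  haveI : Nonempty U := ⟨⟨genericPoint X, hηU⟩⟩
  haveI := functionField_isFractionRing_of_isAffineOpen X U hU
  have e : U ≤ (X ↘ Spec (CommRingCat.of k)) ⁻¹ᵁ ⊤ := le_top
  have hFT := LocallyOfFiniteType.finiteType_appLE (X ↘ Spec (CommRingCat.of k))
    (isAffineOpen_top _) hU e
  letI := ((X ↘ Spec (CommRingCat.of k)).appLE ⊤ U e).hom.toAlgebra
  obtain ⟨T, hT⟩ := (hFT : Algebra.FiniteType _ _).out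
  refine ⟨T.image (X.presheaf.germ U (genericPoint X) hηU).hom, ?_⟩
  have key : ∀ a : Γ(X, U), (X.presheaf.germ U (genericPoint X) hηU).hom a ∈
      IntermediateField.adjoin k (↑(T.image (X.presheaf.germ U (genericPoint X) hηU).hom) :
        Set (X.presheaf.stalk (genericPoint X))) := by
    intro a
    have ha : a ∈ Algebra.adjoin Γ(Spec (CommRingCat.of k), ⊤) (↑T : Set Γ(X, U)) := by
      rw [hT]
      trivial
    induction ha using Algebra.adjoin_induction with
    | mem x hx =>
      apply IntermediateField.subset_adjoin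
      rw [Finset.coe_image]
      exact ⟨x, hx, rfl⟩
    | algebraMap r =>
      have := algebraMap_stalk_eq k X U hηU e r
      rw [RingHom.algebraMap_toAlgebra]
      rw [this]
      exact IntermediateField.algebraMap_mem _ _
    | add x y _ _ hx hy =>
      rw [map_add]
      exact add_mem hx hy
    | mul x y _ _ hx hy =>
      rw [map_mul]
      exact mul_mem hx hy
  rw [eq_top_iff]
  rintro z -
  obtain ⟨a, b, -, rfl⟩ := IsFractionRing.div_surjective (A := Γ(X, U)) z
  exact div_mem (key a) (key b)

end FG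

section Main

variable (k : Type u) [Field k]

theorem toGlobal_Spec_map {B : Type u} [CommRing B] [Algebra k B] (c : k) :
    Coh.toGlobal (X := Spec (CommRingCat.of B))
      (Spec.map (CommRingCat.ofHom (algebraMap k B))) c =
    (Scheme.ΓSpecIso (CommRingCat.of B)).inv.hom (algebraMap k B c) := by
  change ((Spec.map (CommRingCat.ofHom (algebraMap k B))).appTop).hom
    ((Scheme.ΓSpecIso (CommRingCat.of k)).inv.hom c) = _
  have := Scheme.ΓSpecIso_inv_naturality (CommRingCat.ofHom (algebraMap k B))
  have h2 := congrArg (fun f => f.hom c) this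
  exact h2.symm

theorem main (X : Scheme.{u}) [X.Over (Spec (CommRingCat.of k))] [IsIntegral X]
    [LocallyOfFiniteType (X ↘ Spec (CommRingCat.of k))]
    (d : ℕ) (s : Fin d → X.presheaf.stalk (genericPoint X)) (hs : IsTranscendenceBasis k s)
    (hsep : Algebra.IsSeparable ↥(IntermediateField.adjoin k (Set.range s))
      (X.presheaf.stalk (genericPoint X))) :
    ∃ (g : Polynomial (MvPolynomial (Fin d) k)), g.Monic ∧
      Irreducible (g.map (algebraMap (MvPolynomial (Fin d) k)
        (FractionRing (MvPolynomial (Fin d) k)))) ∧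
      (g.map (algebraMap (MvPolynomial (Fin d) k)
        (FractionRing (MvPolynomial (Fin d) k)))).Separable ∧
      ∃ (U : X.Opens) (V : (Spec (CommRingCat.of (AdjoinRoot g))).Opens)
        (e : (U : Scheme.{u}) ≅ (V : Scheme.{u})),
        (U : Set X).Nonempty ∧ (V : Set (Spec (CommRingCat.of (AdjoinRoot g)))).Nonempty ∧
        e.hom ≫ V.ι ≫ Spec.map (CommRingCat.ofHom (algebraMap k (AdjoinRoot g))) =
          U.ι ≫ (X ↘ Spec (CommRingCat.of k)) := by
  obtain ⟨g, hg1, hg2, hg3, ψ, hψinj, hψfrac⟩ :=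
    exists_hypersurface s hs hsep (functionField_fg k X)
  refine ⟨g, hg1, hg2, hg3, ?_⟩
  haveI : IsDomain (AdjoinRoot g) := hψinj.isDomain ψ.toRingHom
  letI : (Spec (CommRingCat.of (AdjoinRoot g))).Over (Spec (CommRingCat.of k)) :=
    ⟨Spec.map (CommRingCat.ofHom (algebraMap k (AdjoinRoot g)))⟩
  haveI : LocallyOfFiniteType
      (Spec (CommRingCat.of (AdjoinRoot g)) ↘ Spec (CommRingCat.of k)) := by
    change LocallyOfFiniteType (Spec.map (CommRingCat.ofHom (algebraMap k (AdjoinRoot g))))
    rw [HasRingHomProperty.Spec_iff (P := @LocallyOfFiniteType)]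
    change (algebraMap k (AdjoinRoot g)).FiniteType
    rw [RingHom.finiteType_algebraMap]
    exact Algebra.FiniteType.trans (S := MvPolynomial (Fin d) k) inferInstance inferInstance
  letI algBK : Algebra (AdjoinRoot g) (X.presheaf.stalk (genericPoint X)) :=
    ψ.toRingHom.toAlgebra
  haveI : FaithfulSMul (AdjoinRoot g) (X.presheaf.stalk (genericPoint X)) :=
    (faithfulSMul_iff_algebraMap_injective _ _).mpr hψinj
  haveI : IsFractionRing (AdjoinRoot g) (X.presheaf.stalk (genericPoint X)) :=
    IsFractionRing.of_field (AdjoinRoot g) _ hψfrac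
  letI algBL : Algebra (AdjoinRoot g) (Spec (CommRingCat.of (AdjoinRoot g))).functionField :=
    AlgebraicGeometry.instAlgebraCarrierFunctionFieldSpec (CommRingCat.of (AdjoinRoot g))
  haveI : IsFractionRing (AdjoinRoot g) (Spec (CommRingCat.of (AdjoinRoot g))).functionField :=
    functionField_isFractionRing_of_affine (CommRingCat.of (AdjoinRoot g))
  let e₀ : X.presheaf.stalk (genericPoint X) ≃+*
      (Spec (CommRingCat.of (AdjoinRoot g))).functionField :=
    IsFractionRing.ringEquivOfRingEquiv (RingEquiv.refl (AdjoinRoot g))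
  let e : X.functionField ≅ (Spec (CommRingCat.of (AdjoinRoot g))).functionField :=
    e₀.toCommRingCatIso
  have he : e.hom.hom.comp (Curv2.stalkMap k X (genericPoint X)) =
      Curv2.stalkMap k (Spec (CommRingCat.of (AdjoinRoot g)))
        (genericPoint (Spec (CommRingCat.of (AdjoinRoot g)))) := by
    ext c
    change e₀ (algebraMap k (X.presheaf.stalk (genericPoint X)) c) = _
    have h1 : algebraMap k (X.presheaf.stalk (genericPoint X)) c =
        algebraMap (AdjoinRoot g) (X.presheaf.stalk (genericPoint X))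
          (algebraMap k (AdjoinRoot g) c) := (ψ.commutes c).symm
    rw [h1, IsFractionRing.ringEquivOfRingEquiv_algebraMap]
    change _ = ((Spec (CommRingCat.of (AdjoinRoot g))).presheaf.germ ⊤ _ trivial).hom
      (Coh.toGlobal (Spec.map (CommRingCat.ofHom (algebraMap k (AdjoinRoot g)))) c)
    rw [toGlobal_Spec_map]
    rfl
  obtain ⟨U, V, hU, φ, hφ⟩ := Groth.Agent.H1.FunFieldIso.main k X
    (Spec (CommRingCat.of (AdjoinRoot g))) e he
  refine ⟨U, V, φ, hU, ?_, hφ⟩
  obtain ⟨x, hx⟩ := hU
  exact ⟨(φ.hom ⟨x, hx⟩).1, (φ.hom ⟨x, hx⟩).2⟩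

end Main

end Groth.Agent.H3.SepHyp
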