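import Mathlib

/-!
# Sheaves for a topology generated by two precoverages
-/

set_option autoImplicit false

open CategoryTheory Limits Opposite

universe w v₁ u₁

namespace Groth.Agent.H3.ShfGen

variable {C : Type u₁} [Category.{v₁} C] (C' : C → Prop) (P P' : Precoverage C)
  [P.HasPullbacks] [P.IsStableUnderBaseChange]
  (ha : ∀ ⦃X : C⦄ ⦃R : Presieve X⦄, R ∈ P' X → ∀ ⦃T : C⦄ (g : T ⟶ X), C' T →
      ∃ _ : R.HasPullbacks g, Presieve.pullbackArrows g R ∈ P' T)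
  (hb : ∀ X : C, ∃ R ∈ P X, ∀ ⦃Y : C⦄ ⦃f : Y ⟶ X⦄, R f → C' Y)
  (F : Cᵒᵖ ⥤ Type w)
  (hFP : ∀ ⦃X : C⦄ ⦃R : Presieve X⦄, R ∈ P X → Presieve.IsSheafFor F R)
  (hFP' : ∀ ⦃X : C⦄ ⦃R : Presieve X⦄, R ∈ P' X → Presieve.IsSheafFor F R)

lemma map_comp_op {X Y Z : C} (g : Z ⟶ Y) (f : Y ⟶ X) (s : F.obj (op X)) :
    F.map (g ≫ f).op s = F.map g.op (F.map f.op s) := by
  rw [op_comp, F.map_comp]; rfl

lemma fam_congr {X : C} {R : Presieve X} (x : Presieve.FamilyOfElements F R) {Y : C}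
    {f₁ f₂ : Y ⟶ X} (h : f₁ = f₂) (h₁ : R f₁) (h₂ : R f₂) : x f₁ h₁ = x f₂ h₂ := by
  subst h; rfl

include hFP hFP' in
omit [P.HasPullbacks] [P.IsStableUnderBaseChange] in
lemma sep2 (W : C) (s t : F.obj (op W)) (R : Presieve W) (hR : R ∈ P W)
    (h : ∀ ⦃Y : C⦄ ⦃u : Y ⟶ W⦄, R u → ∃ R' ∈ P' Y, ∀ ⦃Z : C⦄ ⦃g : Z ⟶ Y⦄, R' g →
      F.map (g ≫ u).op s = F.map (g ≫ u).op t) : s = t := by
  apply (hFP hR).isSeparatedFor.ext
  intro Y u hu
  obtain ⟨R', hR', h'⟩ := h hu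
  apply (hFP' hR').isSeparatedFor.ext
  intro Z g hg
  rw [← map_comp_op, ← map_comp_op]
  exact h' hg

include ha hb hFP hFP' in
omit [P.HasPullbacks] [P.IsStableUnderBaseChange] in
lemma key {X : C} (S' : Sieve X) (x : Presieve.FamilyOfElements F S'.arrows) (hx : x.Compatible)
    {Y : C} (f : Y ⟶ X) (R' : Presieve Y) (hR' : R' ∈ P' Y)
    (hS' : ∀ ⦃Z : C⦄ ⦃g : Z ⟶ Y⦄, R' g → S' (g ≫ f))
    (y : F.obj (op Y))
    (hy : ∀ ⦃Z : C⦄ ⦃g : Z ⟶ Y⦄ (hg : R' g), F.map g.op y = x (g ≫ f) (hS' hg))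
    {W : C} (a : W ⟶ Y) (hq : S' (a ≫ f)) : F.map a.op y = x (a ≫ f) hq := by
  obtain ⟨RW, hRW, hRWC⟩ := hb W
  apply sep2 P P' F hFP hFP' W _ _ RW hRW
  intro Wa u hu
  obtain ⟨hpb, hmem⟩ := ha hR' (u ≫ a) (hRWC hu)
  refine ⟨_, hmem, ?_⟩
  rintro Z g'' ⟨Z₀, g, hg⟩
  haveI := R'.hasPullback (u ≫ a) hg
  have hsx := (Presieve.compatible_iff_sieveCompatible x).1 hx
  have e1 : F.map (pullback.snd g (u ≫ a) ≫ u).op (F.map a.op y) =
      x (pullback.fst g (u ≫ a) ≫ g ≫ f) (S'.downward_closed (hS' hg) _) := by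
    rw [← map_comp_op, hsx (g ≫ f) (pullback.fst g (u ≫ a)) (hS' hg), ← hy hg, ← map_comp_op]
    congr 2
    rw [Category.assoc, pullback.condition]
  have e2 : F.map (pullback.snd g (u ≫ a) ≫ u).op (x (a ≫ f) hq) =
      x ((pullback.snd g (u ≫ a) ≫ u) ≫ a ≫ f) (S'.downward_closed hq _) :=
    (hsx (a ≫ f) _ hq).symm
  rw [e1, e2]
  apply fam_congr
  rw [← Category.assoc, pullback.condition]
  simp

include ha hb hFP hFP' in
theorem isSheafFor_of_composite {X : C} (S' : Sieve X) (R : Presieve X) (hR : R ∈ P X)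
    (R' : ∀ ⦃Y : C⦄ ⦃f : Y ⟶ X⦄, R f → Presieve Y)
    (hR' : ∀ ⦃Y : C⦄ ⦃f : Y ⟶ X⦄ (hf : R f), R' hf ∈ P' Y)
    (hS' : ∀ ⦃Y : C⦄ ⦃f : Y ⟶ X⦄ (hf : R f) ⦃Z : C⦄ ⦃g : Z ⟶ Y⦄, R' hf g → S' (g ≫ f)) :
    Presieve.IsSheafFor F S'.arrows := by
  intro x hx
  have hsx := (Presieve.compatible_iff_sieveCompatible x).1 hx
  have hyex : ∀ ⦃Y : C⦄ ⦃f : Y ⟶ X⦄ (hf : R f), ∃ y : F.obj (op Y),
      ∀ ⦃Z : C⦄ ⦃g : Z ⟶ Y⦄ (hg : R' hf g), F.map g.op y = x (g ≫ f) (hS' hf hg) := by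
    intro Y f hf
    have hxf : Presieve.FamilyOfElements.Compatible
        (fun Z g hg => x (g ≫ f) (hS' hf hg) : Presieve.FamilyOfElements F (R' hf)) := by
      intro Z₁ Z₂ W g₁ g₂ k₁ k₂ hk₁ hk₂ hcomm
      exact hx g₁ g₂ (hS' hf hk₁) (hS' hf hk₂)
        (by rw [← Category.assoc, hcomm, Category.assoc])
    exact ⟨(hFP' (hR' hf)).amalgamate _ hxf, fun Z g hg =>
      (hFP' (hR' hf)).valid_glue hxf g hg⟩
  choose y hy using hyex
  have hyR : Presieve.FamilyOfElements.Compatible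
      (fun Y f hf => y hf : Presieve.FamilyOfElements F R) := by
    intro Y₁ Y₂ W a₁ a₂ f₁ f₂ hf₁ hf₂ hcomm
    obtain ⟨RW, hRW, hRWC⟩ := hb W
    apply sep2 P P' F hFP hFP' W _ _ RW hRW
    intro Wa u hu
    obtain ⟨hpb, hmem⟩ := ha (hR' hf₁) (u ≫ a₁) (hRWC hu)
    refine ⟨_, hmem, ?_⟩
    rintro Z g'' ⟨Z₀, g, hg⟩
    haveI := (R' hf₁).hasPullback (u ≫ a₁) hg
    have hmem1 : S' (pullback.fst g (u ≫ a₁) ≫ g ≫ f₁) :=
      S'.downward_closed (hS' hf₁ hg) _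
    have heq : ((pullback.snd g (u ≫ a₁) ≫ u) ≫ a₂) ≫ f₂ =
        pullback.fst g (u ≫ a₁) ≫ g ≫ f₁ := by
      rw [Category.assoc, ← hcomm, ← Category.assoc, ← Category.assoc, Category.assoc _ u,
        ← pullback.condition]
    have e1 : F.map (pullback.snd g (u ≫ a₁) ≫ u).op (F.map a₁.op (y hf₁)) =
        x (pullback.fst g (u ≫ a₁) ≫ g ≫ f₁) hmem1 := by
      rw [← map_comp_op, hsx (g ≫ f₁) (pullback.fst g (u ≫ a₁)) (hS' hf₁ hg), ← hy hf₁ hg,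
        ← map_comp_op]
      congr 2
      rw [Category.assoc, pullback.condition]
    have e2 : F.map (pullback.snd g (u ≫ a₁) ≫ u).op (F.map a₂.op (y hf₂)) =
        x (((pullback.snd g (u ≫ a₁) ≫ u) ≫ a₂) ≫ f₂) (by rw [heq]; exact hmem1) := by
      rw [← map_comp_op]
      exact key C' P P' ha hb F hFP hFP' S' x hx f₂ (R' hf₂) (hR' hf₂) (hS' hf₂) (y hf₂)
        (hy hf₂) _ _
    rw [e1, e2]
    exact fam_congr F x heq.symm _ _
  have ht : ∀ ⦃Y : C⦄ ⦃f : Y ⟶ X⦄ (hf : R f),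
      F.map f.op ((hFP hR).amalgamate _ hyR) = y hf := fun Y f hf =>
    (hFP hR).valid_glue hyR f hf
  refine ⟨(hFP hR).amalgamate _ hyR, ?_, ?_⟩
  · intro W q hq
    haveI : R.HasPullbacks q := P.hasPullbacks_of_mem q hR
    apply (hFP (P.pullbackArrows_mem q hR)).isSeparatedFor.ext
    rintro V s ⟨Y, f, hf⟩
    haveI := R.hasPullback q hf
    have hmem1 : S' (pullback.fst f q ≫ f) := by
      rw [pullback.condition]; exact S'.downward_closed hq _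
    have e1 : F.map (pullback.snd f q).op (F.map q.op ((hFP hR).amalgamate _ hyR)) =
        x (pullback.fst f q ≫ f) hmem1 := by
      rw [← map_comp_op, ← pullback.condition, map_comp_op, ht hf]
      exact key C' P P' ha hb F hFP hFP' S' x hx f (R' hf) (hR' hf) (hS' hf) (y hf)
        (hy hf) _ _
    have e2 : F.map (pullback.snd f q).op (x q hq) =
        x (pullback.snd f q ≫ q) (S'.downward_closed hq _) := (hsx q _ hq).symm
    rw [e1, e2]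
    exact fam_congr F x pullback.condition _ _
  · intro t' ht'
    apply (hFP hR).isSeparatedFor.ext
    intro Y f hf
    rw [ht hf]
    apply (hFP' (hR' hf)).isSeparatedFor.ext
    intro Z g hg
    rw [hy hf hg, ← map_comp_op]
    exact ht' (g ≫ f) (hS' hf hg)

end Groth.Agent.H3.ShfGen
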