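import Mathlib
import Groth.Agent.S2156

/-! Smoothness of fibres vs the smooth locus, for flat morphisms locally of finite presentation. -/

set_option autoImplicit false
universe u
open CategoryTheory AlgebraicGeometry

namespace Groth.Agent.H3.SmFib

instance lfp_fiber {X Y : Scheme.{u}} (f : X ⟶ Y) [LocallyOfFinitePresentation f] (y : Y) :
    LocallyOfFinitePresentation (f.fiberToSpecResidueField y) := by
  unfold Scheme.Hom.fiberToSpecResidueField
  exact MorphismProperty.pullback_snd _ _ inferInstance

theorem aux {X Y : Scheme.{u}} (f : X ⟶ Y) [LocallyOfFinitePresentation f] (x : X) (y : Y)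
    (h : f x = y) (z : f.fiber y) (hz : f.fiberι y z = x) :
    x ∈ f.smoothLocus → z ∈ (f.fiberToSpecResidueField y).smoothLocus := by
  subst h
  intro hx
  have h1 := (Groth.Agent.S2156.result f x).mp hx
  have hz' : z = f.asFiber x := by
    apply (f.fiberι (f x)).isEmbedding.injective
    rw [hz, f.fiberι_asFiber]
  rw [hz']
  exact h1.2

/-- For a flat morphism locally of finite presentation, the fibre over `y` is smooth iff every
point over `y` lies in the smooth locus. -/
theorem smooth_fiber_iff {X Y : Scheme.{u}} (f : X ⟶ Y) [Flat f]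
    [LocallyOfFinitePresentation f] (y : Y) :
    Smooth (f.fiberToSpecResidueField y) ↔ ∀ x : X, f x = y → x ∈ f.smoothLocus := by
  constructor
  · intro hy x hxy
    subst hxy
    rw [Groth.Agent.S2156.result f x]
    refine ⟨Flat.stalkMap f x, ?_⟩
    rw [(f.fiberToSpecResidueField (f x)).smoothLocus_eq_top]
    trivial
  · intro hy
    rw [← Scheme.Hom.smoothLocus_eq_top_iff]
    ext z
    simp only [TopologicalSpace.Opens.coe_top, Set.mem_univ, iff_true, SetLike.mem_coe]
    have hzy : f (f.fiberι y z) = y := by
      have : f.fiberι y z ∈ Set.range (f.fiberι y) := ⟨z, rfl⟩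
      rw [f.range_fiberι y] at this
      exact this
    exact aux f (f.fiberι y z) y hzy z rfl (hy _ hzy)

theorem setOf_smooth_fiber_eq {X Y : Scheme.{u}} (f : X ⟶ Y) [Flat f]
    [LocallyOfFinitePresentation f] :
    {y : Y | Smooth (f.fiberToSpecResidueField y)} = (f '' ((f.smoothLocus : Set X)ᶜ))ᶜ := by
  ext y
  rw [Set.mem_setOf_eq, smooth_fiber_iff]
  simp only [Set.mem_compl_iff, Set.mem_image, not_exists, not_and, SetLike.mem_coe]
  constructor
  · intro h x hx hxy
    exact hx (h x hxy)
  · intro h x hxy
    by_contra hcon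
    exact h x hcon hxy

/-- Proper flat finitely presented: the locus of smooth fibres is open. -/
theorem isOpen_setOf_smooth_fiber {X Y : Scheme.{u}} (f : X ⟶ Y) [IsProper f] [Flat f]
    [LocallyOfFinitePresentation f] :
    IsOpen {y : Y | Smooth (f.fiberToSpecResidueField y)} := by
  rw [setOf_smooth_fiber_eq]
  exact (f.isClosedMap _ f.smoothLocus.isOpen.isClosed_compl).isOpen_compl

end Groth.Agent.H3.SmFib
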