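import Mathlib
import Groth.Agent.Lib.Helper3.RegBaseSm
import Groth.Agent.Lib.Helper3.JacAlg
import Groth.Agent.Lib.Helper3.JacLocus
import Groth.Agent.Lib.Helper3.OmSec
import Groth.Agent.Lib.Helper3.OmQC

/-! flat + differentials free of rank the fibre dimension ⇒ smooth (any universal derivation). -/

set_option autoImplicit false
set_option linter.style.haveILetI false
universe u
open CategoryTheory AlgebraicGeometry TensorProduct

namespace Groth.Agent.H3.SmFlatFree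

/-- the chart-level step: on an affine chart `U₀ ≤ U ⊓ f⁻¹V` around `x`, flatness at `x` and
freeness of rank `fibreDimAt f x` of a sheaf of differentials over `U` give smoothness at `x`.
(`hbc` is the base change of the Fitting ideal of `Ω_{U₀/Y}` to the fibre, S8917.) -/
theorem mem_smoothLocus_of_flat_of_free {X Y : Scheme.{u}} (f : X ⟶ Y)
    [LocallyOfFinitePresentation f] {Ω' : X.Modules} {d : OmegaSh.Der f Ω'}
    (hd : OmegaSh.IsUniversal d) (x : X) (hflat : (f.stalkMap x).hom.Flat)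
    (U : X.Opens) (n : ℕ) (hfree : Nonempty (Ω'.restrict U.ι ≅ FlatMod.freeMod (↑U) n))
    (hdim : FlatMor.fibreDimAt f x = (n : WithBot ℕ∞))
    (U₀ : X.Opens) (hU₀ : IsAffineOpen U₀) (V : Y.Opens) (hV : IsAffineOpen V)
    (hle : U₀ ≤ f ⁻¹ᵁ V) (hU₀U : U₀ ≤ U) (hx : x ∈ U₀)
    [QuasiSeparated (U₀.ι ≫ f)]
    (hbc : (Fitt.sheafIdeal (Omega.sheaf (U₀.ι ≫ f)) n).comap
        ((U₀.ι ≫ f).fiberι ((U₀.ι ≫ f) ⟨x, hx⟩)) =
      Fitt.sheafIdeal (Omega.sheaf ((U₀.ι ≫ f).fiberToSpecResidueField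
        ((U₀.ι ≫ f) ⟨x, hx⟩))) n) :
    x ∈ f.smoothLocus := by
  haveI := Groth.Agent.H3.Om.isQuasicoherent_of_isUniversal hd
  haveI : LocallyOfFiniteType f := inferInstance
  haveI : LocallyOfFiniteType (U₀.ι ≫ f) := inferInstance
  have key : (⟨x, hx⟩ : U₀) ∈ (U₀.ι ≫ f).smoothLocus := by
    refine Groth.Agent.H3.JacSmooth.mem_smoothLocus_of_not_mem_fitt_of_flat (U₀.ι ≫ f) n
      ⟨x, hx⟩ ?_ hbc ?_ ?_
    · exact (H5.DS.flat_stalkMap_comp U₀.ι f ⟨x, hx⟩).mp hflat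
    · haveI : IsAffine (U₀ : Scheme.{u}) := hU₀
      have hT : IsAffineOpen (⊤ : (U₀ : Scheme.{u}).Opens) := isAffineOpen_top _
      have e' : (⊤ : (U₀ : Scheme.{u}).Opens) ≤ (U₀.ι ≫ f) ⁻¹ᵁ V := fun z _ => hle z.2
      rw [Groth.Agent.H3.JacLocus.mem_support_sheafIdeal_iff (Omega.sheaf (U₀.ι ≫ f))
        (Groth.Agent.H3.Om.isFiniteType_omega _) n hT ⟨x, hx⟩ trivial]
      letI algB' : Algebra Γ(Y, V) Γ((U₀ : Scheme.{u}), ⊤) :=
        ((U₀.ι ≫ f).appLE V ⊤ e').hom.toAlgebra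
      obtain ⟨εg, -⟩ := Groth.Agent.H3.Om.exists_linearEquiv_kaehler (U₀.ι ≫ f) hT hV e'
      rw [← Groth.Agent.H4.Fitting.ideal_congr n εg]
      letI algB : Algebra Γ(Y, V) Γ(X, U₀) := (f.appLE V U₀ hle).hom.toAlgebra
      haveI : Algebra.FiniteType Γ(Y, V) Γ(X, U₀) :=
        HasRingHomProperty.appLE @LocallyOfFiniteType f inferInstance ⟨V, hV⟩ ⟨U₀, hU₀⟩ hle
      let eB : Γ(X, U₀) ≃+* Γ((U₀ : Scheme.{u}), ⊤) := U₀.topIso.symm.commRingCatIsoToRingEquiv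
      have hcomp : (U₀.ι ≫ f).appLE V ⊤ e' = f.appLE V U₀ hle ≫ U₀.topIso.inv := by
        rw [← Scheme.Hom.appLE_comp_appLE U₀.ι f V U₀ ⊤ hle (fun z _ => z.2)]
        congr 1
        rw [Scheme.Opens.ι_appLE, Scheme.Opens.topIso_inv]
        rfl
      have hc : ∀ a, eB (algebraMap Γ(Y, V) Γ(X, U₀) a) =
          algebraMap Γ(Y, V) Γ((U₀ : Scheme.{u}), ⊤) (RingEquiv.refl _ a) := by
        intro a
        exact (congr($(hcomp).hom a)).symm
      rw [Groth.Agent.H3.JacAlg.fitt_kaehler_transport (RingEquiv.refl _) eB hc n]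
      have htop : Fitt.ideal Γ(X, U₀) Ω[Γ(X, U₀)⁄Γ(Y, V)] n = ⊤ := by
        obtain ⟨ε, -⟩ := Groth.Agent.H3.Om.exists_linearEquiv_sections hd hU₀ hV hle
        obtain ⟨iso⟩ := hfree
        have hrange : Set.range hU₀.fromSpec ⊆ Set.range U.ι := by
          rw [hU₀.range_fromSpec, Scheme.Opens.range_ι]
          exact hU₀U
        obtain ⟨iso'⟩ := Groth.Agent.LD.QC.freeMod_of_range_subset Ω' U.ι hU₀.fromSpec hrange n iso
        obtain ⟨ℓ⟩ := (Groth.Agent.LD.QC.restrict_fromSpec_iso_freeMod_iff Ω' hU₀ n).mp ⟨iso'⟩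
        let b : Module.Basis (Fin n) Γ(X, U₀) Ω[Γ(X, U₀)⁄Γ(Y, V)] :=
          Module.Basis.ofEquivFun (ε.trans ℓ)
        exact Groth.Agent.H4.Fitting.ideal_eq_top_of_span (⇑b) b.span_eq (by simp)
      rw [htop, Ideal.map_top]
      intro h
      exact (hT.primeIdealOf ⟨⟨x, hx⟩, trivial⟩).isPrime.ne_top (top_le_iff.mp h)
    · rw [Groth.Agent.H1.FibDimEt.fibreDimAt_comp_of_etale U₀.ι f ⟨x, hx⟩]
      exact hdim.ge
  have h2 := Scheme.Hom.preimage_smoothLocus_eq U₀.ι f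
  have h3 : (⟨x, hx⟩ : U₀) ∈ U₀.ι ⁻¹ᵁ f.smoothLocus := by
    rw [h2]
    exact key
  exact h3

/-- the converse direction (all of it). -/
theorem flat_and_free_of_mem_smoothLocus {X Y : Scheme.{u}} (f : X ⟶ Y)
    [LocallyOfFinitePresentation f] {Ω' : X.Modules} {d : OmegaSh.Der f Ω'}
    (hd : OmegaSh.IsUniversal d) (x : X) (hx : x ∈ f.smoothLocus) :
    (f.stalkMap x).hom.Flat ∧
      ∃ (U : X.Opens) (n : ℕ), x ∈ U ∧ Nonempty (Ω'.restrict U.ι ≅ FlatMod.freeMod (↑U) n) ∧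
        FlatMor.fibreDimAt f x = (n : WithBot ℕ∞) :=
  ⟨H5.DS.flat_stalkMap_of_smooth_nhd f x
      ((H5.DS.exists_smooth_nhd_iff_lfp f x).mpr (Scheme.Hom.mem_smoothLocus.mp hx)),
    Groth.Agent.H3.RegBaseSm.exists_free_of_mem_smoothLocus hd x hx⟩

end Groth.Agent.H3.SmFlatFree
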