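import Mathlib
import Groth.Prelude.Def_FibClv

set_option autoImplicit false
set_option backward.isDefEq.respectTransparency false
set_option backward.isDefEq.respectTransparency.types false

universe v₁ v₂ u₁ u₂

open CategoryTheory CategoryTheory.Functor Opposite FibCat

namespace Groth.Agent.H3.SplitClv

variable {𝒮 : Type u₁} [Category.{v₁} 𝒮] {𝒳 : Type u₂} [Category.{v₂} 𝒳]
  {p : 𝒳 ⥤ 𝒮} (K : FibCat.Cleavage p) (hK : K.IsSplitting)

section Basic

variable {K}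
include hK

lemma obj_id {S : 𝒮} {a : 𝒳} (ha : p.obj a = S) : K.obj ha (𝟙 S) = a := (hK.1 ha).choose

lemma lift_id {S : 𝒮} {a : 𝒳} (ha : p.obj a = S) : K.lift ha (𝟙 S) = eqToHom (obj_id hK ha) :=
  (hK.1 ha).choose_spec

lemma obj_comp {S T U : 𝒮} (f : T ⟶ S) (g : U ⟶ T) {a : 𝒳} (ha : p.obj a = S) :
    K.obj (K.obj_proj ha f) g = K.obj ha (g ≫ f) := (hK.2 f g ha).choose

lemma lift_comp {S T U : 𝒮} (f : T ⟶ S) (g : U ⟶ T) {a : 𝒳} (ha : p.obj a = S) :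
    K.lift (K.obj_proj ha f) g ≫ K.lift ha f = eqToHom (obj_comp hK f g ha) ≫ K.lift ha (g ≫ f) :=
  (hK.2 f g ha).choose_spec

lemma obj_comp' {S T U : 𝒮} (f : T ⟶ S) (g : U ⟶ T) (k : U ⟶ S) (hk : k = g ≫ f) {a : 𝒳}
    (ha : p.obj a = S) : K.obj (K.obj_proj ha f) g = K.obj ha k := by
  subst hk; exact obj_comp hK f g ha

lemma lift_comp' {S T U : 𝒮} (f : T ⟶ S) (g : U ⟶ T) (k : U ⟶ S) (hk : k = g ≫ f) {a : 𝒳}
    (ha : p.obj a = S) :
    K.lift (K.obj_proj ha f) g ≫ K.lift ha f = eqToHom (obj_comp' hK f g k hk ha) ≫ K.lift ha k := by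
  subst hk; exact lift_comp hK f g ha

lemma obj_id' {S : 𝒮} (k : S ⟶ S) (hk : k = 𝟙 S) {a : 𝒳} (ha : p.obj a = S) : K.obj ha k = a := by
  subst hk; exact obj_id hK ha

lemma lift_id' {S : 𝒮} (k : S ⟶ S) (hk : k = 𝟙 S) {a : 𝒳} (ha : p.obj a = S) :
    K.lift ha k = eqToHom (obj_id' hK k hk ha) := by
  subst hk; exact lift_id hK ha

end Basic

section Strict

variable {K}
include hK

lemma inverseImage_id (S : 𝒮) : K.inverseImage (𝟙 S) = 𝟭 (p.Fiber S) := by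
  refine CategoryTheory.Functor.ext (fun a => Subtype.ext (obj_id hK a.2)) (fun a b φ => ?_)
  apply Fiber.hom_ext
  rw [Cleavage.inverseImage_map, CategoryTheory.Functor.map_comp, CategoryTheory.Functor.map_comp,
    eqToHom_map, eqToHom_map]
  symm
  apply IsCartesian.map_uniq
  rw [Category.assoc, Category.assoc, lift_id hK b.2, lift_id hK a.2]
  simp

lemma inverseImage_comp {S T U : 𝒮} (f : T ⟶ S) (g : U ⟶ T) :
    K.inverseImage (g ≫ f) = K.inverseImage f ⋙ K.inverseImage g := by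
  refine CategoryTheory.Functor.ext (fun a => Subtype.ext (obj_comp hK f g a.2).symm)
    (fun a b φ => ?_)
  apply Fiber.hom_ext
  rw [Cleavage.inverseImage_map, CategoryTheory.Functor.map_comp, CategoryTheory.Functor.map_comp,
    eqToHom_map, eqToHom_map]
  symm
  apply IsCartesian.map_uniq
  have e1 := lift_comp hK f g b.2
  have e2 := lift_comp hK f g a.2
  simp only [Category.assoc, Functor.comp_map]
  rw [← e1, Cleavage.inverseImage_map, IsCartesian.fac_assoc, Cleavage.inverseImage_map,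
    Category.assoc, IsCartesian.fac, reassoc_of% e2]
  simp

end Strict

/-- the strict functor of a split cleavage -/
noncomputable def strictF : 𝒮ᵒᵖ ⥤ Cat.{v₂, u₂} where
  obj S := Cat.of (p.Fiber S.unop)
  map f := (K.inverseImage f.unop).toCatHom
  map_id S := congrArg Functor.toCatHom (inverseImage_id hK S.unop)
  map_comp f g := congrArg Functor.toCatHom (inverseImage_comp hK f.unop g.unop)

/-- total category -/
abbrev Tot : Type _ := Pseudofunctor.CoGrothendieck (strictF K hK).toPseudofunctor'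

variable {K hK}

/-- fibre object -/
abbrev fib (x : Tot K hK) : p.Fiber x.base := x.fiber

/-- fibre morphism -/
abbrev fibHom {x y : Tot K hK} (f : x ⟶ y) : fib x ⟶ (K.inverseImage f.base).obj (fib y) := f.fiber

omit hK in
lemma fiber_ext {S : 𝒮} {a b : p.Fiber S} (h : a.1 = b.1) : a = b := Subtype.ext h

lemma id_fibHom (x : Tot K hK) :
    Fiber.fiberInclusion.map (fibHom (𝟙 x)) = eqToHom (obj_id hK (fib x).2).symm := by
  have e : fib x = (K.inverseImage (𝟙 x.base)).obj (fib x) := fiber_ext (obj_id hK (fib x).2).symm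
  have : fibHom (𝟙 x) = eqToHom e := by
    dsimp [fibHom]
    simp [Cat.Hom₂.eqToHom_toNatTrans]
  rw [this, eqToHom_map]

lemma comp_fibHom {x y z : Tot K hK} (f : x ⟶ y) (g : y ⟶ z) :
    Fiber.fiberInclusion.map (fibHom (f ≫ g)) = Fiber.fiberInclusion.map (fibHom f) ≫
      Fiber.fiberInclusion.map ((K.inverseImage f.base).map (fibHom g)) ≫
      eqToHom (obj_comp hK g.base f.base (fib z).2) := by
  have e : (K.inverseImage f.base).obj ((K.inverseImage g.base).obj (fib z)) =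
      (K.inverseImage (f.base ≫ g.base)).obj (fib z) :=
    fiber_ext (obj_comp hK g.base f.base (fib z).2)
  have : fibHom (f ≫ g) = fibHom f ≫ (K.inverseImage f.base).map (fibHom g) ≫ eqToHom e := by
    dsimp [fibHom]
    simp [Cat.Hom₂.eqToHom_toNatTrans]
    rfl
  rw [this, CategoryTheory.Functor.map_comp, CategoryTheory.Functor.map_comp, eqToHom_map]

/-- `Ψ` on morphisms -/
noncomputable def Ψmap {x y : Tot K hK} (f : x ⟶ y) : (fib x).1 ⟶ (fib y).1 :=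
  Fiber.fiberInclusion.map (fibHom f) ≫ K.lift (fib y).2 f.base

instance Ψmap_lift {x y : Tot K hK} (f : x ⟶ y) : p.IsHomLift f.base (Ψmap f) := by
  have : p.IsHomLift (𝟙 x.base ≫ f.base) (Ψmap f) := by
    unfold Ψmap; infer_instance
  rwa [Category.id_comp] at this

lemma Ψmap_id (x : Tot K hK) : Ψmap (𝟙 x) = 𝟙 (fib x).1 := by
  unfold Ψmap
  rw [id_fibHom]
  have : K.lift (fib x).2 (Pseudofunctor.CoGrothendieck.Hom.base (𝟙 x)) =
    K.lift (fib x).2 (𝟙 x.base) := rfl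
  rw [this, lift_id hK]
  simp

lemma Ψmap_comp {x y z : Tot K hK} (f : x ⟶ y) (g : y ⟶ z) :
    Ψmap (f ≫ g) = Ψmap f ≫ Ψmap g := by
  unfold Ψmap
  rw [comp_fibHom]
  have : K.lift (fib z).2 (Pseudofunctor.CoGrothendieck.Hom.base (f ≫ g)) =
    K.lift (fib z).2 (f.base ≫ g.base) := rfl
  rw [this]
  simp only [Category.assoc]
  rw [← lift_comp hK g.base f.base (fib z).2, Cleavage.inverseImage_map, IsCartesian.fac_assoc]
  simp

variable (K hK) in
/-- the functor `Ψ` -/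
noncomputable def Ψ : Tot K hK ⥤ 𝒳 where
  obj x := (fib x).1
  map f := Ψmap f
  map_id x := Ψmap_id x
  map_comp f g := Ψmap_comp f g

variable (K hK) in
/-- `Φ` on objects -/
abbrev Φobj (a : 𝒳) : Tot K hK := ⟨p.obj a, (⟨a, rfl⟩ : p.Fiber (p.obj a))⟩

variable (K hK) in
/-- `Φ` on morphisms -/
noncomputable def Φmap {a b : 𝒳} (φ : a ⟶ b) : Φobj K hK a ⟶ Φobj K hK b where
  base := p.map φ
  fiber := (Fiber.homMk p (p.obj a) (IsCartesian.map p (p.map φ) (K.lift rfl (p.map φ)) φ) :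
    fib (Φobj K hK a) ⟶ (K.inverseImage (p.map φ)).obj (fib (Φobj K hK b)))

lemma Φmap_fiber {a b : 𝒳} (φ : a ⟶ b) :
    Fiber.fiberInclusion.map (fibHom (Φmap K hK φ)) =
      IsCartesian.map p (p.map φ) (K.lift rfl (p.map φ)) φ := rfl

lemma tot_hom_ext {x y : Tot K hK} (f g : x ⟶ y) (hb : f.base = g.base)
    (hf : Ψmap f = Ψmap g) : f = g := by
  obtain ⟨fb, ff⟩ := f
  obtain ⟨gb, gf⟩ := g
  dsimp at hb
  subst hb
  have : ff = gf := by
    apply Fiber.hom_ext (p := p) (S := x.base) (a := fib x) (b := (K.inverseImage fb).obj (fib y))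
    exact IsCartesian.ext p fb (K.lift (fib y).2 fb) _ _ hf
  subst this
  rfl

lemma Ψmap_Φmap {a b : 𝒳} (φ : a ⟶ b) : Ψmap (Φmap K hK φ) = φ :=
  IsCartesian.fac p (p.map φ) (K.lift rfl (p.map φ)) φ

lemma Φmap_id (a : 𝒳) : Φmap K hK (𝟙 a) = 𝟙 (Φobj K hK a) :=
  tot_hom_ext _ _ (p.map_id a) (by rw [Ψmap_Φmap, Ψmap_id])

lemma Φmap_comp {a b c : 𝒳} (φ : a ⟶ b) (ψ : b ⟶ c) :
    Φmap K hK (φ ≫ ψ) = Φmap K hK φ ≫ Φmap K hK ψ :=
  tot_hom_ext _ _ (p.map_comp φ ψ) (by rw [Ψmap_Φmap, Ψmap_comp, Ψmap_Φmap, Ψmap_Φmap])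

variable (K hK) in
/-- the functor `Φ` -/
noncomputable def Φ : 𝒳 ⥤ Tot K hK where
  obj a := Φobj K hK a
  map φ := Φmap K hK φ
  map_id a := Φmap_id a
  map_comp φ ψ := Φmap_comp φ ψ

lemma Φ_comp_Ψ : Φ K hK ⋙ Ψ K hK = 𝟭 𝒳 :=
  CategoryTheory.Functor.ext (fun _ => rfl) (fun a b φ => by
    simp only [eqToHom_refl, Category.comp_id, Category.id_comp]
    exact Ψmap_Φmap φ)

lemma Φ_comp_forget :
    Φ K hK ⋙ Pseudofunctor.CoGrothendieck.forget (strictF K hK).toPseudofunctor' = p :=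
  CategoryTheory.Functor.ext (fun _ => rfl) (fun a b φ => by
    simp only [eqToHom_refl, Category.comp_id, Category.id_comp]
    rfl)

/-- objects of the total category from explicit data -/
abbrev mkTot (S : 𝒮) (a : 𝒳) (ha : p.obj a = S) : Tot K hK := ⟨S, (⟨a, ha⟩ : p.Fiber S)⟩

lemma Φobj_mkTot (S : 𝒮) (a : 𝒳) (ha : p.obj a = S) : Φobj K hK a = mkTot S a ha := by
  subst ha
  rfl

lemma Φobj_fib (x : Tot K hK) : Φobj K hK (fib x).1 = x := by
  obtain ⟨S, ⟨a, ha⟩⟩ := x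
  exact Φobj_mkTot S a ha

lemma Φmap_Ψmap_aux (S : 𝒮) (a : 𝒳) (ha : p.obj a = S) (T : 𝒮) (b : 𝒳) (hb : p.obj b = T)
    (f : mkTot (K := K) (hK := hK) S a ha ⟶ mkTot T b hb) :
    Φmap K hK (Ψmap f) = eqToHom (Φobj_mkTot S a ha) ≫ f ≫ eqToHom (Φobj_mkTot T b hb).symm := by
  subst ha
  subst hb
  simp only [eqToHom_refl, Category.comp_id, Category.id_comp]
  refine tot_hom_ext _ _ ?_ (Ψmap_Φmap (Ψmap f))
  exact (IsHomLift.eq_of_isHomLift p f.base (Ψmap f)).symm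

lemma Φmap_Ψmap {x y : Tot K hK} (f : x ⟶ y) :
    Φmap K hK (Ψmap f) = eqToHom (Φobj_fib x) ≫ f ≫ eqToHom (Φobj_fib y).symm := by
  obtain ⟨S, ⟨a, ha⟩⟩ := x
  obtain ⟨T, ⟨b, hb⟩⟩ := y
  exact Φmap_Ψmap_aux S a ha T b hb f

lemma Ψ_comp_Φ : Ψ K hK ⋙ Φ K hK = 𝟭 (Tot K hK) :=
  CategoryTheory.Functor.ext (fun x => Φobj_fib x) (fun _ _ f => Φmap_Ψmap f)

theorem main (K : FibCat.Cleavage p) (hK : K.IsSplitting) : ∃ (F : 𝒮ᵒᵖ ⥤ Cat.{v₂, u₂})
      (Φ : 𝒳 ⥤ Pseudofunctor.CoGrothendieck F.toPseudofunctor')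
      (Ψ : Pseudofunctor.CoGrothendieck F.toPseudofunctor' ⥤ 𝒳),
      Φ ⋙ Ψ = 𝟭 𝒳 ∧ Ψ ⋙ Φ = 𝟭 _ ∧ Φ ⋙ Pseudofunctor.CoGrothendieck.forget F.toPseudofunctor' = p :=
  ⟨strictF K hK, Φ K hK, Ψ K hK, Φ_comp_Ψ, Ψ_comp_Φ, Φ_comp_forget⟩

end Groth.Agent.H3.SplitClv
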