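import Mathlib
import Groth.Prelude.Def_FibClv

set_option autoImplicit false
set_option backward.isDefEq.respectTransparency false
set_option backward.isDefEq.respectTransparency.types false

universe v₁ v₂ v₃ u₁ u₂ u₃

open CategoryTheory CategoryTheory.Functor Opposite FibCat

namespace Groth.Agent.H3.SplitClv2

section Transport

variable {𝒮 : Type u₁} [Category.{v₁} 𝒮] {𝒳 : Type u₂} [Category.{v₂} 𝒳]
  {𝒴 : Type u₃} [Category.{v₃} 𝒴] (q : 𝒴 ⥤ 𝒮) (Φ : 𝒳 ⥤ 𝒴) (Ψ : 𝒴 ⥤ 𝒳)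

lemma isHomLift_comp_of_map {R S : 𝒮} (f : R ⟶ S) {b a : 𝒳} (φ : b ⟶ a)
    [q.IsHomLift f (Φ.map φ)] : (Φ ⋙ q).IsHomLift f φ :=
  IsHomLift.of_fac (Φ ⋙ q) f φ (IsHomLift.domain_eq q f (Φ.map φ))
    (IsHomLift.codomain_eq q f (Φ.map φ)) (IsHomLift.fac q f (Φ.map φ))

lemma isHomLift_map_of_comp {R S : 𝒮} (f : R ⟶ S) {b a : 𝒳} (φ : b ⟶ a)
    [(Φ ⋙ q).IsHomLift f φ] : q.IsHomLift f (Φ.map φ) :=
  IsHomLift.of_fac q f (Φ.map φ) (IsHomLift.domain_eq (Φ ⋙ q) f φ)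
    (IsHomLift.codomain_eq (Φ ⋙ q) f φ) (IsHomLift.fac (Φ ⋙ q) f φ)

/-- cartesian morphisms are reflected by fully faithful functors -/
lemma isCartesian_of_map [Φ.Full] [Φ.Faithful] {R S : 𝒮} (f : R ⟶ S) {b a : 𝒳} (φ : b ⟶ a)
    [q.IsCartesian f (Φ.map φ)] : (Φ ⋙ q).IsCartesian f φ := by
  haveI := isHomLift_comp_of_map q Φ f φ
  refine ⟨fun {b'} φ' hφ' => ?_⟩
  haveI := isHomLift_map_of_comp q Φ f φ'
  refine ⟨Φ.preimage (IsCartesian.map q f (Φ.map φ) (Φ.map φ')), ⟨?_, ?_⟩, ?_⟩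
  · haveI : q.IsHomLift (𝟙 R) (Φ.map (Φ.preimage (IsCartesian.map q f (Φ.map φ) (Φ.map φ')))) := by
      rw [Φ.map_preimage]; infer_instance
    exact isHomLift_comp_of_map q Φ (𝟙 R) _
  · apply Φ.map_injective
    rw [Φ.map_comp, Φ.map_preimage, IsCartesian.fac]
  · rintro χ ⟨hχ, hχ'⟩
    apply Φ.map_injective
    rw [Φ.map_preimage]
    haveI := isHomLift_map_of_comp q Φ (𝟙 R) χ
    apply IsCartesian.map_uniq
    rw [← Φ.map_comp, hχ']

omit [Category.{v₂} 𝒳] in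
lemma isCartesian_eqToHom_comp {R S : 𝒮} (f : R ⟶ S) {y' y z : 𝒴} (e : y' = y) (ψ : y ⟶ z)
    [q.IsCartesian f ψ] : q.IsCartesian f (eqToHom e ≫ ψ) := by
  subst e
  simpa

variable {Φ Ψ}
variable (h₁ : Φ ⋙ Ψ = 𝟭 𝒳) (h₂ : Ψ ⋙ Φ = 𝟭 𝒴)

include h₁ h₂ in
lemma full_faithful_of_strict : Φ.Full ∧ Φ.Faithful := by
  haveI : Φ.IsEquivalence :=
    (CategoryTheory.Equivalence.mk Φ Ψ (eqToIso h₁.symm) (eqToIso h₂)).isEquivalence_functor
  exact ⟨inferInstance, inferInstance⟩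

variable {q} (K₀ : FibCat.Cleavage q)

include h₂ in
omit [Category.{v₁} 𝒮] in
lemma ΦΨ_obj (y : 𝒴) : Φ.obj (Ψ.obj y) = y := Functor.congr_obj h₂ y

/-- the transported lift -/
noncomputable def tLift [Φ.Full] {R S : 𝒮} {a : 𝒳} (ha : q.obj (Φ.obj a) = S) (f : R ⟶ S) :
    Ψ.obj (K₀.obj ha f) ⟶ a :=
  Φ.preimage (eqToHom (ΦΨ_obj h₂ _) ≫ K₀.lift ha f)

lemma map_tLift [Φ.Full] {R S : 𝒮} {a : 𝒳} (ha : q.obj (Φ.obj a) = S) (f : R ⟶ S) :
    Φ.map (tLift h₂ K₀ ha f) = eqToHom (ΦΨ_obj h₂ _) ≫ K₀.lift ha f :=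
  Φ.map_preimage _

/-- the transported cleavage -/
noncomputable def tK [Φ.Full] [Φ.Faithful] : FibCat.Cleavage (Φ ⋙ q) where
  obj {_ _ a} ha f := Ψ.obj (K₀.obj (a := Φ.obj a) ha f)
  lift {_ _ a} ha f := tLift h₂ K₀ (a := a) ha f
  isCartesian {_ _ a} ha f := by
    haveI : q.IsCartesian f (Φ.map (tLift h₂ K₀ (a := a) ha f)) := by
      rw [map_tLift]
      exact isCartesian_eqToHom_comp q f _ _
    exact isCartesian_of_map q Φ f _

omit [Category.{v₂} 𝒳] in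
lemma obj_congr {T U : 𝒮} {y' y : 𝒴} (e : y' = y) (hb : q.obj y' = T) (g : U ⟶ T) :
    K₀.obj hb g = K₀.obj (a := y) (e ▸ hb) g := by
  subst e; rfl

omit [Category.{v₂} 𝒳] in
lemma lift_congr {T U : 𝒮} {y' y : 𝒴} (e : y' = y) (hb : q.obj y' = T) (g : U ⟶ T) :
    K₀.lift hb g = eqToHom (obj_congr K₀ e hb g) ≫ K₀.lift (a := y) (e ▸ hb) g ≫ eqToHom e.symm := by
  subst e; simp

include h₁ in
theorem tK_isSplitting [Φ.Full] [Φ.Faithful] (hK₀ : K₀.IsSplitting) :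
    (tK h₂ K₀).IsSplitting := by
  refine ⟨?_, ?_⟩
  · intro S a ha
    have e1 : K₀.obj (a := Φ.obj a) ha (𝟙 S) = Φ.obj a := (hK₀.1 ha).choose
    have e2 : K₀.lift (a := Φ.obj a) ha (𝟙 S) = eqToHom e1 := (hK₀.1 ha).choose_spec
    refine ⟨(congrArg Ψ.obj e1).trans (Functor.congr_obj h₁ a), ?_⟩
    apply Φ.map_injective
    change Φ.map (tLift h₂ K₀ ha (𝟙 S)) = _
    rw [map_tLift, e2, eqToHom_map, eqToHom_trans]
  · intro S T U f g a ha
    have hb : q.obj (Φ.obj (Ψ.obj (K₀.obj (a := Φ.obj a) ha f))) = T :=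
      (tK h₂ K₀).obj_proj ha f
    have e1 : K₀.obj (K₀.obj_proj (a := Φ.obj a) ha f) g = K₀.obj ha (g ≫ f) := (hK₀.2 f g ha).choose
    have e2 : K₀.lift (K₀.obj_proj (a := Φ.obj a) ha f) g ≫ K₀.lift ha f =
      eqToHom e1 ≫ K₀.lift ha (g ≫ f) := (hK₀.2 f g ha).choose_spec
    have e3 := obj_congr K₀ (ΦΨ_obj h₂ (K₀.obj (a := Φ.obj a) ha f)) hb g
    have e4 := lift_congr K₀ (ΦΨ_obj h₂ (K₀.obj (a := Φ.obj a) ha f)) hb g
    refine ⟨congrArg Ψ.obj (e3.trans e1), ?_⟩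
    apply Φ.map_injective
    change Φ.map (tLift h₂ K₀ hb g ≫ tLift h₂ K₀ ha f) = Φ.map (_ ≫ tLift h₂ K₀ ha (g ≫ f))
    rw [Φ.map_comp, map_tLift, map_tLift, Φ.map_comp, map_tLift, eqToHom_map, e4]
    simp only [Category.assoc, eqToHom_trans_assoc, eqToHom_refl, Category.id_comp]
    rw [e2]
    simp

end Transport

section Canonical

open Pseudofunctor Pseudofunctor.CoGrothendieck

variable {𝒮 : Type u₁} [Category.{v₁} 𝒮] (F : 𝒮ᵒᵖ ⥤ Cat.{v₂, u₂})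

/-- total category -/
abbrev Tot : Type _ := Pseudofunctor.CoGrothendieck F.toPseudofunctor'

variable {F}

lemma eqToHom_base {x y : Tot F} (h : x = y) :
    (eqToHom h : x ⟶ y).base = eqToHom (congrArg CoGrothendieck.base h) := by
  subst h; rfl

lemma fiber_eq_of_eq {x y : Tot F} (h : x = y) :
    x.fiber = (F.toPseudofunctor'.map (eqToHom h : x ⟶ y).base.op.toLoc).toFunctor.obj y.fiber := by
  subst h
  change x.fiber = (F.map (𝟙 (op x.base))).toFunctor.obj x.fiber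
  rw [F.map_id]
  rfl

lemma eqToHom_fiber {x y : Tot F} (h : x = y) :
    (eqToHom h : x ⟶ y).fiber = eqToHom (fiber_eq_of_eq h) := by
  subst h
  simp [Cat.Hom₂.eqToHom_toNatTrans]

theorem canonical_isSplitting :
    (FibCat.Cleavage.ofCoGrothendieck F.toPseudofunctor').IsSplitting := by
  refine ⟨?_, ?_⟩
  · intro S a ha
    obtain ⟨b, x⟩ := a
    subst ha
    have h : (FibCat.Cleavage.ofCoGrothendieck F.toPseudofunctor').obj
        (a := (⟨b, x⟩ : Tot F)) rfl (𝟙 b) = ⟨b, x⟩ := by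
      change (⟨b, (F.map (𝟙 b ≫ 𝟙 b).op).toFunctor.obj x⟩ : Tot F) = ⟨b, x⟩
      congr 1
      rw [Category.comp_id, op_id, F.map_id]
      rfl
    refine ⟨h, ?_⟩
    have hb : ((FibCat.Cleavage.ofCoGrothendieck F.toPseudofunctor').lift
        (a := (⟨b, x⟩ : Tot F)) rfl (𝟙 b)).base = (eqToHom h : _ ⟶ (⟨b, x⟩ : Tot F)).base := by
      rw [eqToHom_base]
      change 𝟙 b ≫ 𝟙 b = _
      simp
      rfl
    refine Pseudofunctor.CoGrothendieck.Hom.ext _ _ hb ?_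
    rw [eqToHom_fiber, eqToHom_trans]
    change 𝟙 _ = _
    simp
    rfl
  · intro S T U f g a ha
    obtain ⟨b, x⟩ := a
    subst ha
    have h : (FibCat.Cleavage.ofCoGrothendieck F.toPseudofunctor').obj
        ((FibCat.Cleavage.ofCoGrothendieck F.toPseudofunctor').obj_proj
          (a := (⟨b, x⟩ : Tot F)) rfl f) g =
        (FibCat.Cleavage.ofCoGrothendieck F.toPseudofunctor').obj
          (a := (⟨b, x⟩ : Tot F)) rfl (g ≫ f) := by
      change (⟨U, (F.map (g ≫ 𝟙 T).op).toFunctor.obj ((F.map (f ≫ 𝟙 b).op).toFunctor.obj x)⟩ : Tot F) =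
        ⟨U, (F.map ((g ≫ f) ≫ 𝟙 b).op).toFunctor.obj x⟩
      congr 1
      simp only [Category.comp_id, op_comp, F.map_comp]
      rfl
    refine ⟨h, ?_⟩
    have hb : ((FibCat.Cleavage.ofCoGrothendieck F.toPseudofunctor').lift
          ((FibCat.Cleavage.ofCoGrothendieck F.toPseudofunctor').obj_proj
            (a := (⟨b, x⟩ : Tot F)) rfl f) g ≫
        (FibCat.Cleavage.ofCoGrothendieck F.toPseudofunctor').lift
          (a := (⟨b, x⟩ : Tot F)) rfl f).base =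
        (eqToHom h ≫ (FibCat.Cleavage.ofCoGrothendieck F.toPseudofunctor').lift
          (a := (⟨b, x⟩ : Tot F)) rfl (g ≫ f)).base := by
      rw [categoryStruct_comp_base, categoryStruct_comp_base, eqToHom_base]
      change (g ≫ 𝟙 T) ≫ (f ≫ 𝟙 b) = eqToHom _ ≫ ((g ≫ f) ≫ 𝟙 b)
      simp
    refine Pseudofunctor.CoGrothendieck.Hom.ext _ _ hb ?_
    rw [categoryStruct_comp_fiber, categoryStruct_comp_fiber, eqToHom_fiber]
    change 𝟙 _ ≫ (F.toPseudofunctor'.map _).toFunctor.map (𝟙 _) ≫ _ =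
      (_ ≫ (F.toPseudofunctor'.map _).toFunctor.map (𝟙 _) ≫ _) ≫ _
    simp only [CategoryTheory.Functor.map_id, Category.id_comp]
    simp [Cat.Hom₂.eqToHom_toNatTrans]

/-- the final statement -/
theorem main {𝒳 : Type u₂} [Category.{v₂} 𝒳] (p : 𝒳 ⥤ 𝒮)
    (Φ : 𝒳 ⥤ Pseudofunctor.CoGrothendieck F.toPseudofunctor')
    (Ψ : Pseudofunctor.CoGrothendieck F.toPseudofunctor' ⥤ 𝒳)
    (h₁ : Φ ⋙ Ψ = 𝟭 𝒳) (h₂ : Ψ ⋙ Φ = 𝟭 _)
    (h₃ : Φ ⋙ Pseudofunctor.CoGrothendieck.forget F.toPseudofunctor' = p) :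
    ∃ K : FibCat.Cleavage p, K.IsSplitting := by
  subst h₃
  obtain ⟨hfull, hfaith⟩ := full_faithful_of_strict h₁ h₂
  exact ⟨tK h₂ (FibCat.Cleavage.ofCoGrothendieck F.toPseudofunctor'),
    tK_isSplitting h₁ h₂ _ canonical_isSplitting⟩

end Canonical

end Groth.Agent.H3.SplitClv2
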