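import Mathlib
import Groth.Prelude.Def_Red2
import Groth.Agent.Lib.Helper3.RigidAct

/-! The kernel of reduction modulo a square-zero ideal is commutative (for points of an arbitrary
group scheme over an affine base). -/

universe u

open CategoryTheory MonoidalCategory CartesianMonoidalCategory MonObj GrpObj AlgebraicGeometry Limits
open Groth.Agent.H3.RigidAct

namespace Groth.Agent.H3.SqZeroComm

section Ring

variable {C : Type u} [CommRing C] (𝔫 : Ideal C)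

/-- the ring of triples of elements of `C` which are congruent modulo `𝔫`. -/
def T3 : Subring (C × C × C) where
  carrier := {p | p.1 - p.2.2 ∈ 𝔫 ∧ p.2.1 - p.2.2 ∈ 𝔫}
  mul_mem' := by
    rintro ⟨a, b, c⟩ ⟨a', b', c'⟩ ⟨h1, h2⟩ ⟨h1', h2'⟩
    refine ⟨?_, ?_⟩
    · show a * a' - c * c' ∈ 𝔫
      have : a * a' - c * c' = a * (a' - c') + (a - c) * c' := by ring
      rw [this]
      exact 𝔫.add_mem (𝔫.mul_mem_left _ h1') (𝔫.mul_mem_right _ h1)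
    · show b * b' - c * c' ∈ 𝔫
      have : b * b' - c * c' = b * (b' - c') + (b - c) * c' := by ring
      rw [this]
      exact 𝔫.add_mem (𝔫.mul_mem_left _ h2') (𝔫.mul_mem_right _ h2)
  one_mem' := by
    refine ⟨?_, ?_⟩
    · show (1 : C) - 1 ∈ 𝔫
      rw [sub_self]; exact 𝔫.zero_mem
    · show (1 : C) - 1 ∈ 𝔫
      rw [sub_self]; exact 𝔫.zero_mem
  add_mem' := by
    rintro ⟨a, b, c⟩ ⟨a', b', c'⟩ ⟨h1, h2⟩ ⟨h1', h2'⟩
    refine ⟨?_, ?_⟩
    · show (a + a') - (c + c') ∈ 𝔫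
      have : (a + a') - (c + c') = (a - c) + (a' - c') := by ring
      rw [this]
      exact 𝔫.add_mem h1 h1'
    · show (b + b') - (c + c') ∈ 𝔫
      have : (b + b') - (c + c') = (b - c) + (b' - c') := by ring
      rw [this]
      exact 𝔫.add_mem h2 h2'
  zero_mem' := by
    refine ⟨?_, ?_⟩
    · show (0 : C) - 0 ∈ 𝔫
      rw [sub_self]; exact 𝔫.zero_mem
    · show (0 : C) - 0 ∈ 𝔫
      rw [sub_self]; exact 𝔫.zero_mem
  neg_mem' := by
    rintro ⟨a, b, c⟩ ⟨h1, h2⟩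
    refine ⟨?_, ?_⟩
    · show -a - -c ∈ 𝔫
      have : -a - -c = -(a - c) := by ring
      rw [this]
      exact 𝔫.neg_mem h1
    · show -b - -c ∈ 𝔫
      have : -b - -c = -(b - c) := by ring
      rw [this]
      exact 𝔫.neg_mem h2

variable {𝔫}

theorem mem_T3 (p : C × C × C) : p ∈ T3 𝔫 ↔ p.1 - p.2.2 ∈ 𝔫 ∧ p.2.1 - p.2.2 ∈ 𝔫 := Iff.rfl

/-- first projection. -/
def pr1 : T3 𝔫 →+* C := (RingHom.fst C (C × C)).comp (T3 𝔫).subtype

/-- second projection. -/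
def pr2 : T3 𝔫 →+* C := ((RingHom.fst C C).comp (RingHom.snd C (C × C))).comp (T3 𝔫).subtype

/-- third projection. -/
def pr3 : T3 𝔫 →+* C := ((RingHom.snd C C).comp (RingHom.snd C (C × C))).comp (T3 𝔫).subtype

theorem pr1_apply (p : T3 𝔫) : pr1 p = p.1.1 := rfl
theorem pr2_apply (p : T3 𝔫) : pr2 p = p.1.2.1 := rfl
theorem pr3_apply (p : T3 𝔫) : pr3 p = p.1.2.2 := rfl

variable (𝔫) in
/-- the diagonal. -/
def diag : C →+* T3 𝔫 :=
  RingHom.codRestrict ((RingHom.id C).prod ((RingHom.id C).prod (RingHom.id C))) (T3 𝔫)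
    (fun c => ⟨by show c - c ∈ 𝔫; rw [sub_self]; exact 𝔫.zero_mem,
      by show c - c ∈ 𝔫; rw [sub_self]; exact 𝔫.zero_mem⟩)

theorem pr1_diag (c : C) : pr1 (diag 𝔫 c) = c := rfl
theorem pr2_diag (c : C) : pr2 (diag 𝔫 c) = c := rfl
theorem pr3_diag (c : C) : pr3 (diag 𝔫 c) = c := rfl

/-- a triple of congruent ring homomorphisms. -/
def trip {A : Type u} [CommRing A] (a b c : A →+* C)
    (h : ∀ x, a x - c x ∈ 𝔫 ∧ b x - c x ∈ 𝔫) : A →+* T3 𝔫 :=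
  RingHom.codRestrict (a.prod (b.prod c)) (T3 𝔫) h

theorem pr1_trip {A : Type u} [CommRing A] (a b c : A →+* C)
    (h : ∀ x, a x - c x ∈ 𝔫 ∧ b x - c x ∈ 𝔫) (x : A) : pr1 (trip a b c h x) = a x := rfl
theorem pr2_trip {A : Type u} [CommRing A] (a b c : A →+* C)
    (h : ∀ x, a x - c x ∈ 𝔫 ∧ b x - c x ∈ 𝔫) (x : A) : pr2 (trip a b c h x) = b x := rfl
theorem pr3_trip {A : Type u} [CommRing A] (a b c : A →+* C)
    (h : ∀ x, a x - c x ∈ 𝔫 ∧ b x - c x ∈ 𝔫) (x : A) : pr3 (trip a b c h x) = c x := rfl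

theorem T3_ext {p q : T3 𝔫} (h1 : pr1 p = pr1 q) (h2 : pr2 p = pr2 q) (h3 : pr3 p = pr3 q) :
    p = q :=
  Subtype.ext (Prod.ext h1 (Prod.ext h2 h3))

/-- the ring homomorphism `(a, b, c) ↦ a + b - c` (for a square-zero ideal). -/
def sigma (h𝔫 : ∀ x ∈ 𝔫, ∀ y ∈ 𝔫, x * y = 0) : T3 𝔫 →+* C where
  toFun p := pr1 p + pr2 p - pr3 p
  map_one' := by simp
  map_mul' := by
    rintro ⟨⟨a, b, c⟩, h1, h2⟩ ⟨⟨a', b', c'⟩, h1', h2'⟩
    show a * a' + b * b' - c * c' = (a + b - c) * (a' + b' - c')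
    have h3 : (a - c) * (b' - c') = 0 := h𝔫 _ h1 _ h2'
    have h4 : (b - c) * (a' - c') = 0 := h𝔫 _ h2 _ h1'
    have h5 : (a - c) * (a' - c') = 0 := h𝔫 _ h1 _ h1'
    have h6 : (b - c) * (b' - c') = 0 := h𝔫 _ h2 _ h2'
    linear_combination (-1 : C) * h3 - h4
  map_zero' := by simp
  map_add' := by
    intro p q
    simp only [map_add]
    ring

theorem sigma_apply (h𝔫 : ∀ x ∈ 𝔫, ∀ y ∈ 𝔫, x * y = 0) (p : T3 𝔫) :
    sigma h𝔫 p = pr1 p + pr2 p - pr3 p := rfl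

theorem sigma_diag (h𝔫 : ∀ x ∈ 𝔫, ∀ y ∈ 𝔫, x * y = 0) (c : C) : sigma h𝔫 (diag 𝔫 c) = c := by
  rw [sigma_apply, pr1_diag, pr2_diag, pr3_diag]
  ring

theorem isNilpotent_of_pr3 (h𝔫 : ∀ x ∈ 𝔫, ∀ y ∈ 𝔫, x * y = 0) (p : T3 𝔫) (hp : pr3 p = 0) :
    IsNilpotent p := by
  refine ⟨2, ?_⟩
  obtain ⟨⟨a, b, c⟩, h1, h2⟩ := p
  have hc : c = 0 := hp
  subst hc
  rw [pow_two]
  have ha : a ∈ 𝔫 := by simpa using h1
  have hb : b ∈ 𝔫 := by simpa using h2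
  apply T3_ext
  · show a * a = 0
    exact h𝔫 a ha a ha
  · show b * b = 0
    exact h𝔫 b hb b hb
  · show (0 : C) * 0 = 0
    simp

end Ring

section Geom

variable {R : Type u} [CommRing R] {X : Over (Spec (CommRingCat.of R))}
  {U : X.left.Opens} (hU : IsAffineOpen U)

/-- a point over an affine test object whose image lies in `U` is represented on `U`. -/
theorem exists_rep_of_range {C : CommRingCat.{u}} {s : Spec C ⟶ Spec (CommRingCat.of R)}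
    (z : Over.mk s ⟶ X) (hz : ∀ c, z.left c ∈ U) : ∃ ξ : Γ(X.left, U) ⟶ C, Rep hU z ξ := by
  have hrange : Set.range z.left ⊆ Set.range hU.fromSpec := by
    rintro _ ⟨c, rfl⟩
    rw [hU.range_fromSpec]
    exact hz c
  let l : Spec C ⟶ Spec Γ(X.left, U) := IsOpenImmersion.lift hU.fromSpec z.left hrange
  have hl : l ≫ hU.fromSpec = z.left := IsOpenImmersion.lift_fac _ _ _
  refine ⟨Spec.preimage l, ?_⟩
  change _ = Spec.map (Spec.preimage l) ≫ hU.fromSpec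
  rw [Spec.map_preimage, hl]

theorem rep_mem {C : CommRingCat.{u}} {s : Spec C ⟶ Spec (CommRingCat.of R)}
    {z : Over.mk s ⟶ X} {ξ : Γ(X.left, U) ⟶ C} (h : Rep hU z ξ) (c : Spec C) :
    z.left c ∈ U := by
  have h1 : z.left c = hU.fromSpec (Spec.map ξ c) := by
    rw [h]; rfl
  rw [h1]
  have : hU.fromSpec (Spec.map ξ c) ∈ Set.range hU.fromSpec := ⟨_, rfl⟩
  rwa [hU.range_fromSpec] at this

/-- a surjective ring map with nilpotent kernel is surjective on spectra. -/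
theorem spec_surjective {D C : CommRingCat.{u}} (θ : D ⟶ C) (hθ : Function.Surjective θ.hom)
    (hker : ∀ x, θ.hom x = 0 → IsNilpotent x) : ∀ d : Spec D, ∃ c : Spec C, Spec.map θ c = d := by
  intro d
  have h1 : Set.range (PrimeSpectrum.comap θ.hom) = Set.univ := by
    rw [range_comap_of_surjective _ _ hθ, PrimeSpectrum.zeroLocus_eq_univ_iff]
    intro x hx
    exact mem_nilradical.mpr (hker x (RingHom.mem_ker.mp hx))
  have h2 : (d : PrimeSpectrum D) ∈ Set.range (PrimeSpectrum.comap θ.hom) := by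
    rw [h1]; exact Set.mem_univ _
  obtain ⟨c, hc⟩ := h2
  exact ⟨c, hc⟩

/-- representability on `U` can be tested after a base change which is surjective on spectra. -/
theorem exists_rep_of_bc {C D : CommRingCat.{u}} {sD : Spec D ⟶ Spec (CommRingCat.of R)}
    {sC : Spec C ⟶ Spec (CommRingCat.of R)} (θ : D ⟶ C) (hs : Spec.map θ ≫ sD = sC)
    (hsurj : ∀ d : Spec D, ∃ c : Spec C, Spec.map θ c = d)
    (z : Over.mk sD ⟶ X) {ξ : Γ(X.left, U) ⟶ C} (h : Rep hU (bcHom sD sC θ hs ≫ z) ξ) :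
    ∃ ξ' : Γ(X.left, U) ⟶ D, Rep hU z ξ' := by
  refine exists_rep_of_range hU z (fun d => ?_)
  obtain ⟨c, rfl⟩ := hsurj d
  exact rep_mem hU h c

/-- a point with a prescribed representing ring map. -/
theorem exists_point_of_rep {D : CommRingCat.{u}} (sD : Spec D ⟶ Spec (CommRingCat.of R))
    (ξ : Γ(X.left, U) ⟶ D) (h : Spec.map ξ ≫ hU.fromSpec ≫ X.hom = sD) :
    ∃ z : Over.mk sD ⟶ X, Rep hU z ξ :=
  ⟨Over.homMk (Spec.map ξ ≫ hU.fromSpec) (by simpa using h), rfl⟩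

variable [GrpObj X]

/-- the point `g` becomes the unit after base change to `R ⧸ J`, in pointwise form. -/
def KillsMod (J : Ideal R) {Y : Over (Spec (CommRingCat.of R))} (g : Y ⟶ X) : Prop :=
  ∀ (T : Over (Spec (CommRingCat.of R))) (p : T.left ⟶ Spec (CommRingCat.of (R ⧸ J))),
    p ≫ Spec.map (CommRingCat.ofHom (Ideal.Quotient.mk J)) = T.hom → ∀ t : T ⟶ Y, t ≫ g = 1

theorem KillsMod.precomp {J : Ideal R} {Y Y' : Over (Spec (CommRingCat.of R))} {g : Y ⟶ X}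
    (hg : KillsMod J g) (jY : Y' ⟶ Y) : KillsMod J (jY ≫ g) := by
  intro T p hp t
  rw [← Category.assoc]
  exact hg T p hp (t ≫ jY)

theorem killsMod_of_pullback (J : Ideal R) {Y : Over (Spec (CommRingCat.of R))} (g : Y ⟶ X)
    (h : (Over.pullback (Spec.map (CommRingCat.ofHom (Ideal.Quotient.mk J)))).map g = 1) :
    KillsMod J g := by
  intro T p hp t
  let i₀ := Spec.map (CommRingCat.ofHom (Ideal.Quotient.mk J))
  let T₀ : Over (Spec (CommRingCat.of (R ⧸ J))) := Over.mk p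
  let j : (Over.map i₀).obj T₀ ≅ T := Over.isoMk (Iso.refl T.left) (by simpa [T₀, i₀] using hp.symm)
  have h1 : j.hom ≫ t ≫ g = 1 := by
    rw [← Category.assoc, ← tp_tpInv i₀ Y (j.hom ≫ t)]
    have h2 : tp i₀ Y (tpInv i₀ Y (j.hom ≫ t)) ≫ g =
        tp i₀ X (tpInv i₀ Y (j.hom ≫ t) ≫ (Over.pullback i₀).map g) :=
      ((Over.mapPullbackAdj i₀).homEquiv_naturality_right_symm _ g).symm
    rw [h2, h, MonObj.comp_one, tp_one]
  have h3 : j.hom ≫ t ≫ g = j.hom ≫ 1 := by rw [h1, MonObj.comp_one]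
  exact (cancel_epi j.hom).mp h3

include hU in
/-- **Core**: over an affine test object on which the unit section lands in the affine open `U`,
two points which are trivial modulo a square-zero ideal commute. -/
theorem core (J : Ideal R) (hJ : J * J = ⊥) {C : CommRingCat.{u}} (ρ : CommRingCat.of R ⟶ C)
    (s : Spec C ⟶ Spec (CommRingCat.of R)) (hs : Spec.map ρ = s)
    (g g' : Over.mk s ⟶ X) (hg : KillsMod J g) (hg' : KillsMod J g')
    {ε : Γ(X.left, U) ⟶ C} (hε : Rep hU (1 : Over.mk s ⟶ X) ε) : g * g' = g' * g := by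
  subst hs
  let 𝔫 : Ideal C := Ideal.map ρ.hom J
  have h𝔫 : ∀ x ∈ 𝔫, ∀ y ∈ 𝔫, x * y = 0 := by
    intro x hx y hy
    have h1 : x * y ∈ 𝔫 * 𝔫 := Ideal.mul_mem_mul hx hy
    rw [← Ideal.map_mul, hJ, Ideal.map_bot] at h1
    simpa using h1
  -- reduction modulo `𝔫`
  let θ₀ : C ⟶ CommRingCat.of (C ⧸ 𝔫) := CommRingCat.ofHom (Ideal.Quotient.mk 𝔫)
  have hθ₀surj : ∀ d : Spec C, ∃ c : Spec (CommRingCat.of (C ⧸ 𝔫)), Spec.map θ₀ c = d := by
    refine spec_surjective θ₀ Ideal.Quotient.mk_surjective (fun x hx => ⟨2, ?_⟩)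
    have hx' : x ∈ 𝔫 := Ideal.Quotient.eq_zero_iff_mem.mp hx
    rw [pow_two]
    exact h𝔫 x hx' x hx'
  let p : Spec (CommRingCat.of (C ⧸ 𝔫)) ⟶ Spec (CommRingCat.of (R ⧸ J)) :=
    Spec.map (CommRingCat.ofHom (Ideal.Quotient.lift J ((Ideal.Quotient.mk 𝔫).comp ρ.hom)
      (fun j hj => Ideal.Quotient.eq_zero_iff_mem.mpr (Ideal.mem_map_of_mem _ hj))))
  have hp : p ≫ Spec.map (CommRingCat.ofHom (Ideal.Quotient.mk J)) =
      Spec.map θ₀ ≫ Spec.map ρ := by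
    rw [← Spec.map_comp, ← Spec.map_comp]
    congr 1
  let b₀ : Over.mk (Spec.map θ₀ ≫ Spec.map ρ) ⟶ Over.mk (Spec.map ρ) :=
    bcHom (Spec.map ρ) (Spec.map θ₀ ≫ Spec.map ρ) θ₀ rfl
  have hrepr : ∀ z : Over.mk (Spec.map ρ) ⟶ X, KillsMod J z →
      ∃ ξ : Γ(X.left, U) ⟶ C, Rep hU z ξ ∧ ∀ a, ξ.hom a - ε.hom a ∈ 𝔫 := by
    intro z hz
    have h1 : b₀ ≫ z = b₀ ≫ 1 := by rw [hz _ p hp b₀, MonObj.comp_one]
    have h2 : Rep hU (b₀ ≫ z) (ε ≫ θ₀) := by rw [h1]; exact Rep.bc hU hε θ₀ rfl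
    obtain ⟨ξ, hξ⟩ := exists_rep_of_bc hU θ₀ rfl hθ₀surj z h2
    refine ⟨ξ, hξ, fun a => ?_⟩
    have h3 : ξ ≫ θ₀ = ε ≫ θ₀ := Rep.unique hU (Rep.bc hU hξ θ₀ rfl) h2
    have h4 := congrArg (fun φ => φ.hom a) h3
    exact Ideal.Quotient.eq.mp h4
  obtain ⟨ga, hga, hgaε⟩ := hrepr g hg
  obtain ⟨ga', hga', hga'ε⟩ := hrepr g' hg'
  -- the ring of congruent triples
  let T : CommRingCat.{u} := CommRingCat.of (T3 𝔫)
  let δ : C ⟶ T := CommRingCat.ofHom (diag 𝔫)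
  let sT : Spec T ⟶ Spec (CommRingCat.of R) := Spec.map δ ≫ Spec.map ρ
  let P1 : T ⟶ C := CommRingCat.ofHom pr1
  let P2 : T ⟶ C := CommRingCat.ofHom pr2
  let P3 : T ⟶ C := CommRingCat.ofHom pr3
  let Sg : T ⟶ C := CommRingCat.ofHom (sigma h𝔫)
  have hP1 : δ ≫ P1 = 𝟙 C := rfl
  have hP2 : δ ≫ P2 = 𝟙 C := rfl
  have hP3 : δ ≫ P3 = 𝟙 C := rfl
  have hSg : δ ≫ Sg = 𝟙 C := CommRingCat.hom_ext (RingHom.ext fun c => sigma_diag h𝔫 c)
  have hsec : ∀ (Q : T ⟶ C), δ ≫ Q = 𝟙 C → Spec.map Q ≫ sT = Spec.map ρ := by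
    intro Q hQ
    change Spec.map Q ≫ Spec.map δ ≫ Spec.map ρ = _
    rw [← Category.assoc, ← Spec.map_comp, hQ, Spec.map_id, Category.id_comp]
  let b1 : Over.mk (Spec.map ρ) ⟶ Over.mk sT := bcHom sT (Spec.map ρ) P1 (hsec P1 hP1)
  let b2 : Over.mk (Spec.map ρ) ⟶ Over.mk sT := bcHom sT (Spec.map ρ) P2 (hsec P2 hP2)
  let b3 : Over.mk (Spec.map ρ) ⟶ Over.mk sT := bcHom sT (Spec.map ρ) P3 (hsec P3 hP3)
  let bs : Over.mk (Spec.map ρ) ⟶ Over.mk sT := bcHom sT (Spec.map ρ) Sg (hsec Sg hSg)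
  -- compatibility with the base ring
  obtain ⟨κ, hκ⟩ : ∃ κ : CommRingCat.of R ⟶ Γ(X.left, U), Spec.map κ = hU.fromSpec ≫ X.hom :=
    ⟨Spec.preimage _, Spec.map_preimage _⟩
  have hκof : ∀ {ξ : Γ(X.left, U) ⟶ C} {z : Over.mk (Spec.map ρ) ⟶ X}, Rep hU z ξ → κ ≫ ξ = ρ := by
    intro ξ z hz
    apply Spec.map_injective
    rw [Spec.map_comp, hκ]
    exact Rep.hom hU hz
  have hκga : κ ≫ ga = ρ := hκof hga
  have hκga' : κ ≫ ga' = ρ := hκof hga'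
  have hκε : κ ≫ ε = ρ := hκof hε
  have hstr : ∀ (Ξ : Γ(X.left, U) ⟶ T), κ ≫ Ξ = ρ ≫ δ → Spec.map Ξ ≫ hU.fromSpec ≫ X.hom = sT := by
    intro Ξ hΞ
    rw [← hκ, ← Spec.map_comp, hΞ, Spec.map_comp]
  -- the two points over `T`
  let Xi1 : Γ(X.left, U) ⟶ T := CommRingCat.ofHom (trip ga.hom ε.hom ε.hom
    (fun a => ⟨hgaε a, by rw [sub_self]; exact 𝔫.zero_mem⟩))
  let Xi2 : Γ(X.left, U) ⟶ T := CommRingCat.ofHom (trip ε.hom ga'.hom ε.hom
    (fun a => ⟨by rw [sub_self]; exact 𝔫.zero_mem, hga'ε a⟩))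
  have hXi1κ : κ ≫ Xi1 = ρ ≫ δ := by
    refine CommRingCat.hom_ext (RingHom.ext fun r => ?_)
    apply T3_ext
    · exact congrArg (fun φ => φ.hom r) hκga
    · exact congrArg (fun φ => φ.hom r) hκε
    · exact congrArg (fun φ => φ.hom r) hκε
  have hXi2κ : κ ≫ Xi2 = ρ ≫ δ := by
    refine CommRingCat.hom_ext (RingHom.ext fun r => ?_)
    apply T3_ext
    · exact congrArg (fun φ => φ.hom r) hκε
    · exact congrArg (fun φ => φ.hom r) hκga'
    · exact congrArg (fun φ => φ.hom r) hκε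
  obtain ⟨G₁, hG₁⟩ := exists_point_of_rep hU sT Xi1 (hstr Xi1 hXi1κ)
  obtain ⟨G₂, hG₂⟩ := exists_point_of_rep hU sT Xi2 (hstr Xi2 hXi2κ)
  -- specialisations of the two points
  have e11 : b1 ≫ G₁ = g := Rep.ext hU (Rep.bc hU hG₁ P1 (hsec P1 hP1)) hga
  have e12 : b2 ≫ G₁ = 1 := Rep.ext hU (Rep.bc hU hG₁ P2 (hsec P2 hP2)) hε
  have e13 : b3 ≫ G₁ = 1 := Rep.ext hU (Rep.bc hU hG₁ P3 (hsec P3 hP3)) hε
  have e21 : b1 ≫ G₂ = 1 := Rep.ext hU (Rep.bc hU hG₂ P1 (hsec P1 hP1)) hε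
  have e22 : b2 ≫ G₂ = g' := Rep.ext hU (Rep.bc hU hG₂ P2 (hsec P2 hP2)) hga'
  have e23 : b3 ≫ G₂ = 1 := Rep.ext hU (Rep.bc hU hG₂ P3 (hsec P3 hP3)) hε
  have hXi1s : Xi1 ≫ Sg = ga := by
    refine CommRingCat.hom_ext (RingHom.ext fun a => ?_)
    change sigma h𝔫 (trip ga.hom ε.hom ε.hom _ a) = ga.hom a
    rw [sigma_apply, pr1_trip, pr2_trip, pr3_trip]
    ring
  have hXi2s : Xi2 ≫ Sg = ga' := by
    refine CommRingCat.hom_ext (RingHom.ext fun a => ?_)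
    change sigma h𝔫 (trip ε.hom ga'.hom ε.hom _ a) = ga'.hom a
    rw [sigma_apply, pr1_trip, pr2_trip, pr3_trip]
    ring
  have es1 : bs ≫ G₁ = g := by
    have h1 := Rep.bc hU hG₁ Sg (hsec Sg hSg)
    rw [hXi1s] at h1
    exact Rep.ext hU h1 hga
  have es2 : bs ≫ G₂ = g' := by
    have h1 := Rep.bc hU hG₂ Sg (hsec Sg hSg)
    rw [hXi2s] at h1
    exact Rep.ext hU h1 hga'
  -- the products are represented
  have hP3surj : ∀ d : Spec T, ∃ c : Spec C, Spec.map P3 c = d :=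
    spec_surjective P3 (fun c => ⟨diag 𝔫 c, rfl⟩) (fun x hx => isNilpotent_of_pr3 h𝔫 x hx)
  have hprod : ∀ (A B : Over.mk sT ⟶ X), b3 ≫ A = 1 → b3 ≫ B = 1 →
      ∃ ν : Γ(X.left, U) ⟶ T, Rep hU (A * B) ν := by
    intro A B hA hB
    have h1 : b3 ≫ (A * B) = 1 := by rw [MonObj.comp_mul, hA, hB, _root_.mul_one]
    exact exists_rep_of_bc hU P3 (hsec P3 hP3) hP3surj (A * B) (by rw [h1]; exact hε)
  obtain ⟨ν, hν⟩ := hprod G₁ G₂ e13 e23
  obtain ⟨ν', hν'⟩ := hprod G₂ G₁ e23 e13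
  have hνν' : ν = ν' := by
    refine CommRingCat.hom_ext (RingHom.ext fun a => ?_)
    have q1 : ν ≫ P1 = ν' ≫ P1 := by
      refine Rep.unique hU (Rep.bc hU hν P1 (hsec P1 hP1)) ?_
      have h1 : bcHom sT (Spec.map ρ) P1 (hsec P1 hP1) ≫ (G₁ * G₂) =
          bcHom sT (Spec.map ρ) P1 (hsec P1 hP1) ≫ (G₂ * G₁) := by
        change b1 ≫ (G₁ * G₂) = b1 ≫ (G₂ * G₁)
        rw [MonObj.comp_mul, MonObj.comp_mul, e11, e21, _root_.mul_one, _root_.one_mul]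
      rw [h1]
      exact Rep.bc hU hν' P1 (hsec P1 hP1)
    have q2 : ν ≫ P2 = ν' ≫ P2 := by
      refine Rep.unique hU (Rep.bc hU hν P2 (hsec P2 hP2)) ?_
      have h1 : bcHom sT (Spec.map ρ) P2 (hsec P2 hP2) ≫ (G₁ * G₂) =
          bcHom sT (Spec.map ρ) P2 (hsec P2 hP2) ≫ (G₂ * G₁) := by
        change b2 ≫ (G₁ * G₂) = b2 ≫ (G₂ * G₁)
        rw [MonObj.comp_mul, MonObj.comp_mul, e12, e22, _root_.mul_one, _root_.one_mul]
      rw [h1]
      exact Rep.bc hU hν' P2 (hsec P2 hP2)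
    have q3 : ν ≫ P3 = ν' ≫ P3 := by
      refine Rep.unique hU (Rep.bc hU hν P3 (hsec P3 hP3)) ?_
      have h1 : bcHom sT (Spec.map ρ) P3 (hsec P3 hP3) ≫ (G₁ * G₂) =
          bcHom sT (Spec.map ρ) P3 (hsec P3 hP3) ≫ (G₂ * G₁) := by
        change b3 ≫ (G₁ * G₂) = b3 ≫ (G₂ * G₁)
        rw [MonObj.comp_mul, MonObj.comp_mul, e13, e23]
      rw [h1]
      exact Rep.bc hU hν' P3 (hsec P3 hP3)
    apply T3_ext
    · exact congrArg (fun φ => φ.hom a) q1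
    · exact congrArg (fun φ => φ.hom a) q2
    · exact congrArg (fun φ => φ.hom a) q3
  have hcomm : G₁ * G₂ = G₂ * G₁ := by
    rw [hνν'] at hν
    exact Rep.ext hU hν hν'
  calc g * g' = (bs ≫ G₁) * (bs ≫ G₂) := by rw [es1, es2]
    _ = bs ≫ (G₁ * G₂) := (MonObj.comp_mul _ _ _).symm
    _ = bs ≫ (G₂ * G₁) := by rw [hcomm]
    _ = (bs ≫ G₂) * (bs ≫ G₁) := MonObj.comp_mul _ _ _
    _ = g' * g := by rw [es1, es2]

/-- two points of a group scheme over `Spec R` which are trivial modulo a square-zero ideal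
commute. -/
theorem comm_of_killsMod (J : Ideal R) (hJ : J * J = ⊥) {Y : Over (Spec (CommRingCat.of R))}
    (g g' : Y ⟶ X) (hg : KillsMod J g) (hg' : KillsMod J g') : g * g' = g' * g := by
  apply Over.OverMorphism.ext
  apply Scheme.hom_ext_of_forall
  intro y
  obtain ⟨_, ⟨U, hU, rfl⟩, hxU, -⟩ := X.left.isBasis_affineOpens.exists_subset_of_mem_open
    (Set.mem_univ ((1 : Y ⟶ X).left y)) isOpen_univ
  obtain ⟨_, ⟨V, hV, rfl⟩, hyV, hVsub⟩ := Y.left.isBasis_affineOpens.exists_subset_of_mem_open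
    (a := y) hxU ((1 : Y ⟶ X).left ⁻¹ᵁ U).isOpen
  refine ⟨V, hyV, ?_⟩
  let s : Spec Γ(Y.left, V) ⟶ Spec (CommRingCat.of R) := hV.fromSpec ≫ Y.hom
  let jY : Over.mk s ⟶ Y := Over.homMk hV.fromSpec rfl
  obtain ⟨ε, hε⟩ : ∃ ε, Rep hU (1 : Over.mk s ⟶ X) ε := by
    refine exists_rep_of_range hU _ (fun c => ?_)
    have h1 : (1 : Over.mk s ⟶ X) = jY ≫ 1 := (MonObj.comp_one jY).symm
    rw [h1]
    have hc : hV.fromSpec c ∈ V := by
      have : hV.fromSpec c ∈ Set.range hV.fromSpec := ⟨_, rfl⟩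
      rwa [hV.range_fromSpec] at this
    exact hVsub hc
  have key := core hU J hJ (Spec.preimage s) s (Spec.map_preimage s) (jY ≫ g) (jY ≫ g')
    (hg.precomp jY) (hg'.precomp jY) hε
  rw [← MonObj.comp_mul, ← MonObj.comp_mul] at key
  have key2 : hV.fromSpec ≫ (g * g').left = hV.fromSpec ≫ (g' * g).left :=
    congrArg (fun ψ => ψ.left) key
  rw [← hV.isoSpec_hom_fromSpec, Category.assoc, Category.assoc, key2]

/-- `S8363`. -/
theorem main (J : Ideal R) (hJ : J * J = ⊥) (Y : Over (Spec (CommRingCat.of R))) (g g' : Y ⟶ X)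
    (hg : (Over.pullback (Spec.map (CommRingCat.ofHom (Ideal.Quotient.mk J)))).map g = 1)
    (hg' : (Over.pullback (Spec.map (CommRingCat.ofHom (Ideal.Quotient.mk J)))).map g' = 1) :
    g * g' = g' * g :=
  comm_of_killsMod J hJ g g' (killsMod_of_pullback J g hg) (killsMod_of_pullback J g' hg')

end Geom

end Groth.Agent.H3.SqZeroComm
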