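import Mathlib
import Groth.Prelude.Def_Smoothing
import Groth.Agent.Lib.Helper3.JacMinor

set_option autoImplicit false
universe u

namespace Groth.Agent.H3.StrictStd

open MvPolynomial KaehlerDifferential

theorem main {R A : Type u} [CommRing R] [CommRing A] [Algebra R A] (a : A)
    (ha : Smoothing.IsStrictlyStandard R A a) :
    Algebra.Smooth R (Localization.Away a) ∧
      ∃ p q : ℕ, Nonempty ((Ω[Localization.Away a⁄R] × (Fin p → Localization.Away a))
        ≃ₗ[Localization.Away a] (Fin q → Localization.Away a)) := by
  classical
  obtain ⟨Pm, hmem, hkill⟩ := ha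
  obtain ⟨x', hx'⟩ := Pm.surj a
  -- the ring map `S[1/x'] → A[1/a]`
  have hgx : IsUnit (((algebraMap A (Localization.Away a)).comp Pm.hom.toRingHom) x') := by
    show IsUnit (algebraMap A (Localization.Away a) (Pm.hom x'))
    rw [hx']
    exact IsLocalization.Away.algebraMap_isUnit a
  let φ : Localization.Away x' →+* Localization.Away a := IsLocalization.Away.lift x' hgx
  have hφ : ∀ s : MvPolynomial (Fin Pm.n) R, φ (algebraMap _ (Localization.Away x') s) =
      algebraMap A (Localization.Away a) (Pm.hom s) := fun s => IsLocalization.Away.lift_eq x' hgx s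
  let _ : Algebra (Localization.Away x') (Localization.Away a) := φ.toAlgebra
  have halg : ∀ p, algebraMap (Localization.Away x') (Localization.Away a) p = φ p := fun p => rfl
  have : IsScalarTower R (Localization.Away x') (Localization.Away a) := by
    refine IsScalarTower.of_algebraMap_eq fun r => ?_
    rw [halg, IsScalarTower.algebraMap_apply R (MvPolynomial (Fin Pm.n) R) (Localization.Away x'),
      hφ, MvPolynomial.algebraMap_eq, ← MvPolynomial.algebraMap_eq, Pm.hom.commutes,
      ← IsScalarTower.algebraMap_apply]
  -- surjectivity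
  have hsurj : Function.Surjective (algebraMap (Localization.Away x') (Localization.Away a)) := by
    intro β
    obtain ⟨n, y, hy⟩ := IsLocalization.Away.surj a β
    obtain ⟨s, rfl⟩ := Pm.surj y
    have hu : IsUnit (algebraMap (MvPolynomial (Fin Pm.n) R) (Localization.Away x') (x' ^ n)) := by
      rw [map_pow]
      exact (IsLocalization.Away.algebraMap_isUnit x').pow n
    obtain ⟨u, hu'⟩ := hu
    refine ⟨algebraMap _ (Localization.Away x') s * ↑u⁻¹, ?_⟩
    have h1 : φ (algebraMap _ (Localization.Away x') s * ↑u⁻¹) *
        algebraMap A (Localization.Away a) a ^ n = β * algebraMap A (Localization.Away a) a ^ n := by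
      rw [hy, ← hφ s]
      have h2 : algebraMap A (Localization.Away a) a ^ n = φ ↑u := by
        rw [hu', hφ, map_pow, hx', map_pow]
      rw [h2, ← map_mul, mul_assoc, Units.inv_mul, mul_one]
    have h3 : IsUnit (algebraMap A (Localization.Away a) a ^ n) :=
      (IsLocalization.Away.algebraMap_isUnit a).pow n
    exact h3.mul_left_injective h1
  have : Algebra.FormallySmooth (MvPolynomial (Fin Pm.n) R) (Localization.Away x') :=
    Algebra.FormallySmooth.of_isLocalization (Submonoid.powers x')
  have : Algebra.FormallySmooth R (Localization.Away x') :=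
    Algebra.FormallySmooth.comp R (MvPolynomial (Fin Pm.n) R) _
  -- the basis of differentials
  let b : Module.Basis (Fin Pm.n) (Localization.Away x') Ω[Localization.Away x'⁄R] :=
    (KaehlerDifferential.mvPolynomialBasis R (Fin Pm.n)).ofIsLocalizedModule (Localization.Away x')
      (Submonoid.powers x')
      (KaehlerDifferential.map R R (MvPolynomial (Fin Pm.n) R) (Localization.Away x'))
  have hb : ∀ (s : MvPolynomial (Fin Pm.n) R) i,
      b.repr (D R (Localization.Away x') (algebraMap _ (Localization.Away x') s)) i =
        algebraMap _ (Localization.Away x') (pderiv i s) := by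
    intro s i
    have h1 : D R (Localization.Away x') (algebraMap _ (Localization.Away x') s) =
        KaehlerDifferential.map R R (MvPolynomial (Fin Pm.n) R) (Localization.Away x')
          (D R _ s) := (KaehlerDifferential.map_D R R _ _ s).symm
    rw [h1]
    simp only [b]
    rw [Module.Basis.ofIsLocalizedModule_repr_apply, KaehlerDifferential.mvPolynomialBasis_repr_apply]
  -- the leading relations
  let v : Fin Pm.c → MvPolynomial (Fin Pm.n) R := fun j => Pm.rel (Fin.castLE Pm.hcm j)
  let t : Fin Pm.c → Localization.Away x' := fun j => algebraMap _ (Localization.Away x') (v j)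
  have hker : ∀ s : MvPolynomial (Fin Pm.n) R, Pm.hom s = 0 ↔ s ∈ Ideal.span (Set.range Pm.rel) :=
    fun s => by rw [← Pm.ker_eq]; rfl
  have hmapI : ∀ s ∈ Ideal.span (Set.range Pm.rel), algebraMap _ (Localization.Away x') s ∈
      RingHom.ker (algebraMap (Localization.Away x') (Localization.Away a)) := by
    intro s hs
    rw [RingHom.mem_ker, halg, hφ, (hker s).mpr hs, map_zero]
  have ht : ∀ j, t j ∈ RingHom.ker (algebraMap (Localization.Away x') (Localization.Away a)) :=
    fun j => hmapI _ (Ideal.subset_span ⟨_, rfl⟩)
  have hxu : IsUnit (algebraMap (MvPolynomial (Fin Pm.n) R) (Localization.Away x') x') :=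
    IsLocalization.Away.algebraMap_isUnit x'
  have hgen : RingHom.ker (algebraMap (Localization.Away x') (Localization.Away a)) ≤
      Ideal.span (Set.range t) ⊔
        (RingHom.ker (algebraMap (Localization.Away x') (Localization.Away a))) ^ 2 := by
    obtain ⟨K, hK⟩ : ∃ K : Ideal (Localization.Away x'),
      K = RingHom.ker (algebraMap (Localization.Away x') (Localization.Away a)) := ⟨_, rfl⟩
    rw [← hK]
    have hmapI' : ∀ s ∈ Ideal.span (Set.range Pm.rel),
        algebraMap _ (Localization.Away x') s ∈ K := by rw [hK]; exact hmapI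
    -- step 1: images of elements of `I` lie in `T`
    have h1 : ∀ s ∈ Ideal.span (Set.range Pm.rel), algebraMap _ (Localization.Away x') s ∈
        Ideal.span (Set.range t) ⊔ K ^ 2 := by
      intro s hs
      refine Submodule.span_induction ?_ ?_ ?_ ?_ hs
      · rintro _ ⟨j, rfl⟩
        by_cases hj : (j : ℕ) < Pm.c
        · refine Ideal.mem_sup_left (Ideal.subset_span ⟨⟨j, hj⟩, ?_⟩)
          show algebraMap _ _ (Pm.rel (Fin.castLE Pm.hcm ⟨j, hj⟩)) = _
          congr 2
        · push Not at hj
          have h2 := hkill x' hx' j hj
          have h3 : algebraMap _ (Localization.Away x') (x' * Pm.rel j) ∈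
              Ideal.span (Set.range t) ⊔ K ^ 2 := by
            obtain ⟨y₁, hy₁, y₂, hy₂, hsum⟩ := Submodule.mem_sup.mp h2
            rw [← hsum, map_add]
            refine Ideal.add_mem _ (Ideal.mem_sup_left ?_) (Ideal.mem_sup_right ?_)
            · have : Ideal.span (Pm.rel '' {j' : Fin Pm.m | (j' : ℕ) < Pm.c}) ≤
                  (Ideal.span (Set.range t)).comap (algebraMap _ (Localization.Away x')) := by
                rw [Ideal.span_le]
                rintro _ ⟨j', hj', rfl⟩
                refine Ideal.subset_span ⟨⟨j', hj'⟩, ?_⟩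
                show algebraMap _ _ (Pm.rel (Fin.castLE Pm.hcm ⟨j', hj'⟩)) = _
                congr 2
              exact this hy₁
            · have : (Ideal.span (Set.range Pm.rel)) ^ 2 ≤
                  (K ^ 2).comap (algebraMap _ (Localization.Away x')) := by
                refine (Ideal.pow_right_mono ?_ 2).trans (Ideal.le_comap_pow _ 2)
                exact fun s hs => hmapI' s hs
              exact this hy₂
          obtain ⟨u, hu'⟩ := hxu
          have : algebraMap _ (Localization.Away x') (Pm.rel j) =
              ↑u⁻¹ * algebraMap _ (Localization.Away x') (x' * Pm.rel j) := by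
            rw [map_mul, ← hu', ← mul_assoc, Units.inv_mul, one_mul]
          rw [this]
          exact Ideal.mul_mem_left _ _ h3
      · simp
      · intro y z _ _ hy hz
        rw [map_add]
        exact Ideal.add_mem _ hy hz
      · intro r y _ hy
        rw [smul_eq_mul, map_mul]
        exact Ideal.mul_mem_left _ _ hy
    -- step 2
    intro y hy
    obtain ⟨n, s, hs⟩ := IsLocalization.Away.surj x' y
    have h2 : algebraMap A (Localization.Away a) (Pm.hom s) = 0 := by
      rw [← hφ, ← hs, map_mul]
      rw [hK, RingHom.mem_ker, halg] at hy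
      rw [hy, zero_mul]
    obtain ⟨⟨_, m, rfl⟩, hm⟩ := (IsLocalization.map_eq_zero_iff (Submonoid.powers a) _ _).mp h2
    have h3 : x' ^ m * s ∈ Ideal.span (Set.range Pm.rel) := by
      rw [← hker, map_mul, map_pow, hx']
      exact hm
    have h4 := h1 _ h3
    have hu : IsUnit (algebraMap (MvPolynomial (Fin Pm.n) R) (Localization.Away x') (x' ^ (m + n))) := by
      rw [map_pow]
      exact hxu.pow _
    obtain ⟨u, hu'⟩ := hu
    have h5 : y = ↑u⁻¹ * algebraMap _ (Localization.Away x') (x' ^ m * s) := by
      rw [map_mul, ← hs, Units.eq_inv_mul_iff_mul_eq, hu', pow_add, map_mul, map_pow, map_pow]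
      ring
    rw [h5]
    exact Ideal.mul_mem_left _ _ h4
  -- the coefficients
  obtain ⟨β, hβ⟩ := Ideal.mem_span_range_iff_exists_fun.mp hmem
  have hainv : algebraMap A (Localization.Away a) a * IsLocalization.Away.invSelf a = 1 :=
    IsLocalization.Away.mul_invSelf a
  let α : (Fin Pm.c → Fin Pm.n) → Localization.Away a := fun cols =>
    IsLocalization.Away.invSelf a * algebraMap A _ (β cols)
  have hdet : ∀ cols : Fin Pm.c → Fin Pm.n, Matrix.det (Matrix.of fun j k =>
      algebraMap (Localization.Away x') (Localization.Away a)
        (b.repr (D R (Localization.Away x') (t j)) (cols k))) =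
      algebraMap A (Localization.Away a)
        (Pm.hom (Smoothing.jacobianMinor Pm.rel (Fin.castLE Pm.hcm) cols)) := by
    intro cols
    simp only [t, hb, halg, hφ]
    unfold Smoothing.jacobianMinor
    have h1 : ∀ M : Matrix (Fin Pm.c) (Fin Pm.c) (MvPolynomial (Fin Pm.n) R),
        algebraMap A (Localization.Away a) (Pm.hom M.det) =
        (M.map ((algebraMap A (Localization.Away a)).comp Pm.hom.toRingHom)).det := by
      intro M
      have := RingHom.map_det ((algebraMap A (Localization.Away a)).comp Pm.hom.toRingHom) M
      exact this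
    rw [h1]
    rfl
  have hα : ∑ cols : Fin Pm.c → Fin Pm.n, α cols * Matrix.det (Matrix.of fun j k =>
      algebraMap (Localization.Away x') (Localization.Away a)
        (b.repr (D R (Localization.Away x') (t j)) (cols k))) = 1 := by
    simp only [hdet, α]
    have h1 : ∀ cols : Fin Pm.c → Fin Pm.n,
        IsLocalization.Away.invSelf a * algebraMap A (Localization.Away a) (β cols) *
          algebraMap A (Localization.Away a)
            (Pm.hom (Smoothing.jacobianMinor Pm.rel (Fin.castLE Pm.hcm) cols)) =
        IsLocalization.Away.invSelf a * algebraMap A (Localization.Away a)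
          (β cols * Pm.hom (Smoothing.jacobianMinor Pm.rel (Fin.castLE Pm.hcm) cols)) := by
      intro cols
      rw [map_mul, mul_assoc]
    simp only [h1]
    rw [← Finset.mul_sum, ← map_sum, hβ, mul_comm, hainv]
  obtain ⟨hfs, ⟨e⟩⟩ := JacMinor.main hsurj b t ht hgen α hα
  refine ⟨⟨hfs, ?_⟩, Pm.c, Pm.n, ⟨e⟩⟩
  have hfpA : Algebra.FinitePresentation R A := by
    refine Algebra.FinitePresentation.of_surjective (f := Pm.hom) Pm.surj ?_
    rw [Pm.ker_eq]
    exact Submodule.fg_span (Set.finite_range _)
  have : Algebra.FinitePresentation A (Localization.Away a) :=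
    IsLocalization.Away.finitePresentation a
  exact Algebra.FinitePresentation.trans R A _

end Groth.Agent.H3.StrictStd
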