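import Mathlib
import Groth.Prelude.Def_FibCat2
import Groth.Agent.Lib.Helper3.FibCatAux
import Groth.Agent.Lib.Helper3.FpCalc

set_option autoImplicit false

universe v₂ u₂ v u

open CategoryTheory CategoryTheory.Functor Opposite

namespace Groth.Agent.H3.Strictify

variable {C : Type u} [Category.{v} C] (𝒳 : BasedCategory.{v₂, u₂} C) [𝒳.p.IsFibered]

/-- formal pullbacks: an object of `𝒳` and a morphism of `C` into its base -/
@[ext]
structure Obj (U : C) where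
  x : 𝒳.obj
  f : U ⟶ 𝒳.p.obj x

variable {𝒳}
variable {U V W : C}

/-- chosen pullback -/
noncomputable def pb (o : Obj 𝒳 U) : 𝒳.obj := IsPreFibered.pullbackObj (p := 𝒳.p) rfl o.f

/-- chosen cartesian arrow -/
noncomputable def κ (o : Obj 𝒳 U) : pb o ⟶ o.x := IsPreFibered.pullbackMap (p := 𝒳.p) rfl o.f

instance κ_cart (o : Obj 𝒳 U) : 𝒳.p.IsStronglyCartesian o.f (κ o) := by
  have : 𝒳.p.IsCartesian o.f (κ o) := IsPreFibered.pullbackMap.IsCartesian (p := 𝒳.p) rfl o.f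
  infer_instance

lemma pb_proj (o : Obj 𝒳 U) : 𝒳.p.obj (pb o) = U := IsPreFibered.pullbackObj_proj (p := 𝒳.p) rfl o.f

/-- morphisms of the fibre category -/
@[ext]
structure Hom (o o' : Obj 𝒳 U) where
  val : pb o ⟶ pb o'
  lift : 𝒳.p.IsHomLift (𝟙 U) val

attribute [instance] Hom.lift

lemma isHomLift_id_comp {a b c : 𝒳.obj} (φ : a ⟶ b) (ψ : b ⟶ c) [𝒳.p.IsHomLift (𝟙 U) φ]
    [𝒳.p.IsHomLift (𝟙 U) ψ] : 𝒳.p.IsHomLift (𝟙 U) (φ ≫ ψ) := by
  have : 𝒳.p.IsHomLift (𝟙 U ≫ 𝟙 U) (φ ≫ ψ) := inferInstance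
  rwa [Category.comp_id] at this

noncomputable instance (U : C) : Category (Obj 𝒳 U) where
  Hom o o' := Hom o o'
  id o := ⟨𝟙 (pb o), IsHomLift.id (pb_proj o)⟩
  comp φ ψ := ⟨φ.val ≫ ψ.val, isHomLift_id_comp φ.val ψ.val⟩
  id_comp φ := Hom.ext (Category.id_comp _)
  comp_id φ := Hom.ext (Category.comp_id _)
  assoc φ ψ χ := Hom.ext (Category.assoc _ _ _)

@[simp] lemma id_val (o : Obj 𝒳 U) : (𝟙 o : o ⟶ o).val = 𝟙 (pb o) := rfl
@[simp] lemma comp_val {o o' o'' : Obj 𝒳 U} (φ : o ⟶ o') (ψ : o' ⟶ o'') :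
    (φ ≫ ψ).val = φ.val ≫ ψ.val := rfl

lemma hom_ext' {o o' : Obj 𝒳 U} (φ ψ : o ⟶ o') (h : φ.val = ψ.val) : φ = ψ := Hom.ext h

lemma eqToHom_val {o o' : Obj 𝒳 U} (h : o = o') :
    (eqToHom h : o ⟶ o').val = eqToHom (congrArg pb h) := by
  subst h; rfl

/-- restriction on objects -/
abbrev res (g : V ⟶ U) (o : Obj 𝒳 U) : Obj 𝒳 V := ⟨o.x, g ≫ o.f⟩

instance κ_res_lift (g : V ⟶ U) (o : Obj 𝒳 U) : 𝒳.p.IsHomLift (g ≫ o.f) (κ (res g o)) :=
  (κ_cart (res g o)).toIsHomLift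

/-- comparison of chosen pullbacks -/
noncomputable def cmp (g : V ⟶ U) (o : Obj 𝒳 U) : pb (res g o) ⟶ pb o :=
  IsStronglyCartesian.map 𝒳.p o.f (κ o) (f' := g ≫ o.f) rfl (κ (res g o))

instance cmp_lift (g : V ⟶ U) (o : Obj 𝒳 U) : 𝒳.p.IsHomLift g (cmp g o) :=
  IsStronglyCartesian.map_isHomLift 𝒳.p o.f (κ o) rfl (κ (res g o))

@[reassoc (attr := simp)]
lemma cmp_fac (g : V ⟶ U) (o : Obj 𝒳 U) : cmp g o ≫ κ o = κ (res g o) :=
  IsStronglyCartesian.fac 𝒳.p o.f (κ o) rfl (κ (res g o))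

instance cmp_cart (g : V ⟶ U) (o : Obj 𝒳 U) : 𝒳.p.IsStronglyCartesian g (cmp g o) := by
  haveI : 𝒳.p.IsStronglyCartesian (g ≫ o.f) (cmp g o ≫ κ o) := by
    rw [cmp_fac]; exact κ_cart (res g o)
  exact IsStronglyCartesian.of_comp 𝒳.p (f := g) (g := o.f) (φ := cmp g o) (ψ := κ o)

lemma cmp_comp_lift (g : V ⟶ U) {o o' : Obj 𝒳 U} (φ : o ⟶ o') :
    𝒳.p.IsHomLift (𝟙 V ≫ g) (cmp g o ≫ φ.val) := by
  have e : g ≫ 𝟙 U = 𝟙 V ≫ g := by simp
  rw [← e]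
  infer_instance

/-- restriction on morphisms -/
noncomputable def resMap (g : V ⟶ U) {o o' : Obj 𝒳 U} (φ : o ⟶ o') : res g o ⟶ res g o' :=
  haveI := cmp_comp_lift g φ
  ⟨IsStronglyCartesian.map 𝒳.p g (cmp g o') (f' := 𝟙 V ≫ g) rfl (cmp g o ≫ φ.val),
    IsStronglyCartesian.map_isHomLift 𝒳.p g (cmp g o') rfl (cmp g o ≫ φ.val)⟩

@[reassoc]
lemma resMap_fac (g : V ⟶ U) {o o' : Obj 𝒳 U} (φ : o ⟶ o') :
    (resMap g φ).val ≫ cmp g o' = cmp g o ≫ φ.val := by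
  haveI := cmp_comp_lift g φ
  exact IsStronglyCartesian.fac 𝒳.p g (cmp g o') rfl (cmp g o ≫ φ.val)

lemma resMap_uniq (g : V ⟶ U) {o o' : Obj 𝒳 U} (φ : o ⟶ o') (ψ : res g o ⟶ res g o')
    (h : ψ.val ≫ cmp g o' = cmp g o ≫ φ.val) : ψ = resMap g φ := by
  apply hom_ext'
  apply IsStronglyCartesian.ext 𝒳.p g (cmp g o') (𝟙 V)
  rw [h, resMap_fac]

/-- the restriction functor -/
noncomputable def resFunctor (g : V ⟶ U) : Obj 𝒳 U ⥤ Obj 𝒳 V where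
  obj := res g
  map φ := resMap g φ
  map_id o := by
    symm; apply resMap_uniq
    simp
  map_comp φ ψ := by
    symm; apply resMap_uniq
    simp only [comp_val, Category.assoc, resMap_fac, resMap_fac_assoc]


section Strict

lemma eqToHom_pb_lift {o o' : Obj 𝒳 U} (h : o = o') :
    𝒳.p.IsHomLift (𝟙 U) (eqToHom (congrArg pb h)) := by
  rw [← eqToHom_val h]; exact (eqToHom h : o ⟶ o').lift

lemma eqToHom_pb_κ {o o' : Obj 𝒳 U} (h : o = o') :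
    eqToHom (congrArg pb h) ≫ κ o' = κ o ≫ eqToHom (congrArg Obj.x h) := by
  subst h; simp

lemma res_id (o : Obj 𝒳 U) : res (𝟙 U) o = o := Obj.ext rfl (heq_of_eq (Category.id_comp o.f))

lemma res_comp (h : W ⟶ V) (g : V ⟶ U) (o : Obj 𝒳 U) : res (h ≫ g) o = res h (res g o) :=
  Obj.ext rfl (heq_of_eq (Category.assoc h g o.f))

lemma cmp_id (o : Obj 𝒳 U) : cmp (𝟙 U) o = eqToHom (congrArg pb (res_id o)) := by
  haveI := eqToHom_pb_lift (res_id o)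
  apply IsStronglyCartesian.ext 𝒳.p o.f (κ o) (𝟙 U)
  rw [cmp_fac, eqToHom_pb_κ (res_id o)]
  simp

lemma cmp_comp (h : W ⟶ V) (g : V ⟶ U) (o : Obj 𝒳 U) :
    cmp (h ≫ g) o = eqToHom (congrArg pb (res_comp h g o)) ≫ cmp h (res g o) ≫ cmp g o := by
  haveI := eqToHom_pb_lift (res_comp h g o)
  haveI : 𝒳.p.IsHomLift (h ≫ g)
      (eqToHom (congrArg pb (res_comp h g o)) ≫ cmp h (res g o) ≫ cmp g o) := by
    have : 𝒳.p.IsHomLift (𝟙 W ≫ h ≫ g)
      (eqToHom (congrArg pb (res_comp h g o)) ≫ cmp h (res g o) ≫ cmp g o) := inferInstance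
    rwa [Category.id_comp] at this
  apply IsStronglyCartesian.ext 𝒳.p o.f (κ o) (h ≫ g)
  rw [cmp_fac, Category.assoc, Category.assoc, cmp_fac, cmp_fac, eqToHom_pb_κ (res_comp h g o)]
  simp

lemma resMap_id {o o' : Obj 𝒳 U} (φ : o ⟶ o') :
    resMap (𝟙 U) φ = eqToHom (res_id o) ≫ φ ≫ eqToHom (res_id o').symm := by
  symm
  apply resMap_uniq
  simp only [comp_val, eqToHom_val, cmp_id, Category.assoc, eqToHom_trans, eqToHom_refl,
    Category.comp_id]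

lemma resMap_comp (h : W ⟶ V) (g : V ⟶ U) {o o' : Obj 𝒳 U} (φ : o ⟶ o') :
    resMap (h ≫ g) φ =
      eqToHom (res_comp h g o) ≫ resMap h (resMap g φ) ≫ eqToHom (res_comp h g o').symm := by
  symm
  apply resMap_uniq
  simp only [comp_val, eqToHom_val, cmp_comp, Category.assoc, eqToHom_trans_assoc, eqToHom_refl,
    Category.id_comp]
  rw [resMap_fac_assoc, resMap_fac]

lemma resFunctor_id (U : C) : resFunctor (𝒳 := 𝒳) (𝟙 U) = 𝟭 (Obj 𝒳 U) :=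
  CategoryTheory.Functor.ext (fun o => res_id o) (fun _ _ φ => resMap_id φ)

lemma resFunctor_comp (h : W ⟶ V) (g : V ⟶ U) :
    resFunctor (𝒳 := 𝒳) (h ≫ g) = resFunctor g ⋙ resFunctor h :=
  CategoryTheory.Functor.ext (fun o => res_comp h g o) (fun _ _ φ => resMap_comp h g φ)

end Strict

variable (𝒳)

/-- the strict functor -/
noncomputable def strictF : Cᵒᵖ ⥤ Cat.{v₂, max u₂ v} where
  obj U := Cat.of (Obj 𝒳 U.unop)
  map g := (resFunctor g.unop).toCatHom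
  map_id U := congrArg Functor.toCatHom (resFunctor_id U.unop)
  map_comp f g := congrArg Functor.toCatHom (resFunctor_comp g.unop f.unop)

end Groth.Agent.H3.Strictify
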