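import Groth.Agent.Lib.Helper3.Strictify

set_option autoImplicit false

universe v₂ u₂ v u

open CategoryTheory CategoryTheory.Functor Opposite

namespace Groth.Agent.H3.Strictify

variable {C : Type u} [Category.{v} C] (𝒳 : BasedCategory.{v₂, u₂} C) [𝒳.p.IsFibered]

open Pseudofunctor.CoGrothendieck in
/-- the total category of the strictification -/
abbrev Tot : Type _ := Pseudofunctor.CoGrothendieck (strictF 𝒳).toPseudofunctor'

/-- the split fibred category -/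
noncomputable abbrev split : BasedCategory.{max v v₂, max u (max u₂ v)} C :=
  BasedCategory.ofFunctor (Pseudofunctor.CoGrothendieck.forget (strictF 𝒳).toPseudofunctor')

variable {𝒳} {U V : C}

/-- fibre object as an `Obj` -/
abbrev fib (a : Tot 𝒳) : Obj 𝒳 a.base := a.fiber

/-- fibre component of a morphism -/
abbrev fibHom {a b : Tot 𝒳} (f : a ⟶ b) : fib a ⟶ res f.base (fib b) := f.fiber

lemma id_fibHom (a : Tot 𝒳) :
    (fibHom (𝟙 a)).val = eqToHom (congrArg pb (res_id (fib a)).symm) := by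
  have : fibHom (𝟙 a) = eqToHom (res_id (fib a)).symm := by
    dsimp [fibHom]
    simp [Cat.Hom₂.eqToHom_toNatTrans]
    rfl
  rw [this, eqToHom_val]

lemma comp_fibHom {a b c : Tot 𝒳} (f : a ⟶ b) (g : b ⟶ c) :
    (fibHom (f ≫ g)).val = (fibHom f).val ≫ (resMap f.base (fibHom g)).val ≫
      eqToHom (congrArg pb (res_comp f.base g.base (fib c)).symm) := by
  have : fibHom (f ≫ g) = fibHom f ≫ resMap f.base (fibHom g) ≫
      eqToHom (res_comp f.base g.base (fib c)).symm := by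
    dsimp [fibHom]
    simp [Cat.Hom₂.eqToHom_toNatTrans]
    rfl
  rw [this, comp_val, comp_val, eqToHom_val]

/-- the comparison functor on morphisms -/
noncomputable def Gmap {a b : Tot 𝒳} (f : a ⟶ b) : pb (fib a) ⟶ pb (fib b) :=
  (fibHom f).val ≫ cmp f.base (fib b)

instance Gmap_lift {a b : Tot 𝒳} (f : a ⟶ b) : 𝒳.p.IsHomLift f.base (Gmap f) := by
  have : 𝒳.p.IsHomLift (𝟙 a.base ≫ f.base) (Gmap f) := by
    unfold Gmap; infer_instance
  rwa [Category.id_comp] at this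

lemma Gmap_id (a : Tot 𝒳) : Gmap (𝟙 a) = 𝟙 (pb (fib a)) := by
  unfold Gmap
  rw [id_fibHom]
  have : cmp (Pseudofunctor.CoGrothendieck.Hom.base (𝟙 a)) (fib a) = cmp (𝟙 a.base) (fib a) := rfl
  rw [this, cmp_id]
  simp

lemma Gmap_comp {a b c : Tot 𝒳} (f : a ⟶ b) (g : b ⟶ c) : Gmap (f ≫ g) = Gmap f ≫ Gmap g := by
  unfold Gmap
  rw [comp_fibHom]
  have : cmp (Pseudofunctor.CoGrothendieck.Hom.base (f ≫ g)) (fib c) =
    cmp (f.base ≫ g.base) (fib c) := rfl
  rw [this, cmp_comp]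
  simp only [Category.assoc, eqToHom_trans_assoc, eqToHom_refl, Category.id_comp]
  rw [resMap_fac_assoc]

variable (𝒳) in
/-- the comparison functor -/
noncomputable def Gfun : Tot 𝒳 ⥤ 𝒳.obj where
  obj a := pb (fib a)
  map f := Gmap f
  map_id a := Gmap_id a
  map_comp f g := Gmap_comp f g

variable (𝒳) in
/-- the comparison functor over `C` -/
noncomputable def G : split 𝒳 ⥤ᵇ 𝒳 where
  toFunctor := Gfun 𝒳
  w := CategoryTheory.Functor.ext (fun a => pb_proj (fib a)) (fun _ _ f =>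
    IsHomLift.fac' 𝒳.p f.base (Gmap f))

lemma base_eq_of_lift {a b : 𝒳.obj} (φ : a ⟶ b) (f g : U ⟶ V) [𝒳.p.IsHomLift f φ]
    [𝒳.p.IsHomLift g φ] : f = g := by
  rw [IsHomLift.fac 𝒳.p f φ, IsHomLift.fac 𝒳.p g φ]

instance : (G 𝒳).toFunctor.Faithful where
  map_injective {a b} f g h := by
    change Gmap f = Gmap g at h
    have hb : f.base = g.base := by
      haveI : 𝒳.p.IsHomLift g.base (Gmap f) := by rw [h]; infer_instance
      exact base_eq_of_lift (Gmap f) f.base g.base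
    obtain ⟨fb, ff⟩ := f
    obtain ⟨gb, gf⟩ := g
    dsimp at hb
    subst hb
    have : ff = gf := by
      apply hom_ext' (o := fib a) (o' := res fb (fib b))
      apply IsStronglyCartesian.ext 𝒳.p fb (cmp fb (fib b)) (𝟙 _)
      exact h
    subst this
    rfl

/-- the base of a morphism between chosen pullbacks -/
noncomputable def baseOf {a b : Tot 𝒳} (ψ : pb (fib a) ⟶ pb (fib b)) : a.base ⟶ b.base :=
  eqToHom (pb_proj (fib a)).symm ≫ 𝒳.p.map ψ ≫ eqToHom (pb_proj (fib b))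

instance baseOf_lift {a b : Tot 𝒳} (ψ : pb (fib a) ⟶ pb (fib b)) :
    𝒳.p.IsHomLift (baseOf ψ) ψ := by
  unfold baseOf; infer_instance

instance baseOf_lift' {a b : Tot 𝒳} (ψ : pb (fib a) ⟶ pb (fib b)) :
    𝒳.p.IsHomLift (𝟙 a.base ≫ baseOf ψ) ψ := inferInstance

/-- the preimage of a morphism between chosen pullbacks -/
noncomputable def preim {a b : Tot 𝒳} (ψ : pb (fib a) ⟶ pb (fib b)) : a ⟶ b where
  base := baseOf ψ
  fiber := (⟨IsStronglyCartesian.map 𝒳.p (baseOf ψ) (cmp (baseOf ψ) (fib b))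
      (f' := 𝟙 a.base ≫ baseOf ψ) rfl ψ,
    IsStronglyCartesian.map_isHomLift 𝒳.p (baseOf ψ) (cmp (baseOf ψ) (fib b)) rfl ψ⟩ :
      Hom (fib a) (res (baseOf ψ) (fib b)))

lemma Gmap_preim {a b : Tot 𝒳} (ψ : pb (fib a) ⟶ pb (fib b)) : Gmap (preim ψ) = ψ :=
  IsStronglyCartesian.fac 𝒳.p (baseOf ψ) (cmp (baseOf ψ) (fib b)) rfl ψ

instance : (G 𝒳).toFunctor.Full where
  map_surjective {a b} ψ := ⟨preim ψ, Gmap_preim ψ⟩

/-- the tautological formal pullback -/
abbrev taut (x : 𝒳.obj) : Tot 𝒳 := ⟨𝒳.p.obj x, (⟨x, 𝟙 _⟩ : Obj 𝒳 (𝒳.p.obj x))⟩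

instance isIso_κ_taut (x : 𝒳.obj) : IsIso (κ (fib (taut x))) := by
  haveI : 𝒳.p.IsStronglyCartesian (𝟙 (𝒳.p.obj x)) (κ (fib (taut x))) := κ_cart (fib (taut x))
  exact IsStronglyCartesian.isIso_of_base_isIso 𝒳.p (𝟙 (𝒳.p.obj x)) (κ (fib (taut x)))

variable (𝒳) in
theorem isEquivOver_G : FibCat.IsEquivOver (G 𝒳) := by
  rw [FibCatAux.X5139]
  refine ⟨⟨inferInstance, inferInstance⟩, fun x =>
    ⟨taut x, @asIso _ _ _ _ (κ (fib (taut x))) (isIso_κ_taut x), ?_⟩⟩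
  exact (κ_cart (fib (taut x))).toIsHomLift

variable (𝒳) in
theorem exists_equiv : ∃ E : 𝒳 ⥤ᵇ split 𝒳, FibCat.IsEquivOver E := by
  obtain ⟨E, hE, -⟩ := FpCalc.isEquivOver_symm (isEquivOver_G 𝒳)
  exact ⟨E, hE⟩

theorem isGroupoid_strictF (h : FibCat.IsFibGrpd 𝒳.p) (U : Cᵒᵖ) :
    IsGroupoid ((strictF 𝒳).obj U) := by
  change IsGroupoid (Obj 𝒳 U.unop)
  constructor
  intro o o' φ
  haveI : IsIso φ.val := FibCatAux.isIso_of_isHomLift_id 𝒳.p h (U := U.unop) φ.val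
  refine ⟨⟨⟨inv φ.val, inferInstance⟩, ?_, ?_⟩⟩
  · apply hom_ext'; exact IsIso.hom_inv_id φ.val
  · apply hom_ext'; exact IsIso.inv_hom_id φ.val

end Groth.Agent.H3.Strictify
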