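import Mathlib
import Groth.Prelude.Def_FDesc
import Groth.Agent.Lib.Helper3.TenAssM

/-!
# `Ass(F ⊗_S G)` as a union of images of `Ass(O_{T(x,y)})` (helper3; S4668, S4669)
-/

set_option autoImplicit false
universe u
open CategoryTheory CategoryTheory.Limits AlgebraicGeometry IsLocalRing TensorProduct

namespace Groth.Agent.H3.TenAss

open Groth.Agent.LD.QC Groth.Agent.H3.FlatAss Groth.Agent.H1.StalkGen

attribute [-instance] Groth.Agent.LD.QC.stalkModule

section TT

variable {X Y S : Scheme.{u}} (f : X ⟶ S) (g : Y ⟶ S)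

/-- the composite `X_x → X ×_S Y → Y` -/
noncomputable abbrev phiX (x : X) : (pullback.fst f g).fiber x ⟶ Y :=
  (pullback.fst f g).fiberι x ≫ pullback.snd f g

/-- the map `T(x,y) → X ×_S Y` of the statements -/
noncomputable abbrev tauT (x : X) (y : Y) :
    pullback (X.fromSpecResidueField x ≫ f) (Y.fromSpecResidueField y ≫ g) ⟶ pullback f g :=
  pullback.map (X.fromSpecResidueField x ≫ f) (Y.fromSpecResidueField y ≫ g) f g
    (X.fromSpecResidueField x) (Y.fromSpecResidueField y) (𝟙 S) (Category.comp_id _)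
    (Category.comp_id _)

theorem isPullback_phiX (x : X) :
    IsPullback (phiX f g x) ((pullback.fst f g).fiberToSpecResidueField x) g
      (X.fromSpecResidueField x ≫ f) :=
  (IsPullback.of_hasPullback (pullback.fst f g) (X.fromSpecResidueField x)).paste_horiz (hcS f g)

theorem isPullback_TT (x : X) (y : Y) :
    IsPullback ((phiX f g x).fiberι y ≫ (pullback.fst f g).fiberToSpecResidueField x)
      ((phiX f g x).fiberToSpecResidueField y)
      (X.fromSpecResidueField x ≫ f) (Y.fromSpecResidueField y ≫ g) :=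
  ((IsPullback.of_hasPullback (phiX f g x) (Y.fromSpecResidueField y)).flip.paste_vert
    (isPullback_phiX f g x)).flip

/-- `T(x,y)` is the fibre over `y` of `X_x → Y` -/
noncomputable def isoTT (x : X) (y : Y) :
    (phiX f g x).fiber y ≅ pullback (X.fromSpecResidueField x ≫ f) (Y.fromSpecResidueField y ≫ g) :=
  (isPullback_TT f g x y).isoPullback

theorem isoTT_hom_tauT (x : X) (y : Y) :
    (isoTT f g x y).hom ≫ tauT f g x y =
      (phiX f g x).fiberι y ≫ (pullback.fst f g).fiberι x := by
  apply pullback.hom_ext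
  · rw [Category.assoc, pullback.lift_fst, ← Category.assoc, isoTT, IsPullback.isoPullback_hom_fst,
      Category.assoc, Category.assoc]
    congr 1
    exact ((pullback.fst f g).fiber_fac x).symm
  · rw [Category.assoc, pullback.lift_snd, ← Category.assoc, isoTT, IsPullback.isoPullback_hom_snd,
      Category.assoc]
    exact ((phiX f g x).fiber_fac y).symm

theorem fst_tauT (x : X) (y : Y)
    (t : ↥(pullback (X.fromSpecResidueField x ≫ f) (Y.fromSpecResidueField y ≫ g))) :
    pullback.fst f g (tauT f g x y t) = x := by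
  have h : tauT f g x y ≫ pullback.fst f g = pullback.fst _ _ ≫ X.fromSpecResidueField x :=
    pullback.lift_fst _ _ _
  have h2 := congr($h t)
  rw [Scheme.Hom.comp_apply, Scheme.Hom.comp_apply, Scheme.fromSpecResidueField_apply] at h2
  exact h2

theorem snd_tauT (x : X) (y : Y)
    (t : ↥(pullback (X.fromSpecResidueField x ≫ f) (Y.fromSpecResidueField y ≫ g))) :
    pullback.snd f g (tauT f g x y t) = y := by
  have h : tauT f g x y ≫ pullback.snd f g = pullback.snd _ _ ≫ Y.fromSpecResidueField y :=
    pullback.lift_snd _ _ _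
  have h2 := congr($h t)
  rw [Scheme.Hom.comp_apply, Scheme.Hom.comp_apply, Scheme.fromSpecResidueField_apply] at h2
  exact h2

variable [IsLocallyNoetherian (pullback f g)]

/-- **key lemma**: the image of `Ass(O_{T(x,y)})` in `X ×_S Y` -/
theorem mem_image_ass_TT_iff (x : X) (y : Y) (z' : (pullback.fst f g).fiber x) :
    (pullback.fst f g).fiberι x z' ∈ tauT f g x y ''
        AssSch.Ass (Coh.structureModule
          (pullback (X.fromSpecResidueField x ≫ f) (Y.fromSpecResidueField y ≫ g))) ↔
      pullback.snd f g ((pullback.fst f g).fiberι x z') = y ∧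
      HasSocle (((pullback.fst f g).fiber x).presheaf.stalk z')
        (fibreRing (fibMap (hcS f g) x) z') := by
  haveI hN : IsNoetherianRing (((pullback.fst f g).fiber x).presheaf.stalk z') :=
    isNoetherianRing_stalk_fiber (pullback.fst f g) x z'
  have hN' : ∀ w : (pullback.fst f g).fiber x,
      IsNoetherianRing (((pullback.fst f g).fiber x).presheaf.stalk w) :=
    fun w => isNoetherianRing_stalk_fiber (pullback.fst f g) x w
  have hI : fibreIdeal (fibMap (hcS f g) x) z' = fibreIdeal (phiX f g x) z' := by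
    rw [← fibreIdeal_comp_of_surjective (fibMap (hcS f g) x) (g.fiberι (f x)) z'
      ((g.fiberι (f x)).stalkMap_surjective _), fibMap_fiberι]
  have hR : HasSocle (((pullback.fst f g).fiber x).presheaf.stalk z')
        (fibreRing (fibMap (hcS f g) x) z') ↔
      HasSocle (((pullback.fst f g).fiber x).presheaf.stalk z') (fibreRing (phiX f g x) z') :=
    hasSocle_congr (Submodule.quotEquivOfEq _ _ hI)
  rw [hR]
  constructor
  · rintro ⟨t, ht, htz⟩
    obtain ⟨t', rfl⟩ : ∃ t', (isoTT f g x y).hom t' = t :=
      ⟨(isoTT f g x y).inv t, by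
        rw [← Scheme.Hom.comp_apply, Iso.inv_hom_id]
        rfl⟩
    have h1 : (phiX f g x).fiberι y t' = z' := by
      apply ((pullback.fst f g).fiberι x).isEmbedding.injective
      rw [← htz, ← Scheme.Hom.comp_apply, ← Scheme.Hom.comp_apply, isoTT_hom_tauT]
    refine ⟨?_, ?_⟩
    · rw [← htz]
      exact snd_tauT f g x y _
    · haveI := hN' ((phiX f g x).fiberι y t')
      rw [← mem_ass_structureModule_fiber_iff' (phiX f g x) y t' z' h1]
      haveI : IsNoetherianRing (((phiX f g x).fiber y).presheaf.stalk t') :=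
        isNoetherianRing_of_surjective _ _ (((phiX f g x).fiberι y).stalkMap t').hom
          (((phiX f g x).fiberι y).stalkMap_surjective t')
      exact (mem_ass_structureModule_iff_of_isIso (isoTT f g x y).hom t').mp ht
  · rintro ⟨hy, hs⟩
    obtain ⟨t', ht'⟩ := exists_fiber_point (phiX f g x) y z' hy
    haveI : IsNoetherianRing (((phiX f g x).fiber y).presheaf.stalk t') :=
      isNoetherianRing_of_surjective _ _ (((phiX f g x).fiberι y).stalkMap t').hom
        (((phiX f g x).fiberι y).stalkMap_surjective t')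
    refine ⟨(isoTT f g x y).hom t', ?_, ?_⟩
    · haveI := hN' ((phiX f g x).fiberι y t')
      rw [mem_ass_structureModule_iff_of_isIso (isoTT f g x y).hom t',
        mem_ass_structureModule_fiber_iff' (phiX f g x) y t' z' ht']
      exact hs
    · rw [← Scheme.Hom.comp_apply, isoTT_hom_tauT, Scheme.Hom.comp_apply, ht']

end TT

section Main

variable {X Y S : Scheme.{u}} (f : X ⟶ S) (g : Y ⟶ S)
  [IsLocallyNoetherian X] [IsLocallyNoetherian Y] [IsLocallyNoetherian (pullback f g)]
  (F : X.Modules) [F.IsQuasicoherent] (G : Y.Modules) [G.IsQuasicoherent]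
  (hGfl : FlatMod.IsFlatOver g G)

include hGfl

/-- S4668 -/
theorem ass_tensorS_eq_iUnion_fibre :
    AssSch.Ass (CohB1.tensorMod ((Scheme.Modules.pullback (pullback.fst f g)).obj F)
        ((Scheme.Modules.pullback (pullback.snd f g)).obj G)) =
      ⋃ (x : ↥X) (_ : x ∈ AssSch.Ass F) (y' : ↥(g.fiber (f x)))
        (_ : y' ∈ AssSch.Ass ((Scheme.Modules.pullback (g.fiberι (f x))).obj G)) (y : ↥Y)
        (_ : y = g.fiberι (f x) y'),
        ⇑(pullback.map (X.fromSpecResidueField x ≫ f) (Y.fromSpecResidueField y ≫ g) f g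
            (X.fromSpecResidueField x) (Y.fromSpecResidueField y) (𝟙 S) (Category.comp_id _)
            (Category.comp_id _)) ''
          AssSch.Ass (Coh.structureModule
            (pullback (X.fromSpecResidueField x ≫ f) (Y.fromSpecResidueField y ≫ g))) := by
  ext z
  simp only [Set.mem_iUnion]
  constructor
  · intro hz
    obtain ⟨z', hz'⟩ := exists_fiber_point (pullback.fst f g) (pullback.fst f g z) z rfl
    have h3 := mem_ass_tensorS_iff f g F G hGfl (pullback.fst f g z) z'
    rw [hz'] at h3
    obtain ⟨hx, hy, hs⟩ := h3.mp hz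
    have hy'y : g.fiberι (f (pullback.fst f g z)) (fibMap (hcS f g) (pullback.fst f g z) z') =
        pullback.snd f g z := by
      rw [fibMap_apply, hz']
    refine ⟨pullback.fst f g z, hx, fibMap (hcS f g) (pullback.fst f g z) z', ?_,
      pullback.snd f g z, hy'y.symm, ?_⟩
    · exact (mem_ass_fiber_iff' g G (f (pullback.fst f g z)) _ _ hy'y).mpr hy
    · have h4 := (mem_image_ass_TT_iff f g (pullback.fst f g z) (pullback.snd f g z) z').mpr
        ⟨by rw [hz'], hs⟩
      rw [hz'] at h4
      exact h4
  · rintro ⟨x, hx, y', hy', y, rfl, hz⟩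
    have hxz : pullback.fst f g z = x := by
      obtain ⟨t, _, rfl⟩ := hz
      exact fst_tauT f g x _ t
    obtain ⟨z', rfl⟩ := exists_fiber_point (pullback.fst f g) x z hxz
    obtain ⟨hy, hs⟩ := (mem_image_ass_TT_iff f g x _ z').mp hz
    rw [mem_ass_tensorS_iff f g F G hGfl x z']
    refine ⟨hx, ?_, hs⟩
    rw [hasSocle_fibMod_congr g G hy]
    exact (mem_ass_fiber_iff g G (f x) y').mp hy'

/-- S4669 -/
theorem ass_tensorS_eq_iUnion [IsLocallyNoetherian S]
    (hAss : ∀ x ∈ AssSch.Ass F, f x ∈ AssSch.Ass (Coh.structureModule S)) :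
    AssSch.Ass (CohB1.tensorMod ((Scheme.Modules.pullback (pullback.fst f g)).obj F)
        ((Scheme.Modules.pullback (pullback.snd f g)).obj G)) =
      ⋃ (x : ↥X) (_ : x ∈ AssSch.Ass F) (y : ↥Y) (_ : y ∈ AssSch.Ass G) (_ : f x = g y),
        ⇑(pullback.map (X.fromSpecResidueField x ≫ f) (Y.fromSpecResidueField y ≫ g) f g
            (X.fromSpecResidueField x) (Y.fromSpecResidueField y) (𝟙 S) (Category.comp_id _)
            (Category.comp_id _)) ''
          AssSch.Ass (Coh.structureModule
            (pullback (X.fromSpecResidueField x ≫ f) (Y.fromSpecResidueField y ≫ g))) := by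
  ext z
  simp only [Set.mem_iUnion]
  constructor
  · intro hz
    obtain ⟨z', hz'⟩ := exists_fiber_point (pullback.fst f g) (pullback.fst f g z) z rfl
    have h3 := mem_ass_tensorS_iff f g F G hGfl (pullback.fst f g z) z'
    rw [hz'] at h3
    obtain ⟨hx, hy, hs⟩ := h3.mp hz
    refine ⟨pullback.fst f g z, hx, pullback.snd f g z,
      snd_mem_ass f g F G hGfl hAss z hz, congr($(pullback.condition (f := f) (g := g)) z), ?_⟩
    have h4 := (mem_image_ass_TT_iff f g (pullback.fst f g z) (pullback.snd f g z) z').mpr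
      ⟨by rw [hz'], hs⟩
    rw [hz'] at h4
    exact h4
  · rintro ⟨x, hx, y, hy, hxy, hz⟩
    have hxz : pullback.fst f g z = x := by
      obtain ⟨t, _, rfl⟩ := hz
      exact fst_tauT f g x _ t
    obtain ⟨z', rfl⟩ := exists_fiber_point (pullback.fst f g) x z hxz
    obtain ⟨hy', hs⟩ := (mem_image_ass_TT_iff f g x _ z').mp hz
    rw [mem_ass_tensorS_iff f g F G hGfl x z']
    refine ⟨hx, ?_, hs⟩
    rw [hasSocle_fibMod_congr g G hy']
    exact ((mem_ass_iff_of_flat g G y (hGfl y)).mp hy).2

end Main

end Groth.Agent.H3.TenAss
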