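import Mathlib

/-!
# Flatness of `N ⊗_C M` over a smaller ring (helper3)

`D → C` rings, `N` a `C`-module, `M` a `C`-module; `D` acts on both through `C`.
If `N` is flat over `C` and `M` is flat over `D`, then `N ⊗_C M` is flat over `D`; conversely when
`N` is faithfully flat over `C`.  Also the fibre `(N ⊗_C M)/𝔪_D`.
-/

set_option autoImplicit false

open TensorProduct IsLocalRing

namespace Groth.Agent.H3.TenFlat

section Mixed

variable (D C N M : Type*) [CommRing D] [CommRing C] [Algebra D C] [AddCommGroup N] [Module C N]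
  [Module D N] [IsScalarTower D C N] [AddCommGroup M] [Module C M] [Module D M]
  [IsScalarTower D C M]

/-- naturality of the associator -/
theorem assoc_lTensor {P P' : Type*} [AddCommMonoid P] [Module D P] [AddCommMonoid P'] [Module D P']
    (ι : P →ₗ[D] P') (x : (N ⊗[C] M) ⊗[D] P) :
    AlgebraTensorModule.assoc D C C N M P' (LinearMap.lTensor (N ⊗[C] M) ι x) =
      AlgebraTensorModule.lTensor C N (AlgebraTensorModule.lTensor C M ι)
        (AlgebraTensorModule.assoc D C C N M P x) := by
  induction x using TensorProduct.induction_on with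
  | zero => simp
  | tmul t i =>
    induction t using TensorProduct.induction_on with
    | zero => simp
    | tmul n m => simp
    | add a b ha hb => simp only [add_tmul, map_add, ha, hb]
  | add a b ha hb => simp only [map_add, ha, hb]

theorem injective_lTensor_iff {P P' : Type*} [AddCommMonoid P] [Module D P] [AddCommMonoid P']
    [Module D P'] (ι : P →ₗ[D] P') :
    Function.Injective (LinearMap.lTensor (N ⊗[C] M) ι) ↔
      Function.Injective (AlgebraTensorModule.lTensor C N
        (AlgebraTensorModule.lTensor C M ι : M ⊗[D] P →ₗ[C] M ⊗[D] P')) := by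
  have h : ⇑(AlgebraTensorModule.assoc D C C N M P') ∘ ⇑(LinearMap.lTensor (N ⊗[C] M) ι) =
      ⇑(AlgebraTensorModule.lTensor C N
        (AlgebraTensorModule.lTensor C M ι : M ⊗[D] P →ₗ[C] M ⊗[D] P')) ∘
      ⇑(AlgebraTensorModule.assoc D C C N M P) := by
    funext x
    exact assoc_lTensor D C N M ι x
  rw [← EquivLike.comp_injective _ (AlgebraTensorModule.assoc D C C N M P'), h,
    EquivLike.injective_comp]

theorem flat_tensor_mixed [Module.Flat C N] [Module.Flat D M] : Module.Flat D (N ⊗[C] M) := by
  rw [Module.Flat.iff_lTensor_injectiveₛ]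
  intro P _ _ I
  rw [injective_lTensor_iff]
  apply Module.Flat.lTensor_preserves_injective_linearMap
  exact Module.Flat.lTensor_preserves_injective_linearMap _ (Submodule.injective_subtype I)

theorem flat_of_flat_tensor_mixed [Module.FaithfullyFlat C N] [Module.Flat D (N ⊗[C] M)] :
    Module.Flat D M := by
  rw [Module.Flat.iff_lTensor_injectiveₛ]
  intro P _ _ I
  have h1 : Function.Injective (LinearMap.lTensor (N ⊗[C] M) I.subtype) :=
    Module.Flat.lTensor_preserves_injective_linearMap _ (Submodule.injective_subtype I)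
  rw [injective_lTensor_iff] at h1
  have h2 : Function.Injective (LinearMap.lTensor N
      ((AlgebraTensorModule.lTensor C M I.subtype : M ⊗[D] I →ₗ[C] M ⊗[D] P))) := h1
  rw [Module.FaithfullyFlat.lTensor_injective_iff_injective] at h2
  exact h2

end Mixed

section Fib

variable (D : Type*) [CommRing D] [IsLocalRing D]

/-- the fibre `T/𝔪_D T` is nonzero -/
def FibNe (T : Type*) [AddCommGroup T] [Module D T] : Prop :=
  maximalIdeal D • (⊤ : Submodule D T) ≠ ⊤

variable {D}

theorem fibNe_iff_nontrivial (T : Type*) [AddCommGroup T] [Module D T] :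
    FibNe D T ↔ Nontrivial (T ⊗[D] (D ⧸ maximalIdeal D)) := by
  rw [FibNe, ← Submodule.Quotient.nontrivial_iff]
  exact (TensorProduct.tensorQuotEquivQuotSMul T (maximalIdeal D)).symm.toEquiv.nontrivial_congr

theorem fibNe_congr {T T' : Type*} [AddCommGroup T] [Module D T] [AddCommGroup T'] [Module D T']
    (e : T ≃ₗ[D] T') : FibNe D T ↔ FibNe D T' := by
  rw [fibNe_iff_nontrivial, fibNe_iff_nontrivial]
  exact (TensorProduct.congr e (LinearEquiv.refl D _)).toEquiv.nontrivial_congr

variable (C N M : Type*) [CommRing C] [Algebra D C] [AddCommGroup N] [Module C N]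
  [Module D N] [IsScalarTower D C N] [AddCommGroup M] [Module C M] [Module D M]
  [IsScalarTower D C M]

theorem fibNe_of_fibNe_tensor (h : FibNe D (N ⊗[C] M)) : FibNe D M := by
  rw [fibNe_iff_nontrivial] at h ⊢
  by_contra hnt
  rw [not_nontrivial_iff_subsingleton] at hnt
  have : Subsingleton (N ⊗[C] (M ⊗[D] (D ⧸ maximalIdeal D))) := inferInstance
  exact not_subsingleton _
    (AlgebraTensorModule.assoc D C C N M (D ⧸ maximalIdeal D)).injective.subsingleton

theorem fibNe_tensor_of_fibNe [Module.FaithfullyFlat C N] (h : FibNe D M) :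
    FibNe D (N ⊗[C] M) := by
  rw [fibNe_iff_nontrivial] at h ⊢
  have : Nontrivial (N ⊗[C] (M ⊗[D] (D ⧸ maximalIdeal D))) := inferInstance
  exact (AlgebraTensorModule.assoc D C C N M (D ⧸ maximalIdeal D)).symm.injective.nontrivial

end Fib

end Groth.Agent.H3.TenFlat
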