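import Mathlib
import Groth.Prelude.Def_FDesc
import Groth.Agent.Lib.Lead.QC.FlatBC
import Groth.Agent.Lib.Helper3.TenAssD
import Groth.Agent.Lib.Helper3.TenFlatA

/-!
# Flatness of `P ⊗ q^*G'` over a base of `Y'` (helper3; S4678)
-/

set_option autoImplicit false
universe u
open CategoryTheory CategoryTheory.Limits AlgebraicGeometry IsLocalRing TensorProduct

namespace Groth.Agent.H3.TenFlat

open Groth.Agent.LD.QC Groth.Agent.H3.TenAss

attribute [-instance] Groth.Agent.LD.QC.stalkModule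

section Mixed

variable {X' Y' Z : Scheme.{u}} (q : X' ⟶ Y') (h : Y' ⟶ Z) (P : X'.Modules) [P.IsQuasicoherent]
  (G' : Y'.Modules) [G'.IsQuasicoherent] (x' : X')

theorem isScalarTower_stalk_comp :
    letI := FlatMod.moduleStalkOver q P x'
    letI := FlatMod.moduleStalkOver (q ≫ h) P x'
    letI : Algebra (Z.presheaf.stalk ((q ≫ h) x')) (Y'.presheaf.stalk (q x')) :=
      (h.stalkMap (q x')).hom.toAlgebra
    IsScalarTower (Z.presheaf.stalk ((q ≫ h) x')) (Y'.presheaf.stalk (q x'))
      (P.presheaf.stalk x') := by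
  letI := FlatMod.moduleStalkOver q P x'
  letI := FlatMod.moduleStalkOver (q ≫ h) P x'
  letI : Algebra (Z.presheaf.stalk ((q ≫ h) x')) (Y'.presheaf.stalk (q x')) :=
    (h.stalkMap (q x')).hom.toAlgebra
  exact ⟨fun d c n => by
    change (q.stalkMap x') ((h.stalkMap (q x')) d * c) • n =
      ((q ≫ h).stalkMap x') d • ((q.stalkMap x') c • n)
    rw [map_mul, mul_smul, Scheme.Hom.stalkMap_comp]
    rfl⟩

/-- the stalk of `P ⊗ q^*G'` at `x'` is `P_{x'} ⊗_{O_{Y',q x'}} G'_{q x'}`, linearly over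
`O_{Z, h (q x')}`. -/
theorem nonempty_stalk_equiv_mixed :
    letI := FlatMod.moduleStalkOver q P x'
    letI := FlatMod.moduleStalkOver (q ≫ h) P x'
    letI := FlatMod.moduleStalkOver (q ≫ h)
      (CohB1.tensorMod P ((Scheme.Modules.pullback q).obj G')) x'
    letI : Algebra (Z.presheaf.stalk ((q ≫ h) x')) (Y'.presheaf.stalk (q x')) :=
      (h.stalkMap (q x')).hom.toAlgebra
    haveI := isScalarTower_stalk_comp q h P x'
    Nonempty ((CohB1.tensorMod P ((Scheme.Modules.pullback q).obj G')).presheaf.stalk x'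
      ≃ₗ[Z.presheaf.stalk ((q ≫ h) x')]
      (P.presheaf.stalk x' ⊗[Y'.presheaf.stalk (q x')] G'.presheaf.stalk (q x'))) := by
  letI mPC := FlatMod.moduleStalkOver q P x'
  letI mPD := FlatMod.moduleStalkOver (q ≫ h) P x'
  letI mTD := FlatMod.moduleStalkOver (q ≫ h)
    (CohB1.tensorMod P ((Scheme.Modules.pullback q).obj G')) x'
  letI algDC : Algebra (Z.presheaf.stalk ((q ≫ h) x')) (Y'.presheaf.stalk (q x')) :=
    (h.stalkMap (q x')).hom.toAlgebra
  haveI tDCP := isScalarTower_stalk_comp q h P x'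
  letI algCR : Algebra (Y'.presheaf.stalk (q x')) (X'.presheaf.stalk x') :=
    (q.stalkMap x').hom.toAlgebra
  letI algDR : Algebra (Z.presheaf.stalk ((q ≫ h) x')) (X'.presheaf.stalk x') :=
    ((q ≫ h).stalkMap x').hom.toAlgebra
  haveI tCRP : IsScalarTower (Y'.presheaf.stalk (q x')) (X'.presheaf.stalk x')
      (P.presheaf.stalk x') := IsScalarTower.of_algebraMap_smul fun r m => rfl
  haveI tDRP : IsScalarTower (Z.presheaf.stalk ((q ≫ h) x')) (X'.presheaf.stalk x')
      (P.presheaf.stalk x') := IsScalarTower.of_algebraMap_smul fun r m => rfl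
  haveI tDRT : IsScalarTower (Z.presheaf.stalk ((q ≫ h) x')) (X'.presheaf.stalk x')
      ((CohB1.tensorMod P ((Scheme.Modules.pullback q).obj G')).presheaf.stalk x') :=
    IsScalarTower.of_algebraMap_smul fun r m => rfl
  letI mQC := FlatMod.moduleStalkOver q ((Scheme.Modules.pullback q).obj G') x'
  haveI tCRQ : IsScalarTower (Y'.presheaf.stalk (q x')) (X'.presheaf.stalk x')
      (((Scheme.Modules.pullback q).obj G').presheaf.stalk x') :=
    IsScalarTower.of_algebraMap_smul fun r m => rfl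
  obtain ⟨σ, hσ⟩ : ∃ σ : G'.presheaf.stalk (q x') →ₗ[Y'.presheaf.stalk (q x')]
      ((Scheme.Modules.pullback q).obj G').presheaf.stalk x',
      IsBaseChange (X'.presheaf.stalk x') σ := exists_stalk_pullback_isBaseChange q G' x'
  haveI : ((Scheme.Modules.pullback q).obj G').IsQuasicoherent := qc_pullback q G'
  obtain ⟨e⟩ := nonempty_stalk_tensor_equiv P ((Scheme.Modules.pullback q).obj G') x'
  let e2 := e ≪≫ₗ TensorProduct.comm (X'.presheaf.stalk x') _ _ ≪≫ₗ
    tensorBaseChangeEquiv (P.presheaf.stalk x') σ hσ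
  exact ⟨e2.restrictScalars (Z.presheaf.stalk ((q ≫ h) x'))⟩

/-- flatness over `Z` of `P ⊗ q^*G'` -/
theorem isFlatOverAt_tensor_pullback (hP : FlatMod.IsFlatOverAt q P x')
    (hG : FlatMod.IsFlatOverAt h G' (q x')) :
    FlatMod.IsFlatOverAt (q ≫ h) (CohB1.tensorMod P ((Scheme.Modules.pullback q).obj G')) x' := by
  letI mPC := FlatMod.moduleStalkOver q P x'
  letI mPD := FlatMod.moduleStalkOver (q ≫ h) P x'
  letI mTD := FlatMod.moduleStalkOver (q ≫ h)
    (CohB1.tensorMod P ((Scheme.Modules.pullback q).obj G')) x'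
  letI algDC : Algebra (Z.presheaf.stalk ((q ≫ h) x')) (Y'.presheaf.stalk (q x')) :=
    (h.stalkMap (q x')).hom.toAlgebra
  haveI tDCP := isScalarTower_stalk_comp q h P x'
  letI mGD : Module (Z.presheaf.stalk ((q ≫ h) x')) (G'.presheaf.stalk (q x')) :=
    FlatMod.moduleStalkOver h G' (q x')
  haveI tDCG : IsScalarTower (Z.presheaf.stalk ((q ≫ h) x')) (Y'.presheaf.stalk (q x'))
      (G'.presheaf.stalk (q x')) := IsScalarTower.of_algebraMap_smul fun r m => rfl
  obtain ⟨e⟩ := nonempty_stalk_equiv_mixed q h P G' x'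
  haveI : Module.Flat (Y'.presheaf.stalk (q x')) (P.presheaf.stalk x') := hP
  haveI : Module.Flat (Z.presheaf.stalk ((q ≫ h) x')) (G'.presheaf.stalk (q x')) := hG
  haveI := flat_tensor_mixed (Z.presheaf.stalk ((q ≫ h) x')) (Y'.presheaf.stalk (q x'))
    (P.presheaf.stalk x') (G'.presheaf.stalk (q x'))
  exact Module.Flat.of_linearEquiv e

end Mixed

section S4678

variable {X Y Y' Z : Scheme.{u}} (f : X ⟶ Y) (g : Y' ⟶ Y) (h : Y' ⟶ Z)
  (F : X.Modules) [F.IsQuasicoherent] (G' : Y'.Modules) [G'.IsQuasicoherent]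

/-- S4678 -/
theorem isFlatOverAt_tensorS_comp (x' : ↥(pullback f g))
    (hFx : FlatMod.IsFlatOverAt f F (pullback.fst f g x'))
    (hGy : FlatMod.IsFlatOverAt h G' (pullback.snd f g x')) :
    FlatMod.IsFlatOverAt (pullback.snd f g ≫ h)
      (CohB1.tensorMod ((Scheme.Modules.pullback (pullback.fst f g)).obj F)
        ((Scheme.Modules.pullback (pullback.snd f g)).obj G')) x' := by
  haveI : ((Scheme.Modules.pullback (pullback.fst f g)).obj F).IsQuasicoherent :=
    qc_pullback _ F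
  exact isFlatOverAt_tensor_pullback (pullback.snd f g) h _ G' x'
    (isFlatOverAt_pullback_of_isPullback (IsPullback.of_hasPullback f g) F x' hFx) hGy

end S4678

end Groth.Agent.H3.TenFlat
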