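import Mathlib
import Groth.Prelude.Def_FDesc
import Groth.Agent.Lib.Helper3.TenAssK
import Groth.Agent.Lib.Helper3.TenFlatB

/-!
# Faithful flatness relative to the base under base change (helper3; S4680)
-/

set_option autoImplicit false
universe u
open CategoryTheory CategoryTheory.Limits AlgebraicGeometry IsLocalRing TensorProduct

namespace Groth.Agent.H3.TenFlat

open Groth.Agent.LD.QC Groth.Agent.H3.TenAss Groth.Agent.H3.FlatAss

attribute [-instance] Groth.Agent.LD.QC.stalkModule

section Nontriv

variable {X Y : Scheme.{u}} (f : X ⟶ Y) (F : X.Modules) [F.IsQuasicoherent]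

theorem nontrivial_fibMod_congr {x₁ x₂ : X} (h : x₁ = x₂) :
    Nontrivial (fibMod f F x₁) ↔ Nontrivial (fibMod f F x₂) := by
  subst h
  rfl

/-- the fibre condition of the statements, in terms of `fibMod` -/
theorem fibNe_iff_nontrivial_fibMod (x : X) :
    (letI := FlatMod.moduleStalkOver f F x
     FibNe (Y.presheaf.stalk (f x)) (F.presheaf.stalk x)) ↔ Nontrivial (fibMod f F x) := by
  letI := FlatMod.moduleStalkOver f F x
  letI : Algebra (Y.presheaf.stalk (f x)) (X.presheaf.stalk x) := (f.stalkMap x).hom.toAlgebra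
  haveI : IsScalarTower (Y.presheaf.stalk (f x)) (X.presheaf.stalk x) (F.presheaf.stalk x) :=
    IsScalarTower.of_algebraMap_smul fun r m => rfl
  rw [fibNe_iff_nontrivial]
  exact (fibreEquiv (B := X.presheaf.stalk x) (F.presheaf.stalk x)
    (maximalIdeal (Y.presheaf.stalk (f x)))).toEquiv.nontrivial_congr

theorem nontrivial_stalk_fiber_iff (y : Y) (z' : f.fiber y) :
    Nontrivial (((Scheme.Modules.pullback (f.fiberι y)).obj F).presheaf.stalk z') ↔
      Nontrivial (fibMod f F (f.fiberι y z')) := by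
  letI := FlatMod.moduleStalkOver (f.fiberι y) ((Scheme.Modules.pullback (f.fiberι y)).obj F) z'
  letI : Algebra (X.presheaf.stalk (f.fiberι y z')) ((f.fiber y).presheaf.stalk z') :=
    ((f.fiberι y).stalkMap z').hom.toAlgebra
  haveI : IsScalarTower (X.presheaf.stalk (f.fiberι y z')) ((f.fiber y).presheaf.stalk z')
      (((Scheme.Modules.pullback (f.fiberι y)).obj F).presheaf.stalk z') :=
    IsScalarTower.of_algebraMap_smul fun r m => rfl
  obtain ⟨τ, hτ⟩ : ∃ τ : F.presheaf.stalk (f.fiberι y z') →ₗ[X.presheaf.stalk (f.fiberι y z')]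
      ((Scheme.Modules.pullback (f.fiberι y)).obj F).presheaf.stalk z',
      IsBaseChange ((f.fiber y).presheaf.stalk z') τ :=
    exists_stalk_pullback_isBaseChange (f.fiberι y) F z'
  have hs : Function.Surjective (algebraMap (X.presheaf.stalk (f.fiberι y z'))
      ((f.fiber y).presheaf.stalk z')) := (f.fiberι y).stalkMap_surjective z'
  have hker : RingHom.ker (algebraMap (X.presheaf.stalk (f.fiberι y z'))
      ((f.fiber y).presheaf.stalk z')) = fibreIdeal f (f.fiberι y z') := ker_stalkMap_fiberι f y z'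
  exact ((surjBaseChangeEquiv hs τ hτ).toEquiv.nontrivial_congr).trans
    (Submodule.quotEquivOfEq _ _ (by rw [hker])).toEquiv.nontrivial_congr

end Nontriv

section FlatPt

variable {X' X : Scheme.{u}} (π : X' ⟶ X) (F : X.Modules) [F.IsQuasicoherent] (z : X')

theorem nontrivial_stalk_pullback_iff (hfl : (π.stalkMap z).hom.Flat) :
    Nontrivial (((Scheme.Modules.pullback π).obj F).presheaf.stalk z) ↔
      Nontrivial (F.presheaf.stalk (π z)) := by
  letI := FlatMod.moduleStalkOver π ((Scheme.Modules.pullback π).obj F) z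
  letI : Algebra (X.presheaf.stalk (π z)) (X'.presheaf.stalk z) := (π.stalkMap z).hom.toAlgebra
  haveI : IsScalarTower (X.presheaf.stalk (π z)) (X'.presheaf.stalk z)
      (((Scheme.Modules.pullback π).obj F).presheaf.stalk z) :=
    IsScalarTower.of_algebraMap_smul fun r m => rfl
  obtain ⟨σ, hσ⟩ : ∃ σ : F.presheaf.stalk (π z) →ₗ[X.presheaf.stalk (π z)]
      ((Scheme.Modules.pullback π).obj F).presheaf.stalk z,
      IsBaseChange (X'.presheaf.stalk z) σ := exists_stalk_pullback_isBaseChange π F z
  haveI : Module.Flat (X.presheaf.stalk (π z)) (X'.presheaf.stalk z) := hfl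
  haveI : IsLocalHom (algebraMap (X.presheaf.stalk (π z)) (X'.presheaf.stalk z)) :=
    inferInstanceAs (IsLocalHom (π.stalkMap z).hom)
  haveI : Module.FaithfullyFlat (X.presheaf.stalk (π z)) (X'.presheaf.stalk z) :=
    Module.FaithfullyFlat.of_flat_of_isLocalHom
  rw [← hσ.equiv.toEquiv.nontrivial_congr]
  exact Module.FaithfullyFlat.nontrivial_tensorProduct_iff_right _ _

end FlatPt

section BC

variable {X Y X' Y' : Scheme.{u}} {p : X' ⟶ X} {q : X' ⟶ Y'} {f : X ⟶ Y} {g : Y' ⟶ Y}
  (hc : IsPullback p q f g) (F : X.Modules) [F.IsQuasicoherent]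

include hc

/-- nonvanishing of the fibre is invariant under base change -/
theorem nontrivial_fibMod_pullback_iff (y' : Y') (x'' : q.fiber y') :
    Nontrivial (fibMod q ((Scheme.Modules.pullback p).obj F) (q.fiberι y' x'')) ↔
      Nontrivial (fibMod f F (p (q.fiberι y' x''))) := by
  haveI : ((Scheme.Modules.pullback p).obj F).IsQuasicoherent := qc_pullback p F
  haveI : ((Scheme.Modules.pullback (f.fiberι (g y'))).obj F).IsQuasicoherent :=
    qc_pullback _ F
  rw [← nontrivial_stalk_fiber_iff q _ y' x'',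
    (stalkEquivOfIso (fibModIso hc y' F) x'').toEquiv.nontrivial_congr,
    nontrivial_stalk_pullback_iff (fibMap hc y') _ x'' (Flat.stalkMap _ x''),
    nontrivial_stalk_fiber_iff f F (g y') (fibMap hc y' x''),
    nontrivial_fibMod_congr f F (fibMap_apply hc y' x'')]

theorem nontrivial_fibMod_pullback_iff' (x' : X') :
    Nontrivial (fibMod q ((Scheme.Modules.pullback p).obj F) x') ↔
      Nontrivial (fibMod f F (p x')) := by
  have h := nontrivial_fibMod_pullback_iff hc F (q x') (q.asFiber x')
  rw [q.fiberι_asFiber x'] at h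
  exact h

end BC

section S4680

variable {X Y Y' : Scheme.{u}} (f : X ⟶ Y) (g : Y' ⟶ Y) (F : X.Modules) [F.IsQuasicoherent]

/-- S4680 -/
theorem faithfullyFlat_pullback (hFfl : FlatMod.IsFlatOver f F)
    (hFff : ∀ y : ↥Y, ∃ x : ↥X, f x = y ∧
      letI := FlatMod.moduleStalkOver f F x
      IsLocalRing.maximalIdeal (Y.presheaf.stalk (f x)) •
        (⊤ : Submodule (Y.presheaf.stalk (f x)) (F.presheaf.stalk x)) ≠ ⊤) :
    FlatMod.IsFlatOver (pullback.snd f g) ((Scheme.Modules.pullback (pullback.fst f g)).obj F) ∧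
      (∀ y' : ↥Y', ∃ x' : ↥(pullback f g), (pullback.snd f g) x' = y' ∧
      letI := FlatMod.moduleStalkOver (pullback.snd f g)
        ((Scheme.Modules.pullback (pullback.fst f g)).obj F) x'
      IsLocalRing.maximalIdeal (Y'.presheaf.stalk ((pullback.snd f g) x')) •
        (⊤ : Submodule (Y'.presheaf.stalk ((pullback.snd f g) x'))
          (((Scheme.Modules.pullback (pullback.fst f g)).obj F).presheaf.stalk x')) ≠ ⊤) := by
  haveI : ((Scheme.Modules.pullback (pullback.fst f g)).obj F).IsQuasicoherent :=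
    qc_pullback _ F
  have hc : IsPullback (pullback.fst f g) (pullback.snd f g) f g := IsPullback.of_hasPullback f g
  refine ⟨fun x' => isFlatOverAt_pullback_of_isPullback hc F x' (hFfl _), fun y' => ?_⟩
  obtain ⟨x, hx, hne⟩ := hFff (g y')
  obtain ⟨x', hx'1, hx'2⟩ := Scheme.Pullback.exists_preimage_pullback x y' hx
  refine ⟨x', hx'2, ?_⟩
  have h1 : Nontrivial (fibMod f F x) := (fibNe_iff_nontrivial_fibMod f F x).mp hne
  have h2 : Nontrivial (fibMod (pullback.snd f g)
      ((Scheme.Modules.pullback (pullback.fst f g)).obj F) x') :=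
    (nontrivial_fibMod_pullback_iff' hc F x').mpr
      ((nontrivial_fibMod_congr f F hx'1).mpr h1)
  exact (fibNe_iff_nontrivial_fibMod (pullback.snd f g) _ x').mpr h2

end S4680

end Groth.Agent.H3.TenFlat
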