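import Mathlib
import Groth.Prelude.Def_FDesc
import Groth.Agent.Lib.Helper3.TenFlatC

/-!
# Flatness of `G'` and of `F ⊗_Y G'` for `F` faithfully flat over `Y` (helper3; S4679)
-/

set_option autoImplicit false
universe u
open CategoryTheory CategoryTheory.Limits AlgebraicGeometry IsLocalRing TensorProduct

namespace Groth.Agent.H3.TenFlat

open Groth.Agent.LD.QC Groth.Agent.H3.TenAss Groth.Agent.H3.FlatAss

attribute [-instance] Groth.Agent.LD.QC.stalkModule

theorem faithfullyFlat_of_fibNe {C N : Type*} [CommRing C] [IsLocalRing C] [AddCommGroup N]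
    [Module C N] [Module.Flat C N] (h : FibNe C N) : Module.FaithfullyFlat C N := by
  refine ⟨fun m hm htop => ?_⟩
  obtain rfl := eq_maximalIdeal hm
  exact h htop

section Local

variable {X' Y' Z : Scheme.{u}} (q : X' ⟶ Y') (h : Y' ⟶ Z) (P : X'.Modules) [P.IsQuasicoherent]
  (G' : Y'.Modules) [G'.IsQuasicoherent] (x' : X')

theorem isFlatOverAt_of_tensor_pullback (hP : FlatMod.IsFlatOverAt q P x')
    (hPne : letI := FlatMod.moduleStalkOver q P x'
      FibNe (Y'.presheaf.stalk (q x')) (P.presheaf.stalk x'))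
    (hT : FlatMod.IsFlatOverAt (q ≫ h)
      (CohB1.tensorMod P ((Scheme.Modules.pullback q).obj G')) x') :
    FlatMod.IsFlatOverAt h G' (q x') := by
  letI mPC := FlatMod.moduleStalkOver q P x'
  letI mPD := FlatMod.moduleStalkOver (q ≫ h) P x'
  letI mTD := FlatMod.moduleStalkOver (q ≫ h)
    (CohB1.tensorMod P ((Scheme.Modules.pullback q).obj G')) x'
  letI algDC : Algebra (Z.presheaf.stalk ((q ≫ h) x')) (Y'.presheaf.stalk (q x')) :=
    (h.stalkMap (q x')).hom.toAlgebra
  haveI tDCP := isScalarTower_stalk_comp q h P x'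
  letI mGD : Module (Z.presheaf.stalk ((q ≫ h) x')) (G'.presheaf.stalk (q x')) :=
    FlatMod.moduleStalkOver h G' (q x')
  haveI tDCG : IsScalarTower (Z.presheaf.stalk ((q ≫ h) x')) (Y'.presheaf.stalk (q x'))
      (G'.presheaf.stalk (q x')) := IsScalarTower.of_algebraMap_smul fun r m => rfl
  obtain ⟨e⟩ := nonempty_stalk_equiv_mixed q h P G' x'
  haveI : Module.Flat (Y'.presheaf.stalk (q x')) (P.presheaf.stalk x') := hP
  haveI : Module.FaithfullyFlat (Y'.presheaf.stalk (q x')) (P.presheaf.stalk x') :=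
    faithfullyFlat_of_fibNe hPne
  haveI : Module.Flat (Z.presheaf.stalk ((q ≫ h) x'))
      ((CohB1.tensorMod P ((Scheme.Modules.pullback q).obj G')).presheaf.stalk x') := hT
  haveI : Module.Flat (Z.presheaf.stalk ((q ≫ h) x'))
      (P.presheaf.stalk x' ⊗[Y'.presheaf.stalk (q x')] G'.presheaf.stalk (q x')) :=
    Module.Flat.of_linearEquiv e.symm
  exact flat_of_flat_tensor_mixed (Z.presheaf.stalk ((q ≫ h) x')) (Y'.presheaf.stalk (q x'))
    (P.presheaf.stalk x') (G'.presheaf.stalk (q x'))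

theorem fibNe_of_fibNe_tensor_pullback
    (hT :
      letI := FlatMod.moduleStalkOver (q ≫ h)
        (CohB1.tensorMod P ((Scheme.Modules.pullback q).obj G')) x'
      FibNe (Z.presheaf.stalk ((q ≫ h) x'))
        ((CohB1.tensorMod P ((Scheme.Modules.pullback q).obj G')).presheaf.stalk x')) :
    letI := FlatMod.moduleStalkOver h G' (q x')
    FibNe (Z.presheaf.stalk (h (q x'))) (G'.presheaf.stalk (q x')) := by
  letI mPC := FlatMod.moduleStalkOver q P x'
  letI mPD := FlatMod.moduleStalkOver (q ≫ h) P x'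
  letI mTD := FlatMod.moduleStalkOver (q ≫ h)
    (CohB1.tensorMod P ((Scheme.Modules.pullback q).obj G')) x'
  letI algDC : Algebra (Z.presheaf.stalk ((q ≫ h) x')) (Y'.presheaf.stalk (q x')) :=
    (h.stalkMap (q x')).hom.toAlgebra
  haveI tDCP := isScalarTower_stalk_comp q h P x'
  letI mGD : Module (Z.presheaf.stalk ((q ≫ h) x')) (G'.presheaf.stalk (q x')) :=
    FlatMod.moduleStalkOver h G' (q x')
  haveI tDCG : IsScalarTower (Z.presheaf.stalk ((q ≫ h) x')) (Y'.presheaf.stalk (q x'))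
      (G'.presheaf.stalk (q x')) := IsScalarTower.of_algebraMap_smul fun r m => rfl
  obtain ⟨e⟩ := nonempty_stalk_equiv_mixed q h P G' x'
  show FibNe (Z.presheaf.stalk ((q ≫ h) x')) (G'.presheaf.stalk (q x'))
  exact fibNe_of_fibNe_tensor (Y'.presheaf.stalk (q x')) (P.presheaf.stalk x')
    (G'.presheaf.stalk (q x')) ((fibNe_congr e).mp hT)

theorem fibNe_tensor_pullback_of_fibNe (hP : FlatMod.IsFlatOverAt q P x')
    (hPne : letI := FlatMod.moduleStalkOver q P x'
      FibNe (Y'.presheaf.stalk (q x')) (P.presheaf.stalk x'))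
    (hG : letI := FlatMod.moduleStalkOver h G' (q x')
      FibNe (Z.presheaf.stalk (h (q x'))) (G'.presheaf.stalk (q x'))) :
    letI := FlatMod.moduleStalkOver (q ≫ h)
      (CohB1.tensorMod P ((Scheme.Modules.pullback q).obj G')) x'
    FibNe (Z.presheaf.stalk ((q ≫ h) x'))
      ((CohB1.tensorMod P ((Scheme.Modules.pullback q).obj G')).presheaf.stalk x') := by
  letI mPC := FlatMod.moduleStalkOver q P x'
  letI mPD := FlatMod.moduleStalkOver (q ≫ h) P x'
  letI mTD := FlatMod.moduleStalkOver (q ≫ h)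
    (CohB1.tensorMod P ((Scheme.Modules.pullback q).obj G')) x'
  letI algDC : Algebra (Z.presheaf.stalk ((q ≫ h) x')) (Y'.presheaf.stalk (q x')) :=
    (h.stalkMap (q x')).hom.toAlgebra
  haveI tDCP := isScalarTower_stalk_comp q h P x'
  letI mGD : Module (Z.presheaf.stalk ((q ≫ h) x')) (G'.presheaf.stalk (q x')) :=
    FlatMod.moduleStalkOver h G' (q x')
  haveI tDCG : IsScalarTower (Z.presheaf.stalk ((q ≫ h) x')) (Y'.presheaf.stalk (q x'))
      (G'.presheaf.stalk (q x')) := IsScalarTower.of_algebraMap_smul fun r m => rfl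
  obtain ⟨e⟩ := nonempty_stalk_equiv_mixed q h P G' x'
  haveI : Module.Flat (Y'.presheaf.stalk (q x')) (P.presheaf.stalk x') := hP
  haveI : Module.FaithfullyFlat (Y'.presheaf.stalk (q x')) (P.presheaf.stalk x') :=
    faithfullyFlat_of_fibNe hPne
  exact (fibNe_congr e).mpr (fibNe_tensor_of_fibNe (Y'.presheaf.stalk (q x'))
    (P.presheaf.stalk x') (G'.presheaf.stalk (q x')) hG)

end Local

section S4679

variable {X Y Y' Z : Scheme.{u}} (f : X ⟶ Y) (g : Y' ⟶ Y) (h : Y' ⟶ Z)
  (F : X.Modules) [F.IsQuasicoherent] (G' : Y'.Modules) [G'.IsQuasicoherent]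

/-- S4679 -/
theorem isFlatOver_iff_tensorS (hFfl : FlatMod.IsFlatOver f F)
    (hFff : ∀ y : ↥Y, ∃ x : ↥X, f x = y ∧
      letI := FlatMod.moduleStalkOver f F x
      IsLocalRing.maximalIdeal (Y.presheaf.stalk (f x)) •
        (⊤ : Submodule (Y.presheaf.stalk (f x)) (F.presheaf.stalk x)) ≠ ⊤) :
    (FlatMod.IsFlatOver h G' ↔ FlatMod.IsFlatOver (pullback.snd f g ≫ h)
      (CohB1.tensorMod ((Scheme.Modules.pullback (pullback.fst f g)).obj F)
        ((Scheme.Modules.pullback (pullback.snd f g)).obj G'))) ∧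
    ((FlatMod.IsFlatOver h G' ∧ ∀ z : ↥Z, ∃ y' : ↥Y', h y' = z ∧
        letI := FlatMod.moduleStalkOver h G' y'
        IsLocalRing.maximalIdeal (Z.presheaf.stalk (h y')) •
          (⊤ : Submodule (Z.presheaf.stalk (h y')) (G'.presheaf.stalk y')) ≠ ⊤) ↔
      (FlatMod.IsFlatOver (pullback.snd f g ≫ h)
        (CohB1.tensorMod ((Scheme.Modules.pullback (pullback.fst f g)).obj F)
          ((Scheme.Modules.pullback (pullback.snd f g)).obj G')) ∧
        ∀ z : ↥Z, ∃ x' : ↥(pullback f g), (pullback.snd f g ≫ h) x' = z ∧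
          letI := FlatMod.moduleStalkOver (pullback.snd f g ≫ h)
            (CohB1.tensorMod ((Scheme.Modules.pullback (pullback.fst f g)).obj F)
              ((Scheme.Modules.pullback (pullback.snd f g)).obj G')) x'
          IsLocalRing.maximalIdeal (Z.presheaf.stalk ((pullback.snd f g ≫ h) x')) •
            (⊤ : Submodule (Z.presheaf.stalk ((pullback.snd f g ≫ h) x'))
              ((CohB1.tensorMod ((Scheme.Modules.pullback (pullback.fst f g)).obj F)
                ((Scheme.Modules.pullback (pullback.snd f g)).obj G')).presheaf.stalk x')) ≠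
            ⊤)) := by
  haveI : ((Scheme.Modules.pullback (pullback.fst f g)).obj F).IsQuasicoherent :=
    qc_pullback _ F
  obtain ⟨hPfl, hPff⟩ := faithfullyFlat_pullback f g F hFfl hFff
  have h1 : FlatMod.IsFlatOver h G' ↔ FlatMod.IsFlatOver (pullback.snd f g ≫ h)
      (CohB1.tensorMod ((Scheme.Modules.pullback (pullback.fst f g)).obj F)
        ((Scheme.Modules.pullback (pullback.snd f g)).obj G')) := by
    constructor
    · intro hG x'
      exact isFlatOverAt_tensor_pullback (pullback.snd f g) h _ G' x' (hPfl x') (hG _)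
    · intro hT y'
      obtain ⟨x', rfl, hne⟩ := hPff y'
      exact isFlatOverAt_of_tensor_pullback (pullback.snd f g) h _ G' x' (hPfl x') hne (hT x')
  refine ⟨h1, ?_⟩
  constructor
  · rintro ⟨hG, hGne⟩
    refine ⟨h1.mp hG, fun z => ?_⟩
    obtain ⟨y', rfl, hy'⟩ := hGne z
    obtain ⟨x', rfl, hne⟩ := hPff y'
    exact ⟨x', rfl, fibNe_tensor_pullback_of_fibNe (pullback.snd f g) h _ G' x' (hPfl x') hne hy'⟩
  · rintro ⟨hT, hTne⟩
    refine ⟨h1.mpr hT, fun z => ?_⟩
    obtain ⟨x', rfl, hx'⟩ := hTne z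
    exact ⟨pullback.snd f g x', rfl,
      fibNe_of_fibNe_tensor_pullback (pullback.snd f g) h _ G' x' hx'⟩

end S4679

end Groth.Agent.H3.TenFlat
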