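import Mathlib
import Groth.Prelude.Def_FDesc
import Groth.Agent.Lib.Helper3.FlatAssD
import Groth.Agent.Lib.Helper3.TenAssN

/-!
# External tensor products over a field: reducedness (helper3; S4661)
-/

set_option autoImplicit false
universe u
open CategoryTheory CategoryTheory.Limits AlgebraicGeometry IsLocalRing TensorProduct

namespace Groth.Agent.H3.TenAss

open Groth.Agent.LD.QC Groth.Agent.H3.FlatAss Groth.Agent.H1.StalkGen

attribute [-instance] Groth.Agent.LD.QC.stalkModule

section Gen

theorem isField_stalk_of_subsingleton {S : Scheme.{u}} [IsReduced S] [Subsingleton S] (s : S) :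
    IsField (S.presheaf.stalk s) := by
  haveI : Ring.KrullDimLE 0 (S.presheaf.stalk s) := by
    apply krullDimLE_of_coheight_le
    have hmax : IsMax s := fun b _ => by rw [Subsingleton.elim b s]
    rw [Order.coheight_eq_zero.mpr hmax]
    exact le_rfl
  exact Ring.KrullDimLE.isField_of_isReduced

end Gen

section FieldBase

variable {k : Type u} [Field k] {X Y : Scheme.{u}} (f : X ⟶ Spec (CommRingCat.of k))
  (g : Y ⟶ Spec (CommRingCat.of k))

instance subsingleton_spec_field : Subsingleton ↥(Spec (CommRingCat.of k)) :=
  inferInstanceAs (Subsingleton (PrimeSpectrum k))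

theorem isFlatOver_of_field (G : Y.Modules) : FlatMod.IsFlatOver g G := by
  intro y
  have hF := isField_stalk_of_subsingleton (g y)
  letI := FlatMod.moduleStalkOver g G y
  show Module.Flat ((Spec (CommRingCat.of k)).presheaf.stalk (g y)) (G.presheaf.stalk y)
  letI := hF.toField
  infer_instance

instance flat_phiX (x : X) : Flat (phiX f g x) :=
  MorphismProperty.of_isPullback (P := @Flat) (isPullback_phiX f g x).flip inferInstance

variable [IsLocallyNoetherian X] [IsLocallyNoetherian Y] [IsLocallyNoetherian (pullback f g)]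
  (F : X.Modules) [F.IsQuasicoherent] (G : Y.Modules) [G.IsQuasicoherent]

/-- associated points of `F ⊠ G` over a field -/
theorem mem_ass_tensor_field_iff (x : X) (z' : (pullback.fst f g).fiber x) :
    (pullback.fst f g).fiberι x z' ∈ AssSch.Ass (CohB1.tensorMod
        ((Scheme.Modules.pullback (pullback.fst f g)).obj F)
        ((Scheme.Modules.pullback (pullback.snd f g)).obj G)) ↔
      x ∈ AssSch.Ass F ∧ phiX f g x z' ∈ AssSch.Ass G ∧
      HasSocle (((pullback.fst f g).fiber x).presheaf.stalk z') (fibreRing (phiX f g x) z') := by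
  haveI : ((Scheme.Modules.pullback (pullback.snd f g)).obj G).IsQuasicoherent :=
    qc_pullback _ G
  have hfl : FlatMod.IsFlatOverAt (pullback.fst f g)
      ((Scheme.Modules.pullback (pullback.snd f g)).obj G) ((pullback.fst f g).fiberι x z') :=
    isFlatOverAt_pullback_of_isPullback (hcS f g) G _ (isFlatOver_of_field g G _)
  obtain ⟨eG⟩ : Nonempty ((Scheme.Modules.pullback ((pullback.fst f g).fiberι x)).obj
      ((Scheme.Modules.pullback (pullback.snd f g)).obj G) ≅
      (Scheme.Modules.pullback (phiX f g x)).obj G) :=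
    ⟨(Scheme.Modules.pullbackComp ((pullback.fst f g).fiberι x) (pullback.snd f g)).app G⟩
  rw [mem_ass_tensor_pullback_iff (pullback.fst f g) F _ _ hfl, fiberι_mem,
    ← hasSocle_stalk_fiber_iff (pullback.fst f g) _ x z',
    hasSocle_congr (stalkEquivOfIso eG z'),
    hasSocle_stalk_pullback_iff' (phiX f g x) G z' (Flat.stalkMap _ z'),
    ← isAssociatedPrime_maximalIdeal_iff]
  rfl

theorem length_stalk_tensor_field (x : X) (z' : (pullback.fst f g).fiber x)
    (hz : (pullback.fst f g).fiberι x z' ∈ AssSch.Ass (CohB1.tensorMod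
        ((Scheme.Modules.pullback (pullback.fst f g)).obj F)
        ((Scheme.Modules.pullback (pullback.snd f g)).obj G))) :
    Module.length ((pullback f g).presheaf.stalk ((pullback.fst f g).fiberι x z'))
        ((CohB1.tensorMod ((Scheme.Modules.pullback (pullback.fst f g)).obj F)
          ((Scheme.Modules.pullback (pullback.snd f g)).obj G)).presheaf.stalk
            ((pullback.fst f g).fiberι x z')) =
      Module.length (X.presheaf.stalk (pullback.fst f g ((pullback.fst f g).fiberι x z')))
          (F.presheaf.stalk (pullback.fst f g ((pullback.fst f g).fiberι x z'))) *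
        (Module.length (Y.presheaf.stalk (phiX f g x z')) (G.presheaf.stalk (phiX f g x z')) *
          Module.length (((pullback.fst f g).fiber x).presheaf.stalk z')
            (fibreRing (phiX f g x) z')) := by
  haveI : ((Scheme.Modules.pullback (pullback.snd f g)).obj G).IsQuasicoherent :=
    qc_pullback _ G
  have hfl : FlatMod.IsFlatOverAt (pullback.fst f g)
      ((Scheme.Modules.pullback (pullback.snd f g)).obj G) ((pullback.fst f g).fiberι x z') :=
    isFlatOverAt_pullback_of_isPullback (hcS f g) G _ (isFlatOver_of_field g G _)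
  have hs := ((mem_ass_tensor_pullback_iff (pullback.fst f g) F _ _ hfl).mp hz).2
  obtain ⟨eG⟩ : Nonempty ((Scheme.Modules.pullback ((pullback.fst f g).fiberι x)).obj
      ((Scheme.Modules.pullback (pullback.snd f g)).obj G) ≅
      (Scheme.Modules.pullback (phiX f g x)).obj G) :=
    ⟨(Scheme.Modules.pullbackComp ((pullback.fst f g).fiberι x) (pullback.snd f g)).app G⟩
  rw [length_stalk_tensor_pullback (pullback.fst f g) F _ _ hfl
    (nontrivial_fibMod_of_hasSocle (pullback.fst f g) _ _ hs),
    ← length_stalk_fiber (pullback.fst f g) _ x z',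
    (stalkEquivOfIso eG z').length_eq,
    length_stalk_pullback' (phiX f g x) G z' (Flat.stalkMap _ z')]

variable (H : ∀ (k' : Type u) [Field k'] [Algebra k k'] [FiniteDimensional k k']
    [IsPurelyInseparable k k'],
    AssSch.IsReducedMod ((Scheme.Modules.pullback (FBase.bcπ f k')).obj F))

include H

theorem maximalIdeal_fibreRing_phiX_eq_bot (x : X) (hx : x ∈ AssSch.Ass F)
    (z' : (pullback.fst f g).fiber x)
    (hs : HasSocle (((pullback.fst f g).fiber x).presheaf.stalk z')
      (fibreRing (phiX f g x) z')) :
    maximalIdeal (fibreRing (phiX f g x) z') = ⊥ := by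
  letI : Algebra k (X.residueField x) := (resAlg f x).toAlgebra
  have hpb : IsPullback (phiX f g x) ((pullback.fst f g).fiberToSpecResidueField x) g
      (Spec.map (CommRingCat.ofHom (algebraMap k (X.residueField x)))) := by
    have h0 := isPullback_phiX f g x
    rw [← specMap_resAlg f x] at h0
    exact h0
  let e : (pullback.fst f g).fiber x ≅ FBase.bc g (X.residueField x) := hpb.isoPullback
  have he : e.hom ≫ FBase.bcπ g (X.residueField x) = phiX f g x := hpb.isoPullback_hom_fst
  obtain ⟨e1⟩ := nonempty_fibreRing_equiv_of_iso e (FBase.bcπ g (X.residueField x))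
    (phiX f g x) he z'
  letI : Algebra k (Y.residueField (FBase.bcπ g (X.residueField x) (e.hom z'))) :=
    (resAlg g (FBase.bcπ g (X.residueField x) (e.hom z'))).toAlgebra
  obtain ⟨q, ⟨e2⟩⟩ := exists_prime_fibreRing g (X.residueField x) (e.hom z')
  haveI : IsReduced (Y.residueField (FBase.bcπ g (X.residueField x) (e.hom z')) ⊗[k]
      X.residueField x) := by
    haveI := isReduced_residue_tensor f F H x hx
      (Y.residueField (FBase.bcπ g (X.residueField x) (e.hom z')))
    exact isReduced_of_injective
      (Algebra.TensorProduct.comm k (Y.residueField (FBase.bcπ g (X.residueField x) (e.hom z')))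
        (X.residueField x)).toRingHom (AlgEquiv.injective _)
  haveI : IsReduced (fibreRing (phiX f g x) z') :=
    isReduced_of_injective (e1.trans e2).toRingHom (e1.trans e2).injective
  exact maximalIdeal_eq_bot_of_hasSocle ((hasSocle_quotient_iff _).mp hs)

/-- S4661 -/
theorem isReducedMod_externalTensor (hGr : AssSch.IsReducedMod G) :
    AssSch.IsReducedMod (CohB1.tensorMod ((Scheme.Modules.pullback (pullback.fst f g)).obj F)
      ((Scheme.Modules.pullback (pullback.snd f g)).obj G)) := by
  haveI := isLocallyNoetherian_bc_of_finite f k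
  have hk := H k
  have hFne : AssSch.NoEmbedded F := noEmbedded_of_bc_finite f F k hk.1
  have hFlen : ∀ x ∈ AssSch.Ass F, Module.length (X.presheaf.stalk x) (F.presheaf.stalk x) = 1 :=
    fun x hx => length_stalk_eq_one_of_mem_ass f F hk x hx
  constructor
  · intro z hz w hw hsp
    obtain ⟨x, hx⟩ : ∃ x, pullback.fst f g z = x := ⟨_, rfl⟩
    obtain ⟨z', rfl⟩ := exists_fiber_point (pullback.fst f g) x z hx
    obtain ⟨hzx, hzy, hzs⟩ := (mem_ass_tensor_field_iff f g F G x z').mp hz
    obtain ⟨xw, hxw⟩ : ∃ xw, pullback.fst f g w = xw := ⟨_, rfl⟩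
    obtain ⟨w'', hw''⟩ := exists_fiber_point (pullback.fst f g) xw w hxw
    have hwx : xw ∈ AssSch.Ass F := by
      rw [← hw''] at hw
      exact ((mem_ass_tensor_field_iff f g F G xw w'').mp hw).1
    have hxx : x = xw := by
      have h1 : pullback.fst f g w ⤳ pullback.fst f g ((pullback.fst f g).fiberι x z') :=
        hsp.map (pullback.fst f g).continuous
      rw [hx, hxw] at h1
      exact hFne x hzx xw hwx h1
    subst hxx
    obtain rfl := hw''
    have hsp' : w'' ⤳ z' :=
      ((pullback.fst f g).fiberι x).isEmbedding.isInducing.specializes_iff.mp hsp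
    obtain ⟨-, hwy, -⟩ := (mem_ass_tensor_field_iff f g F G x w'').mp hw
    have hyy : phiX f g x z' = phiX f g x w'' :=
      hGr.1 _ hzy _ hwy (hsp'.map (phiX f g x).continuous)
    have hbot := maximalIdeal_fibreRing_phiX_eq_bot f g F H x hzx z' hzs
    have h2 := eq_of_specializes_of_fibreIdeal_eq (phiX f g x) z' w'' hsp' hyy.symm
      (eq_maximalIdeal_of_maximalIdeal_quotient_eq_bot _ hbot)
    rw [h2]
  · intro z hz
    obtain ⟨x, hx⟩ : ∃ x, pullback.fst f g z = x := ⟨_, rfl⟩
    obtain ⟨z', rfl⟩ := exists_fiber_point (pullback.fst f g) x z hx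
    obtain ⟨hzx, hzy, hzs⟩ := (mem_ass_tensor_field_iff f g F G x z').mp hz
    have hbot := maximalIdeal_fibreRing_phiX_eq_bot f g F H x hzx z' hzs
    rw [length_stalk_tensor_field f g F G x z' hz, hFlen _ (by rw [hx]; exact hzx),
      hGr.2 _ hzy, length_quotient_eq, length_self_eq_one_of_maximalIdeal_eq_bot hbot]
    simp

end FieldBase

end Groth.Agent.H3.TenAss
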