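import Mathlib
import Groth.Prelude.Def_MoreMor
import Groth.Agent.Lib.Helper5.Thick.FOThick

set_option autoImplicit false
universe u
open CategoryTheory AlgebraicGeometry

namespace Groth.Agent.H3.Thk

/-- sections killed by a first order thickening multiply to zero, over any open. -/
theorem mul_eq_zero_of_app_eq_zero {T T' : Scheme.{u}} (j : T ⟶ T')
    (hj : MoreMor.IsFirstOrderThickening j) (W : T'.Opens) (s t : Γ(T', W))
    (hs : (j.app W).hom s = 0) (ht : (j.app W).hom t = 0) : s * t = 0 := by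
  haveI : IsClosedImmersion j := hj.1.1
  have key : ∀ x : W, ∃ W' : T'.Opens, IsAffineOpen W' ∧ x.1 ∈ W' ∧ W' ≤ W := by
    intro x
    obtain ⟨W', hW', hx, hle⟩ := exists_isAffineOpen_mem_and_subset (x := x.1) (U := W) x.2
    exact ⟨W', hW', hx, hle⟩
  choose W' hW' hxW' hle using key
  refine T'.sheaf.eq_of_locally_eq' W' W (fun x => homOfLE (hle x)) ?_ _ _ ?_
  · intro x hx
    exact TopologicalSpace.Opens.mem_iSup.mpr ⟨⟨x, hx⟩, hxW' _⟩
  · intro x
    have h1 : ∀ r : Γ(T', W), (j.app W).hom r = 0 →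
        (T'.presheaf.map (homOfLE (hle x)).op).hom r ∈ j.ker.ideal ⟨W' x, hW' x⟩ := by
      intro r hr
      rw [Scheme.Hom.ker_apply, RingHom.mem_ker]
      have := ConcreteCategory.congr_hom (j.naturality (homOfLE (hle x)).op) r
      simp only [CommRingCat.comp_apply] at this
      change (j.app (W' x)).hom ((T'.presheaf.map (homOfLE (hle x)).op).hom r) = 0
      rw [this, hr, map_zero]
    have h2 : (T'.presheaf.map (homOfLE (hle x)).op).hom (s * t) ∈
        (j.ker * j.ker).ideal ⟨W' x, hW' x⟩ := by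
      rw [map_mul, Scheme.IdealSheafData.ideal_mul]
      exact Ideal.mul_mem_mul (h1 s hs) (h1 t ht)
    rw [hj.2] at h2
    change (T'.presheaf.map (homOfLE (hle x)).op).hom (s * t) =
      (T'.presheaf.map (homOfLE (hle x)).op).hom 0
    rw [map_zero]
    exact h2

end Groth.Agent.H3.Thk

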