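import Mathlib.Topology.Algebra.Group.Basic
import Mathlib.Topology.Algebra.Module.Basic
import Groth.Prelude.Def_TopMod
universe u v w

namespace Groth.Agent.H3.TopModAux

/-- an additive map from a topological group with a deduced topology to a discrete module which kills
`J • ⊤` for an open ideal `J` is continuous -/
theorem continuous_of_le_ker {A : Type u} {M : Type v} {E : Type w} [CommRing A] [TopologicalSpace A]
    [AddCommGroup M] [Module A M] [TopologicalSpace M] [AddCommGroup E] [Module A E]
    [TopologicalSpace E] [DiscreteTopology E] (hM : TopMod.IsDeduced A M) (f : M →ₗ[A] E)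
    (J : Ideal A) (hJ : IsOpen (J : Set A)) (h : (J • ⊤ : Submodule A M) ≤ LinearMap.ker f) :
    Continuous f := by
  have := hM.1
  apply continuous_of_continuousAt_zero f.toAddMonoidHom
  show Filter.Tendsto f (nhds 0) (nhds (f 0))
  rw [map_zero, nhds_discrete E, Filter.tendsto_pure]
  have h1 : ((J • ⊤ : Submodule A M) : Set M) ∈ nhds (0 : M) := hM.2.mem_of_mem hJ
  exact Filter.mem_of_superset h1 (fun x hx => h hx)


end Groth.Agent.H3.TopModAux
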