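import Mathlib
import Groth.Agent.S5826
import Groth.Prelude.Def_LinTop

set_option autoImplicit false
universe u v w

namespace Groth.Agent.H3.TopModAux

section Alg
variable {A : Type u} {M : Type v} {N : Type w} [CommRing A] [AddCommGroup M] [Module A M]
  [AddCommGroup N] [Module A N]

/-- an endomorphism `ε` of `X` with `ε X ⊆ L X` maps `L^k X` into `L^(k+1) X`. -/
lemma pow_apply_mem {X : Type v} [AddCommGroup X] [Module A X] (L : Ideal A)
    (ε : X →ₗ[A] X) (hε : ∀ x, ε x ∈ (L • ⊤ : Submodule A X)) (k : ℕ) (x : X) :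
    (ε ^ k) x ∈ (L ^ k • ⊤ : Submodule A X) := by
  induction k generalizing x with
  | zero => simp
  | succ k ih =>
    rw [pow_succ ε k, Module.End.mul_apply]
    -- (ε^k) (ε x), ε x ∈ L X
    have h1 : ∀ y ∈ (L • ⊤ : Submodule A X), (ε ^ k) y ∈ (L ^ (k + 1) • ⊤ : Submodule A X) := by
      intro y hy
      refine Submodule.smul_induction_on hy ?_ ?_
      · intro a ha z _
        rw [map_smul, pow_succ']
        rw [mul_smul]
        exact Submodule.smul_mem_smul ha (ih z)
      · intro y z hy hz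
        rw [map_add]
        exact Submodule.add_mem _ hy hz
    exact h1 _ (hε x)

theorem exists_leftInv_of_nilpotent (L J : Ideal A) (hJL : J ≤ L) (n : ℕ) (hLn : L ^ n ≤ J)
    (hproj : Module.Projective (A ⧸ J) (N ⧸ (J • (⊤ : Submodule A N))))
    (u : M →ₗ[A] N) (w₀ : N →ₗ[A] M ⧸ (L • ⊤ : Submodule A M))
    (hw₀ : ∀ x, w₀ (u x) = Submodule.Quotient.mk x) :
    ∃ w : N →ₗ[A] M ⧸ (J • ⊤ : Submodule A M), ∀ x, w (u x) = Submodule.Quotient.mk x := by
  classical
  -- notation
  let X := M ⧸ (J • ⊤ : Submodule A M)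
  let Y := M ⧸ (L • ⊤ : Submodule A M)
  let P := N ⧸ (J • ⊤ : Submodule A N)
  have hle : (J • ⊤ : Submodule A M) ≤ (L • ⊤ : Submodule A M) := Submodule.smul_mono_left hJL
  let π : X →ₗ[A] Y := Submodule.factor hle
  have hπ : Function.Surjective π := Submodule.factor_surjective hle
  have hYtors : Module.IsTorsionBySet A Y (J : Set A) := by
    intro y a
    obtain ⟨m, rfl⟩ := Submodule.Quotient.mk_surjective _ y
    rw [← Submodule.Quotient.mk_smul, Submodule.Quotient.mk_eq_zero]
    exact Submodule.smul_mem_smul (hJL a.2) trivial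
  letI : Module (A ⧸ J) Y := Module.IsTorsionBySet.module hYtors
  haveI : IsScalarTower A (A ⧸ J) Y := Module.IsTorsionBySet.isScalarTower hYtors
  -- w₀ kills J N
  have hw₀ker : (J • ⊤ : Submodule A N) ≤ LinearMap.ker w₀ := by
    rw [Submodule.smul_le]
    intro a ha y _
    rw [LinearMap.mem_ker, map_smul]
    exact @hYtors (w₀ y) ⟨a, ha⟩
  let g : P →ₗ[A] Y := Submodule.liftQ _ w₀ hw₀ker
  have hsurjA : Function.Surjective (algebraMap A (A ⧸ J)) := Ideal.Quotient.mk_surjective
  obtain ⟨h, hh⟩ := Module.projective_lifting_property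
    (LinearMap.extendScalarsOfSurjective hsurjA π) (LinearMap.extendScalarsOfSurjective hsurjA g) hπ
  let w₁ : P →ₗ[A] X := h.restrictScalars A
  have hw₁ : ∀ p, π (w₁ p) = g p := fun p => LinearMap.congr_fun hh p
  -- ū
  have huker : (J • ⊤ : Submodule A M) ≤ LinearMap.ker ((Submodule.mkQ (J • ⊤ : Submodule A N)).comp u) := by
    rw [Submodule.smul_le]
    intro a ha y _
    rw [LinearMap.mem_ker, LinearMap.comp_apply, map_smul, Submodule.mkQ_apply,
      Submodule.Quotient.mk_eq_zero]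
    exact Submodule.smul_mem_smul ha trivial
  let ubar : X →ₗ[A] P := Submodule.liftQ _ _ huker
  have hubar : ∀ x : M, ubar (Submodule.Quotient.mk x) = Submodule.Quotient.mk (u x) := fun x => rfl
  let ε : X →ₗ[A] X := LinearMap.id - w₁.comp ubar
  have hε : ∀ x, ε x ∈ (L • ⊤ : Submodule A X) := by
    intro x
    have hπε : π (ε x) = 0 := by
      obtain ⟨m, rfl⟩ := Submodule.Quotient.mk_surjective _ x
      change π (Submodule.Quotient.mk m - w₁ (ubar (Submodule.Quotient.mk m))) = 0
      rw [map_sub, hw₁, hubar]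
      change Submodule.Quotient.mk m - w₀ (u m) = 0
      rw [hw₀, sub_self]
    -- kernel of π is L X
    obtain ⟨m, hm⟩ := Submodule.Quotient.mk_surjective _ (ε x)
    rw [← hm] at hπε ⊢
    have : m ∈ (L • ⊤ : Submodule A M) := (Submodule.Quotient.mk_eq_zero _).mp hπε
    refine Submodule.smul_induction_on this ?_ ?_
    · intro a ha z _
      rw [Submodule.Quotient.mk_smul]
      exact Submodule.smul_mem_smul ha trivial
    · intro y z hy hz
      rw [Submodule.Quotient.mk_add]
      exact Submodule.add_mem _ hy hz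
  have hεn : ε ^ n = 0 := by
    refine LinearMap.ext fun x => ?_
    have h1 := pow_apply_mem L ε hε n x
    have h2 : (L ^ n • ⊤ : Submodule A X) ≤ ⊥ := by
      rw [Submodule.smul_le]
      intro a ha y _
      obtain ⟨m, rfl⟩ := Submodule.Quotient.mk_surjective _ y
      rw [Submodule.mem_bot, ← Submodule.Quotient.mk_smul, Submodule.Quotient.mk_eq_zero]
      exact Submodule.smul_mem_smul (hLn ha) trivial
    exact (Submodule.mem_bot _).mp (h2 h1)
  let σ : X →ₗ[A] X := ∑ k ∈ Finset.range n, ε ^ k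
  have hσ : σ * (1 - ε) = 1 := by
    have := geom_sum_mul_neg ε n
    rw [hεn, sub_zero] at this
    exact this
  refine ⟨σ.comp (w₁.comp (Submodule.mkQ _)), ?_⟩
  intro x
  change σ (w₁ (Submodule.Quotient.mk (u x))) = _
  have h3 : w₁ (Submodule.Quotient.mk (u x)) = (1 - ε) (Submodule.Quotient.mk x : X) := by
    change _ = (Submodule.Quotient.mk x : X) - ε (Submodule.Quotient.mk x)
    change _ = (Submodule.Quotient.mk x : X) - ((Submodule.Quotient.mk x : X) - w₁ (ubar (Submodule.Quotient.mk x)))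
    rw [hubar]
    abel
  rw [h3, ← Module.End.mul_apply, hσ]
  rfl

end Alg

section Main
open EGA41

theorem formallyLeftInvertible_iff_mod_idealOfDefinition {A : Type u} {M : Type v}
    {N : Type w} [CommRing A] [TopologicalSpace A] [AddCommGroup M] [Module A M] [TopologicalSpace M]
    [AddCommGroup N] [Module A N] [TopologicalSpace N] (𝔏 : Ideal A)
    (h𝔏 : LinTop.IsIdealOfDefinition A 𝔏) (hM : TopMod.IsDeduced A M) (hN : TopMod.IsDeduced A N)
    (hproj : ∀ J : Ideal A, IsOpen (J : Set A) → Module.Projective (A ⧸ J) (N ⧸ (J • (⊤ : Submodule A N))))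
    (u : M →L[A] N) :
    TopMod.IsFormallyLeftInvertible u ↔
      ∃ w : N →ₗ[A] M ⧸ (𝔏 • ⊤ : Submodule A M), ∀ x : M, w (u x) = Submodule.Quotient.mk x := by
  rw [Groth.Agent.S5826.result hM hN u]
  constructor
  · intro h
    exact h 𝔏 h𝔏.1
  · rintro ⟨w₀, hw₀⟩ J hJ
    have hJ' : IsOpen ((J ⊓ 𝔏 : Ideal A) : Set A) := hJ.inter h𝔏.1
    obtain ⟨n, -, hn⟩ := h𝔏.2 _ (hJ'.mem_nhds (Ideal.zero_mem _))
    obtain ⟨w, hw⟩ := exists_leftInv_of_nilpotent 𝔏 (J ⊓ 𝔏) inf_le_right n hn (hproj _ hJ')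
      u.toLinearMap w₀ hw₀
    have hle : ((J ⊓ 𝔏) • ⊤ : Submodule A M) ≤ (J • ⊤ : Submodule A M) :=
      Submodule.smul_mono_left inf_le_left
    refine ⟨(Submodule.factor hle).comp w, fun x => ?_⟩
    rw [LinearMap.comp_apply]
    have := hw x
    change w (u x) = _ at this
    rw [this]
    rfl

end Main

end Groth.Agent.H3.TopModAux
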