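import Mathlib
import Groth.Prelude.Def_DRing2
import Groth.Agent.Lib.Helper1.SmoothDepth
import Groth.Agent.Lib.Helper1.RegGlobal
import Groth.Agent.Lib.Helper2.PdTor
import Groth.Agent.Lib.Helper6.TD1

/-! # Tor over the local rings of a nonsingular variety vanishes above the dimension. -/

set_option autoImplicit false
set_option linter.style.haveILetI false
universe u

namespace Groth.Agent.H3.TorReg

open AlgebraicGeometry CategoryTheory CategoryTheory.Limits

/-- over a regular local ring of dimension at most `n`, `Tor_p` vanishes for `p > n`. -/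
theorem subsingleton_tor_of_isRegularLocalRing (A : Type u) [CommRing A] [IsRegularLocalRing A]
    (n : ℕ) (hn : ringKrullDim A ≤ n) (M N : Type u) [AddCommGroup M] [Module A M]
    [AddCommGroup N] [Module A N] (p : ℕ) (hp : n < p) :
    Subsingleton (DRing.Tor A p M N) := by
  obtain ⟨d, hd⟩ : ∃ d : ℕ, ringKrullDim A = d := by
    have h0 : (0 : WithBot ℕ∞) ≤ ringKrullDim A := ringKrullDim_nonneg_of_nontrivial
    cases h : ringKrullDim A with
    | bot => rw [h] at h0; simp at h0
    | coe a =>
      cases a with
      | top =>
        rw [h] at hn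
        exact absurd hn (by
          intro hh
          have : ((⊤ : ℕ∞) : WithBot ℕ∞) ≤ ((n : ℕ∞) : WithBot ℕ∞) := hh
          rw [WithBot.coe_le_coe] at this
          simp at this)
      | coe d => exact ⟨d, rfl⟩
  have hdn : d ≤ n := by
    rw [hd] at hn
    exact_mod_cast hn
  have hpd := Groth.Agent.H1.Reg.hasProjectiveDimensionLT_of_isRegularLocalRing A d hd
    (ModuleCat.of A N)
  have hz := Groth.Agent.H2.TorBal.isZero_tor_of_hasProjectiveDimensionLT (ModuleCat.of A M)
    (d + 1) (ModuleCat.of A N) hpd p (by omega)
  exact ModuleCat.subsingleton_of_isZero hz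

end Groth.Agent.H3.TorReg
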