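import Mathlib
import Groth.Prelude.Def_ActBC

/-!
# Descent of torsors along an fpqc morphism of bases
-/

set_option autoImplicit false

open CategoryTheory Limits MonoidalCategory CartesianMonoidalCategory MonObj AlgebraicGeometry

universe u

namespace Groth.Agent.H3.TorsorBC

variable {S S' : Scheme.{u}} (f : S' ⟶ S)

/-- base change along an fpqc morphism reflects isomorphisms -/
lemma isIso_of_isIso_pullback_map [Flat f] [Surjective f] [QuasiCompact f] {A B : Over S}
    (Ψ : A ⟶ B) (h : IsIso ((Over.pullback f).map Ψ)) : IsIso Ψ := by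
  suffices hl : IsIso Ψ.left by
    haveI : IsIso ((Over.forget S).map Ψ) := hl
    exact isIso_of_reflects_iso Ψ (Over.forget S)
  haveI : IsIso ((Over.pullback f).map Ψ).left :=
    (inferInstance : IsIso ((Over.forget S').map ((Over.pullback f).map Ψ)))
  have h1 : ((Over.pullback f).map Ψ).left ≫ pullback.fst B.hom f = pullback.fst A.hom f ≫ Ψ.left := by
    dsimp only [Over.pullback]; exact pullback.lift_fst _ _ _
  have h2 : ((Over.pullback f).map Ψ).left ≫ pullback.snd B.hom f = pullback.snd A.hom f := by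
    dsimp only [Over.pullback]; exact pullback.lift_snd _ _ _
  have sqR : IsPullback (pullback.snd B.hom f) (pullback.fst B.hom f) f B.hom :=
    (IsPullback.of_hasPullback B.hom f).flip
  have sqO : IsPullback (((Over.pullback f).map Ψ).left ≫ pullback.snd B.hom f)
      (pullback.fst A.hom f) f (Ψ.left ≫ B.hom) := by
    rw [h2, Over.w Ψ]
    exact (IsPullback.of_hasPullback A.hom f).flip
  have sq := IsPullback.of_right sqO h1 sqR
  exact MorphismProperty.of_isPullback_of_descendsAlong
    (P := MorphismProperty.isomorphisms Scheme.{u})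
    (Q := (@Surjective ⊓ @Flat ⊓ @QuasiCompact : MorphismProperty Scheme.{u})) sq
    ⟨⟨inferInstance, inferInstance⟩, inferInstance⟩
    (inferInstance : IsIso ((Over.pullback f).map Ψ).left)

variable {G X : Over S} [GrpObj G] (a : AlgGrp.Action G X)

/-- descent of pseudo-torsors along an fpqc morphism -/
lemma isPseudoTorsorSch_of_bc [Flat f] [Surjective f] [QuasiCompact f]
    (h : NonAbH1.IsPseudoTorsorSch (a.bc f)) : NonAbH1.IsPseudoTorsorSch a := by
  have key : lift (a.bc f).act (snd _ _) ≫ Functor.LaxMonoidal.μ (Over.pullback f) X X =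
      Functor.LaxMonoidal.μ (Over.pullback f) G X ≫ (Over.pullback f).map (lift a.act (snd G X)) := by
    rw [← Functor.Monoidal.lift_μ, comp_lift_assoc, Functor.Monoidal.μ_snd, AlgGrp.Action.bc_act]
  haveI : IsIso (lift (a.bc f).act (snd _ _)) := h
  haveI : IsIso (Functor.LaxMonoidal.μ (Over.pullback f) G X ≫
      (Over.pullback f).map (lift a.act (snd G X))) := by
    rw [← key]; infer_instance
  have : IsIso ((Over.pullback f).map (lift a.act (snd G X))) :=
    IsIso.of_isIso_comp_left (Functor.LaxMonoidal.μ (Over.pullback f) G X) _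
  exact isIso_of_isIso_pullback_map f _ this

/-- descent of local triviality along a covering morphism -/
lemma isLocallyTrivialFor_of_bc (K : Precoverage Scheme.{u}) [K.IsStableUnderComposition]
    (hf : Presieve.singleton f ∈ K S) {X : Over S}
    (h : NonAbH1.IsLocallyTrivialFor K (Red.bc f X)) : NonAbH1.IsLocallyTrivialFor K X := by
  obtain ⟨R, hR, hsec⟩ := h
  obtain ⟨E, rfl⟩ := Precoverage.mem_iff_exists_zeroHypercover.1 hR
  have hs : ∀ j : E.I₀, ∃ s : E.X j ⟶ (Red.bc f X).left, s ≫ (Red.bc f X).hom = E.f j := fun j =>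
    hsec (E.f j) (Presieve.ofArrows.mk j)
  choose s hs using hs
  have hf' : Presieve.ofArrows (fun _ : PUnit.{u + 2} => S') (fun _ => f) ∈ K S := by
    rw [Presieve.ofArrows_pUnit]; exact hf
  refine ⟨_, Precoverage.comp_mem_coverings (J := K) (fun _ : PUnit.{u + 2} => f) hf'
    (fun _ j => E.f j) (fun _ => E.mem₀), ?_⟩
  rintro T g ⟨⟨i, j⟩⟩
  refine ⟨s j ≫ pullback.fst X.hom f, ?_⟩
  change (s j ≫ pullback.fst X.hom f) ≫ X.hom = E.f j ≫ f
  have : s j ≫ pullback.snd X.hom f = E.f j := hs j
  rw [Category.assoc, pullback.condition, ← Category.assoc, this]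

/-- abstract form of S14547 -/
theorem isTorsorFor_fpqc_iff_bc [Flat f] [Surjective f] [QuasiCompact f] :
    NonAbH1.IsTorsorFor Scheme.fpqcPrecoverage a ↔
      NonAbH1.IsTorsorFor Scheme.fpqcPrecoverage (a.bc f) :=
  ⟨fun h => NonAbH1.isTorsorFor_bc f Scheme.fpqcPrecoverage h,
    fun h => ⟨isPseudoTorsorSch_of_bc f a h.1,
      isLocallyTrivialFor_of_bc f Scheme.fpqcPrecoverage
        (Scheme.Hom.singleton_mem_fpqcPrecoverage f) h.2⟩⟩

end Groth.Agent.H3.TorsorBC
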