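import Mathlib
import Groth.Prelude.Def_ChGrp
import Groth.Prelude.Def_NonAbH2
import Groth.Agent.Lib.Helper3.LocSecComp

/-!
# Points calculus for quotient squares `G ⊗ X ⇉ X ⟶ B`, and composition of torsors
-/

set_option autoImplicit false

open CategoryTheory Limits MonoidalCategory CartesianMonoidalCategory MonObj AlgebraicGeometry

universe u

namespace Groth.Agent.H3.TorsorPts

open AlgGrp.Action

variable {S : Scheme.{u}}

section basic

variable {G X B : Over S} [GrpObj G] (b : AlgGrp.Action G X) (π : X ⟶ B)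
  (hsq : IsPullback b.act (snd G X) π π)

include hsq in
/-- invariance of `π` -/
lemma act_comp {T : Over S} (g : T ⟶ G) (x : T ⟶ X) : (lift g x ≫ b.act) ≫ π = x ≫ π := by
  rw [Category.assoc, hsq.w, lift_snd_assoc]

include hsq in
/-- transitivity on fibres -/
lemma exists_act_eq {T : Over S} (x₁ x₂ : T ⟶ X) (h : x₁ ≫ π = x₂ ≫ π) :
    ∃ g : T ⟶ G, lift g x₂ ≫ b.act = x₁ := by
  refine ⟨hsq.lift x₁ x₂ h ≫ fst G X, ?_⟩
  have h1 : hsq.lift x₁ x₂ h ≫ b.act = x₁ := hsq.lift_fst _ _ _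
  have h2 : hsq.lift x₁ x₂ h ≫ snd G X = x₂ := hsq.lift_snd _ _ _
  have : lift (hsq.lift x₁ x₂ h ≫ fst G X) x₂ = hsq.lift x₁ x₂ h := by
    apply CartesianMonoidalCategory.hom_ext
    · rw [lift_fst]
    · rw [lift_snd, h2]
  rw [this, h1]

include hsq in
/-- freeness -/
lemma act_cancel {T : Over S} (g g' : T ⟶ G) (x : T ⟶ X)
    (h : lift g x ≫ b.act = lift g' x ≫ b.act) : g = g' := by
  have h1 : lift g x = lift g' x := by
    apply hsq.hom_ext
    · exact h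
    · rw [lift_snd, lift_snd]
  have := congrArg (fun t => t ≫ fst G X) h1
  simpa using this

end basic

section comp

variable {G N Q X Y Z : Over S} [GrpObj G] [GrpObj N] [GrpObj Q]
  (iN : N ⟶ G) [IsMonHom iN] (q : G ⟶ Q) [IsMonHom q] (hker : AlgGrp.IsKernel iN q)
  (s : Q ⟶ G) (hs : s ≫ q = 𝟙 Q)
  (a : AlgGrp.Action G X) (φ₁ : X ⟶ Y) (h₁ : IsPullback (a.restrict iN).act (snd N X) φ₁ φ₁)
  (aY : AlgGrp.Action Q Y) (hequiv : (q ⊗ₘ φ₁) ≫ aY.act = a.act ≫ φ₁)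
  (φ₂ : Y ⟶ Z) (h₂ : IsPullback aY.act (snd Q Y) φ₂ φ₂)

include hker hs h₁ hequiv h₂ in
theorem isPullback_comp : IsPullback a.act (snd G X) (φ₁ ≫ φ₂) (φ₁ ≫ φ₂) := by
  have hequivpt : ∀ {T : Over S} (g : T ⟶ G) (x : T ⟶ X),
      (lift g x ≫ a.act) ≫ φ₁ = lift (g ≫ q) (x ≫ φ₁) ≫ aY.act := by
    intro T g x
    rw [Category.assoc, ← hequiv, ← Category.assoc, lift_map]
  refine IsPullback.mk' ?_ ?_ ?_
  · rw [← Category.assoc, ← hequiv, Category.assoc, h₂.w, ← Category.assoc, tensorHom_snd,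
      Category.assoc]
  · intro T w w' hw1 hw2
    have ew : w = lift (w ≫ fst G X) (w ≫ snd G X) := by
      apply CartesianMonoidalCategory.hom_ext <;> simp
    have ew' : w' = lift (w' ≫ fst G X) (w ≫ snd G X) := by
      apply CartesianMonoidalCategory.hom_ext
      · simp
      · simp [hw2]
    obtain ⟨g, hg⟩ : ∃ g, g = w ≫ fst G X := ⟨_, rfl⟩
    obtain ⟨g', hg'⟩ : ∃ g', g' = w' ≫ fst G X := ⟨_, rfl⟩
    obtain ⟨x, hx⟩ : ∃ x, x = w ≫ snd G X := ⟨_, rfl⟩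
    rw [← hg, ← hx] at ew
    rw [← hg', ← hx] at ew'
    rw [ew, ew'] at hw1
    rw [ew, ew']
    congr 1
    -- `q g = q g'`
    have h3 : g ≫ q = g' ≫ q := by
      apply act_cancel aY φ₂ h₂ _ _ (x ≫ φ₁)
      rw [← hequivpt, ← hequivpt, hw1]
    -- `g' * g⁻¹` comes from `N`
    have h4 : (g' * g⁻¹) ≫ q = toUnit T ≫ η[Q] := by
      rw [MonObj.mul_comp, GrpObj.inv_comp, h3, _root_.mul_inv_cancel]
      rfl
    obtain ⟨n, hn⟩ : ∃ n : T ⟶ N, n ≫ iN = g' * g⁻¹ :=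
      ⟨hker.lift (g' * g⁻¹) (toUnit T) h4, hker.lift_fst _ _ _⟩
    have h5 : g' = (n ≫ iN) * g := by rw [hn]; group
    have h6 : n = 1 := by
      apply act_cancel (a.restrict iN) φ₁ h₁ _ _ (lift g x ≫ a.act)
      rw [lift_restrict_act, lift_restrict_act, ← lift_mul_act, ← h5, ← hw1, MonObj.one_comp,
        lift_one_act]
    rw [h5, h6, MonObj.one_comp, _root_.one_mul]
  · intro T x₁ x₂ h
    have h' : (x₁ ≫ φ₁) ≫ φ₂ = (x₂ ≫ φ₁) ≫ φ₂ := by
      rw [Category.assoc, Category.assoc]; exact h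
    obtain ⟨k, hk⟩ := exists_act_eq aY φ₂ h₂ _ _ h'
    have h3 : (lift (k ≫ s) x₂ ≫ a.act) ≫ φ₁ = x₁ ≫ φ₁ := by
      rw [hequivpt, Category.assoc, hs, Category.comp_id, hk]
    obtain ⟨n, hn⟩ := exists_act_eq (a.restrict iN) φ₁ h₁ _ _ h3.symm
    rw [lift_restrict_act, ← lift_mul_act] at hn
    exact ⟨lift ((n ≫ iN) * (k ≫ s)) x₂, by rw [hn], by rw [lift_snd]⟩

end comp

end Groth.Agent.H3.TorsorPts
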