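import Mathlib
import Groth.Agent.Lib.Helper3.TorsorPush

/-!
# Functions on a torsor invariant under the group descend to the base
-/

set_option autoImplicit false

open CategoryTheory Limits MonoidalCategory CartesianMonoidalCategory MonObj AlgebraicGeometry

universe u

namespace Groth.Agent.H3.TorsorFun

open AlgGrp.Action

/-- the affine line over `ℤ` -/
noncomputable abbrev A1 : Scheme.{u} := Spec (CommRingCat.of (MvPolynomial PUnit.{u + 1} (ULift.{u} ℤ)))

/-- global functions are morphisms to the affine line -/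
noncomputable def funEquiv (Y : Scheme.{u}) : (Y ⟶ A1.{u}) ≃ Γ(Y, ⊤) :=
  (AffineSpace.toSpecMvPolyIntEquiv PUnit.{u + 1}).trans (Equiv.funUnique PUnit.{u + 1} Γ(Y, ⊤))

lemma funEquiv_comp {X Y : Scheme.{u}} (f : X ⟶ Y) (g : Y ⟶ A1.{u}) :
    funEquiv X (f ≫ g) = f.appTop.hom (funEquiv Y g) := rfl

variable {S : Scheme.{u}} {G X : Over S} [GrpObj G] (a : AlgGrp.Action G X)

theorem functions_on_torsor (ha : NonAbH1.IsTorsorFor Scheme.fpqcPrecoverage a) :
    Function.Injective X.hom.appTop.hom ∧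
      ∀ s : Γ(X.left, ⊤), s ∈ Set.range X.hom.appTop.hom ↔
        a.act.left.appTop.hom s = (snd G X).left.appTop.hom s := by
  obtain ⟨hΨ, hloc⟩ := ha
  have hΨ' : IsIso (lift a.act (snd G X)) := hΨ
  have hcov : LocSec.IsCov Scheme.fpqcTopology X.hom :=
    LocSec.isCov_of_isLocallyTrivialFor Scheme.fpqcPrecoverage X.hom hloc
  haveI : EffectiveEpi X.hom := hcov.effectiveEpi
  haveI : Epi X.hom := inferInstance
  have hw1 : a.act.left ≫ X.hom = (G ⊗ X).hom := Over.w a.act
  have hw2 : (snd G X).left ≫ X.hom = (G ⊗ X).hom := Over.w (snd G X)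
  refine ⟨?_, fun s => ⟨?_, ?_⟩⟩
  · intro s₁ s₂ h
    have h' : funEquiv X.left (X.hom ≫ (funEquiv S).symm s₁) =
        funEquiv X.left (X.hom ≫ (funEquiv S).symm s₂) := by
      rw [funEquiv_comp, funEquiv_comp, Equiv.apply_symm_apply, Equiv.apply_symm_apply]
      exact h
    have h2 := (cancel_epi X.hom).1 ((funEquiv X.left).injective h')
    exact (funEquiv S).symm.injective h2
  · rintro ⟨t, rfl⟩
    have e1 : a.act.left.appTop.hom (X.hom.appTop.hom t) = (a.act.left ≫ X.hom).appTop.hom t := by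
      rw [Scheme.Hom.comp_appTop]; rfl
    have e2 : (snd G X).left.appTop.hom (X.hom.appTop.hom t) =
        ((snd G X).left ≫ X.hom).appTop.hom t := by
      rw [Scheme.Hom.comp_appTop]; rfl
    rw [e1, e2, hw1, hw2]
  · intro hs
    obtain ⟨g, hg⟩ : ∃ g : X.left ⟶ A1.{u}, g = (funEquiv X.left).symm s := ⟨_, rfl⟩
    have hgs : funEquiv X.left g = s := by rw [hg, Equiv.apply_symm_apply]
    have hcoeq : a.act.left ≫ g = (snd G X).left ≫ g := by
      apply (funEquiv _).injective
      rw [funEquiv_comp, funEquiv_comp, hgs]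
      exact hs
    have hcompat : ∀ {Z : Scheme.{u}} (g₁ g₂ : Z ⟶ X.left), g₁ ≫ X.hom = g₂ ≫ X.hom →
        g₁ ≫ g = g₂ ≫ g := by
      intro Z g₁ g₂ h12
      obtain ⟨c₀, hc₀⟩ := TorsorPush.exists_act_eq a hΨ'
        (Over.homMk g₁ rfl : Over.mk (g₁ ≫ X.hom) ⟶ X) (Over.homMk g₂ h12.symm)
      have h3 := congrArg (fun t => t.left) hc₀
      simp only [Over.comp_left, Over.homMk_left] at h3
      have h4 : (lift c₀ (Over.homMk g₂ h12.symm : Over.mk (g₁ ≫ X.hom) ⟶ X)).left ≫
          (snd G X).left = g₂ := by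
        rw [← Over.comp_left, lift_snd]
        rfl
      rw [← h3, Category.assoc, hcoeq, ← Category.assoc, h4]
    refine ⟨funEquiv S (EffectiveEpi.desc X.hom g hcompat), ?_⟩
    rw [← funEquiv_comp, EffectiveEpi.fac, hgs]

end Groth.Agent.H3.TorsorFun
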