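import Mathlib
import Groth.Agent.Lib.Helper3.OrbitQuot5
import Groth.Agent.Lib.Helper3.GrpQuot1

/-!
# Local trivialisations and pseudo-torsors
-/

set_option autoImplicit false

open CategoryTheory Limits MonoidalCategory CartesianMonoidalCategory MonObj AlgebraicGeometry

universe u

namespace Groth.Agent.H3.TorsorTriv

open AlgGrp.Action Groth.Agent.H3.GrpQuot

variable {S : Scheme.{u}}

/-- **descent of isomorphisms along a covering of the base**: a morphism of `Over S` which becomes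
an isomorphism after base change to every member of a `K`-covering of `S` is an isomorphism. -/
theorem isIso_of_forall_whiskerLeft (K : Precoverage Scheme.{u}) [K.IsStableUnderBaseChange]
    [(MorphismProperty.isomorphisms Scheme.{u}).IsLocalAtTarget K]
    {A B : Over S} (Ψ : A ⟶ B) (R : Presieve S) (hR : R ∈ K S)
    (h : ∀ ⦃S' : Scheme.{u}⦄ (f : S' ⟶ S), R f → IsIso ((Over.mk f) ◁ Ψ)) : IsIso Ψ := by
  suffices hl : IsIso Ψ.left by
    haveI : IsIso ((Over.forget S).map Ψ) := hl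
    exact isIso_of_reflects_iso Ψ (Over.forget S)
  have hR' : R.pullbackArrows B.hom ∈ K B.left := Precoverage.pullbackArrows_mem B.hom hR
  refine MorphismProperty.IsLocalAtTarget.of_forall_pullbackSnd
    (P := MorphismProperty.isomorphisms Scheme.{u}) (K := K) hR' ?_
  rintro U g _ ⟨Z, f, hf⟩
  haveI := h f hf
  have sq : IsPullback ((Over.mk f) ◁ Ψ).left (snd (Over.mk f) A).left (snd (Over.mk f) B).left
      Ψ.left := (isPullback_whiskerLeft (Over.mk f) Ψ).map (Over.forget S)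
  have e : (snd (Over.mk f) B).left = pullback.snd f B.hom := rfl
  rw [e] at sq
  haveI : IsIso ((Over.mk f) ◁ Ψ).left :=
    (inferInstance : IsIso ((Over.forget S).map ((Over.mk f) ◁ Ψ)))
  have h2 : sq.flip.isoPullback.hom ≫ pullback.snd Ψ.left (pullback.snd f B.hom) =
      ((Over.mk f) ◁ Ψ).left := sq.flip.isoPullback_hom_snd
  change IsIso (pullback.snd Ψ.left (pullback.snd f B.hom))
  haveI : IsIso (sq.flip.isoPullback.hom ≫ pullback.snd Ψ.left (pullback.snd f B.hom)) := by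
    rw [h2]; infer_instance
  exact IsIso.of_isIso_comp_left sq.flip.isoPullback.hom _

variable {G X : Over S} [GrpObj G] (a : AlgGrp.Action G X)

/-- a local trivialisation, on points -/
lemma trivialisation_points {T : Over S} (s : T ⟶ X)
    (hΦ : IsIso (lift ((G ◁ s) ≫ a.act) (snd G T))) {T' : Over S} (t : T' ⟶ T) (x : T' ⟶ X) :
    ∃! g : T' ⟶ G, lift g (t ≫ s) ≫ a.act = x := by
  have hbij := (isIso_iff_yoneda_map_bijective (lift ((G ◁ s) ≫ a.act) (snd G T))).1 hΦ T'
  have hpt : ∀ (g : T' ⟶ G) (t' : T' ⟶ T),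
      lift g t' ≫ lift ((G ◁ s) ≫ a.act) (snd G T) = lift (lift g (t' ≫ s) ≫ a.act) t' := by
    intro g t'
    rw [comp_lift, lift_snd, lift_whiskerLeft_assoc]
  obtain ⟨w, hw⟩ := hbij.2 (lift x t)
  have hw' : w ≫ lift ((G ◁ s) ≫ a.act) (snd G T) = lift x t := hw
  have ew : w = lift (w ≫ fst G T) (w ≫ snd G T) := by
    apply CartesianMonoidalCategory.hom_ext <;> simp
  have h2 : w ≫ snd G T = t := by
    have := congrArg (fun z => z ≫ snd X T) hw'
    simpa using this
  rw [h2] at ew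
  refine ⟨w ≫ fst G T, ?_, ?_⟩
  · have := congrArg (fun z => z ≫ fst X T) hw'
    simp only [Category.assoc, lift_fst] at this
    rw [ew, lift_whiskerLeft_assoc] at this
    simpa using this
  · intro g' hg'
    have : lift g' t = w := by
      apply hbij.1
      change lift g' t ≫ lift ((G ◁ s) ≫ a.act) (snd G T) = w ≫ _
      rw [hw', hpt, hg']
    rw [← this, lift_fst]

/-- over a base where a local trivialisation exists, the action is simply transitive on points -/
lemma simply_transitive {T : Over S} (s : T ⟶ X)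
    (hΦ : IsIso (lift ((G ◁ s) ≫ a.act) (snd G T))) {T' : Over S} (t : T' ⟶ T)
    (x₁ x₂ : T' ⟶ X) : ∃! g : T' ⟶ G, lift g x₂ ≫ a.act = x₁ := by
  obtain ⟨g₁, hg₁, hu₁⟩ := trivialisation_points a s hΦ t x₁
  obtain ⟨g₂, hg₂, -⟩ := trivialisation_points a s hΦ t x₂
  refine ⟨g₁ * g₂⁻¹, ?_, ?_⟩
  · change lift (g₁ * g₂⁻¹) x₂ ≫ a.act = x₁
    rw [← hg₂, ← lift_mul_act, inv_mul_cancel_right, hg₁]
  · intro g hg
    change lift g x₂ ≫ a.act = x₁ at hg
    have : g * g₂ = g₁ := by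
      apply hu₁
      rw [lift_mul_act, hg₂, hg]
    rw [← this, mul_inv_cancel_right]

/-- a `G`-scheme which is trivialised by the members of a covering is a pseudo-torsor -/
theorem isPseudoTorsor_of_local (K : Precoverage Scheme.{u}) [K.IsStableUnderBaseChange]
    [(MorphismProperty.isomorphisms Scheme.{u}).IsLocalAtTarget K]
    (R : Presieve S) (hR : R ∈ K S)
    (h : ∀ ⦃S' : Scheme.{u}⦄ (f : S' ⟶ S), R f →
      ∃ s : Over.mk f ⟶ X, IsIso (lift ((G ◁ s) ≫ a.act) (snd G (Over.mk f)))) :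
    IsIso (lift a.act (snd G X)) := by
  refine isIso_of_forall_whiskerLeft K _ R hR ?_
  intro S' f hf
  obtain ⟨s, hs⟩ := h f hf
  apply isIso_of_yoneda_map_bijective
  intro T'
  have hpt : ∀ (t : T' ⟶ Over.mk f) (g : T' ⟶ G) (x : T' ⟶ X),
      lift t (lift g x) ≫ (Over.mk f ◁ lift a.act (snd G X)) =
        lift t (lift (lift g x ≫ a.act) x) := by
    intro t g x
    rw [lift_whiskerLeft, comp_lift, lift_snd]
  have hdec : ∀ (w : T' ⟶ Over.mk f ⊗ (G ⊗ X)),
      w = lift (w ≫ fst _ _) (lift (w ≫ snd _ _ ≫ fst _ _) (w ≫ snd _ _ ≫ snd _ _)) := by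
    intro w
    apply CartesianMonoidalCategory.hom_ext
    · simp
    · apply CartesianMonoidalCategory.hom_ext <;> simp
  have hdec' : ∀ (w : T' ⟶ Over.mk f ⊗ (X ⊗ X)),
      w = lift (w ≫ fst _ _) (lift (w ≫ snd _ _ ≫ fst _ _) (w ≫ snd _ _ ≫ snd _ _)) := by
    intro w
    apply CartesianMonoidalCategory.hom_ext
    · simp
    · apply CartesianMonoidalCategory.hom_ext <;> simp
  constructor
  · intro w w' hww
    have hww' : w ≫ (Over.mk f ◁ lift a.act (snd G X)) =
        w' ≫ (Over.mk f ◁ lift a.act (snd G X)) := hww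
    rw [hdec w, hdec w', hpt, hpt] at hww'
    have h1 : w ≫ fst _ _ = w' ≫ fst _ _ := by
      have := congrArg (fun z => z ≫ fst _ _) hww'
      simpa using this
    have h3 : w ≫ snd _ _ ≫ snd _ _ = w' ≫ snd _ _ ≫ snd _ _ := by
      have := congrArg (fun z => z ≫ snd _ _ ≫ snd _ _) hww'
      simpa using this
    have h2' : lift (w ≫ snd _ _ ≫ fst _ _) (w ≫ snd _ _ ≫ snd _ _) ≫ a.act =
        lift (w' ≫ snd _ _ ≫ fst _ _) (w' ≫ snd _ _ ≫ snd _ _) ≫ a.act := by
      have := congrArg (fun z => z ≫ snd _ _ ≫ fst _ _) hww'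
      simpa using this
    rw [← h3] at h2'
    have h2 : w ≫ snd _ _ ≫ fst _ _ = w' ≫ snd _ _ ≫ fst _ _ :=
      (simply_transitive a s hs (w ≫ fst _ _) _ (w ≫ snd _ _ ≫ snd _ _)).unique rfl h2'.symm
    rw [hdec w, hdec w', h1, h2, h3]
  · intro y
    obtain ⟨g, hg, -⟩ := simply_transitive a s hs (y ≫ fst _ _) (y ≫ snd _ _ ≫ fst _ _)
      (y ≫ snd _ _ ≫ snd _ _)
    refine ⟨lift (y ≫ fst _ _) (lift g (y ≫ snd _ _ ≫ snd _ _)), ?_⟩
    change lift (y ≫ fst _ _) (lift g (y ≫ snd _ _ ≫ snd _ _)) ≫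
      (Over.mk f ◁ lift a.act (snd G X)) = y
    rw [hpt, hg]
    exact (hdec' y).symm


/-- abstract form of S14445 -/
theorem isTorsorFor_fpqc_iff_local :
    NonAbH1.IsTorsorFor Scheme.fpqcPrecoverage a ↔
      ∃ R ∈ Scheme.fpqcPrecoverage S, ∀ ⦃S' : Scheme.{u}⦄ (f : S' ⟶ S), R f →
        ∃ s : Over.mk f ⟶ X, IsIso (lift ((G ◁ s) ≫ a.act) (snd G (Over.mk f))) := by
  constructor
  · rintro ⟨hΨ, R, hR, hsec⟩
    refine ⟨R, hR, fun S' f hf => ?_⟩
    obtain ⟨s, hs⟩ := hsec f hf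
    exact ⟨Over.homMk s hs, OrbitQuot.isIso_trivialisation a hΨ _⟩
  · rintro ⟨R, hR, h⟩
    refine ⟨isPseudoTorsor_of_local a Scheme.fpqcPrecoverage R hR h, R, hR, fun S' f hf => ?_⟩
    obtain ⟨s, -⟩ := h f hf
    exact ⟨s.left, Over.w s⟩

end Groth.Agent.H3.TorsorTriv
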