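import Mathlib
import Groth.Prelude.Def_RegImm
import Groth.Agent.Lib.Helper2.QReg
import Groth.Agent.Lib.Helper5.QRBC.A
import Groth.Agent.Lib.Helper9.Flat
import Groth.Agent.Lib.Helper1.LimFlat5

set_option autoImplicit false
universe u
open TensorProduct

namespace Groth.Agent.H3.TransReg

variable (A B : Type u) [CommRing A] [CommRing B] [Algebra A B]

/-- for a transversally regular sequence all `B / J ^ m` are flat. -/
theorem flat_quot_pow (rs : List B) (hrs : RegImm.IsTransRegularSeq A B rs) (m : ℕ) :
    Module.Flat A (B ⧸ Ideal.ofList rs ^ m) := by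
  obtain ⟨hreg, hflat⟩ := hrs
  have hq : CAlgX.IsQuasiRegular rs.get := by
    apply Groth.Agent.H2.QReg.isQuasiRegular_of_isWeaklyRegular
    rw [List.ofFn_get]
    exact hreg
  have hJ : Ideal.ofList rs = Ideal.span (Set.range rs.get) := by
    rw [← Groth.Agent.H2.QReg.ofList_ofFn, List.ofFn_get]
  have h1 := hflat rs.length le_rfl
  rw [List.take_length, hJ] at h1
  rw [hJ]
  haveI := h1
  exact Groth.Agent.Lib.Helper5.QRBC.flat_quot_pow rs.get hq m


variable {A B}

attribute [local instance] RestrictScalars.moduleOrig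

/-- the graded-type quotient `Jⁿ / Jᵐ` as the kernel of `B / Jᵐ → B / Jⁿ`. -/
theorem flat_pow_quot_pow (J : Ideal B) (n m : ℕ) (hnm : n ≤ m)
    [Module.Flat A (B ⧸ J ^ n)] [Module.Flat A (B ⧸ J ^ m)] :
    Module.Flat A (RestrictScalars A B
      (↥(J ^ n) ⧸ (Submodule.comap (J ^ n).subtype (J ^ m)))) := by
  have hle : J ^ m ≤ J ^ n := Ideal.pow_le_pow_right hnm
  -- the surjection `B / J ^ m → B / J ^ n`
  let d : (B ⧸ J ^ m) →ₗ[A] (B ⧸ J ^ n) :=
    (Submodule.mapQ (J ^ m) (J ^ n) LinearMap.id hle).restrictScalars A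
  have hd : Function.Surjective d := by
    intro y
    obtain ⟨b, rfl⟩ := Submodule.mkQ_surjective _ y
    exact ⟨(J ^ m).mkQ b, rfl⟩
  haveI := Groth.Agent.H9.flat_ker_of_surjective d hd
  -- the inclusion of `J ^ n / J ^ m`
  let φB : (↥(J ^ n) ⧸ (Submodule.comap (J ^ n).subtype (J ^ m))) →ₗ[B] (B ⧸ J ^ m) :=
    Submodule.mapQ (Submodule.comap (J ^ n).subtype (J ^ m)) (J ^ m) (J ^ n).subtype le_rfl
  have hφinj : Function.Injective φB := by
    rw [injective_iff_map_eq_zero]
    intro z hz
    obtain ⟨x, rfl⟩ := Submodule.mkQ_surjective _ z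
    rw [Submodule.mkQ_apply, Submodule.mapQ_apply, Submodule.Quotient.mk_eq_zero] at hz
    rw [Submodule.mkQ_apply, Submodule.Quotient.mk_eq_zero]
    exact hz
  let φ : RestrictScalars A B (↥(J ^ n) ⧸ (Submodule.comap (J ^ n).subtype (J ^ m))) →ₗ[A]
      LinearMap.ker d :=
    LinearMap.codRestrict (LinearMap.ker d)
      ((show RestrictScalars A B (↥(J ^ n) ⧸ (Submodule.comap (J ^ n).subtype (J ^ m))) →ₗ[B]
        (B ⧸ J ^ m) from φB).restrictScalars A) (by
      intro z
      obtain ⟨x, rfl⟩ := Submodule.mkQ_surjective _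
        (show (↥(J ^ n) ⧸ (Submodule.comap (J ^ n).subtype (J ^ m))) from z)
      rw [LinearMap.mem_ker]
      change Submodule.mapQ (J ^ m) (J ^ n) LinearMap.id hle
        (Submodule.mapQ (Submodule.comap (J ^ n).subtype (J ^ m)) (J ^ m) (J ^ n).subtype le_rfl
          (Submodule.Quotient.mk x)) = 0
      rw [Submodule.mapQ_apply, Submodule.mapQ_apply, Submodule.Quotient.mk_eq_zero]
      exact x.2)
  have hφ : Function.Bijective φ := by
    constructor
    · intro z z' h
      have := congrArg Subtype.val h
      exact hφinj this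
    · rintro ⟨y, hy⟩
      obtain ⟨b, rfl⟩ := Submodule.mkQ_surjective _ y
      have hb : b ∈ J ^ n := by
        have : Submodule.mapQ (J ^ m) (J ^ n) LinearMap.id hle (Submodule.Quotient.mk b) = 0 := hy
        rwa [Submodule.mapQ_apply, Submodule.Quotient.mk_eq_zero] at this
      refine ⟨(Submodule.Quotient.mk (⟨b, hb⟩ : ↥(J ^ n)) :
        ↥(J ^ n) ⧸ (Submodule.comap (J ^ n).subtype (J ^ m))), ?_⟩
      apply Subtype.ext
      rfl
  exact Module.Flat.of_linearEquiv (LinearEquiv.ofBijective φ hφ)

/-- localisation (over `B`) preserves flatness over `A`, `RestrictScalars` form. -/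
theorem flat_restrictScalars_localizedModule {M : Type u} [AddCommGroup M] [Module B M]
    (h : Module.Flat A (RestrictScalars A B M)) (T : Submonoid B) :
    Module.Flat A (RestrictScalars A B (LocalizedModule T M)) := by
  letI : Module A M := Module.compHom M (algebraMap A B)
  haveI : IsScalarTower A B M := IsScalarTower.of_algebraMap_smul fun _ _ => rfl
  haveI : Module.Flat A M := h
  haveI := Groth.Agent.H1.LimFlat.flat_localizedModule_of_flat (R := A) (B := B) (M := M) T
  let e' : RestrictScalars A B (LocalizedModule T M) ≃ₗ[A] LocalizedModule T M :=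
    { toFun := fun x => x
      map_add' := fun x y => rfl
      map_smul' := fun a x => by
        change (algebraMap A B a) • (show LocalizedModule T M from x) = a • _
        rw [algebraMap_smul]
      invFun := fun x => x
      left_inv := fun x => rfl
      right_inv := fun x => rfl }
  exact Module.Flat.of_linearEquiv e'

/-- an ideal with flat quotient in a flat algebra is flat; so are its localisations. -/
theorem flat_localizedModule_ideal (I : Ideal B) [Module.Flat A B] [Module.Flat A (B ⧸ I)]
    (T : Submonoid B) : Module.Flat A (RestrictScalars A B (LocalizedModule T ↥I)) := by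
  let d : B →ₗ[A] (B ⧸ I) := (Submodule.mkQ I).restrictScalars A
  have hd : Function.Surjective d := Submodule.mkQ_surjective I
  haveI hk := Groth.Agent.H9.flat_ker_of_surjective d hd
  have hI : Module.Flat A (RestrictScalars A B ↥I) := by
    let e : RestrictScalars A B ↥I ≃ₗ[A] LinearMap.ker d :=
      { toFun := fun x => ⟨(show ↥I from x).1, by
          rw [LinearMap.mem_ker]
          exact (Submodule.Quotient.mk_eq_zero I).mpr (show ↥I from x).2⟩
        map_add' := fun x y => rfl
        map_smul' := fun a x => by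
          apply Subtype.ext
          change ((algebraMap A B a) • (show ↥I from x) : ↥I).1 = a • (show ↥I from x).1
          rw [Submodule.coe_smul, algebraMap_smul]
        invFun := fun y => (⟨y.1, by
          have := y.2
          rw [LinearMap.mem_ker] at this
          exact (Submodule.Quotient.mk_eq_zero I).mp this⟩ : ↥I)
        left_inv := fun x => rfl
        right_inv := fun y => rfl }
    exact Module.Flat.of_linearEquiv e
  exact flat_restrictScalars_localizedModule hI T


theorem flat_self (rs : List B) (hrs : RegImm.IsTransRegularSeq A B rs) : Module.Flat A B := by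
  have h := hrs.2 0 (Nat.zero_le _)
  rw [List.take_zero, Ideal.ofList_nil] at h
  haveI := h
  exact Module.Flat.of_linearEquiv
    ((Submodule.quotEquivOfEqBot (⊥ : Ideal B) rfl).restrictScalars A).symm

/-- **S5071** -/
theorem main (rs : List B) (hrs : RegImm.IsTransRegularSeq A B rs) (n m : ℕ) (hnm : n < m) :
    Module.Flat A (RestrictScalars A B
      (↥(Ideal.ofList rs ^ n) ⧸ (Submodule.comap (Ideal.ofList rs ^ n).subtype (Ideal.ofList rs ^ m)))) ∧
      ∀ (q : Ideal B) [q.IsPrime], Ideal.ofList rs ≤ q →
        Module.Flat A (RestrictScalars A B (LocalizedModule q.primeCompl ↥(Ideal.ofList rs ^ n))) := by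
  haveI hn := flat_quot_pow A B rs hrs n
  haveI hm := flat_quot_pow A B rs hrs m
  haveI := flat_self rs hrs
  exact ⟨flat_pow_quot_pow (Ideal.ofList rs) n m hnm.le,
    fun q _ _ => flat_localizedModule_ideal (Ideal.ofList rs ^ n) q.primeCompl⟩

end Groth.Agent.H3.TransReg
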