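import Mathlib

/-!
# Transcendence degree and base change of fields (helper3)

`T` is a pushout `k' ⊗[k] K` of fields.  A residue field `L` of `T` has
`trdeg k' L ≤ trdeg k K`, and some residue field reaches equality.
-/

set_option autoImplicit false
universe u

namespace Groth.Agent.H3.TrdegBC

open TensorProduct Cardinal

variable {k K k' T : Type u} [Field k] [Field K] [Field k'] [CommRing T]
  [Algebra k K] [Algebra k k'] [Algebra K T] [Algebra k' T] [Algebra k T]
  [IsScalarTower k K T] [IsScalarTower k k' T] [Algebra.IsPushout k k' K T]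

/-- Upper bound: a field generated by the image of `T = k' ⊗[k] K` has transcendence degree
over `k'` at most that of `K` over `k`. -/
theorem trdeg_le_of_gen {L : Type u} [Field L] [Algebra k' L] (ψ : T →ₐ[k'] L)
    (hgen : ∀ z : L, ∃ u v : T, ψ v ≠ 0 ∧ z = ψ u / ψ v) :
    Algebra.trdeg k' L ≤ Algebra.trdeg k K := by
  obtain ⟨s, hs⟩ := exists_isTranscendenceBasis k K
  let c : K →+* L := ψ.toRingHom.comp (algebraMap K T)
  let s' : Set L := c '' s
  let F' := IntermediateField.adjoin k' s'
  have hck : ∀ z : k, c (algebraMap k K z) = algebraMap k' L (algebraMap k k' z) := by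
    intro z
    show ψ (algebraMap K T (algebraMap k K z)) = _
    rw [← IsScalarTower.algebraMap_apply k K T, IsScalarTower.algebraMap_apply k k' T, ψ.commutes]
  have hR₀ : ∀ r ∈ Algebra.adjoin k (Set.range ((↑) : s → K)), c r ∈ F' := by
    intro r hr
    induction hr using Algebra.adjoin_induction with
    | mem x hx =>
      obtain ⟨b, rfl⟩ := hx
      exact IntermediateField.subset_adjoin _ _ ⟨b, b.2, rfl⟩
    | algebraMap z => rw [hck]; exact F'.algebraMap_mem _
    | add x y _ _ hx hy => rw [map_add]; exact F'.add_mem hx hy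
    | mul x y _ _ hx hy => rw [map_mul]; exact F'.mul_mem hx hy
  let R₀ := Algebra.adjoin k (Set.range ((↑) : s → K))
  let ψ₀ : R₀ →+* F' := (c.comp R₀.val.toRingHom).codRestrict F' (fun r => hR₀ r r.2)
  have hψ₀ : Function.Injective ψ₀ := fun a b h =>
    Subtype.ext (c.injective (congrArg Subtype.val h))
  haveI : Algebra.IsAlgebraic R₀ K := hs.isAlgebraic
  have hcalg : ∀ a : K, IsAlgebraic F' (c a) := fun a =>
    (Algebra.IsAlgebraic.isAlgebraic (R := R₀) a).ringHom_of_comp_eq ψ₀ c hψ₀ (by ext r; rfl)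
  have hTalg : ∀ u : T, IsAlgebraic F' (ψ u) := by
    intro u
    obtain ⟨w, rfl⟩ := (Algebra.IsPushout.equiv k k' K T).surjective u
    induction w using TensorProduct.induction_on with
    | zero => rw [map_zero, map_zero]; exact isAlgebraic_zero
    | tmul a b =>
      rw [Algebra.IsPushout.equiv_tmul, map_mul, ψ.commutes]
      exact (isAlgebraic_algebraMap (⟨algebraMap k' L a, F'.algebraMap_mem a⟩ : F')).mul (hcalg b)
    | add x y hx hy => rw [map_add, map_add]; exact hx.add hy
  haveI : Algebra.IsAlgebraic F' L := ⟨fun z => by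
    obtain ⟨u, v, hv, rfl⟩ := hgen z
    rw [div_eq_mul_inv]
    exact (hTalg u).mul (hTalg v).inv⟩
  haveI : Algebra.IsAlgebraic (Algebra.adjoin k' s') L :=
    IntermediateField.isAlgebraic_adjoin_iff_top.mp ‹_›
  calc Algebra.trdeg k' L ≤ #s' := Algebra.IsAlgebraic.trdeg_le_cardinalMk k' s'
    _ ≤ #s := Cardinal.mk_image_le
    _ = Algebra.trdeg k K := hs.cardinalMk_eq_trdeg

/-- Lower bound: some prime of `T = k' ⊗[k] K` has residue ring of transcendence degree over `k'`
at least that of `K` over `k`. -/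
theorem exists_prime_trdeg_le :
    ∃ P : Ideal T, P.IsPrime ∧ Algebra.trdeg k K ≤ Algebra.trdeg k' (T ⧸ P) := by
  obtain ⟨s, hs⟩ := exists_isTranscendenceBasis k K
  have hx : AlgebraicIndependent k ((↑) : s → K) := hs.1
  let e := Algebra.IsPushout.equiv k k' K T
  let θ₁ : k' ⊗[k] MvPolynomial s k →ₐ[k'] k' ⊗[k] K :=
    Algebra.TensorProduct.map (AlgHom.id k' k') (MvPolynomial.aeval ((↑) : s → K))
  have hθ₁ : Function.Injective θ₁ := by
    have h1 : (θ₁ : k' ⊗[k] MvPolynomial s k → k' ⊗[k] K) =
        (MvPolynomial.aeval ((↑) : s → K)).toLinearMap.lTensor k' := by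
      ext z
      induction z using TensorProduct.induction_on with
      | zero => simp
      | tmul a b => simp [θ₁]
      | add x y hx hy => rw [map_add, map_add, hx, hy]
    rw [h1]
    exact Module.Flat.lTensor_preserves_injective_linearMap _ hx
  let θ : MvPolynomial s k' →ₐ[k'] T := MvPolynomial.aeval (fun b : s => algebraMap K T b)
  have hθ : θ = (e : k' ⊗[k] K →ₐ[k'] T).comp
      (θ₁.comp (MvPolynomial.algebraTensorAlgEquiv k k').symm.toAlgHom) := by
    apply MvPolynomial.algHom_ext
    intro b
    simp [θ, θ₁, e, Algebra.IsPushout.equiv_tmul]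
  have hθinj : Function.Injective θ := by
    rw [hθ]
    exact e.injective.comp (hθ₁.comp (AlgEquiv.injective _))
  obtain ⟨P, hP, -, hdis⟩ := Ideal.exists_le_prime_disjoint (⊥ : Ideal T)
    (Submonoid.map θ (nonZeroDivisors (MvPolynomial s k'))) (by
      rw [Set.disjoint_left]
      rintro x hx0 ⟨d, hd, rfl⟩
      have : θ d = 0 := hx0
      rw [← map_zero θ] at this
      exact nonZeroDivisors.ne_zero hd (hθinj this))
  refine ⟨P, hP, ?_⟩
  have hind : AlgebraicIndependent k' (fun b : s => Ideal.Quotient.mk P (algebraMap K T b)) := by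
    rw [AlgebraicIndependent]
    have h2 : (MvPolynomial.aeval fun b : s => Ideal.Quotient.mk P (algebraMap K T b)) =
        (Ideal.Quotient.mkₐ k' P).comp θ := by
      apply MvPolynomial.algHom_ext
      intro b
      simp [θ]
    rw [h2, injective_iff_map_eq_zero]
    intro d hd
    by_contra hne
    have hd' : θ d ∈ P := Ideal.Quotient.eq_zero_iff_mem.mp hd
    exact Set.disjoint_left.mp hdis hd' ⟨d, mem_nonZeroDivisors_of_ne_zero hne, rfl⟩
  calc Algebra.trdeg k K = #s := hs.cardinalMk_eq_trdeg.symm
    _ ≤ Algebra.trdeg k' (T ⧸ P) := hind.cardinalMk_le_trdeg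

end Groth.Agent.H3.TrdegBC
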