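import Mathlib

/-!
# Dimension of quotients under a flat local homomorphism with one-point closed fibre (helper3)
-/

set_option autoImplicit false
universe u

namespace Groth.Agent.H3.TrdegBC

open IsLocalRing

theorem mk_mem_maximalIdeal_iff {R : Type*} [CommRing R] [IsLocalRing R] (I : Ideal R)
    [IsLocalRing (R ⧸ I)] (x : R) :
    Ideal.Quotient.mk I x ∈ maximalIdeal (R ⧸ I) ↔ x ∈ maximalIdeal R := by
  haveI : IsLocalHom (Ideal.Quotient.mk I) :=
    IsLocalHom.of_surjective _ Ideal.Quotient.mk_surjective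
  have h := ((local_hom_TFAE (Ideal.Quotient.mk I)).out 0 4 rfl rfl).mp inferInstance
  rw [← h]
  rfl

theorem ringKrullDim_quotient_eq_coheight {A : Type*} [CommRing A] (p : Ideal A)
    [hp : p.IsPrime] :
    ringKrullDim (A ⧸ p) = Order.coheight (⟨p, hp⟩ : PrimeSpectrum A) := by
  rw [ringKrullDim_quotient, Order.coheight_eq_krullDim_Ici]
  have : PrimeSpectrum.zeroLocus (p : Set A) = Set.Ici (⟨p, hp⟩ : PrimeSpectrum A) := by
    ext q
    rw [PrimeSpectrum.mem_zeroLocus, Set.mem_Ici]
    rfl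
  rw [this]

variable {A A' : Type u} [CommRing A] [CommRing A'] [IsLocalRing A] [IsLocalRing A']
  [Algebra A A']

/-- If the closed fibre of the local homomorphism `A → A'` is a single point, quotients of `A'` by
primes have dimension at most that of the quotient of `A` by the contraction. -/
theorem dim_quotient_le [IsNoetherianRing A] [IsNoetherianRing A']
    (hloc : (maximalIdeal A').comap (algebraMap A A') = maximalIdeal A)
    (hfib : ∀ q : Ideal A', q.IsPrime → q.comap (algebraMap A A') = maximalIdeal A →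
      q = maximalIdeal A')
    (p' : Ideal A') [hp' : p'.IsPrime] :
    ringKrullDim (A' ⧸ p') ≤ ringKrullDim (A ⧸ p'.comap (algebraMap A A')) := by
  set p := p'.comap (algebraMap A A') with hp
  haveI : p.IsPrime := Ideal.IsPrime.comap _
  set J := p.map (algebraMap A A') with hJdef
  have hJ : J ≤ p' := Ideal.map_comap_le
  haveI : Nontrivial (A ⧸ p) := Ideal.Quotient.nontrivial_iff.mpr (Ideal.IsPrime.ne_top inferInstance)
  haveI : Nontrivial (A' ⧸ J) :=
    Ideal.Quotient.nontrivial_iff.mpr (ne_top_of_le_ne_top hp'.ne_top hJ)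
  haveI : IsLocalRing (A ⧸ p) :=
    IsLocalRing.of_surjective' (Ideal.Quotient.mk p) Ideal.Quotient.mk_surjective
  haveI : IsLocalRing (A' ⧸ J) :=
    IsLocalRing.of_surjective' (Ideal.Quotient.mk J) Ideal.Quotient.mk_surjective
  have h1 : ringKrullDim (A' ⧸ p') ≤ ringKrullDim (A' ⧸ J) :=
    ringKrullDim_le_of_surjective (Ideal.Quotient.factor hJ) (Ideal.Quotient.factor_surjective hJ)
  refine h1.trans ?_
  rw [← IsLocalRing.maximalIdeal_height_eq_ringKrullDim,
    ← IsLocalRing.maximalIdeal_height_eq_ringKrullDim]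
  -- the maximal ideal of `A'/J` lies over that of `A/p`
  have hle : maximalIdeal (A ⧸ p) ≤ (maximalIdeal (A' ⧸ J)).comap (algebraMap (A ⧸ p) (A' ⧸ J)) := by
    intro r hr
    obtain ⟨a, rfl⟩ := Ideal.Quotient.mk_surjective r
    rw [mk_mem_maximalIdeal_iff] at hr
    rw [Ideal.mem_comap]
    show Ideal.Quotient.mk J (algebraMap A A' a) ∈ _
    rw [mk_mem_maximalIdeal_iff, ← Ideal.mem_comap, hloc]
    exact hr
  haveI hlo : (maximalIdeal (A' ⧸ J)).LiesOver (maximalIdeal (A ⧸ p)) := ⟨by
    have hne : (maximalIdeal (A' ⧸ J)).comap (algebraMap (A ⧸ p) (A' ⧸ J)) ≠ ⊤ :=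
      (Ideal.IsPrime.comap (algebraMap (A ⧸ p) (A' ⧸ J))).ne_top
    exact (maximalIdeal.isMaximal (A ⧸ p)).eq_of_le hne hle⟩
  have h2 := Ideal.height_le_height_add_of_liesOver (maximalIdeal (A ⧸ p))
    (maximalIdeal (A' ⧸ J))
  set J' := (maximalIdeal (A ⧸ p)).map (algebraMap (A ⧸ p) (A' ⧸ J)) with hJ'
  have hJ'le : J' ≤ maximalIdeal (A' ⧸ J) := Ideal.map_le_iff_le_comap.mpr hle
  -- the spectrum of the closed fibre is a point
  let π : A' →+* (A' ⧸ J) ⧸ J' := (Ideal.Quotient.mk J').comp (Ideal.Quotient.mk J)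
  have hπ : Function.Surjective π :=
    Ideal.Quotient.mk_surjective.comp Ideal.Quotient.mk_surjective
  have hq : ∀ Q : Ideal ((A' ⧸ J) ⧸ J'), Q.IsPrime → Q.comap π = maximalIdeal A' := by
    intro Q hQ
    haveI : (Q.comap π).IsPrime := Ideal.IsPrime.comap π
    apply hfib _ inferInstance
    have hne : (Q.comap π).comap (algebraMap A A') ≠ ⊤ :=
      (Ideal.IsPrime.comap (algebraMap A A')).ne_top
    refine ((maximalIdeal.isMaximal A).eq_of_le hne ?_).symm
    intro a ha
    rw [Ideal.mem_comap, Ideal.mem_comap]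
    have h0 : π (algebraMap A A' a) = 0 := by
      show Ideal.Quotient.mk J' (Ideal.Quotient.mk J (algebraMap A A' a)) = 0
      rw [Ideal.Quotient.eq_zero_iff_mem]
      have : Ideal.Quotient.mk J (algebraMap A A' a) =
          algebraMap (A ⧸ p) (A' ⧸ J) (Ideal.Quotient.mk p a) := rfl
      rw [this]
      exact Ideal.mem_map_of_mem _ ((mk_mem_maximalIdeal_iff p a).mpr ha)
    rw [h0]
    exact Q.zero_mem
  have h3 : ((maximalIdeal (A' ⧸ J)).map (Ideal.Quotient.mk J')).height = 0 := by
    haveI hQp : ((maximalIdeal (A' ⧸ J)).map (Ideal.Quotient.mk J')).IsPrime :=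
      Ideal.map_isPrime_of_surjective Ideal.Quotient.mk_surjective
        (by rw [Ideal.mk_ker]; exact hJ'le)
    rw [Ideal.height_eq_zero_iff]
    refine ⟨⟨hQp, bot_le⟩, ?_⟩
    rintro Q' ⟨hQ', -⟩ -
    have : Q'.comap π = ((maximalIdeal (A' ⧸ J)).map (Ideal.Quotient.mk J')).comap π := by
      rw [hq Q' hQ', hq _ hQp]
    exact (Ideal.comap_injective_of_surjective π hπ this).ge
  rw [h3, add_zero] at h2
  exact_mod_cast h2

/-- A faithfully flat extension has, over every prime, a prime whose quotient has at least the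
same dimension. -/
theorem exists_prime_dim_quotient_ge [IsNoetherianRing A] [Module.FaithfullyFlat A A']
    (p : Ideal A) [hp : p.IsPrime] :
    ∃ p' : Ideal A', p'.IsPrime ∧ p'.comap (algebraMap A A') = p ∧
      ringKrullDim (A ⧸ p) ≤ ringKrullDim (A' ⧸ p') := by
  have hfin : Order.coheight (⟨p, hp⟩ : PrimeSpectrum A) < ⊤ := by
    rw [← WithBot.coe_lt_coe]
    exact lt_of_le_of_lt (Order.coheight_le_krullDim _) ringKrullDim_lt_top
  obtain ⟨n, hn⟩ := ENat.ne_top_iff_exists.mp hfin.ne
  obtain ⟨l, hlhead, hllen⟩ := Order.exists_series_of_coheight_eq_coe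
    (⟨p, hp⟩ : PrimeSpectrum A) hn.symm
  obtain ⟨Q, hQ⟩ := PrimeSpectrum.comap_surjective_of_faithfullyFlat (A := A) (B := A') l.last
  haveI : Q.asIdeal.LiesOver l.last.asIdeal := ⟨by rw [← hQ]; rfl⟩
  obtain ⟨L, hLlen, hLlast, spec⟩ := Ideal.exists_ltSeries_of_hasGoingDown l Q.asIdeal
  have hhead : PrimeSpectrum.comap (algebraMap A A') L.head = l.head := by
    rw [← L.toList_getElem_zero_eq_head, ← l.toList_getElem_zero_eq_head]
    have : l.toList[0] = (PrimeSpectrum.comap (algebraMap A A')) L.toList[0] := by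
      rw [List.getElem_map_rev (PrimeSpectrum.comap (algebraMap A A')),
        List.getElem_of_eq spec.symm _]
    exact this.symm
  refine ⟨L.head.asIdeal, L.head.2, ?_, ?_⟩
  · have := congrArg PrimeSpectrum.asIdeal hhead
    rw [hlhead] at this
    exact this
  · rw [ringKrullDim_quotient_eq_coheight, ringKrullDim_quotient_eq_coheight, ← hn]
    have h1 : (L.length : ℕ∞) ≤ Order.coheight L.head := Order.length_le_coheight_head
    rw [hLlen, hllen] at h1
    exact_mod_cast h1

end Groth.Agent.H3.TrdegBC
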