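import Mathlib
import Groth.Agent.Lib.Helper3.TrdegBCA

/-!
# Transcendence degrees of residue fields of points of a fibre product (helper3)
-/

set_option autoImplicit false
universe u

namespace Groth.Agent.H3.TrdegBC

open CategoryTheory CategoryTheory.Limits AlgebraicGeometry AlgebraicGeometry.Scheme
  AlgebraicGeometry.Scheme.Pullback

variable {X Y S : Scheme.{u}} {f : X ⟶ S} {g : Y ⟶ S}

/-- The map `κ(s) → κ(x)` of a triplet. -/
noncomputable abbrev homL (T : Triplet f g) : S.residueField T.s ⟶ X.residueField T.x :=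
  (S.residueFieldCongr T.hx).inv ≫ f.residueFieldMap T.x

/-- The map `κ(s) → κ(y)` of a triplet. -/
noncomputable abbrev homR (T : Triplet f g) : S.residueField T.s ⟶ Y.residueField T.y :=
  (S.residueFieldCongr T.hy).inv ≫ g.residueFieldMap T.y

theorem isPushout_triplet (T : Triplet f g) :
    letI : Algebra (S.residueField T.s) (X.residueField T.x) := (homL T).hom.toAlgebra
    letI : Algebra (S.residueField T.s) (Y.residueField T.y) := (homR T).hom.toAlgebra
    letI : Algebra (X.residueField T.x) T.tensor := T.tensorInl.hom.toAlgebra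
    letI : Algebra (Y.residueField T.y) T.tensor := T.tensorInr.hom.toAlgebra
    letI : Algebra (S.residueField T.s) T.tensor := (homL T ≫ T.tensorInl).hom.toAlgebra
    letI : IsScalarTower (S.residueField T.s) (X.residueField T.x) T.tensor :=
      IsScalarTower.of_algebraMap_eq' rfl
    letI : IsScalarTower (S.residueField T.s) (Y.residueField T.y) T.tensor :=
      IsScalarTower.of_algebraMap_eq'
        (congrArg CommRingCat.Hom.hom (pushout.condition (f := homL T) (g := homR T)))
    Algebra.IsPushout (S.residueField T.s) (Y.residueField T.y) (X.residueField T.x) T.tensor := by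
  letI : Algebra (S.residueField T.s) (X.residueField T.x) := (homL T).hom.toAlgebra
  letI : Algebra (S.residueField T.s) (Y.residueField T.y) := (homR T).hom.toAlgebra
  letI : Algebra (X.residueField T.x) T.tensor := T.tensorInl.hom.toAlgebra
  letI : Algebra (Y.residueField T.y) T.tensor := T.tensorInr.hom.toAlgebra
  letI : Algebra (S.residueField T.s) T.tensor := (homL T ≫ T.tensorInl).hom.toAlgebra
  letI : IsScalarTower (S.residueField T.s) (X.residueField T.x) T.tensor :=
    IsScalarTower.of_algebraMap_eq' rfl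
  letI : IsScalarTower (S.residueField T.s) (Y.residueField T.y) T.tensor :=
    IsScalarTower.of_algebraMap_eq'
      (congrArg CommRingCat.Hom.hom (pushout.condition (f := homL T) (g := homR T)))
  exact CommRingCat.isPushout_iff_isPushout.mp (IsPushout.of_hasPushout (homL T) (homR T)).flip

/-- Every element of the residue field of a point of the fibre product is a quotient of images
of elements of `κ(x) ⊗ κ(y)`. -/
def GenProp (t : ↑(pullback f g)) : Prop :=
  ∀ z : (pullback f g).residueField t, ∃ u v : (Triplet.ofPoint t).tensor,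
    (ofPointTensor t).hom v ≠ 0 ∧ z = (ofPointTensor t).hom u / (ofPointTensor t).hom v

theorem genProp_specTensorTo (T : Triplet f g) (p : Spec T.tensor) :
    GenProp (T.SpecTensorTo p) := by
  set t := T.SpecTensorTo p with ht
  let ρ := Hom.residueFieldMap T.SpecTensorTo p
  let φ := ofPointTensor t
  let tc := (Triplet.tensorCongr (T.ofPoint_SpecTensorTo p).symm).hom
  let iso := Spec.residueFieldIso T.tensor p
  have E := Triplet.Spec_ofPointTensor_SpecTensorTo T p
  have E2 : tc ≫ φ ≫ ρ =
      CommRingCat.ofHom (algebraMap T.tensor p.asIdeal.ResidueField) ≫ iso.inv := by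
    apply Spec.map_injective
    rw [Spec.map_comp, Spec.map_comp, Spec.map_comp,
      Spec.map_residueFieldIso_inv_eq_fromSpecResidueField, ← E, Category.assoc]
  have hρ : Function.Injective ρ.hom := ρ.hom.injective
  have hiso : Function.Injective iso.inv.hom :=
    (ConcreteCategory.bijective_of_isIso iso.inv).1
  have key : ∀ u : T.tensor, ρ.hom (φ.hom (tc.hom u)) =
      iso.inv.hom (algebraMap T.tensor p.asIdeal.ResidueField u) := fun u =>
    congrArg (fun m : T.tensor ⟶ (Spec T.tensor).residueField p => m.hom u) E2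
  intro z
  obtain ⟨⟨a, b⟩, hab⟩ := IsLocalization.surj (nonZeroDivisors (T.tensor ⧸ p.asIdeal))
    (iso.hom.hom (ρ.hom z))
  obtain ⟨u, rfl⟩ := Ideal.Quotient.mk_surjective a
  obtain ⟨v, hv⟩ := Ideal.Quotient.mk_surjective b.1
  have hb0 : algebraMap (T.tensor ⧸ p.asIdeal) p.asIdeal.ResidueField b.1 ≠ 0 := by
    intro h0
    exact nonZeroDivisors.ne_zero b.2
      ((IsFractionRing.injective (T.tensor ⧸ p.asIdeal) p.asIdeal.ResidueField)
        (h0.trans (map_zero _).symm))
  have hmk : ∀ w : T.tensor, algebraMap (T.tensor ⧸ p.asIdeal) p.asIdeal.ResidueField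
      (Ideal.Quotient.mk p.asIdeal w) = algebraMap T.tensor p.asIdeal.ResidueField w :=
    fun w => Ideal.algebraMap_quotient_residueField_mk p.asIdeal w
  rw [← hv, hmk, hmk] at hab
  rw [← hv, hmk] at hb0
  have h1 : iso.inv.hom (iso.hom.hom (ρ.hom z)) = ρ.hom z :=
    congrArg (fun m : (Spec T.tensor).residueField p ⟶ (Spec T.tensor).residueField p =>
      m.hom (ρ.hom z)) iso.hom_inv_id
  have h2 : ρ.hom z * ρ.hom (φ.hom (tc.hom v)) = ρ.hom (φ.hom (tc.hom u)) := by
    rw [key, key, ← h1, ← map_mul, hab]
  have h3 : z * φ.hom (tc.hom v) = φ.hom (tc.hom u) := by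
    apply hρ
    rw [map_mul, h2]
  have h4 : φ.hom (tc.hom v) ≠ 0 := by
    intro h0
    apply hb0
    apply hiso
    rw [← key, h0, map_zero, map_zero]
  exact ⟨tc.hom u, tc.hom v, h4, eq_div_of_mul_eq h4 h3⟩

theorem genProp (t : ↑(pullback f g)) : GenProp t :=
  (SpecTensorTo_SpecOfPoint t) ▸ genProp_specTensorTo (Triplet.ofPoint t) (SpecOfPoint t)

end Groth.Agent.H3.TrdegBC
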