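import Mathlib
import Groth.Agent.Lib.Helper3.TrdegBCC

/-!
# Transcendence degrees of residue fields of points of a fibre product, II (helper3)
-/

set_option autoImplicit false
set_option linter.style.haveILetI false
universe u

namespace Groth.Agent.H3.TrdegBC

open CategoryTheory CategoryTheory.Limits AlgebraicGeometry AlgebraicGeometry.Scheme
  AlgebraicGeometry.Scheme.Pullback

variable {X Y S : Scheme.{u}} {f : X ⟶ S} {g : Y ⟶ S}

theorem homL_ofPoint (t : ↑(pullback f g)) :
    homL (Triplet.ofPoint t) = f.residueFieldMap ((pullback.fst f g) t) := by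
  unfold homL
  have h : S.residueFieldCongr (Triplet.ofPoint t).hx = Iso.refl _ := residueFieldCongr_refl
  rw [h]
  exact Category.id_comp _

/-- Upper bound: the residue field extension of the second projection at a point of the fibre
product has transcendence degree at most that of `f` at the image point. -/
theorem trdeg_snd_le (t : ↑(pullback f g)) :
    @Algebra.trdeg (Y.residueField ((pullback.snd f g) t)) ((pullback f g).residueField t) _ _
        ((pullback.snd f g).residueFieldMap t).hom.toAlgebra ≤
      @Algebra.trdeg (S.residueField (f ((pullback.fst f g) t)))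
        (X.residueField ((pullback.fst f g) t)) _ _
        (f.residueFieldMap ((pullback.fst f g) t)).hom.toAlgebra := by
  rw [← homL_ofPoint t]
  let T := Triplet.ofPoint t
  letI : Algebra (S.residueField T.s) (X.residueField T.x) := (homL T).hom.toAlgebra
  letI : Algebra (S.residueField T.s) (Y.residueField T.y) := (homR T).hom.toAlgebra
  letI : Algebra (X.residueField T.x) T.tensor := T.tensorInl.hom.toAlgebra
  letI : Algebra (Y.residueField T.y) T.tensor := T.tensorInr.hom.toAlgebra
  letI : Algebra (S.residueField T.s) T.tensor := (homL T ≫ T.tensorInl).hom.toAlgebra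
  letI : IsScalarTower (S.residueField T.s) (X.residueField T.x) T.tensor :=
    IsScalarTower.of_algebraMap_eq' rfl
  letI : IsScalarTower (S.residueField T.s) (Y.residueField T.y) T.tensor :=
    IsScalarTower.of_algebraMap_eq'
      (congrArg CommRingCat.Hom.hom (pushout.condition (f := homL T) (g := homR T)))
  haveI := isPushout_triplet T
  letI : Algebra (Y.residueField T.y) ((pullback f g).residueField t) :=
    ((pullback.snd f g).residueFieldMap t).hom.toAlgebra
  let ψ : T.tensor →ₐ[Y.residueField T.y] (pullback f g).residueField t :=
    { (ofPointTensor t).hom with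
      commutes' := fun r => congrArg
        (fun m : Y.residueField T.y ⟶ (pullback f g).residueField t => m.hom r)
        (pushout.inr_desc _ _ _) }
  exact trdeg_le_of_gen (k := S.residueField T.s) (K := X.residueField T.x)
    (k' := Y.residueField T.y) (T := T.tensor) ψ (genProp t)

/-- The lower bound property of a prime of `κ(x) ⊗ κ(y)`. -/
def LowerProp (σ : Σ T : Triplet f g, Spec T.tensor) : Prop :=
  letI : Algebra (S.residueField σ.1.s) (X.residueField σ.1.x) := (homL σ.1).hom.toAlgebra
  letI : Algebra (Y.residueField σ.1.y) σ.1.tensor := σ.1.tensorInr.hom.toAlgebra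
  Algebra.trdeg (S.residueField σ.1.s) (X.residueField σ.1.x) ≤
    Algebra.trdeg (Y.residueField σ.1.y) (σ.1.tensor ⧸ σ.2.asIdeal)

theorem exists_lowerProp (T : Triplet f g) : ∃ p : Spec T.tensor, LowerProp ⟨T, p⟩ := by
  letI : Algebra (S.residueField T.s) (X.residueField T.x) := (homL T).hom.toAlgebra
  letI : Algebra (S.residueField T.s) (Y.residueField T.y) := (homR T).hom.toAlgebra
  letI : Algebra (X.residueField T.x) T.tensor := T.tensorInl.hom.toAlgebra
  letI : Algebra (Y.residueField T.y) T.tensor := T.tensorInr.hom.toAlgebra
  letI : Algebra (S.residueField T.s) T.tensor := (homL T ≫ T.tensorInl).hom.toAlgebra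
  letI : IsScalarTower (S.residueField T.s) (X.residueField T.x) T.tensor :=
    IsScalarTower.of_algebraMap_eq' rfl
  letI : IsScalarTower (S.residueField T.s) (Y.residueField T.y) T.tensor :=
    IsScalarTower.of_algebraMap_eq'
      (congrArg CommRingCat.Hom.hom (pushout.condition (f := homL T) (g := homR T)))
  haveI := isPushout_triplet T
  obtain ⟨P, hP, h⟩ := exists_prime_trdeg_le (k := S.residueField T.s)
    (K := X.residueField T.x) (k' := Y.residueField T.y) (T := T.tensor)
  exact ⟨⟨P, hP⟩, h⟩

theorem trdeg_le_of_lowerProp (t : ↑(pullback f g))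
    (h : LowerProp ⟨Triplet.ofPoint t, SpecOfPoint t⟩) :
    @Algebra.trdeg (S.residueField (f ((pullback.fst f g) t)))
        (X.residueField ((pullback.fst f g) t)) _ _
        (f.residueFieldMap ((pullback.fst f g) t)).hom.toAlgebra ≤
      @Algebra.trdeg (Y.residueField ((pullback.snd f g) t)) ((pullback f g).residueField t) _ _
        ((pullback.snd f g).residueFieldMap t).hom.toAlgebra := by
  rw [← homL_ofPoint t]
  let T := Triplet.ofPoint t
  letI : Algebra (S.residueField T.s) (X.residueField T.x) := (homL T).hom.toAlgebra
  letI : Algebra (Y.residueField T.y) T.tensor := T.tensorInr.hom.toAlgebra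
  letI : Algebra (Y.residueField T.y) ((pullback f g).residueField t) :=
    ((pullback.snd f g).residueFieldMap t).hom.toAlgebra
  let ψ : T.tensor →ₐ[Y.residueField T.y] (pullback f g).residueField t :=
    { (ofPointTensor t).hom with
      commutes' := fun r => congrArg
        (fun m : Y.residueField T.y ⟶ (pullback f g).residueField t => m.hom r)
        (pushout.inr_desc _ _ _) }
  have hker : ∀ a ∈ (SpecOfPoint t).asIdeal, ψ a = 0 := fun a ha => ha
  let ψ' : T.tensor ⧸ (SpecOfPoint t).asIdeal →ₐ[Y.residueField T.y]
      (pullback f g).residueField t := Ideal.Quotient.liftₐ _ ψ hker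
  have hinj : Function.Injective ψ' :=
    RingHom.lift_injective_of_ker_le_ideal _ hker (fun a ha => ha)
  exact le_trans h (trdeg_le_of_injective ψ' hinj)

/-- Lower bound: over any pair of points with the same image there is a point of the fibre
product whose residue field extension over `κ(y)` has transcendence degree at least that of
`κ(x)` over `κ(s)`. -/
theorem exists_trdeg_ge (x : X) (y : Y) (hxy : f x = g y) :
    ∃ t : ↑(pullback f g), (pullback.fst f g) t = x ∧ (pullback.snd f g) t = y ∧
      @Algebra.trdeg (S.residueField (f ((pullback.fst f g) t)))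
        (X.residueField ((pullback.fst f g) t)) _ _
        (f.residueFieldMap ((pullback.fst f g) t)).hom.toAlgebra ≤
      @Algebra.trdeg (Y.residueField ((pullback.snd f g) t)) ((pullback f g).residueField t) _ _
        ((pullback.snd f g).residueFieldMap t).hom.toAlgebra := by
  obtain ⟨p, hp⟩ := exists_lowerProp (Triplet.mk' x y hxy)
  refine ⟨carrierEquiv.symm ⟨Triplet.mk' x y hxy, p⟩, carrierEquiv_symm_fst _ p,
    carrierEquiv_symm_snd _ p, ?_⟩
  apply trdeg_le_of_lowerProp
  have h1 := carrierEquiv.apply_symm_apply
    (⟨Triplet.mk' x y hxy, p⟩ : Σ T : Triplet f g, Spec T.tensor)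
  have h2 : LowerProp (carrierEquiv (carrierEquiv.symm
      (⟨Triplet.mk' x y hxy, p⟩ : Σ T : Triplet f g, Spec T.tensor))) := by
    rw [h1]; exact hp
  exact h2

end Groth.Agent.H3.TrdegBC
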