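import Mathlib
import Groth.Agent.Lib.Helper3.TrdegBCB
import Groth.Agent.Lib.Helper3.TrdegBCD

/-!
# The dimension function under faithfully flat local base change (helper3)
-/

set_option autoImplicit false
universe u

namespace Groth.Agent.H3.TrdegBC

open CategoryTheory CategoryTheory.Limits AlgebraicGeometry IsLocalRing

theorem main (A A' : Type u) [CommRing A] [CommRing A'] [IsLocalRing A] [IsLocalRing A']
    [IsNoetherianRing A] [IsNoetherianRing A'] [Algebra A A'] [Module.FaithfullyFlat A A']
    (hfib : ∀ q : Ideal A', ∀ _ : q.IsPrime,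
      q.comap (algebraMap A A') = IsLocalRing.maximalIdeal A → q = IsLocalRing.maximalIdeal A')
    (X : Scheme.{u}) (f : X ⟶ (Spec (CommRingCat.of A))) :
    (∀ x' : ↥(pullback f (Spec.map (CommRingCat.ofHom (algebraMap A A')))),
      @Algebra.trdeg ↑((Spec (CommRingCat.of A')).residueField
          ((pullback.snd f (Spec.map (CommRingCat.ofHom (algebraMap A A')))).base x'))
        ↑((pullback f (Spec.map (CommRingCat.ofHom (algebraMap A A')))).residueField x') _ _
        ((pullback.snd f (Spec.map (CommRingCat.ofHom (algebraMap A A')))).residueFieldMap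
          x').hom.toAlgebra ≤
      @Algebra.trdeg ↑((Spec (CommRingCat.of A)).residueField
          (f.base ((pullback.fst f (Spec.map (CommRingCat.ofHom (algebraMap A A')))).base x')))
        ↑(X.residueField ((pullback.fst f (Spec.map (CommRingCat.ofHom (algebraMap A A')))).base x'))
        _ _ (f.residueFieldMap ((pullback.fst f
          (Spec.map (CommRingCat.ofHom (algebraMap A A')))).base x')).hom.toAlgebra ∧
      ringKrullDim (A' ⧸ ((pullback.snd f (Spec.map (CommRingCat.ofHom
        (algebraMap A A')))).base x').asIdeal) ≤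
      ringKrullDim (A ⧸ (f.base ((pullback.fst f (Spec.map (CommRingCat.ofHom
        (algebraMap A A')))).base x')).asIdeal)) ∧
    (∀ x : X, ∃ x' : ↥(pullback f (Spec.map (CommRingCat.ofHom (algebraMap A A')))),
      (pullback.fst f (Spec.map (CommRingCat.ofHom (algebraMap A A')))).base x' = x ∧
      @Algebra.trdeg ↑((Spec (CommRingCat.of A')).residueField
          ((pullback.snd f (Spec.map (CommRingCat.ofHom (algebraMap A A')))).base x'))
        ↑((pullback f (Spec.map (CommRingCat.ofHom (algebraMap A A')))).residueField x') _ _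
        ((pullback.snd f (Spec.map (CommRingCat.ofHom (algebraMap A A')))).residueFieldMap
          x').hom.toAlgebra =
      @Algebra.trdeg ↑((Spec (CommRingCat.of A)).residueField
          (f.base ((pullback.fst f (Spec.map (CommRingCat.ofHom (algebraMap A A')))).base x')))
        ↑(X.residueField ((pullback.fst f (Spec.map (CommRingCat.ofHom (algebraMap A A')))).base x'))
        _ _ (f.residueFieldMap ((pullback.fst f
          (Spec.map (CommRingCat.ofHom (algebraMap A A')))).base x')).hom.toAlgebra ∧
      ringKrullDim (A' ⧸ ((pullback.snd f (Spec.map (CommRingCat.ofHom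
        (algebraMap A A')))).base x').asIdeal) =
      ringKrullDim (A ⧸ (f.base ((pullback.fst f (Spec.map (CommRingCat.ofHom
        (algebraMap A A')))).base x')).asIdeal)) := by
  set g := Spec.map (CommRingCat.ofHom (algebraMap A A')) with hg
  -- the homomorphism is local
  have hloc : (maximalIdeal A').comap (algebraMap A A') = maximalIdeal A := by
    obtain ⟨Q, hQ⟩ := PrimeSpectrum.comap_surjective_of_faithfullyFlat (A := A) (B := A')
      (IsLocalRing.closedPoint A)
    have h1 : Q.asIdeal.comap (algebraMap A A') = maximalIdeal A :=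
      congrArg PrimeSpectrum.asIdeal hQ
    rw [← hfib Q.asIdeal Q.2 h1]
    exact h1
  have hfib' : ∀ q : Ideal A', q.IsPrime → q.comap (algebraMap A A') = maximalIdeal A →
      q = maximalIdeal A' := fun q hq h => hfib q hq h
  have hcond : ∀ x' : ↥(pullback f g), f.base ((pullback.fst f g).base x') =
      g.base ((pullback.snd f g).base x') := fun x' =>
    congrArg (fun h : pullback f g ⟶ Spec (CommRingCat.of A) => h.base x')
      (pullback.condition (f := f) (g := g))
  have hdim : ∀ x' : ↥(pullback f g),
      ringKrullDim (A' ⧸ ((pullback.snd f g).base x').asIdeal) ≤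
      ringKrullDim (A ⧸ (f.base ((pullback.fst f g).base x')).asIdeal) := by
    intro x'
    haveI : ((pullback.snd f g).base x').asIdeal.IsPrime := ((pullback.snd f g).base x').2
    have h1 := dim_quotient_le hloc hfib' ((pullback.snd f g).base x').asIdeal
    have h2 : (f.base ((pullback.fst f g).base x')).asIdeal =
        ((pullback.snd f g).base x').asIdeal.comap (algebraMap A A') := by
      rw [hcond x']
      rfl
    rw [h2]
    exact h1
  refine ⟨fun x' => ⟨trdeg_snd_le x', hdim x'⟩, ?_⟩
  intro x
  haveI : (f.base x).asIdeal.IsPrime := (f.base x).2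
  obtain ⟨p', hp', hp'c, hp'd⟩ := exists_prime_dim_quotient_ge (A' := A') (f.base x).asIdeal
  let s' : ↥(Spec (CommRingCat.of A')) := (⟨p', hp'⟩ : PrimeSpectrum A')
  have hs' : f.base x = g.base s' := by
    apply PrimeSpectrum.ext
    exact hp'c.symm
  obtain ⟨t, ht1, ht2, ht3⟩ := exists_trdeg_ge x s' hs'
  refine ⟨t, ht1, le_antisymm (trdeg_snd_le t) ht3, le_antisymm (hdim t) ?_⟩
  have e1 : ringKrullDim (A' ⧸ ((pullback.snd f g).base t).asIdeal) = ringKrullDim (A' ⧸ p') := by
    rw [ht2]
  have e2 : ringKrullDim (A ⧸ (f.base ((pullback.fst f g).base t)).asIdeal) =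
      ringKrullDim (A ⧸ (f.base x).asIdeal) := by
    rw [ht1]
  rw [e1, e2]
  exact hp'd

end Groth.Agent.H3.TrdegBC
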