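import Mathlib
import Groth.Prelude.Def_FibCat2
import Groth.Prelude.Def_W4stkcategoriessitesFib
import Groth.Agent.Lib.Helper3.CatPullAux

set_option autoImplicit false
open CategoryTheory CategoryTheory.Limits
universe v u

namespace Groth.Agent.H3.TwoCartAux
open Groth.Agent.H3.CatPullAux

variable {X Y V : Type u} [Category.{v} X] [Category.{v} Y] [Category.{v} V] (p : X ⥤ Y) (q : V ⥤ Y)

/-- the cospan transform -/
abbrev psi : CatCospanTransform (CategoricalPullback.π₂ p q) (CategoricalPullback.π₂ p q) p p :=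
  ⟨CategoricalPullback.π₁ p q, q, CategoricalPullback.π₁ p q, ⟨(CatCommSq.iso (CategoricalPullback.π₁ p q) (CategoricalPullback.π₂ p q) p q).symm⟩, ⟨(CatCommSq.iso (CategoricalPullback.π₁ p q) (CategoricalPullback.π₂ p q) p q).symm⟩⟩

/-- diagonal of U/V -/
abbrev diagU : CategoricalPullback p q ⥤ CategoricalPullback (CategoricalPullback.π₂ p q) (CategoricalPullback.π₂ p q) :=
  (CategoricalPullback.CatCommSqOver.toFunctorToCategoricalPullback (CategoricalPullback.π₂ p q) (CategoricalPullback.π₂ p q) (CategoricalPullback p q)).obj ⟨𝟭 _, 𝟭 _, Iso.refl _⟩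

/-- diagonal of X/Y -/
abbrev diagX : X ⥤ CategoricalPullback p p :=
  (CategoricalPullback.CatCommSqOver.toFunctorToCategoricalPullback p p X).obj ⟨𝟭 _, 𝟭 _, Iso.refl _⟩

lemma G_iso_hom (w : CategoricalPullback (CategoricalPullback.π₂ p q) (CategoricalPullback.π₂ p q)) :
    ((FibCat.categoricalPullbackMap (psi p q)).obj w).iso.hom =
      w.fst.iso.hom ≫ q.map w.iso.hom ≫ w.snd.iso.inv := by
  rw [cpm_obj_iso_hom]
  rfl

/-- the filling 2-isomorphism -/
noncomputable def fill : CategoricalPullback.π₁ p q ⋙ diagX p ≅ diagU p q ⋙ FibCat.categoricalPullbackMap (psi p q) :=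
  NatIso.ofComponents (fun u => CategoricalPullback.mkIso (Iso.refl u.fst) (Iso.refl u.fst) (by
    change p.map (𝟙 _) ≫ ((FibCat.categoricalPullbackMap (psi p q)).obj ((diagU p q).obj u)).iso.hom =
      𝟙 _ ≫ p.map (𝟙 _)
    rw [G_iso_hom]
    change p.map (𝟙 _) ≫ (u.iso.hom ≫ q.map (𝟙 _) ≫ u.iso.inv) = 𝟙 _ ≫ p.map (𝟙 _)
    simp)) (fun {u u'} f => by
    apply CategoricalPullback.hom_ext
    · exact (Category.comp_id _).trans (Category.id_comp _).symm
    · exact (Category.comp_id _).trans (Category.id_comp _).symm)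

lemma fill_hom_app_fst (u : CategoricalPullback p q) : ((fill p q).hom.app u).fst = 𝟙 _ := rfl

lemma fill_hom_app_snd (u : CategoricalPullback p q) : ((fill p q).hom.app u).snd = 𝟙 _ := rfl

/-- the comparison functor -/
noncomputable abbrev K : CategoricalPullback p q ⥤
    CategoricalPullback (diagX p) (FibCat.categoricalPullbackMap (psi p q)) :=
  (CategoricalPullback.CatCommSqOver.toFunctorToCategoricalPullback (diagX p)
    (FibCat.categoricalPullbackMap (psi p q)) (CategoricalPullback p q)).obj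
    ⟨CategoricalPullback.π₁ p q, diagU p q, fill p q⟩

lemma K_faithful : (K p q).Faithful where
  map_injective := by
    intro u u' f g h
    exact congrArg (fun t => t.snd.fst) h

lemma K_full : (K p q).Full where
  map_surjective := by
    intro u u' m
    have h1 : m.fst ≫ 𝟙 _ = 𝟙 _ ≫ m.snd.fst.fst := congrArg (fun t => t.fst) m.w
    have h2 : m.fst ≫ 𝟙 _ = 𝟙 _ ≫ m.snd.snd.fst := congrArg (fun t => t.snd) m.w
    have h3 : m.snd.fst.snd ≫ 𝟙 _ = 𝟙 _ ≫ m.snd.snd.snd := m.snd.w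
    rw [Category.comp_id, Category.id_comp] at h1 h2 h3
    have h4 : m.snd.fst = m.snd.snd :=
      CategoricalPullback.hom_ext (h1.symm.trans h2) h3
    refine ⟨m.snd.fst, ?_⟩
    apply CategoricalPullback.hom_ext
    · exact h1.symm
    · apply CategoricalPullback.hom_ext
      · rfl
      · exact h4

lemma aux_cancel {Y : Type u} [Category.{v} Y] {a b c d e : Y} (g1 : a ⟶ b) [IsIso g1] (A : b ⟶ c)
    (B : c ⟶ d) (Ci : e ≅ d) (g2 : a ⟶ e) (hw : g1 ≫ A ≫ B ≫ Ci.inv = g2) :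
    inv g1 ≫ g2 ≫ Ci.hom = A ≫ B := by
  subst hw; simp

lemma K_essSurj : (K p q).EssSurj where
  mem_essImage := by
    intro T
    -- components
    obtain ⟨γ₁, hγ₁⟩ : ∃ γ₁ : T.fst ⟶ T.snd.fst.fst, γ₁ = T.iso.hom.fst := ⟨_, rfl⟩
    obtain ⟨γ₂, hγ₂⟩ : ∃ γ₂ : T.fst ⟶ T.snd.snd.fst, γ₂ = T.iso.hom.snd := ⟨_, rfl⟩
    have hi : IsIso T.iso.hom.fst ∧ IsIso T.iso.hom.snd :=
      (CategoricalPullback.isIso_iff p p T.iso.hom).1 inferInstance
    have hi₁ : IsIso γ₁ := by rw [hγ₁]; exact hi.1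
    have hi₂ : IsIso γ₂ := by rw [hγ₂]; exact hi.2
    have hw : p.map γ₁ ≫ (T.snd.fst.iso.hom ≫ q.map T.snd.iso.hom ≫ T.snd.snd.iso.inv) =
        𝟙 _ ≫ p.map γ₂ := by
      have := T.iso.hom.w
      rw [G_iso_hom] at this
      rw [hγ₁, hγ₂]
      exact this
    rw [Category.id_comp] at hw
    -- the iso u₁ ≅ u₂
    have w2 : p.map (inv γ₁ ≫ γ₂) ≫ T.snd.snd.iso.hom = T.snd.fst.iso.hom ≫ q.map T.snd.iso.hom := by
      rw [p.map_comp, Category.assoc, Functor.map_inv]
      exact aux_cancel (p.map γ₁) _ _ _ _ hw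
    let β₂ : T.snd.fst ≅ T.snd.snd :=
      CategoricalPullback.mkIso ((asIso γ₁).symm ≪≫ asIso γ₂) T.snd.iso w2
    let eᵣ : (diagU p q).obj T.snd.fst ≅ T.snd :=
      CategoricalPullback.mkIso (Iso.refl T.snd.fst) β₂ (by
        change 𝟙 _ ≫ T.snd.iso.hom = 𝟙 _ ≫ T.snd.iso.hom
        rfl)
    refine ⟨T.snd.fst, ⟨CategoricalPullback.mkIso (asIso γ₁).symm eᵣ ?_⟩⟩
    apply CategoricalPullback.hom_ext
    · change inv γ₁ ≫ T.iso.hom.fst = 𝟙 _ ≫ 𝟙 _
      rw [← hγ₁]
      exact (IsIso.inv_hom_id γ₁).trans (Category.id_comp _).symm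
    · change inv γ₁ ≫ T.iso.hom.snd = 𝟙 _ ≫ (inv γ₁ ≫ γ₂)
      rw [← hγ₂]
      exact (Category.id_comp _).symm

theorem X6447 : ∃ e, (∀ u, (e.hom.app u).fst = 𝟙 _ ∧ (e.hom.app u).snd = 𝟙 _) ∧ FibCat.IsTwoCart
      (CategoricalPullback.π₁ p q)
      ((CategoricalPullback.CatCommSqOver.toFunctorToCategoricalPullback (CategoricalPullback.π₂ p q) (CategoricalPullback.π₂ p q) (CategoricalPullback p q)).obj ⟨𝟭 _, 𝟭 _, Iso.refl _⟩)
      ((CategoricalPullback.CatCommSqOver.toFunctorToCategoricalPullback p p X).obj ⟨𝟭 _, 𝟭 _, Iso.refl _⟩)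
      (FibCat.categoricalPullbackMap (⟨CategoricalPullback.π₁ p q, q, CategoricalPullback.π₁ p q, ⟨(CatCommSq.iso (CategoricalPullback.π₁ p q) (CategoricalPullback.π₂ p q) p q).symm⟩, ⟨(CatCommSq.iso (CategoricalPullback.π₁ p q) (CategoricalPullback.π₂ p q) p q).symm⟩⟩ : CatCospanTransform (CategoricalPullback.π₂ p q) (CategoricalPullback.π₂ p q) p p))
      e := by
  refine ⟨fill p q, fun u => ⟨rfl, rfl⟩, ?_⟩
  change (K p q).IsEquivalence
  exact { faithful := K_faithful p q, full := K_full p q, essSurj := K_essSurj p q }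

end Groth.Agent.H3.TwoCartAux
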