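import Mathlib
import Groth.Prelude.Def_AlgSt3
import Groth.Agent.Lib.Helper3.TwoCart

set_option autoImplicit false
universe v₆ u₆ v₅ u₅ v₄ u₄ v₃ u₃ v₂ u₂ w v u
open CategoryTheory CategoryTheory.Functor CategoryTheory.Limits Opposite AlgebraicGeometry

namespace Groth.Agent.H3.TwoCart
open Groth.Agent.H3.FibCatAux Groth.Agent.H3.GerbAux Groth.Agent.H3.FpCalc Groth.Agent.H3.AlgStAux

section MonoDiag

variable {C : Type u} [Category.{v} C] {𝒳 : BasedCategory.{v₂, u₂} C} {𝒳' : BasedCategory.{v₃, u₃} C}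
  {𝒴 : BasedCategory.{v₄, u₄} C} (i : 𝒳 ⥤ᵇ 𝒳') (g : 𝒳' ⥤ᵇ 𝒴)

/-- the functor `𝒳 ×_𝒴 𝒳 ⟶ 𝒳' ×_𝒴 𝒳'` induced by `i` on both factors -/
abbrev prodMap : FibCat.fp (BasedFunctor.comp i g) (BasedFunctor.comp i g) ⥤ᵇ FibCat.fp g g :=
  FibCat.fpLift
    (BasedFunctor.comp (FibCat.fpFst (BasedFunctor.comp i g) (BasedFunctor.comp i g)) i)
    (BasedFunctor.comp (FibCat.fpSnd (BasedFunctor.comp i g) (BasedFunctor.comp i g)) i)
    (FibCat.fpIso (BasedFunctor.comp i g) (BasedFunctor.comp i g))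

theorem monoDiag_isTwoCartOver [i.toFunctor.Full] [i.toFunctor.Faithful] :
    FibCat.IsTwoCartOver (F := prodMap i g) (G := FibCat.diag g)
      (FibCat.diag (BasedFunctor.comp i g)) i (Iso.refl _) := by
  apply isTwoCartOver_of_concrete
  · intro x x' φ ψ h1 _
    exact congrArg (fun m => m.hom.fst) h1
  · intro x x' α β hαβ
    have c1 := congrArg (fun m => m.hom.fst) hαβ
    have c2 := congrArg (fun m => m.hom.snd) hαβ
    obtain ⟨α₁, hα₁⟩ : ∃ m : x ⟶ x', m = α.hom.fst := ⟨_, rfl⟩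
    obtain ⟨α₂, hα₂⟩ : ∃ m : x ⟶ x', m = α.hom.snd := ⟨_, rfl⟩
    obtain ⟨β', hβ'⟩ : ∃ m : i.obj x ⟶ i.obj x', m = β := ⟨_, rfl⟩
    have d1 : i.map α₁ ≫ 𝟙 _ = 𝟙 _ ≫ β' := by rw [hα₁, hβ']; exact c1
    have d2 : i.map α₂ ≫ 𝟙 _ = 𝟙 _ ≫ β' := by rw [hα₂, hβ']; exact c2
    rw [Category.comp_id, Category.id_comp] at d1 d2
    have d3 : α₁ = α₂ := i.toFunctor.map_injective (d1.trans d2.symm)
    refine ⟨α₁, ?_, ?_⟩
    · apply fp_hom_ext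
      · exact hα₁
      · exact d3.trans hα₂
    · exact d1.trans hβ'
  · intro Z y ι₀ hι₀
    obtain ⟨κ, hκ⟩ : ∃ m : g.obj (i.obj Z.obj.fst) ≅ g.obj (i.obj Z.obj.snd), m = Z.obj.iso :=
      ⟨_, rfl⟩
    obtain ⟨u₁, hu₁⟩ : ∃ m : i.obj Z.obj.fst ≅ y, m.hom = ι₀.hom.hom.fst := ⟨fstIso ι₀, rfl⟩
    obtain ⟨u₂, hu₂⟩ : ∃ m : i.obj Z.obj.snd ≅ y, m.hom = ι₀.hom.hom.snd := ⟨sndIso ι₀, rfl⟩
    have compat : g.map u₁.hom ≫ 𝟙 _ = κ.hom ≫ g.map u₂.hom := by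
      rw [hu₁, hu₂, hκ]; exact ι₀.hom.hom.w
    rw [Category.comp_id] at compat
    -- the iso `ψ : x₁ ≅ x₂` with `i ψ = u₁ ≫ u₂⁻¹`
    let ψ : Z.obj.fst ≅ Z.obj.snd := i.toFunctor.preimageIso (u₁ ≪≫ u₂.symm)
    have hψ : i.map ψ.hom = u₁.hom ≫ u₂.inv := i.toFunctor.map_preimage _
    have wi' : 𝟙 _ ≫ κ.hom = 𝟙 _ ≫ g.map (i.map ψ.hom) := by
      have a1 : g.map (u₁.hom ≫ u₂.inv) = g.map u₁.hom ≫ g.map u₂.inv := g.toFunctor.map_comp _ _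
      have a2 : g.map u₂.hom ≫ g.map u₂.inv = 𝟙 _ := by
        have := g.toFunctor.map_comp u₂.hom u₂.inv
        rw [Iso.hom_inv_id] at this
        exact this.symm.trans (g.toFunctor.map_id _)
      rw [hψ, a1, compat, Category.assoc, a2, Category.comp_id]
    have wi : (BasedFunctor.comp i g).map (𝟙 Z.obj.fst) ≫ Z.obj.iso.hom =
        ((FibCat.diag (BasedFunctor.comp i g)).obj Z.obj.fst).obj.iso.hom ≫
          (BasedFunctor.comp i g).map ψ.hom := by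
      have b1 : (BasedFunctor.comp i g).map (𝟙 Z.obj.fst) = 𝟙 _ :=
        (BasedFunctor.comp i g).toFunctor.map_id _
      subst hκ
      exact (congrArg (fun m => m ≫ Z.obj.iso.hom) b1).trans wi'
    refine ⟨Z.obj.fst, fpIsoMk (X := (FibCat.diag (BasedFunctor.comp i g)).obj Z.obj.fst) (Y := Z)
      (Iso.refl _) ψ wi, u₁, ?_, ?_⟩
    · rw [fp_isHomLift_iff]
      change 𝒳.p.IsHomLift (𝟙 (𝒳.p.obj Z.obj.fst)) (𝟙 Z.obj.fst)
      infer_instance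
    · apply fp_hom_ext
      · have b1 : i.map (𝟙 Z.obj.fst) = 𝟙 _ := i.toFunctor.map_id _
        have c : i.map (𝟙 Z.obj.fst) ≫ u₁.hom = 𝟙 _ ≫ u₁.hom := by rw [b1]
        exact (congrArg (fun m => i.map (𝟙 Z.obj.fst) ≫ m) hu₁).symm.trans c
      · have c : i.map ψ.hom ≫ u₂.hom = 𝟙 _ ≫ u₁.hom := by
          rw [hψ, Category.assoc, Iso.inv_hom_id, Category.comp_id, Category.id_comp]
        exact (congrArg (fun m => i.map ψ.hom ≫ m) hu₂).symm.trans c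

end MonoDiag

end Groth.Agent.H3.TwoCart
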