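import Mathlib
import Groth.Agent.Lib.Helper3.UnivInjComp
import Groth.Agent.Lib.Helper3.TwoYoneda

/-!
# Universal injectivity is local on the target (helper3)

`Δ_f` is surjective on points as soon as every field point of `𝒳 ×_𝒴 𝒳` lifts along the comparison
`𝒳' ×_{𝒴'} 𝒳' ⟶ 𝒳 ×_𝒴 𝒳` for some `g : 𝒴' ⟶ 𝒴` with `Δ_{f'}` surjective.
-/

set_option autoImplicit false
universe v₆ u₆ v₅ u₅ v₄ u₄ v₃ u₃ v₂ u₂ w v u
open CategoryTheory CategoryTheory.Functor CategoryTheory.Limits Opposite AlgebraicGeometry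

namespace Groth.Agent.H3.FPtRel
open Groth.Agent.H3.FibCatAux Groth.Agent.H3.StkAux Groth.Agent.H3.TwoCart Groth.Agent.H3.FpCalc

variable {S : Scheme.{u}} {𝒳 : BasedCategory.{v₂, u₂} (Over S)} {𝒴 : BasedCategory.{v₃, u₃} (Over S)}
  {𝒴' : BasedCategory.{v₄, u₄} (Over S)}

/-- **Lifting a field point of `𝒳 ×_𝒴 𝒳` along the comparison map**, given an object `t` of `𝒴'`
over a field and a morphism `g t ⟶ f x₁`. -/
theorem exists_lift_dbcM (h𝒳 : FibCat.IsFibGrpd 𝒳.p) (h𝒴 : FibCat.IsFibGrpd 𝒴.p)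
    (f : 𝒳 ⥤ᵇ 𝒴) (g : 𝒴' ⥤ᵇ 𝒴) (q : AlgSt.FPt (FibCat.fp f f)) (r : AlgSt.FPt 𝒴')
    (m : g.obj r.obj ⟶ f.obj q.obj.obj.fst) :
    ∃ w' : AlgSt.Points (FibCat.fp (FibCat.fpFst g f) (FibCat.fpFst g f)),
      AlgSt.Points.map (dbcM f g) w' = AlgSt.Points.mk q := by
  have hfp : FibCat.IsFibGrpd (FibCat.fp f f).p := X6401 f f h𝒳 h𝒳 h𝒴
  -- the base morphism of `m`
  obtain ⟨β, hβ⟩ : ∃ β : Over.mk r.str ⟶ Over.mk q.str, 𝒴.p.IsHomLift β m :=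
    ⟨baseHom (p := r.map g) (q := (q.map (FibCat.fpFst f f)).map f) m,
      baseHom_isHomLift (p := r.map g) (q := (q.map (FibCat.fpFst f f)).map f) m⟩
  obtain ⟨W', π, hπ⟩ := exists_lift'' hfp β q.obj q.lies
  have hW' : (FibCat.fp f f).p.obj W' = Over.mk r.str := IsHomLift.domain_eq _ β π
  have hx₁' : 𝒳.p.obj W'.obj.fst = Over.mk r.str := hW'
  have hπ₁ : 𝒳.p.IsHomLift β π.hom.fst := (fp_isHomLift_iff f f β π).1 hπ
  have hfπ : 𝒴.p.IsHomLift β (f.map π.hom.fst) := inferInstance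
  have c1 : 𝒴.p.IsStronglyCartesian β (f.map π.hom.fst) :=
    isStronglyCartesian_of_isHomLift 𝒴.p h𝒴 _ _
  have m' : 𝒴.p.IsHomLift (𝟙 (Over.mk r.str) ≫ β) m := by rw [Category.id_comp]; exact hβ
  let χ : g.obj r.obj ⟶ f.obj W'.obj.fst :=
    IsStronglyCartesian.map 𝒴.p β (f.map π.hom.fst) (f' := 𝟙 _ ≫ β) rfl m
  have hχ : 𝒴.p.IsHomLift (𝟙 (Over.mk r.str)) χ :=
    IsStronglyCartesian.map_isHomLift 𝒴.p β (f.map π.hom.fst) rfl m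
  have iχ : IsIso χ := isIso_of_isHomLift_id 𝒴.p h𝒴 (U := Over.mk r.str) χ
  obtain ⟨ψ, hψ⟩ : ∃ ψ : g.obj r.obj ≅ f.obj W'.obj.fst, ψ.hom = χ := ⟨asIso χ, rfl⟩
  have hψl : 𝒴.p.IsHomLift (𝟙 (𝒴'.p.obj r.obj)) ψ.hom := by
    rw [hψ, r.lies]; exact hχ
  have hWi : 𝒴.p.IsHomLift (𝟙 (Over.mk r.str)) W'.obj.iso.hom := by
    have := W'.property
    rw [← hx₁']
    exact this
  have hψ2 : 𝒴.p.IsHomLift (𝟙 (𝒴'.p.obj r.obj)) (ψ ≪≫ W'.obj.iso).hom := by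
    rw [r.lies]
    have := IsHomLift.comp (p := 𝒴.p) (𝟙 (Over.mk r.str)) (𝟙 (Over.mk r.str)) χ W'.obj.iso.hom
    rw [Category.comp_id] at this
    rw [Iso.trans_hom, hψ]
    exact this
  let A₁ : (FibCat.fp g f).obj := fpMk g f r.obj W'.obj.fst ψ hψl
  let A₂ : (FibCat.fp g f).obj := fpMk g f r.obj W'.obj.snd (ψ ≪≫ W'.obj.iso) hψ2
  have hid : 𝒴'.p.IsHomLift (𝟙 ((FibCat.fp g f).p.obj A₁)) (Iso.refl r.obj).hom := by
    change 𝒴'.p.IsHomLift (𝟙 (𝒴'.p.obj r.obj)) (𝟙 r.obj)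
    infer_instance
  let W'' : (FibCat.fp (FibCat.fpFst g f) (FibCat.fpFst g f)).obj :=
    fpMk (FibCat.fpFst g f) (FibCat.fpFst g f) A₁ A₂ (Iso.refl r.obj) hid
  have hW'' : (FibCat.fp (FibCat.fpFst g f) (FibCat.fpFst g f)).p.obj W'' = Over.mk r.str := r.lies
  let pt : AlgSt.FPt (FibCat.fp (FibCat.fpFst g f) (FibCat.fpFst g f)) := ⟨r.K, r.str, W'', hW''⟩
  refine ⟨AlgSt.Points.mk pt, ?_⟩
  rw [AlgSt.Points.map_mk]
  apply AlgSt.Points.sound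
  have compat : f.map (Iso.refl W'.obj.fst).hom ≫ W'.obj.iso.hom =
      ((dbcM f g).obj W'').obj.iso.hom ≫ f.map (Iso.refl W'.obj.snd).hom := by
    rw [dbcM_obj_iso]
    change f.map (𝟙 _) ≫ W'.obj.iso.hom = (ψ.inv ≫ g.map (𝟙 r.obj) ≫ (ψ.hom ≫ W'.obj.iso.hom)) ≫
      f.map (𝟙 _)
    have h1 : f.map (𝟙 W'.obj.fst) = 𝟙 _ := f.toFunctor.map_id _
    have h2 : f.map (𝟙 W'.obj.snd) = 𝟙 _ := f.toFunctor.map_id _
    have h3 : g.map (𝟙 r.obj) = 𝟙 _ := g.toFunctor.map_id _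
    rw [h1, h2, h3, Category.id_comp, Category.id_comp, Category.comp_id, Iso.inv_hom_id_assoc]
  let ι : (dbcM f g).obj W'' ≅ W' :=
    fpIsoMk (X := (dbcM f g).obj W'') (Y := W') (Iso.refl _) (Iso.refl _) compat
  exact rel_of_hom (p := pt.map (dbcM f g)) (q := q) (ι.hom ≫ π)

/-- **Locality of surjectivity of the diagonal**: if every field point of `𝒳 ×_𝒴 𝒳` lifts along the
comparison map for some base change with surjective diagonal, then `Δ_f` is surjective. -/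
theorem isSurjective_diag_of_forall_lift (f : 𝒳 ⥤ᵇ 𝒴)
    (h : ∀ q : AlgSt.FPt (FibCat.fp f f), ∃ (𝒴' : BasedCategory.{v₄, u₄} (Over S)) (g : 𝒴' ⥤ᵇ 𝒴),
      AlgSt.IsSurjective (FibCat.diag (FibCat.fpFst g f)) ∧
      ∃ w' : AlgSt.Points (FibCat.fp (FibCat.fpFst g f) (FibCat.fpFst g f)),
        AlgSt.Points.map (dbcM f g) w' = AlgSt.Points.mk q) :
    AlgSt.IsSurjective (FibCat.diag f) := by
  intro w
  obtain ⟨q, rfl⟩ := AlgSt.Points.mk_surjective w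
  obtain ⟨𝒴', g, hΔ, w', hw'⟩ := h q
  obtain ⟨v, rfl⟩ := hΔ w'
  refine ⟨AlgSt.Points.map (FibCat.fpSnd g f) v, ?_⟩
  rw [← hw', ← points_map_comp, ← points_map_comp]
  exact points_map_eq_of_pointwise _ _ (fun a => ⟨(dbcE f g).inv.toNatTrans.app a⟩) v

/-- a surjective functor lifts field points, up to a morphism -/
theorem exists_fpt_hom_of_isSurjective (h𝒴 : FibCat.IsFibGrpd 𝒴.p) (h𝒴' : FibCat.IsFibGrpd 𝒴'.p)
    (g : 𝒴' ⥤ᵇ 𝒴) (hg : AlgSt.IsSurjective g) (p : AlgSt.FPt 𝒴) :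
    ∃ r : AlgSt.FPt 𝒴', Nonempty (g.obj r.obj ⟶ p.obj) := by
  obtain ⟨s, hs⟩ := hg (AlgSt.Points.mk p)
  obtain ⟨r₀, rfl⟩ := AlgSt.Points.mk_surjective s
  rw [AlgSt.Points.map_mk, mk_eq_mk_iff h𝒴] at hs
  obtain ⟨r, a₀, b₀, -⟩ := hs
  obtain ⟨a, ha⟩ : ∃ a : r.obj ⟶ g.obj r₀.obj, a = a₀ := ⟨a₀, rfl⟩
  obtain ⟨b, hb⟩ : ∃ b : r.obj ⟶ p.obj, b = b₀ := ⟨b₀, rfl⟩
  obtain ⟨α, hα⟩ : ∃ α : Over.mk r.str ⟶ Over.mk r₀.str, 𝒴.p.IsHomLift α a := by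
    rw [ha]; exact ⟨baseHom (q := r₀.map g) a₀, baseHom_isHomLift (q := r₀.map g) a₀⟩
  obtain ⟨t, π, hπ⟩ := exists_lift'' h𝒴' α r₀.obj r₀.lies
  have ht : 𝒴'.p.obj t = Over.mk r.str := IsHomLift.domain_eq 𝒴'.p α π
  have c1 : 𝒴.p.IsStronglyCartesian α (g.map π) := isStronglyCartesian_of_isHomLift 𝒴.p h𝒴 _ _
  have a' : 𝒴.p.IsHomLift (𝟙 (Over.mk r.str) ≫ α) a := by rw [Category.id_comp]; exact hα
  let χ : r.obj ⟶ g.obj t := IsStronglyCartesian.map 𝒴.p α (g.map π) (f' := 𝟙 _ ≫ α) rfl a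
  have hχ : 𝒴.p.IsHomLift (𝟙 (Over.mk r.str)) χ :=
    IsStronglyCartesian.map_isHomLift 𝒴.p α (g.map π) rfl a
  have iχ : IsIso χ := isIso_of_isHomLift_id 𝒴.p h𝒴 (U := Over.mk r.str) χ
  exact ⟨⟨r.K, r.str, t, ht⟩, ⟨CategoryTheory.inv χ ≫ b⟩⟩

/-- **Universal injectivity descends along a surjective base change**: if `g : 𝒴' ⟶ 𝒴` is
surjective on points and the diagonal of the base change of `f` is surjective, then `Δ_f` is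
surjective. -/
theorem isSurjective_diag_of_surjective_baseChange (h𝒳 : FibCat.IsFibGrpd 𝒳.p)
    (h𝒴 : FibCat.IsFibGrpd 𝒴.p) (h𝒴' : FibCat.IsFibGrpd 𝒴'.p) (f : 𝒳 ⥤ᵇ 𝒴) (g : 𝒴' ⥤ᵇ 𝒴)
    (hg : AlgSt.IsSurjective g) (hΔ : AlgSt.IsSurjective (FibCat.diag (FibCat.fpFst g f))) :
    AlgSt.IsSurjective (FibCat.diag f) := by
  apply isSurjective_diag_of_forall_lift f
  intro q
  obtain ⟨r, ⟨m⟩⟩ := exists_fpt_hom_of_isSurjective h𝒴 h𝒴' g hg ((q.map (FibCat.fpFst f f)).map f)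
  exact ⟨𝒴', g, hΔ, exists_lift_dbcM h𝒳 h𝒴 f g q r m⟩

end Groth.Agent.H3.FPtRel
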