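import Mathlib
import Groth.Agent.Lib.Helper6.TFD5
import Groth.Agent.Lib.Helper3.GorC

/-!
# Duality for fractional ideals inside an overring `E ⊇ A` with a common denominator

`A` a one-dimensional Noetherian local domain, `E` a domain containing `A` with `d E ⊆ A` for some
`0 ≠ d ∈ A`, `ω ⊆ E` a canonical module.  Then `ℓ((ω : M)/(ω : N)) = ℓ(N/M)` for finitely
generated `A ⊆ M ⊆ N ⊆ E`.
-/

set_option autoImplicit false
universe u
open CategoryTheory

namespace Groth.Agent.H3.VS

open Groth.Agent.H6.TFD Groth.Agent.H3.Gor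

section Over

variable {A : Type u} [CommRing A] [IsDomain A] {E : Type u} [CommRing E] [IsDomain E]
  [Algebra A E] (hinjE : Function.Injective (algebraMap A E)) (d : A) (hd : d ≠ 0)
  (hdE : ∀ e : E, ∃ a : A, algebraMap A E a = algebraMap A E d * e)

include hinjE hd in
theorem algebraMap_d_ne_zero : algebraMap A E d ≠ 0 := by
  intro h
  exact hd (hinjE (by rw [h, map_zero]))

include hinjE hd hdE in
/-- linear maps between submodules of the overring are "multiplications" -/
theorem map_mul_comm' (P Q : Submodule A E) (g : ↥P →ₗ[A] ↥Q) (p p' : ↥P) :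
    (g p : E) * (p' : E) = (g p' : E) * (p : E) := by
  obtain ⟨a, ha⟩ := hdE (p : E)
  obtain ⟨a', ha'⟩ := hdE (p' : E)
  have hdK : algebraMap A E d ≠ 0 := algebraMap_d_ne_zero hinjE d hd
  have h1 : a' • p = a • p' := by
    apply Subtype.ext
    change a' • (p : E) = a • (p' : E)
    rw [Algebra.smul_def, Algebra.smul_def, ha, ha']
    ring
  have h2 : a' • g p = a • g p' := by rw [← map_smul, ← map_smul, h1]
  have h3 : algebraMap A E a' * (g p : E) = algebraMap A E a * (g p' : E) := by
    have := congrArg Subtype.val h2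
    change a' • (g p : E) = a • (g p' : E) at this
    rwa [Algebra.smul_def, Algebra.smul_def] at this
  rw [ha, ha'] at h3
  apply mul_left_cancel₀ hdK
  calc algebraMap A E d * ((g p : E) * (p' : E))
      = algebraMap A E d * (p' : E) * (g p : E) := by ring
    _ = algebraMap A E d * (p : E) * (g p' : E) := h3
    _ = algebraMap A E d * ((g p' : E) * (p : E)) := by ring

include hinjE in
theorem isTorsionFree_submodule (P : Submodule A E) : Module.IsTorsionFree A ↥P := by
  apply Module.IsTorsionFree.of_smul_eq_zero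
  intro r m h
  have h' := congrArg Subtype.val h
  change r • (m : E) = 0 at h'
  rw [Algebra.smul_def, mul_eq_zero] at h'
  rcases h' with h' | h'
  · left
    exact hinjE (by rw [h', map_zero])
  · right
    exact Subtype.ext h'

include hinjE hd hdE in
/-- a finitely generated submodule of the overring containing `1` of injective dimension at most
one is a canonical module -/
theorem isCan_of_submodule' (ω : Submodule A E) (h1 : (1 : E) ∈ ω) (hωfg : ω.FG)
    (hinj : HasInjectiveDimensionLT (ModuleCat.of A ↥ω) 2) : IsCan A ↥ω := by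
  refine ⟨Module.Finite.iff_fg.mpr hωfg, isTorsionFree_submodule hinjE ω, ⟨⟨1, h1⟩, 0, ?_⟩,
    hinj, ?_⟩
  · intro h
    exact one_ne_zero (congrArg Subtype.val h)
  · intro b
    obtain ⟨p, hp⟩ := hdE ((b ⟨1, h1⟩ : ↥ω) : E)
    refine ⟨p, d, hd, ?_⟩
    apply LinearMap.ext
    intro w
    apply Subtype.ext
    have h2 := map_mul_comm' hinjE d hd hdE ω ω b w ⟨1, h1⟩
    change (b w : E) * 1 = (b ⟨1, h1⟩ : E) * (w : E) at h2
    rw [mul_one] at h2
    change d • (b w : E) = p • (w : E)
    rw [Algebra.smul_def, Algebra.smul_def, hp, h2]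
    ring

variable [IsNoetherianRing A] [IsLocalRing A] (hdim : ringKrullDim A = 1)

include hinjE hd hdE hdim in
theorem isFiniteLength_quot_one (S : Submodule A E) (hSfg : S.FG) :
    IsFiniteLength A (↥S ⧸ Submodule.comap S.subtype (1 : Submodule A E)) := by
  haveI : Module.Finite A ↥S := Module.Finite.iff_fg.mpr hSfg
  apply isFiniteLength_of_torsion hdim
  intro t
  obtain ⟨s, rfl⟩ := Submodule.Quotient.mk_surjective _ t
  obtain ⟨a, ha⟩ := hdE (s : E)
  refine ⟨d, hd, ?_⟩
  rw [← Submodule.Quotient.mk_smul, Submodule.Quotient.mk_eq_zero, Submodule.mem_comap,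
    Submodule.mem_one]
  refine ⟨a, ?_⟩
  rw [ha]
  change _ = d • (s : E)
  rw [Algebra.smul_def]

include hinjE hd hdE hdim in
theorem relLen_one_ne_top (S : Submodule A E) (hSfg : S.FG) :
    relLen (1 : Submodule A E) S ≠ ⊤ := by
  rw [relLen_def, Module.length_ne_top_iff]
  exact isFiniteLength_quot_one hinjE d hd hdE hdim S hSfg

include hinjE hd hdE hdim in
/-- **`ℓ(ω/(ω : S)) = ℓ(S/A)`** -/
theorem length_colon_quot' (ω S : Submodule A E) (hW : IsCan A ↥ω) (h1 : 1 ≤ S)
    (hSfg : S.FG) :
    relLen (ω / S) ω = relLen (1 : Submodule A E) S := by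
  rw [relLen_def, relLen_def]
  haveI : Module.Finite A ↥S := Module.Finite.iff_fg.mpr hSfg
  haveI : Module.IsTorsionFree A ↥S := isTorsionFree_submodule hinjE S
  have h1S : (1 : E) ∈ S := Submodule.one_le.mp h1
  set oneS : ↥S := ⟨1, h1S⟩ with honeS
  set j : A →ₗ[A] ↥S := LinearMap.toSpanSingleton A ↥S oneS with hj
  have hja : ∀ a : A, ((j a : ↥S) : E) = algebraMap A E a := by
    intro a
    change a • (1 : E) = _
    rw [Algebra.smul_def, mul_one]
  have hjinj : Function.Injective j := by
    intro a b hab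
    apply hinjE
    rw [← hja, ← hja, hab]
  have hrange : LinearMap.range j = Submodule.comap S.subtype (1 : Submodule A E) := by
    ext x
    rw [Submodule.mem_comap, Submodule.mem_one]
    constructor
    · rintro ⟨a, rfl⟩
      exact ⟨a, (hja a).symm⟩
    · rintro ⟨a, ha⟩
      exact ⟨a, Subtype.ext ((hja a).trans ha)⟩
  have hfl : IsFiniteLength A (↥S ⧸ LinearMap.range j) := by
    rw [hrange]
    exact isFiniteLength_quot_one hinjE d hd hdE hdim S hSfg
  have hlen := length_coker_dual hdim hW j hjinj (ext_one_subsingleton hdim hW ↥S) hfl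
  rw [← (Submodule.quotEquivOfEq _ _ hrange).length_eq, ← hlen]
  have hmap : (LinearMap.range (LinearMap.lcomp A ↥ω j)).map
      (LinearMap.ringLmapEquivSelf A A ↥ω).toLinearMap =
      Submodule.comap ω.subtype (ω / S) := by
    ext w
    rw [Submodule.mem_comap, Submodule.mem_div_iff_forall_mul_mem]
    constructor
    · rintro ⟨_, ⟨g, rfl⟩, rfl⟩
      intro s hs
      have h2 := map_mul_comm' hinjE d hd hdE S ω g ⟨s, hs⟩ oneS
      change (g ⟨s, hs⟩ : E) * 1 = (g oneS : E) * s at h2
      rw [mul_one] at h2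
      have h3 : (LinearMap.ringLmapEquivSelf A A ↥ω) (LinearMap.lcomp A ↥ω j g) = g oneS := by
        change g (j 1) = g oneS
        rw [hj, LinearMap.toSpanSingleton_apply, one_smul]
      change (((LinearMap.ringLmapEquivSelf A A ↥ω) (LinearMap.lcomp A ↥ω j g) : ↥ω) : E) * s ∈ ω
      rw [h3, ← h2]
      exact (g ⟨s, hs⟩).2
    · intro hw
      let g : ↥S →ₗ[A] ↥ω :=
        { toFun := fun s => ⟨(w : E) * (s : E), hw s s.2⟩
          map_add' := fun s s' => Subtype.ext (by
            change (w : E) * ((s : E) + (s' : E)) = (w : E) * (s : E) + (w : E) * (s' : E)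
            ring)
          map_smul' := fun a s => Subtype.ext (by
            change (w : E) * (a • (s : E)) = a • ((w : E) * (s : E))
            rw [Algebra.smul_def, Algebra.smul_def]
            ring) }
      refine ⟨LinearMap.lcomp A ↥ω j g, ⟨g, rfl⟩, ?_⟩
      apply Subtype.ext
      change ((g (j 1) : ↥ω) : E) = w
      rw [hj, LinearMap.toSpanSingleton_apply, one_smul]
      change (w : E) * 1 = w
      rw [mul_one]
  exact (Submodule.Quotient.equiv _ _ (LinearMap.ringLmapEquivSelf A A ↥ω) hmap).length_eq.symm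

omit [IsDomain A] [IsDomain E] [IsNoetherianRing A] [IsLocalRing A] in
theorem colon_antitone (ω M N : Submodule A E) (hMN : M ≤ N) : ω / N ≤ ω / M := by
  intro x hx
  rw [Submodule.mem_div_iff_forall_mul_mem] at hx ⊢
  intro y hy
  exact hx y (hMN hy)

omit [IsDomain A] [IsDomain E] [IsNoetherianRing A] [IsLocalRing A] in
theorem colon_le_self (ω M : Submodule A E) (h1 : 1 ≤ M) : ω / M ≤ ω := by
  intro x hx
  rw [Submodule.mem_div_iff_forall_mul_mem] at hx
  have := hx 1 (Submodule.one_le.mp h1)
  rwa [mul_one] at this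

include hinjE hd hdE hdim in
/-- **`ℓ((ω : M)/(ω : N)) = ℓ(N/M)`** for `A ⊆ M ⊆ N` -/
theorem relLen_colon (ω M N : Submodule A E) (hW : IsCan A ↥ω) (h1 : 1 ≤ M) (hMN : M ≤ N)
    (hMfg : M.FG) (hNfg : N.FG) :
    relLen (ω / N) (ω / M) = relLen M N := by
  have e1 := relLen_add (ω / N) (ω / M) ω (colon_antitone ω M N hMN) (colon_le_self ω M h1)
  have e2 := relLen_add (1 : Submodule A E) M N h1 hMN
  have e3 := length_colon_quot' hinjE d hd hdE hdim ω N hW (h1.trans hMN) hNfg
  have e4 := length_colon_quot' hinjE d hd hdE hdim ω M hW h1 hMfg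
  have hfin := relLen_one_ne_top hinjE d hd hdE hdim M hMfg
  rw [e3, e4, e2, add_comm] at e1
  exact ((ENat.add_right_injective_of_ne_top hfin) e1).symm

end Over

end Groth.Agent.H3.VS
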