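import Mathlib
import Groth.Agent.Lib.Helper3.VSA
import Groth.Agent.Lib.Helper3.VSC

/-!
# The value set of `(ω : M)` for a canonical ideal `A ⊆ ω ⊆ k⟦X⟧`
-/

set_option autoImplicit false
universe u
open CategoryTheory

namespace Groth.Agent.H3.VS

open PowerSeries Groth.Agent.H3.Gor Groth.Agent.H6.TFD

section Main

variable {k : Type u} [Field k] (A : Subalgebra k k⟦X⟧) (c : ℕ)
  (hcond : ∀ f : k⟦X⟧, (c : ℕ∞) ≤ order f → f ∈ A)

include hcond in
theorem tp_le_one : tp A c ≤ (1 : Submodule ↥A k⟦X⟧) := by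
  intro x hx
  rw [Submodule.mem_one]
  exact ⟨⟨x, hcond x hx⟩, rfl⟩

include hcond in
theorem tp_le_colon_top (ω : Submodule ↥A k⟦X⟧) (h1 : 1 ≤ ω) : tp A c ≤ ω / ⊤ := by
  intro x hx
  rw [Submodule.mem_div_iff_forall_mul_mem]
  intro y _
  apply h1
  apply tp_le_one A c hcond
  rw [mem_tp] at hx ⊢
  rw [order_mul]
  exact le_trans hx le_self_add

/-- `(ω : k⟦X⟧)` is an ideal of `k⟦X⟧` -/
theorem colon_top_mul (ω : Submodule ↥A k⟦X⟧) {x : k⟦X⟧} (hx : x ∈ ω / ⊤) (z : k⟦X⟧) :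
    x * z ∈ ω / ⊤ := by
  rw [Submodule.mem_div_iff_forall_mul_mem] at hx ⊢
  intro y _
  rw [mul_assoc]
  exact hx _ trivial

theorem tp_le_colon_top_of_mem (ω : Submodule ↥A k⟦X⟧) {x : k⟦X⟧} (hx : x ∈ ω / ⊤) (v : ℕ)
    (hv : order x = v) : tp A v ≤ ω / ⊤ := by
  intro g hg
  rw [mem_tp] at hg
  have hx0 : x ≠ 0 := by
    rintro rfl
    rw [order_zero] at hv
    exact ENat.top_ne_natCast _ hv
  obtain ⟨z, -, rfl⟩ := exists_mul_eq x g hx0 0 (by rw [hv]; simpa using hg)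
  exact colon_top_mul A ω hx z

theorem colon_top_le_tp (ω : Submodule ↥A k⟦X⟧) (e : ℕ)
    (hmin : ∀ m < e, ¬ tp A m ≤ ω / ⊤) : ω / ⊤ ≤ tp A e := by
  intro x hx
  rw [mem_tp]
  by_cases hx0 : x = 0
  · rw [hx0, order_zero]
    exact le_top
  have hv' : ((x.order.toNat : ℕ) : ℕ∞) = order x := coe_toNat_order hx0
  have h1 := tp_le_colon_top_of_mem A ω hx _ hv'.symm
  rw [← hv']
  by_contra hlt
  exact hmin _ (by exact_mod_cast not_le.mp hlt) h1

theorem tp_pred_le (ω : Submodule ↥A k⟦X⟧) (e : ℕ) (he : tp A (e + 1) ≤ ω)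
    (h : e ∈ vals A ω) : tp A e ≤ ω := by
  obtain ⟨f, hfω, hf⟩ := h
  intro g hg
  rw [mem_tp] at hg
  have h1 := le_order_sub_C_mul g f e hg hf
  have h2 : g - C (coeff e g / coeff e f) * f ∈ ω := he h1
  have h3 : C (coeff e g / coeff e f) * f ∈ ω := C_mul_mem A ω _ hfω
  have := ω.add_mem h2 h3
  rwa [sub_add_cancel] at this

/-- if `tp (e+1) ≤ (ω : k⟦X⟧)` but not `tp e`, then `e` is not a value of `ω` -/
theorem notMem_vals_of_min (ω : Submodule ↥A k⟦X⟧) (e : ℕ) (he : tp A (e + 1) ≤ ω / ⊤)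
    (hmin : ¬ tp A e ≤ ω / ⊤) : e ∉ vals A ω := by
  intro h
  apply hmin
  have h1 : tp A e ≤ ω :=
    tp_pred_le A ω e (he.trans (colon_le_self ω ⊤ le_top)) h
  intro x hx
  rw [Submodule.mem_div_iff_forall_mul_mem]
  intro y _
  apply h1
  rw [mem_tp] at hx ⊢
  rw [order_mul]
  exact le_trans hx le_self_add

/-- values of `(ω : M)` and of `M` never add up to a non-value of `ω` -/
theorem add_ne_of_notMem (ω M : Submodule ↥A k⟦X⟧) (q : ℕ) (hq : q ∉ vals A ω) (i j : ℕ)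
    (hi : i ∈ vals A (ω / M)) (hj : j ∈ vals A M) : i + j ≠ q := by
  obtain ⟨u, hu, hui⟩ := hi
  obtain ⟨m, hm, hmj⟩ := hj
  rw [Submodule.mem_div_iff_forall_mul_mem] at hu
  rintro rfl
  apply hq
  refine ⟨u * m, hu m hm, ?_⟩
  rw [order_mul, hui, hmj]
  push_cast
  rfl

end Main

/-- the combinatorial step determining the conductor exponent -/
theorem comb2 (e c : ℕ) (hec : e ≤ c) (V W : Set ℕ) [DecidablePred (· ∈ V)]
    [DecidablePred (· ∈ W)] (h1 : ∀ i < e, i ∈ V → e - 1 - i ∉ W)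
    (h2 : ((Finset.range c).filter (fun j => j ∉ W)).card ≤
      ((Finset.range e).filter (fun i => i ∈ V)).card) (hc0 : c ≠ 0) (hc1 : c - 1 ∉ W) :
    e = c := by
  set S := (Finset.range e).filter (fun i => i ∈ V) with hS
  set Te := (Finset.range e).filter (fun j => j ∉ W) with hTe
  set Tc := (Finset.range c).filter (fun j => j ∉ W) with hTc
  have hST : S.card ≤ Te.card := by
    apply Finset.card_le_card_of_injOn (fun i => e - 1 - i)
    · intro i hi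
      rw [hS, Finset.coe_filter, Set.mem_ofPred_eq, Finset.mem_range] at hi
      rw [hTe, Finset.coe_filter, Set.mem_ofPred_eq, Finset.mem_range]
      refine ⟨?_, h1 i hi.1 hi.2⟩
      dsimp only
      omega
    · intro i hi i' hi' hii'
      rw [hS, Finset.coe_filter, Set.mem_ofPred_eq, Finset.mem_range] at hi hi'
      dsimp only at hii'
      omega
  have hsub : Te ⊆ Tc := by
    intro j hj
    rw [hTe, Finset.mem_filter, Finset.mem_range] at hj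
    rw [hTc, Finset.mem_filter, Finset.mem_range]
    exact ⟨by omega, hj.2⟩
  have heq : Te = Tc := Finset.eq_of_subset_of_card_le hsub (h2.trans hST)
  have hmem : c - 1 ∈ Tc := by
    rw [hTc, Finset.mem_filter, Finset.mem_range]
    exact ⟨by omega, hc1⟩
  rw [← heq, hTe, Finset.mem_filter, Finset.mem_range] at hmem
  omega

section Final

variable {k : Type u} [Field k] (A : Subalgebra k k⟦X⟧) (hA : Module.Finite ↥A k⟦X⟧) (c : ℕ)
  (hcond : ∀ f : k⟦X⟧, (c : ℕ∞) ≤ order f → f ∈ A) (hc0 : c ≠ 0)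
  (hc1 : c - 1 ∉ vals A (1 : Submodule ↥A k⟦X⟧))
  (ω : Submodule ↥A k⟦X⟧) (hω1 : (1 : k⟦X⟧) ∈ ω) (hωfg : ω.FG)
  (hωinj : HasInjectiveDimensionLT (ModuleCat.of ↥A ↥ω) 2)

theorem vals_le_vals_colon_one (ω : Submodule ↥A k⟦X⟧) : vals A ω ⊆ vals A (ω / 1) := by
  rintro i ⟨f, hf, hfo⟩
  refine ⟨f, ?_, hfo⟩
  rw [Submodule.mem_div_iff_forall_mul_mem]
  intro y hy
  obtain ⟨a, rfl⟩ := Submodule.mem_one.mp hy
  have := ω.smul_mem a hf
  rw [mul_comm]
  exact this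

include hA hcond hc0 hc1 hω1 hωfg hωinj in
/-- `(ω : k⟦X⟧) = X^c k⟦X⟧` and `c - 1` is not a value of `ω` -/
theorem colon_top_eq : ω / ⊤ = tp A c ∧ c - 1 ∉ vals A ω := by
  classical
  haveI := isLocalRing A hA
  haveI := isNoetherianRing A hA c hcond
  have hdim := ringKrullDim_eq_one A c hcond hA
  have hinjE := algebraMap_injective A
  have hd := dA_ne_zero A c hcond
  have hdE := dA_mul A c hcond
  have hW : IsCan ↥A ↥ω := isCan_of_submodule' hinjE _ hd hdE ω hω1 hωfg hωinj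
  have h1ω : 1 ≤ ω := Submodule.one_le.mpr hω1
  have hex : ∃ e, tp A e ≤ ω / ⊤ := ⟨c, tp_le_colon_top A c hcond ω h1ω⟩
  set e := Nat.find hex with he
  have he1 : tp A e ≤ ω / ⊤ := Nat.find_spec hex
  have hmin : ∀ m < e, ¬ tp A m ≤ ω / ⊤ := fun m hm => Nat.find_min hex hm
  have hec : e ≤ c := Nat.find_min' hex (tp_le_colon_top A c hcond ω h1ω)
  have heq : ω / ⊤ = tp A e := le_antisymm (colon_top_le_tp A ω e hmin) he1
  have hfgtop : (⊤ : Submodule ↥A k⟦X⟧).FG := hA.fg_top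
  have hdual := length_colon_quot' hinjE _ hd hdE hdim ω ⊤ hW le_top hfgtop
  have hle : tp A e ≤ ω := heq ▸ colon_le_self ω ⊤ le_top
  rw [heq, relLen_tp A ω e hle, relLen_top A 1 c (tp_le_one A c hcond)] at hdual
  have hcnt : cnt A ω e = gaps A 1 c := by exact_mod_cast hdual
  have hq : 0 < e → e - 1 ∉ vals A ω := by
    intro he0
    apply notMem_vals_of_min A ω (e - 1)
    · have : e - 1 + 1 = e := by omega
      rw [this]
      exact he1
    · exact hmin (e - 1) (by omega)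
  have hgap : ∀ i < e, i ∈ vals A ω → e - 1 - i ∉ vals A (1 : Submodule ↥A k⟦X⟧) := by
    intro i hi hiV hW'
    exact add_ne_of_notMem A ω 1 (e - 1) (hq (by omega)) i (e - 1 - i)
      (vals_le_vals_colon_one A ω hiV) hW' (by omega)
  have hec' : e = c := by
    apply comb2 e c hec (vals A ω) (vals A (1 : Submodule ↥A k⟦X⟧)) hgap _ hc0 hc1
    have h := hcnt.ge
    rw [cnt_def, gaps_def] at h
    convert h using 2
  rw [← hec']
  exact ⟨heq, hq (by omega)⟩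

include hA hcond hc0 hc1 hω1 hωfg hωinj in
/-- the value set of `(ω : M)` is the dual of the value set of `M` -/
theorem main (M : Submodule ↥A k⟦X⟧) (hMfg : M.FG) (hM1 : (1 : k⟦X⟧) ∈ M) (n : ℕ) :
    n ∈ vals A (ω / M) ↔ (c ≤ n ∨ c - 1 - n ∉ vals A M) := by
  classical
  obtain ⟨heq, hq⟩ := colon_top_eq A hA c hcond hc0 hc1 ω hω1 hωfg hωinj
  haveI := isLocalRing A hA
  haveI := isNoetherianRing A hA c hcond
  have hdim := ringKrullDim_eq_one A c hcond hA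
  have hinjE := algebraMap_injective A
  have hd := dA_ne_zero A c hcond
  have hdE := dA_mul A c hcond
  have hW : IsCan ↥A ↥ω := isCan_of_submodule' hinjE _ hd hdE ω hω1 hωfg hωinj
  have h1M : 1 ≤ M := Submodule.one_le.mpr hM1
  have hfgtop : (⊤ : Submodule ↥A k⟦X⟧).FG := hA.fg_top
  have hle : tp A c ≤ ω / M := heq ▸ colon_antitone ω M ⊤ le_top
  have hdual := relLen_colon hinjE _ hd hdE hdim ω M ⊤ hW h1M le_top hMfg hfgtop
  rw [heq, relLen_tp A (ω / M) c hle, relLen_top A M c ((tp_le_one A c hcond).trans h1M)]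
    at hdual
  have hcnt : cnt A (ω / M) c = gaps A M c := by exact_mod_cast hdual
  have h1 : ∀ i < c, i ∈ vals A (ω / M) → c - 1 - i ∉ vals A M := fun i hi hV hW' =>
    add_ne_of_notMem A ω M (c - 1) hq i (c - 1 - i) hV hW' (by omega)
  have hcomb : ∀ i < c, c - 1 - i ∉ vals A M → i ∈ vals A (ω / M) := by
    apply comb c (vals A (ω / M)) (vals A M) h1
    have h := hcnt.ge
    rw [cnt_def, gaps_def] at h
    convert h using 2
  have hbig : c ≤ n → n ∈ vals A (ω / M) := fun hcn =>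
    ⟨X ^ n, hle (by rw [mem_tp, order_X_pow]; exact_mod_cast hcn), order_X_pow n⟩
  constructor
  · intro hn
    by_cases hcn : c ≤ n
    · exact Or.inl hcn
    · exact Or.inr (h1 n (by omega) hn)
  · rintro (hcn | hn)
    · exact hbig hcn
    · by_cases hcn : c ≤ n
      · exact hbig hcn
      · exact hcomb n (by omega) hn

end Final

section Cor

variable {k : Type u} [Field k] (A : Subalgebra k k⟦X⟧)

theorem vals_one_iff (n : ℕ) :
    n ∈ vals A (1 : Submodule ↥A k⟦X⟧) ↔ ∃ f ∈ A, order f = (n : ℕ∞) := by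
  constructor
  · rintro ⟨f, hf, hfo⟩
    obtain ⟨a, rfl⟩ := Submodule.mem_one.mp hf
    exact ⟨a, a.2, hfo⟩
  · rintro ⟨f, hf, hfo⟩
    exact ⟨f, Submodule.mem_one.mpr ⟨⟨f, hf⟩, rfl⟩, hfo⟩

theorem colon_one (ω : Submodule ↥A k⟦X⟧) : ω / 1 = ω := by
  apply le_antisymm (colon_le_self ω 1 le_rfl)
  intro f hf
  rw [Submodule.mem_div_iff_forall_mul_mem]
  intro y hy
  obtain ⟨a, rfl⟩ := Submodule.mem_one.mp hy
  have := ω.smul_mem a hf
  rw [mul_comm]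
  exact this

theorem fg_one : (1 : Submodule ↥A k⟦X⟧).FG := by
  rw [Submodule.one_eq_span]
  exact Submodule.fg_span_singleton _

/-- the full statement (S19528) -/
theorem main' (hA : Module.Finite ↥A k⟦X⟧)
    (hcl : ∀ f : k⟦X⟧, (∀ n : ℕ, ∃ g ∈ A, (n : ℕ∞) ≤ order (f - g)) → f ∈ A)
    (Γ : Set ℕ) (hΓ : ∀ n : ℕ, n ∈ Γ ↔ ∃ f ∈ A, order f = n) (c : ℕ)
    (hc : ∀ n : ℕ, c ≤ n → n ∈ Γ) (hc0 : c ≠ 0) (hc1 : c - 1 ∉ Γ)
    (ω : Submodule ↥A k⟦X⟧) (hω1 : (1 : k⟦X⟧) ∈ ω) (hωfg : ω.FG)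
    (hωinj : HasInjectiveDimensionLT (ModuleCat.of ↥A ↥ω) 2)
    (M : Submodule ↥A k⟦X⟧) (hMfg : M.FG) (hM1 : (1 : k⟦X⟧) ∈ M) (n : ℕ) :
    (∃ u : k⟦X⟧, order u = n ∧ ∀ m ∈ M, u * m ∈ ω) ↔
      (c ≤ n ∨ ¬ ∃ m ∈ M, order m = ((c - 1 - n : ℕ) : ℕ∞)) := by
  have hcond := conductor_of_closed A hcl c (fun n hn => (hΓ n).mp (hc n hn))
  have hc1' : c - 1 ∉ vals A (1 : Submodule ↥A k⟦X⟧) := fun h =>
    hc1 ((hΓ _).mpr ((vals_one_iff A _).mp h))
  have hmain := main A hA c hcond hc0 hc1' ω hω1 hωfg hωinj M hMfg hM1 n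
  constructor
  · rintro ⟨u, hu, h⟩
    exact hmain.mp ⟨u, Submodule.mem_div_iff_forall_mul_mem.mpr h, hu⟩
  · intro h
    obtain ⟨u, hu, huo⟩ := hmain.mpr h
    exact ⟨u, huo, Submodule.mem_div_iff_forall_mul_mem.mp hu⟩

/-- the case `M = A` (S15022) -/
theorem main'' (hA : Module.Finite ↥A k⟦X⟧)
    (hcl : ∀ f : k⟦X⟧, (∀ n : ℕ, ∃ g ∈ A, (n : ℕ∞) ≤ order (f - g)) → f ∈ A)
    (Γ : Set ℕ) (hΓ : ∀ n : ℕ, n ∈ Γ ↔ ∃ f ∈ A, order f = n) (c : ℕ)
    (hc : ∀ n : ℕ, c ≤ n → n ∈ Γ) (hc0 : c ≠ 0) (hc1 : c - 1 ∉ Γ)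
    (ω : Submodule ↥A k⟦X⟧) (hω1 : (1 : k⟦X⟧) ∈ ω) (hωfg : ω.FG)
    (hωinj : HasInjectiveDimensionLT (ModuleCat.of ↥A ↥ω) 2) (n : ℕ) :
    (∃ f ∈ ω, order f = n) ↔ (c ≤ n ∨ c - 1 - n ∉ Γ) := by
  have hcond := conductor_of_closed A hcl c (fun n hn => (hΓ n).mp (hc n hn))
  have hc1' : c - 1 ∉ vals A (1 : Submodule ↥A k⟦X⟧) := fun h =>
    hc1 ((hΓ _).mpr ((vals_one_iff A _).mp h))
  have hmain := main A hA c hcond hc0 hc1' ω hω1 hωfg hωinj 1 (fg_one A)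
    (Submodule.one_le.mp le_rfl) n
  rw [colon_one] at hmain
  have h2 : c - 1 - n ∉ vals A (1 : Submodule ↥A k⟦X⟧) ↔ c - 1 - n ∉ Γ := by
    rw [vals_one_iff, hΓ]
  rw [h2] at hmain
  exact hmain

end Cor

end Groth.Agent.H3.VS
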