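import Mathlib
import Groth.Statements.S14017

set_option autoImplicit false
open CategoryTheory CategoryTheory.Limits AlgebraicGeometry Opposite
universe u

namespace Groth.Agent.H3.WCSec

variable {Λ : Type (u + 1)} [CommRing Λ] {X : Scheme.{u}}

/-- sections over `U` as a functor -/
noncomputable abbrev secU (U : X.ProEt) : EtModW.ModP Λ X ⥤ ModuleCat.{u + 1} Λ :=
  sheafToPresheaf _ _ ⋙ (evaluation _ _).obj (op U)

lemma secU_smul_id (U : X.ProEt) (a : Λ) (F : EtModW.ModP Λ X) :
    (secU U).map (a • 𝟙 F) = a • 𝟙 _ := rfl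

/-- an epimorphism of sheaves of modules is surjective on sections over a weakly contractible
object -/
theorem surjective_of_epi {U : X.ProEt} (hU : ProEtS.IsWC U) {A B : EtModW.ModP Λ X} (φ : A ⟶ B)
    [Epi φ] : Function.Surjective (φ.hom.app (op U)).hom := by
  have h1 : Sheaf.IsLocallySurjective φ := (Sheaf.isLocallySurjective_iff_epi' _ φ).2 inferInstance
  let ψ := (sheafCompose (Scheme.ProEt.topology X) (forget (ModuleCat.{u + 1} Λ))).map φ
  have h2 : Sheaf.IsLocallySurjective ψ :=
    (Presheaf.isLocallySurjective_iff_whisker_forget _ φ.hom).1 h1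
  have h3 : Epi ψ := (Sheaf.isLocallySurjective_iff_epi ψ).1 h2
  have h4 := hU _ _ ψ h3
  intro y
  obtain ⟨x, hx⟩ := h4 y
  exact ⟨x, hx⟩

/-- sections are left exact -/
theorem exists_of_map_eq_zero (U : X.ProEt) {A B : EtModW.ModP Λ X} (c : A ⟶ B)
    (x : A.obj.obj (op U)) (hx : (c.hom.app (op U)).hom x = 0) :
    ∃ y : (kernel c).obj.obj (op U), ((kernel.ι c).hom.app (op U)).hom y = x := by
  let S : ShortComplex (EtModW.ModP Λ X) := ShortComplex.mk (kernel.ι c) c (kernel.condition c)
  have hS : S.Exact := ShortComplex.exact_of_f_is_kernel _ (kernelIsKernel c)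
  have hS' : (S.map (secU U)).Exact :=
    hS.map_of_mono_of_preservesKernel (secU U) (inferInstanceAs (Mono (kernel.ι c))) inferInstance
  rw [ShortComplex.moduleCat_exact_iff] at hS'
  exact hS' x hx

/-- sections over a weakly contractible object commute with `F ↦ F/IF` -/
theorem main (I : Ideal Λ) (hI : I.FG) (F Q : EtModW.ModP Λ X) (p : F ⟶ Q)
    (hp : ARSys.IsQuot I p) (U : X.ProEt) (hU : ProEtS.IsWC U) :
    Function.Surjective (p.hom.app (op U)).hom ∧
      LinearMap.ker (p.hom.app (op U)).hom = I • (⊤ : Submodule Λ (F.obj.obj (op U))) := by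
  obtain ⟨hQ, huniv⟩ := hp
  haveI : HasFiniteBiproducts (EtModW.ModP Λ X) := HasFiniteBiproducts.of_hasFiniteProducts
  have hepi : Epi p := by
    constructor
    intro Y g h hgh
    have hk : ARSys.HomKilledBy I (p ≫ g) := by
      intro a ha
      have e1 : a • (p ≫ g) = p ≫ ((a • 𝟙 Q) ≫ g) := by
        rw [Linear.smul_comp, Category.id_comp, Linear.comp_smul]
      rw [e1, hQ a ha, zero_comp, comp_zero]
    obtain ⟨ψ, -, hψ⟩ := huniv Y (p ≫ g) hk
    rw [hψ g rfl, hψ h hgh.symm]
  refine ⟨surjective_of_epi hU p, le_antisymm ?_ ?_⟩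
  · obtain ⟨n, s, hs⟩ := Submodule.fg_iff_exists_fin_generating_family.1 hI
    let σ : (⨁ fun _ : Fin n => F) ⟶ F := biproduct.desc (fun i => (s i) • 𝟙 F)
    let c : F ⟶ cokernel σ := cokernel.π σ
    have hc : ARSys.HomKilledBy I c := by
      intro a ha
      rw [← hs] at ha
      induction ha using Submodule.span_induction with
      | mem a ha =>
        obtain ⟨i, rfl⟩ := ha
        have e1 : (s i • 𝟙 F) = biproduct.ι (fun _ : Fin n => F) i ≫ σ :=
          (biproduct.ι_desc (fun i : Fin n => (s i) • 𝟙 F) i).symm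
        calc s i • c = (s i • 𝟙 F) ≫ c := by rw [Linear.smul_comp, Category.id_comp]
          _ = 0 := by rw [e1, Category.assoc, cokernel.condition, comp_zero]
      | zero => exact zero_smul _ _
      | add a b _ _ ha hb => rw [add_smul, ha, hb, add_zero]
      | smul r a _ ha => rw [smul_eq_mul, mul_smul, ha, smul_zero]
    obtain ⟨ψ, hψ, -⟩ := huniv _ c hc
    intro x hx
    rw [LinearMap.mem_ker] at hx
    have hcx : (c.hom.app (op U)).hom x = 0 := by
      rw [← hψ]
      change (ψ.hom.app (op U)).hom ((p.hom.app (op U)).hom x) = 0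
      rw [hx, map_zero]
    obtain ⟨y, hy⟩ := exists_of_map_eq_zero U c x hcx
    have hS : (ShortComplex.mk σ c (cokernel.condition σ)).Exact := ShortComplex.exact_cokernel σ
    haveI : Epi (kernel.lift c σ (cokernel.condition σ)) := hS.epi_kernelLift
    obtain ⟨z, hz⟩ := surjective_of_epi hU (kernel.lift c σ (cokernel.condition σ)) y
    have hxz : x = ((secU U).map σ).hom z := by
      rw [← hy, ← hz]
      have := congrArg (fun t => ((secU U).map t).hom z) (kernel.lift_ι c σ (cokernel.condition σ))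
      exact this
    have hσ : σ = ∑ i : Fin n, biproduct.π (fun _ : Fin n => F) i ≫ ((s i) • 𝟙 F) :=
      biproduct.desc_eq
    have hσU : (secU U).map σ =
        ∑ i : Fin n, (secU U).map (biproduct.π (fun _ : Fin n => F) i) ≫ ((s i) • 𝟙 _) := by
      conv_lhs => rw [hσ]
      rw [Functor.map_sum]
      refine Finset.sum_congr rfl (fun i _ => ?_)
      rw [Functor.map_comp, secU_smul_id]
    rw [hxz, hσU, ModuleCat.hom_sum, LinearMap.sum_apply]
    refine Submodule.sum_mem _ (fun i _ => ?_)
    rw [ModuleCat.hom_comp, LinearMap.comp_apply, ModuleCat.hom_smul, LinearMap.smul_apply,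
      ModuleCat.hom_id, LinearMap.id_apply]
    refine Submodule.smul_mem_smul ?_ Submodule.mem_top
    rw [← hs]
    exact Submodule.subset_span ⟨i, rfl⟩
  · rw [Submodule.smul_le]
    intro a ha x _
    rw [LinearMap.mem_ker, LinearMap.map_smul]
    have h0 : (secU U).map (a • 𝟙 Q) = 0 := by rw [hQ a ha, Functor.map_zero]
    rw [secU_smul_id] at h0
    have h1 : (a • 𝟙 ((secU U).obj Q) : (secU U).obj Q ⟶ (secU U).obj Q).hom
        ((p.hom.app (op U)).hom x) = 0 := by
      rw [h0]
      rfl
    rw [ModuleCat.hom_smul, LinearMap.smul_apply, ModuleCat.hom_id, LinearMap.id_apply] at h1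
    exact h1

end Groth.Agent.H3.WCSec
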