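import Mathlib
import Groth.Agent.Lib.Helper3.AlgSt.DiagCover
import Groth.Agent.Lib.Helper3.AlgSt.DiagEt
import Groth.Agent.Lib.Helper3.DiagSquare
import Groth.Agent.Lib.Helper3.AlgSt.Points.QuasiCompact
import Groth.Agent.Lib.Helper7.QFin7
import Groth.Prelude.Def_W4stkstmodspWNA

/-!
# Well-nigh affine stacks are quasi-compact, quasi-DM and separated (S16697, helper3)
-/

set_option autoImplicit false
universe u
open CategoryTheory CategoryTheory.Functor CategoryTheory.Limits Opposite AlgebraicGeometry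

namespace Groth.Agent.H3.WNAff

open Groth.Agent.H3.FibCatAux Groth.Agent.H3.GerbAux Groth.Agent.H3.FpCalc Groth.Agent.H3.TwoCart
  Groth.Agent.H3.AlgStAux Groth.Agent.H3.BaseChangeSp Groth.Agent.H3.AlgStComp
  Groth.Agent.H3.AlgStProps Groth.Agent.H3.AlgStBridge2 Groth.Agent.H3.AlgStDiagProp
  Groth.Agent.H3.AlgSpCov Groth.Agent.H3.AlgStCharts Groth.Agent.H3.AlgStProd
  Groth.Agent.H3.AlgStDiag Groth.Agent.H3.AlgStProdMap Groth.Agent.H3.AlgStLES
  Groth.Agent.H3.AlgStDescent Groth.Agent.H3.AlgStCancel Groth.Agent.H3.AlgStDiagFacts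
  Groth.Agent.H3.RepBridge Groth.Agent.H3.AlgStDiagLft Groth.Agent.H3.AlgStDiagRep
  Groth.Agent.H3.AlgStDiagCover Groth.Agent.H3.AlgStDiagEt Groth.Agent.H3.DiagSquare
  Groth.Agent.H3.AlgStPoints
open AlgSp

variable {S : Scheme.{u}} {𝒳 𝒲 : AlgSt.Cat S}

/-- Variant of `diag_toSelf_of_cover`: only the diagonal of the projection
`𝒲 ×_S 𝒲 ⟶ 𝒲` is required to have `P`. -/
theorem diag_toSelf_of_cover' (P : MorphismProperty (Sp S)) (hP : Good P)
    (hX : FibCat.IsFibGrpd 𝒳.p) (hΔ : AlgSt.RepByAlgSp1 (FibCat.diag (FibCat.toSelf 𝒳)))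
    (hW : FibCat.IsFibGrpd 𝒲.p) (w : 𝒲 ⥤ᵇ 𝒳)
    (hw₁ : AlgSt.RepByAlgSpWith (LocP @Flat) w)
    (hw₂ : AlgSt.RepByAlgSpWith (LocP @LocallyOfFinitePresentation) w)
    (hw₃ : AlgSt.RepByAlgSpWith IsSurjectiveMor w) (hw₄ : AlgSt.RepByAlgSpWith P w)
    (hD : AlgSt.RepByAlgSpWith P (FibCat.diag (FibCat.fpFst
      (BasedFunctor.comp w (FibCat.toSelf 𝒳)) (BasedFunctor.comp w (FibCat.toSelf 𝒳))))) :
    AlgSt.RepByAlgSpWith P (FibCat.diag (FibCat.toSelf 𝒳)) := by
  have hS : FibCat.IsFibGrpd (FibCat.selfOver (Over S)).p := isFibGrpd_id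
  set t := FibCat.toSelf 𝒳 with ht
  have hR1 : AlgSt.RepByAlgSpWith (LocP @Flat) (magicR w w t) :=
    repByAlgSpWith_prodMap _ good_flat hW hW hX hS w w t t hw₁ hw₁
  have hR2 : AlgSt.RepByAlgSpWith (LocP @LocallyOfFinitePresentation) (magicR w w t) :=
    repByAlgSpWith_prodMap _ good_lfp hW hW hX hS w w t t hw₂ hw₂
  have hR3 : AlgSt.RepByAlgSpWith IsSurjectiveMor (magicR w w t) :=
    repByAlgSpWith_prodMap _ good_isSurjectiveMor hW hW hX hS w w t t hw₃ hw₃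
  have hLES : LES (magicR w w t) := les_of_fppf _ hR1 hR2 hR3
  refine repByAlgSpWith_descent _ hP.bc hP.loc (FibCat.diag t) hΔ (magicR w w t) hLES ?_
  have hI : AlgSt.RepByAlgSpWith P (magicI w w t (magicIso w w t)) := by
    have hfp := X6401 (BasedFunctor.comp w t) (BasedFunctor.comp w t) hW hW hS
    refine repByAlgSpWith_cancel _ hP.toC (X6401 w w hW hW hX) hfp hW
      (magicI w w t (magicIso w w t))
      (FibCat.fpFst (BasedFunctor.comp w t) (BasedFunctor.comp w t)) ?_ hD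
    exact repByAlgSpWith_fpFst _ w w hw₄
  let ε : BasedFunctor.comp (magicI w w t (magicIso w w t)) (BasedFunctor.id _) ≅
      BasedFunctor.comp
        (FibCat.fpLift (magicI w w t (magicIso w w t)) (magicL w w)
          (magicE w w t (magicIso w w t) (fun W => magicIso_app w w t W)))
        (FibCat.fpFst (magicR w w t) (FibCat.diag t)) := Iso.refl _
  exact repByAlgSpWith_of_square' _ _ _ _ (BasedFunctor.id _)
    (magic_isTwoCartOver w w t (magicIso w w t) (fun W => magicIso_app w w t W)) isEquivOver_id ε hI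

/-- transfer of the diagonal along a square whose right side is only fully faithful -/
theorem diag_iff_of_square_ff {𝒳 𝒴 𝒳' 𝒴' : AlgSt.Cat S} (f : 𝒳 ⥤ᵇ 𝒴) (f' : 𝒳' ⥤ᵇ 𝒴')
    (a : 𝒳' ⥤ᵇ 𝒳) (b : 𝒴' ⥤ᵇ 𝒴) (e : BasedFunctor.comp f' b ≅ BasedFunctor.comp a f)
    (P : MorphismProperty (AlgSp.Sp S)) (ha : FibCat.IsEquivOver a)
    [b.toFunctor.Full] [b.toFunctor.Faithful] :
    AlgSt.RepByAlgSpWith P (FibCat.diag f') ↔ AlgSt.RepByAlgSpWith P (FibCat.diag f) := by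
  have hM : FibCat.IsEquivOver (prodSq f f' a b e) := isEquivOver_prodSq f f' a b e ha
  constructor
  · exact repByAlgSpWith_of_square' P (FibCat.diag f) (FibCat.diag f') a (prodSq f f' a b e) ha hM
      (diagSqG f f' a b e)
  · exact repByAlgSpWith_of_square P (FibCat.diag f) (FibCat.diag f') a (prodSq f f' a b e) ha hM
      (diagSqG f f' a b e)

/-- a scheme separated over `S` has proper diagonal over `S`, as a stack -/
theorem isProper_diag_toSelf_overCat (U : Over S) [IsSeparated U.hom] :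
    AlgSt.RepByAlgSpWith IsProperMor (FibCat.diag (FibCat.toSelf (FibCat.overCat U))) := by
  obtain ⟨g, hg⟩ : ∃ g : U ⟶ Over.mk (𝟙 S), g.left = U.hom := ⟨Over.homMk U.hom, rfl⟩
  have hsep : IsSeparatedMor ((yon S).map g) :=
    (isSeparatedMor_yon_map_iff g).2 (by rw [hg]; infer_instance)
  have hprop : IsProperMor (pullback.diagonal ((yon S).map g)) :=
    Groth.Agent.H5.AlgSp.isProperMor_of_isClosedImmersion hsep
  have h1 : AlgSt.RepByAlgSpWith IsProperMor (FibCat.diag (Stk.ofPshMap ((yon S).map g).hom)) :=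
    (repByAlgSpWith_diag_ofPshMap_iff ((yon S).map g) IsProperMor good_isProperMor.bc
      good_isProperMor.toC.charts (IsAlgSpace.yon_obj U) (IsAlgSpace.yon_obj _)).2 hprop
  haveI : (FibCat.toSelf (Stk.ofPsh ((yon S).obj (Over.mk (𝟙 S))).obj)).toFunctor.Full :=
    toSelf_termSp_full (S := S)
  haveI : (FibCat.toSelf (Stk.ofPsh ((yon S).obj (Over.mk (𝟙 S))).obj)).toFunctor.Faithful :=
    toSelf_ofPsh_faithful _
  let ε : BasedFunctor.comp (Stk.ofPshMap ((yon S).map g).hom)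
        (FibCat.toSelf (Stk.ofPsh ((yon S).obj (Over.mk (𝟙 S))).obj)) ≅
      BasedFunctor.comp (toOver U) (FibCat.toSelf (FibCat.overCat U)) :=
    eqToIso ((eq_toSelf _).trans (eq_toSelf _).symm)
  exact (diag_iff_of_square_ff (FibCat.toSelf (FibCat.overCat U))
    (Stk.ofPshMap ((yon S).map g).hom) (toOver U)
    (FibCat.toSelf (Stk.ofPsh ((yon S).obj (Over.mk (𝟙 S))).obj)) ε IsProperMor
    (isEquivOver_toOver U)).1 h1

/-- **S16697** -/
theorem main (𝒳 : AlgSt.Cat S) (h𝒳 : AlgSt.IsAlgStack Scheme.fppfPrecoverage 𝒳)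
    (hw : AlgSt.IsWellNighAffine 𝒳) :
    AlgSt.IsQuasiCompact 𝒳 ∧ AlgSt.IsQuasiDMOver 𝒳 ∧ AlgSt.IsSeparatedOver 𝒳 := by
  obtain ⟨U, x, hU, hx⟩ := hw
  haveI : IsAffine U.left := hU
  have hx1 : AlgSt.RepByAlgSpWith IsSurjectiveMor x :=
    repByAlgSpWith_mono (fun _ _ a h => by obtain ⟨⟨⟨h1, -⟩, -⟩, -⟩ := h; exact h1) hx
  have hx2 : AlgSt.RepByAlgSpWith (LocP @Flat) x :=
    repByAlgSpWith_mono (fun _ _ a h => by obtain ⟨⟨⟨-, h2⟩, -⟩, -⟩ := h; exact h2) hx
  have hx3 : AlgSt.RepByAlgSpWith IsFiniteMor x :=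
    repByAlgSpWith_mono (fun _ _ a h => by obtain ⟨⟨-, h3⟩, -⟩ := h; exact h3) hx
  have hx4 : AlgSt.RepByAlgSpWith (LocP @LocallyOfFinitePresentation) x :=
    repByAlgSpWith_mono (fun _ _ a h => by obtain ⟨-, h4⟩ := h; exact h4) hx
  have hx5 : AlgSt.RepByAlgSpWith (LocP (@LocallyQuasiFinite ⊓ @LocallyOfFiniteType)) x :=
    repByAlgSpWith_mono
      (fun _ _ a h => (Groth.Agent.H7.QFinSp.isProperMor_and_lqf_of_isFiniteMor h).2) hx3
  have hx6 : AlgSt.RepByAlgSpWith IsProperMor x :=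
    repByAlgSpWith_mono
      (fun _ _ a h => (Groth.Agent.H7.QFinSp.isProperMor_and_lqf_of_isFiniteMor h).1) hx3
  refine ⟨?_, ?_, ?_⟩
  · have := compactSpace_of_chart h𝒳 x hx1
    exact (isQuasiCompact_iff_compactSpace h𝒳).2 this
  · exact isQuasiDMOver_of_lqf_cover h𝒳 ⟨(yon S).obj U, IsAlgSpace.yon_obj U⟩
      (BasedFunctor.comp (toOver U) x)
      ((repByAlgSpWith_comp_equiv_iff _ (toOver U) (isEquivOver_toOver U) x).2 hx2)
      ((repByAlgSpWith_comp_equiv_iff _ (toOver U) (isEquivOver_toOver U) x).2 hx4)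
      ((repByAlgSpWith_comp_equiv_iff _ (toOver U) (isEquivOver_toOver U) x).2 hx1)
      ((repByAlgSpWith_comp_equiv_iff _ (toOver U) (isEquivOver_toOver U) x).2 hx5)
  · unfold AlgSt.IsSeparatedOver AlgSt.IsSeparatedMor
    refine diag_toSelf_of_cover' IsProperMor good_isProperMor h𝒳.isStack.1 h𝒳.diag
      (isFibGrpd_overCat U) x hx2 hx4 hx1 hx6 ?_
    have hU' := isProper_diag_toSelf_overCat U
    have heq : BasedFunctor.comp x (FibCat.toSelf 𝒳) = FibCat.toSelf (FibCat.overCat U) :=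
      eq_toSelf _
    rw [heq]
    exact repByAlgSpWith_diag_fpFst IsProperMor _ _ hU'

end Groth.Agent.H3.WNAff
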