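import Mathlib

/-! # Spaces covered by a well-ordered family of quasi-separated compact opens

If `X` has a basis of compact opens and is covered by compact, quasi-separated opens `V l`
indexed by a well-ordered set such that `V l ∩ ⋃ m < l, V m` is compact for all `l`, then `X` is
quasi-separated, and every union `⋃ i ∈ I, V i` over a lower set `I` is retrocompact with respect to
the `V k`. -/

open Set TopologicalSpace

namespace Groth.Agent.H3.WOCover

variable {X : Type*} [TopologicalSpace X]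

/-- compact opens form a basis. -/
def CompactBasis (X : Type*) [TopologicalSpace X] : Prop :=
  ∀ (x : X) (U : Set X), IsOpen U → x ∈ U → ∃ B : Set X, IsOpen B ∧ IsCompact B ∧ x ∈ B ∧ B ⊆ U

lemma exists_finite_cover (hb : CompactBasis X) {C A B : Set X} (hCo : IsOpen C)
    (hCc : IsCompact C) (hA : IsOpen A) (hB : IsOpen B) (hCAB : C ⊆ A ∪ B) :
    ∃ (t : Finset X) (K : X → Set X),
      (∀ x ∈ t, IsOpen (K x) ∧ IsCompact (K x) ∧ (K x ⊆ A ∨ K x ⊆ B)) ∧ C = ⋃ x ∈ t, K x := by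
  classical
  have h : ∀ x : X, ∃ K : Set X, x ∈ C → (IsOpen K ∧ IsCompact K ∧ (K ⊆ A ∨ K ⊆ B) ∧ x ∈ K ∧ K ⊆ C) := by
    intro x
    by_cases hx : x ∈ C
    · rcases hCAB hx with hxA | hxB
      · obtain ⟨K, hKo, hKc, hxK, hK⟩ := hb x (C ∩ A) (hCo.inter hA) ⟨hx, hxA⟩
        exact ⟨K, fun _ => ⟨hKo, hKc, Or.inl (hK.trans inter_subset_right), hxK,
          hK.trans inter_subset_left⟩⟩
      · obtain ⟨K, hKo, hKc, hxK, hK⟩ := hb x (C ∩ B) (hCo.inter hB) ⟨hx, hxB⟩
        exact ⟨K, fun _ => ⟨hKo, hKc, Or.inr (hK.trans inter_subset_right), hxK,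
          hK.trans inter_subset_left⟩⟩
    · exact ⟨∅, fun h => absurd h hx⟩
  choose K hK using h
  obtain ⟨t, htC, ht⟩ := hCc.elim_nhds_subcover K
    (fun x hx => (hK x hx).1.mem_nhds (hK x hx).2.2.2.1)
  refine ⟨t, K, fun x hx => ⟨(hK x (htC x hx)).1, (hK x (htC x hx)).2.1, (hK x (htC x hx)).2.2.1⟩,
    ?_⟩
  apply Subset.antisymm ht
  intro z hz
  simp only [mem_iUnion] at hz
  obtain ⟨x, hx, hzx⟩ := hz
  exact (hK x (htC x hx)).2.2.2.2 hzx

variable {L : Type*} [LinearOrder L] [WellFoundedLT L]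

theorem isQuasiSeparated_biUnion_Iic (hb : CompactBasis X) (V : L → Set X)
    (hVo : ∀ l, IsOpen (V l)) (hVq : ∀ l, IsQuasiSeparated (V l))
    (hW : ∀ l, IsCompact (V l ∩ ⋃ m ∈ Set.Iio l, V m)) (l : L) :
    IsQuasiSeparated (⋃ m ∈ Set.Iic l, V m) := by
  induction l using WellFoundedLT.induction with
  | ind l ih =>
  have hopenIic : ∀ m : L, IsOpen (⋃ m' ∈ Set.Iic m, V m') :=
    fun m => isOpen_biUnion fun i _ => hVo i
  have hWo : IsOpen (⋃ m ∈ Set.Iio l, V m) := isOpen_biUnion fun i _ => hVo i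
  -- the union of the earlier stages is quasi-separated
  have hWq : IsQuasiSeparated (⋃ m ∈ Set.Iio l, V m) := by
    intro C D hC hCo hCc hD hDo hDc
    by_cases hne : Nonempty (Set.Iio l)
    · obtain ⟨m, hm⟩ := (hCc.union hDc).elim_directed_cover
        (fun m : Set.Iio l => ⋃ m' ∈ Set.Iic m.1, V m') (fun m => hopenIic m.1) (by
          intro x hx
          have hx' : x ∈ ⋃ m ∈ Set.Iio l, V m := by
            rcases hx with hx | hx
            · exact hC hx
            · exact hD hx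
          simp only [mem_iUnion] at hx' ⊢
          obtain ⟨m, hm, hxm⟩ := hx'
          exact ⟨⟨m, hm⟩, m, Set.mem_Iic.mpr le_rfl, hxm⟩) (by
          intro a b
          refine ⟨⟨max a.1 b.1, ?_⟩, ?_, ?_⟩
          · exact Set.mem_Iio.mpr (max_lt a.2 b.2)
          · exact biUnion_subset_biUnion_left (Set.Iic_subset_Iic.mpr (le_max_left _ _))
          · exact biUnion_subset_biUnion_left (Set.Iic_subset_Iic.mpr (le_max_right _ _)))
      exact ih m.1 m.2 C D (subset_union_left.trans hm) hCo hCc (subset_union_right.trans hm)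
        hDo hDc
    · have hempty : (⋃ m ∈ Set.Iio l, V m) = ∅ := by
        ext x
        simp only [mem_iUnion, mem_empty_iff_false, iff_false]
        rintro ⟨m, hm, -⟩
        exact hne ⟨⟨m, hm⟩⟩
      rw [hempty] at hC
      have : C = ∅ := subset_empty_iff.mp hC
      rw [this, empty_inter]
      exact isCompact_empty
  have hsplit : (⋃ m ∈ Set.Iic l, V m) = (⋃ m ∈ Set.Iio l, V m) ∪ V l := by
    ext x
    simp only [mem_iUnion, mem_union, Set.mem_Iic, Set.mem_Iio]
    constructor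
    · rintro ⟨m, hm, hx⟩
      rcases hm.lt_or_eq with h | h
      · exact Or.inl ⟨m, h, hx⟩
      · exact Or.inr (h ▸ hx)
    · rintro (⟨m, hm, hx⟩ | hx)
      · exact ⟨m, hm.le, hx⟩
      · exact ⟨l, le_rfl, hx⟩
  have hP : IsCompact (V l ∩ ⋃ m ∈ Set.Iio l, V m) := hW l
  have hPo : IsOpen (V l ∩ ⋃ m ∈ Set.Iio l, V m) := (hVo l).inter hWo
  -- the mixed case
  have hmix : ∀ K K' : Set X, IsOpen K → IsCompact K → K ⊆ (⋃ m ∈ Set.Iio l, V m) →
      IsOpen K' → IsCompact K' → K' ⊆ V l → IsCompact (K ∩ K') := by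
    intro K K' hKo hKc hK hK'o hK'c hK'
    have h1 : IsCompact (K ∩ (V l ∩ ⋃ m ∈ Set.Iio l, V m)) :=
      hWq K _ hK hKo hKc inter_subset_right hPo hP
    have h2 : IsCompact ((K ∩ (V l ∩ ⋃ m ∈ Set.Iio l, V m)) ∩ K') :=
      hVq l _ _ (fun z hz => hz.2.1) (hKo.inter hPo) h1 hK' hK'o hK'c
    have h3 : K ∩ K' = (K ∩ (V l ∩ ⋃ m ∈ Set.Iio l, V m)) ∩ K' := by
      ext z
      constructor
      · rintro ⟨hz, hz'⟩
        exact ⟨⟨hz, hK' hz', hK hz⟩, hz'⟩
      · rintro ⟨⟨hz, -⟩, hz'⟩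
        exact ⟨hz, hz'⟩
    rw [h3]
    exact h2
  intro C D hC hCo hCc hD hDo hDc
  rw [hsplit] at hC hD
  obtain ⟨t, K, hK, rfl⟩ := exists_finite_cover hb hCo hCc hWo (hVo l) hC
  obtain ⟨t', K', hK', rfl⟩ := exists_finite_cover hb hDo hDc hWo (hVo l) hD
  rw [iUnion₂_inter_iUnion₂]
  refine t.isCompact_biUnion fun x hx => t'.isCompact_biUnion fun y hy => ?_
  obtain ⟨hxo, hxc, hx'⟩ := hK x hx
  obtain ⟨hyo, hyc, hy'⟩ := hK' y hy
  rcases hx' with hx' | hx' <;> rcases hy' with hy' | hy'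
  · exact hWq _ _ hx' hxo hxc hy' hyo hyc
  · exact hmix _ _ hxo hxc hx' hyo hyc hy'
  · rw [inter_comm]
    exact hmix _ _ hyo hyc hy' hxo hxc hx'
  · exact hVq l _ _ hx' hxo hxc hy' hyo hyc

theorem quasiSeparatedSpace_of_cover (hb : CompactBasis X) (V : L → Set X)
    (hVo : ∀ l, IsOpen (V l)) (hVq : ∀ l, IsQuasiSeparated (V l))
    (hW : ∀ l, IsCompact (V l ∩ ⋃ m ∈ Set.Iio l, V m)) (hcov : ⋃ l, V l = Set.univ) :
    QuasiSeparatedSpace X := by
  constructor
  intro C D hCo hCc hDo hDc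
  by_cases hne : Nonempty L
  · obtain ⟨m, hm⟩ := (hCc.union hDc).elim_directed_cover
      (fun m : L => ⋃ m' ∈ Set.Iic m, V m') (fun m => isOpen_biUnion fun i _ => hVo i) (by
        intro x _
        have hx' : x ∈ ⋃ l, V l := by rw [hcov]; trivial
        simp only [mem_iUnion] at hx' ⊢
        obtain ⟨m, hxm⟩ := hx'
        exact ⟨m, m, Set.mem_Iic.mpr le_rfl, hxm⟩) (by
        intro a b
        exact ⟨max a b,
          biUnion_subset_biUnion_left (Set.Iic_subset_Iic.mpr (le_max_left _ _)),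
          biUnion_subset_biUnion_left (Set.Iic_subset_Iic.mpr (le_max_right _ _))⟩)
    exact isQuasiSeparated_biUnion_Iic hb V hVo hVq hW m C D (subset_union_left.trans hm) hCo hCc
      (subset_union_right.trans hm) hDo hDc
  · have hempty : (Set.univ : Set X) = ∅ := by
      rw [← hcov]
      ext x
      simp only [mem_iUnion, mem_empty_iff_false, iff_false]
      rintro ⟨m, -⟩
      exact hne ⟨m⟩
    have : C = ∅ := subset_empty_iff.mp (hempty ▸ subset_univ C)
    rw [this, empty_inter]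
    exact isCompact_empty

/-- unions over lower sets are retrocompact with respect to the members of the cover. -/
theorem isCompact_inter_biUnion_lowerSet [QuasiSeparatedSpace X] (V : L → Set X)
    (hVo : ∀ l, IsOpen (V l)) (hVc : ∀ l, IsCompact (V l))
    (hW : ∀ l, IsCompact (V l ∩ ⋃ m ∈ Set.Iio l, V m)) (I : Set L) (hI : IsLowerSet I) (k : L) :
    IsCompact (V k ∩ ⋃ i ∈ I, V i) := by
  induction k using WellFoundedLT.induction with
  | ind k ih =>
  by_cases hk : k ∈ I
  · have : V k ∩ ⋃ i ∈ I, V i = V k := by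
      apply inter_eq_left.mpr
      exact subset_biUnion_of_mem (u := V) hk
    rw [this]
    exact hVc k
  · have hIk : ∀ i ∈ I, i < k := by
      intro i hi
      by_contra h
      exact hk (hI (not_lt.mp h) hi)
    obtain ⟨t, ht⟩ := (hW k).elim_finite_subcover (fun m : Set.Iio k => V m.1)
      (fun m => hVo m.1) (by
        intro x hx
        have := hx.2
        simp only [mem_iUnion] at this ⊢
        obtain ⟨m, hm, hxm⟩ := this
        exact ⟨⟨m, hm⟩, hxm⟩)
    have heq : V k ∩ ⋃ i ∈ I, V i = ⋃ m ∈ t, (V k ∩ (V m.1 ∩ ⋃ i ∈ I, V i)) := by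
      ext z
      simp only [mem_inter_iff, mem_iUnion]
      constructor
      · rintro ⟨hzk, i, hi, hzi⟩
        have hzP : z ∈ V k ∩ ⋃ m ∈ Set.Iio k, V m := by
          refine ⟨hzk, ?_⟩
          simp only [mem_iUnion]
          exact ⟨i, hIk i hi, hzi⟩
        have := ht hzP
        simp only [mem_iUnion] at this
        obtain ⟨m, hm, hzm⟩ := this
        exact ⟨m, hm, hzk, hzm, i, hi, hzi⟩
      · rintro ⟨m, hm, hzk, hzm, i, hi, hzi⟩
        exact ⟨hzk, i, hi, hzi⟩
    rw [heq]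
    refine t.isCompact_biUnion fun m _ => ?_
    exact QuasiSeparatedSpace.inter_isCompact _ _ (hVo k) (hVc k)
      ((hVo m.1).inter (isOpen_biUnion fun i _ => hVo i)) (ih m.1 m.2)

end Groth.Agent.H3.WOCover
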