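import Groth.Agent.Lib.Lead.QC.SubFinLN
import Groth.Agent.Lib.Helper3.WOCover

/-! # Extension of finite type quasi-coherent submodules: well-ordered affine covers
(EGA I 9.4.7 b)).  Adapts the Zorn argument of `Lib/Lead/QC/SubFinLN`. -/

universe u v
open CategoryTheory Limits AlgebraicGeometry TopologicalSpace Opposite

namespace Groth.Agent.H3.WOExt

open Groth.Agent.LD.QC

variable {X : Scheme.{u}}

/-- upper bound of a nonempty chain whose union is retrocompact with respect to an open cover. -/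
theorem exists_ub' {κ : Type*} (Vc : κ → X.Opens) (hVc : ⨆ l, Vc l = ⊤)
    {F : X.Modules} {O : X.Opens} (c : Set (ExtD F O))
    (hc : IsChain ExtD.r c) (d₁ : ExtD F O) (hd₁ : d₁ ∈ c)
    (hret : ∀ k, IsCompact ((Vc k ⊓ ⨆ d : c, d.1.V : X.Opens) : Set X)) :
    ∃ ub : ExtD F O, ub.V = (⨆ d : c, d.1.V) ∧ ∀ a ∈ c, ExtD.r a ub := by
  haveI : Nonempty c := ⟨⟨d₁, hd₁⟩⟩
  let Vs : X.Opens := ⨆ d : c, d.1.V
  let Ss : SubSh F := infSub (fun d : c => d.1.S)
  have hdir : Directed (· ⊆ ·) (fun d : c => (d.1.V : Set X)) := by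
    intro a b
    by_cases hab : a.1 = b.1
    · have hab' : a = b := Subtype.ext hab
      subst hab'
      exact ⟨a, le_rfl, le_rfl⟩
    rcases hc a.2 b.2 hab with h | h
    · exact ⟨b, h.1, le_rfl⟩
    · exact ⟨a, le_rfl, h.1⟩
  -- Claim A
  have claimA : ∀ (d : ExtD F O), d ∈ c → ∀ W : X.Opens, (∀ d' ∈ c, W ⊓ d'.V ≤ d.V) →
      Ss.N W = d.S.N W := by
    intro d hd W hW
    apply le_antisymm
    · intro s hs
      exact (mem_infSub _ W s).mp hs ⟨d, hd⟩
    · intro s hs
      rw [mem_infSub]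
      rintro ⟨d', hd'⟩
      exact ExtD.le_of_chain hc hd W hW hd' hs
  -- compact subsets of the union lie in one member
  have hcpt : ∀ K : X.Opens, IsCompact (K : Set X) → K ≤ Vs → ∃ d ∈ c, K ≤ d.V := by
    intro K hK hKV
    obtain ⟨d, hd⟩ := hK.elim_directed_cover (fun d : c => (d.1.V : Set X))
      (fun d => d.1.V.2) (by
        intro x hx
        obtain ⟨d, hd⟩ := Opens.mem_iSup.mp (hKV hx)
        exact Set.mem_iUnion.mpr ⟨d, hd⟩) hdir
    exact ⟨d.1, d.2, hd⟩
  refine ⟨⟨Vs, Ss, d₁.hOV.trans (le_iSup (fun d : c => d.1.V) ⟨d₁, hd₁⟩), ?_, ?_, ?_, ?_⟩, rfl, ?_⟩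
  · -- quasi-coherent
    apply qc_of_locally
    intro x
    have hx : x ∈ (⨆ l, Vc l : X.Opens) := by rw [hVc]; trivial
    obtain ⟨k, hxk⟩ := Opens.mem_iSup.mp hx
    refine ⟨Vc k, hxk, ?_⟩
    obtain ⟨d, hd, hWd⟩ := hcpt (Vc k ⊓ Vs) (hret k) inf_le_right
    have heq : ∀ W' : X.Opens, W' ≤ Vc k → Ss.N W' = d.S.N W' := by
      intro W' hW'
      apply claimA d hd
      intro d' hd'
      refine le_trans ?_ hWd
      exact inf_le_inf hW' (le_iSup (fun d : c => d.1.V) ⟨d', hd'⟩)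
    obtain ⟨e⟩ := SubSh.restrict_iso_of_eq Ss d.S (Vc k) heq
    haveI := d.qc
    exact qc_of_iso e.symm (qc_restrict (Vc k).ι d.S.toModules)
  · -- top on O
    intro W hW
    rw [eq_top_iff]
    intro s _
    rw [mem_infSub]
    intro d
    rw [d.1.top W hW]
    exact Submodule.mem_top
  · -- finite on affines in Vs
    intro W hW hWV
    obtain ⟨d, hd, hWd⟩ := hcpt W hW.isCompact hWV
    have heq : Ss.N W = d.S.N W := claimA d hd W fun d' _ => inf_le_left.trans hWd
    rw [heq]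
    exact d.fin W hW hWd
  · -- saturated
    intro W s hs
    rw [mem_infSub] at hs ⊢
    intro d
    apply d.1.sat
    have hle : W ⊓ d.1.V ≤ W ⊓ Vs := inf_le_inf le_rfl (le_iSup (fun d : c => d.1.V) d)
    have := d.1.S.res hle _ (hs d)
    rwa [res_res] at this
  · -- upper bound
    intro a ha
    refine ⟨le_iSup (fun d : c => d.1.V) ⟨a, ha⟩, fun W hW => ?_⟩
    exact (claimA a ha W fun d' _ => inf_le_left.trans hW).symm

/-- the extension step over a quasi-separated scheme. -/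
theorem exists_step' [QuasiSeparatedSpace X] {F : X.Modules} {O : X.Opens} (m : ExtD F O)
    {W : X.Opens} (hW : IsAffineOpen W) (hWc : IsCompact ((m.V ⊓ W : X.Opens) : Set X)) :
    ∃ d : ExtD F O, ExtD.r m d ∧ d.V = m.V ⊔ W := by
  let G : X.Modules := m.S.toModules
  haveI hG : G.IsQuasicoherent := m.qc
  have hfinG : ∀ W' : X.Opens, IsAffineOpen W' → W' ≤ m.V → Module.Finite Γ(X, W') Γ(G, W') := by
    intro W' hW' hW'V
    haveI := m.fin W' hW' hW'V
    exact Module.Finite.equiv (m.S.sectionsEquiv W').symm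
  obtain ⟨F₁, u, hu, hF₁, hbij, hfinW, hsat⟩ :=
    exists_sub_finite_affine' G hW m.V hWc hfinG
  haveI : Mono (u ≫ m.S.ι) := mono_comp _ _
  have hfinF₁ : ∀ W' : X.Opens, IsAffineOpen W' → W' ≤ m.V ⊔ W →
      Module.Finite Γ(X, W') Γ(F₁, W') := by
    intro W' hW' hW'V
    apply finite_sections_of_locally F₁ hW'
    intro x hxW'
    rcases (Opens.mem_sup.mp (hW'V hxW') : x ∈ m.V ∨ x ∈ W) with h | h
    · obtain ⟨W'', hW'', hxW'', hW''V⟩ :=
        exists_isAffineOpen_mem_and_subset (x := x) (U := m.V) h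
      refine ⟨W'', hW'', hxW'', ?_⟩
      haveI := hfinG W'' hW'' hW''V
      exact Module.Finite.equiv
        (LinearEquiv.ofBijective (appLinear u W'') (hbij W'' hW''V)).symm
    · exact ⟨W, hW, h, hfinW⟩
  refine ⟨⟨m.V ⊔ W, rangeSub (u ≫ m.S.ι), m.hOV.trans le_sup_left, ?_, ?_, ?_, ?_⟩, ⟨le_sup_left, ?_⟩,
    rfl⟩
  · obtain ⟨e, -⟩ := exists_iso_rangeSub (u ≫ m.S.ι)
    exact qc_of_iso e.symm hF₁
  · intro W' hW'
    rw [eq_top_iff]
    intro s _
    rw [mem_rangeSub]
    have hs : s ∈ m.S.N W' := by rw [m.top W' hW']; exact Submodule.mem_top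
    obtain ⟨g, hg⟩ := (m.S.mem_iff W' s).mp hs
    obtain ⟨t, ht⟩ := (hbij W' (hW'.trans m.hOV)).2 g
    exact ⟨t, by rw [← hg, ← ht]; rfl⟩
  · intro W' hW' hW'V
    haveI := hfinF₁ W' hW' hW'V
    exact Module.Finite.range (appLinear (u ≫ m.S.ι) W')
  · intro W' s hs
    rw [mem_rangeSub] at hs ⊢
    obtain ⟨t, ht⟩ := hs
    -- step 1: `s` lies in `m.S`
    have hs1 : s ∈ m.S.N W' := by
      apply m.sat
      have hle : W' ⊓ m.V ≤ W' ⊓ (m.V ⊔ W) := inf_le_inf le_rfl le_sup_left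
      have h1 := congrArg (F.presheaf.map (homOfLE hle).op) ht
      rw [res_res, ← app_res] at h1
      rw [m.S.mem_iff]
      exact ⟨u.app _ (F₁.presheaf.map (homOfLE hle).op t), h1⟩
    obtain ⟨g, hg⟩ := (m.S.mem_iff W' s).mp hs1
    -- step 2: `g` restricted to `W' ⊓ W` lies in the range of `u`
    have hle2 : W' ⊓ W ≤ W' ⊓ (m.V ⊔ W) := inf_le_inf le_rfl le_sup_right
    have h2 := congrArg (F.presheaf.map (homOfLE hle2).op) ht
    rw [res_res, ← app_res, ← hg, ← app_res] at h2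
    have h3 : u.app (W' ⊓ W) (F₁.presheaf.map (homOfLE hle2).op t) =
        G.presheaf.map (homOfLE (inf_le_left : W' ⊓ W ≤ W')).op g :=
      mono_app m.S.ι (W' ⊓ W) h2
    obtain ⟨t₀, ht₀⟩ := hsat W' g ⟨_, h3⟩
    exact ⟨t₀, by rw [← hg, ← ht₀]; rfl⟩
  · intro W' hW'
    ext s
    rw [mem_rangeSub, m.S.mem_iff]
    constructor
    · rintro ⟨g, hg⟩
      obtain ⟨t, ht⟩ := (hbij W' hW').2 g
      exact ⟨t, by rw [← hg, ← ht]; rfl⟩
    · rintro ⟨t, ht⟩
      exact ⟨u.app W' t, ht⟩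


section main
variable {L : Type v} [LinearOrder L] [WellFoundedLT L]

/-- schemes have a basis of compact opens. -/
lemma compactBasis (X : Scheme.{u}) : Groth.Agent.H3.WOCover.CompactBasis X := by
  intro x U hU hx
  obtain ⟨W, hW, hxW, hWU⟩ :=
    exists_isAffineOpen_mem_and_subset (x := x) (U := (⟨U, hU⟩ : X.Opens)) hx
  exact ⟨W, W.2, hW.isCompact, hxW, hWU⟩

/-- a scheme with a well-ordered affine cover as in EGA I 9.4.7 b) is quasi-separated. -/
theorem quasiSeparatedSpace_of_wo (V : L → X.Opens) (hV : ∀ l, IsAffineOpen (V l))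
    (hcov : ⨆ l, V l = ⊤)
    (hW : ∀ l, IsCompact ((V l : Set X) ∩ ⋃ m ∈ Set.Iio l, (V m : Set X))) :
    QuasiSeparatedSpace X := by
  apply Groth.Agent.H3.WOCover.quasiSeparatedSpace_of_cover (compactBasis X)
    (fun l => (V l : Set X)) (fun l => (V l).2) (fun l => (hV l).isQuasiSeparated) hW
  have := congrArg (fun U : X.Opens => (U : Set X)) hcov
  simpa using this

theorem exists_sub_finiteType_wo (V : L → X.Opens) (hV : ∀ l, IsAffineOpen (V l))
    (hcov : ⨆ l, V l = ⊤)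
    (hW : ∀ l, IsCompact ((V l : Set X) ∩ ⋃ m ∈ Set.Iio l, (V m : Set X)))
    (G : X.Modules) [G.IsQuasicoherent] (O : X.Opens) [QuasiCompact O.ι]
    (hfin : ∀ W : X.Opens, IsAffineOpen W → W ≤ O → Module.Finite Γ(X, W) Γ(G, W)) :
    ∃ (F : X.Modules) (u : F ⟶ G), Mono u ∧ F.IsQuasicoherent ∧ F.IsFiniteType ∧
      (∀ W : X.Opens, W ≤ O → Function.Bijective (u.app W)) := by
  classical
  haveI : QuasiSeparatedSpace X := quasiSeparatedSpace_of_wo V hV hcov hW
  have hOV : ∀ k, IsCompact ((O : Set X) ∩ (V k : Set X)) := by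
    intro k
    have h1 : IsCompact (O.ι ⁻¹' (V k : Set X)) :=
      QuasiCompact.isCompact_preimage (f := O.ι) _ (V k).2 (hV k).isCompact
    have h2 := h1.image O.ι.continuous
    rwa [Set.image_preimage_eq_inter_range, Scheme.Opens.range_ι, Set.inter_comm] at h2
  have hret : ∀ (I : Set L), IsLowerSet I → ∀ k,
      IsCompact (((V k) ⊓ (O ⊔ ⨆ i ∈ I, V i) : X.Opens) : Set X) := by
    intro I hI k
    have h1 := Groth.Agent.H3.WOCover.isCompact_inter_biUnion_lowerSet
      (fun l => (V l : Set X)) (fun l => (V l).2) (fun l => (hV l).isCompact) hW I hI k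
    have h2 := (hOV k).union h1
    have heq : (((V k) ⊓ (O ⊔ ⨆ i ∈ I, V i) : X.Opens) : Set X) =
        (O : Set X) ∩ (V k : Set X) ∪ (V k : Set X) ∩ ⋃ i ∈ I, (V i : Set X) := by
      simp only [Opens.coe_inf, Opens.coe_sup, Opens.coe_iSup]
      rw [Set.inter_union_distrib_left, Set.inter_comm]
    rw [heq]
    exact h2
  let P : ExtD G O → Prop := fun d => ∃ I : Set L, IsLowerSet I ∧ d.V = O ⊔ ⨆ i ∈ I, V i
  obtain ⟨m, hm⟩ := exists_maximal_of_chains_bounded
    (r := fun a b : {d : ExtD G O // P d} => ExtD.r a.1 b.1) (by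
    intro c' hc'
    by_cases hne : c'.Nonempty
    · obtain ⟨d₁, hd₁⟩ := hne
      let c : Set (ExtD G O) := Subtype.val '' c'
      have hc : IsChain ExtD.r c := by
        rintro _ ⟨a, ha, rfl⟩ _ ⟨b, hb, rfl⟩ hab
        exact hc' ha hb (fun h => hab (congrArg Subtype.val h))
      have hlab : ∀ d : c, ∃ I : Set L, IsLowerSet I ∧ d.1.V = O ⊔ ⨆ i ∈ I, V i := by
        rintro ⟨_, a, _, rfl⟩
        exact a.2
      choose I hI hIV using hlab
      have hVs : (⨆ d : c, d.1.V) = O ⊔ ⨆ i ∈ (⋃ d : c, I d), V i := by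
        apply le_antisymm
        · apply iSup_le
          intro d
          rw [hIV d]
          apply sup_le le_sup_left
          apply le_sup_of_le_right
          apply iSup₂_le
          intro i hi
          exact le_iSup₂ (f := fun i (_ : i ∈ ⋃ d : c, I d) => V i) i
            (Set.mem_iUnion.mpr ⟨d, hi⟩)
        · apply sup_le
          · exact d₁.1.hOV.trans (le_iSup (fun d : c => d.1.V) ⟨d₁.1, d₁, hd₁, rfl⟩)
          · apply iSup₂_le
            intro i hi
            obtain ⟨d, hd⟩ := Set.mem_iUnion.mp hi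
            refine le_trans ?_ (le_iSup (fun d : c => d.1.V) d)
            rw [hIV d]
            exact le_sup_of_le_right (le_iSup₂ (f := fun i (_ : i ∈ I d) => V i) i hd)
      have hIlow : IsLowerSet (⋃ d : c, I d) := isLowerSet_iUnion hI
      obtain ⟨ub, hubV, hub⟩ := exists_ub' V hcov c hc d₁.1 ⟨d₁, hd₁, rfl⟩ (by
        intro k
        rw [hVs]
        exact hret _ hIlow k)
      exact ⟨⟨ub, ⋃ d : c, I d, hIlow, hubV.trans hVs⟩, fun a ha => hub a.1 ⟨a, ha, rfl⟩⟩
    · refine ⟨⟨ExtD.base O hfin, ∅, isLowerSet_empty, ?_⟩, fun a ha => absurd ⟨a, ha⟩ hne⟩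
      show O = O ⊔ ⨆ i ∈ (∅ : Set L), V i
      simp) (fun h1 h2 => ExtD.r_trans h1 h2)
  have hk : ∀ k, V k ≤ m.1.V := by
    intro k
    induction k using WellFoundedLT.induction with
    | ind k ih =>
    obtain ⟨I, hI, hIV⟩ := m.2
    by_cases hkI : k ∈ I
    · rw [hIV]
      exact le_sup_of_le_right (le_iSup₂ (f := fun i (_ : i ∈ I) => V i) k hkI)
    · have hIk : ∀ i ∈ I, i < k := by
        intro i hi
        by_contra h
        exact hkI (hI (not_lt.mp h) hi)
      have hmV : m.1.V = O ⊔ ⨆ i ∈ Set.Iio k, V i := by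
        apply le_antisymm
        · rw [hIV]
          exact sup_le le_sup_left (le_sup_of_le_right (iSup₂_le fun i hi =>
            le_iSup₂ (f := fun i (_ : i ∈ Set.Iio k) => V i) i (hIk i hi)))
        · exact sup_le m.1.hOV (iSup₂_le fun i hi => ih i hi)
      have hc : IsCompact ((m.1.V ⊓ V k : X.Opens) : Set X) := by
        rw [hmV, inf_comm]
        exact hret (Set.Iio k) (isLowerSet_Iio k) k
      obtain ⟨d, hmd, hdV⟩ := exists_step' m.1 (hV k) hc
      have hsup : (⨆ i ∈ Set.Iio k, V i) ⊔ V k = ⨆ i ∈ Set.Iic k, V i := by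
        apply le_antisymm
        · exact sup_le (iSup₂_le fun i hi =>
            le_iSup₂ (f := fun i (_ : i ∈ Set.Iic k) => V i) i (le_of_lt hi))
            (le_iSup₂ (f := fun i (_ : i ∈ Set.Iic k) => V i) k (Set.mem_Iic.mpr le_rfl))
        · apply iSup₂_le
          intro i hi
          rcases (Set.mem_Iic.mp hi).lt_or_eq with h | h
          · exact le_sup_of_le_left (le_iSup₂ (f := fun i (_ : i ∈ Set.Iio k) => V i) i h)
          · subst h
            exact le_sup_right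
      have hPd : P d := ⟨Set.Iic k, isLowerSet_Iic k, by
        rw [hdV, hmV, sup_assoc, hsup]⟩
      have := hm ⟨d, hPd⟩ hmd
      exact (le_sup_right.trans hdV.ge).trans this.1
  have hVtop : m.1.V = ⊤ := by
    rw [eq_top_iff, ← hcov]
    exact iSup_le hk
  haveI := m.1.qc
  refine ⟨m.1.S.toModules, m.1.S.ι, inferInstance, m.1.qc, ?_,
    fun W hW => ⟨mono_app _ W, fun s => ?_⟩⟩
  · rw [isFiniteType_iff_finite_sections]
    intro W hW
    haveI := m.1.fin W hW (hVtop ▸ le_top)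
    exact Module.Finite.equiv (m.1.S.sectionsEquiv W).symm
  · apply (m.1.S.mem_iff W s).mp
    rw [m.1.top W hW]
    exact Submodule.mem_top

end main

end Groth.Agent.H3.WOExt
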