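import Mathlib
import Groth.Agent.Lib.Helper2.HypIdC
import Groth.Agent.Lib.Helper2.PnChart

/-! helper3: smoothness of a projective hypersurface `V_+(G) ⊆ P^r_k` chart by chart. -/

set_option autoImplicit false
universe u
open CategoryTheory CategoryTheory.Limits AlgebraicGeometry TopologicalSpace Opposite

namespace Groth.Agent.H3.Weier

open Groth.Agent.LD Twist TW Groth.Agent.H2.HypId Groth.Agent.H2

variable (r : ℕ) (k : Type u) [Field k] {d : ℕ} (G : LefPen.Form r k d)

/-- the standard chart as an affine open. -/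
noncomputable abbrev chartA (i : Fin (r + 1)) : (CohB1.ProjSpace r k).affineOpens :=
  ⟨LefPen.chart r k i, isAffineOpen_chart r k i⟩

theorem ideal_chart (i : Fin (r + 1)) :
    (LefPen.hypIdeal G).ideal (chartA r k i) = Ideal.span {LefPen.dehom G i} := by
  apply le_antisymm
  · intro s hs
    have h0 := Scheme.IdealSheafData.ideal_ofIdeals_le (LefPen.hypFamily G) (chartA r k i) hs
    unfold LefPen.hypFamily at h0
    have h1 := (Ideal.mem_iInf.mp h0) i
    rw [Ideal.mem_comap, Ideal.mem_span_singleton'] at h1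
    obtain ⟨c, hc⟩ := h1
    have hle : LefPen.chart r k i ≤ LefPen.chart r k i ⊓ LefPen.chart r k i :=
      le_inf le_rfl le_rfl
    have hc' := congrArg
      (fun x => ((CohB1.ProjSpace r k).presheaf.map (homOfLE hle).op).hom x) hc
    simp only [map_mul] at hc'
    rw [res_res_self (P := CohB1.ProjSpace r k) inf_le_left hle s] at hc'
    rw [res_res_self (P := CohB1.ProjSpace r k) inf_le_right hle (LefPen.dehom G i)] at hc'
    rw [Ideal.mem_span_singleton']
    exact ⟨_, hc'⟩
  · rw [Ideal.span_singleton_le_iff_mem]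
    have h := hypIdeal_eq r k G
    have h2 : (LefPen.hypIdeal G).ideal (chartA r k i) =
        (QC.idealOfHom (twist (CohB1.polyGrading r k) (-(d : ℤ))) (psi r k G)).ideal
          (chartA r k i) := congrArg (fun J => J.ideal (chartA r k i)) h
    rw [h2]
    exact (QC.mem_idealOfHom_iff (X := Proj (CohB1.polyGrading r k))
      (twist (CohB1.polyGrading r k) (-(d : ℤ))) (psi r k G) (chartA r k i) _).mpr
      ⟨(show Γ(twist (CohB1.polyGrading r k) (-(d : ℤ)), LefPen.chart r k i) from eSec r k i d),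
        psi_eSec r k G i⟩

/-- the structure map of a chart. -/
noncomputable def chartMap (i : Fin (r + 1)) :
    CommRingCat.of k ⟶ Γ(CohB1.ProjSpace r k, LefPen.chart r k i) :=
  CommRingCat.ofHom (PnChart.sc r k i) ≫
    Proj.awayToSection (CohB1.polyGrading r k) (MvPolynomial.X i)

theorem fromSpec_eq' {A : Type u} [CommRing A] {σ : Type*} [SetLike σ A]
    [AddSubgroupClass σ A] (𝒜 : ℕ → σ) [GradedRing 𝒜] (f : A) {m : ℕ} (f_deg : f ∈ 𝒜 m)
    (hm : 0 < m) :
    (Proj.isAffineOpen_basicOpen 𝒜 f f_deg hm).fromSpec =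
      Spec.map (Proj.awayToSection 𝒜 f) ≫ Proj.awayι 𝒜 f f_deg hm := by
  rw [← IsAffineOpen.isoSpec_inv_ι, Proj.awayι, ← Category.assoc]
  congr 1
  rw [Iso.eq_comp_inv, Proj.basicOpenIsoSpec_hom, Proj.basicOpenToSpec, ← Category.assoc,
    ← IsAffineOpen.isoSpec_hom (Proj.isAffineOpen_basicOpen 𝒜 f f_deg hm), Iso.inv_hom_id,
    Category.id_comp]

theorem fromSpec_toSpecZero {A : Type u} [CommRing A] {σ : Type*} [SetLike σ A]
    [AddSubgroupClass σ A] (𝒜 : ℕ → σ) [GradedRing 𝒜] (f : A) {m : ℕ} (f_deg : f ∈ 𝒜 m)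
    (hm : 0 < m) :
    (Proj.isAffineOpen_basicOpen 𝒜 f f_deg hm).fromSpec ≫ Proj.toSpecZero 𝒜 =
      Spec.map (CommRingCat.ofHom (HomogeneousLocalization.fromZeroRingHom 𝒜 _) ≫
        Proj.awayToSection 𝒜 f) := by
  rw [fromSpec_eq' 𝒜 f f_deg hm, Category.assoc, Proj.awayι_toSpecZero 𝒜 f f_deg hm,
    ← Spec.map_comp]

theorem fromSpec_toSpec (i : Fin (r + 1)) :
    (isAffineOpen_chart r k i).fromSpec ≫ CohB1.ProjSpace.toSpec r k =
      Spec.map (chartMap r k i) := by
  have h := fromSpec_toSpecZero (CohB1.polyGrading r k) (MvPolynomial.X i)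
    (LefPen.X_mem r k i) one_pos
  have h2 := congrArg
    (fun φ => φ ≫ Spec.map (CommRingCat.ofHom (algebraMap k (CohB1.polyGrading r k 0)))) h
  simp only [Category.assoc, ← Spec.map_comp] at h2
  exact h2

/-- the coordinate ring of the chart of the hypersurface, as a ring map from `k`. -/
noncomputable def chartQuot (i : Fin (r + 1)) :
    k →+* Γ(CohB1.ProjSpace r k, LefPen.chart r k i) ⧸ (LefPen.hypIdeal G).ideal (chartA r k i) :=
  (Ideal.Quotient.mk _).comp (chartMap r k i).hom

theorem smooth_iff :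
    Smooth ((LefPen.hypIdeal G).subschemeι ≫ CohB1.ProjSpace.toSpec r k) ↔
      ∀ i : Fin (r + 1), (chartQuot r k G i).Smooth := by
  set I := LefPen.hypIdeal G with hI
  have hV : (⨆ i : Fin (r + 1), I.subschemeι ⁻¹ᵁ (LefPen.chart r k i)) = ⊤ := by
    rw [← Scheme.Hom.preimage_iSup, iSup_chart]
    rfl
  rw [IsZariskiLocalAtSource.iff_of_iSup_eq_top (P := @Smooth) _ hV]
  refine forall_congr' fun i => ?_
  have hrange : Set.range (I.subschemeCover.f (chartA r k i)) =
      Set.range (I.subschemeι ⁻¹ᵁ (LefPen.chart r k i)).ι := by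
    have := I.opensRange_subschemeCover_map (chartA r k i)
    rw [Scheme.Opens.range_ι]
    exact congrArg (fun W : I.subscheme.Opens => (W : Set I.subscheme)) this
  rw [← IsOpenImmersion.isoOfRangeEq_inv_fac (I.subschemeCover.f (chartA r k i))
    (I.subschemeι ⁻¹ᵁ (LefPen.chart r k i)).ι hrange, Category.assoc,
    MorphismProperty.cancel_left_of_respectsIso (P := @Smooth)]
  have hcomp : I.subschemeCover.f (chartA r k i) ≫ I.subschemeι ≫ CohB1.ProjSpace.toSpec r k =
      Spec.map (chartMap r k i ≫ CommRingCat.ofHom (Ideal.Quotient.mk (I.ideal (chartA r k i)))) := by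
    have h1 := I.subschemeCover_map_subschemeι (chartA r k i)
    have h2 := I.glueDataObjι_ι (chartA r k i)
    have h3 := fromSpec_toSpec r k i
    have e1 : I.subschemeCover.f (chartA r k i) ≫ I.subschemeι =
        Spec.map (CommRingCat.ofHom (Ideal.Quotient.mk (I.ideal (chartA r k i)))) ≫
          (chartA r k i).2.fromSpec := h1.trans h2
    have e2 := congrArg (fun φ => φ ≫ CohB1.ProjSpace.toSpec r k) e1
    refine (Category.assoc _ _ _).symm.trans (e2.trans ((Category.assoc _ _ _).trans ?_))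
    exact (congrArg (fun φ => Spec.map (CommRingCat.ofHom
      (Ideal.Quotient.mk (I.ideal (chartA r k i)))) ≫ φ) h3).trans (Spec.map_comp _ _).symm
  rw [hcomp]
  exact HasRingHomProperty.Spec_iff (P := @Smooth)

end Groth.Agent.H3.Weier
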