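import Mathlib
import Groth.Agent.Lib.Helper3.WeierA

/-! helper3: the chart of a projective hypersurface as a hypersurface in affine space. -/

set_option autoImplicit false
universe u
open CategoryTheory CategoryTheory.Limits AlgebraicGeometry TopologicalSpace Opposite

namespace Groth.Agent.H3.Weier

open Groth.Agent.H2 Groth.Agent.H2.PnChart HomogeneousLocalization

section psi

variable (n : ℕ) (R : Type u) [CommRing R] (i : Fin (n + 1))

theorem psi_mk (d : ℕ) (g : MvPolynomial (Fin (n + 1)) R)
    (hg : g ∈ CohB1.polyGrading n R (d • 1)) :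
    PnChart.psi n R i (Away.mk (CohB1.polyGrading n R) (PnChart.hX n R i) d g hg) =
      PnChart.dehom n R i g := by
  have h : algebraMap (Aw n R i) (Localization.Away
      (MvPolynomial.X i : MvPolynomial (Fin (n + 1)) R))
      (Away.mk (CohB1.polyGrading n R) (PnChart.hX n R i) d g hg) =
      IsLocalization.mk' _ g
        (⟨MvPolynomial.X i ^ d, ⟨d, rfl⟩⟩ : Submonoid.powers
          (MvPolynomial.X i : MvPolynomial (Fin (n + 1)) R)) := by
    change (Away.mk (CohB1.polyGrading n R) (PnChart.hX n R i) d g hg).val = _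
    rw [Away.val_mk, Localization.mk_eq_mk']
  rw [PnChart.psi, RingHom.comp_apply, h, dehomLoc, IsLocalization.Away.lift,
    IsLocalization.lift_mk'_spec]
  change _ = PnChart.dehom n R i (MvPolynomial.X i ^ d) * _
  rw [map_pow, dehom_X_self, one_pow, one_mul]

end psi

variable (r : ℕ) (k : Type u) [Field k] {d : ℕ} (G : LefPen.Form r k d)

/-- the chart as a polynomial ring. -/
noncomputable def chartEquiv (i : Fin (r + 1)) :
    MvPolynomial {j : Fin (r + 1) // j ≠ i} k ≃+*
      Γ(CohB1.ProjSpace r k, LefPen.chart r k i) :=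
  (RingEquiv.ofBijective (PnChart.phi r k i) (PnChart.bijective_phi r k i)).trans
    (Proj.basicOpenIsoAway (CohB1.polyGrading r k) (MvPolynomial.X i)
      (LefPen.X_mem r k i) one_pos).commRingCatIsoToRingEquiv

theorem chartEquiv_apply (i : Fin (r + 1)) (p : MvPolynomial {j : Fin (r + 1) // j ≠ i} k) :
    chartEquiv r k i p =
      (Proj.awayToSection (CohB1.polyGrading r k) (MvPolynomial.X i)).hom
        (PnChart.phi r k i p) := rfl

theorem chartEquiv_C (i : Fin (r + 1)) (c : k) :
    chartEquiv r k i (MvPolynomial.C c) = (chartMap r k i).hom c := by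
  rw [chartEquiv_apply, PnChart.phi, MvPolynomial.eval₂Hom_C]
  rfl

theorem chartEquiv_dehom (i : Fin (r + 1)) :
    chartEquiv r k i (PnChart.dehom r k i G.1) = LefPen.dehom G i := by
  rw [chartEquiv_apply]
  unfold LefPen.dehom
  congr 1
  have hg : G.1 ∈ CohB1.polyGrading r k (d • 1) := by
    rw [smul_eq_mul, mul_one]; exact G.2
  rw [← psi_mk r k i d G.1 hg]
  exact congrArg (fun ρ : _ →+* _ => ρ _) (PnChart.phi_psi r k i)

/-- the affine equation of the chart. -/
noncomputable abbrev eqn (i : Fin (r + 1)) : MvPolynomial {j : Fin (r + 1) // j ≠ i} k :=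
  PnChart.dehom r k i G.1

theorem map_span_eqn (i : Fin (r + 1)) :
    (LefPen.hypIdeal G).ideal (chartA r k i) =
      (Ideal.span {eqn r k G i}).map (chartEquiv r k i : _ →+* _) := by
  rw [ideal_chart, Ideal.map_span, Set.image_singleton]
  congr 2
  exact (chartEquiv_dehom r k G i).symm

/-- the coordinate ring of the chart of the hypersurface. -/
noncomputable def quotEquiv (i : Fin (r + 1)) :
    (MvPolynomial {j : Fin (r + 1) // j ≠ i} k ⧸ Ideal.span {eqn r k G i}) ≃+*
      (Γ(CohB1.ProjSpace r k, LefPen.chart r k i) ⧸ (LefPen.hypIdeal G).ideal (chartA r k i)) :=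
  Ideal.quotientEquiv _ _ (chartEquiv r k i) (map_span_eqn r k G i)

theorem chartQuot_eq (i : Fin (r + 1)) :
    chartQuot r k G i = (quotEquiv r k G i).toRingHom.comp
      (algebraMap k (MvPolynomial {j : Fin (r + 1) // j ≠ i} k ⧸ Ideal.span {eqn r k G i})) := by
  apply RingHom.ext
  intro c
  rw [RingHom.comp_apply]
  change _ = quotEquiv r k G i (Ideal.Quotient.mk _ (MvPolynomial.C c))
  rw [quotEquiv, Ideal.quotientEquiv_mk]
  change _ = Ideal.Quotient.mk _ (chartEquiv r k i (MvPolynomial.C c))
  rw [chartEquiv_C]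
  rfl

theorem chartQuot_smooth_iff (i : Fin (r + 1)) :
    (chartQuot r k G i).Smooth ↔
      Algebra.Smooth k
        (MvPolynomial {j : Fin (r + 1) // j ≠ i} k ⧸ Ideal.span {eqn r k G i}) := by
  rw [← RingHom.smooth_algebraMap, chartQuot_eq]
  constructor
  · intro h
    have := RingHom.Smooth.respectsIso.1 _ (quotEquiv r k G i).symm h
    rw [← RingHom.comp_assoc] at this
    have h2 : (quotEquiv r k G i).symm.toRingHom.comp (quotEquiv r k G i).toRingHom =
        RingHom.id _ := by
      apply RingHom.ext
      intro x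
      exact (quotEquiv r k G i).symm_apply_apply x
    rwa [h2, RingHom.id_comp] at this
  · intro h
    exact RingHom.Smooth.respectsIso.1 _ (quotEquiv r k G i) h

/-- smoothness of a projective hypersurface, chart by chart, in affine equations. -/
theorem smooth_iff_eqn :
    Smooth ((LefPen.hypIdeal G).subschemeι ≫ CohB1.ProjSpace.toSpec r k) ↔
      ∀ i : Fin (r + 1), Algebra.Smooth k
        (MvPolynomial {j : Fin (r + 1) // j ≠ i} k ⧸ Ideal.span {eqn r k G i}) := by
  rw [smooth_iff]
  exact forall_congr' fun i => chartQuot_smooth_iff r k G i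

end Groth.Agent.H3.Weier
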