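import Mathlib
import Groth.Agent.Lib.Helper3.WeierB
import Groth.Agent.Lib.Helper3.HypSmooth

/-! helper3: the short Weierstrass cubic is smooth iff its discriminant is nonzero. -/

set_option autoImplicit false
universe u
open CategoryTheory CategoryTheory.Limits AlgebraicGeometry

namespace Groth.Agent.H3.Weier

open MvPolynomial Groth.Agent.H2

variable (k : Type u) [Field k] (a b : k)

/-- variables of the chart `Z = 1`. -/
abbrev x2 : {j : Fin (2 + 1) // j ≠ 2} := ⟨0, by decide⟩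
abbrev y2 : {j : Fin (2 + 1) // j ≠ 2} := ⟨1, by decide⟩
/-- variables of the chart `Y = 1`. -/
abbrev x1 : {j : Fin (2 + 1) // j ≠ 1} := ⟨0, by decide⟩
abbrev z1 : {j : Fin (2 + 1) // j ≠ 1} := ⟨2, by decide⟩
/-- variables of the chart `X = 1`. -/
abbrev y0 : {j : Fin (2 + 1) // j ≠ 0} := ⟨1, by decide⟩
abbrev z0 : {j : Fin (2 + 1) // j ≠ 0} := ⟨2, by decide⟩

/-- the affine equations. -/
noncomputable def f2 : MvPolynomial {j : Fin (2 + 1) // j ≠ 2} k :=
  X y2 ^ 2 - X x2 ^ 3 - C a * X x2 + C b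
noncomputable def f1 : MvPolynomial {j : Fin (2 + 1) // j ≠ 1} k :=
  X z1 - X x1 ^ 3 - C a * X x1 * X z1 ^ 2 + C b * X z1 ^ 3
noncomputable def f0 : MvPolynomial {j : Fin (2 + 1) // j ≠ 0} k :=
  X y0 ^ 2 * X z0 - 1 - C a * X z0 ^ 2 + C b * X z0 ^ 3

section eqns

variable (W : LefPen.Form 2 k 3)
  (hW : (W : MvPolynomial (Fin (2 + 1)) k) = X 1 ^ 2 * X 2 - X 0 ^ 3 - C a * X 0 * X 2 ^ 2 +
    C b * X 2 ^ 3)

include hW in
theorem eqn2 : eqn 2 k W 2 = f2 k a b := by
  change PnChart.dehom 2 k 2 W.1 = _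
  rw [hW]
  simp only [map_sub, map_add, map_mul, map_pow, PnChart.dehom_X_self, PnChart.dehom_C,
    PnChart.dehom_X_ne 2 k 2 0 (by decide), PnChart.dehom_X_ne 2 k 2 1 (by decide)]
  rw [f2]
  ring

include hW in
theorem eqn1 : eqn 2 k W 1 = f1 k a b := by
  change PnChart.dehom 2 k 1 W.1 = _
  rw [hW]
  simp only [map_sub, map_add, map_mul, map_pow, PnChart.dehom_X_self, PnChart.dehom_C,
    PnChart.dehom_X_ne 2 k 1 0 (by decide), PnChart.dehom_X_ne 2 k 1 2 (by decide)]
  rw [f1]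
  ring

include hW in
theorem eqn0 : eqn 2 k W 0 = f0 k a b := by
  change PnChart.dehom 2 k 0 W.1 = _
  rw [hW]
  simp only [map_sub, map_add, map_mul, map_pow, PnChart.dehom_X_self, PnChart.dehom_C,
    PnChart.dehom_X_ne 2 k 0 1 (by decide), PnChart.dehom_X_ne 2 k 0 2 (by decide)]
  rw [f0]
  ring

end eqns

section derivs

theorem pd_x2 : pderiv x2 (f2 k a b) = -(3 * X x2 ^ 2) - C a := by
  have h : (y2 : {j : Fin (2 + 1) // j ≠ 2}) ≠ x2 := by decide
  simp only [f2, map_sub, map_add, pderiv_mul, pderiv_pow, pderiv_C, pderiv_X_self,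
    pderiv_X_of_ne h]
  push_cast
  ring

theorem pd_y2 : pderiv y2 (f2 k a b) = 2 * X y2 := by
  have h : (x2 : {j : Fin (2 + 1) // j ≠ 2}) ≠ y2 := by decide
  simp only [f2, map_sub, map_add, pderiv_mul, pderiv_pow, pderiv_C, pderiv_X_self,
    pderiv_X_of_ne h]
  push_cast
  ring

theorem pd_x1 : pderiv x1 (f1 k a b) = -(3 * X x1 ^ 2) - C a * X z1 ^ 2 := by
  have h : (z1 : {j : Fin (2 + 1) // j ≠ 1}) ≠ x1 := by decide
  simp only [f1, map_sub, map_add, pderiv_mul, pderiv_pow, pderiv_C, pderiv_X_self,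
    pderiv_X_of_ne h]
  push_cast
  ring

theorem pd_z1 : pderiv z1 (f1 k a b) = 1 - 2 * C a * X x1 * X z1 + 3 * C b * X z1 ^ 2 := by
  have h : (x1 : {j : Fin (2 + 1) // j ≠ 1}) ≠ z1 := by decide
  simp only [f1, map_sub, map_add, pderiv_mul, pderiv_pow, pderiv_C, pderiv_X_self,
    pderiv_X_of_ne h]
  push_cast
  ring

theorem pd_y0 : pderiv y0 (f0 k a b) = 2 * X y0 * X z0 := by
  have h : (z0 : {j : Fin (2 + 1) // j ≠ 0}) ≠ y0 := by decide
  simp only [f0, map_sub, map_add, pderiv_mul, pderiv_pow, pderiv_C, pderiv_X_self,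
    pderiv_X_of_ne h, pderiv_one]
  push_cast
  ring

theorem pd_z0 : pderiv z0 (f0 k a b) = X y0 ^ 2 - 2 * C a * X z0 + 3 * C b * X z0 ^ 2 := by
  have h : (y0 : {j : Fin (2 + 1) // j ≠ 0}) ≠ z0 := by decide
  simp only [f0, map_sub, map_add, pderiv_mul, pderiv_pow, pderiv_C, pderiv_X_self,
    pderiv_X_of_ne h, pderiv_one]
  push_cast
  ring

end derivs

section smooth

variable (h2 : (2 : k) ≠ 0)

include h2 in
theorem smooth1 : Algebra.Smooth k (MvPolynomial {j : Fin (2 + 1) // j ≠ 1} k ⧸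
    Ideal.span {f1 k a b}) := by
  set L : MvPolynomial {j : Fin (2 + 1) // j ≠ 1} k :=
    2 * C a * X x1 - 3 * C b * X z1 with hL
  refine HypSm.smooth_of_derivation k _ (f1 k a b)
    ((-(L * X x1)) • pderiv x1 + (2 - L * X z1) • pderiv z1) (3 * L) (C 2) (C (2⁻¹)) ?_ ?_
  · rw [Derivation.add_apply, Derivation.smul_apply, Derivation.smul_apply, pd_x1, pd_z1,
      smul_eq_mul, smul_eq_mul, f1, hL]
    simp only [map_ofNat]
    ring
  · rw [← map_mul, inv_mul_cancel₀ h2, map_one]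

include h2 in
theorem smooth2 (hΔ : 4 * a ^ 3 + 27 * b ^ 2 ≠ 0) :
    Algebra.Smooth k (MvPolynomial {j : Fin (2 + 1) // j ≠ 2} k ⧸ Ideal.span {f2 k a b}) := by
  set U : MvPolynomial {j : Fin (2 + 1) // j ≠ 2} k :=
    -(18 * C a * X x2) - 27 * C b with hU
  set V : MvPolynomial {j : Fin (2 + 1) // j ≠ 2} k :=
    6 * C a * X x2 ^ 2 + 9 * C b * X x2 + 4 * C a ^ 2 with hV
  refine HypSm.smooth_of_derivation k _ (f2 k a b)
    ((-(2 * V)) • pderiv x2 + (U * X y2) • pderiv y2) (-(2 * U))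
    (C (2 * (4 * a ^ 3 + 27 * b ^ 2))) (C ((2 * (4 * a ^ 3 + 27 * b ^ 2))⁻¹)) ?_ ?_
  · rw [Derivation.add_apply, Derivation.smul_apply, Derivation.smul_apply, pd_x2, pd_y2,
      smul_eq_mul, smul_eq_mul, f2, hU, hV]
    simp only [map_mul, map_add, map_pow, map_ofNat]
    ring
  · rw [← map_mul, inv_mul_cancel₀ (mul_ne_zero h2 hΔ), map_one]

include h2 in
theorem smooth0 (hΔ : 4 * a ^ 3 + 27 * b ^ 2 ≠ 0) :
    Algebra.Smooth k (MvPolynomial {j : Fin (2 + 1) // j ≠ 0} k ⧸ Ideal.span {f0 k a b}) := by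
  have h4 : (4 : k) ≠ 0 := by
    have : (4 : k) = 2 * 2 := by norm_num
    rw [this]; exact mul_ne_zero h2 h2
  set z : MvPolynomial {j : Fin (2 + 1) // j ≠ 0} k := X z0 with hz
  set y : MvPolynomial {j : Fin (2 + 1) // j ≠ 0} k := X y0 with hy
  set w : MvPolynomial {j : Fin (2 + 1) // j ≠ 0} k := -(C a * z) + C b * z ^ 2 with hw
  set G1 : MvPolynomial {j : Fin (2 + 1) // j ≠ 0} k :=
    -2 - 2 * C a * z ^ 2 + 2 * C b * z ^ 3 with hG1
  set T : MvPolynomial {j : Fin (2 + 1) // j ≠ 0} k := C a * (3 * C b * z + 2 * C a) with hT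
  set Q : MvPolynomial {j : Fin (2 + 1) // j ≠ 0} k :=
    T * (2 * C a - 3 * C b * z) * (4 + G1) with hQ
  refine HypSm.smooth_of_derivation k _ (f0 k a b)
    ((36 * C b ^ 2 * y + 2 * T * w ^ 2 * y + Q * y) • pderiv y0 +
      (36 * C b ^ 2 * z - 4 * T * w ^ 2 * z) • pderiv z0) (-(108 * C b ^ 2) - 2 * Q)
    (C (4 * (4 * a ^ 3 + 27 * b ^ 2))) (C ((4 * (4 * a ^ 3 + 27 * b ^ 2))⁻¹)) ?_ ?_
  · rw [Derivation.add_apply, Derivation.smul_apply, Derivation.smul_apply, pd_y0, pd_z0,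
      smul_eq_mul, smul_eq_mul, f0, hQ, hT, hG1, hw, hy, hz]
    simp only [map_mul, map_add, map_pow, map_ofNat]
    ring
  · rw [← map_mul, inv_mul_cancel₀ (mul_ne_zero h4 hΔ), map_one]

end smooth

section singular

variable (h2 : (2 : k) ≠ 0)

include h2 in
theorem exists_root (hΔ : 4 * a ^ 3 + 27 * b ^ 2 = 0) :
    ∃ r : AlgebraicClosure k,
      r ^ 3 + algebraMap k (AlgebraicClosure k) a * r - algebraMap k (AlgebraicClosure k) b = 0 ∧
      3 * r ^ 2 + algebraMap k (AlgebraicClosure k) a = 0 := by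
  have h4 : (4 : k) ≠ 0 := by
    have : (4 : k) = 2 * 2 := by norm_num
    rw [this]; exact mul_ne_zero h2 h2
  by_cases h3 : (3 : k) = 0
  · have h27 : (27 : k) = 0 := by
      have : (27 : k) = 3 * 9 := by norm_num
      rw [this, h3, zero_mul]
    rw [h27, zero_mul, add_zero] at hΔ
    have ha : a = 0 := by
      rcases mul_eq_zero.mp hΔ with h | h
      · exact absurd h h4
      · exact pow_eq_zero_iff (by norm_num) |>.mp h
    obtain ⟨r, hr⟩ := IsAlgClosed.exists_pow_nat_eq (algebraMap k (AlgebraicClosure k) b)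
      (by norm_num : 0 < 3)
    refine ⟨r, ?_, ?_⟩
    · rw [hr, ha, map_zero, zero_mul, add_zero, sub_self]
    · have : (3 : AlgebraicClosure k) = algebraMap k (AlgebraicClosure k) 3 := by
        rw [map_ofNat]
      rw [this, h3, map_zero, zero_mul, ha, map_zero, add_zero]
  · by_cases ha : a = 0
    · rw [ha] at hΔ
      have hb : b = 0 := by
        have h27 : (27 : k) ≠ 0 := by
          have : (27 : k) = 3 * 3 * 3 := by norm_num
          rw [this]; exact mul_ne_zero (mul_ne_zero h3 h3) h3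
        have : 27 * b ^ 2 = 0 := by
          rw [← hΔ]; ring
        rcases mul_eq_zero.mp this with h | h
        · exact absurd h h27
        · exact pow_eq_zero_iff (by norm_num) |>.mp h
      refine ⟨0, ?_, ?_⟩
      · rw [ha, hb]; simp
      · rw [ha]; simp
    · refine ⟨algebraMap k (AlgebraicClosure k) (3 * b / (2 * a)), ?_, ?_⟩
      · rw [← map_pow, ← map_mul, ← map_add, ← map_sub]
        have : (3 * b / (2 * a)) ^ 3 + a * (3 * b / (2 * a)) - b = 0 := by
          field_simp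
          linear_combination (b) * hΔ
        rw [this, map_zero]
      · have h3' : (3 : AlgebraicClosure k) = algebraMap k (AlgebraicClosure k) 3 := by
          rw [map_ofNat]
        rw [h3', ← map_pow, ← map_mul, ← map_add]
        have : 3 * (3 * b / (2 * a)) ^ 2 + a = 0 := by
          field_simp
          linear_combination hΔ
        rw [this, map_zero]

include h2 in
theorem not_smooth2 (hΔ : 4 * a ^ 3 + 27 * b ^ 2 = 0) :
    ¬ Algebra.FormallySmooth k
      (MvPolynomial {j : Fin (2 + 1) // j ≠ 2} k ⧸ Ideal.span {f2 k a b}) := by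
  obtain ⟨r, hr1, hr2⟩ := exists_root k a b h2 hΔ
  let ev : MvPolynomial {j : Fin (2 + 1) // j ≠ 2} k →+* AlgebraicClosure k :=
    eval₂Hom (algebraMap k (AlgebraicClosure k)) (fun j => if j = x2 then r else 0)
  have hx : ev (X x2) = r := by
    change eval₂Hom _ _ (X x2) = r
    rw [eval₂Hom_X', if_pos rfl]
  have hy : ev (X y2) = 0 := by
    change eval₂Hom _ _ (X y2) = 0
    rw [eval₂Hom_X', if_neg (by decide)]
  have hC : ∀ c : k, ev (C c) = algebraMap k (AlgebraicClosure k) c := fun c => by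
    change eval₂Hom _ _ (C c) = _
    rw [eval₂Hom_C]
  have hP2 : (2 : MvPolynomial {j : Fin (2 + 1) // j ≠ 2} k) ≠ 0 := by
    have : (2 : MvPolynomial {j : Fin (2 + 1) // j ≠ 2} k) = C 2 := by rw [map_ofNat]
    rw [this, Ne, C_eq_zero]
    exact h2
  refine HypSm.not_formallySmooth k _ (f2 k a b) ?_ (RingHom.ker ev) (RingHom.ker_ne_top ev) ?_ ?_
  · intro hf
    have h1 := pd_y2 k a b
    rw [hf, map_zero] at h1
    rcases mul_eq_zero.mp h1.symm with h | h
    · exact hP2 h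
    · exact X_ne_zero _ h
  · rw [RingHom.mem_ker, f2]
    simp only [map_sub, map_add, map_mul, map_pow, hx, hy, hC]
    linear_combination -hr1
  · intro i
    rw [RingHom.mem_ker]
    have hi : i = x2 ∨ i = y2 := by
      obtain ⟨j, hj⟩ := i
      fin_cases j
      · left; rfl
      · right; rfl
      · exact absurd rfl hj
    rcases hi with rfl | rfl
    · rw [pd_x2]
      simp only [map_sub, map_neg, map_mul, map_pow, hx, hC, map_ofNat]
      linear_combination -hr2
    · rw [pd_y2]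
      simp only [map_mul, hy, mul_zero]

end singular

/-- the criterion. -/
theorem smooth_weierstrass_iff (h2 : (2 : k) ≠ 0) (W : LefPen.Form 2 k 3)
    (hW : (W : MvPolynomial (Fin (2 + 1)) k) = X 1 ^ 2 * X 2 - X 0 ^ 3 - C a * X 0 * X 2 ^ 2 +
      C b * X 2 ^ 3) :
    Smooth ((LefPen.hypIdeal W).subschemeι ≫ CohB1.ProjSpace.toSpec 2 k) ↔
      4 * a ^ 3 + 27 * b ^ 2 ≠ 0 := by
  rw [smooth_iff_eqn]
  constructor
  · intro h hΔ
    have h' := (h 2).formallySmooth
    rw [eqn2 k a b W hW] at h'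
    exact not_smooth2 k a b h2 hΔ h'
  · intro hΔ i
    fin_cases i
    · change Algebra.Smooth k (_ ⧸ Ideal.span {eqn 2 k W 0})
      rw [eqn0 k a b W hW]
      exact smooth0 k a b h2 hΔ
    · change Algebra.Smooth k (_ ⧸ Ideal.span {eqn 2 k W 1})
      rw [eqn1 k a b W hW]
      exact smooth1 k a b h2
    · change Algebra.Smooth k (_ ⧸ Ideal.span {eqn 2 k W 2})
      rw [eqn2 k a b W hW]
      exact smooth2 k a b h2 hΔ

end Groth.Agent.H3.Weier
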