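import Mathlib
import Groth.Agent.Lib.Helper3.PGrpFlag
import Groth.Agent.Lib.Helper7.Reg1

/-! helper3: an automorphism of a regular local ring with a field of representatives that is
ramified only at the closed point fixes no element of `𝔪 \ 𝔪²`. -/

set_option autoImplicit false
universe u v w

open IsLocalRing

namespace Groth.Agent.H3.WildFix

section dense

variable {A : Type u} [CommRing A] [IsLocalRing A] (B : Subring A) (S : Set A)
  (hS : Ideal.span S = maximalIdeal A) (hSB : S ⊆ B)
  (hres : ∀ a : A, ∃ b ∈ B, a - b ∈ maximalIdeal A)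

include hS hSB hres in
theorem step_one (y : A) (hy : y ∈ maximalIdeal A) :
    ∃ b ∈ B, b ∈ maximalIdeal A ∧ y - b ∈ maximalIdeal A ^ 2 := by
  rw [← hS] at hy
  induction hy using Submodule.span_induction with
  | mem x hx =>
    refine ⟨x, hSB hx, ?_, ?_⟩
    · rw [← hS]; exact Ideal.subset_span hx
    · rw [sub_self]; exact Ideal.zero_mem _
  | zero => exact ⟨0, B.zero_mem, Ideal.zero_mem _, by rw [sub_self]; exact Ideal.zero_mem _⟩
  | add x y _ _ hx hy =>
    obtain ⟨b₁, hb₁, hb₁m, h₁⟩ := hx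
    obtain ⟨b₂, hb₂, hb₂m, h₂⟩ := hy
    refine ⟨b₁ + b₂, B.add_mem hb₁ hb₂, Ideal.add_mem _ hb₁m hb₂m, ?_⟩
    have : x + y - (b₁ + b₂) = (x - b₁) + (y - b₂) := by ring
    rw [this]
    exact Ideal.add_mem _ h₁ h₂
  | smul a x hx' hx =>
    obtain ⟨b, hb, hbm, h⟩ := hx
    obtain ⟨c, hc, hca⟩ := hres a
    have hxm : x ∈ maximalIdeal A := by rw [← hS]; exact hx'
    refine ⟨c * b, B.mul_mem hc hb, Ideal.mul_mem_left _ _ hbm, ?_⟩
    have : a • x - c * b = c * (x - b) + (a - c) * x := by rw [smul_eq_mul]; ring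
    rw [this]
    refine Ideal.add_mem _ (Ideal.mul_mem_left _ _ h) ?_
    rw [pow_two]
    exact Ideal.mul_mem_mul hca hxm

include hS hSB hres in
theorem step_pow : ∀ (N : ℕ) (x : A), x ∈ maximalIdeal A ^ N →
    ∃ b ∈ B, b ∈ maximalIdeal A ^ N ∧ x - b ∈ maximalIdeal A ^ (N + 1) := by
  intro N
  induction N with
  | zero =>
    intro x _
    obtain ⟨b, hb, hab⟩ := hres x
    refine ⟨b, hb, ?_, ?_⟩
    · rw [pow_zero, Ideal.one_eq_top]; exact Submodule.mem_top
    · rw [zero_add, pow_one]; exact hab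
  | succ N ih =>
    intro x hx
    rw [pow_succ] at hx
    refine Submodule.mul_induction_on hx (fun z hz y hy => ?_) (fun x y hx hy => ?_)
    · obtain ⟨bz, hbz, hbzm, hz'⟩ := ih z hz
      obtain ⟨by', hby, hbym, hy'⟩ := step_one B S hS hSB hres y hy
      refine ⟨bz * by', B.mul_mem hbz hby, ?_, ?_⟩
      · rw [pow_succ]; exact Ideal.mul_mem_mul hbzm hbym
      · have : z * y - bz * by' = bz * (y - by') + (z - bz) * by' + (z - bz) * (y - by') := by
          ring
        rw [this]
        have e1 : maximalIdeal A ^ (N + 1 + 1) = maximalIdeal A ^ N * maximalIdeal A ^ 2 := by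
          rw [← pow_add]
        have e2 : maximalIdeal A ^ (N + 1 + 1) = maximalIdeal A ^ (N + 1) * maximalIdeal A := by
          rw [pow_succ]
        refine Ideal.add_mem _ (Ideal.add_mem _ ?_ ?_) ?_
        · rw [e1]; exact Ideal.mul_mem_mul hbzm hy'
        · rw [e2]; exact Ideal.mul_mem_mul hz' hbym
        · rw [e2]
          exact Ideal.mul_mem_mul hz' (Ideal.pow_le_self two_ne_zero hy')
    · obtain ⟨b₁, hb₁, hb₁m, h₁⟩ := hx
      obtain ⟨b₂, hb₂, hb₂m, h₂⟩ := hy
      refine ⟨b₁ + b₂, B.add_mem hb₁ hb₂, Ideal.add_mem _ hb₁m hb₂m, ?_⟩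
      have : x + y - (b₁ + b₂) = (x - b₁) + (y - b₂) := by ring
      rw [this]
      exact Ideal.add_mem _ h₁ h₂

include hS hSB hres in
theorem exists_sub_mem_pow : ∀ (N : ℕ) (a : A), ∃ b ∈ B, a - b ∈ maximalIdeal A ^ N := by
  intro N
  induction N with
  | zero =>
    intro a
    exact ⟨0, B.zero_mem, by rw [pow_zero, Ideal.one_eq_top]; exact Submodule.mem_top⟩
  | succ N ih =>
    intro a
    obtain ⟨b, hb, hab⟩ := ih a
    obtain ⟨b', hb', _, h⟩ := step_pow B S hS hSB hres N (a - b) hab
    refine ⟨b + b', B.add_mem hb hb', ?_⟩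
    have : a - (b + b') = a - b - b' := by ring
    rw [this]
    exact h

end dense

theorem smul_mem_pow {A : Type u} [CommRing A] [IsLocalRing A] {G : Type w} [Group G]
    [MulSemiringAction G A] (σ : G) (N : ℕ) (x : A) (hx : x ∈ maximalIdeal A ^ N) :
    σ • x ∈ maximalIdeal A ^ N := by
  have h1 : (maximalIdeal A).map (MulSemiringAction.toRingHom G A σ) ≤ maximalIdeal A := by
    rw [Ideal.map_le_iff_le_comap]
    intro a ha
    exact PFlag.smul_mem_maximalIdeal A G σ a ha
  have h2 := Ideal.mem_map_of_mem (MulSemiringAction.toRingHom G A σ) hx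
  rw [Ideal.map_pow] at h2
  exact Ideal.pow_right_mono h1 N h2

/-- no element of `𝔪 \ 𝔪²` is fixed. -/
theorem exists_smul_ne (A : Type u) [CommRing A] [IsRegularLocalRing A]
    (k : Type v) [Field k] [Algebra k A]
    (hk : Function.Surjective (IsLocalRing.residue A ∘ algebraMap k A))
    (G : Type w) [Group G] [Nontrivial G] [MulSemiringAction G A]
    (hGk : ∀ (σ : G) (c : k), σ • algebraMap k A c = algebraMap k A c)
    (hram : ∀ P : Ideal A, P.IsPrime → P ≠ IsLocalRing.maximalIdeal A → P.inertia G = ⊥)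
    (v : A) (hv : v ∈ IsLocalRing.maximalIdeal A) (hv2 : v ∉ IsLocalRing.maximalIdeal A ^ 2) :
    ∃ σ : G, σ • v ≠ v := by
  classical
  by_contra hfix
  push Not at hfix
  obtain ⟨σ, hσ⟩ := exists_ne (1 : G)
  obtain ⟨t, ht1, ht2⟩ := Groth.Agent.H7.Reg.exists_finset_span_insert v hv hv2
  set s' : Finset A := t.image (fun u => σ • u - u) with hs'
  set J : Ideal A := Ideal.span (s' : Set A) with hJ
  let B : Subring A :=
    { carrier := {a | σ • a - a ∈ J}
      mul_mem' := by
        intro a b ha hb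
        change σ • (a * b) - a * b ∈ J
        have : σ • (a * b) - a * b = σ • a * (σ • b - b) + (σ • a - a) * b := by
          rw [smul_mul']; ring
        rw [this]
        exact Ideal.add_mem _ (Ideal.mul_mem_left _ _ hb) (Ideal.mul_mem_right _ _ ha)
      one_mem' := by
        change σ • (1 : A) - 1 ∈ J
        rw [smul_one, sub_self]; exact Ideal.zero_mem _
      add_mem' := by
        intro a b ha hb
        change σ • (a + b) - (a + b) ∈ J
        have : σ • (a + b) - (a + b) = (σ • a - a) + (σ • b - b) := by rw [smul_add]; ring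
        rw [this]
        exact Ideal.add_mem _ ha hb
      zero_mem' := by
        change σ • (0 : A) - 0 ∈ J
        rw [smul_zero, sub_self]; exact Ideal.zero_mem _
      neg_mem' := by
        intro a ha
        change σ • (-a) - (-a) ∈ J
        have : σ • (-a) - (-a) = -(σ • a - a) := by rw [smul_neg]; ring
        rw [this]
        exact Submodule.neg_mem _ ha }
  have hBmem : ∀ a, a ∈ B ↔ σ • a - a ∈ J := fun a => Iff.rfl
  have hSB : insert v (t : Set A) ⊆ B := by
    intro a ha
    rcases Set.mem_insert_iff.mp ha with rfl | ha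
    · change σ • a - a ∈ J
      rw [hfix σ, sub_self]; exact Ideal.zero_mem _
    · change σ • a - a ∈ J
      exact Ideal.subset_span (Finset.mem_coe.mpr (Finset.mem_image_of_mem _ ha))
  have hresB : ∀ a : A, ∃ b ∈ B, a - b ∈ maximalIdeal A := by
    intro a
    obtain ⟨c, hc⟩ := hk (IsLocalRing.residue A a)
    refine ⟨algebraMap k A c, ?_, ?_⟩
    · change σ • algebraMap k A c - algebraMap k A c ∈ J
      rw [hGk, sub_self]; exact Ideal.zero_mem _
    · rw [← IsLocalRing.residue_eq_zero_iff, map_sub, sub_eq_zero]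
      exact hc.symm
  have htm : ∀ u ∈ t, u ∈ maximalIdeal A := by
    intro u hu
    rw [← ht2]
    exact Ideal.subset_span (Set.mem_insert_of_mem _ hu)
  have hJm : J ≤ maximalIdeal A := by
    rw [hJ, Ideal.span_le]
    intro x hx
    obtain ⟨u, hu, rfl⟩ := Finset.mem_image.mp (Finset.mem_coe.mp hx)
    exact Ideal.sub_mem _ (PFlag.smul_mem_maximalIdeal A G σ u (htm u hu)) (htm u hu)
  have hmtop : maximalIdeal A ≠ ⊤ := (maximalIdeal.isMaximal A).ne_top
  have hall : ∀ a : A, σ • a - a ∈ J := by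
    intro a
    have hbot := Ideal.iInf_pow_smul_eq_bot_of_isLocalRing (I := maximalIdeal A) (M := A ⧸ J) hmtop
    have hmem : (Ideal.Quotient.mk J (σ • a - a) : A ⧸ J) ∈
        (⨅ i : ℕ, maximalIdeal A ^ i • ⊤ : Submodule A (A ⧸ J)) := by
      rw [Submodule.mem_iInf]
      intro i
      obtain ⟨b, hb, hab⟩ := exists_sub_mem_pow B _ ht2 hSB hresB i a
      have h1 : σ • a - a = (σ • b - b) + (σ • (a - b) - (a - b)) := by rw [smul_sub]; ring
      have h2 : σ • (a - b) - (a - b) ∈ maximalIdeal A ^ i :=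
        Ideal.sub_mem _ (smul_mem_pow σ i _ hab) hab
      rw [h1, map_add, Ideal.Quotient.eq_zero_iff_mem.mpr ((hBmem b).mp hb), zero_add]
      have h3 : (Ideal.Quotient.mk J (σ • (a - b) - (a - b)) : A ⧸ J) =
          (σ • (a - b) - (a - b)) • (Ideal.Quotient.mk J 1 : A ⧸ J) := by
        rw [Algebra.smul_def, Ideal.Quotient.algebraMap_eq, ← map_mul, mul_one]
      rw [h3]
      exact Submodule.smul_mem_smul h2 Submodule.mem_top
    rw [hbot, Submodule.mem_bot] at hmem
    exact Ideal.Quotient.eq_zero_iff_mem.mp hmem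
  have hJtop : J ≠ ⊤ := fun h => hmtop (top_le_iff.mp (h ▸ hJm))
  obtain ⟨P, hP⟩ := Ideal.nonempty_minimalPrimes hJtop
  haveI : P.IsPrime := hP.1.1
  have hJP : J ≤ P := hP.1.2
  have hht : P.height ≤ (s'.card : ℕ∞) :=
    Ideal.height_le_card_of_mem_minimalPrimes_span_finset hP
  have hcard : s'.card ≤ t.card := Finset.card_image_le
  have hPm : P ≠ maximalIdeal A := by
    intro h
    have h1 : ((maximalIdeal A).height : WithBot ℕ∞) = ringKrullDim A :=
      IsLocalRing.maximalIdeal_height_eq_ringKrullDim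
    have h2 := IsRegularLocalRing.spanFinrank_maximalIdeal (R := A)
    rw [← h1, ← ht1] at h2
    have h3 : ((t.card + 1 : ℕ) : ℕ∞) = (maximalIdeal A).height := by exact_mod_cast h2
    rw [h, ← h3] at hht
    have h4 : t.card + 1 ≤ s'.card := by exact_mod_cast hht
    omega
  have hin := hram P inferInstance hPm
  have hσin : σ ∈ P.inertia G := by
    rw [Ideal.inertia, AddSubgroup.mem_inertia]
    intro x
    exact hJP (hall x)
  rw [hin, Subgroup.mem_bot] at hσin
  exact hσ hσin

end Groth.Agent.H3.WildFix
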