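import Groth.Prelude.Def_W4c3truncdispsmoothDesc
import Mathlib

/-!
# Truncated Witt vectors and faithfully flat ring maps: the componentwise equalizer
-/

set_option autoImplicit false
open CategoryTheory Opposite TensorProduct
universe u

namespace Groth.Agent.H3.WittFin

variable (p : ℕ) [Fact p.Prime] (n : ℕ)

theorem truncMap_injective {A B : Type u} [CommRing A] [CommRing B] (f : A →+* B)
    (hf : Function.Injective f) : Function.Injective (WittGrp.truncMap p n f) := by
  intro x y h
  apply TruncatedWittVector.ext
  intro i
  apply hf
  rw [← WittGrp.coeff_truncMap, ← WittGrp.coeff_truncMap, h]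

theorem exists_of_truncMap_eq (R R' : Type u) [CommRing R] [CommRing R'] [Algebra R R']
    [Module.FaithfullyFlat R R'] (b : TruncatedWittVector p n R')
    (hb : WittGrp.truncMap p n
        (Algebra.TensorProduct.includeLeftRingHom (R := R) (A := R') (B := R')) b =
      WittGrp.truncMap p n
        (Algebra.TensorProduct.includeRight (R := R) (A := R') (B := R')).toRingHom b) :
    ∃ a : TruncatedWittVector p n R, WittGrp.truncMap p n (algebraMap R R') a = b := by
  have heff : Algebra.IsEffective R R' := Algebra.IsEffective.of_faithfullyFlat R R'
  have hi : ∀ i : Fin n, ∃ r : R, algebraMap R R' r = b.coeff i := by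
    intro i
    have h1 := congrArg (fun x => x.coeff i) hb
    simp only [WittGrp.coeff_truncMap] at h1
    have h2 : b.coeff i ∈ ((Algebra.TensorProduct.includeLeftRingHom (R := R) (A := R')
        (B := R')).eqLocus (Algebra.TensorProduct.includeRight (R := R) (A := R')
          (B := R')).toRingHom : Set R') := h1
    rw [Algebra.IsEffective.eqLocus_includeLeft_includeRight heff] at h2
    exact h2
  choose r hr using hi
  refine ⟨TruncatedWittVector.mk p r, ?_⟩
  apply TruncatedWittVector.ext
  intro i
  rw [WittGrp.coeff_truncMap, TruncatedWittVector.coeff_mk, hr]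

end Groth.Agent.H3.WittFin
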