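import Groth.Agent.Lib.Helper3.PsDescC
import Groth.Agent.Lib.Helper3.WittFin

/-!
# Full faithfulness of the canonical descent datum functor for truncated Witt vector modules along
a faithfully flat ring map (on flat modules)
-/

set_option autoImplicit false
open CategoryTheory Opposite TensorProduct
universe u

namespace Groth.Agent.H3.WittFin

/-- the pseudofunctor of truncated Witt vector rings -/
noncomputable abbrev P0 (p : ℕ) [Fact p.Prime] (n : ℕ) :
    Pseudofunctor (LocallyDiscrete (CommRingCat.{u}ᵒᵖ)ᵒᵖ) (LocallyDiscrete CommRingCat.{u}) :=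
  ((unopUnop CommRingCat.{u}) ⋙ W4c3truncdispsmooth.wittTrunc p n).toPseudofunctor

/-- a module over `W_n(R)`, as a module over the ring attached to `R` -/
def castM (p : ℕ) [Fact p.Prime] (n : ℕ) (R : Type u) [CommRing R]
    (N : ModuleCat.{u} (TruncatedWittVector p n R)) :
    ModuleCat.{u} ((P0 p n).obj (.mk (op (op (CommRingCat.of R))))).as := N

theorem flat_castM (p : ℕ) [Fact p.Prime] (n : ℕ) (R : Type u) [CommRing R]
    (N : ModuleCat.{u} (TruncatedWittVector p n R))
    [Module.Projective (TruncatedWittVector p n R) N] :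
    Module.Flat ((P0 p n).obj (.mk (op (op (CommRingCat.of R))))).as (castM p n R N) :=
  (inferInstance : Module.Flat (TruncatedWittVector p n R) N)

theorem main (p : ℕ) [Fact p.Prime] (n : ℕ)
    (R R' : Type u) [CommRing R] [CommRing R'] [Algebra R R'] [Module.FaithfullyFlat R R']
    (M N : ModuleCat.{u} (TruncatedWittVector p n R))
    [Module.Finite (TruncatedWittVector p n R) M] [Module.Projective (TruncatedWittVector p n R) M]
    [Module.Finite (TruncatedWittVector p n R) N] [Module.Projective (TruncatedWittVector p n R) N] :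
    Function.Bijective (fun φ : M ⟶ N =>
      ((W4c3truncdispsmooth.wittModPF.{u} p n).toDescentData (fun _ : PUnit.{u + 1} => (CommRingCat.ofHom (algebraMap R R')).op)).map φ) := by
  have hinj : Function.Injective (WittGrp.truncMap p n (algebraMap R R')) :=
    Groth.Agent.H3.WittFin.truncMap_injective p n _ (FaithfulSMul.algebraMap_injective R R')
  have hex := Groth.Agent.H3.WittFin.exists_of_truncMap_eq p n R R'
  have hf₂ : (CommRingCat.ofHom (Algebra.TensorProduct.includeRight (R := R) (A := R')
      (B := R')).toRingHom).op ≫ (CommRingCat.ofHom (algebraMap R R')).op =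
      (CommRingCat.ofHom (Algebra.TensorProduct.includeLeftRingHom (R := R) (A := R')
        (B := R'))).op ≫ (CommRingCat.ofHom (algebraMap R R')).op := by
    rw [← op_comp, ← op_comp]
    congr 1
    ext r
    change (1 : R') ⊗ₜ[R] (algebraMap R R' r) = (algebraMap R R' r) ⊗ₜ[R] (1 : R')
    rw [Algebra.algebraMap_eq_smul_one, TensorProduct.smul_tmul]
  have h₁ : (CommRingCat.ofHom (algebraMap R R')).op.op.toLoc ≫
      (CommRingCat.ofHom (Algebra.TensorProduct.includeLeftRingHom (R := R) (A := R')
        (B := R'))).op.op.toLoc =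
      ((CommRingCat.ofHom (Algebra.TensorProduct.includeLeftRingHom (R := R) (A := R')
        (B := R'))).op ≫ (CommRingCat.ofHom (algebraMap R R')).op).op.toLoc := rfl
  have h₂ : (CommRingCat.ofHom (algebraMap R R')).op.op.toLoc ≫
      (CommRingCat.ofHom (Algebra.TensorProduct.includeRight (R := R) (A := R')
      (B := R')).toRingHom).op.op.toLoc =
      ((CommRingCat.ofHom (Algebra.TensorProduct.includeLeftRingHom (R := R) (A := R')
        (B := R'))).op ≫ (CommRingCat.ofHom (algebraMap R R')).op).op.toLoc := by
    rw [← hf₂]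
    rfl
  have hflat := flat_castM p n R N
  refine Groth.Agent.H3.PsDesc.bijective_generic (W4c3truncdispsmooth.wittModPF.{u} p n)
    (CommRingCat.ofHom (algebraMap R R')).op
    ((CommRingCat.ofHom (Algebra.TensorProduct.includeLeftRingHom (R := R) (A := R')
        (B := R'))).op ≫ (CommRingCat.ofHom (algebraMap R R')).op)
    (CommRingCat.ofHom (Algebra.TensorProduct.includeLeftRingHom (R := R) (A := R')
        (B := R'))).op
    (CommRingCat.ofHom (Algebra.TensorProduct.includeRight (R := R) (A := R')
      (B := R')).toRingHom).op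
    rfl hf₂ h₁ h₂ M N ?_ ?_
  · intro φ φ' h
    exact Groth.Agent.H3.PsDesc.eq_of_map_eq (P0 p n)
      (CommRingCat.ofHom (algebraMap R R')).op.op.toLoc (castM p n R M) (castM p n R N) hinj φ φ' h
  · intro ψ₀ hc
    exact Groth.Agent.H3.PsDesc.exists_hom_of_comm (P0 p n)
      (CommRingCat.ofHom (algebraMap R R')).op.op.toLoc
      (CommRingCat.ofHom (Algebra.TensorProduct.includeLeftRingHom (R := R) (A := R')
        (B := R'))).op.op.toLoc
      (CommRingCat.ofHom (Algebra.TensorProduct.includeRight (R := R) (A := R')
        (B := R')).toRingHom).op.op.toLoc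
      ((CommRingCat.ofHom (Algebra.TensorProduct.includeLeftRingHom (R := R) (A := R')
        (B := R'))).op ≫ (CommRingCat.ofHom (algebraMap R R')).op).op.toLoc h₁ h₂
      (castM p n R M) (castM p n R N) hinj hex ψ₀ hc


end Groth.Agent.H3.WittFin
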