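import Mathlib
import Groth.Prelude.Def_ZClos
import Groth.Prelude.Def_Coh
import Groth.Prelude.Def_FDesc
import Groth.Agent.Lib.Helper3.ZClosLib
import Groth.Agent.Lib.Helper3.ZClosSect
import Groth.Agent.Lib.Helper3.ZClosNoeth
import Groth.Agent.Lib.Helper3.ColimSect
import Groth.Agent.Lib.Lead.QC.Push
import Groth.Agent.Lib.Lead.QC.Coh
import Groth.Agent.Lib.Lead.QC.WeakAssInj
import Groth.Agent.Lib.Lead.QC.AssPoint

set_option autoImplicit false

universe u

open AlgebraicGeometry CategoryTheory CategoryTheory.Limits TopologicalSpace Opposite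

namespace Groth.Agent.H3.ZClosCoh

open ZClos Groth.Agent.H3.ZClosLib Groth.Agent.H3.ZClosSect Groth.Agent.H3.ColimSect
  Groth.Agent.H3.ZClosNoeth Groth.Agent.LD.QC

variable {X : Scheme.{u}}

/-- when no associated point lies in `Z`, the transition maps of the inductive system are injective -/
theorem trans_injective (Z : Set X) (F : X.Modules) [F.IsQuasicoherent]
    (hass : ∀ x ∈ AssSch.Ass F, x ∉ Z) {T1 T2 : Cl Z} (h : T1 ≤ T2) (V : X.Opens) :
    Function.Injective ((((diagram Z).obj F).map (homOfLE h)).app V) := by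
  rw [injective_iff_map_eq_zero]
  intro s hs
  rw [trans_app_eq] at hs
  apply eq_zero_of_germ_eq_zero_at_weakAss' F (T1.U.ι ''ᵁ T1.U.ι ⁻¹ᵁ V) s
  intro x hx hw
  have hxZ : x ∉ Z := hass x ((isAssPoint_iff_isWeakAssPoint F x).2 hw)
  have hx2 : x ∈ T2.U.ι ''ᵁ T2.U.ι ⁻¹ᵁ V := by
    rw [ι_image_preimage] at hx ⊢
    exact ⟨fun hT => hxZ (T2.2 hT), hx.2⟩
  rw [← germ_res F x (resPush_le (Cl.U_anti h) V) hx2 s]
  exact (congrArg (F.presheaf.germ _ x hx2) hs).trans (map_zero _)

/-- S5867 -/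
theorem isCoh_resPush [IsLocallyNoetherian X] (Z : Set X) (F : X.Modules) (hF : Coh.IsCoh F)
    (hass : ∀ x ∈ AssSch.Ass F, x ∉ Z) (hH : Coh.IsCoh ((H0 Z).obj F)) (T : Cl Z) :
    Coh.IsCoh ((resPush T.U).obj F) := by
  obtain ⟨hFq, -⟩ := hF
  haveI := hFq
  have hq : ((resPush T.U).obj F).IsQuasicoherent := qc_pushforward T.U.ι _
  refine ⟨hq, ?_⟩
  let i : (resPush T.U).obj F ⟶ (H0 Z).obj F := colimit.ι ((diagram Z).obj F) T
  haveI : Mono i := by
    apply mono_of_injective_compact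
    intro V hV
    rw [injective_iff_map_eq_zero]
    intro t ht
    obtain ⟨T', hTT', hk⟩ := exists_kill_of_isCompact ((diagram Z).obj F) V hV T t ht
    exact (injective_iff_map_eq_zero _).1 (trans_injective Z F hass hTT' V) t hk
  exact isFiniteType_of_mono i hq hH.1 hH.2

end Groth.Agent.H3.ZClosCoh
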