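import Mathlib
import Groth.Prelude.Def_ZClos
import Groth.Agent.Lib.Helper3.ZClosLib
import Groth.Agent.Lib.Helper3.ZClosStalk
import Groth.Agent.Lib.Helper3.ZClosCover
import Groth.Agent.Lib.Lead.QC.SuppPullback

set_option autoImplicit false

universe u

open AlgebraicGeometry CategoryTheory CategoryTheory.Limits TopologicalSpace Opposite

namespace Groth.Agent.H3.ZClosSupp

open ZClos Groth.Agent.H3.ZClosLib Groth.Agent.H3.ZClosSect Groth.Agent.H3.ZClosCover
  Groth.Agent.H3.ZClosStalk Groth.Agent.LD.QC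

variable {X : Scheme.{u}}

/-- a section of a module supported in `Z` is killed by removing a closed subset of `Z` -/
theorem exists_closed_res_eq_zero [IsLocallyNoetherian X] (Z : Set X)
    (hZ : StableUnderSpecialization Z)
    (F : X.Modules) (hF : ∀ x : X, x ∉ Z → Subsingleton (F.presheaf.stalk x))
    (W : X.Opens) (s : Γ(F, W)) :
    ∃ T : Cl Z, F.presheaf.map (homOfLE (inf_le_left : W ⊓ T.U ≤ W)).op s = 0 := by
  -- largest open where s vanishes
  let 𝒪 : Set X.Opens := {W' | ∃ h : W' ≤ W, F.presheaf.map (homOfLE h).op s = 0}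
  let O : X.Opens := sSup 𝒪
  have hOW : O ≤ W := sSup_le (fun W' hW' => hW'.1)
  have hO : F.presheaf.map (homOfLE hOW).op s = 0 := by
    apply section_eq_zero_of_cover F (fun W' : 𝒪 => W'.1) (fun W' => le_sSup W'.2)
      (by rw [sSup_eq_iSup'])
    intro W'
    rw [res_res]
    exact W'.2.2
  -- complement closed in W
  let S : Closeds (W : Scheme.{u}) :=
    ⟨((W.ι ⁻¹ᵁ O : (W : Scheme.{u}).Opens) : Set (W : Scheme.{u}))ᶜ,
      (W.ι ⁻¹ᵁ O).isOpen.isClosed_compl⟩
  have hS : (S : Set (W : Scheme.{u})) ⊆ W.ι ⁻¹' Z := by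
    intro y hy
    by_contra hyZ
    apply hy
    haveI : Subsingleton (F.presheaf.stalk y.1) := hF y.1 hyZ
    have hg : F.presheaf.germ W y.1 y.2 s = F.presheaf.germ W y.1 y.2 0 := Subsingleton.elim _ _
    obtain ⟨W', hyW', iU, iV, e⟩ := TopCat.Presheaf.germ_eq F.presheaf y.1 y.2 y.2 s 0 hg
    rw [map_zero] at e
    have : W' ∈ 𝒪 := ⟨iU.le, e⟩
    exact (le_sSup this) hyW'
  let T : Cl Z := ⟨⟨closure (W.ι '' (S : Set (W : Scheme.{u}))), isClosed_closure⟩,
    closure_image_subset Z hZ W S hS⟩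
  refine ⟨T, ?_⟩
  have hle : W ⊓ T.U ≤ O := by
    rintro y ⟨hyW, hyT⟩
    by_contra hyO
    apply hyT
    apply subset_closure
    exact ⟨⟨y, hyW⟩, hyO, rfl⟩
  rw [← res_res F hOW hle, hO, map_zero]


/-- stalks of the `Z`-closure of a module supported in `Z` vanish -/
theorem subsingleton_stalk_H0 [IsLocallyNoetherian X] (Z : Set X)
    (hZ : StableUnderSpecialization Z)
    (F : X.Modules) (hF : ∀ x : X, x ∉ Z → Subsingleton (F.presheaf.stalk x)) (x : X) :
    Subsingleton (((H0 Z).obj F).presheaf.stalk x) := by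
  let D := (diagram Z).obj F
  have hc := isColimitOfPreserves (stalkFun x) (colimit.isColimit D)
  have hz : ∀ a : ((stalkFun x).mapCocone (colimit.cocone D)).pt, a = 0 := by
    intro a
    obtain ⟨T, b, rfl⟩ := Concrete.isColimit_exists_rep (D ⋙ stalkFun x) hc a
    obtain ⟨V, hxV, s, rfl⟩ := TopCat.Presheaf.exists_germ_eq (D.obj T).presheaf b
    -- kill `s`
    obtain ⟨T', hT'⟩ := exists_closed_res_eq_zero Z hZ F hF (T.U.ι ''ᵁ T.U.ι ⁻¹ᵁ V) s
    let T'' : Cl Z := T ⊔ T'
    let f : T ⟶ T'' := homOfLE le_sup_left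
    have hw := ((stalkFun x).mapCocone (colimit.cocone D)).w f
    rw [← hw]
    have h0 : (D ⋙ stalkFun x).map f ((D.obj T).presheaf.germ V x hxV s) = 0 := by
      change (TopCat.Presheaf.stalkFunctor Ab.{u} x).map ((Scheme.Modules.toPresheaf X).map (D.map f))
        ((D.obj T).presheaf.germ V x hxV s) = 0
      have h1 : ((Scheme.Modules.toPresheaf X).map (D.map f)).app (op V) s = 0 := by
        change (resPushMapApp (Cl.U_anti f.le) F).app V s = 0
        rw [resPushMapApp_app]
        have hle : T''.U.ι ''ᵁ T''.U.ι ⁻¹ᵁ V ≤ (T.U.ι ''ᵁ T.U.ι ⁻¹ᵁ V) ⊓ T'.U := by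
          rw [ι_image_preimage, ι_image_preimage]
          rintro y ⟨hy1, hy2⟩
          exact ⟨⟨fun h => hy1 (Or.inl h), hy2⟩, fun h => hy1 (Or.inr h)⟩
        have := res_res F (inf_le_left : (T.U.ι ''ᵁ T.U.ι ⁻¹ᵁ V) ⊓ T'.U ≤ _) hle s
        rw [hT', map_zero] at this
        exact this.symm
      refine (TopCat.Presheaf.stalkFunctor_map_germ_apply V x hxV
        ((Scheme.Modules.toPresheaf X).map (D.map f)) s).trans ?_
      rw [h1, map_zero]
      rfl
    rw [ConcreteCategory.comp_apply, h0, map_zero]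
  exact ⟨fun a b => (hz a).trans (hz b).symm⟩

/-- S5870 -/
theorem isZero_H0_iff_support_subset [IsLocallyNoetherian X] (Z : Set X)
    (hZ : StableUnderSpecialization Z) (F : X.Modules) :
    IsZero ((H0 Z).obj F) ↔ ∀ x : X, x ∉ Z → Subsingleton (F.presheaf.stalk x) := by
  constructor
  · intro h x hx
    haveI := subsingleton_stalk_of_isZero _ h x
    have hb : Function.Bijective (rhoStalk Z F x) := isZClosedAt_of_not_mem Z F x hx
    exact hb.1.subsingleton
  · intro hF
    exact isZero_of_subsingleton_stalks _ (subsingleton_stalk_H0 Z hZ F hF)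

end Groth.Agent.H3.ZClosSupp
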