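import Mathlib
import Groth.Prelude.Def_ZClos
import Groth.Agent.Lib.Helper3.ZClosLib
import Groth.Agent.Lib.Helper3.ZClosStalk
import Groth.Agent.Lib.Helper3.ZClosSupp
import Groth.Agent.Lib.Helper3.ZClosNoeth

set_option autoImplicit false

universe u

open AlgebraicGeometry CategoryTheory CategoryTheory.Limits TopologicalSpace Opposite

namespace Groth.Agent.H3.ZClosFac

open ZClos Groth.Agent.H3.ZClosLib Groth.Agent.H3.ZClosStalk Groth.Agent.H3.ZClosSupp
  Groth.Agent.H3.ZClosNoeth

variable {X : Scheme.{u}}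

lemma subsingleton_stalk_kernel {F F' : X.Modules} (u : F ⟶ F') (x : X)
    (hu : Function.Injective ((stalkFun x).map u)) :
    Subsingleton ((kernel u).presheaf.stalk x) := by
  have hinj : Function.Injective ((stalkFun x).map (kernel.ι u)) := by
    apply TopCat.Presheaf.stalkFunctor_map_injective_of_app_injective
    intro U
    exact app_injective_of_mono (kernel.ι u) U
  have hz : ∀ a : (stalkFun x).obj (kernel u), a = 0 := by
    intro a
    apply hinj
    apply hu
    rw [map_zero, map_zero, ← ConcreteCategory.comp_apply, ← Functor.map_comp, kernel.condition,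
      Functor.map_zero]
    rfl
  exact ⟨fun a b => (hz a).trans (hz b).symm⟩

lemma subsingleton_stalk_cokernel {F F' : X.Modules} (u : F ⟶ F') (x : X)
    (hu : Function.Surjective ((stalkFun x).map u)) :
    Subsingleton ((cokernel u).presheaf.stalk x) := by
  have hepi : Epi ((stalkFun x).map (cokernel.π u)) := inferInstance
  have hsurj : Function.Surjective ((stalkFun x).map (cokernel.π u)) :=
    (AddCommGrpCat.epi_iff_surjective _).1 hepi
  have hz : ∀ c : (stalkFun x).obj (cokernel u), c = 0 := by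
    intro c
    obtain ⟨b, rfl⟩ := hsurj c
    obtain ⟨a, rfl⟩ := hu b
    rw [← ConcreteCategory.comp_apply, ← Functor.map_comp, cokernel.condition, Functor.map_zero]
    rfl
  exact ⟨fun a b => (hz a).trans (hz b).symm⟩


/-- maps out of `H⁰_{X/Z}(F)` into a `Z`-closed module are determined by their restriction along `ρ` -/
lemma hom_ext_H0 (Z : Set X) (F G : X.Modules) (hG : IsZClosed Z G) (a b : (H0 Z).obj F ⟶ G)
    (h : rhoApp Z F ≫ a = rhoApp Z F ≫ b) : a = b := by
  obtain ⟨v, _, hv⟩ := existsUnique_fac Z F G hG (rhoApp Z F ≫ a)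
  exact (hv a rfl).trans (hv b h.symm).symm

/-- an epimorphism whose kernel is killed by `H⁰_{X/Z}` becomes an isomorphism -/
theorem isIso_H0_map_of_epi [IsLocallyNoetherian X] (Z : Set X) {F I : X.Modules} (p : F ⟶ I)
    [Epi p] (hK : IsZero ((H0 Z).obj (kernel p))) : IsIso ((H0 Z).map p) := by
  have hnat : ∀ {A B : X.Modules} (f : A ⟶ B), f ≫ rhoApp Z B = rhoApp Z A ≫ (H0 Z).map f :=
    fun f => (rho Z).naturality f
  have h0 : kernel.ι p ≫ rhoApp Z F = 0 := by
    rw [hnat]
    have : rhoApp Z (kernel p) = 0 := hK.eq_of_tgt _ _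
    rw [this, zero_comp]
  let w : I ⟶ (H0 Z).obj F := Abelian.epiDesc p (rhoApp Z F) h0
  have hpw : p ≫ w = rhoApp Z F := Abelian.comp_epiDesc p _ h0
  have hw : w ≫ (H0 Z).map p = rhoApp Z I := by
    rw [← cancel_epi p, ← Category.assoc, hpw, hnat]
  obtain ⟨w', hw', -⟩ := existsUnique_fac Z I ((H0 Z).obj F) (isZClosed_H0_obj Z F) w
  have h1 : w' ≫ (H0 Z).map p = 𝟙 _ := by
    apply hom_ext_H0 Z I _ (isZClosed_H0_obj Z I)
    rw [← Category.assoc, hw', hw, Category.comp_id]
  have h2 : (H0 Z).map p ≫ w' = 𝟙 _ := by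
    apply hom_ext_H0 Z F _ (isZClosed_H0_obj Z F)
    rw [← Category.assoc, ← hnat, Category.assoc, hw', hpw, Category.comp_id]
  exact ⟨w', h2, h1⟩

/-- a monomorphism whose cokernel is killed by `H⁰_{X/Z}` becomes an isomorphism -/
theorem isIso_H0_map_of_mono (Z : Set X) {I F' : X.Modules} (i : I ⟶ F')
    [Mono i] (hC : IsZero ((H0 Z).obj (cokernel i))) : IsIso ((H0 Z).map i) := by
  haveI := preservesFiniteLimits_H0 (X := X) Z
  let S : ShortComplex X.Modules := ShortComplex.mk i (cokernel.π i) (cokernel.condition i)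
  have hS : S.Exact := S.exact_of_g_is_cokernel (cokernelIsCokernel i)
  have hS' : (S.map (H0 Z)).Exact :=
    hS.map_of_mono_of_preservesKernel (H0 Z) (inferInstanceAs (Mono i)) inferInstance
  have hg : (S.map (H0 Z)).g = 0 := hC.eq_of_tgt _ _
  haveI : Epi ((H0 Z).map i) := hS'.epi_f hg
  haveI : Mono ((H0 Z).map i) := inferInstance
  exact isIso_of_mono_of_epi _

/-- S5852 -/
theorem isIso_fac_of_stalk_bijective_off [IsLocallyNoetherian X] (Z : Set X)
    (hZ : StableUnderSpecialization Z) (F F' : X.Modules) (hF' : IsZClosed Z F') (u : F ⟶ F')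
    (hu : ∀ x : X, x ∉ Z → Function.Bijective ((stalkFun x).map u))
    (v : (H0 Z).obj F ⟶ F') (hv : rhoApp Z F ≫ v = u) : IsIso v := by
  have hfac : Abelian.factorThruImage u ≫ Abelian.image.ι u = u := Abelian.image.fac u
  have hcomp : ∀ x : X, (stalkFun x).map (Abelian.factorThruImage u) ≫
      (stalkFun x).map (Abelian.image.ι u) = (stalkFun x).map u := fun x => by
    rw [← Functor.map_comp, hfac]
  have hK : IsZero ((H0 Z).obj (kernel (Abelian.factorThruImage u))) := by
    rw [isZero_H0_iff_support_subset Z hZ]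
    intro x hx
    apply subsingleton_stalk_kernel
    have h := (hu x hx).1
    rw [← hcomp x] at h
    exact Function.Injective.of_comp h
  have hC : IsZero ((H0 Z).obj (cokernel (Abelian.image.ι u))) := by
    rw [isZero_H0_iff_support_subset Z hZ]
    intro x hx
    apply subsingleton_stalk_cokernel
    have h := (hu x hx).2
    rw [← hcomp x] at h
    exact Function.Surjective.of_comp h
  haveI := isIso_H0_map_of_epi Z (Abelian.factorThruImage u) hK
  haveI := isIso_H0_map_of_mono Z (Abelian.image.ι u) hC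
  haveI : IsIso ((H0 Z).map u) := by
    rw [← hfac, Functor.map_comp]; infer_instance
  haveI : IsIso (rhoApp Z F') := hF'
  have hnat : u ≫ rhoApp Z F' = rhoApp Z F ≫ (H0 Z).map u := (rho Z).naturality u
  have hv' : v = (H0 Z).map u ≫ inv (rhoApp Z F') := by
    apply hom_ext_H0 Z F F' hF'
    rw [hv, ← Category.assoc, ← hnat, Category.assoc, IsIso.hom_inv_id, Category.comp_id]
  rw [hv']
  infer_instance

end Groth.Agent.H3.ZClosFac
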