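import Mathlib
import Groth.Prelude.Def_ZClos
import Groth.Prelude.Def_Coh
import Groth.Prelude.Def_DerSch
import Groth.Agent.Lib.Helper3.ZClosLib
import Groth.Agent.Lib.Helper3.ZClosSect
import Groth.Agent.Lib.Helper3.ZClosCover
import Groth.Agent.Lib.Helper3.ZClosStalk
import Groth.Agent.Lib.Helper3.ZClosNoeth
import Groth.Agent.Lib.Helper3.ZClosQCoh
import Groth.Agent.Lib.Helper3.ZClosFac
import Groth.Agent.Lib.Helper3.QcClosure
import Groth.Agent.Lib.Lead.FBC.SecBCMain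
import Groth.Agent.Lib.Lead.FF.Descent
import Groth.Agent.Lib.Lead.QC.Pullback

/-!
# Flat base change of the Z-closure `H⁰_{X/Z}` (S5853, S5854)
-/

set_option autoImplicit false

universe u

open AlgebraicGeometry CategoryTheory CategoryTheory.Limits TopologicalSpace Opposite TensorProduct

namespace Groth.Agent.H3.ZClosFlat

open ZClos Groth.Agent.H3.ZClosLib Groth.Agent.H3.ZClosSect Groth.Agent.H3.ZClosCover
  Groth.Agent.H3.ZClosStalk Groth.Agent.H3.ZClosNoeth Groth.Agent.LD.QC Groth.Agent.LD.FBC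

variable {X X' : Scheme.{u}}

/-- flat base change of a bijective restriction map between quasi-compact opens of an affine open -/
theorem bijective_res_pullback (f : X' ⟶ X) [Flat f] (H : X.Modules) [H.IsQuasicoherent]
    {V : X.Opens} (hV : IsAffineOpen V) {V' : X'.Opens} (hV' : IsAffineOpen V')
    (e : V' ≤ f ⁻¹ᵁ V) {O₁ O₂ : X.Opens} (h₁ : O₁ ≤ V) (h₂ : O₂ ≤ O₁)
    (hc₁ : IsCompact (O₁ : Set X)) (hc₂ : IsCompact (O₂ : Set X))
    (hb : Function.Bijective (H.presheaf.map (homOfLE h₂).op))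
    (hle' : f ⁻¹ᵁ O₂ ⊓ V' ≤ f ⁻¹ᵁ O₁ ⊓ V') :
    Function.Bijective (((Scheme.Modules.pullback f).obj H).presheaf.map (homOfLE hle').op) := by
  have w : f ≫ 𝟙 X = 𝟙 X' ≫ f := by rw [Category.comp_id, Category.id_comp]
  have Hpb : IsPullback f (𝟙 X') (𝟙 X) f := IsPullback.of_vert_isIso ⟨w⟩
  letI alg : Algebra Γ(X, V) Γ(X', V') := (f.appLE V V' e).hom.toAlgebra
  have halg : ∀ a : Γ(X, V), algebraMap Γ(X, V) Γ(X', V') a = f.appLE V V' e a := fun _ => rfl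
  haveI hflat : Module.Flat Γ(X, V) Γ(X', V') := by
    have := HasRingHomProperty.appLE (P := @Flat) f inferInstance ⟨V, hV⟩ ⟨V', hV'⟩ e
    exact this
  have hO₁V : O₁ ≤ (𝟙 X) ⁻¹ᵁ V := h₁
  have hO₂V : O₂ ≤ (𝟙 X) ⁻¹ᵁ V := h₂.trans h₁
  have hqs₁ : IsQuasiSeparated (O₁ : Set X) := hV.isQuasiSeparated.of_subset h₁
  have hqs₂ : IsQuasiSeparated (O₂ : Set X) := hV.isQuasiSeparated.of_subset (h₂.trans h₁)
  have P₁ := PW_of_isCompact (𝟙 X) f (𝟙 X') f w H V V' e halg Hpb hV hV' O₁ hc₁ hqs₁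
  have P₂ := PW_of_isCompact (𝟙 X) f (𝟙 X') f w H V V' e halg Hpb hV hV' O₂ hc₂ hqs₂
  have k₁ : f ⁻¹ᵁ O₁ ⊓ V' ≤ (𝟙 X') ⁻¹ᵁ V' := inf_le_right
  have k₂ : f ⁻¹ᵁ O₂ ⊓ V' ≤ (𝟙 X') ⁻¹ᵁ V' := inf_le_right
  have b₁ := bijective_secBC_of_eq (𝟙 X) f (𝟙 X') f w H V V' e halg hO₁V
    (inf_le_left : f ⁻¹ᵁ O₁ ⊓ V' ≤ f ⁻¹ᵁ O₁) k₁ rfl P₁
  have b₂ := bijective_secBC_of_eq (𝟙 X) f (𝟙 X') f w H V V' e halg hO₂V
    (inf_le_left : f ⁻¹ᵁ O₂ ⊓ V' ≤ f ⁻¹ᵁ O₂) k₂ rfl P₂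
  have hr : Function.Bijective (resW (𝟙 X) H V hO₁V hO₂V h₂) := hb
  have hlT : Function.Bijective ((resW (𝟙 X) H V hO₁V hO₂V h₂).lTensor Γ(X', V')) :=
    ⟨Module.Flat.lTensor_preserves_injective_linearMap _ hr.1,
      LinearMap.lTensor_surjective _ hr.2⟩
  have hcomp : ∀ z, ((Scheme.Modules.pullback f).obj H).presheaf.map (homOfLE hle').op
      (secBC (𝟙 X) f (𝟙 X') f w H V V' e halg hO₁V
        (inf_le_left : f ⁻¹ᵁ O₁ ⊓ V' ≤ f ⁻¹ᵁ O₁) k₁ z) =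
      secBC (𝟙 X) f (𝟙 X') f w H V V' e halg hO₂V
        (inf_le_left : f ⁻¹ᵁ O₂ ⊓ V' ≤ f ⁻¹ᵁ O₂) k₂
        ((resW (𝟙 X) H V hO₁V hO₂V h₂).lTensor Γ(X', V') z) := fun z =>
    secBC_res (𝟙 X) f (𝟙 X') f w H V V' e halg hO₁V hO₂V h₂ _ k₁ _ k₂ hle' z
  have h3 : Function.Bijective
      ((fun s => ((Scheme.Modules.pullback f).obj H).presheaf.map (homOfLE hle').op s) ∘
        (fun z => secBC (𝟙 X) f (𝟙 X') f w H V V' e halg hO₁V
          (inf_le_left : f ⁻¹ᵁ O₁ ⊓ V' ≤ f ⁻¹ᵁ O₁) k₁ z)) := by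
    have : ((fun s => ((Scheme.Modules.pullback f).obj H).presheaf.map (homOfLE hle').op s) ∘
        (fun z => secBC (𝟙 X) f (𝟙 X') f w H V V' e halg hO₁V
          (inf_le_left : f ⁻¹ᵁ O₁ ⊓ V' ≤ f ⁻¹ᵁ O₁) k₁ z)) =
        (fun y => secBC (𝟙 X) f (𝟙 X') f w H V V' e halg hO₂V
          (inf_le_left : f ⁻¹ᵁ O₂ ⊓ V' ≤ f ⁻¹ᵁ O₂) k₂ y) ∘
        (fun z => (resW (𝟙 X) H V hO₁V hO₂V h₂).lTensor Γ(X', V') z) := funext hcomp
    rw [this]
    exact b₂.comp hlT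
  exact (Function.Bijective.of_comp_iff _ b₁).1 h3

/-- the basis of affine opens of `X'` mapping into an affine open of `X` -/
def affBasis (f : X' ⟶ X) : Set X'.Opens :=
  {V' | IsAffineOpen V' ∧ ∃ V : X.Opens, IsAffineOpen V ∧ V' ≤ f ⁻¹ᵁ V}

lemma isBasis_affBasis (f : X' ⟶ X) : Opens.IsBasis (affBasis f) := by
  rw [Opens.isBasis_iff_nbhd]
  intro U x hx
  obtain ⟨V, hV, hxV, -⟩ := exists_isAffineOpen_mem_and_subset (x := f x) (U := ⊤) trivial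
  obtain ⟨V', hV', hxV', hle⟩ := exists_isAffineOpen_mem_and_subset (x := x)
    (U := f ⁻¹ᵁ V ⊓ U) ⟨hxV, hx⟩
  exact ⟨V', ⟨hV', V, hV, hle.trans inf_le_left⟩, hxV', hle.trans inf_le_right⟩

/-- flat base change of "the unit `H ⟶ j_* j^* H` is an isomorphism" -/
theorem isIso_unit_pullback [IsLocallyNoetherian X] (f : X' ⟶ X) [Flat f] (H : X.Modules)
    [H.IsQuasicoherent] (U : X.Opens)
    (hU : ∀ V : X.Opens, IsAffineOpen V →
      Function.Bijective (H.presheaf.map (homOfLE (inf_le_left : V ⊓ U ≤ V)).op)) :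
    IsIso ((resPushUnit (f ⁻¹ᵁ U)).app ((Scheme.Modules.pullback f).obj H)) := by
  apply isIso_of_bijective_basis _ (affBasis f) (isBasis_affBasis f)
  rintro V' ⟨hV', V, hV, e⟩
  refine (unit_app_bijective_iff (f ⁻¹ᵁ U) V' _).2 ?_
  have hc : IsCompact ((V ⊓ U : X.Opens) : Set X) :=
    isCompact_of_le V hV.isCompact _ inf_le_left
  have hA : f ⁻¹ᵁ V ⊓ V' = V' := inf_eq_right.2 e
  have hB : f ⁻¹ᵁ (V ⊓ U) ⊓ V' = V' ⊓ f ⁻¹ᵁ U :=
    le_antisymm (fun x hx => ⟨hx.2, hx.1.2⟩) (fun x hx => ⟨⟨e hx.1, hx.2⟩, hx.1⟩)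
  have hle' : f ⁻¹ᵁ (V ⊓ U) ⊓ V' ≤ f ⁻¹ᵁ V ⊓ V' := fun x hx => ⟨hx.1.1, hx.2⟩
  have key := bijective_res_pullback f H hV hV' e (le_refl V) (inf_le_left : V ⊓ U ≤ V)
    hV.isCompact hc (hU V hV) hle'
  exact (bijective_res_congr _ hA hB hle' _).1 key

/-- a closed subset of `X` inside `Z` whose preimage contains `T' ∩ V'` -/
lemma exists_cl [IsLocallyNoetherian X] (f : X' ⟶ X) (Z : Set X)
    (hZ : StableUnderSpecialization Z) (T' : Cl (f.base ⁻¹' Z)) (V' : X'.Opens)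
    (hV' : IsAffineOpen V') :
    ∃ T : Cl Z, V' ⊓ f ⁻¹ᵁ T.U ≤ V' ⊓ T'.U := by
  haveI : IsAffine (V' : Scheme.{u}) := hV'
  haveI : QuasiCompact (V'.ι ≫ f) := inferInstance
  have hF₀ : IsClosed (V'.ι ⁻¹' (T'.1 : Set X')) := T'.1.isClosed.preimage V'.ι.continuous
  have hsub : closure ((V'.ι ≫ f) '' (V'.ι ⁻¹' (T'.1 : Set X'))) ⊆ Z := by
    intro y hy
    obtain ⟨z, hz, hzy⟩ := Groth.Agent.H3.QcClosure.exists_specializes_of_mem_closure
      (V'.ι ≫ f) _ hF₀ y hy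
    have hz' : V'.ι z ∈ f.base ⁻¹' Z := T'.2 hz
    have hz'' : (V'.ι ≫ f) z ∈ Z := hz'
    exact hZ hzy hz''
  refine ⟨⟨⟨closure ((V'.ι ≫ f) '' (V'.ι ⁻¹' (T'.1 : Set X'))), isClosed_closure⟩, hsub⟩, ?_⟩
  intro x hx
  have hxV : x ∈ V' := hx.1
  have hx2 : f x ∉ closure ((V'.ι ≫ f) '' (V'.ι ⁻¹' (T'.1 : Set X'))) := hx.2
  have hnot : x ∉ (T'.1 : Set X') := by
    intro hxT'
    apply hx2
    apply subset_closure
    have hxr : x ∈ Set.range V'.ι := by rw [Scheme.Opens.range_ι]; exact hxV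
    obtain ⟨z, rfl⟩ := hxr
    exact ⟨z, hxT', rfl⟩
  exact ⟨hxV, hnot⟩

/-- the flat pullback of `H⁰_{X/Z}(F)` is closed along `f⁻¹ Z` -/
theorem isZClosed_pullback_H0 [IsLocallyNoetherian X] [IsLocallyNoetherian X'] (f : X' ⟶ X)
    [Flat f] (Z : Set X) (hZ : StableUnderSpecialization Z) (F : X.Modules)
    (hF : F.IsQuasicoherent) :
    IsZClosed (f.base ⁻¹' Z) ((Scheme.Modules.pullback f).obj ((H0 Z).obj F)) := by
  haveI := Groth.Agent.H3.ZClosQCoh.isQCoh_H0 Z F hF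
  have hHc := (isZClosed_iff_sections_all Z ((H0 Z).obj F)).1 (isZClosed_H0_obj Z F)
  have stepA : ∀ (T : Cl Z) (W : X'.Opens), Function.Bijective
      (((Scheme.Modules.pullback f).obj ((H0 Z).obj F)).presheaf.map
        (homOfLE (inf_le_left : W ⊓ f ⁻¹ᵁ T.U ≤ W)).op) := by
    intro T W
    haveI := isIso_unit_pullback f ((H0 Z).obj F) T.U (fun V _ => hHc T V)
    have h1 : IsIso (((resPushUnit (f ⁻¹ᵁ T.U)).app
        ((Scheme.Modules.pullback f).obj ((H0 Z).obj F))).app W) := inferInstance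
    exact (unit_app_bijective_iff (f ⁻¹ᵁ T.U) W _).1
      ((ConcreteCategory.isIso_iff_bijective _).1 h1)
  rw [closed_iff]
  intro T'
  apply isIso_of_bijective_basis _ (affBasis f) (isBasis_affBasis f)
  rintro V' ⟨hV', V, hV, e⟩
  refine (unit_app_bijective_iff T'.U V' _).2 ?_
  obtain ⟨T, hT⟩ := exists_cl f Z hZ T' V' hV'
  have a1 := stepA T V'
  have a2 := stepA T (V' ⊓ T'.U)
  have hEq : (V' ⊓ T'.U) ⊓ f ⁻¹ᵁ T.U = V' ⊓ f ⁻¹ᵁ T.U :=
    le_antisymm (fun x hx => ⟨hx.1.1, hx.2⟩) (fun x hx => ⟨hT hx, hx.2⟩)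
  have a2' := (bijective_res_congr ((Scheme.Modules.pullback f).obj ((H0 Z).obj F)) rfl hEq
    (inf_le_left : (V' ⊓ T'.U) ⊓ f ⁻¹ᵁ T.U ≤ V' ⊓ T'.U) hT).1 a2
  have hcomp : (fun s => ((Scheme.Modules.pullback f).obj ((H0 Z).obj F)).presheaf.map
        (homOfLE hT).op s) ∘
      (fun s => ((Scheme.Modules.pullback f).obj ((H0 Z).obj F)).presheaf.map
        (homOfLE (inf_le_left : V' ⊓ T'.U ≤ V')).op s) =
      (fun s => ((Scheme.Modules.pullback f).obj ((H0 Z).obj F)).presheaf.map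
        (homOfLE (inf_le_left : V' ⊓ f ⁻¹ᵁ T.U ≤ V')).op s) := by
    funext s
    exact res_res _ _ _ s
  have h3 : Function.Bijective
      ((fun s => ((Scheme.Modules.pullback f).obj ((H0 Z).obj F)).presheaf.map
        (homOfLE hT).op s) ∘
      (fun s => ((Scheme.Modules.pullback f).obj ((H0 Z).obj F)).presheaf.map
        (homOfLE (inf_le_left : V' ⊓ T'.U ≤ V')).op s)) := by
    rw [hcomp]; exact a1
  exact (Function.Bijective.of_comp_iff' a2' _).1 h3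

/-- off `f⁻¹ Z`, the pullback of `ρ_{X/Z}` is bijective on stalks -/
theorem bijective_stalk_pullback_rho (f : X' ⟶ X) [Flat f] (Z : Set X) (F : X.Modules)
    (x' : X') (hx' : x' ∉ f.base ⁻¹' Z) :
    Function.Bijective ((stalkFun x').map ((Scheme.Modules.pullback f).map (rhoApp Z F))) := by
  have hx : f.base x' ∉ Z := hx'
  have hb : Function.Bijective ((stalkFun (f.base x')).map (rhoApp Z F)) :=
    isZClosedAt_of_not_mem Z F (f.base x') hx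
  have hm : Mono ((DerSch.stalkFunctor X (f.base x')).map (rhoApp Z F)) := by
    rw [ModuleCat.mono_iff_injective]; exact hb.1
  have he : Epi ((DerSch.stalkFunctor X (f.base x')).map (rhoApp Z F)) := by
    rw [ModuleCat.epi_iff_surjective]; exact hb.2
  have hm' := (Groth.Agent.LD.FF.mono_stalk_pullback_iff f x' (rhoApp Z F)).2 hm
  have he' := (Groth.Agent.LD.FF.epi_stalk_pullback_iff f x' (rhoApp Z F)).2 he
  rw [ModuleCat.mono_iff_injective] at hm'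
  rw [ModuleCat.epi_iff_surjective] at he'
  exact ⟨hm', he'⟩

/-- **S5853**: flat base change of the `Z`-closure -/
theorem nonempty_iso [IsLocallyNoetherian X] [IsLocallyNoetherian X'] (f : X' ⟶ X) [Flat f]
    (Z : Set X) (hZ : StableUnderSpecialization Z) (F : X.Modules) (hF : F.IsQuasicoherent) :
    Nonempty ((Scheme.Modules.pullback f).obj ((H0 Z).obj F) ≅
      (H0 (f.base ⁻¹' Z)).obj ((Scheme.Modules.pullback f).obj F)) := by
  have hZ' : StableUnderSpecialization (f.base ⁻¹' Z) := hZ.preimage f.continuous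
  have hG := isZClosed_pullback_H0 f Z hZ F hF
  obtain ⟨v, hv, -⟩ := existsUnique_fac (f.base ⁻¹' Z) _ _ hG
    ((Scheme.Modules.pullback f).map (rhoApp Z F))
  haveI := Groth.Agent.H3.ZClosFac.isIso_fac_of_stalk_bijective_off (f.base ⁻¹' Z) hZ' _ _ hG _
    (fun x' hx' => bijective_stalk_pullback_rho f Z F x' hx') v hv
  exact ⟨(asIso v).symm⟩

/-- **S5854**: coherence of the `Z`-closure under flat base change -/
theorem isCoh_iff [IsLocallyNoetherian X] [IsLocallyNoetherian X'] (f : X' ⟶ X) [Flat f]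
    (Z : Set X) (hZ : StableUnderSpecialization Z) (F : X.Modules) (hF : F.IsQuasicoherent) :
    (Coh.IsCoh ((H0 Z).obj F) →
      Coh.IsCoh ((H0 (f.base ⁻¹' Z)).obj ((Scheme.Modules.pullback f).obj F))) ∧
    (Surjective f → QuasiCompact f →
      Coh.IsCoh ((H0 (f.base ⁻¹' Z)).obj ((Scheme.Modules.pullback f).obj F)) →
        Coh.IsCoh ((H0 Z).obj F)) := by
  obtain ⟨e⟩ := nonempty_iso f Z hZ F hF
  haveI hHq := Groth.Agent.H3.ZClosQCoh.isQCoh_H0 Z F hF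
  refine ⟨fun h => ?_, fun hs hq h => ?_⟩
  · have h1 : ((Scheme.Modules.pullback f).obj ((H0 Z).obj F)).IsQuasicoherent :=
      qc_pullback f _
    have h2 := isFiniteType_pullback f ((H0 Z).obj F) h.2
    haveI := h1
    exact ⟨qc_of_iso e h1, isFiniteType_of_iso e h2⟩
  · haveI := hs
    haveI := hq
    haveI := h.1
    have h2 : ((Scheme.Modules.pullback f).obj ((H0 Z).obj F)).IsFiniteType :=
      isFiniteType_of_iso e.symm h.2
    exact ⟨hHq, isFiniteType_of_pullback_fpqc f _ h2⟩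

end Groth.Agent.H3.ZClosFlat
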